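import Mathlib
import Cfsg.Prelude.Def_ClassicalGeometry

set_option autoImplicit false

namespace Cfsg.Agent.Lib.helper6

open Matrix

variable {F : Type*} [CommRing F] (m : ℕ)

theorem sympForm_self (v : Fin m ⊕ Fin m → F) : Cfsg.sympForm m F v v = 0 := by
  unfold Cfsg.sympForm Matrix.J
  simp only [dotProduct, Fintype.sum_sum_type, Matrix.mulVec, Matrix.fromBlocks_apply₁₁,
    Matrix.fromBlocks_apply₁₂, Matrix.fromBlocks_apply₂₁, Matrix.fromBlocks_apply₂₂,
    Matrix.zero_apply, zero_mul, Finset.sum_const_zero, zero_add, add_zero, Matrix.neg_apply,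
    Matrix.one_apply, neg_mul, Finset.sum_neg_distrib, ite_mul, one_mul,
    Finset.sum_ite_eq, Finset.mem_univ, if_true, mul_neg]
  rw [neg_add_eq_zero]
  apply Finset.sum_congr rfl
  intro i _
  ring

theorem J_mulVec_J_mulVec (v : Fin m ⊕ Fin m → F) :
    Matrix.J (Fin m) F *ᵥ (Matrix.J (Fin m) F *ᵥ v) = -v := by
  rw [Matrix.mulVec_mulVec, Matrix.J_squared, Matrix.neg_mulVec, Matrix.one_mulVec]

theorem J_mulVec_vecMul_J (v : Fin m ⊕ Fin m → F) :
    (Matrix.J (Fin m) F *ᵥ v) ᵥ* Matrix.J (Fin m) F = v := by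
  have h : (Matrix.J (Fin m) F *ᵥ v) ᵥ* Matrix.J (Fin m) F
      = (-(Matrix.J (Fin m) F)) *ᵥ (Matrix.J (Fin m) F *ᵥ v) := by
    rw [← Matrix.J_transpose, Matrix.mulVec_transpose]
  rw [h, Matrix.neg_mulVec, J_mulVec_J_mulVec, neg_neg]

theorem sympForm_swap (u v : Fin m ⊕ Fin m → F) :
    Cfsg.sympForm m F u v = - Cfsg.sympForm m F v u := by
  unfold Cfsg.sympForm
  rw [Matrix.dotProduct_mulVec, dotProduct_comm, ← Matrix.mulVec_transpose, Matrix.J_transpose,
    Matrix.neg_mulVec, dotProduct_neg]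

theorem sympForm_add_left (u u' v : Fin m ⊕ Fin m → F) :
    Cfsg.sympForm m F (u + u') v = Cfsg.sympForm m F u v + Cfsg.sympForm m F u' v := by
  unfold Cfsg.sympForm
  rw [add_dotProduct]

theorem sympForm_add_right (u v v' : Fin m ⊕ Fin m → F) :
    Cfsg.sympForm m F u (v + v') = Cfsg.sympForm m F u v + Cfsg.sympForm m F u v' := by
  unfold Cfsg.sympForm
  rw [Matrix.mulVec_add, dotProduct_add]

theorem sympForm_smul_left (c : F) (u v : Fin m ⊕ Fin m → F) :
    Cfsg.sympForm m F (c • u) v = c * Cfsg.sympForm m F u v := by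
  unfold Cfsg.sympForm
  rw [smul_dotProduct, smul_eq_mul]

theorem sympForm_smul_right (c : F) (u v : Fin m ⊕ Fin m → F) :
    Cfsg.sympForm m F u (c • v) = c * Cfsg.sympForm m F u v := by
  unfold Cfsg.sympForm
  rw [Matrix.mulVec_smul, dotProduct_smul, smul_eq_mul]

theorem sympForm_zero_left (v : Fin m ⊕ Fin m → F) : Cfsg.sympForm m F 0 v = 0 := by
  unfold Cfsg.sympForm
  rw [zero_dotProduct]

theorem sympForm_zero_right (v : Fin m ⊕ Fin m → F) : Cfsg.sympForm m F v 0 = 0 := by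
  unfold Cfsg.sympForm
  rw [Matrix.mulVec_zero, dotProduct_zero]

theorem sympForm_neg_left (u v : Fin m ⊕ Fin m → F) :
    Cfsg.sympForm m F (-u) v = - Cfsg.sympForm m F u v := by
  unfold Cfsg.sympForm
  rw [neg_dotProduct]

theorem sympForm_neg_right (u v : Fin m ⊕ Fin m → F) :
    Cfsg.sympForm m F u (-v) = - Cfsg.sympForm m F u v := by
  unfold Cfsg.sympForm
  rw [Matrix.mulVec_neg, dotProduct_neg]

theorem sympForm_sub_left (u u' v : Fin m ⊕ Fin m → F) :
    Cfsg.sympForm m F (u - u') v = Cfsg.sympForm m F u v - Cfsg.sympForm m F u' v := by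
  rw [sub_eq_add_neg, sympForm_add_left, sympForm_neg_left, ← sub_eq_add_neg]

theorem sympForm_sub_right (u v v' : Fin m ⊕ Fin m → F) :
    Cfsg.sympForm m F u (v - v') = Cfsg.sympForm m F u v - Cfsg.sympForm m F u v' := by
  rw [sub_eq_add_neg, sympForm_add_right, sympForm_neg_right, ← sub_eq_add_neg]

theorem sympTransvection_mulVec (v : Fin m ⊕ Fin m → F) (c : F) (x : Fin m ⊕ Fin m → F) :
    Cfsg.sympTransvection m v c *ᵥ x = x + (c * Cfsg.sympForm m F x v) • v := by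
  unfold Cfsg.sympTransvection Cfsg.sympForm
  rw [Matrix.add_mulVec, Matrix.one_mulVec, Matrix.smul_mulVec, Matrix.vecMulVec_mulVec,
    dotProduct_comm, op_smul_eq_smul, smul_smul]

theorem sympTransvection_mem (v : Fin m ⊕ Fin m → F) (c : F) :
    Cfsg.sympTransvection m v c ∈ Matrix.symplecticGroup (Fin m) F := by
  rw [SymplecticGroup.mem_iff]
  unfold Cfsg.sympTransvection
  have h0 : v ⬝ᵥ (Matrix.J (Fin m) F *ᵥ v) = 0 := sympForm_self m v
  rw [Matrix.transpose_add, Matrix.transpose_one, Matrix.transpose_smul,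
    Matrix.transpose_vecMulVec, Matrix.add_mul, Matrix.one_mul, Matrix.smul_mul,
    Matrix.vecMulVec_mul, J_mulVec_vecMul_J, Matrix.mul_add, Matrix.mul_one, Matrix.add_mul,
    Matrix.mul_smul, Matrix.mul_vecMulVec, J_mulVec_J_mulVec, Matrix.smul_mul, Matrix.mul_smul,
    Matrix.vecMulVec_mul_vecMulVec]
  simp only [Matrix.vecMulVec_zero, smul_zero, add_zero, Matrix.neg_vecMulVec, smul_neg, h0,
    zero_smul]
  abel

theorem mem_symplecticGroup_iff_sympForm (A : Matrix (Fin m ⊕ Fin m) (Fin m ⊕ Fin m) F) :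
    A ∈ Matrix.symplecticGroup (Fin m) F ↔
      ∀ u v, Cfsg.sympForm m F (A *ᵥ u) (A *ᵥ v) = Cfsg.sympForm m F u v := by
  rw [SymplecticGroup.mem_iff']
  have key : ∀ u v, Cfsg.sympForm m F (A *ᵥ u) (A *ᵥ v)
      = u ⬝ᵥ ((Aᵀ * Matrix.J (Fin m) F * A) *ᵥ v) := by
    intro u v
    unfold Cfsg.sympForm
    rw [← Matrix.mulVec_mulVec, ← Matrix.mulVec_mulVec, Matrix.dotProduct_mulVec (v := u),
      Matrix.vecMul_transpose]
  constructor
  · intro h u v
    rw [key, h]
    rfl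
  · intro h
    ext i j
    have := h (Pi.single i 1) (Pi.single j 1)
    rw [key] at this
    unfold Cfsg.sympForm at this
    simpa using this

theorem sympForm_J_single (u : Fin m ⊕ Fin m → F) (i : Fin m ⊕ Fin m) :
    Cfsg.sympForm m F u (-(Matrix.J (Fin m) F *ᵥ Pi.single i 1)) = u i := by
  unfold Cfsg.sympForm
  rw [Matrix.mulVec_neg, J_mulVec_J_mulVec, neg_neg]
  simp

theorem sympForm_nondeg (u : Fin m ⊕ Fin m → F) (hu : u ≠ 0) :
    ∃ x, Cfsg.sympForm m F u x ≠ 0 := by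
  have : ∃ i, u i ≠ 0 := by
    by_contra h
    push Not at h
    exact hu (funext h)
  obtain ⟨i, hi⟩ := this
  exact ⟨_, by rw [sympForm_J_single]; exact hi⟩

end Cfsg.Agent.Lib.helper6
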