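import Mathlib
import Cfsg.Prelude.Def_ClassicalGeometry

set_option autoImplicit false

namespace Cfsg.Agent.Lib.helper6

open Matrix

variable {ι : Type} [Fintype ι] [DecidableEq ι] {F : Type*}

theorem polarVec_dotProduct [CommRing F] (Q : QuadraticForm F (ι → F)) (v x : ι → F) :
    Cfsg.polarVec (⇑Q) v ⬝ᵥ x = QuadraticMap.polar (⇑Q) v x := by
  have h := LinearMap.pi_apply_eq_sum_univ (QuadraticMap.polarBilin Q v) x
  rw [QuadraticMap.polarBilin_apply_apply] at h
  rw [h]
  unfold Cfsg.polarVec dotProduct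
  apply Finset.sum_congr rfl
  intro j _
  rw [QuadraticMap.polarBilin_apply_apply, smul_eq_mul, mul_comm]
  have : (Pi.single j 1 : ι → F) = fun k => if j = k then 1 else 0 := by
    funext k
    simp [Pi.single_apply, eq_comm]
  rw [← this]

theorem reflectionMatrix_mulVec [Field F] (Q : QuadraticForm F (ι → F)) (v x : ι → F) :
    Cfsg.reflectionMatrix (⇑Q) v *ᵥ x = x - ((Q v)⁻¹ * QuadraticMap.polar (⇑Q) v x) • v := by
  unfold Cfsg.reflectionMatrix
  rw [Matrix.sub_mulVec, Matrix.one_mulVec, Matrix.smul_mulVec, Matrix.vecMulVec_mulVec,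
    polarVec_dotProduct, op_smul_eq_smul, smul_smul]

theorem siegelMatrix_mulVec [CommRing F] (Q : QuadraticForm F (ι → F)) (u v : ι → F) (c : F)
    (x : ι → F) :
    Cfsg.siegelMatrix (⇑Q) u v c *ᵥ x
      = x + c • (QuadraticMap.polar (⇑Q) u x • v - QuadraticMap.polar (⇑Q) v x • u) := by
  unfold Cfsg.siegelMatrix
  rw [Matrix.add_mulVec, Matrix.one_mulVec, Matrix.smul_mulVec, Matrix.sub_mulVec,
    Matrix.vecMulVec_mulVec, Matrix.vecMulVec_mulVec, polarVec_dotProduct, polarVec_dotProduct,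
    op_smul_eq_smul, op_smul_eq_smul]

end Cfsg.Agent.Lib.helper6
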