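import Mathlib
import Cfsg.Prelude.Def_ClassicalGeometry
import Cfsg.Agent.Lib.helper6.Symp

set_option autoImplicit false

namespace Cfsg.Agent.Lib.helper6.SB

open Matrix Cfsg.Agent.Lib.helper6

variable {F : Type*} [Field F]

theorem sympForm_eq_sum (m : ℕ) (u v : Fin m ⊕ Fin m → F) :
    Cfsg.sympForm m F u v = ∑ i, (u (Sum.inr i) * v (Sum.inl i) - u (Sum.inl i) * v (Sum.inr i)) := by
  unfold Cfsg.sympForm Matrix.J
  simp only [dotProduct, Fintype.sum_sum_type, Matrix.mulVec, Matrix.fromBlocks_apply₁₁,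
    Matrix.fromBlocks_apply₁₂, Matrix.fromBlocks_apply₂₁, Matrix.fromBlocks_apply₂₂,
    Matrix.zero_apply, zero_mul, Finset.sum_const_zero, zero_add, add_zero, Matrix.neg_apply,
    Matrix.one_apply, neg_mul, Finset.sum_neg_distrib, ite_mul, one_mul,
    Finset.sum_ite_eq, Finset.mem_univ, if_true, mul_neg]
  rw [Finset.sum_sub_distrib]
  ring

/-- restriction to the first `k` hyperbolic pairs -/
def rho (k : ℕ) : (Fin (k + 1) ⊕ Fin (k + 1) → F) →ₗ[F] (Fin k ⊕ Fin k → F) :=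
  LinearMap.funLeft F F (Sum.map Fin.castSucc Fin.castSucc)

theorem rho_inl (k : ℕ) (x : Fin (k + 1) ⊕ Fin (k + 1) → F) (i : Fin k) :
    rho k x (Sum.inl i) = x (Sum.inl i.castSucc) := rfl

theorem rho_inr (k : ℕ) (x : Fin (k + 1) ⊕ Fin (k + 1) → F) (i : Fin k) :
    rho k x (Sum.inr i) = x (Sum.inr i.castSucc) := rfl

theorem sympForm_succ (k : ℕ) (x y : Fin (k + 1) ⊕ Fin (k + 1) → F) :
    Cfsg.sympForm (k + 1) F x y = Cfsg.sympForm k F (rho k x) (rho k y) +
      (x (Sum.inr (Fin.last k)) * y (Sum.inl (Fin.last k)) - x (Sum.inl (Fin.last k)) * y (Sum.inr (Fin.last k))) := by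
  rw [sympForm_eq_sum, sympForm_eq_sum, Fin.sum_univ_castSucc]
  rfl


theorem sympForm_zero_dim (x y : Fin 0 ⊕ Fin 0 → F) : Cfsg.sympForm 0 F x y = 0 := by
  rw [sympForm_eq_sum]
  simp

/-- the part of `W` orthogonal to `e` and `f` -/
def perp2 (m : ℕ) (W : Submodule F (Fin m ⊕ Fin m → F)) (e f : Fin m ⊕ Fin m → F) :
    Submodule F (Fin m ⊕ Fin m → F) where
  carrier := {w | w ∈ W ∧ Cfsg.sympForm m F w e = 0 ∧ Cfsg.sympForm m F w f = 0}
  add_mem' := by
    rintro a b ⟨ha, ha1, ha2⟩ ⟨hb, hb1, hb2⟩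
    exact ⟨W.add_mem ha hb, by rw [sympForm_add_left, ha1, hb1, add_zero],
      by rw [sympForm_add_left, ha2, hb2, add_zero]⟩
  zero_mem' := ⟨W.zero_mem, sympForm_zero_left m e, sympForm_zero_left m f⟩
  smul_mem' := by
    rintro c a ⟨ha, ha1, ha2⟩
    exact ⟨W.smul_mem c ha, by rw [sympForm_smul_left, ha1, mul_zero],
      by rw [sympForm_smul_left, ha2, mul_zero]⟩

theorem mem_perp2 (m : ℕ) (W : Submodule F (Fin m ⊕ Fin m → F)) (e f w : Fin m ⊕ Fin m → F) :
    w ∈ perp2 m W e f ↔ w ∈ W ∧ Cfsg.sympForm m F w e = 0 ∧ Cfsg.sympForm m F w f = 0 := Iff.rfl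

theorem exists_param (m : ℕ) : ∀ (d : ℕ) (W : Submodule F (Fin m ⊕ Fin m → F)), Module.finrank F W = d →
    (∀ u ∈ W, (∀ v ∈ W, Cfsg.sympForm m F u v = 0) → u = 0) →
    ∃ (k : ℕ) (φ : (Fin k ⊕ Fin k → F) →ₗ[F] (Fin m ⊕ Fin m → F)), LinearMap.range φ = W ∧
      ∀ x y, Cfsg.sympForm m F (φ x) (φ y) = Cfsg.sympForm k F x y := by
  intro d
  induction d using Nat.strong_induction_on with
  | _ d ih =>
  intro W hd hW
  by_cases hbot : W = ⊥
  · refine ⟨0, 0, ?_, ?_⟩
    · rw [LinearMap.range_zero, hbot]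
    · intro x y
      rw [sympForm_zero_dim]
      simp [sympForm_zero_left]
  obtain ⟨e, heW, he0⟩ := Submodule.exists_mem_ne_zero_of_ne_bot hbot
  obtain ⟨f0, hf0W, hef0⟩ : ∃ f0 ∈ W, Cfsg.sympForm m F e f0 ≠ 0 := by
    by_contra h
    push Not at h
    exact he0 (hW e heW h)
  obtain ⟨f, hfW, hef⟩ : ∃ f ∈ W, Cfsg.sympForm m F e f = -1 := by
    refine ⟨(-(Cfsg.sympForm m F e f0)⁻¹) • f0, W.smul_mem _ hf0W, ?_⟩
    rw [sympForm_smul_right]
    field_simp
  have hfe : Cfsg.sympForm m F f e = 1 := by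
    rw [sympForm_swap, hef, neg_neg]
  have hee : Cfsg.sympForm m F e e = 0 := sympForm_self m e
  have hff : Cfsg.sympForm m F f f = 0 := sympForm_self m f
  set W' := perp2 m W e f with hW'
  have hW'le : W' ≤ W := fun w hw => hw.1
  have hlt : W' < W := by
    rw [lt_iff_le_and_ne]
    refine ⟨hW'le, ?_⟩
    intro heq
    have : e ∈ W' := by rw [heq]; exact heW
    have h1 := this.2.2
    rw [hef] at h1
    exact (neg_ne_zero.mpr one_ne_zero) h1
  -- decomposition
  have hdecomp : ∀ w ∈ W, w - (-(Cfsg.sympForm m F w f)) • e - (Cfsg.sympForm m F w e) • f ∈ W' := by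
    intro w hw
    refine ⟨W.sub_mem (W.sub_mem hw (W.smul_mem _ heW)) (W.smul_mem _ hfW), ?_, ?_⟩
    · rw [sympForm_sub_left, sympForm_sub_left, sympForm_smul_left, sympForm_smul_left, hee, hfe]
      ring
    · rw [sympForm_sub_left, sympForm_sub_left, sympForm_smul_left, sympForm_smul_left, hef, hff]
      ring
  have hW'nd : ∀ u ∈ W', (∀ v ∈ W', Cfsg.sympForm m F u v = 0) → u = 0 := by
    intro u hu huv
    apply hW u hu.1
    intro w hw
    have h1 := huv _ (hdecomp w hw)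
    rw [sympForm_sub_right, sympForm_sub_right, sympForm_smul_right, sympForm_smul_right, hu.2.1, hu.2.2] at h1
    linear_combination h1
  obtain ⟨k, φk, hφkr, hφkf⟩ := ih (Module.finrank F W') (by rw [← hd]; exact Submodule.finrank_lt_finrank_of_lt hlt)
    W' rfl hW'nd
  have hφkW' : ∀ z, φk z ∈ W' := fun z => by rw [← hφkr]; exact LinearMap.mem_range_self φk z
  let φ : (Fin (k + 1) ⊕ Fin (k + 1) → F) →ₗ[F] (Fin m ⊕ Fin m → F) :=
    (LinearMap.proj (Sum.inl (Fin.last k))).smulRight e + (LinearMap.proj (Sum.inr (Fin.last k))).smulRight f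
      + φk ∘ₗ rho k
  have hφ : ∀ x, φ x = x (Sum.inl (Fin.last k)) • e + x (Sum.inr (Fin.last k)) • f + φk (rho k x) := fun x => rfl
  refine ⟨k + 1, φ, ?_, ?_⟩
  · apply le_antisymm
    · rintro _ ⟨x, rfl⟩
      rw [hφ]
      exact W.add_mem (W.add_mem (W.smul_mem _ heW) (W.smul_mem _ hfW)) (hW'le (hφkW' _))
    · intro w hw
      have h1 := hdecomp w hw
      rw [← hφkr] at h1
      obtain ⟨z, hz⟩ := h1
      let x : Fin (k + 1) ⊕ Fin (k + 1) → F := fun s =>
        Sum.elim (Fin.lastCases (-(Cfsg.sympForm m F w f)) (fun i => z (Sum.inl i)))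
          (Fin.lastCases (Cfsg.sympForm m F w e) (fun i => z (Sum.inr i))) s
      have hx1 : x (Sum.inl (Fin.last k)) = -(Cfsg.sympForm m F w f) := by simp [x]
      have hx2 : x (Sum.inr (Fin.last k)) = Cfsg.sympForm m F w e := by simp [x]
      have hx3 : rho k x = z := by
        ext s
        rcases s with i | i
        · rw [rho_inl]; simp [x]
        · rw [rho_inr]; simp [x]
      refine ⟨x, ?_⟩
      rw [hφ, hx1, hx2, hx3, hz]
      abel
  · intro x y
    rw [sympForm_succ, hφ, hφ, ← hφkf]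
    have hx := hφkW' (rho k x)
    have hy := hφkW' (rho k y)
    have hy1 : Cfsg.sympForm m F e (φk (rho k y)) = 0 := by rw [sympForm_swap, hy.2.1, neg_zero]
    have hy2 : Cfsg.sympForm m F f (φk (rho k y)) = 0 := by rw [sympForm_swap, hy.2.2, neg_zero]
    simp only [sympForm_add_left, sympForm_add_right, sympForm_smul_left, sympForm_smul_right, hee, hff, hef, hfe,
      hx.2.1, hx.2.2, hy1, hy2]
    ring


theorem param_injective {m k : ℕ} (φ : (Fin k ⊕ Fin k → F) →ₗ[F] (Fin m ⊕ Fin m → F))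
    (hφ : ∀ x y, Cfsg.sympForm m F (φ x) (φ y) = Cfsg.sympForm k F x y) : Function.Injective φ := by
  rw [injective_iff_map_eq_zero]
  intro x hx
  by_contra hne
  obtain ⟨y, hy⟩ := sympForm_nondeg k x hne
  apply hy
  rw [← hφ, hx, sympForm_zero_left]

theorem finrank_of_param {m k : ℕ} (φ : (Fin k ⊕ Fin k → F) →ₗ[F] (Fin m ⊕ Fin m → F))
    (hφ : ∀ x y, Cfsg.sympForm m F (φ x) (φ y) = Cfsg.sympForm k F x y)
    (W : Submodule F (Fin m ⊕ Fin m → F)) (hr : LinearMap.range φ = W) :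
    Module.finrank F W = 2 * k := by
  rw [← hr, LinearMap.finrank_range_of_inj (param_injective φ hφ), Module.finrank_fintype_fun_eq_card,
    Fintype.card_sum, Fintype.card_fin]
  ring

/-- the symplectic form as a bilinear form -/
noncomputable def sB (m : ℕ) (F : Type*) [Field F] : LinearMap.BilinForm F (Fin m ⊕ Fin m → F) :=
  Matrix.toBilin' (Matrix.J (Fin m) F)

theorem sB_apply (m : ℕ) (u v : Fin m ⊕ Fin m → F) : sB m F u v = Cfsg.sympForm m F u v :=
  Matrix.toBilin'_apply' _ u v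

theorem sB_isRefl (m : ℕ) : (sB m F).IsRefl := by
  intro x y h
  rw [sB_apply] at h ⊢
  rw [sympForm_swap, h, neg_zero]

/-- the orthogonal complement -/
noncomputable def orth (m : ℕ) (W : Submodule F (Fin m ⊕ Fin m → F)) : Submodule F (Fin m ⊕ Fin m → F) :=
  (sB m F).orthogonal W

theorem mem_orth (m : ℕ) (W : Submodule F (Fin m ⊕ Fin m → F)) (v : Fin m ⊕ Fin m → F) :
    v ∈ orth m W ↔ ∀ w ∈ W, Cfsg.sympForm m F w v = 0 := by
  unfold orth
  rw [LinearMap.BilinForm.mem_orthogonal_iff]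
  simp only [sB_apply]

theorem isCompl_orth (m : ℕ) (W : Submodule F (Fin m ⊕ Fin m → F))
    (hW : ∀ u ∈ W, (∀ v ∈ W, Cfsg.sympForm m F u v = 0) → u = 0) : IsCompl W (orth m W) := by
  unfold orth
  rw [LinearMap.BilinForm.isCompl_orthogonal_iff_disjoint (sB_isRefl m)]
  rw [Submodule.disjoint_def]
  intro x hx hx'
  apply hW x hx
  intro v hv
  have := (mem_orth m W x).mp hx' v hv
  rw [sympForm_swap, this, neg_zero]

theorem orth_nondeg (m : ℕ) (W : Submodule F (Fin m ⊕ Fin m → F))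
    (hW : ∀ u ∈ W, (∀ v ∈ W, Cfsg.sympForm m F u v = 0) → u = 0) :
    ∀ u ∈ orth m W, (∀ v ∈ orth m W, Cfsg.sympForm m F u v = 0) → u = 0 := by
  intro u hu huv
  by_contra hne
  obtain ⟨x, hx⟩ := sympForm_nondeg m u hne
  apply hx
  have hc := isCompl_orth m W hW
  have hx' : x ∈ W ⊔ orth m W := by rw [hc.sup_eq_top]; trivial
  obtain ⟨w, hw, w', hw', rfl⟩ := Submodule.mem_sup.mp hx'
  rw [sympForm_add_right, huv w' hw']
  have := (mem_orth m W u).mp hu w hw
  rw [sympForm_swap, this]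
  simp

end Cfsg.Agent.Lib.helper6.SB
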