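import Mathlib

set_option autoImplicit false

namespace Cfsg.Agent.Lib.helper6.Disc

open Module Matrix LinearMap Polynomial

variable {F V : Type*} [Field F] [AddCommGroup V] [Module F V]

/-- Gram determinant of a bilinear form with respect to a basis. -/
noncomputable def gdet {ι : Type*} [Fintype ι] [DecidableEq ι] (b : Basis ι F V)
    (B : LinearMap.BilinForm F V) : F :=
  (LinearMap.BilinForm.toMatrix b B).det

theorem gdet_change {ι : Type*} [Fintype ι] [DecidableEq ι] (b c : Basis ι F V)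
    (B : LinearMap.BilinForm F V) : gdet c B = (b.toMatrix c).det ^ 2 * gdet b B := by
  unfold gdet
  rw [← LinearMap.BilinForm.toMatrix_mul_basis_toMatrix b c B, Matrix.det_mul, Matrix.det_mul,
    Matrix.det_transpose]
  ring

theorem gdet_reindex {ι κ : Type*} [Fintype ι] [DecidableEq ι] [Fintype κ] [DecidableEq κ]
    (e : ι ≃ κ) (b : Basis ι F V) (B : LinearMap.BilinForm F V) :
    gdet (b.reindex e) B = gdet b B := by
  unfold gdet
  have : LinearMap.BilinForm.toMatrix (b.reindex e) B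
      = (LinearMap.BilinForm.toMatrix b B).submatrix e.symm e.symm := by
    ext i j
    rw [LinearMap.BilinForm.toMatrix_apply, Matrix.submatrix_apply, LinearMap.BilinForm.toMatrix_apply,
      Basis.reindex_apply, Basis.reindex_apply]
  rw [this, Matrix.det_submatrix_equiv_self]

theorem gdet_sq_equiv {ι κ : Type*} [Fintype ι] [DecidableEq ι] [Fintype κ] [DecidableEq κ]
    (b : Basis ι F V) (c : Basis κ F V) (B : LinearMap.BilinForm F V) :
    ∃ d : F, d ≠ 0 ∧ gdet c B = d ^ 2 * gdet b B := by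
  let e : ι ≃ κ := b.indexEquiv c
  refine ⟨((b.reindex e).toMatrix c).det, ?_, ?_⟩
  · intro h0
    have := Basis.toMatrix_mul_toMatrix_flip (b.reindex e) c
    have h1 := congrArg Matrix.det this
    rw [Matrix.det_mul, h0, zero_mul, Matrix.det_one] at h1
    exact zero_ne_one h1
  · rw [gdet_change (b.reindex e) c B, gdet_reindex]

theorem det_swapBlock (m : ℕ) :
    (fromBlocks (0 : Matrix (Fin m) (Fin m) F) (1 : Matrix (Fin m) (Fin m) F)
      (1 : Matrix (Fin m) (Fin m) F) (0 : Matrix (Fin m) (Fin m) F)).det = (-1) ^ m := by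
  have h1 : fromBlocks (0 : Matrix (Fin m) (Fin m) F) (1 : Matrix (Fin m) (Fin m) F)
      (1 : Matrix (Fin m) (Fin m) F) (0 : Matrix (Fin m) (Fin m) F)
      = Matrix.J (Fin m) F * fromBlocks (1 : Matrix (Fin m) (Fin m) F) (0 : Matrix (Fin m) (Fin m) F)
        (0 : Matrix (Fin m) (Fin m) F) (-1 : Matrix (Fin m) (Fin m) F) := by
    unfold Matrix.J
    rw [Matrix.fromBlocks_multiply]
    simp
  rw [h1, Matrix.det_mul, SymplecticGroup.det_eq_one (SymplecticGroup.J_mem (Fin m) F), one_mul,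
    Matrix.det_fromBlocks_zero₂₁, Matrix.det_one, one_mul, Matrix.det_neg, Matrix.det_one, mul_one,
    Fintype.card_fin]

theorem det_zero11 (m : ℕ) (B C D : Matrix (Fin m) (Fin m) F) :
    (fromBlocks 0 B C D).det = (-1) ^ m * (B.det * C.det) := by
  have h1 : fromBlocks 0 B C D = fromBlocks B 0 D C * fromBlocks (0 : Matrix (Fin m) (Fin m) F)
      (1 : Matrix (Fin m) (Fin m) F) (1 : Matrix (Fin m) (Fin m) F) (0 : Matrix (Fin m) (Fin m) F) := by
    rw [Matrix.fromBlocks_multiply]
    simp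
  rw [h1, Matrix.det_mul, det_swapBlock, Matrix.det_fromBlocks_zero₁₂]
  ring

/-- (T1) If a symmetric form on a space of dimension `2r` vanishes on an `r`-dimensional subspace,
then `(-1)^r` times any Gram determinant is a square. -/
theorem isSquare_of_ti [FiniteDimensional F V] (B : LinearMap.BilinForm F V) (hB : B.IsSymm)
    (X : Submodule F V) (r : ℕ) (hX : finrank F X = r) (hV : finrank F V = 2 * r)
    (hti : ∀ x ∈ X, ∀ y ∈ X, B x y = 0) {ι : Type*} [Fintype ι] [DecidableEq ι] (b : Basis ι F V) :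
    IsSquare ((-1 : F) ^ r * gdet b B) := by
  obtain ⟨U, hc⟩ := Submodule.exists_isCompl X
  have hU : finrank F U = r := by
    have := Submodule.finrank_add_eq_of_isCompl hc
    omega
  let bX := Module.finBasisOfFinrankEq F X hX
  let bU := Module.finBasisOfFinrankEq F U hU
  let c : Basis (Fin r ⊕ Fin r) F V := (bX.prod bU).map (Submodule.prodEquivOfIsCompl X U hc)
  have hcl : ∀ i, c (Sum.inl i) = (bX i : V) := by
    intro i
    simp [c]
  set G := LinearMap.BilinForm.toMatrix c B with hG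
  have h11 : G.toBlocks₁₁ = 0 := by
    ext i j
    show G (Sum.inl i) (Sum.inl j) = 0
    rw [hG, LinearMap.BilinForm.toMatrix_apply, hcl, hcl]
    exact hti _ (bX i).2 _ (bX j).2
  have h21 : G.toBlocks₂₁ = (G.toBlocks₁₂)ᵀ := by
    ext i j
    show G (Sum.inr i) (Sum.inl j) = G (Sum.inl j) (Sum.inr i)
    rw [hG, LinearMap.BilinForm.toMatrix_apply, LinearMap.BilinForm.toMatrix_apply, hB.eq]
  have hGb : G = fromBlocks 0 G.toBlocks₁₂ (G.toBlocks₁₂)ᵀ G.toBlocks₂₂ := by
    conv_lhs => rw [← Matrix.fromBlocks_toBlocks G, h11, h21]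
  have hdetG : gdet c B = (-1) ^ r * (G.toBlocks₁₂.det * G.toBlocks₁₂.det) := by
    show G.det = _
    conv_lhs => rw [hGb]
    rw [det_zero11, Matrix.det_transpose]
  obtain ⟨d, _, hd⟩ := gdet_sq_equiv c b B
  refine ⟨d * G.toBlocks₁₂.det, ?_⟩
  rw [hd, hdetG]
  have h1 : ((-1 : F) ^ r) * ((-1 : F) ^ r) = 1 := by
    rw [← mul_pow]; simp
  linear_combination (d ^ 2 * (G.toBlocks₁₂.det * G.toBlocks₁₂.det)) * h1

section
variable {V : Type*} [AddCommGroup V] [Module F V]

theorem exists_partner (h2 : (2 : F) ≠ 0) (B : LinearMap.BilinForm F V) (hS : B.IsSymm)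
    (hB : B.Nondegenerate) (x : V) (hx0 : x ≠ 0) (hx : B x x = 0) :
    ∃ y : V, B y y = 0 ∧ B x y = 1 := by
  obtain ⟨w, hw⟩ : ∃ w, B x w ≠ 0 := by
    by_contra hcon
    push Not at hcon
    exact hx0 (hB.1 x hcon)
  set y' : V := (B x w)⁻¹ • w with hy'
  have hxy' : B x y' = 1 := by
    rw [hy', map_smul, smul_eq_mul, inv_mul_cancel₀ hw]
  have hy'x : B y' x = 1 := by rw [hS.eq, hxy']
  refine ⟨y' - (B y' y' / 2) • x, ?_, ?_⟩
  · simp only [map_sub, map_smul, LinearMap.sub_apply, LinearMap.smul_apply, smul_eq_mul, hx, hxy',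
      hy'x]
    field_simp
    ring
  · simp only [map_sub, map_smul, smul_eq_mul, hx, hxy']
    ring

theorem exists_isotropic_of_three_le [Fintype F] [FiniteDimensional F V] (h2 : (2 : F) ≠ 0)
    (B : LinearMap.BilinForm F V) (hS : B.IsSymm) (hB : B.Nondegenerate) (h3 : 3 ≤ finrank F V) :
    ∃ x : V, x ≠ 0 ∧ B x x = 0 := by
  by_contra hcon
  push Not at hcon
  have hchar : ringChar F ≠ 2 := by
    intro h
    have : CharP F 2 := by rw [← h]; exact ringChar.charP F
    exact h2 (CharTwo.two_eq_zero)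
  have hodd := FiniteField.odd_card_of_char_ne_two hchar
  -- first vector
  obtain ⟨x₁, hx₁⟩ : ∃ x₁ : V, x₁ ≠ 0 := by
    have : 0 < finrank F V := by omega
    exact (Module.finrank_pos_iff_exists_ne_zero).mp this
  -- second vector in x₁^⊥
  have hd1 : finrank F (B.orthogonal (Submodule.span F {x₁})) = finrank F V - 1 := by
    rw [LinearMap.BilinForm.finrank_orthogonal hB, finrank_span_singleton hx₁]
  obtain ⟨x₂, hx₂m, hx₂⟩ : ∃ x₂ ∈ B.orthogonal (Submodule.span F {x₁}), x₂ ≠ 0 := by
    have hpos : 0 < finrank F (B.orthogonal (Submodule.span F {x₁})) := by omega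
    obtain ⟨z, hz⟩ := (Module.finrank_pos_iff_exists_ne_zero).mp hpos
    exact ⟨z, z.2, fun h => hz (Subtype.ext h)⟩
  have h12 : B x₁ x₂ = 0 :=
    (LinearMap.BilinForm.mem_orthogonal_iff.mp hx₂m) x₁ (Submodule.mem_span_singleton_self x₁)
  -- third vector in {x₁,x₂}^⊥
  have hd2 : finrank F (B.orthogonal (Submodule.span F {x₁, x₂})) + 2 ≥ finrank F V := by
    rw [LinearMap.BilinForm.finrank_orthogonal hB]
    have : finrank F (Submodule.span F ({x₁, x₂} : Set V)) ≤ 2 := by
      classical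
      have h1 : finrank F (Submodule.span F ((({x₁, x₂} : Finset V) : Set V))) ≤
          ({x₁, x₂} : Finset V).card := finrank_span_finset_le_card (R := F) ({x₁, x₂} : Finset V)
      have h' : ({x₁, x₂} : Finset V).card ≤ 2 := Finset.card_le_two
      have he : ((({x₁, x₂} : Finset V) : Set V)) = ({x₁, x₂} : Set V) := by
        rw [Finset.coe_insert, Finset.coe_singleton]
      rw [he] at h1
      omega
    omega
  obtain ⟨x₃, hx₃m, hx₃⟩ : ∃ x₃ ∈ B.orthogonal (Submodule.span F {x₁, x₂}), x₃ ≠ 0 := by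
    have hpos : 0 < finrank F (B.orthogonal (Submodule.span F {x₁, x₂})) := by omega
    obtain ⟨z, hz⟩ := (Module.finrank_pos_iff_exists_ne_zero).mp hpos
    exact ⟨z, z.2, fun h => hz (Subtype.ext h)⟩
  have h13 : B x₁ x₃ = 0 :=
    (LinearMap.BilinForm.mem_orthogonal_iff.mp hx₃m) x₁ (Submodule.subset_span (by simp))
  have h23 : B x₂ x₃ = 0 :=
    (LinearMap.BilinForm.mem_orthogonal_iff.mp hx₃m) x₂ (Submodule.subset_span (by simp))
  have ha := hcon x₁ hx₁
  have hb := hcon x₂ hx₂
  have hc := hcon x₃ hx₃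
  set a := B x₁ x₁
  set b := B x₂ x₂
  set c := B x₃ x₃
  have hf : (C a * X ^ 2 : F[X]).degree = 2 := by
    rw [degree_C_mul_X_pow 2 ha]; rfl
  have hg : (C b * X ^ 2 + C c : F[X]).degree = 2 := by
    rw [degree_add_C]
    · rw [degree_C_mul_X_pow 2 hb]; rfl
    · rw [degree_C_mul_X_pow 2 hb]; exact by norm_num
  obtain ⟨s, t, hst⟩ := FiniteField.exists_root_sum_quadratic hf hg hodd
  simp only [eval_mul, eval_C, eval_pow, eval_X, eval_add] at hst
  set v := s • x₁ + t • x₂ + x₃ with hv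
  have hvv : B v v = 0 := by
    have h21 : B x₂ x₁ = 0 := by rw [hS.eq, h12]
    have h31 : B x₃ x₁ = 0 := by rw [hS.eq, h13]
    have h32 : B x₃ x₂ = 0 := by rw [hS.eq, h23]
    simp only [hv, map_add, map_smul, LinearMap.add_apply, LinearMap.smul_apply, smul_eq_mul, h12,
      h13, h23, h21, h31, h32]
    linear_combination hst
  have hv0 : v ≠ 0 := by
    intro h0
    have : B v x₃ = c := by
      have h31 : B x₃ x₁ = 0 := by rw [hS.eq, h13]
      simp only [hv, map_add, map_smul, LinearMap.add_apply, LinearMap.smul_apply, smul_eq_mul, h13,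
        h23]
      ring
    rw [h0] at this
    simp at this
    exact hc this.symm
  exact hcon v hv0 hvv

end

end Cfsg.Agent.Lib.helper6.Disc
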