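import Mathlib
import Cfsg.Agent.Lib.Helper18.BLK.Defs

/-!
# BLK piece R0 (helper6): a metacyclic group has cyclic derived subgroup.
-/

set_option autoImplicit false

namespace Cfsg.Agent.Lib.Helper18.BLK

universe u

/-- **R0**. -/
theorem cyclic_commutator_of_metacyclic {P : Type u} [Group P] (hm : Cfsg.IsMetacyclic P) :
    IsCyclic (commutator P) := by
  obtain ⟨N, hN, hNc, hQ⟩ := hm
  haveI := hN
  haveI := hNc
  haveI := hQ
  have hcomm : IsMulCommutative (P ⧸ N) := by
    obtain ⟨g, hg⟩ := hQ.exists_generator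
    refine ⟨⟨fun a b => ?_⟩⟩
    obtain ⟨i, rfl⟩ := Subgroup.mem_zpowers_iff.mp (hg a)
    obtain ⟨j, rfl⟩ := Subgroup.mem_zpowers_iff.mp (hg b)
    exact (Commute.zpow_zpow_self g i j).eq
  have hle : commutator P ≤ N :=
    Subgroup.Normal.quotient_commutative_iff_commutator_le.mp hcomm
  exact Subgroup.isCyclic_of_le hle

end Cfsg.Agent.Lib.Helper18.BLK
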