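import Mathlib
import Cfsg.Agent.Lib.Helper18.BLK.Defs

/-!
# BLK piece AE (helper6): the exponent-`p` part of a central subgroup.
-/

set_option autoImplicit false

namespace Cfsg.Agent.Lib.Helper18.BLK

universe u

/-- **AE**. the exponent-`p` part of a central subgroup. -/
theorem exists_exp_part {P : Type u} [Group P] [Finite P] {p : ℕ} (E : Subgroup P)
    (hEc : E ≤ Subgroup.center P) (hE : Nat.card E ≤ p ^ 2) (hTE : ∀ x : P, x ^ p = 1 → x ∈ E) :
    ∃ E₁ : Subgroup P, E₁ ≤ Subgroup.center P ∧ Nat.card E₁ ≤ p ^ 2 ∧ (∀ e ∈ E₁, e ^ p = 1) ∧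
      ∀ x : P, x ^ p = 1 → x ∈ E₁ := by
  let E₁ : Subgroup P :=
    { carrier := {e | e ∈ E ∧ e ^ p = 1}
      one_mem' := ⟨E.one_mem, one_pow p⟩
      mul_mem' := by
        rintro a b ⟨ha, hap⟩ ⟨hb, hbp⟩
        refine ⟨E.mul_mem ha hb, ?_⟩
        have hcomm : Commute a b := (Subgroup.mem_center_iff.mp (hEc ha) b).symm
        rw [hcomm.mul_pow, hap, hbp, mul_one]
      inv_mem' := by
        rintro a ⟨ha, hap⟩
        exact ⟨E.inv_mem ha, by rw [inv_pow, hap, inv_one]⟩ }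
  have hle : E₁ ≤ E := fun e he => he.1
  refine ⟨E₁, hle.trans hEc, ?_, fun e he => he.2, fun x hx => ⟨hTE x hx, hx⟩⟩
  exact le_trans (Nat.le_of_dvd Nat.card_pos (Subgroup.card_dvd_of_le hle)) hE

end Cfsg.Agent.Lib.Helper18.BLK
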