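import Mathlib
import Cfsg.Agent.Lib.Helper18.BLK.Defs

/-!
# BLK piece AI (helper6): hypotheses of Lemma A pass to subgroups.
-/

set_option autoImplicit false

namespace Cfsg.Agent.Lib.Helper18.BLK

universe u

/-- **AI**. hypotheses of Lemma A pass to subgroups. -/
theorem subgroup_hyp {P : Type u} [Group P] [Finite P] {p : ℕ} (E : Subgroup P)
    (hEc : E ≤ Subgroup.center P) (hE : Nat.card E ≤ p ^ 2) (hTE : ∀ x : P, x ^ p = 1 → x ∈ E)
    (H : Subgroup P) :
    E.subgroupOf H ≤ Subgroup.center H ∧ Nat.card (E.subgroupOf H) ≤ p ^ 2 ∧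
      ∀ x : H, x ^ p = 1 → x ∈ E.subgroupOf H := by
  refine ⟨?_, ?_, ?_⟩
  · intro x hx
    rw [Subgroup.mem_subgroupOf] at hx
    rw [Subgroup.mem_center_iff]
    intro g
    apply Subtype.ext
    have := Subgroup.mem_center_iff.mp (hEc hx) (g : P)
    simpa using this
  · refine le_trans ?_ hE
    refine Nat.card_le_card_of_injective
      (fun x : E.subgroupOf H => (⟨((x : H) : P), Subgroup.mem_subgroupOf.mp x.2⟩ : E)) ?_
    intro x y hxy
    have h1 : ((x : H) : P) = ((y : H) : P) := by
      have := congrArg (fun e : E => (e : P)) hxy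
      simpa using this
    exact Subtype.ext (Subtype.ext h1)
  · intro x hx
    rw [Subgroup.mem_subgroupOf]
    apply hTE
    have := congrArg (Subtype.val) hx
    simpa using this

end Cfsg.Agent.Lib.Helper18.BLK
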