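import Mathlib
import Cfsg.Agent.Lib.Helper18.BLK.Defs

/-!
# BLK piece AT (helper6): a `p`-group without elements of order `p` is trivial.
-/

set_option autoImplicit false

namespace Cfsg.Agent.Lib.Helper18.BLK

universe u

/-- **AT**. a `p`-group without elements of order `p` is trivial. -/
theorem subsingleton_of_no_order_p {P : Type u} [Group P] [Finite P] {p : ℕ} [Fact p.Prime]
    (hP : IsPGroup p P) (h : ∀ x : P, x ^ p = 1 → x = 1) : Subsingleton P := by
  have hp : p.Prime := Fact.out
  obtain ⟨n, hn⟩ := IsPGroup.iff_card.mp hP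
  rcases Nat.eq_zero_or_pos n with h0 | hpos
  · rw [h0, pow_zero] at hn
    exact (Nat.card_eq_one_iff_unique.mp hn).1
  · exfalso
    have hdvd : p ∣ Nat.card P := by
      rw [hn]; exact dvd_pow_self p (Nat.pos_iff_ne_zero.mp hpos)
    obtain ⟨x, hx⟩ := exists_prime_orderOf_dvd_card' p hdvd
    have h1 : x = 1 := h x (by rw [← hx]; exact pow_orderOf_eq_one x)
    rw [h1, orderOf_one] at hx
    exact hp.one_lt.ne hx

end Cfsg.Agent.Lib.Helper18.BLK
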