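import Mathlib
import Cfsg.Agent.Lib.Helper18.BLK.Defs

/-!
# BLK piece MC0 (helper6): cyclic groups are metacyclic.
-/

set_option autoImplicit false

namespace Cfsg.Agent.Lib.Helper18.BLK

universe u

/-- **MC0**. cyclic groups are metacyclic. -/
theorem metacyclic_of_cyclic {P : Type u} [Group P] (h : IsCyclic P) : Cfsg.IsMetacyclic P := by
  refine ⟨⊤, inferInstance, ?_, ?_⟩
  · exact (Subgroup.topEquiv (G := P)).symm.isCyclic.mp h
  · haveI : Subsingleton (P ⧸ (⊤ : Subgroup P)) := QuotientGroup.subsingleton_quotient_top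
    exact isCyclic_of_subsingleton

end Cfsg.Agent.Lib.Helper18.BLK
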