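import Mathlib
import Cfsg.Agent.Lib.Helper18.BLK.Defs

/-!
# BLK piece SM (helper6): an element of order `p` centralizing `E` lies in `E` (rank `≤ 2`).
-/

set_option autoImplicit false

namespace Cfsg.Agent.Lib.Helper18.BLK

universe u

/-- **SM**. an element of order `p` centralizing `E` lies in `E` (rank `≤ 2`). -/
theorem mem_E_of_pow {G : Type*} [Group G] [Finite G] {p : ℕ} [Fact p.Prime]
    (hrk : Cfsg.PRankLE p 2 G) (E : Subgroup G) (hE : Cfsg.IsElementaryAbelian p E)
    (hEc : Nat.card E = p ^ 2) (c : G) (hc : c ∈ Subgroup.centralizer (E : Set G))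
    (hcp : c ^ p = 1) : c ∈ E := by
  obtain ⟨hEcomm, hEexp⟩ := hE
  have hcE : ∀ e ∈ E, Commute e c := fun e he =>
    (Subgroup.mem_centralizer_iff.mp hc e he)
  have hEE : ∀ e ∈ E, ∀ f ∈ E, Commute e f := fun e he f hf => by
    have := hEcomm.is_comm.comm (⟨e, he⟩ : E) ⟨f, hf⟩
    exact congrArg Subtype.val this
  let A : Subgroup G :=
    { carrier := {g | ∃ e ∈ E, ∃ i : ℤ, g = e * c ^ i}
      one_mem' := ⟨1, E.one_mem, 0, by simp⟩
      mul_mem' := by
        rintro _ _ ⟨e, he, i, rfl⟩ ⟨f, hf, j, rfl⟩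
        refine ⟨e * f, E.mul_mem he hf, i + j, ?_⟩
        have h1 : Commute (c ^ i) f := ((hcE f hf).symm.zpow_left i)
        rw [zpow_add]
        calc e * c ^ i * (f * c ^ j) = e * (c ^ i * f) * c ^ j := by group
          _ = e * (f * c ^ i) * c ^ j := by rw [h1.eq]
          _ = e * f * (c ^ i * c ^ j) := by group
      inv_mem' := by
        rintro _ ⟨e, he, i, rfl⟩
        refine ⟨e⁻¹, E.inv_mem he, -i, ?_⟩
        have h1 : Commute (c ^ i) e := ((hcE e he).symm.zpow_left i)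
        rw [mul_inv_rev, zpow_neg]
        exact (h1.inv_inv).eq }
  have hEA : E ≤ A := fun e he => ⟨e, he, 0, by simp⟩
  have hcA : c ∈ A := ⟨1, E.one_mem, 1, by simp⟩
  have hAcomm : IsMulCommutative A := by
    refine ⟨⟨?_⟩⟩
    rintro ⟨_, e, he, i, rfl⟩ ⟨_, f, hf, j, rfl⟩
    apply Subtype.ext
    show e * c ^ i * (f * c ^ j) = f * c ^ j * (e * c ^ i)
    have h1 : Commute (c ^ i) f := ((hcE f hf).symm.zpow_left i)
    have h2 : Commute (c ^ j) e := ((hcE e he).symm.zpow_left j)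
    have h3 : Commute e f := hEE e he f hf
    have h4 : Commute (c ^ i) (c ^ j) := (Commute.refl c).zpow_zpow i j
    calc e * c ^ i * (f * c ^ j) = e * (c ^ i * f) * c ^ j := by group
      _ = e * (f * c ^ i) * c ^ j := by rw [h1.eq]
      _ = (e * f) * (c ^ i * c ^ j) := by group
      _ = (f * e) * (c ^ j * c ^ i) := by rw [h3.eq, h4.eq]
      _ = f * (e * c ^ j) * c ^ i := by group
      _ = f * (c ^ j * e) * c ^ i := by rw [h2.eq]
      _ = f * c ^ j * (e * c ^ i) := by group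
  have hAexp : ∀ a ∈ A, a ^ p = 1 := by
    rintro _ ⟨e, he, i, rfl⟩
    have h1 : Commute e (c ^ i) := (hcE e he).zpow_right i
    rw [h1.mul_pow, hEexp e he, one_mul, ← zpow_natCast, ← zpow_mul, mul_comm, zpow_mul,
      zpow_natCast, hcp, one_zpow]
  have hcard : Nat.card A ≤ p ^ 2 := hrk A hAcomm hAexp
  have hEq : E = A := Subgroup.eq_of_le_of_card_ge hEA (by rw [hEc]; exact hcard)
  rw [hEq]; exact hcA

end Cfsg.Agent.Lib.Helper18.BLK
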