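import Mathlib

set_option autoImplicit false

namespace Cfsg.Agent.Lib.helper6.PGLSL

open Matrix

variable {F : Type*} [Field F]

theorem sq_eq_one_of_two_eq_zero (h2 : (2 : F) = 0) {r : F} (hr : r ^ 2 = 1) : r = 1 := by
  have : (r - 1) ^ 2 = 0 := by
    linear_combination hr + (1 - r) * h2
  have := pow_eq_zero_iff (two_ne_zero) |>.mp this
  exact sub_eq_zero.mp this

theorem center_SL2_bot (h2 : (2 : F) = 0) :
    Subgroup.center (SpecialLinearGroup (Fin 2) F) = ⊥ := by
  rw [eq_bot_iff]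
  intro A hA
  rw [Matrix.SpecialLinearGroup.mem_center_iff] at hA
  obtain ⟨r, hr, hA⟩ := hA
  rw [Fintype.card_fin] at hr
  have := sq_eq_one_of_two_eq_zero h2 hr
  rw [Subgroup.mem_bot]
  apply Subtype.ext
  rw [← hA, this]
  simp

/-- Over a finite field of characteristic two, `PGL₂(F) ≃* SL₂(F)`. -/
theorem nonempty_PGL2_mulEquiv_SL2 [Finite F] (h2 : (2 : F) = 0) :
    Nonempty (ProjGenLinGroup (Fin 2) F ≃* SpecialLinearGroup (Fin 2) F) := by
  have : CharP F 2 := by
    refine (CharP.charP_iff_prime_eq_zero Nat.prime_two).mpr ?_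
    exact_mod_cast h2
  have hsq : ∀ r : Fˣ, ∃ k : Fˣ, k ^ Fintype.card (Fin 2) = r := by
    intro r
    rw [Fintype.card_fin]
    obtain ⟨k, hk⟩ := (frobenius_inj F 2).bijective_of_finite.2 (r : F)
    -- k ^ 2 = r
    have hk' : k ^ 2 = (r : F) := hk
    have hk0 : k ≠ 0 := by
      intro h
      rw [h] at hk'
      have : (r : F) = 0 := by rw [← hk']; ring
      exact r.ne_zero this
    refine ⟨Units.mk0 k hk0, ?_⟩
    apply Units.ext
    simpa using hk'
  have e1 : ProjectiveSpecialLinearGroup (Fin 2) F ≃* ProjGenLinGroup (Fin 2) F :=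
    MulEquiv.ofBijective ProjectiveSpecialLinearGroup.toPGL
      ⟨ProjectiveSpecialLinearGroup.toPGL_injective,
        ProjectiveSpecialLinearGroup.toPGL_surj_of_roots hsq⟩
  have e2 : ProjectiveSpecialLinearGroup (Fin 2) F ≃* SpecialLinearGroup (Fin 2) F := by
    unfold ProjectiveSpecialLinearGroup
    exact (QuotientGroup.quotientMulEquivOfEq (center_SL2_bot h2)).trans
      (QuotientGroup.quotientBot)
  exact ⟨e1.symm.trans e2⟩

end Cfsg.Agent.Lib.helper6.PGLSL
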