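import Mathlib
import Cfsg.Agent.Lib.helper3.BSZ.Defs

set_option autoImplicit false

/-!
# BSZ row A04 (`three_point`): the three-point criterion
-/

namespace Cfsg.Agent.Lib.helper3.BSZ

open Cfsg Cfsg.Agent.Lib.helper3

/-- `g • mk a = mk b` in `G ⧸ H` iff `a⁻¹ * g⁻¹ * b ∈ H` -/
theorem bsza04_smul_mk_eq_iff {G : Type*} [Group G] (H : Subgroup G) (g a b : G) :
    g • (QuotientGroup.mk a : G ⧸ H) = QuotientGroup.mk b ↔ a⁻¹ * g⁻¹ * b ∈ H := by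
  rw [MulAction.Quotient.smul_mk, QuotientGroup.eq, smul_eq_mul, mul_inv_rev]

/-- `g • mk a = g' • mk a'` in `G ⧸ H` iff `a⁻¹ * g⁻¹ * (g' * a') ∈ H` -/
theorem bsza04_smul_mk_eq_smul_iff {G : Type*} [Group G] (H : Subgroup G) (g a g' a' : G) :
    g • (QuotientGroup.mk a : G ⧸ H) = g' • (QuotientGroup.mk a' : G ⧸ H) ↔
      a⁻¹ * g⁻¹ * (g' * a') ∈ H := by
  rw [MulAction.Quotient.smul_mk H g' a', smul_eq_mul, bsza04_smul_mk_eq_iff]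

/-- A04 -/
theorem three_point {G : Type*} [Group G] (H : Subgroup G) (hB : BinH H) (a b g₁ g₂ g₃ : G)
    (h1 : g₁ ∈ H) (h2 : a⁻¹ * g₂ * a ∈ H) (h3 : b⁻¹ * g₃ * b ∈ H) (hp : g₁ * g₂ * g₃ = 1) :
    ∃ k ∈ H, b⁻¹ * k * b ∈ H ∧ a⁻¹ * (k⁻¹ * g₁) * a ∈ H := by
  have hg3 : g₃⁻¹ = g₁ * g₂ := by
    rw [inv_eq_iff_eq_inv, eq_inv_iff_mul_eq_one, mul_eq_one_iff_eq_inv.mp hp]
    group
  -- the three pairwise witnesses
  have e01a : (1 : G) • (QuotientGroup.mk 1 : G ⧸ H) = QuotientGroup.mk 1 := one_smul _ _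
  have e01b : (1 : G) • (QuotientGroup.mk b : G ⧸ H) = QuotientGroup.mk b := one_smul _ _
  have e02a : g₁ • (QuotientGroup.mk 1 : G ⧸ H) = QuotientGroup.mk 1 := by
    rw [bsza04_smul_mk_eq_iff]
    simpa using H.inv_mem h1
  have e12a : g₃⁻¹ • (QuotientGroup.mk b : G ⧸ H) = QuotientGroup.mk b := by
    rw [bsza04_smul_mk_eq_iff, inv_inv]
    exact h3
  have e12b : g₃⁻¹ • (QuotientGroup.mk a : G ⧸ H) = g₁ • (QuotientGroup.mk a : G ⧸ H) := by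
    rw [bsza04_smul_mk_eq_smul_iff, hg3]
    have : a⁻¹ * (g₁ * g₂)⁻¹ * (g₁ * a) = (a⁻¹ * g₂ * a)⁻¹ := by group
    rw [this]
    exact H.inv_mem h2
  set I : Fin 3 → G ⧸ H := ![QuotientGroup.mk 1, QuotientGroup.mk b, QuotientGroup.mk a] with hI
  set J : Fin 3 → G ⧸ H :=
    ![QuotientGroup.mk 1, QuotientGroup.mk b, g₁ • (QuotientGroup.mk a : G ⧸ H)] with hJ
  have hpair : ∀ i j : Fin 3, i ≠ j → ∃ g : G, g • I i = J i ∧ g • I j = J j := by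
    intro i j hij
    fin_cases i <;> fin_cases j
    · exact absurd rfl hij
    · exact ⟨1, e01a, e01b⟩
    · exact ⟨g₁, e02a, rfl⟩
    · exact ⟨1, e01b, e01a⟩
    · exact absurd rfl hij
    · exact ⟨g₃⁻¹, e12a, e12b⟩
    · exact ⟨g₁, rfl, e02a⟩
    · exact ⟨g₃⁻¹, e12b, e12a⟩
    · exact absurd rfl hij
  obtain ⟨k, hk⟩ := hB 3 I J (by norm_num) hpair
  have k0 : k • (QuotientGroup.mk 1 : G ⧸ H) = QuotientGroup.mk 1 := hk 0
  have k1 : k • (QuotientGroup.mk b : G ⧸ H) = QuotientGroup.mk b := hk 1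
  have k2 : k • (QuotientGroup.mk a : G ⧸ H) = g₁ • (QuotientGroup.mk a : G ⧸ H) := hk 2
  rw [bsza04_smul_mk_eq_iff] at k0 k1
  rw [bsza04_smul_mk_eq_smul_iff] at k2
  refine ⟨k, ?_, ?_, ?_⟩
  · have := H.inv_mem k0
    simpa using this
  · have := H.inv_mem k1
    have e : (b⁻¹ * k⁻¹ * b)⁻¹ = b⁻¹ * k * b := by group
    rwa [e] at this
  · have e : a⁻¹ * k⁻¹ * (g₁ * a) = a⁻¹ * (k⁻¹ * g₁) * a := by group
    rwa [e] at k2

end Cfsg.Agent.Lib.helper3.BSZ
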