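import Mathlib
import Cfsg.Prelude.Def_Perm
import Cfsg.Prelude.Def_Characters

set_option autoImplicit false

namespace Cfsg.Agent.Lib.helper6.PermChar

open Module LinearMap Polynomial

section LinAlg
variable {k : Type*} [Field k] {S V : Type*} [AddCommGroup S] [Module k S] [AddCommGroup V]
  [Module k V]

/-- `φ ↦ X ∘ φ ∘ Y` on `S →ₗ V`. -/
def sandwich (X : Module.End k V) (Y : Module.End k S) : Module.End k (S →ₗ[k] V) where
  toFun φ := X ∘ₗ φ ∘ₗ Y
  map_add' := by intros; ext; simp
  map_smul' := by intros; ext; simp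

@[simp] theorem sandwich_apply (X : Module.End k V) (Y : Module.End k S) (φ : S →ₗ[k] V) :
    sandwich X Y φ = X ∘ₗ φ ∘ₗ Y := rfl

theorem sandwich_mul (X X' : Module.End k V) (Y Y' : Module.End k S) :
    sandwich X Y * sandwich X' Y' = sandwich (X * X') (Y' * Y) := by
  ext φ s
  simp [Module.End.mul_apply]

theorem sandwich_one : sandwich (1 : Module.End k V) (1 : Module.End k S) = 1 := by
  ext φ s
  simp

theorem dualTensorHom_sandwich (X : Module.End k V) (Y : Module.End k S) :
    dualTensorHom k S V ∘ₗ TensorProduct.map (Module.Dual.transpose (R := k) Y) X =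
      sandwich X Y ∘ₗ dualTensorHom k S V := by
  ext; simp [Module.Dual.transpose_apply]

theorem trace_sandwich [FiniteDimensional k S] [FiniteDimensional k V] (X : Module.End k V)
    (Y : Module.End k S) :
    LinearMap.trace k (S →ₗ[k] V) (sandwich X Y) = LinearMap.trace k V X * LinearMap.trace k S Y := by
  have h : sandwich X Y = (dualTensorHomEquiv k S V).conj
      (TensorProduct.map (Module.Dual.transpose (R := k) Y) X) := by
    rw [LinearEquiv.conj_apply]
    apply LinearMap.ext
    intro φ
    have h1 := congrArg (fun F => F ((dualTensorHomEquiv k S V).symm φ)) (dualTensorHom_sandwich X Y)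
    simp only [LinearMap.comp_apply] at h1
    have h2 : dualTensorHom k S V ((dualTensorHomEquiv k S V).symm φ) = φ :=
      (dualTensorHomEquiv k S V).apply_symm_apply φ
    rw [h2] at h1
    simp only [LinearMap.comp_apply, LinearEquiv.coe_coe]
    rw [← h1]
    rfl
  have h3 := LinearMap.trace_conj' (R := k) (M := TensorProduct k (Dual k S) V) (N := S →ₗ[k] V)
    (TensorProduct.map (Module.Dual.transpose (R := k) Y) X) (dualTensorHomEquiv k S V)
  rw [h, h3, LinearMap.trace_tensorProduct', LinearMap.trace_transpose', mul_comm]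

/-- left composition as a ring hom -/
def sandwichHom (k S V : Type*) [Field k] [AddCommGroup S] [Module k S] [AddCommGroup V]
    [Module k V] : Module.End k V →+* Module.End k (S →ₗ[k] V) where
  toFun X := sandwich X 1
  map_one' := sandwich_one
  map_mul' X X' := by rw [sandwich_mul, one_mul]
  map_zero' := by ext φ s; simp
  map_add' X X' := by ext φ s; simp


end LinAlg

section Integrality
variable {W : Type*} [AddCommGroup W] [Module ℂ W] [FiniteDimensional ℂ W]

theorem isIntegral_trace_of_eigenvalues (C : Module.End ℂ W)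
    (h : ∀ μ : ℂ, C.HasEigenvalue μ → IsIntegral ℤ μ) :
    IsIntegral ℤ (LinearMap.trace ℂ W C) := by
  rw [Module.End.trace_eq_sum_roots_charpoly_of_splits (IsAlgClosed.splits _)]
  apply IsIntegral.multiset_sum
  intro μ hμ
  exact h μ ((Module.End.hasEigenvalue_iff_isRoot_charpoly C μ).mpr (Polynomial.mem_roots'.mp hμ).2)

theorem isIntegral_of_hasEigenvector (A : Module.End ℂ W) (hA : IsIntegral ℤ A) (μ : ℂ) (v : W)
    (hv : A.HasEigenvector μ v) : IsIntegral ℤ μ := by
  obtain ⟨p, hp, hpA⟩ := hA
  refine ⟨p, hp, ?_⟩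
  have h1 := Module.End.aeval_apply_of_hasEigenvector hv (p := p.map (algebraMap ℤ ℂ))
  have h2 : aeval A (p.map (algebraMap ℤ ℂ)) = 0 := by
    rw [aeval_map_algebraMap]
    rw [← hpA]
    rfl
  rw [h2, LinearMap.zero_apply] at h1
  have h3 : (p.map (algebraMap ℤ ℂ)).eval μ = 0 := by
    rcases smul_eq_zero.mp h1.symm with h | h
    · exact h
    · exact absurd h hv.2
  rw [eval_map] at h3
  exact h3

theorem isIntegral_trace_mul_proj (A Pr : Module.End ℂ W) (hA : IsIntegral ℤ A)
    (hcomm : A * Pr = Pr * A) (hPr : Pr * Pr = Pr) :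
    IsIntegral ℤ (LinearMap.trace ℂ W (A * Pr)) := by
  apply isIntegral_trace_of_eigenvalues
  intro μ hμ
  obtain ⟨v, hv⟩ := hμ.exists_hasEigenvector
  by_cases h0 : μ = 0
  · rw [h0]; exact isIntegral_zero
  have hCv : (A * Pr) v = μ • v := Module.End.mem_eigenspace_iff.mp hv.1
  have hPv : Pr v = v := by
    have h1 : Pr ((A * Pr) v) = (A * Pr) v := by
      have : Pr * (A * Pr) = A * Pr := by
        rw [← mul_assoc, ← hcomm, mul_assoc, hPr]
      calc Pr ((A * Pr) v) = (Pr * (A * Pr)) v := rfl
        _ = (A * Pr) v := by rw [this]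
    rw [hCv, map_smul] at h1
    exact smul_right_injective W h0 h1
  have hAv : A v = μ • v := by
    rw [← hCv, Module.End.mul_apply, hPv]
  exact isIntegral_of_hasEigenvector A hA μ v ⟨Module.End.mem_eigenspace_iff.mpr hAv, hv.2⟩

end Integrality

section Avg
variable {G : Type*} [Group G] [Fintype G] {W : Type*} [AddCommGroup W] [Module ℂ W]

/-- averaging operator of a representation -/
noncomputable def avg (τ : Representation ℂ G W) : Module.End ℂ W :=
  ((Fintype.card G : ℂ))⁻¹ • ∑ g : G, τ g

theorem card_ne_zero' : (Fintype.card G : ℂ) ≠ 0 := by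
  exact_mod_cast Fintype.card_ne_zero

theorem mul_avg (τ : Representation ℂ G W) (h : G) : τ h * avg τ = avg τ := by
  unfold avg
  rw [mul_smul_comm, Finset.mul_sum]
  congr 1
  have h1 : ∑ g : G, τ h * τ g = ∑ g : G, τ (h * g) :=
    Finset.sum_congr rfl (fun g _ => (map_mul τ h g).symm)
  rw [h1]
  exact Equiv.sum_comp (Equiv.mulLeft h) (fun g => τ g)

theorem avg_mul_avg (τ : Representation ℂ G W) : avg τ * avg τ = avg τ := by
  have h1 : ∀ P : Module.End ℂ W, avg τ * P = ((Fintype.card G : ℂ))⁻¹ • ∑ g : G, τ g * P := by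
    intro P
    unfold avg
    rw [smul_mul_assoc, Finset.sum_mul]
  rw [h1]
  simp only [mul_avg]
  rw [Finset.sum_const, Finset.card_univ, ← Nat.cast_smul_eq_nsmul ℂ, smul_smul,
    inv_mul_cancel₀ card_ne_zero', one_smul]

theorem comm_avg (τ : Representation ℂ G W) (A : Module.End ℂ W) (hA : ∀ g, A * τ g = τ g * A) :
    A * avg τ = avg τ * A := by
  unfold avg
  rw [mul_smul_comm, smul_mul_assoc, Finset.mul_sum, Finset.sum_mul]
  congr 1
  exact Finset.sum_congr rfl (fun g _ => hA g)

theorem trace_mul_avg (τ : Representation ℂ G W) (A : Module.End ℂ W) :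
    LinearMap.trace ℂ W (A * avg τ) = ((Fintype.card G : ℂ))⁻¹ * ∑ g : G, LinearMap.trace ℂ W (A * τ g) := by
  unfold avg
  rw [mul_smul_comm, map_smul, smul_eq_mul, Finset.mul_sum, map_sum]

theorem avg_eq_zero [FiniteDimensional ℂ W] (τ : Representation ℂ G W) (h0 : ∑ g : G, LinearMap.trace ℂ W (τ g) = 0) :
    avg τ = 0 := by
  have hproj : LinearMap.IsProj (LinearMap.range (avg τ)) (avg τ) := by
    refine ⟨fun x => LinearMap.mem_range_self _ x, ?_⟩
    rintro _ ⟨y, rfl⟩
    calc (avg τ) ((avg τ) y) = (avg τ * avg τ) y := rfl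
      _ = avg τ y := by rw [avg_mul_avg]
  have htr := hproj.trace
  have h1 : LinearMap.trace ℂ W (avg τ) = 0 := by
    have := trace_mul_avg τ 1
    simp only [one_mul] at this
    rw [this, h0, mul_zero]
  rw [h1] at htr
  have h2 : finrank ℂ (LinearMap.range (avg τ)) = 0 := by exact_mod_cast htr.symm
  have h3 : LinearMap.range (avg τ) = ⊥ := Submodule.finrank_eq_zero.mp h2
  exact LinearMap.range_eq_bot.mp h3

end Avg

/-- the orbital relation of the pair (a,b) -/
def orbRel (G : Type*) [Group G] {Ω : Type*} [MulAction G Ω] (a b x y : Ω) : Prop :=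
  ∃ h : G, h • a = x ∧ h • b = y

section Perm
variable {G : Type*} [Group G] [Fintype G] {Ω : Type*} [Fintype Ω] [DecidableEq Ω] [MulAction G Ω]

theorem orbRel_smul (a b x y : Ω) (g : G) : orbRel G a b (g • x) (g • y) ↔ orbRel G a b x y := by
  constructor
  · rintro ⟨h, h1, h2⟩
    refine ⟨g⁻¹ * h, ?_, ?_⟩
    · rw [mul_smul, h1, inv_smul_smul]
    · rw [mul_smul, h2, inv_smul_smul]
  · rintro ⟨h, h1, h2⟩
    exact ⟨g * h, by rw [mul_smul, h1], by rw [mul_smul, h2]⟩

theorem orbRel_base (a b y : Ω) :
    orbRel G a b a y ↔ y ∈ MulAction.orbit (MulAction.stabilizer G a) b := by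
  constructor
  · rintro ⟨h, h1, h2⟩
    exact ⟨⟨h, h1⟩, h2⟩
  · rintro ⟨⟨h, h1⟩, h2⟩
    exact ⟨h, h1, h2⟩

open Classical in
theorem card_fiber [MulAction.IsPretransitive G Ω] (x y : Ω) :
    (Finset.univ.filter (fun g : G => g • x = y)).card * Fintype.card Ω = Fintype.card G := by
  obtain ⟨k, hk⟩ := MulAction.exists_smul_eq G x y
  have h1 : (Finset.univ.filter (fun g : G => g • x = y)).card
      = Fintype.card (MulAction.stabilizer G x) := by
    rw [← Fintype.card_subtype]
    apply Fintype.card_congr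
    refine ⟨fun g => ⟨k⁻¹ * g.1, ?_⟩, fun s => ⟨k * s.1, ?_⟩, ?_, ?_⟩
    · rw [MulAction.mem_stabilizer_iff, mul_smul, g.2, ← hk, inv_smul_smul]
    · rw [mul_smul, s.2, hk]
    · intro g; apply Subtype.ext; simp
    · intro s; apply Subtype.ext; simp
  rw [h1]
  have h2 := MulAction.card_orbit_mul_card_stabilizer_eq_card_group G x
  have h3 : Fintype.card (MulAction.orbit G x) = Fintype.card Ω := by
    apply Fintype.card_congr
    rw [MulAction.orbit_eq_univ]
    exact Equiv.Set.univ Ω
  rw [h3] at h2
  rw [mul_comm]; exact h2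

open Classical in
theorem card_row [MulAction.IsPretransitive G Ω] (a b x : Ω) :
    (Finset.univ.filter (fun y : Ω => orbRel G a b x y)).card
      = Nat.card (MulAction.orbit (MulAction.stabilizer G a) b) := by
  obtain ⟨k, hk⟩ := MulAction.exists_smul_eq G a x
  subst hk
  rw [Nat.card_eq_fintype_card, ← Fintype.card_subtype]
  apply Fintype.card_congr
  refine ⟨fun y => ⟨k⁻¹ • y.1, ?_⟩, fun z => ⟨k • z.1, ?_⟩, ?_, ?_⟩
  · rw [← orbRel_base]
    have := y.2
    rw [← orbRel_smul a b a (k⁻¹ • y.1) k, smul_inv_smul]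
    exact this
  · have := (orbRel_base a b z.1).mpr z.2
    rw [orbRel_smul]
    exact this
  · intro y; apply Subtype.ext; simp
  · intro z; apply Subtype.ext; simp

open Classical in
theorem sum_card_orbRel [MulAction.IsPretransitive G Ω] (a b : Ω) :
    ∑ g : G, (Finset.univ.filter (fun x : Ω => orbRel G a b x (g • x))).card
      = Fintype.card G * Nat.card (MulAction.orbit (MulAction.stabilizer G a) b) := by
  have hswap := Finset.sum_card_bipartiteAbove_eq_sum_card_bipartiteBelow
    (s := (Finset.univ : Finset G)) (t := (Finset.univ : Finset Ω))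
    (fun (g : G) (x : Ω) => orbRel G a b x (g • x))
  simp only [Finset.bipartiteAbove, Finset.bipartiteBelow] at hswap
  rw [hswap]
  have hx : ∀ x : Ω, (Finset.univ.filter (fun g : G => orbRel G a b x (g • x))).card * Fintype.card Ω
      = Fintype.card G * Nat.card (MulAction.orbit (MulAction.stabilizer G a) b) := by
    intro x
    rw [Finset.card_eq_sum_card_fiberwise (f := fun g : G => g • x)
      (t := Finset.univ.filter (fun y : Ω => orbRel G a b x y))]
    · rw [Finset.sum_mul]
      have : ∀ y ∈ Finset.univ.filter (fun y : Ω => orbRel G a b x y),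
          ((Finset.univ.filter (fun g : G => orbRel G a b x (g • x))).filter
            (fun g => g • x = y)).card * Fintype.card Ω = Fintype.card G := by
        intro y hy
        rw [Finset.mem_filter] at hy
        rw [← card_fiber (G := G) x y]
        congr 2
        ext g
        simp only [Finset.mem_filter, Finset.mem_univ, true_and]
        constructor
        · exact fun h => h.2
        · intro h
          exact ⟨by rw [h]; exact hy.2, h⟩
      rw [Finset.sum_congr rfl this, Finset.sum_const, card_row, smul_eq_mul, mul_comm]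
    · intro g hg
      simp only [Finset.coe_filter, Finset.mem_univ, true_and] at hg ⊢
      exact hg
  have hpos : 0 < Fintype.card Ω := by
    haveI : Nonempty Ω := ⟨a⟩
    exact Fintype.card_pos
  apply Nat.eq_of_mul_eq_mul_right hpos
  rw [Finset.sum_mul, Finset.sum_congr rfl (fun x _ => hx x), Finset.sum_const, Finset.card_univ,
    smul_eq_mul]
  ring


/-- permutation matrix -/
def Pm (g : G) : Matrix Ω Ω ℂ := fun x y => if g • y = x then 1 else 0

theorem permRep_eq_toLin' (g : G) : Cfsg.permRep ℂ G Ω g = Matrix.toLin' (Pm g) := by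
  apply LinearMap.ext
  intro f
  funext x
  rw [Matrix.toLin'_apply, Matrix.mulVec, dotProduct]
  show f (g⁻¹ • x) = _
  rw [Finset.sum_eq_single (g⁻¹ • x)]
  · simp [Pm]
  · intro y _ hy
    have : g • y ≠ x := fun h => hy (by rw [← h, inv_smul_smul])
    simp [Pm, this]
  · intro h; exact absurd (Finset.mem_univ _) h

open Classical in
/-- the integer orbital matrix -/
noncomputable def Bz (G : Type*) [Group G] {Ω : Type*} [MulAction G Ω] (a b : Ω) : Matrix Ω Ω ℤ :=
  fun x y => if orbRel G a b x y then 1 else 0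

/-- the complex orbital matrix -/
noncomputable def Bm (G : Type*) [Group G] {Ω : Type*} [MulAction G Ω] (a b : Ω) : Matrix Ω Ω ℂ :=
  (Bz G a b).map (fun z : ℤ => (z : ℂ))

open Classical in
theorem Bm_apply (a b x y : Ω) : Bm G a b x y = if orbRel G a b x y then 1 else 0 := by
  show ((Bz G a b x y : ℤ) : ℂ) = _
  simp only [Bz]
  split_ifs <;> simp

theorem Pm_mul_Bm (a b : Ω) (g : G) : Pm g * Bm G a b = Bm G a b * Pm g := by
  classical
  ext x y
  rw [Matrix.mul_apply, Matrix.mul_apply]
  rw [Finset.sum_eq_single (g⁻¹ • x), Finset.sum_eq_single (g • y)]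
  · simp only [Pm, smul_inv_smul, if_true, one_mul, mul_one, Bm_apply]
    have : orbRel G a b (g⁻¹ • x) y ↔ orbRel G a b x (g • y) := by
      rw [← orbRel_smul a b (g⁻¹ • x) y g, smul_inv_smul]
    simp only [this]
  · intro z _ hz
    simp [Pm, Ne.symm hz]
  · intro h; exact absurd (Finset.mem_univ _) h
  · intro z _ hz
    have : g • z ≠ x := fun h => hz (by rw [← h, inv_smul_smul])
    simp [Pm, this]
  · intro h; exact absurd (Finset.mem_univ _) h

open Classical in
theorem trace_Bm_mul_Pm (a b : Ω) (g : G) :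
    (Bm G a b * Pm g).trace = ((Finset.univ.filter (fun x : Ω => orbRel G a b x (g • x))).card : ℂ) := by
  rw [Matrix.trace]
  simp only [Matrix.diag_apply]
  have : ∀ x : Ω, (Bm G a b * Pm g : Matrix Ω Ω ℂ) x x =
      if orbRel G a b x (g • x) then 1 else 0 := by
    intro x
    rw [Matrix.mul_apply, Finset.sum_eq_single (g • x)]
    · simp [Pm, Bm_apply]
    · intro z _ hz
      simp [Pm, Ne.symm hz]
    · intro h; exact absurd (Finset.mem_univ _) h
  simp only [this]
  rw [Finset.sum_boole]

theorem trace_Bm (a b : Ω) (hab : b ≠ a) : (Bm G a b).trace = 0 := by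
  classical
  rw [Matrix.trace]
  apply Finset.sum_eq_zero
  intro x _
  rw [Matrix.diag_apply, Bm_apply, if_neg]
  rintro ⟨h, h1, h2⟩
  apply hab
  have := h1.trans h2.symm
  exact (MulAction.injective h this).symm

theorem Pm_one : Pm (1 : G) = (1 : Matrix Ω Ω ℂ) := by
  ext x y
  simp [Pm, Matrix.one_apply, eq_comm]

theorem isIntegral_Bm (a b : Ω) : IsIntegral ℤ (Bm G a b) := by
  have h1 : Bm G a b = ((Int.castRingHom ℂ).mapMatrix (m := Ω)).toIntAlgHom (Bz G a b) := by
    ext x y
    simp [Bm]
  rw [h1]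
  exact IsIntegral.map ((Int.castRingHom ℂ).mapMatrix (m := Ω)).toIntAlgHom
    (Algebra.IsIntegral.isIntegral (R := ℤ) (Bz G a b))


end Perm

end Cfsg.Agent.Lib.helper6.PermChar
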