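import Cfsg.Agent.Lib.helper7.BD.Defs

set_option autoImplicit false

universe u v w

namespace Cfsg.Agent.Lib.helper7.BD

section C
variable {F : Type*} [Field F] {G : Type u} [Group G] [Fintype G]
variable {V : Type*} [AddCommGroup V] [Module F V] {W : Type*} [AddCommGroup W] [Module F W]

/-- the summand of the relative trace -/
noncomputable def bdtrng_c (ρ : Representation F G V) (σ : Representation F G W) (φ : V →ₗ[F] W)
    (g : G) : V →ₗ[F] W := σ g ∘ₗ φ ∘ₗ ρ g⁻¹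

theorem bdtrng_c_mul_right (N : Subgroup G) (ρ : Representation F G V)
    (σ : Representation F G W) (φ : V →ₗ[F] W)
    (hφ : IsHom (ρ.comp N.subtype) (σ.comp N.subtype) φ) (g : G) (n : N) :
    bdtrng_c ρ σ φ (g * (n : G)) = bdtrng_c ρ σ φ g := by
  refine LinearMap.ext fun v => ?_
  unfold bdtrng_c
  simp only [LinearMap.comp_apply]
  have h1 : ρ (g * (n : G))⁻¹ v = ρ (n : G)⁻¹ (ρ g⁻¹ v) := by
    rw [mul_inv_rev, map_mul, Module.End.mul_apply]
  have h2 : φ (ρ (n : G)⁻¹ (ρ g⁻¹ v)) = σ (n : G)⁻¹ (φ (ρ g⁻¹ v)) := by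
    have := hφ.apply (n⁻¹ : N) (ρ g⁻¹ v)
    simpa using this
  rw [h1, h2, map_mul, Module.End.mul_apply, ← Module.End.mul_apply (σ (n : G)), ← map_mul,
    mul_inv_cancel, map_one, Module.End.one_apply]

theorem bdtrng_c_out (N : Subgroup G) (ρ : Representation F G V)
    (σ : Representation F G W) (φ : V →ₗ[F] W)
    (hφ : IsHom (ρ.comp N.subtype) (σ.comp N.subtype) φ) (g : G) :
    bdtrng_c ρ σ φ (Quotient.out (QuotientGroup.mk g : G ⧸ N)) = bdtrng_c ρ σ φ g := by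
  obtain ⟨n, hn⟩ := QuotientGroup.mk_out_eq_mul N g
  rw [hn]
  exact bdtrng_c_mul_right N ρ σ φ hφ g n

theorem bdtrng_c_smul (ρ : Representation F G V)
    (σ : Representation F G W) (φ : V →ₗ[F] W) (h g : G) :
    σ h ∘ₗ bdtrng_c ρ σ φ g = bdtrng_c ρ σ φ (h * g) ∘ₗ ρ h := by
  refine LinearMap.ext fun v => ?_
  unfold bdtrng_c
  simp only [LinearMap.comp_apply]
  have h1 : ρ (h * g)⁻¹ (ρ h v) = ρ g⁻¹ v := by
    rw [← Module.End.mul_apply, ← map_mul]
    congr 2
    group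
  rw [h1, map_mul, Module.End.mul_apply]

/-- TRNG -/
theorem trSub_isHom (N : Subgroup G) [Fintype (G ⧸ N)] (ρ : Representation F G V)
    (σ : Representation F G W) (φ : V →ₗ[F] W)
    (hφ : IsHom (ρ.comp N.subtype) (σ.comp N.subtype) φ) : IsHom ρ σ (trSub N ρ σ φ) := by
  have htr : trSub N ρ σ φ = ∑ q : G ⧸ N, bdtrng_c ρ σ φ (Quotient.out q) := rfl
  rw [isHom_iff]
  intro h v
  rw [htr, LinearMap.sum_apply, LinearMap.sum_apply, map_sum]
  symm
  refine Fintype.sum_equiv (MulAction.toPerm h) _ _ fun q => ?_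
  have h1 := LinearMap.congr_fun (bdtrng_c_smul ρ σ φ h (Quotient.out q)) v
  simp only [LinearMap.comp_apply] at h1
  rw [h1]
  have hq : (MulAction.toPerm h q : G ⧸ N) = QuotientGroup.mk (h * Quotient.out q) := by
    conv_lhs => rw [← QuotientGroup.out_eq' q]
    rfl
  rw [hq, bdtrng_c_out N ρ σ φ hφ]

end C

end Cfsg.Agent.Lib.helper7.BD
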