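import Cfsg.Agent.Lib.helper7.BD.Defs

set_option autoImplicit false

universe u v w

namespace Cfsg.Agent.Lib.helper7.BD

section D
variable {F : Type*} [Field F]

theorem bdavg_comm_pow {Y : Type v} [AddCommGroup Y] [Module F Y] (π a : Module.End F Y)
    (h : π * a = a * π) (k : ℕ) : π * a ^ k = a ^ k * π := by
  have hc : Commute π a := h
  exact (hc.pow_right k)

/-- AVG -/
theorem exists_equivariant_idem {H : Type u} [Group H] [Fintype H] {p : ℕ} [Fact p.Prime] [CharP F p]
    (x : H) (L : Subgroup H) (hs : LocalSetup p x L) {Y : Type v} [AddCommGroup Y] [Module F Y]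
    (ρ : Representation F H Y) (U : Submodule F Y) (hU : ∀ h : H, ∀ y ∈ U, ρ h y ∈ U)
    (π : Module.End F Y) (hπx : π * ρ x = ρ x * π) (hπ : π * π = π) (hrange : LinearMap.range π = U) :
    ∃ π' : Y →ₗ[F] Y, IsHom ρ ρ π' ∧ π' ∘ₗ π' = π' ∧ LinearMap.range π' = U := by
  classical
  haveI : Fintype ↥L := Fintype.ofFinite _
  -- the order of `L` is invertible
  have hc : ((Fintype.card ↥L : ℕ) : F) ≠ 0 := by
    intro h0
    apply hs.cardL
    rw [Nat.card_eq_fintype_card]
    exact (CharP.cast_eq_zero_iff F p _).mp h0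
  -- basic facts on `π`
  have hπU : ∀ y, π y ∈ U := fun y => by
    rw [← hrange]
    exact ⟨y, rfl⟩
  have hπfix : ∀ y ∈ U, π y = y := by
    intro y hy
    rw [← hrange] at hy
    obtain ⟨z, rfl⟩ := hy
    rw [← Module.End.mul_apply, hπ]
  have hinv : ∀ (h : H) (y : Y), ρ h (ρ h⁻¹ y) = y := by
    intro h y
    rw [← Module.End.mul_apply, ← map_mul, mul_inv_cancel, map_one, Module.End.one_apply]
  have hinv' : ∀ (h : H) (y : Y), ρ h⁻¹ (ρ h y) = y := by
    intro h y
    rw [← Module.End.mul_apply, ← map_mul, inv_mul_cancel, map_one, Module.End.one_apply]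
  -- the average
  set A : Module.End F Y := ∑ l : ↥L, ρ (l : H) * π * ρ (l : H)⁻¹ with hA
  have hAapp : ∀ y, A y = ∑ l : ↥L, ρ (l : H) (π (ρ (l : H)⁻¹ y)) := by
    intro y
    rw [hA, LinearMap.sum_apply]
    rfl
  -- commutes with `L`
  have hAL : ∀ l' : ↥L, ∀ y, A (ρ (l' : H) y) = ρ (l' : H) (A y) := by
    intro l' y
    rw [hAapp, hAapp, map_sum]
    symm
    refine Fintype.sum_equiv (Equiv.mulLeft l') _ _ fun l => ?_
    rw [Equiv.coe_mulLeft]
    have e1 : ρ ((l' * l : ↥L) : H)⁻¹ (ρ (l' : H) y) = ρ (l : H)⁻¹ y := by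
      rw [← Module.End.mul_apply, ← map_mul]
      congr 2
      rw [Subgroup.coe_mul]
      group
    rw [e1, Subgroup.coe_mul, map_mul, Module.End.mul_apply]
  -- commutes with `x`
  have hAx : ∀ y, A (ρ x y) = ρ x (A y) := by
    intro y
    rw [hAapp, hAapp, map_sum]
    refine Finset.sum_congr rfl fun l _ => ?_
    obtain ⟨k, hk⟩ := hs.norm ((l : H)⁻¹)
    rw [inv_inv] at hk
    -- hk : l⁻¹ * x * l = x ^ k
    have e1 : ρ (l : H)⁻¹ (ρ x y) = (ρ x ^ k) (ρ (l : H)⁻¹ y) := by
      rw [← map_pow, ← hk, ← Module.End.mul_apply, ← Module.End.mul_apply, ← map_mul, ← map_mul]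
      congr 2
      group
    have e2 : π ((ρ x ^ k) (ρ (l : H)⁻¹ y)) = (ρ x ^ k) (π (ρ (l : H)⁻¹ y)) := by
      have := bdavg_comm_pow π (ρ x) hπx k
      exact LinearMap.congr_fun this _
    have e3 : ∀ z, ρ (l : H) ((ρ x ^ k) z) = ρ x (ρ (l : H) z) := by
      intro z
      rw [← map_pow, ← hk, ← Module.End.mul_apply, ← Module.End.mul_apply, ← map_mul, ← map_mul]
      congr 2
      group
    rw [e1, e2, e3]
  -- equivariance of `A`
  have hAH : ∀ (h : H) (y : Y), A (ρ h y) = ρ h (A y) := by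
    intro h y
    obtain ⟨k, l, hl, rfl⟩ := hs.gen h
    have hxk : ∀ (k : ℕ) (y : Y), A (ρ (x ^ k) y) = ρ (x ^ k) (A y) := by
      intro k
      induction k with
      | zero => intro y; simp
      | succ k ih =>
        intro y
        rw [pow_succ, map_mul, Module.End.mul_apply, Module.End.mul_apply, ih, hAx]
    rw [map_mul, Module.End.mul_apply, Module.End.mul_apply, hxk, hAL ⟨l, hl⟩]
  -- `A` maps into `U`, and is `|L|` on `U`
  have hAU : ∀ y, A y ∈ U := by
    intro y
    rw [hAapp]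
    exact Submodule.sum_mem _ fun l _ => hU _ _ (hπU _)
  have hAfix : ∀ y ∈ U, A y = ((Fintype.card ↥L : ℕ) : F) • y := by
    intro y hy
    rw [hAapp]
    have : ∀ l : ↥L, ρ (l : H) (π (ρ (l : H)⁻¹ y)) = y := by
      intro l
      rw [hπfix _ (hU _ _ hy), hinv]
    rw [Finset.sum_congr rfl fun l _ => this l, Finset.sum_const, Finset.card_univ,
      Nat.cast_smul_eq_nsmul]
  refine ⟨((Fintype.card ↥L : ℕ) : F)⁻¹ • A, ?_, ?_, ?_⟩
  · rw [isHom_iff]
    intro h y
    rw [LinearMap.smul_apply, LinearMap.smul_apply, hAH, map_smul]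
  · have hfix : ∀ y ∈ U, (((Fintype.card ↥L : ℕ) : F)⁻¹ • A) y = y := by
      intro y hy
      rw [LinearMap.smul_apply, hAfix y hy, smul_smul, inv_mul_cancel₀ hc, one_smul]
    refine LinearMap.ext fun y => ?_
    rw [LinearMap.comp_apply]
    apply hfix
    rw [LinearMap.smul_apply]
    exact U.smul_mem _ (hAU y)
  · apply le_antisymm
    · rintro y ⟨z, rfl⟩
      rw [LinearMap.smul_apply]
      exact U.smul_mem _ (hAU z)
    · intro y hy
      refine ⟨y, ?_⟩
      rw [LinearMap.smul_apply, hAfix y hy, smul_smul, inv_mul_cancel₀ hc, one_smul]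

end D

end Cfsg.Agent.Lib.helper7.BD
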