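import Cfsg.Agent.Lib.helper7.BD.Defs

set_option autoImplicit false

universe u v w

namespace Cfsg.Agent.Lib.helper7.BD

section D
variable {F : Type*} [Field F]

theorem bdfree_pow_zero {Y : Type v} [AddCommGroup Y] [Module F Y] (u : Module.End F Y) (n : ℕ)
    (hun : u ^ (n + 1) = 0) (m : ℕ) (hm : n + 1 ≤ m) : u ^ m = 0 := by
  obtain ⟨k, rfl⟩ := Nat.exists_eq_add_of_le hm
  rw [pow_add, hun, zero_mul]

/-- `Ψ(s) = ∑ i, u^i s_i` -/
noncomputable def bdfree_Psi {Y : Type v} [AddCommGroup Y] [Module F Y] (u : Module.End F Y) (n : ℕ)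
    (S₀ : Submodule F Y) : (Fin (n + 1) → S₀) →ₗ[F] Y :=
  ∑ i : Fin (n + 1), (u ^ (i : ℕ)) ∘ₗ S₀.subtype ∘ₗ LinearMap.proj i

theorem bdfree_Psi_apply {Y : Type v} [AddCommGroup Y] [Module F Y] (u : Module.End F Y) (n : ℕ)
    (S₀ : Submodule F Y) (s : Fin (n + 1) → S₀) :
    bdfree_Psi u n S₀ s = ∑ i : Fin (n + 1), (u ^ (i : ℕ)) (s i : Y) := by
  unfold bdfree_Psi
  rw [LinearMap.sum_apply]
  rfl

theorem bdfree_Psi_single {Y : Type v} [AddCommGroup Y] [Module F Y] (u : Module.End F Y) (n : ℕ)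
    (S₀ : Submodule F Y) (i : Fin (n + 1)) (t : S₀) :
    bdfree_Psi u n S₀ (Pi.single i t) = (u ^ (i : ℕ)) (t : Y) := by
  rw [bdfree_Psi_apply, Finset.sum_eq_single i]
  · rw [Pi.single_eq_same]
  · intro j _ hj
    rw [Pi.single_eq_of_ne hj]
    simp
  · intro h
    exact absurd (Finset.mem_univ i) h

theorem bdfree_pow_Psi {Y : Type v} [AddCommGroup Y] [Module F Y] (u : Module.End F Y) (n : ℕ)
    (S₀ : Submodule F Y) (s : Fin (n + 1) → S₀) (m : ℕ) :
    (u ^ m) (bdfree_Psi u n S₀ s) = ∑ j : Fin (n + 1), (u ^ (m + (j : ℕ))) (s j : Y) := by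
  rw [bdfree_Psi_apply, map_sum]
  refine Finset.sum_congr rfl fun j _ => ?_
  rw [← Module.End.mul_apply, ← pow_add]

theorem bdfree_Psi_injective {Y : Type v} [AddCommGroup Y] [Module F Y] (u : Module.End F Y) (n : ℕ)
    (hun : u ^ (n + 1) = 0) (S₀ : Submodule F Y)
    (hinj : ∀ s ∈ S₀, (u ^ n) s = 0 → s = 0) : LinearMap.ker (bdfree_Psi u n S₀) = ⊥ := by
  rw [LinearMap.ker_eq_bot']
  intro s hs
  have key : ∀ k : ℕ, ∀ i : Fin (n + 1), (i : ℕ) = k → s i = 0 := by
    intro k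
    induction k using Nat.strong_induction_on with
    | _ k ih =>
      intro i hik
      have h1 := bdfree_pow_Psi u n S₀ s (n - (i : ℕ))
      rw [hs, map_zero] at h1
      rw [Finset.sum_eq_single i] at h1
      · have h2 : n - (i : ℕ) + (i : ℕ) = n := Nat.sub_add_cancel (Nat.lt_succ_iff.mp i.2)
        rw [h2] at h1
        have := hinj (s i : Y) (s i).2 h1.symm
        exact Subtype.ext this
      · intro j _ hji
        rcases lt_or_gt_of_ne (fun h => hji (Fin.ext h) : (j : ℕ) ≠ (i : ℕ)) with hlt | hgt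
        · rw [ih (j : ℕ) (by omega) j rfl]
          simp
        · rw [bdfree_pow_zero u n hun _ (by omega)]
          simp
      · intro h
        exact absurd (Finset.mem_univ i) h
  funext i
  exact key (i : ℕ) i rfl

theorem bdfree_range_Psi {Y : Type v} [AddCommGroup Y] [Module F Y] (u : Module.End F Y) (n : ℕ)
    (S₀ : Submodule F Y) :
    LinearMap.range (bdfree_Psi u n S₀) = ⨆ i : Fin (n + 1), S₀.map (u ^ (i : ℕ)) := by
  apply le_antisymm
  · rintro y ⟨s, rfl⟩
    rw [bdfree_Psi_apply]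
    refine Submodule.sum_mem _ fun i _ => ?_
    exact Submodule.mem_iSup_of_mem i ⟨(s i : Y), (s i).2, rfl⟩
  · refine iSup_le fun i => ?_
    rintro y ⟨t, ht, rfl⟩
    exact ⟨Pi.single i ⟨t, ht⟩, bdfree_Psi_single u n S₀ i ⟨t, ht⟩⟩

/-- FREE (linear algebra) -/
theorem exists_retraction_of_free {Y : Type v} [AddCommGroup Y] [Module F Y] [FiniteDimensional F Y]
    (u : Module.End F Y) (n : ℕ) (hun : u ^ (n + 1) = 0) (S₀ : Submodule F Y)
    (hinj : ∀ s ∈ S₀, (u ^ n) s = 0 → s = 0) :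
    ∃ π : Module.End F Y, π * u = u * π ∧ π * π = π ∧
      LinearMap.range π = ⨆ i : Fin (n + 1), S₀.map (u ^ (i : ℕ)) := by
  classical
  obtain ⟨Ψ', hΨ'⟩ := LinearMap.exists_leftInverse_of_injective (bdfree_Psi u n S₀)
    (bdfree_Psi_injective u n hun S₀ hinj)
  have hΨ'a : ∀ s, Ψ' (bdfree_Psi u n S₀ s) = s := fun s => LinearMap.congr_fun hΨ' s
  set Λ : Y →ₗ[F] S₀ := LinearMap.proj (Fin.last n) ∘ₗ Ψ' with hΛdef
  have hΛ : ∀ (k : ℕ) (t : S₀), Λ ((u ^ k) (t : Y)) = if k = n then t else 0 := by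
    intro k t
    by_cases hk : k < n + 1
    · have h1 := bdfree_Psi_single u n S₀ ⟨k, hk⟩ t
      simp only at h1
      rw [← h1, hΛdef, LinearMap.comp_apply, hΨ'a, LinearMap.proj_apply]
      by_cases hkn : k = n
      · subst hkn
        rw [if_pos rfl]
        exact Pi.single_eq_same _ _
      · rw [if_neg hkn]
        apply Pi.single_eq_of_ne
        intro h
        apply hkn
        have := congrArg Fin.val h
        simpa using this.symm
    · rw [bdfree_pow_zero u n hun k (by omega)]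
      rw [if_neg (by omega)]
      simp
  set Θ : Y →ₗ[F] (Fin (n + 1) → S₀) :=
    LinearMap.pi (fun i : Fin (n + 1) => Λ ∘ₗ (u ^ (n - (i : ℕ)))) with hΘdef
  have hΘ : ∀ (y : Y) (i : Fin (n + 1)), Θ y i = Λ ((u ^ (n - (i : ℕ))) y) := fun y i => rfl
  have hΘΨ : ∀ s, Θ (bdfree_Psi u n S₀ s) = s := by
    intro s
    funext i
    rw [hΘ, bdfree_pow_Psi, map_sum, Finset.sum_eq_single i]
    · rw [hΛ, if_pos (Nat.sub_add_cancel (Nat.lt_succ_iff.mp i.2))]
    · intro j _ hji
      rw [hΛ, if_neg]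
      intro h
      apply hji
      apply Fin.ext
      have := Nat.lt_succ_iff.mp i.2
      omega
    · intro h
      exact absurd (Finset.mem_univ i) h
  refine ⟨bdfree_Psi u n S₀ ∘ₗ Θ, ?_, ?_, ?_⟩
  · -- commutes with u
    refine LinearMap.ext fun y => ?_
    rw [Module.End.mul_apply, Module.End.mul_apply, LinearMap.comp_apply, LinearMap.comp_apply,
      bdfree_Psi_apply, bdfree_Psi_apply, map_sum]
    rw [Fin.sum_univ_succ, Fin.sum_univ_castSucc (n := n)]
    have h0 : (Θ (u y) 0 : Y) = 0 := by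
      rw [hΘ]
      have : (u ^ (n - ((0 : Fin (n + 1)) : ℕ))) (u y) = (u ^ (n + 1)) y := by
        rw [← Module.End.mul_apply, ← pow_succ]
        simp
      rw [this, hun]
      simp
    have hlast : u ((u ^ ((Fin.last n : Fin (n + 1)) : ℕ)) (Θ y (Fin.last n) : Y)) = 0 := by
      rw [← Module.End.mul_apply, ← pow_succ', Fin.val_last, hun]
      simp
    rw [h0, hlast, map_zero, zero_add, add_zero]
    refine Finset.sum_congr rfl fun i _ => ?_
    have h1 : Θ (u y) i.succ = Θ y i.castSucc := by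
      rw [hΘ, hΘ]
      congr 1
      rw [← Module.End.mul_apply, ← pow_succ]
      congr 2
      simp only [Fin.val_succ, Fin.val_castSucc]
      have := i.2
      omega
    rw [h1, ← Module.End.mul_apply u, ← pow_succ']
    simp only [Fin.val_succ, Fin.val_castSucc]
  · -- idempotent
    refine LinearMap.ext fun y => ?_
    rw [Module.End.mul_apply, LinearMap.comp_apply, LinearMap.comp_apply, hΘΨ]
  · rw [← bdfree_range_Psi]
    apply le_antisymm
    · rintro y ⟨z, rfl⟩
      exact ⟨Θ z, rfl⟩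
    · rintro y ⟨s, rfl⟩
      exact ⟨bdfree_Psi u n S₀ s, by rw [LinearMap.comp_apply, hΘΨ]⟩

end D

end Cfsg.Agent.Lib.helper7.BD
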