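import Mathlib
import Cfsg.Prelude.Def_LieExceptional
import Cfsg.Agent.Lib.Helper1.FrobConj

set_option autoImplicit false

open scoped Pointwise

namespace Cfsg.Agent.Lib.helper6.ZassNormal

open Cfsg.Agent.Lib.Helper1 Cfsg.Agent.Lib.Helper19

section FrobPerm

variable {X Δ : Type*} [Group X] [MulAction X Δ]

/-- Permutation-group form of Frobenius' theorem. -/
theorem frobenius_perm [Finite X] [Finite Δ]
    (htr : MulAction.IsPretransitive X Δ)
    (h1 : ∀ x : X, ∀ c d : Δ, c ≠ d → x • c = c → x • d = d → x = 1)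
    (c : Δ) (hc : MulAction.stabilizer X c ≠ ⊥) (hne : ∃ d : Δ, d ≠ c) :
    ∃ M : Subgroup X, M.Normal ∧ (∀ x : X, x ∈ M ↔ (x = 1 ∨ ∀ d : Δ, x • d ≠ d)) ∧
      (∀ d e : Δ, ∃ m ∈ M, m • d = e) ∧
      (∀ L : Subgroup X, L.Normal → L ≤ M ∨ M ≤ L) := by
  classical
  set H := MulAction.stabilizer X c with hH
  have hconj : ∀ g x : X, x ∈ MulAut.conj g • H ↔ x • (g • c) = g • c := by
    intro g x
    rw [mem_conj_smul_iff', MulAction.mem_stabilizer_iff, mul_smul, mul_smul, inv_smul_eq_iff]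
  have hF : Cfsg.IsFrobeniusComplement H := by
    refine ⟨hc, ?_, ?_⟩
    · intro htop
      obtain ⟨d, hd⟩ := hne
      obtain ⟨x, hx⟩ := MulAction.exists_smul_eq X c d
      have : x ∈ H := by rw [htop]; trivial
      rw [MulAction.mem_stabilizer_iff] at this
      exact hd (hx.symm.trans this)
    · intro g hg
      rw [Subgroup.eq_bot_iff_forall]
      intro y hy
      obtain ⟨hy1, hy2⟩ := Subgroup.mem_inf.mp hy
      rw [hconj] at hy2
      have hgc : g • c ≠ c := fun h => hg (MulAction.mem_stabilizer_iff.mpr h)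
      exact h1 y c (g • c) (Ne.symm hgc) (MulAction.mem_stabilizer_iff.mp hy1) hy2
  obtain ⟨N, hN, hNn, hcompl⟩ := frobenius_theorem H hF
  have hmem : ∀ x : X, x ∈ N ↔ (x = 1 ∨ ∀ d : Δ, x • d ≠ d) := by
    intro x
    have : x ∈ N ↔ x ∈ Cfsg.frobeniusKernel H := by rw [← hN]; rfl
    rw [this]
    unfold Cfsg.frobeniusKernel
    constructor
    · rintro (h | h)
      · exact Or.inl h
      · right
        intro d hd
        obtain ⟨g, rfl⟩ := MulAction.exists_smul_eq X c d
        exact h g ((hconj g x).mpr hd)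
    · rintro (h | h)
      · exact Or.inl h
      · right
        intro g hg
        exact h (g • c) ((hconj g x).mp hg)
  have hcard : Nat.card N = Nat.card Δ := by
    have e1 : Nat.card N = Nat.card (Cfsg.frobeniusKernel H) :=
      Nat.card_congr (Equiv.setCongr hN)
    rw [e1, card_frobeniusKernel H hF, hH]
    exact MulAction.index_stabilizer_of_transitive X c
  have hinj : Function.Injective (fun m : N => (m : X) • c) := by
    intro m m' hmm
    have hfix : ((m' : X)⁻¹ * (m : X)) • c = c := by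
      rw [mul_smul, inv_smul_eq_iff]; exact hmm
    have hin : (m' : X)⁻¹ * (m : X) ∈ N := N.mul_mem (N.inv_mem m'.2) m.2
    rcases (hmem _).mp hin with h | h
    · apply Subtype.ext
      have : (m : X) = (m' : X) * ((m' : X)⁻¹ * (m : X)) := by group
      rw [this, h, mul_one]
    · exact absurd hfix (h c)
  have hbij := hinj.bijective_of_nat_card_le (le_of_eq hcard.symm)
  refine ⟨N, hNn, hmem, ?_, ?_⟩
  · intro d e
    obtain ⟨m1, hm1⟩ := hbij.2 d
    obtain ⟨m2, hm2⟩ := hbij.2 e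
    refine ⟨(m2 : X) * (m1 : X)⁻¹, N.mul_mem m2.2 (N.inv_mem m1.2), ?_⟩
    rw [← hm1, ← hm2]
    simp only [mul_smul, inv_smul_smul]
  · intro L hL
    exact normal_le_or_kernel_le H hF N hN L

end FrobPerm


section Zass

variable {G Ω : Type*} [Group G] [MulAction G Ω]

theorem finite_of_faithful [Finite Ω] [FaithfulSMul G Ω] : Finite G :=
  Finite.of_injective (MulAction.toPerm : G → Equiv.Perm Ω) MulAction.toPerm_injective

/-- A nontrivial normal subgroup of a 2-transitive faithful group is transitive. -/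
theorem normal_trans [FaithfulSMul G Ω] (h2 : MulAction.IsMultiplyPretransitive G Ω 2)
    (N : Subgroup G) [N.Normal] (hN : N ≠ ⊥) : MulAction.IsPretransitive N Ω := by
  haveI : MulAction.IsPreprimitive G Ω := MulAction.isPreprimitive_of_is_two_pretransitive h2
  have hfix : MulAction.fixedPoints N Ω ≠ Set.univ := by
    intro h
    apply hN
    rw [Subgroup.eq_bot_iff_forall]
    intro k hk
    apply FaithfulSMul.eq_of_smul_eq_smul (α := Ω)
    intro y
    rw [one_smul]
    have : y ∈ MulAction.fixedPoints N Ω := by rw [h]; trivial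
    exact this ⟨k, hk⟩
  exact MulAction.IsQuasiPreprimitive.isPretransitive_of_normal hfix

/-- Data of a Zassenhaus-like group in element form. -/
structure ZData (G Ω : Type*) [Group G] [MulAction G Ω] : Prop where
  faithful : FaithfulSMul G Ω
  two : ∀ {a b c d : Ω}, a ≠ b → c ≠ d → ∃ g : G, g • a = c ∧ g • b = d
  three : ∀ g : G, ∀ a b c : Ω, a ≠ b → b ≠ c → a ≠ c → g • a = a → g • b = b → g • c = c → g = 1
  noreg : ∀ N : Subgroup G, N.Normal → (∀ x y : Ω, ∃ n ∈ N, n • x = y) → ∃ a : Ω, ∃ n ∈ N, n ≠ 1 ∧ n • a = a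

theorem ZData.of_zass (hZ : Cfsg.IsZassenhausGroup G Ω) : ZData G Ω := by
  obtain ⟨hf, h2, h3, _, hreg⟩ := hZ
  refine ⟨hf, fun hab hcd => MulAction.is_two_pretransitive_iff.mp h2 hab hcd, h3, ?_⟩
  intro N hNn htr
  have : MulAction.IsPretransitive N Ω := by
    constructor
    intro x y
    obtain ⟨n, hn, hxy⟩ := htr x y
    exact ⟨⟨n, hn⟩, hxy⟩
  obtain ⟨a, ha⟩ := hreg N hNn this
  refine ⟨a, ?_⟩
  rw [Ne, Subgroup.eq_bot_iff_forall] at ha
  push Not at ha
  obtain ⟨n, hn, hn1⟩ := ha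
  refine ⟨(n : G), n.2, ?_, ?_⟩
  · intro h
    apply hn1
    exact Subtype.ext h
  · exact MulAction.mem_stabilizer_iff.mp hn


/-- Third point from a nontrivial element fixing two points. -/
theorem exists_third [FaithfulSMul G Ω] {g : G} (hg : g ≠ 1) {a b : Ω}
    (ha : g • a = a) (hb : g • b = b) : ∃ e : Ω, e ≠ a ∧ e ≠ b := by
  by_contra hcon
  push Not at hcon
  apply hg
  apply FaithfulSMul.eq_of_smul_eq_smul (α := Ω)
  intro y
  rw [one_smul]
  by_cases hya : y = a
  · rw [hya]; exact ha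
  · rw [hcon y hya]; exact hb

/-- Claim B: a nontrivial normal subgroup has a nontrivial two-point stabilizer. -/
theorem two_pt [Finite Ω] (D : ZData G Ω) (N : Subgroup G) [hNn : N.Normal] (hN : N ≠ ⊥)
    {a0 b0 : Ω} (hab0 : a0 ≠ b0) :
    ∃ a b : Ω, a ≠ b ∧ ∃ n ∈ N, n ≠ 1 ∧ n • a = a ∧ n • b = b := by
  classical
  haveI := D.faithful
  haveI : Finite G := finite_of_faithful (Ω := Ω)
  by_contra hcon
  push Not at hcon
  have h2 : MulAction.IsMultiplyPretransitive G Ω 2 :=
    MulAction.is_two_pretransitive_iff.mpr (fun hab hcd => D.two hab hcd)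
  haveI htr : MulAction.IsPretransitive N Ω := normal_trans h2 N hN
  have htr' : ∀ x y : Ω, ∃ n ∈ N, n • x = y := by
    intro x y
    obtain ⟨n, hn⟩ := MulAction.exists_smul_eq N x y
    exact ⟨(n : G), n.2, hn⟩
  obtain ⟨c, n1, hn1N, hn11, hn1c⟩ := D.noreg N hNn htr'
  have hc : MulAction.stabilizer N c ≠ ⊥ := by
    intro h
    have : (⟨n1, hn1N⟩ : N) ∈ MulAction.stabilizer N c := MulAction.mem_stabilizer_iff.mpr hn1c
    rw [h, Subgroup.mem_bot] at this
    exact hn11 (congrArg Subtype.val this)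
  have hne : ∃ d : Ω, d ≠ c := by
    by_cases h : a0 = c
    · exact ⟨b0, fun hb => hab0 (h.trans hb.symm)⟩
    · exact ⟨a0, h⟩
  have h1 : ∀ x : N, ∀ c d : Ω, c ≠ d → x • c = c → x • d = d → x = 1 := by
    intro x c d hcd hxc hxd
    by_contra hx1
    have hx1' : (x : G) ≠ 1 := fun h => hx1 (Subtype.ext h)
    exact hcon c d hcd (x : G) x.2 hx1' hxc hxd
  obtain ⟨M, hMn, hMmem, hMtr, -⟩ := frobenius_perm htr h1 c hc hne
  -- transport to G
  let M' : Subgroup G := M.map N.subtype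
  have hM'mem : ∀ x : G, x ∈ M' ↔ ∃ hx : x ∈ N, (⟨x, hx⟩ : N) ∈ M := by
    intro x
    constructor
    · rintro ⟨y, hy, rfl⟩
      exact ⟨y.2, hy⟩
    · rintro ⟨hx, hy⟩
      exact ⟨⟨x, hx⟩, hy, rfl⟩
  have hM'n : M'.Normal := by
    constructor
    intro m hm g
    obtain ⟨hmN, hmM⟩ := (hM'mem m).mp hm
    have hgN : g * m * g⁻¹ ∈ N := hNn.conj_mem m hmN g
    refine (hM'mem _).mpr ⟨hgN, ?_⟩
    rcases (hMmem _).mp hmM with h | h
    · have hm1 : m = 1 := congrArg Subtype.val h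
      rw [hMmem]; left
      apply Subtype.ext
      change g * m * g⁻¹ = 1
      rw [hm1]; group
    · rw [hMmem]; right
      intro d hd
      apply h (g⁻¹ • d)
      change m • g⁻¹ • d = g⁻¹ • d
      have hd' : (g * m * g⁻¹) • d = d := hd
      rw [mul_smul, mul_smul, smul_eq_iff_eq_inv_smul] at hd'
      exact hd'
  have hM'tr : ∀ x y : Ω, ∃ n ∈ M', n • x = y := by
    intro x y
    obtain ⟨m, hm, hxy⟩ := hMtr x y
    exact ⟨(m : G), (hM'mem _).mpr ⟨m.2, hm⟩, hxy⟩
  obtain ⟨a, n, hnM', hn1, hna⟩ := D.noreg M' hM'n hM'tr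
  obtain ⟨hnN, hnM⟩ := (hM'mem n).mp hnM'
  rcases (hMmem _).mp hnM with h | h
  · exact hn1 (congrArg Subtype.val h)
  · exact h a hna


/-- A nontrivial normal subgroup of a Zassenhaus group is 2-transitive. -/
theorem two_trans_normal [Finite Ω] (D : ZData G Ω) (N : Subgroup G) [hNn : N.Normal] (hN : N ≠ ⊥)
    {a0 b0 : Ω} (hab0 : a0 ≠ b0) :
    ∀ {c d e f : Ω}, c ≠ d → e ≠ f → ∃ n ∈ N, n • c = e ∧ n • d = f := by
  classical
  haveI := D.faithful
  haveI : Finite G := finite_of_faithful (Ω := Ω)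
  obtain ⟨a, b, hab, n0, hn0N, hn01, hn0a, hn0b⟩ := two_pt D N hN hab0
  have h2 : MulAction.IsMultiplyPretransitive G Ω 2 :=
    MulAction.is_two_pretransitive_iff.mpr (fun hab hcd => D.two hab hcd)
  haveI htrN : MulAction.IsPretransitive N Ω := normal_trans h2 N hN
  -- the stabilizer of a acting on the other points
  have htr : MulAction.IsPretransitive (MulAction.stabilizer G a) (SubMulAction.ofStabilizer G a) := by
    constructor
    intro y z
    have hy : (y : Ω) ≠ a := (SubMulAction.mem_ofStabilizer_iff G a).mp y.2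
    have hz : (z : Ω) ≠ a := (SubMulAction.mem_ofStabilizer_iff G a).mp z.2
    obtain ⟨g, hga, hgy⟩ := D.two (Ne.symm hy) (Ne.symm hz)
    refine ⟨⟨g, MulAction.mem_stabilizer_iff.mpr hga⟩, ?_⟩
    apply Subtype.ext
    exact hgy
  have h1 : ∀ x : MulAction.stabilizer G a, ∀ c d : SubMulAction.ofStabilizer G a, c ≠ d →
      x • c = c → x • d = d → x = 1 := by
    intro x c d hcd hxc hxd
    have hc : (c : Ω) ≠ a := (SubMulAction.mem_ofStabilizer_iff G a).mp c.2
    have hd : (d : Ω) ≠ a := (SubMulAction.mem_ofStabilizer_iff G a).mp d.2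
    have hcd' : (c : Ω) ≠ (d : Ω) := fun h => hcd (Subtype.ext h)
    have hxa : (x : G) • a = a := MulAction.mem_stabilizer_iff.mp x.2
    have hxc' : (x : G) • (c : Ω) = c := congrArg Subtype.val hxc
    have hxd' : (x : G) • (d : Ω) = d := congrArg Subtype.val hxd
    apply Subtype.ext
    exact D.three (x : G) a c d (Ne.symm hc) hcd' (Ne.symm hd) hxa hxc' hxd'
  have hbmem : b ∈ SubMulAction.ofStabilizer G a :=
    (SubMulAction.mem_ofStabilizer_iff G a).mpr (Ne.symm hab)
  have hn0S : n0 ∈ MulAction.stabilizer G a := MulAction.mem_stabilizer_iff.mpr hn0a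
  have hcstab : MulAction.stabilizer (MulAction.stabilizer G a)
      (⟨b, hbmem⟩ : SubMulAction.ofStabilizer G a) ≠ ⊥ := by
    intro h
    have : (⟨n0, hn0S⟩ : MulAction.stabilizer G a) ∈ MulAction.stabilizer (MulAction.stabilizer G a)
        (⟨b, hbmem⟩ : SubMulAction.ofStabilizer G a) := by
      rw [MulAction.mem_stabilizer_iff]
      apply Subtype.ext
      exact hn0b
    rw [h, Subgroup.mem_bot] at this
    exact hn01 (congrArg Subtype.val this)
  obtain ⟨e0, he0a, he0b⟩ := exists_third hn01 hn0a hn0b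
  have hne : ∃ d : SubMulAction.ofStabilizer G a, d ≠ ⟨b, hbmem⟩ :=
    ⟨⟨e0, (SubMulAction.mem_ofStabilizer_iff G a).mpr he0a⟩, fun h => he0b (congrArg Subtype.val h)⟩
  obtain ⟨K, hKn, hKmem, hKtr, hKdich⟩ := frobenius_perm htr h1 ⟨b, hbmem⟩ hcstab hne
  have hLn : (N.subgroupOf (MulAction.stabilizer G a)).Normal := inferInstance
  have hKL : K ≤ N.subgroupOf (MulAction.stabilizer G a) := by
    rcases hKdich _ hLn with h | h
    · exfalso
      have hin : (⟨n0, hn0S⟩ : MulAction.stabilizer G a) ∈ N.subgroupOf (MulAction.stabilizer G a) :=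
        Subgroup.mem_subgroupOf.mpr hn0N
      rcases (hKmem _).mp (h hin) with h' | h'
      · exact hn01 (congrArg Subtype.val h')
      · apply h' ⟨b, hbmem⟩
        apply Subtype.ext
        exact hn0b
    · exact h
  intro c d e f hcd hef
  obtain ⟨n1, hn1⟩ := MulAction.exists_smul_eq N c a
  obtain ⟨n2, hn2⟩ := MulAction.exists_smul_eq N e a
  have hn1' : (n1 : G) • c = a := hn1
  have hn2' : (n2 : G) • e = a := hn2
  have h1d : (n1 : G) • d ≠ a := by
    intro h
    apply hcd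
    have := h.trans hn1'.symm
    exact (MulAction.injective (n1 : G) this).symm
  have h2f : (n2 : G) • f ≠ a := by
    intro h
    apply hef
    have := h.trans hn2'.symm
    exact (MulAction.injective (n2 : G) this).symm
  obtain ⟨k, hkK, hk⟩ := hKtr ⟨(n1 : G) • d, (SubMulAction.mem_ofStabilizer_iff G a).mpr h1d⟩
    ⟨(n2 : G) • f, (SubMulAction.mem_ofStabilizer_iff G a).mpr h2f⟩
  have hkN : (k : G) ∈ N := Subgroup.mem_subgroupOf.mp (hKL hkK)
  have hka : (k : G) • a = a := MulAction.mem_stabilizer_iff.mp k.2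
  have hk' : (k : G) • ((n1 : G) • d) = (n2 : G) • f := congrArg Subtype.val hk
  refine ⟨(n2 : G)⁻¹ * (k : G) * (n1 : G), N.mul_mem (N.mul_mem (N.inv_mem n2.2) hkN) n1.2, ?_, ?_⟩
  · rw [mul_smul, mul_smul, hn1', hka, inv_smul_eq_iff, hn2']
  · rw [mul_smul, mul_smul, hk', inv_smul_smul]


/-- Route D: a regular normal subgroup `M` of a 2-transitive normal subgroup `N` of `G`
(with trivial three-point stabilizers, at least 3 points) is normalized by `G`. -/
theorem reg_normal_invariant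
    (three : ∀ g : G, ∀ a b c : Ω, a ≠ b → b ≠ c → a ≠ c → g • a = a → g • b = b → g • c = c → g = 1)
    (N : Subgroup G) [hNn : N.Normal]
    (hN2 : ∀ {c d e f : Ω}, c ≠ d → e ≠ f → ∃ n ∈ N, n • c = e ∧ n • d = f)
    (M : Subgroup G) (hMN : M ≤ N) (hMnorm : ∀ n ∈ N, ∀ m ∈ M, n * m * n⁻¹ ∈ M)
    (hMtr : ∀ x y : Ω, ∃ m ∈ M, m • x = y) (hMsr : ∀ m ∈ M, ∀ x : Ω, m • x = x → m = 1)
    {a b c : Ω} (hab : a ≠ b) (hbc : b ≠ c) (hac : a ≠ c) (g : G) :
    ∀ y ∈ M, g⁻¹ * y * g ∈ M := by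
  classical
  -- L = g M g⁻¹ ; x ∈ L ↔ g⁻¹ x g ∈ M
  have hLN : ∀ x : G, g⁻¹ * x * g ∈ M → x ∈ N := by
    intro x hx
    have := hNn.conj_mem _ (hMN hx) g
    have e : g * (g⁻¹ * x * g) * g⁻¹ = x := by group
    rwa [e] at this
  have hLnorm : ∀ n ∈ N, ∀ x : G, g⁻¹ * x * g ∈ M → g⁻¹ * (n * x * n⁻¹) * g ∈ M := by
    intro n hn x hx
    have hn' : g⁻¹ * n * g ∈ N := by
      have := hNn.conj_mem n hn g⁻¹
      simpa using this
    have := hMnorm _ hn' _ hx
    have e : g⁻¹ * n * g * (g⁻¹ * x * g) * (g⁻¹ * n * g)⁻¹ = g⁻¹ * (n * x * n⁻¹) * g := by group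
    rwa [e] at this
  have hLtr : ∀ x y : Ω, ∃ l : G, g⁻¹ * l * g ∈ M ∧ l • x = y := by
    intro x y
    obtain ⟨m, hm, hxy⟩ := hMtr (g⁻¹ • x) (g⁻¹ • y)
    refine ⟨g * m * g⁻¹, ?_, ?_⟩
    · have e : g⁻¹ * (g * m * g⁻¹) * g = m := by group
      rw [e]; exact hm
    · rw [mul_smul, mul_smul, hxy, smul_inv_smul]
  by_cases hcase : ∃ x ∈ M, x ≠ 1 ∧ g⁻¹ * x * g ∈ M
  · -- Case 1
    obtain ⟨x, hxM, hx1, hxL⟩ := hcase
    intro y hyM
    by_cases hy1 : y = 1
    · rw [hy1]; simp
    have hxa : x • a ≠ a := fun h => hx1 (hMsr x hxM a h)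
    have hya : y • a ≠ a := fun h => hy1 (hMsr y hyM a h)
    obtain ⟨u, huN, hua, hux⟩ := hN2 (Ne.symm hxa) (Ne.symm hya)
    have huxu : u * x * u⁻¹ = y := by
      have h1 : u * x * u⁻¹ ∈ M := hMnorm u huN x hxM
      have h2 : (y⁻¹ * (u * x * u⁻¹)) • a = a := by
        rw [mul_smul, mul_smul, mul_smul, inv_smul_eq_iff]
        have : u⁻¹ • a = a := by rw [inv_smul_eq_iff, hua]
        rw [this, hux]
      have h3 := hMsr _ (M.mul_mem (M.inv_mem hyM) h1) a h2
      have : u * x * u⁻¹ = y * (y⁻¹ * (u * x * u⁻¹)) := by group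
      rw [this, h3, mul_one]
    rw [← huxu]
    exact hLnorm u huN x hxL
  · -- Case 2: contradiction
    exfalso
    push Not at hcase
    have hcomm : ∀ l : G, g⁻¹ * l * g ∈ M → ∀ m ∈ M, l * m = m * l := by
      intro l hl m hm
      have hlN := hLN l hl
      have h1 : l * m * l⁻¹ * m⁻¹ ∈ M := M.mul_mem (hMnorm l hlN m hm) (M.inv_mem hm)
      have h2 : g⁻¹ * (l * m * l⁻¹ * m⁻¹) * g ∈ M := by
        have h3 := hLnorm m (hMN hm) l⁻¹ (by
          have := M.inv_mem hl
          have e : (g⁻¹ * l * g)⁻¹ = g⁻¹ * l⁻¹ * g := by group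
          rwa [e] at this)
        have h4 := M.mul_mem hl h3
        have e : g⁻¹ * l * g * (g⁻¹ * (m * l⁻¹ * m⁻¹) * g) = g⁻¹ * (l * m * l⁻¹ * m⁻¹) * g := by group
        rwa [e] at h4
      have h5 := hcase _ h1
      by_contra hne
      apply h5 _ h2
      intro h6
      apply hne
      have : l * m = (l * m * l⁻¹ * m⁻¹) * (m * l) := by group
      rw [this, h6, one_mul]
    -- key: for every m ∈ M with m ≠ 1 : construct u
    have hkey : ∀ m ∈ M, m ≠ 1 → ∃ u : G, u ≠ 1 ∧ u • a = a ∧ ∀ m' ∈ M, u • (m' • a) = (m⁻¹ * m' * m) • a := by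
      intro m hm hm1
      obtain ⟨l, hl, hla⟩ := hLtr a (m • a)
      refine ⟨m⁻¹ * l, ?_, ?_, ?_⟩
      · intro h
        have hlm : l = m := by
          have : l = m * (m⁻¹ * l) := by group
          rw [this, h, mul_one]
        rw [hlm] at hl
        exact hcase m hm hm1 hl
      · rw [mul_smul, hla, inv_smul_smul]
      · intro m' hm'
        rw [mul_smul, ← mul_smul l m', hcomm l hl m' hm', mul_smul, hla, mul_smul, mul_smul]
    -- every element of M has order ≤ 2
    have hsq : ∀ m ∈ M, m * m = 1 := by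
      intro m hm
      by_contra hmm
      have hm1 : m ≠ 1 := by
        intro h; apply hmm; rw [h, mul_one]
      obtain ⟨u, hu1, hua, hu⟩ := hkey m hm hm1
      have hma : m • a ≠ a := fun h => hm1 (hMsr m hm a h)
      have hmma : (m * m) • a ≠ a := fun h => hmm (hMsr _ (M.mul_mem hm hm) a h)
      have hmmma : (m * m) • a ≠ m • a := by
        intro h
        rw [mul_smul] at h
        exact hma (MulAction.injective m h)
      have h1 : u • (m • a) = m • a := by
        rw [hu m hm]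
        congr 1; group
      have h2 : u • ((m * m) • a) = (m * m) • a := by
        rw [hu _ (M.mul_mem hm hm)]
        congr 1; group
      exact hu1 (three u a (m • a) ((m * m) • a) (Ne.symm hma) (Ne.symm hmmma) (Ne.symm hmma) hua h1 h2)
    have hab' : ∀ m ∈ M, ∀ m' ∈ M, m⁻¹ * m' * m = m' := by
      intro m hm m' hm'
      have h1 := hsq m hm
      have h2 := hsq m' hm'
      have h3 := hsq _ (M.mul_mem hm hm')
      have hminv : m⁻¹ = m := by
        rw [inv_eq_iff_mul_eq_one]; exact h1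
      have hm'inv : m'⁻¹ = m' := by
        rw [inv_eq_iff_mul_eq_one]; exact h2
      rw [hminv]
      have : m * m' * m = (m * m' * (m * m')) * m'⁻¹ := by group
      rw [this, h3, one_mul, hm'inv]
    obtain ⟨m, hm, hmab⟩ := hMtr a b
    obtain ⟨m', hm', hmac⟩ := hMtr a c
    have hm1 : m ≠ 1 := by
      intro h; rw [h, one_smul] at hmab; exact hab hmab
    obtain ⟨u, hu1, hua, hu⟩ := hkey m hm hm1
    have h1 : u • b = b := by
      have := hu m hm
      rw [hab' m hm m hm, hmab] at this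
      exact this
    have h2 : u • c = c := by
      have := hu m' hm'
      rw [hab' m hm m' hm', hmac] at this
      exact this
    exact hu1 (three u a b c hab hbc hac hua h1 h2)


/-- S0339: a nontrivial normal subgroup of a Zassenhaus group is a Zassenhaus group. -/
theorem zass_normal [Finite Ω] (hZ : Cfsg.IsZassenhausGroup G Ω) (N : Subgroup G) [hNn : N.Normal]
    (hN : N ≠ ⊥) : Cfsg.IsZassenhausGroup N Ω := by
  classical
  have D := ZData.of_zass hZ
  obtain ⟨hf, h2, h3, ⟨g0, hg01, a0, b0, hab0, hg0a, hg0b⟩, hreg⟩ := hZ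
  haveI := hf
  have hN2 : ∀ {c d e f : Ω}, c ≠ d → e ≠ f → ∃ n ∈ N, n • c = e ∧ n • d = f :=
    fun h1 h2 => two_trans_normal D N hN hab0 h1 h2
  obtain ⟨a, b, hab, n0, hn0N, hn01, hn0a, hn0b⟩ := two_pt D N hN hab0
  obtain ⟨e0, he0a, he0b⟩ := exists_third hn01 hn0a hn0b
  refine ⟨?_, ?_, ?_, ?_, ?_⟩
  · constructor
    intro x y hxy
    apply Subtype.ext
    apply FaithfulSMul.eq_of_smul_eq_smul (α := Ω)
    intro z
    exact hxy z
  · rw [MulAction.is_two_pretransitive_iff]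
    intro c d e f hcd hef
    obtain ⟨n, hn, h1, h2⟩ := hN2 hcd hef
    exact ⟨⟨n, hn⟩, h1, h2⟩
  · intro g x y z hxy hyz hxz hx hy hz
    apply Subtype.ext
    exact h3 (g : G) x y z hxy hyz hxz hx hy hz
  · exact ⟨⟨n0, hn0N⟩, fun h => hn01 (congrArg Subtype.val h), a, b, hab, hn0a, hn0b⟩
  · intro M hMn hMtr
    by_contra hcon
    push Not at hcon
    -- M regular
    let M' : Subgroup G := M.map N.subtype
    have hM'mem : ∀ x : G, x ∈ M' ↔ ∃ hx : x ∈ N, (⟨x, hx⟩ : N) ∈ M := by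
      intro x
      constructor
      · rintro ⟨y, hy, rfl⟩
        exact ⟨y.2, hy⟩
      · rintro ⟨hx, hy⟩
        exact ⟨⟨x, hx⟩, hy, rfl⟩
    have hM'N : M' ≤ N := fun x hx => ((hM'mem x).mp hx).1
    have hM'norm : ∀ n ∈ N, ∀ m ∈ M', n * m * n⁻¹ ∈ M' := by
      intro n hn m hm
      obtain ⟨hmN, hmM⟩ := (hM'mem m).mp hm
      refine (hM'mem _).mpr ⟨N.mul_mem (N.mul_mem hn hmN) (N.inv_mem hn), ?_⟩
      exact hMn.conj_mem ⟨m, hmN⟩ hmM ⟨n, hn⟩
    have hM'tr : ∀ x y : Ω, ∃ m ∈ M', m • x = y := by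
      intro x y
      obtain ⟨m, hm⟩ := MulAction.exists_smul_eq M x y
      exact ⟨((m : N) : G), (hM'mem _).mpr ⟨(m : N).2, m.2⟩, hm⟩
    have hM'sr : ∀ m ∈ M', ∀ x : Ω, m • x = x → m = 1 := by
      intro m hm x hmx
      obtain ⟨hmN, hmM⟩ := (hM'mem m).mp hm
      have : (⟨⟨m, hmN⟩, hmM⟩ : M) ∈ MulAction.stabilizer M x := MulAction.mem_stabilizer_iff.mpr hmx
      rw [hcon x, Subgroup.mem_bot] at this
      exact congrArg (fun t : M => ((t : N) : G)) this
    have hM'n : M'.Normal := by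
      constructor
      intro m hm g
      have := reg_normal_invariant h3 N hN2 M' hM'N hM'norm hM'tr hM'sr
        hab (Ne.symm he0b) (Ne.symm he0a) g⁻¹ m hm
      simpa using this
    have hM'tr' : MulAction.IsPretransitive M' Ω := by
      constructor
      intro x y
      obtain ⟨m, hm, hxy⟩ := hM'tr x y
      exact ⟨⟨m, hm⟩, hxy⟩
    obtain ⟨x, hx⟩ := hreg M' hM'n hM'tr'
    apply hx
    rw [Subgroup.eq_bot_iff_forall]
    intro m hm
    apply Subtype.ext
    exact hM'sr (m : G) m.2 x (MulAction.mem_stabilizer_iff.mp hm)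

end Zass

end Cfsg.Agent.Lib.helper6.ZassNormal
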