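import Mathlib
import Cfsg.Agent.Lib.helper6.ZassNormal
import Cfsg.Agent.Lib.Helper1.FrobCenter
import Cfsg.Agent.Lib.Helper9.FieldOfAffine
import Cfsg.Agent.S0042

set_option autoImplicit false

open scoped Pointwise

namespace Cfsg.Agent.Lib.helper6.ZassReg

open Cfsg.Agent.Lib.helper6.ZassNormal

section Reg

variable {G Ω : Type*} [Group G] [MulAction G Ω]

/-- In a 2-transitive group with a regular normal subgroup `N`, the stabilizer of `a` acts
transitively by conjugation on the nonidentity elements of `N`. -/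
theorem conj_trans
    (two : ∀ {a b c d : Ω}, a ≠ b → c ≠ d → ∃ g : G, g • a = c ∧ g • b = d)
    (N : Subgroup G) [hNn : N.Normal] (hNsr : ∀ n ∈ N, ∀ x : Ω, n • x = x → n = 1) (a : Ω)
    {x y : G} (hx : x ∈ N) (hy : y ∈ N) (hx1 : x ≠ 1) (hy1 : y ≠ 1) :
    ∃ u : G, u • a = a ∧ u * x * u⁻¹ = y := by
  have hxa : x • a ≠ a := fun h => hx1 (hNsr x hx a h)
  have hya : y • a ≠ a := fun h => hy1 (hNsr y hy a h)
  obtain ⟨u, hua, hux⟩ := two (Ne.symm hxa) (Ne.symm hya)
  refine ⟨u, hua, ?_⟩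
  have h1 : u * x * u⁻¹ ∈ N := hNn.conj_mem x hx u
  have h2 : (y⁻¹ * (u * x * u⁻¹)) • a = a := by
    rw [mul_smul, mul_smul, mul_smul, inv_smul_eq_iff]
    have : u⁻¹ • a = a := by rw [inv_smul_eq_iff, hua]
    rw [this, hux]
  have h3 := hNsr _ (N.mul_mem (N.inv_mem hy) h1) a h2
  have : u * x * u⁻¹ = y * (y⁻¹ * (u * x * u⁻¹)) := by group
  rw [this, h3, mul_one]

/-- A regular normal subgroup of a finite 2-transitive group is commutative. -/
theorem reg_normal_comm [Finite G]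
    (two : ∀ {a b c d : Ω}, a ≠ b → c ≠ d → ∃ g : G, g • a = c ∧ g • b = d)
    (N : Subgroup G) [hNn : N.Normal] (hNsr : ∀ n ∈ N, ∀ x : Ω, n • x = x → n = 1) (a : Ω) :
    ∀ x ∈ N, ∀ y ∈ N, x * y = y * x := by
  classical
  by_cases hnt : Nontrivial N
  swap
  · rw [not_nontrivial_iff_subsingleton] at hnt
    intro x hx y hy
    have h1 : (⟨x, hx⟩ : N) = ⟨y, hy⟩ := Subsingleton.elim _ _
    have : x = y := congrArg Subtype.val h1
    rw [this]
  -- a prime p dividing |N|
  obtain ⟨p, hp, hpN⟩ := Nat.exists_prime_and_dvd (Finite.one_lt_card (α := N)).ne'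
  haveI : Fact p.Prime := ⟨hp⟩
  obtain ⟨z0, hz0⟩ := exists_prime_orderOf_dvd_card' (G := N) p hpN
  have hz01 : (z0 : G) ≠ 1 := by
    intro h
    have : z0 = 1 := Subtype.ext h
    rw [this, orderOf_one] at hz0
    exact hp.one_lt.ne hz0
  have hz0p : (z0 : G) ^ p = 1 := by
    have := pow_orderOf_eq_one z0
    rw [hz0] at this
    have h2 := congrArg Subtype.val this
    simpa using h2
  -- every element has p-th power one
  have hpow : ∀ x ∈ N, x ^ p = 1 := by
    intro x hx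
    by_cases hx1 : x = 1
    · rw [hx1, one_pow]
    obtain ⟨u, -, hu⟩ := conj_trans two N hNsr a z0.2 hx hz01 hx1
    rw [← hu, conj_pow, hz0p]; group
  have hPG : IsPGroup p N := by
    intro x
    refine ⟨1, ?_⟩
    rw [pow_one]
    apply Subtype.ext
    have := hpow (x : G) x.2
    simpa using this
  haveI : Finite N := inferInstance
  have hcen : Nontrivial (Subgroup.center N) := hPG.center_nontrivial
  obtain ⟨z, hz1⟩ := exists_ne (1 : Subgroup.center N)
  have hzG1 : ((z : N) : G) ≠ 1 := by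
    intro h
    apply hz1
    apply Subtype.ext
    apply Subtype.ext
    exact h
  have hzc : ∀ n ∈ N, ((z : N) : G) * n = n * ((z : N) : G) := by
    intro n hn
    have := (Subgroup.mem_center_iff.mp z.2) ⟨n, hn⟩
    have h2 := congrArg Subtype.val this
    simpa using h2.symm
  intro x hx y hy
  by_cases hx1 : x = 1
  · rw [hx1, one_mul, mul_one]
  obtain ⟨u, -, hu⟩ := conj_trans two N hNsr a (z : N).2 hx hzG1 hx1
  have hyu : u⁻¹ * y * u ∈ N := by
    have := hNn.conj_mem y hy u⁻¹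
    simpa using this
  have := hzc _ hyu
  rw [← hu]
  calc u * ((z : N) : G) * u⁻¹ * y = u * (((z : N) : G) * (u⁻¹ * y * u)) * u⁻¹ := by group
    _ = u * ((u⁻¹ * y * u) * ((z : N) : G)) * u⁻¹ := by rw [this]
    _ = y * (u * ((z : N) : G) * u⁻¹) := by group


open Cfsg.Agent.Lib.Helper1 Cfsg.Agent.Lib.Helper19 in
/-- Permutation-group form of Frobenius + Thompson: the kernel is nilpotent. -/
theorem frobenius_perm_nilp {X Δ : Type*} [Group X] [MulAction X Δ] [Finite X] [Finite Δ]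
    (htr : MulAction.IsPretransitive X Δ)
    (h1 : ∀ x : X, ∀ c d : Δ, c ≠ d → x • c = c → x • d = d → x = 1)
    (c : Δ) (hc : MulAction.stabilizer X c ≠ ⊥) (hne : ∃ d : Δ, d ≠ c) :
    ∃ M : Subgroup X, M.Normal ∧ (∀ x : X, x ∈ M ↔ (x = 1 ∨ ∀ d : Δ, x • d ≠ d)) ∧
      (∀ d e : Δ, ∃ m ∈ M, m • d = e) ∧ Group.IsNilpotent M := by
  classical
  obtain ⟨M, hMn, hMmem, hMtr, -⟩ := frobenius_perm htr h1 c hc hne
  refine ⟨M, hMn, hMmem, hMtr, ?_⟩
  set H := MulAction.stabilizer X c with hH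
  have hconj : ∀ g x : X, x ∈ MulAut.conj g • H ↔ x • (g • c) = g • c := by
    intro g x
    rw [mem_conj_smul_iff', MulAction.mem_stabilizer_iff, mul_smul, mul_smul, inv_smul_eq_iff]
  have hF : Cfsg.IsFrobeniusComplement H := by
    refine ⟨hc, ?_, ?_⟩
    · intro htop
      obtain ⟨d, hd⟩ := hne
      obtain ⟨x, hx⟩ := MulAction.exists_smul_eq X c d
      have : x ∈ H := by rw [htop]; trivial
      rw [MulAction.mem_stabilizer_iff] at this
      exact hd (hx.symm.trans this)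
    · intro g hg
      rw [Subgroup.eq_bot_iff_forall]
      intro y hy
      obtain ⟨hy1, hy2⟩ := Subgroup.mem_inf.mp hy
      rw [hconj] at hy2
      have hgc : g • c ≠ c := fun h => hg (MulAction.mem_stabilizer_iff.mpr h)
      exact h1 y c (g • c) (Ne.symm hgc) (MulAction.mem_stabilizer_iff.mp hy1) hy2
  obtain ⟨N, hN, -, hNnil⟩ := Cfsg.Agent.S0042.result H hF
  have hMN : M = N := by
    ext x
    rw [hMmem]
    have : x ∈ N ↔ x ∈ Cfsg.frobeniusKernel H := by rw [← hN]; rfl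
    rw [this]
    unfold Cfsg.frobeniusKernel
    constructor
    · rintro (h | h)
      · exact Or.inl h
      · right
        intro g hg
        exact h (g • c) ((hconj g x).mp hg)
    · rintro (h | h)
      · exact Or.inl h
      · right
        intro d hd
        obtain ⟨g, rfl⟩ := MulAction.exists_smul_eq X c d
        exact h g ((hconj g x).mpr hd)
  rw [hMN]
  exact hNnil

section Main

variable {G Ω : Type*} [Group G] [MulAction G Ω]

/-- The Frobenius kernel of a point stabilizer as a subgroup of `G`. -/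
theorem kernel_data [Finite Ω] [FaithfulSMul G Ω]
    (two : ∀ {a b c d : Ω}, a ≠ b → c ≠ d → ∃ g : G, g • a = c ∧ g • b = d)
    (three : ∀ g : G, ∀ a b c : Ω, a ≠ b → b ≠ c → a ≠ c → g • a = a → g • b = b → g • c = c → g = 1)
    {a b : Ω} (hab : a ≠ b) {n0 : G} (hn01 : n0 ≠ 1) (hn0a : n0 • a = a) (hn0b : n0 • b = b) :
    ∃ KG : Subgroup G, Group.IsNilpotent KG ∧ (∀ k ∈ KG, k • a = a) ∧
      (∀ k ∈ KG, k ≠ 1 → ∀ x : Ω, x ≠ a → k • x ≠ x) ∧
      (∀ x y : Ω, x ≠ a → y ≠ a → ∃ k ∈ KG, k • x = y) ∧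
      (∀ g : G, g • a = a → ∀ k ∈ KG, g * k * g⁻¹ ∈ KG) := by
  classical
  haveI : Finite G := finite_of_faithful (Ω := Ω)
  have htr : MulAction.IsPretransitive (MulAction.stabilizer G a) (SubMulAction.ofStabilizer G a) := by
    constructor
    intro y z
    have hy : (y : Ω) ≠ a := (SubMulAction.mem_ofStabilizer_iff G a).mp y.2
    have hz : (z : Ω) ≠ a := (SubMulAction.mem_ofStabilizer_iff G a).mp z.2
    obtain ⟨g, hga, hgy⟩ := two (Ne.symm hy) (Ne.symm hz)
    refine ⟨⟨g, MulAction.mem_stabilizer_iff.mpr hga⟩, ?_⟩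
    apply Subtype.ext
    exact hgy
  have h1 : ∀ x : MulAction.stabilizer G a, ∀ c d : SubMulAction.ofStabilizer G a, c ≠ d →
      x • c = c → x • d = d → x = 1 := by
    intro x c d hcd hxc hxd
    have hc : (c : Ω) ≠ a := (SubMulAction.mem_ofStabilizer_iff G a).mp c.2
    have hd : (d : Ω) ≠ a := (SubMulAction.mem_ofStabilizer_iff G a).mp d.2
    have hcd' : (c : Ω) ≠ (d : Ω) := fun h => hcd (Subtype.ext h)
    have hxa : (x : G) • a = a := MulAction.mem_stabilizer_iff.mp x.2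
    have hxc' : (x : G) • (c : Ω) = c := congrArg Subtype.val hxc
    have hxd' : (x : G) • (d : Ω) = d := congrArg Subtype.val hxd
    apply Subtype.ext
    exact three (x : G) a c d (Ne.symm hc) hcd' (Ne.symm hd) hxa hxc' hxd'
  have hbmem : b ∈ SubMulAction.ofStabilizer G a :=
    (SubMulAction.mem_ofStabilizer_iff G a).mpr (Ne.symm hab)
  have hn0S : n0 ∈ MulAction.stabilizer G a := MulAction.mem_stabilizer_iff.mpr hn0a
  have hcstab : MulAction.stabilizer (MulAction.stabilizer G a)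
      (⟨b, hbmem⟩ : SubMulAction.ofStabilizer G a) ≠ ⊥ := by
    intro h
    have : (⟨n0, hn0S⟩ : MulAction.stabilizer G a) ∈ MulAction.stabilizer (MulAction.stabilizer G a)
        (⟨b, hbmem⟩ : SubMulAction.ofStabilizer G a) := by
      rw [MulAction.mem_stabilizer_iff]
      apply Subtype.ext
      exact hn0b
    rw [h, Subgroup.mem_bot] at this
    exact hn01 (congrArg Subtype.val this)
  obtain ⟨e0, he0a, he0b⟩ := exists_third hn01 hn0a hn0b
  have hne : ∃ d : SubMulAction.ofStabilizer G a, d ≠ ⟨b, hbmem⟩ :=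
    ⟨⟨e0, (SubMulAction.mem_ofStabilizer_iff G a).mpr he0a⟩, fun h => he0b (congrArg Subtype.val h)⟩
  obtain ⟨K, hKn, hKmem, hKtr, hKnil⟩ := frobenius_perm_nilp htr h1 ⟨b, hbmem⟩ hcstab hne
  let KG : Subgroup G := K.map (MulAction.stabilizer G a).subtype
  have hKGmem : ∀ x : G, x ∈ KG ↔ ∃ hx : x ∈ MulAction.stabilizer G a,
      (⟨x, hx⟩ : MulAction.stabilizer G a) ∈ K := by
    intro x
    constructor
    · rintro ⟨y, hy, rfl⟩
      exact ⟨y.2, hy⟩
    · rintro ⟨hx, hy⟩
      exact ⟨⟨x, hx⟩, hy, rfl⟩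
  refine ⟨KG, ?_, ?_, ?_, ?_, ?_⟩
  · haveI := hKnil
    exact Group.nilpotent_of_mulEquiv
      (K.equivMapOfInjective (MulAction.stabilizer G a).subtype (Subgroup.subtype_injective _))
  · intro k hk
    obtain ⟨hkS, -⟩ := (hKGmem k).mp hk
    exact MulAction.mem_stabilizer_iff.mp hkS
  · intro k hk hk1 x hxa hkx
    obtain ⟨hkS, hkK⟩ := (hKGmem k).mp hk
    rcases (hKmem _).mp hkK with h | h
    · exact hk1 (congrArg Subtype.val h)
    · apply h ⟨x, (SubMulAction.mem_ofStabilizer_iff G a).mpr hxa⟩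
      apply Subtype.ext
      exact hkx
  · intro x y hxa hya
    obtain ⟨k, hkK, hk⟩ := hKtr ⟨x, (SubMulAction.mem_ofStabilizer_iff G a).mpr hxa⟩
      ⟨y, (SubMulAction.mem_ofStabilizer_iff G a).mpr hya⟩
    exact ⟨(k : G), (hKGmem _).mpr ⟨k.2, hkK⟩, congrArg Subtype.val hk⟩
  · intro g hga k hk
    obtain ⟨hkS, hkK⟩ := (hKGmem k).mp hk
    have hgS : g ∈ MulAction.stabilizer G a := MulAction.mem_stabilizer_iff.mpr hga
    have := hKn.conj_mem ⟨k, hkS⟩ hkK ⟨g, hgS⟩
    exact (hKGmem _).mpr ⟨_, this⟩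


/-- An involution of the kernel inverts the regular normal subgroup. -/
theorem invol_inverts
    (N : Subgroup G) [hNn : N.Normal] (hNsr : ∀ n ∈ N, ∀ x : Ω, n • x = x → n = 1)
    (hNcomm : ∀ x ∈ N, ∀ y ∈ N, x * y = y * x) {a : Ω}
    {z : G} (hza : z • a = a) (hzfpf : ∀ x : Ω, x ≠ a → z • x ≠ x) (hzz : z * z = 1) :
    ∀ n ∈ N, z * n * z⁻¹ = n⁻¹ := by
  intro n hn
  have hzinv : z⁻¹ = z := by rw [inv_eq_iff_mul_eq_one]; exact hzz
  have hc : z * n * z⁻¹ ∈ N := hNn.conj_mem n hn z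
  have hw : n * (z * n * z⁻¹) ∈ N := N.mul_mem hn hc
  have hzw : z * (n * (z * n * z⁻¹)) = (n * (z * n * z⁻¹)) * z := by
    have h1 : z * (n * (z * n * z⁻¹)) * z⁻¹ = (z * n * z⁻¹) * n := by
      calc z * (n * (z * n * z⁻¹)) * z⁻¹ = (z * n * z⁻¹) * ((z * z) * n * (z * z)⁻¹) := by group
        _ = (z * n * z⁻¹) * n := by rw [hzz]; group
    have h2 : (z * n * z⁻¹) * n = n * (z * n * z⁻¹) := hNcomm _ hc _ hn
    have h3 : z * (n * (z * n * z⁻¹)) = (z * (n * (z * n * z⁻¹)) * z⁻¹) * z := by group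
    rw [h3, h1, h2]
  have hwa : (n * (z * n * z⁻¹)) • a = a := by
    by_contra hne
    apply hzfpf _ hne
    rw [← mul_smul, hzw, mul_smul, hza]
  have hw1 := hNsr _ hw a hwa
  exact (eq_inv_of_mul_eq_one_right hw1)

/-- The kernel has no involutions. -/
theorem no_invol [FaithfulSMul G Ω]
    (three : ∀ g : G, ∀ a b c : Ω, a ≠ b → b ≠ c → a ≠ c → g • a = a → g • b = b → g • c = c → g = 1)
    (N : Subgroup G) [hNn : N.Normal] (hNtr : ∀ x y : Ω, ∃ n ∈ N, n • x = y)
    (hNsr : ∀ n ∈ N, ∀ x : Ω, n • x = x → n = 1)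
    (hNcomm : ∀ x ∈ N, ∀ y ∈ N, x * y = y * x)
    (KG : Subgroup G) {a b : Ω} (hab : a ≠ b)
    (kfix : ∀ k ∈ KG, k • a = a)
    (kfpf : ∀ k ∈ KG, k ≠ 1 → ∀ x : Ω, x ≠ a → k • x ≠ x)
    (knorm : ∀ g : G, g • a = a → ∀ k ∈ KG, g * k * g⁻¹ ∈ KG)
    {h0 : G} (hh01 : h0 ≠ 1) (hh0a : h0 • a = a) (hh0b : h0 • b = b) :
    ∀ z ∈ KG, z * z = 1 → z = 1 := by
  intro z hz hzz
  by_contra hz1
  have hzinv : z⁻¹ = z := by rw [inv_eq_iff_mul_eq_one]; exact hzz
  set z' := h0 * z * h0⁻¹ with hz'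
  have hz'K : z' ∈ KG := knorm h0 hh0a z hz
  have hz'1 : z' ≠ 1 := by
    intro h
    apply hz1
    have : z = h0⁻¹ * z' * h0 := by rw [hz']; group
    rw [this, h]; group
  have hz'z' : z' * z' = 1 := by
    rw [hz']
    calc h0 * z * h0⁻¹ * (h0 * z * h0⁻¹) = h0 * (z * z) * h0⁻¹ := by group
      _ = 1 := by rw [hzz]; group
  have hinv1 := invol_inverts N hNsr hNcomm (kfix z hz) (kfpf z hz hz1) hzz
  have hinv2 := invol_inverts N hNsr hNcomm (kfix z' hz'K) (kfpf z' hz'K hz'1) hz'z'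
  have hu : z * z' = 1 := by
    apply FaithfulSMul.eq_of_smul_eq_smul (α := Ω)
    intro x
    rw [one_smul]
    obtain ⟨n, hn, hnx⟩ := hNtr a x
    have hcomm : (z * z') * n = n * (z * z') := by
      have h1 := hinv2 n hn
      have h2 := hinv1 n⁻¹ (N.inv_mem hn)
      rw [inv_inv] at h2
      have : (z * z') * n * (z * z')⁻¹ = n := by
        calc (z * z') * n * (z * z')⁻¹ = z * (z' * n * z'⁻¹) * z⁻¹ := by group
          _ = n := by rw [h1, h2]
      calc (z * z') * n = ((z * z') * n * (z * z')⁻¹) * (z * z') := by group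
        _ = n * (z * z') := by rw [this]
    rw [← hnx, ← mul_smul, hcomm, mul_smul, mul_smul, kfix z' hz'K, kfix z hz]
  have hzz' : z' = z := by
    have : z' = z⁻¹ * (z * z') := by group
    rw [this, hu, mul_one, hzinv]
  have hcomm : h0 * z = z * h0 := by
    have : h0 * z = (h0 * z * h0⁻¹) * h0 := by group
    rw [this, ← hz', hzz']
  have hzb : z • b ≠ b := kfpf z hz hz1 b (Ne.symm hab)
  have hzba : z • b ≠ a := by
    intro h
    have := h.trans (kfix z hz).symm
    exact hab (MulAction.injective z this).symm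
  have hfix : h0 • (z • b) = z • b := by
    rw [← mul_smul, hcomm, mul_smul, hh0b]
  exact hh01 (three h0 a b (z • b) hab (Ne.symm hzb) (Ne.symm hzba) hh0a hh0b hfix)


open Cfsg.Agent.Lib.Helper1 in
/-- The kernel is commutative. -/
theorem kernel_comm [Finite G]
    (N : Subgroup G) [hNn : N.Normal] (hN1 : N ≠ ⊥)
    (hNsr : ∀ n ∈ N, ∀ x : Ω, n • x = x → n = 1)
    (hNcomm : ∀ x ∈ N, ∀ y ∈ N, x * y = y * x)
    (KG : Subgroup G) (hKnil : Group.IsNilpotent KG) {a : Ω}
    (kfix : ∀ k ∈ KG, k • a = a)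
    (kfpf : ∀ k ∈ KG, k ≠ 1 → ∀ x : Ω, x ≠ a → k • x ≠ x)
    (hnoinv : ∀ z ∈ KG, z * z = 1 → z = 1) :
    ∀ x ∈ KG, ∀ y ∈ KG, x * y = y * x := by
  classical
  haveI : IsMulCommutative ↥N := ⟨⟨fun a b => Subtype.ext (hNcomm a a.2 b b.2)⟩⟩
  have hodd : ¬ 2 ∣ Nat.card KG := by
    intro h2
    haveI : Fact (Nat.Prime 2) := ⟨Nat.prime_two⟩
    obtain ⟨z, hz⟩ := exists_prime_orderOf_dvd_card' (G := KG) 2 h2
    have hz1 : z ≠ 1 := by
      intro h; rw [h, orderOf_one] at hz; exact absurd hz (by decide)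
    have hzz : (z : G) * (z : G) = 1 := by
      have := pow_orderOf_eq_one z
      rw [hz, sq] at this
      exact congrArg Subtype.val this
    exact hz1 (Subtype.ext (hnoinv (z : G) z.2 hzz))
  have hfpf : ∀ x ∈ KG, x ≠ 1 → N ⊓ Subgroup.centralizer {x} = ⊥ := by
    intro x hx hx1
    rw [Subgroup.eq_bot_iff_forall]
    intro n hn
    obtain ⟨hnN, hnC⟩ := Subgroup.mem_inf.mp hn
    rw [Subgroup.mem_centralizer_iff] at hnC
    have hc : x * n = n * x := hnC x rfl
    have hna : n • a = a := by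
      by_contra hne
      apply kfpf x hx hx1 _ hne
      rw [← mul_smul, hc, mul_smul, kfix x hx]
    exact hNsr n hnN a hna
  have hcyc : ∀ (r : ℕ) [Fact r.Prime] (P : Sylow r KG), IsCyclic (P : Subgroup KG) := by
    intro r hr P
    by_cases hr2 : r = 2
    · -- trivial Sylow
      subst hr2
      have hcard : Nat.card (P : Subgroup KG) = 1 := by
        rw [Sylow.card_eq_multiplicity]
        have : (Nat.card KG).factorization 2 = 0 := Nat.factorization_eq_zero_of_not_dvd hodd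
        rw [this, pow_zero]
      haveI : Subsingleton (P : Subgroup KG) := (Nat.card_eq_one_iff_unique.mp hcard).1
      infer_instance
    · let R : Subgroup G := (P : Subgroup KG).map KG.subtype
      have hRK : R ≤ KG := by
        rintro x ⟨y, -, rfl⟩
        exact y.2
      have hRp : IsPGroup r R := P.2.map KG.subtype
      have hR : IsCyclic R := by
        apply isCyclic_pgroup_of_fpf R N hN1 ?_ ?_ r hr2 hRp
        · intro x _
          rw [Subgroup.normalizer_eq_top]; trivial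
        · intro x hx hx1
          exact hfpf x (hRK hx) hx1
      let e : (P : Subgroup KG) ≃* R :=
        (P : Subgroup KG).equivMapOfInjective KG.subtype (Subgroup.subtype_injective _)
      exact isCyclic_of_surjective e.symm e.symm.surjective
  have htfae := (Group.isNilpotent_of_finite_tfae (G := KG)).out 0 4
  obtain ⟨φ⟩ := htfae.mp hKnil
  have hcommK : ∀ x y : KG, x * y = y * x := by
    intro x y
    apply φ.symm.injective
    rw [map_mul, map_mul]
    funext p P
    haveI : Fact (p : ℕ).Prime := ⟨Nat.prime_of_mem_primeFactors p.2⟩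
    haveI := hcyc p P
    show (φ.symm x p P) * (φ.symm y p P) = (φ.symm y p P) * (φ.symm x p P)
    obtain ⟨g, hg⟩ := IsCyclic.exists_generator (α := (P : Subgroup KG))
    obtain ⟨i, hi⟩ := Subgroup.mem_zpowers_iff.mp (hg (φ.symm x p P))
    obtain ⟨j, hj⟩ := Subgroup.mem_zpowers_iff.mp (hg (φ.symm y p P))
    rw [← hi, ← hj, ← zpow_add, ← zpow_add, add_comm]
  intro x hx y hy
  exact congrArg Subtype.val (hcommK ⟨x, hx⟩ ⟨y, hy⟩)


open Cfsg.Agent.Lib.Helper9 in
/-- S0341: a 2-transitive group with trivial 3-point stabilizers, nontrivial 2-point stabilizers and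
a regular normal subgroup has degree `2 ^ p`, `p` prime. -/
theorem degree_two_pow_prime [Fintype Ω] [FaithfulSMul G Ω]
    (h2 : MulAction.IsMultiplyPretransitive G Ω 2)
    (h3 : ∀ g : G, ∀ a b c : Ω, a ≠ b → b ≠ c → a ≠ c → g • a = a → g • b = b → g • c = c → g = 1)
    (hfix : ∃ g : G, g ≠ 1 ∧ ∃ a b : Ω, a ≠ b ∧ g • a = a ∧ g • b = b)
    (N : Subgroup G) [hNn : N.Normal] (hNt : MulAction.IsPretransitive N Ω)
    (hNr : ∀ a : Ω, MulAction.stabilizer N a = ⊥) :
    ∃ p : ℕ, p.Prime ∧ Fintype.card Ω = 2 ^ p := by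
  classical
  have two : ∀ {a b c d : Ω}, a ≠ b → c ≠ d → ∃ g : G, g • a = c ∧ g • b = d :=
    fun hab hcd => MulAction.is_two_pretransitive_iff.mp h2 hab hcd
  obtain ⟨h0, hh01, a, b, hab, hh0a, hh0b⟩ := hfix
  haveI : Finite G := finite_of_faithful (Ω := Ω)
  have hNtr : ∀ x y : Ω, ∃ n ∈ N, n • x = y := by
    intro x y
    obtain ⟨n, hn⟩ := MulAction.exists_smul_eq N x y
    exact ⟨(n : G), n.2, hn⟩
  have hNsr : ∀ n ∈ N, ∀ x : Ω, n • x = x → n = 1 := by
    intro n hn x hnx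
    have : (⟨n, hn⟩ : N) ∈ MulAction.stabilizer N x := MulAction.mem_stabilizer_iff.mpr hnx
    rw [hNr x, Subgroup.mem_bot] at this
    exact congrArg Subtype.val this
  have hNeq : ∀ n ∈ N, ∀ n' ∈ N, ∀ x : Ω, n • x = n' • x → n = n' := by
    intro n hn n' hn' x hx
    have h1 : (n'⁻¹ * n) • x = x := by rw [mul_smul, hx, inv_smul_smul]
    have h2' := hNsr _ (N.mul_mem (N.inv_mem hn') hn) x h1
    have : n = n' * (n'⁻¹ * n) := by group
    rw [this, h2', mul_one]
  have hNcomm := reg_normal_comm two N hNsr a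
  obtain ⟨e, heN, hea⟩ := hNtr a b
  have he1 : e ≠ 1 := by
    intro h; rw [h, one_smul] at hea; exact hab hea
  have hN1 : N ≠ ⊥ := by
    intro h; rw [h, Subgroup.mem_bot] at heN; exact he1 heN
  obtain ⟨KG, hKnil, kfix, kfpf, ktr, knorm⟩ := kernel_data two h3 hab hh01 hh0a hh0b
  have hnoinv := no_invol h3 N hNtr hNsr hNcomm KG hab kfix kfpf knorm hh01 hh0a hh0b
  have hKcomm := kernel_comm N hN1 hNsr hNcomm KG hKnil kfix kfpf hnoinv
  -- an element of prime order fixing a b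
  have hord : orderOf h0 ≠ 1 := fun h => hh01 (orderOf_eq_one_iff.mp h)
  set t := (orderOf h0).minFac with ht
  have htp : t.Prime := Nat.minFac_prime hord
  haveI : Fact t.Prime := ⟨htp⟩
  set h := h0 ^ (orderOf h0 / t) with hh
  have hht : orderOf h = t := orderOf_pow_orderOf_div (orderOf_pos h0).ne' (Nat.minFac_dvd _)
  have hh1 : h ≠ 1 := by
    intro h'
    rw [h', orderOf_one] at hht
    exact htp.one_lt.ne hht
  have hpowfix : ∀ (j : ℕ) (x : Ω), h0 • x = x → (h0 ^ j) • x = x := by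
    intro j x hx
    induction j with
    | zero => simp
    | succ j ih => rw [pow_succ, mul_smul, hx, ih]
  have hha : h • a = a := hpowfix _ a hh0a
  have hhb : h • b = b := hpowfix _ b hh0b
  have hhfix : ∀ x : Ω, h • x = x → x = a ∨ x = b := by
    intro x hx
    by_contra hcon
    push Not at hcon
    exact hh1 (h3 h a b x hab (Ne.symm hcon.2) (Ne.symm hcon.1) hha hhb hx)
  -- the field
  have hnorm : ∀ d ∈ KG, ∀ x ∈ N, d * x * d⁻¹ ∈ N := fun d _ x hx => hNn.conj_mem x hx d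
  have hreg : ∀ x ∈ N, x ≠ 1 → ∃ d ∈ KG, d * e * d⁻¹ = x := by
    intro x hx hx1
    have hxa : x • a ≠ a := fun h' => hx1 (hNsr x hx a h')
    obtain ⟨k, hk, hkb⟩ := ktr b (x • a) (Ne.symm hab) hxa
    refine ⟨k, hk, ?_⟩
    apply hNeq _ (hNn.conj_mem e heN k) _ hx a
    have : k⁻¹ • a = a := by rw [inv_smul_eq_iff, kfix k hk]
    rw [mul_smul, mul_smul, this, hea, hkb]
  haveI : Finite ↥N := inferInstance
  obtain ⟨F, instF, instFin, ι, δ, hιinj, hιsurj, hιN, hιadd, hι1, hδ⟩ :=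
    exists_field_of_regular N KG hNcomm hKcomm hnorm e heN he1 hreg
  have hι0 : ι 0 = 1 := by
    have := hιadd 0 0
    rw [add_zero] at this
    exact mul_left_cancel (a := ι 0) (by rw [mul_one]; exact this.symm)
  -- the automorphism
  have hσex : ∀ x : F, ∃ y : F, ι y = h * ι x * h⁻¹ :=
    fun x => hιsurj _ (hNn.conj_mem _ (hιN x) h)
  choose σ hσ using hσex
  have hheh : h * e * h⁻¹ = e := by
    apply hNeq _ (hNn.conj_mem e heN h) _ heN a
    have : h⁻¹ • a = a := by rw [inv_smul_eq_iff, hha]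
    rw [mul_smul, mul_smul, this, hea, hhb]
  have hσ1 : σ 1 = 1 := by
    apply hιinj
    rw [hσ, hι1, hheh]
  have hσ0 : σ 0 = 0 := by
    apply hιinj
    rw [hσ, hι0]; group
  have hσadd : ∀ x y, σ (x + y) = σ x + σ y := by
    intro x y
    apply hιinj
    rw [hσ, hιadd, hιadd, hσ, hσ]; group
  have hσne : ∀ m : F, m ≠ 0 → σ m ≠ 0 := by
    intro m hm h'
    apply hm
    apply hιinj
    have := hσ m
    rw [h', hι0] at this
    rw [hι0]
    have e1 : ι m = h⁻¹ * (h * ι m * h⁻¹) * h := by group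
    rw [e1, ← this]; group
  have hσmul : ∀ m x, σ (m * x) = σ m * σ x := by
    intro m x
    by_cases hm : m = 0
    · rw [hm, zero_mul, hσ0, zero_mul]
    have hm' := hσne m hm
    obtain ⟨hd1, hd2⟩ := hδ m hm
    obtain ⟨hd3, hd4⟩ := hδ (σ m) hm'
    have hd'K : h * δ m * h⁻¹ ∈ KG := knorm h hha _ hd1
    -- d' = δ (σ m)
    have hkey : h * δ m * h⁻¹ = δ (σ m) := by
      have h5 : (h * δ m * h⁻¹) * e * (h * δ m * h⁻¹)⁻¹ = δ (σ m) * e * (δ (σ m))⁻¹ := by
        have h6 := hd2 1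
        rw [mul_one, hι1] at h6
        have h7 := hd4 1
        rw [mul_one, hι1] at h7
        have hheh' : h⁻¹ * e * h = e := by
          conv_lhs => rw [← hheh]
          group
        calc (h * δ m * h⁻¹) * e * (h * δ m * h⁻¹)⁻¹
            = h * (δ m * (h⁻¹ * e * h) * (δ m)⁻¹) * h⁻¹ := by group
          _ = h * (δ m * e * (δ m)⁻¹) * h⁻¹ := by rw [hheh']
          _ = h * ι m * h⁻¹ := by rw [h6]
          _ = ι (σ m) := (hσ m).symm
          _ = δ (σ m) * e * (δ (σ m))⁻¹ := h7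
      set c := (δ (σ m))⁻¹ * (h * δ m * h⁻¹) with hc
      have hcK : c ∈ KG := KG.mul_mem (KG.inv_mem hd3) hd'K
      have hce : c * e = e * c := by
        have : c * e * c⁻¹ = e := by
          rw [hc]
          calc (δ (σ m))⁻¹ * (h * δ m * h⁻¹) * e * ((δ (σ m))⁻¹ * (h * δ m * h⁻¹))⁻¹
              = (δ (σ m))⁻¹ * ((h * δ m * h⁻¹) * e * (h * δ m * h⁻¹)⁻¹) * δ (σ m) := by group
            _ = e := by rw [h5]; group
        calc c * e = (c * e * c⁻¹) * c := by group
          _ = e * c := by rw [this]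
      have hcb : c • b = b := by
        rw [← hea, ← mul_smul, hce, mul_smul, kfix c hcK]
      have hc1 : c = 1 := by
        by_contra hne
        exact kfpf c hcK hne b (Ne.symm hab) hcb
      have : h * δ m * h⁻¹ = δ (σ m) * c := by rw [hc]; group
      rw [this, hc1, mul_one]
    apply hιinj
    rw [hσ, hd2 x, hd4 (σ x), hσ x, ← hkey]; group
  let σR : F →+* F :=
    { toFun := σ, map_one' := hσ1, map_mul' := hσmul, map_zero' := hσ0, map_add' := hσadd }
  have hσRbij : Function.Bijective σR :=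
    ⟨σR.injective, Finite.surjective_of_injective σR.injective⟩
  let σA : RingAut F := RingEquiv.ofBijective σR hσRbij
  have hσA : ∀ x, σA x = σ x := fun x => rfl
  have hpow : ∀ (j : ℕ) (x : F), ι ((σA ^ j) x) = h ^ j * ι x * (h ^ j)⁻¹ := by
    intro j
    induction j with
    | zero => intro x; simp
    | succ j ih =>
      intro x
      rw [pow_succ', RingAut.mul_apply, hσA, hσ, ih, pow_succ']; group
  have hσAt : σA ^ t = 1 := by
    ext x
    apply hιinj
    rw [hpow, ← hht, pow_orderOf_eq_one]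
    simp
  have hσA1 : σA ≠ 1 := by
    intro h'
    apply hh1
    apply FaithfulSMul.eq_of_smul_eq_smul (α := Ω)
    intro x
    rw [one_smul]
    obtain ⟨n, hn, hnx⟩ := hNtr a x
    obtain ⟨y, hy⟩ := hιsurj n hn
    have h5 : h * n * h⁻¹ = n := by
      rw [← hy, ← hσ, ← hσA, h']; rfl
    have h6 : h * n = n * h := by
      calc h * n = (h * n * h⁻¹) * h := by group
        _ = n * h := by rw [h5]
    rw [← hnx, ← mul_smul, h6, mul_smul, hha]
  have hordσ : orderOf σA = t := orderOf_eq_prime hσAt hσA1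
  -- the fixed field
  haveI : Finite (RingAut F) := Finite.of_injective (fun τ : RingAut F => (τ : F → F))
    DFunLike.coe_injective
  haveI : Fintype (Subgroup.zpowers σA) := Fintype.ofFinite _
  have hfixed : ∀ x : FixedPoints.subfield (Subgroup.zpowers σA) F, x = 0 ∨ x = 1 := by
    intro x
    have hx : σA (x : F) = x := x.2 ⟨σA, Subgroup.mem_zpowers σA⟩
    rw [hσA] at hx
    have h5 : h * ι (x : F) * h⁻¹ = ι (x : F) := by rw [← hσ, hx]
    have h6 : h • (ι (x : F) • a) = ι (x : F) • a := by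
      have : h * ι (x : F) = ι (x : F) * h := by
        calc h * ι (x : F) = (h * ι (x : F) * h⁻¹) * h := by group
          _ = ι (x : F) * h := by rw [h5]
      rw [← mul_smul, this, mul_smul, hha]
    rcases hhfix _ h6 with h7 | h7
    · left
      apply Subtype.ext
      apply hιinj
      show ι (x : F) = ι 0
      rw [hι0]
      exact hNsr _ (hιN _) a h7
    · right
      apply Subtype.ext
      apply hιinj
      show ι (x : F) = ι 1
      rw [hι1]
      exact hNeq _ (hιN _) _ heN a (h7.trans hea.symm)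
  have hcardS : Fintype.card (FixedPoints.subfield (Subgroup.zpowers σA) F) = 2 := by
    rw [← Nat.card_eq_fintype_card, Nat.card_eq_two_iff]
    refine ⟨0, 1, zero_ne_one, ?_⟩
    ext x
    simp only [Set.mem_insert_iff, Set.mem_singleton_iff, Set.mem_univ, iff_true]
    exact hfixed x
  have hrank : Module.finrank (FixedPoints.subfield (Subgroup.zpowers σA) F) F = t := by
    rw [FixedPoints.finrank_eq_card, ← Nat.card_eq_fintype_card, Nat.card_zpowers, hordσ]
  have hcardF : Fintype.card F = 2 ^ t := by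
    rw [Module.card_eq_pow_finrank (K := FixedPoints.subfield (Subgroup.zpowers σA) F) (V := F),
      hcardS, hrank]
  -- F ≃ Ω
  have hbij : Function.Bijective (fun x : F => ι x • a) := by
    constructor
    · intro x y hxy
      exact hιinj (hNeq _ (hιN x) _ (hιN y) a hxy)
    · intro z
      obtain ⟨n, hn, hnz⟩ := hNtr a z
      obtain ⟨x, hx⟩ := hιsurj n hn
      exact ⟨x, by simp only [hx, hnz]⟩
  refine ⟨t, htp, ?_⟩
  rw [← hcardF]
  exact (Fintype.card_of_bijective hbij).symm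

end Main

end Reg

end Cfsg.Agent.Lib.helper6.ZassReg
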