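import Mathlib
import Cfsg.Agent.Lib.helper6.ZassReg
import Cfsg.Agent.Lib.Helper1.FrobCenter

set_option autoImplicit false

namespace Cfsg.Agent.Lib.helper6.ZassOddStab

open MulAction

variable {G Ω : Type*} [Group G] [MulAction G Ω]

/-- Basic hypotheses: doubly transitive, three-point stabilisers trivial, two marked points. -/
structure ZQ (G Ω : Type*) [Group G] [MulAction G Ω] (a b : Ω) : Prop where
  two : ∀ {x y z w : Ω}, x ≠ y → z ≠ w → ∃ g : G, g • x = z ∧ g • y = w
  three : ∀ g : G, ∀ x y z : Ω, x ≠ y → y ≠ z → x ≠ z → g • x = x → g • y = y → g • z = z → g = 1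
  hab : a ≠ b

/-- `g` interchanges `a` and `b`. -/
def IsSwap (a b : Ω) (g : G) : Prop := g • a = b ∧ g • b = a

variable {a b : Ω}

theorem mem_Hs {g : G} : g ∈ stabilizer G a ⊓ stabilizer G b ↔ g • a = a ∧ g • b = b := by
  simp only [Subgroup.mem_inf, mem_stabilizer_iff]

/-- A subgroup of `H` whose order is divisible by the full power of each prime is all of `H`. -/
theorem eq_of_factorization_le [Finite G] {C H : Subgroup G} (hCH : C ≤ H)
    (h : ∀ q : ℕ, q.Prime → q ∣ Nat.card H → q ^ (Nat.card H).factorization q ∣ Nat.card C) :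
    C = H := by
  have hdvd : Nat.card H ∣ Nat.card C := by
    rw [← Nat.factorization_le_iff_dvd Nat.card_pos.ne' Nat.card_pos.ne']
    intro q
    by_cases hq : q.Prime
    · by_cases hqd : q ∣ Nat.card H
      · exact (hq.pow_dvd_iff_le_factorization Nat.card_pos.ne').mp (h q hq hqd)
      · rw [Nat.factorization_eq_zero_of_not_dvd hqd]; exact Nat.zero_le _
    · rw [Nat.factorization_eq_zero_of_not_prime _ hq]; exact Nat.zero_le _
  exact Subgroup.eq_of_le_of_card_ge hCH (Nat.le_of_dvd Nat.card_pos hdvd)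

namespace ZQ

variable (Z : ZQ G Ω a b)
include Z

theorem fix_sub {x : G} (hx : x ∈ stabilizer G a ⊓ stabilizer G b) (hx1 : x ≠ 1) {c : Ω}
    (hc : x • c = c) : c = a ∨ c = b := by
  by_contra h
  push Not at h
  obtain ⟨h1, h2⟩ := mem_Hs.mp hx
  exact hx1 (Z.three x a b c Z.hab (Ne.symm h.2) (Ne.symm h.1) h1 h2 hc)

theorem swap_mul_H {s h : G} (hs : IsSwap a b s) (hh : h ∈ stabilizer G a ⊓ stabilizer G b) :
    IsSwap a b (s * h) := by
  obtain ⟨h1, h2⟩ := mem_Hs.mp hh
  exact ⟨by rw [mul_smul, h1, hs.1], by rw [mul_smul, h2, hs.2]⟩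

theorem H_mul_swap {s h : G} (hs : IsSwap a b s) (hh : h ∈ stabilizer G a ⊓ stabilizer G b) :
    IsSwap a b (h * s) := by
  obtain ⟨h1, h2⟩ := mem_Hs.mp hh
  exact ⟨by rw [mul_smul, hs.1, h2], by rw [mul_smul, hs.2, h1]⟩

theorem swap_inv {s : G} (hs : IsSwap a b s) : IsSwap a b s⁻¹ :=
  ⟨by rw [inv_smul_eq_iff, hs.2], by rw [inv_smul_eq_iff, hs.1]⟩

theorem swap_mul_swap {s s' : G} (hs : IsSwap a b s) (hs' : IsSwap a b s') :
    s * s' ∈ stabilizer G a ⊓ stabilizer G b :=
  mem_Hs.mpr ⟨by rw [mul_smul, hs'.1, hs.2], by rw [mul_smul, hs'.2, hs.1]⟩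

theorem conj_mem {s h : G} (hs : IsSwap a b s) (hh : h ∈ stabilizer G a ⊓ stabilizer G b) :
    s * h * s⁻¹ ∈ stabilizer G a ⊓ stabilizer G b :=
  Z.swap_mul_swap (Z.swap_mul_H hs hh) (Z.swap_inv hs)

theorem exists_swap : ∃ s : G, IsSwap a b s := Z.two Z.hab (Ne.symm Z.hab)

/-- the normaliser of a nontrivial subgroup of `H` lies in `H ∪ S` -/
theorem normalizer_sub (Q : Subgroup G) (hQ : Q ≤ stabilizer G a ⊓ stabilizer G b) (hQ1 : Q ≠ ⊥)
    {g : G} (hg : g ∈ Subgroup.normalizer (Q : Set G)) :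
    g ∈ stabilizer G a ⊓ stabilizer G b ∨ IsSwap a b g := by
  obtain ⟨⟨x, hxQ⟩, hx1'⟩ := (Subgroup.ne_bot_iff_exists_ne_one).mp hQ1
  have hx1 : x ≠ 1 := fun h => hx1' (Subtype.ext h)
  have hy : g * x * g⁻¹ ∈ Q := (Subgroup.mem_normalizer_iff.mp hg x).mp hxQ
  have hy1 : g * x * g⁻¹ ≠ 1 := by
    intro h
    apply hx1
    have : x = g⁻¹ * (g * x * g⁻¹) * g := by group
    rw [this, h]; group
  obtain ⟨hxa, hxb⟩ := mem_Hs.mp (hQ hxQ)
  have h1 : (g * x * g⁻¹) • (g • a) = g • a := by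
    rw [mul_smul, mul_smul, inv_smul_smul, hxa]
  have h2 : (g * x * g⁻¹) • (g • b) = g • b := by
    rw [mul_smul, mul_smul, inv_smul_smul, hxb]
  have hne : g • a ≠ g • b := fun h => Z.hab (MulAction.injective g h)
  rcases Z.fix_sub (hQ hy) hy1 h1 with ha | ha
  · rcases Z.fix_sub (hQ hy) hy1 h2 with hb | hb
    · exact absurd (ha.trans hb.symm) hne
    · exact Or.inl (mem_Hs.mpr ⟨ha, hb⟩)
  · rcases Z.fix_sub (hQ hy) hy1 h2 with hb | hb
    · exact Or.inr ⟨ha, hb⟩
    · exact absurd (ha.trans hb.symm) hne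

/-- If some involution swapping `a`, `b` has trivial centraliser in `H`, every swap is an
involution. -/
theorem all_swaps_invol [Finite G] {s0 : G} (hs0 : IsSwap a b s0) (hs00 : s0 * s0 = 1)
    (hC : ∀ h ∈ stabilizer G a ⊓ stabilizer G b, h * s0 = s0 * h → h = 1)
    {s : G} (hs : IsSwap a b s) : s * s = 1 := by
  classical
  let H : Subgroup G := stabilizer G a ⊓ stabilizer G b
  -- the map h ↦ h s0 h⁻¹ s0⁻¹ is injective on H, hence surjective
  let ψ : H → H := fun h => ⟨(h : G) * s0 * (h : G)⁻¹ * s0⁻¹,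
    Z.swap_mul_swap (Z.swap_mul_H (Z.H_mul_swap hs0 h.2) (H.inv_mem h.2)) (Z.swap_inv hs0)⟩
  have hψinj : Function.Injective ψ := by
    intro h h' hh
    have h1 : (h : G) * s0 * (h : G)⁻¹ * s0⁻¹ = (h' : G) * s0 * (h' : G)⁻¹ * s0⁻¹ :=
      congrArg Subtype.val hh
    have h2 : ((h' : G)⁻¹ * (h : G)) * s0 = s0 * ((h' : G)⁻¹ * (h : G)) := by
      have e1 : (h : G) * s0 * (h : G)⁻¹ = (h' : G) * s0 * (h' : G)⁻¹ := by
        calc (h : G) * s0 * (h : G)⁻¹ = ((h : G) * s0 * (h : G)⁻¹ * s0⁻¹) * s0 := by group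
          _ = ((h' : G) * s0 * (h' : G)⁻¹ * s0⁻¹) * s0 := by rw [h1]
          _ = (h' : G) * s0 * (h' : G)⁻¹ := by group
      calc ((h' : G)⁻¹ * (h : G)) * s0 = (h' : G)⁻¹ * ((h : G) * s0 * (h : G)⁻¹) * (h : G) := by group
        _ = (h' : G)⁻¹ * ((h' : G) * s0 * (h' : G)⁻¹) * (h : G) := by rw [e1]
        _ = s0 * ((h' : G)⁻¹ * (h : G)) := by group
    have h3 := hC _ (H.mul_mem (H.inv_mem h'.2) h.2) h2
    apply Subtype.ext
    have : (h : G) = (h' : G) * ((h' : G)⁻¹ * (h : G)) := by group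
    rw [this, h3, mul_one]
  have hψsurj : Function.Surjective ψ := Finite.surjective_of_injective hψinj
  have hmem : s * s0⁻¹ ∈ H := Z.swap_mul_swap hs (Z.swap_inv hs0)
  obtain ⟨h, hh⟩ := hψsurj ⟨_, hmem⟩
  have h1 : (h : G) * s0 * (h : G)⁻¹ * s0⁻¹ = s * s0⁻¹ := congrArg Subtype.val hh
  have h2 : s = (h : G) * s0 * (h : G)⁻¹ := by
    calc s = (s * s0⁻¹) * s0 := by group
      _ = ((h : G) * s0 * (h : G)⁻¹ * s0⁻¹) * s0 := by rw [h1]
      _ = (h : G) * s0 * (h : G)⁻¹ := by group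
  rw [h2]
  calc (h : G) * s0 * (h : G)⁻¹ * ((h : G) * s0 * (h : G)⁻¹) = (h : G) * (s0 * s0) * (h : G)⁻¹ := by
        group
    _ = 1 := by rw [hs00]; group

/-- If every swap is an involution, swaps invert `H` and `H` is commutative. -/
theorem invert_of_all_invol (hall : ∀ s : G, IsSwap a b s → s * s = 1) :
    (∀ s : G, IsSwap a b s → ∀ h ∈ stabilizer G a ⊓ stabilizer G b, s * h * s⁻¹ = h⁻¹) ∧
      (∀ h ∈ stabilizer G a ⊓ stabilizer G b, ∀ k ∈ stabilizer G a ⊓ stabilizer G b,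
        h * k = k * h) := by
  have hinv : ∀ s : G, IsSwap a b s → ∀ h ∈ stabilizer G a ⊓ stabilizer G b,
      s * h * s⁻¹ = h⁻¹ := by
    intro s hs h hh
    have h1 := hall s hs
    have h2 := hall (s * h) (Z.swap_mul_H hs hh)
    have hsinv : s⁻¹ = s := by rw [inv_eq_iff_mul_eq_one]; exact h1
    rw [hsinv]
    have : s * h * s = (s * h) * (s * h) * h⁻¹ := by group
    rw [this, h2, one_mul]
  refine ⟨hinv, ?_⟩
  obtain ⟨s, hs⟩ := Z.exists_swap
  intro h hh k hk
  have h1 := hinv s hs _ (Subgroup.mul_mem _ hh hk)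
  have h2 := hinv s hs h hh
  have h3 := hinv s hs k hk
  have h4 : s * (h * k) * s⁻¹ = (s * h * s⁻¹) * (s * k * s⁻¹) := by group
  rw [h1, h2, h3] at h4
  have h5 : (h * k)⁻¹ = (k * h)⁻¹ := by rw [h4]; group
  exact inv_injective h5

/-- The two-point stabiliser, if of odd order, has all Sylow subgroups cyclic. -/
theorem isZGroup_H [Finite G] (KG : Subgroup G) (hKnil : Group.IsNilpotent KG)
    (kfix : ∀ k ∈ KG, k • a = a) (kfpf : ∀ k ∈ KG, k ≠ 1 → ∀ x : Ω, x ≠ a → k • x ≠ x)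
    (ktr : ∀ x y : Ω, x ≠ a → y ≠ a → ∃ k ∈ KG, k • x = y)
    (knorm : ∀ g : G, g • a = a → ∀ k ∈ KG, g * k * g⁻¹ ∈ KG)
    (h3 : ∃ c : Ω, c ≠ a ∧ c ≠ b)
    (hodd : Odd (Nat.card ↥(stabilizer G a ⊓ stabilizer G b))) :
    IsZGroup ↥(stabilizer G a ⊓ stabilizer G b) := by
  classical
  set H : Subgroup G := stabilizer G a ⊓ stabilizer G b with hH
  obtain ⟨c, hca, hcb⟩ := h3
  obtain ⟨k0, hk0, hk0c⟩ := ktr b c (Ne.symm Z.hab) hca
  have hk01 : k0 ≠ 1 := by
    intro h; rw [h, one_smul] at hk0c; exact hcb hk0c.symm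
  haveI : Nontrivial KG := ⟨⟨⟨k0, hk0⟩, 1, fun h => hk01 (congrArg Subtype.val h)⟩⟩
  have hcen : Subgroup.center KG ≠ ⊥ := Group.IsNilpotent.center_ne_bot (G := ↥KG)
  let V : Subgroup G := (Subgroup.center KG).map KG.subtype
  have hVK : V ≤ KG := Subgroup.map_subtype_le _
  have hVbot : V ≠ ⊥ := by
    intro h
    rw [Subgroup.map_eq_bot_iff_of_injective _ KG.subtype_injective] at h
    exact hcen h
  have hVc : IsMulCommutative V := by
    refine ⟨⟨?_⟩⟩
    rintro ⟨_, x, hx, rfl⟩ ⟨_, y, hy, rfl⟩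
    apply Subtype.ext
    have := (Subgroup.mem_center_iff.mp hx) y
    exact (congrArg Subtype.val this).symm
  have hHK : H ≤ Subgroup.normalizer (KG : Set G) := by
    rw [Subgroup.le_normalizer_iff]
    intro h hh k hk
    obtain ⟨hha, -⟩ := mem_Hs.mp hh
    exact knorm h hha k hk
  have hHV : H ≤ Subgroup.normalizer (V : Set G) :=
    Cfsg.Agent.Lib.Lead.le_normalizer_map_characteristic KG H hHK (Subgroup.center KG)
  have hfpf : ∀ h ∈ H, h ≠ 1 → V ⊓ Subgroup.centralizer {h} = ⊥ := by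
    intro h hh hh1
    rw [eq_bot_iff]
    intro x hx
    obtain ⟨hxV, hxC⟩ := Subgroup.mem_inf.mp hx
    rw [Subgroup.mem_bot]
    by_contra hx1
    have hxK : x ∈ KG := hVK hxV
    have hcomm : h * x = x * h := (Subgroup.mem_centralizer_singleton_iff.mp hxC).symm
    obtain ⟨hha, hhb⟩ := mem_Hs.mp hh
    have h1 : h • (x • b) = x • b := by rw [← mul_smul, hcomm, mul_smul, hhb]
    have h2 : x • b ≠ b := kfpf x hxK hx1 b (Ne.symm Z.hab)
    have h3 : x • b ≠ a := by
      intro h'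
      have := h'.trans (kfix x hxK).symm
      exact Z.hab (MulAction.injective x this).symm
    exact hh1 (Z.three h a b (x • b) Z.hab (Ne.symm h2) (Ne.symm h3) hha hhb h1)
  have hmapH : ∀ D : Subgroup H, D.map H.subtype ≤ H := fun D => Subgroup.map_subtype_le D
  refine ⟨fun p hp P => ?_⟩
  have hpf : Fact p.Prime := ⟨hp⟩
  apply Cfsg.Agent.Lib.Helper1.isCyclic_of_map_subtype H (P : Subgroup H)
  have hPp : IsPGroup p ((P : Subgroup H).map H.subtype) := P.2.map _
  by_cases hp2 : p = 2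
  · subst hp2
    obtain ⟨k, hk⟩ := IsPGroup.iff_card.mp hPp
    have hk0 : k = 0 := by
      by_contra hk0
      have h1 : 2 ∣ Nat.card ((P : Subgroup H).map H.subtype) := hk ▸ dvd_pow_self 2 hk0
      have h2 : 2 ∣ Nat.card H := h1.trans (Subgroup.card_dvd_of_le (hmapH _))
      exact (Nat.not_even_iff_odd.mpr hodd) (even_iff_two_dvd.mpr h2)
    rw [hk0, pow_zero] at hk
    have := (Nat.card_eq_one_iff_unique.mp hk).1
    exact isCyclic_of_subsingleton
  · exact Cfsg.Agent.Lib.Helper1.isCyclic_pgroup_of_fpf _ V hVbot ((hmapH _).trans hHV)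
      (fun x hx => hfpf x (hmapH _ hx)) p hp2 hPp

/-- An automorphism-like conjugation of order two on a cyclic group of odd prime power order is
trivial or inversion. -/
theorem conj_cyclic_dichotomy {q m : ℕ} (hq : q.Prime) (hq2 : q ≠ 2) (x g : G)
    (hx : orderOf x = q ^ m) {k : ℕ} (hk : g * x * g⁻¹ = x ^ k)
    (hg2 : (g * g) * x * (g * g)⁻¹ = x) : g * x * g⁻¹ = x ∨ g * x * g⁻¹ = x⁻¹ := by
  have h1 : (g * g) * x * (g * g)⁻¹ = x ^ (k * k) := by
    calc (g * g) * x * (g * g)⁻¹ = g * (g * x * g⁻¹) * g⁻¹ := by group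
      _ = g * x ^ k * g⁻¹ := by rw [hk]
      _ = (g * x * g⁻¹) ^ k := by rw [conj_pow]
      _ = x ^ (k * k) := by rw [hk, ← pow_mul]
  rw [hg2] at h1
  have h2 : x ^ (k * k) = x ^ 1 := by rw [pow_one]; exact h1.symm
  have h3 : k * k ≡ 1 [MOD q ^ m] := by
    rw [← hx]
    exact pow_eq_pow_iff_modEq.mp h2
  by_cases hm : m = 0
  · left
    rw [hm, pow_zero, orderOf_eq_one_iff] at hx
    rw [hx]; group
  have hk0 : k ≠ 0 := by
    intro h
    rw [h, mul_zero] at h3
    have h' : q ^ m ∣ 1 - 0 := h3.dvd'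
    have hq1 : 1 < q ^ m := Nat.one_lt_pow hm hq.one_lt
    have := Nat.le_of_dvd (by norm_num) h'
    omega
  have h4 : q ^ m ∣ (k - 1) * (k + 1) := by
    have h5 : (k - 1) * (k + 1) = k * k - 1 := by
      obtain ⟨j, rfl⟩ : ∃ j, k = j + 1 := ⟨k - 1, by omega⟩
      have e1 : j + 1 - 1 = j := by omega
      have e2 : (j + 1) * (j + 1) - 1 = j * (j + 1 + 1) := by
        have : (j + 1) * (j + 1) = j * (j + 1 + 1) + 1 := by ring
        omega
      rw [e1, e2]
    rw [h5]
    exact h3.symm.dvd'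
  have hcop : ¬ (q ∣ k - 1 ∧ q ∣ k + 1) := by
    rintro ⟨ha, hb⟩
    have : q ∣ (k + 1) - (k - 1) := Nat.dvd_sub hb ha
    have h2' : (k + 1) - (k - 1) = 2 := by omega
    rw [h2'] at this
    have := Nat.le_of_dvd (by norm_num) this
    have := hq.two_le
    omega
  by_cases ha : q ∣ k - 1
  · have hb : ¬ q ∣ k + 1 := fun hb => hcop ⟨ha, hb⟩
    have hc : Nat.Coprime (q ^ m) (k + 1) :=
      Nat.Coprime.pow_left m ((Nat.Prime.coprime_iff_not_dvd hq).mpr hb)
    have h6 : q ^ m ∣ k - 1 := hc.dvd_of_dvd_mul_right h4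
    left
    rw [hk]
    have : x ^ (k - 1) = 1 := by
      rw [← hx] at h6
      exact orderOf_dvd_iff_pow_eq_one.mp h6
    calc x ^ k = x ^ (k - 1 + 1) := by congr 1; omega
      _ = x := by rw [pow_succ, this, one_mul]
  · have hc : Nat.Coprime (q ^ m) (k - 1) :=
      Nat.Coprime.pow_left m ((Nat.Prime.coprime_iff_not_dvd hq).mpr ha)
    have h6 : q ^ m ∣ k + 1 := hc.dvd_of_dvd_mul_left h4
    right
    rw [hk]
    have : x ^ (k + 1) = 1 := by
      rw [← hx] at h6
      exact orderOf_dvd_iff_pow_eq_one.mp h6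
    rw [pow_succ] at this
    exact eq_inv_of_mul_eq_one_left this

/-- Burnside transfer: a Sylow `q`-subgroup of `G` inside `H`, meeting `H'` trivially, is inverted
by some swap, if `G` has no normal `q`-complement. -/
theorem invert_sylow [Finite G] [IsZGroup ↥(stabilizer G a ⊓ stabilizer G b)]
    {q : ℕ} [hqf : Fact q.Prime] (hq2 : q ≠ 2)
    (Q : Subgroup G) (hQH : Q ≤ stabilizer G a ⊓ stabilizer G b)
    (hQcard : Nat.card Q = q ^ (Nat.card G).factorization q) (hQ1 : Q ≠ ⊥)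
    (hQc : ∀ x ∈ Q, x ∈ ⁅stabilizer G a ⊓ stabilizer G b, stabilizer G a ⊓ stabilizer G b⁆ →
      x = 1)
    (hno : ¬ ∃ N : Subgroup G, N.Normal ∧ N.index = q ^ (Nat.card G).factorization q) :
    ∃ g : G, IsSwap a b g ∧ ∀ x ∈ Q, g * x * g⁻¹ = x⁻¹ := by
  classical
  set H : Subgroup G := stabilizer G a ⊓ stabilizer G b with hH
  let P : Sylow q G := Sylow.ofCard Q hQcard
  have hPQ : (P : Subgroup G) = Q := Sylow.coe_ofCard Q hQcard
  have hHcent : ∀ g ∈ H, g ∈ Subgroup.normalizer (Q : Set G) → ∀ x ∈ Q, g * x * g⁻¹ = x := by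
    intro g hg hgn x hx
    have h1 : g * x * g⁻¹ ∈ Q := (Subgroup.mem_normalizer_iff.mp hgn x).mp hx
    have h2 : g * x * g⁻¹ * x⁻¹ ∈ Q := Q.mul_mem h1 (Q.inv_mem hx)
    have h3 : g * x * g⁻¹ * x⁻¹ ∈ ⁅H, H⁆ := Subgroup.commutator_mem_commutator hg (hQH hx)
    have := hQc _ h2 h3
    exact mul_inv_eq_one.mp this
  have hnot : ¬ Subgroup.normalizer ((P : Subgroup G) : Set G) ≤
      Subgroup.centralizer ((P : Subgroup G) : Set G) := by
    intro hP
    apply hno
    have hc := MonoidHom.ker_transferSylow_isComplement' P hP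
    refine ⟨(MonoidHom.transferSylow P hP).ker, inferInstance, ?_⟩
    rw [hc.symm.index_eq_card]
    show Nat.card (P : Subgroup G) = _
    rw [hPQ, hQcard]
  rw [hPQ] at hnot
  obtain ⟨g, hgn, hgc⟩ := Set.not_subset.mp hnot
  -- g does not centralise Q
  have hgc' : ∃ x0 ∈ Q, g * x0 * g⁻¹ ≠ x0 := by
    by_contra h
    push Not at h
    apply hgc
    rw [SetLike.mem_coe, Subgroup.mem_centralizer_iff]
    intro x hx
    have := h x hx
    calc x * g = x * g := rfl
      _ = (g * x * g⁻¹) * g := by rw [this]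
      _ = g * x := by group
  obtain ⟨x0, hx0, hx0g⟩ := hgc'
  rcases Z.normalizer_sub Q hQH hQ1 hgn with hgH | hgS
  · exact absurd (hHcent g hgH hgn x0 hx0) hx0g
  · refine ⟨g, hgS, ?_⟩
    -- g * g ∈ H normalises, hence centralises Q
    have hgg : g * g ∈ H := Z.swap_mul_swap hgS hgS
    have hggn : g * g ∈ Subgroup.normalizer (Q : Set G) := Subgroup.mul_mem _ hgn hgn
    have hggc := hHcent _ hgg hggn
    -- Q is cyclic
    have hQp : IsPGroup q Q := IsPGroup.of_card hQcard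
    have hcyc : IsCyclic Q := by
      have h1 : IsPGroup q (Q.subgroupOf H) := hQp.comap_subtype
      have h2 : IsCyclic (Q.subgroupOf H) := IsPGroup.isCyclic_of_isZGroup h1
      exact (Subgroup.subgroupOfEquivOfLe hQH).isCyclic.mp h2
    obtain ⟨⟨x, hxQ⟩, hxgen⟩ := hcyc.exists_generator
    have hxord : orderOf x = q ^ (Nat.card G).factorization q := by
      have : orderOf (⟨x, hxQ⟩ : Q) = Nat.card Q := orderOf_eq_card_of_forall_mem_zpowers hxgen
      rw [← hQcard, ← this, Subgroup.orderOf_mk]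
    have hpow : ∀ y ∈ Q, ∃ i : ℕ, y = x ^ i := by
      intro y hy
      have := hxgen ⟨y, hy⟩
      rw [← mem_powers_iff_mem_zpowers] at this
      obtain ⟨i, hi⟩ := this
      exact ⟨i, by simpa using (congrArg Subtype.val hi).symm⟩
    have hgx : g * x * g⁻¹ ∈ Q := (Subgroup.mem_normalizer_iff.mp hgn x).mp hxQ
    obtain ⟨k, hk⟩ := hpow _ hgx
    rcases conj_cyclic_dichotomy Z hqf.out hq2 x g hxord hk (hggc x hxQ) with hc | hc
    · exfalso
      apply hx0g
      obtain ⟨i, rfl⟩ := hpow x0 hx0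
      rw [← conj_pow, hc]
    · intro y hy
      obtain ⟨i, rfl⟩ := hpow y hy
      rw [← conj_pow, hc, inv_pow]

theorem swap_mem_normalizer {g : G} (hg : IsSwap a b g) :
    g ∈ Subgroup.normalizer ((stabilizer G a ⊓ stabilizer G b : Subgroup G) : Set G) := by
  rw [Subgroup.mem_normalizer_iff]
  intro h
  constructor
  · intro hh
    exact Z.conj_mem hg hh
  · intro hh
    have := Z.conj_mem (Z.swap_inv hg) hh
    have e : g⁻¹ * (g * h * g⁻¹) * g⁻¹⁻¹ = h := by group
    rwa [e] at this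

/-- An element of `H` (odd order) inverted by a swap centralises the derived subgroup of `H`. -/
theorem centralizes_commutator [Finite G] [IsZGroup ↥(stabilizer G a ⊓ stabilizer G b)]
    (hodd : Odd (Nat.card ↥(stabilizer G a ⊓ stabilizer G b)))
    {g y : G} (hg : IsSwap a b g) (hy : y ∈ stabilizer G a ⊓ stabilizer G b)
    (hgy : g * y * g⁻¹ = y⁻¹) :
    ∀ c ∈ ⁅stabilizer G a ⊓ stabilizer G b, stabilizer G a ⊓ stabilizer G b⁆, y * c = c * y := by
  classical
  set H : Subgroup G := stabilizer G a ⊓ stabilizer G b with hH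
  set D : Subgroup G := ⁅H, H⁆ with hD
  have hNN : Subgroup.normalizer (H : Set G) ≤ Subgroup.normalizer (D : Set G) :=
    Cfsg.Agent.Lib.Lead.le_normalizer_commutator _ H H le_rfl le_rfl
  have hgN : g ∈ Subgroup.normalizer (D : Set G) := hNN (Z.swap_mem_normalizer hg)
  have hyN : y ∈ Subgroup.normalizer (D : Set G) := hNN (Subgroup.le_normalizer hy)
  have hcyc : IsCyclic D := by
    have h1 : IsCyclic (commutator ↥H) := IsZGroup.isCyclic_commutator ↥H
    have h2 : (commutator ↥H).map H.subtype = D := Subgroup.map_subtype_commutator H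
    rw [← h2]
    exact ((commutator ↥H).equivMapOfInjective H.subtype H.subtype_injective).isCyclic.mp h1
  obtain ⟨⟨c0, hc0D⟩, hgen⟩ := hcyc.exists_generator
  have hpow : ∀ c ∈ D, ∃ i : ℕ, c = c0 ^ i := by
    intro c hc
    have := hgen ⟨c, hc⟩
    rw [← mem_powers_iff_mem_zpowers] at this
    obtain ⟨i, hi⟩ := this
    exact ⟨i, by simpa using (congrArg Subtype.val hi).symm⟩
  have hyc0 : y * c0 * y⁻¹ ∈ D := (Subgroup.mem_normalizer_iff.mp hyN c0).mp hc0D
  have hgc0 : g * c0 * g⁻¹ ∈ D := (Subgroup.mem_normalizer_iff.mp hgN c0).mp hc0D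
  obtain ⟨k, hk⟩ := hpow _ hyc0
  obtain ⟨l, hl⟩ := hpow _ hgc0
  -- (2) the two conjugations commute on the generator
  have e2 : g * (y * c0 * y⁻¹) * g⁻¹ = y * (g * c0 * g⁻¹) * y⁻¹ := by
    rw [hk, hl, ← conj_pow, ← conj_pow, hk, hl, ← pow_mul, ← pow_mul, mul_comm]
  -- (1)
  have e1 : g * (y * c0 * y⁻¹) * g⁻¹ = y⁻¹ * (g * c0 * g⁻¹) * y := by
    calc g * (y * c0 * y⁻¹) * g⁻¹ = (g * y * g⁻¹) * (g * c0 * g⁻¹) * (g * y * g⁻¹)⁻¹ := by group
      _ = y⁻¹ * (g * c0 * g⁻¹) * y := by rw [hgy, inv_inv]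
  set c1 := g * c0 * g⁻¹ with hc1
  have e3 : (y * y) * c1 = c1 * (y * y) := by
    have : y⁻¹ * c1 * y = y * c1 * y⁻¹ := by rw [← e1, e2]
    calc (y * y) * c1 = y * (y * c1 * y⁻¹) * y := by group
      _ = y * (y⁻¹ * c1 * y) * y := by rw [this]
      _ = c1 * (y * y) := by group
  -- y * y commutes with all of D
  have e4 : ∀ c ∈ D, Commute (y * y) c := by
    intro c hc
    have hc' : g⁻¹ * c * g ∈ D := by
      have := (Subgroup.mem_normalizer_iff.mp (Subgroup.inv_mem _ hgN) c).mp hc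
      simpa using this
    obtain ⟨i, hi⟩ := hpow _ hc'
    have : c = c1 ^ i := by
      rw [hc1, conj_pow, ← hi]; group
    rw [this]
    exact Commute.pow_right e3 i
  -- y has odd order
  have hyodd : Odd (orderOf y) := by
    have h1 : orderOf y ∣ Nat.card H := by
      have := orderOf_dvd_natCard (⟨y, hy⟩ : H)
      rwa [Subgroup.orderOf_mk] at this
    exact Odd.of_dvd_nat hodd h1
  obtain ⟨m, hm⟩ := hyodd
  have hy2 : y = (y * y) ^ (m + 1) := by
    have : (y * y) ^ (m + 1) = y ^ (orderOf y) * y := by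
      rw [hm, ← pow_two, ← pow_mul, ← pow_succ]
      congr 1
    rw [this, pow_orderOf_eq_one, one_mul]
  intro c hc
  have := (e4 c hc).pow_left (m + 1)
  rw [← hy2] at this
  exact this

/-- a swap has even order: no odd power is trivial -/
theorem swap_pow_odd {g : G} (hg : IsSwap a b g) (j : ℕ) : IsSwap a b (g ^ (2 * j + 1)) := by
  induction j with
  | zero => simpa using hg
  | succ j ih =>
    have e : g ^ (2 * (j + 1) + 1) = g * g * g ^ (2 * j + 1) := by
      rw [show 2 * (j + 1) + 1 = 2 + (2 * j + 1) by ring, pow_add, pow_two]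
    rw [e]
    exact Z.H_mul_swap ih (Z.swap_mul_swap hg hg)

theorem swap_not_odd [Finite G] {g : G} (hg : IsSwap a b g) : ¬ Odd (orderOf g) := by
  rintro ⟨j, hj⟩
  have h1 := Z.swap_pow_odd hg j
  rw [← hj, pow_orderOf_eq_one] at h1
  have := h1.1
  rw [one_smul] at this
  exact Z.hab this

/-- Sylow `q`-subgroups of `H` (for odd `q`) are Sylow in `G`. -/
theorem sylow_val [Finite G] {q : ℕ} [hqf : Fact q.Prime] (hq2 : q ≠ 2)
    (hqd : q ∣ Nat.card ↥(stabilizer G a ⊓ stabilizer G b)) :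
    (Nat.card G).factorization q =
      (Nat.card ↥(stabilizer G a ⊓ stabilizer G b)).factorization q := by
  classical
  set H : Subgroup G := stabilizer G a ⊓ stabilizer G b with hH
  set m := (Nat.card H).factorization q with hm
  have hq := hqf.out
  have hm1 : 1 ≤ m := (hq.dvd_iff_one_le_factorization Nat.card_pos.ne').mp hqd
  let Q₀ : Sylow q H := default
  have hQ₀card : Nat.card (Q₀ : Subgroup H) = q ^ m := Sylow.card_eq_multiplicity Q₀
  set Q : Subgroup G := (Q₀ : Subgroup H).map H.subtype with hQ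
  have hQH : Q ≤ H := Subgroup.map_subtype_le _
  have hQcard : Nat.card Q = q ^ m := by
    rw [← hQ₀card]
    exact (Nat.card_congr ((Q₀ : Subgroup H).equivMapOfInjective H.subtype
      H.subtype_injective).toEquiv).symm
  have hQ1 : Q ≠ ⊥ := by
    intro h
    rw [h, Subgroup.card_bot] at hQcard
    have : 1 < q ^ m := Nat.one_lt_pow (by omega) hq.one_lt
    omega
  have hle : m ≤ (Nat.card G).factorization q := by
    have hdvd : Nat.card H ∣ Nat.card G := Subgroup.card_subgroup_dvd_card H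
    exact (Nat.factorization_le_iff_dvd Nat.card_pos.ne' Nat.card_pos.ne').mpr hdvd q
  by_contra hne
  have hlt : m + 1 ≤ (Nat.card G).factorization q := by
    have : (Nat.card G).factorization q ≠ m := hne
    omega
  have hdvd : q ^ (m + 1) ∣ Nat.card G :=
    (hq.pow_dvd_iff_le_factorization Nat.card_pos.ne').mpr hlt
  obtain ⟨K, hKcard, hQK⟩ := Sylow.exists_subgroup_card_pow_succ hdvd hQcard
  have hnorm : (Q.subgroupOf K).Normal := by
    apply Subgroup.normal_of_index_eq_minFac_card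
    have h1 : Nat.card (Q.subgroupOf K) * (Q.subgroupOf K).index = Nat.card K :=
      Subgroup.card_mul_index _
    have h2 : Nat.card (Q.subgroupOf K) = q ^ m := by
      rw [← hQcard]
      exact Nat.card_congr (Subgroup.subgroupOfEquivOfLe hQK).toEquiv
    rw [h2, hKcard, pow_succ] at h1
    have h3 : (Q.subgroupOf K).index = q :=
      Nat.eq_of_mul_eq_mul_left (pow_pos hq.pos m) h1
    rw [h3, hKcard, Nat.Prime.pow_minFac hq (by omega)]
  have hKN : K ≤ Subgroup.normalizer (Q : Set G) :=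
    (Subgroup.normal_subgroupOf_iff_le_normalizer hQK).mp hnorm
  have hKH : K ≤ H := by
    intro k hk
    rcases Z.normalizer_sub Q hQH hQ1 (hKN hk) with h | h
    · exact h
    · exfalso
      apply Z.swap_not_odd h
      have h1 : orderOf k ∣ q ^ (m + 1) := by
        rw [← hKcard]
        have := orderOf_dvd_natCard (⟨k, hk⟩ : K)
        rwa [Subgroup.orderOf_mk] at this
      have hqodd : Odd q := hq.odd_of_ne_two hq2
      exact Odd.of_dvd_nat hqodd.pow h1
  have h1 : q ^ (m + 1) ∣ Nat.card H := by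
    rw [← hKcard]; exact Subgroup.card_dvd_of_le hKH
  have := (hq.pow_dvd_iff_le_factorization Nat.card_pos.ne').mp h1
  omega

/-- for each prime `q ∣ |H|`, with `Q` the image of a Sylow `q`-subgroup of `H`: if `Q ∩ H' = 1`
then some swap inverts `Q`. -/
theorem exists_invert [Finite G] [IsZGroup ↥(stabilizer G a ⊓ stabilizer G b)]
    (hodd : Odd (Nat.card ↥(stabilizer G a ⊓ stabilizer G b)))
    (hnil : ∀ q : ℕ, q.Prime → q ∣ Nat.card ↥(stabilizer G a ⊓ stabilizer G b) →
      ¬ ∃ N : Subgroup G, N.Normal ∧ N.index = q ^ (Nat.card G).factorization q)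
    {q : ℕ} (hq : q.Prime) (hqd : q ∣ Nat.card ↥(stabilizer G a ⊓ stabilizer G b))
    (hqD : ¬ q ∣ Nat.card ↥(⁅stabilizer G a ⊓ stabilizer G b, stabilizer G a ⊓ stabilizer G b⁆)) :
    ∃ Q : Subgroup G, Q ≤ stabilizer G a ⊓ stabilizer G b ∧
      Nat.card Q = q ^ (Nat.card ↥(stabilizer G a ⊓ stabilizer G b)).factorization q ∧
      ∃ g : G, IsSwap a b g ∧ ∀ x ∈ Q, g * x * g⁻¹ = x⁻¹ := by
  classical
  set H : Subgroup G := stabilizer G a ⊓ stabilizer G b with hH
  haveI hqf : Fact q.Prime := ⟨hq⟩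
  have hq2 : q ≠ 2 := by
    rintro rfl
    exact (Nat.not_even_iff_odd.mpr hodd) (even_iff_two_dvd.mpr hqd)
  set m := (Nat.card H).factorization q with hm
  have hm1 : 1 ≤ m := (hq.dvd_iff_one_le_factorization Nat.card_pos.ne').mp hqd
  let Q₀ : Sylow q H := default
  have hQ₀card : Nat.card (Q₀ : Subgroup H) = q ^ m := Sylow.card_eq_multiplicity Q₀
  set Q : Subgroup G := (Q₀ : Subgroup H).map H.subtype with hQ
  have hQH : Q ≤ H := Subgroup.map_subtype_le _
  have hQcard : Nat.card Q = q ^ m := by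
    rw [← hQ₀card]
    exact (Nat.card_congr ((Q₀ : Subgroup H).equivMapOfInjective H.subtype
      H.subtype_injective).toEquiv).symm
  have hQ1 : Q ≠ ⊥ := by
    intro h
    rw [h, Subgroup.card_bot] at hQcard
    have : 1 < q ^ m := Nat.one_lt_pow (by omega) hq.one_lt
    omega
  have hval := Z.sylow_val hq2 hqd
  have hQcard' : Nat.card Q = q ^ (Nat.card G).factorization q := by rw [hval]; exact hQcard
  have hQc : ∀ x ∈ Q, x ∈ ⁅H, H⁆ → x = 1 := by
    intro x hxQ hxD
    have h1 : orderOf x ∣ q ^ m := by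
      rw [← hQcard]
      have := orderOf_dvd_natCard (⟨x, hxQ⟩ : Q)
      rwa [Subgroup.orderOf_mk] at this
    have h2 : orderOf x ∣ Nat.card ↥(⁅H, H⁆) := by
      have := orderOf_dvd_natCard (⟨x, hxD⟩ : ↥(⁅H, H⁆))
      rwa [Subgroup.orderOf_mk] at this
    have hcop : Nat.Coprime (q ^ m) (Nat.card ↥(⁅H, H⁆)) :=
      Nat.Coprime.pow_left m ((Nat.Prime.coprime_iff_not_dvd hq).mpr hqD)
    have h3 : orderOf x ∣ 1 := by
      have := Nat.dvd_gcd h1 h2
      rwa [hcop] at this
    exact orderOf_eq_one_iff.mp (Nat.dvd_one.mp h3)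
  obtain ⟨g, hg, hgQ⟩ := Z.invert_sylow hq2 Q hQH hQcard' hQ1 hQc (hnil q hq hqd)
  exact ⟨Q, hQH, hQcard, g, hg, hgQ⟩

theorem H_comm [Finite G] [IsZGroup ↥(stabilizer G a ⊓ stabilizer G b)]
    (hodd : Odd (Nat.card ↥(stabilizer G a ⊓ stabilizer G b)))
    (hnil : ∀ q : ℕ, q.Prime → q ∣ Nat.card ↥(stabilizer G a ⊓ stabilizer G b) →
      ¬ ∃ N : Subgroup G, N.Normal ∧ N.index = q ^ (Nat.card G).factorization q) :
    ∀ h ∈ stabilizer G a ⊓ stabilizer G b, ∀ k ∈ stabilizer G a ⊓ stabilizer G b,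
      h * k = k * h := by
  classical
  set H : Subgroup G := stabilizer G a ⊓ stabilizer G b with hH
  set D : Subgroup G := ⁅H, H⁆ with hD
  have hmapD : (commutator ↥H).map H.subtype = D := Subgroup.map_subtype_commutator H
  have hDH : D ≤ H := by rw [← hmapD]; exact Subgroup.map_subtype_le _
  have hcardD : Nat.card (commutator ↥H) = Nat.card D := by
    rw [← hmapD]
    exact Nat.card_congr ((commutator ↥H).equivMapOfInjective H.subtype
      H.subtype_injective).toEquiv
  have hcycD : IsCyclic D := by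
    have h1 : IsCyclic (commutator ↥H) := IsZGroup.isCyclic_commutator ↥H
    rw [← hmapD]
    exact ((commutator ↥H).equivMapOfInjective H.subtype H.subtype_injective).isCyclic.mp h1
  have hDcomm : ∀ x ∈ D, ∀ y ∈ D, x * y = y * x := by
    intro x hx y hy
    obtain ⟨⟨c0, hc0D⟩, hgen⟩ := hcycD.exists_generator
    have h1 := hgen ⟨x, hx⟩
    have h2 := hgen ⟨y, hy⟩
    obtain ⟨i, hi⟩ := h1
    obtain ⟨j, hj⟩ := h2
    have hi' : c0 ^ i = x := by simpa using congrArg Subtype.val hi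
    have hj' : c0 ^ j = y := by simpa using congrArg Subtype.val hj
    rw [← hi', ← hj', ← zpow_add, ← zpow_add, add_comm]
  set C : Subgroup G := Subgroup.centralizer (D : Set G) ⊓ H with hC
  have hCH : C ≤ H := inf_le_right
  have hDC : D ≤ C := by
    intro x hx
    refine Subgroup.mem_inf.mpr ⟨?_, hDH hx⟩
    rw [Subgroup.mem_centralizer_iff]
    intro y hy
    exact hDcomm y hy x hx
  have hCeq : C = H := by
    apply eq_of_factorization_le hCH
    intro q hq hqd
    by_cases hqD : q ∣ Nat.card D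
    · -- q ∤ index
      have hcop := IsZGroup.coprime_commutator_index ↥H
      have hmul : Nat.card (commutator ↥H) * (commutator ↥H).index = Nat.card H :=
        Subgroup.card_mul_index _
      rw [hcardD] at hcop hmul
      have hqi : ¬ q ∣ (commutator ↥H).index := by
        intro h
        have := Nat.dvd_gcd hqD h
        rw [hcop] at this
        exact hq.one_lt.ne' (Nat.dvd_one.mp this)
      have hidx0 : (commutator ↥H).index ≠ 0 := Subgroup.index_ne_zero_of_finite
      have hv : (Nat.card H).factorization q = (Nat.card D).factorization q := by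
        rw [← hmul, Nat.factorization_mul Nat.card_pos.ne' hidx0, Finsupp.add_apply,
          Nat.factorization_eq_zero_of_not_dvd hqi, add_zero]
      rw [hv]
      exact (Nat.ordProj_dvd _ _).trans (Subgroup.card_dvd_of_le hDC)
    · obtain ⟨Q, hQH, hQcard, g, hg, hgQ⟩ := Z.exists_invert hodd hnil hq hqd hqD
      rw [← hQcard]
      apply Subgroup.card_dvd_of_le
      intro x hx
      refine Subgroup.mem_inf.mpr ⟨?_, hQH hx⟩
      rw [Subgroup.mem_centralizer_iff]
      intro c hc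
      exact (Z.centralizes_commutator hodd hg (hQH hx) (hgQ x hx) c hc).symm
  -- now D is central in H
  have hcen : commutator ↥H ≤ Subgroup.center ↥H := by
    intro x hx
    rw [Subgroup.mem_center_iff]
    intro y
    apply Subtype.ext
    have hxD : (x : G) ∈ D := by
      rw [← hmapD]; exact Subgroup.mem_map_of_mem _ hx
    have hyC : (y : G) ∈ C := by rw [hCeq]; exact y.2
    have := Subgroup.mem_centralizer_iff.mp (Subgroup.mem_inf.mp hyC).1 (x : G) hxD
    simpa using this.symm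
  have hcomm : ∀ x y : ↥H, x * y = y * x :=
    commutative_of_cyclic_center_quotient (Abelianization.of (G := ↥H))
      (by rw [Abelianization.ker_of]; exact hcen)
  intro h hh k hk
  exact congrArg Subtype.val (hcomm ⟨h, hh⟩ ⟨k, hk⟩)

theorem all_invert [Finite G] [IsZGroup ↥(stabilizer G a ⊓ stabilizer G b)]
    (hodd : Odd (Nat.card ↥(stabilizer G a ⊓ stabilizer G b)))
    (hnil : ∀ q : ℕ, q.Prime → q ∣ Nat.card ↥(stabilizer G a ⊓ stabilizer G b) →
      ¬ ∃ N : Subgroup G, N.Normal ∧ N.index = q ^ (Nat.card G).factorization q)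
    (hcomm : ∀ h ∈ stabilizer G a ⊓ stabilizer G b, ∀ k ∈ stabilizer G a ⊓ stabilizer G b,
      h * k = k * h) {s : G} (hs : IsSwap a b s) :
    ∀ h ∈ stabilizer G a ⊓ stabilizer G b, s * h * s⁻¹ = h⁻¹ := by
  classical
  set H : Subgroup G := stabilizer G a ⊓ stabilizer G b with hH
  have hDbot : ⁅H, H⁆ = ⊥ := by
    rw [Subgroup.commutator_eq_bot_iff_le_centralizer]
    intro x hx
    rw [Subgroup.mem_centralizer_iff]
    intro y hy
    exact hcomm y hy x hx
  let I : Subgroup G :=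
    { carrier := {h | h ∈ H ∧ s * h * s⁻¹ = h⁻¹}
      one_mem' := ⟨H.one_mem, by group⟩
      mul_mem' := by
        rintro x y ⟨hx, hx'⟩ ⟨hy, hy'⟩
        refine ⟨H.mul_mem hx hy, ?_⟩
        have : s * (x * y) * s⁻¹ = (s * x * s⁻¹) * (s * y * s⁻¹) := by group
        rw [this, hx', hy', mul_inv_rev]
        exact (hcomm _ (H.inv_mem hy) _ (H.inv_mem hx)).symm
      inv_mem' := by
        rintro x ⟨hx, hx'⟩
        refine ⟨H.inv_mem hx, ?_⟩
        have : s * x⁻¹ * s⁻¹ = (s * x * s⁻¹)⁻¹ := by group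
        rw [this, hx'] }
  have hIH : I ≤ H := fun x hx => hx.1
  have hI : I = H := by
    apply eq_of_factorization_le hIH
    intro q hq hqd
    have hqD : ¬ q ∣ Nat.card ↥(⁅H, H⁆) := by
      rw [hDbot, Subgroup.card_bot]
      exact hq.not_dvd_one
    obtain ⟨Q, hQH, hQcard, g, hg, hgQ⟩ := Z.exists_invert hodd hnil hq hqd hqD
    rw [← hQcard]
    apply Subgroup.card_dvd_of_le
    intro x hx
    refine ⟨hQH hx, ?_⟩
    have h0 : g⁻¹ * s ∈ H := Z.swap_mul_swap (Z.swap_inv hg) hs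
    have h1 : (g⁻¹ * s) * x = x * (g⁻¹ * s) := hcomm _ h0 _ (hQH hx)
    calc s * x * s⁻¹ = g * ((g⁻¹ * s) * x) * s⁻¹ := by group
      _ = g * (x * (g⁻¹ * s)) * s⁻¹ := by rw [h1]
      _ = g * x * g⁻¹ := by group
      _ = x⁻¹ := hgQ x hx
  intro h hh
  have : h ∈ I := by rw [hI]; exact hh
  exact this.2

/-- Main theorem in element form. -/
theorem main [Finite G] (KG : Subgroup G) (hKnil : Group.IsNilpotent KG)
    (kfix : ∀ k ∈ KG, k • a = a) (kfpf : ∀ k ∈ KG, k ≠ 1 → ∀ x : Ω, x ≠ a → k • x ≠ x)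
    (ktr : ∀ x y : Ω, x ≠ a → y ≠ a → ∃ k ∈ KG, k • x = y)
    (knorm : ∀ g : G, g • a = a → ∀ k ∈ KG, g * k * g⁻¹ ∈ KG)
    (h3 : ∃ c : Ω, c ≠ a ∧ c ≠ b)
    (hH1 : (stabilizer G a ⊓ stabilizer G b : Subgroup G) ≠ ⊥)
    (hodd : Odd (Nat.card ↥(stabilizer G a ⊓ stabilizer G b)))
    (hnil : ∀ q : ℕ, q.Prime → q ∣ Nat.card ↥(stabilizer G a ⊓ stabilizer G b) →
      ¬ ∃ N : Subgroup G, N.Normal ∧ N.index = q ^ (Nat.card G).factorization q) :
    IsCyclic ↥(stabilizer G a ⊓ stabilizer G b) ∧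
    Subgroup.centralizer ((stabilizer G a ⊓ stabilizer G b : Subgroup G) : Set G) =
      stabilizer G a ⊓ stabilizer G b ∧
    ∀ s : G, s • a = b → s • b = a → ∀ h ∈ stabilizer G a ⊓ stabilizer G b,
      s * h * s⁻¹ = h⁻¹ := by
  classical
  set H : Subgroup G := stabilizer G a ⊓ stabilizer G b with hH
  haveI hZG : IsZGroup ↥H := Z.isZGroup_H KG hKnil kfix kfpf ktr knorm h3 hodd
  have hcomm := Z.H_comm hodd hnil
  have hinv : ∀ s : G, IsSwap a b s → ∀ h ∈ H, s * h * s⁻¹ = h⁻¹ :=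
    fun s hs => Z.all_invert hodd hnil hcomm hs
  refine ⟨?_, ?_, fun s h1 h2 => hinv s ⟨h1, h2⟩⟩
  · letI : CommGroup ↥H :=
      { (inferInstance : Group ↥H) with
        mul_comm := fun x y => Subtype.ext (hcomm x x.2 y y.2) }
    haveI : Group.IsNilpotent ↥H := CommGroup.isNilpotent
    infer_instance
  · apply le_antisymm
    · intro g hg
      have hgN : g ∈ Subgroup.normalizer (H : Set G) := Subgroup.centralizer_le_normalizer (s := (H : Set G)) hg
      rcases Z.normalizer_sub H le_rfl hH1 hgN with h | h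
      · exact h
      · exfalso
        apply hH1
        rw [Subgroup.eq_bot_iff_forall]
        intro x hx
        have h1 := hinv g h x hx
        have h2 : g * x = x * g := (Subgroup.mem_centralizer_iff.mp hg x hx).symm
        have h3 : x = x⁻¹ := by
          rw [← h1, h2]; group
        have h4 : x * x = 1 := by
          nth_rewrite 2 [h3]; group
        have hxodd : Odd (orderOf x) := by
          have h5 : orderOf x ∣ Nat.card H := by
            have := orderOf_dvd_natCard (⟨x, hx⟩ : H)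
            rwa [Subgroup.orderOf_mk] at this
          exact Odd.of_dvd_nat hodd h5
        have h6 : orderOf x ∣ 2 := orderOf_dvd_of_pow_eq_one (by rw [pow_two]; exact h4)
        have h7 : orderOf x = 1 := by
          rcases (Nat.dvd_prime Nat.prime_two).mp h6 with h | h
          · exact h
          · rw [h] at hxodd; exact absurd hxodd (by decide)
        exact orderOf_eq_one_iff.mp h7
    · intro x hx
      rw [Subgroup.mem_centralizer_iff]
      intro y hy
      exact hcomm y hy x hx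

end ZQ

end Cfsg.Agent.Lib.helper6.ZassOddStab
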