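import Mathlib
import Cfsg.Agent.S0739
import Cfsg.Agent.S0740

set_option autoImplicit false

namespace Cfsg.Agent.Lib.helper6.ZassInvol

open MulAction

variable {G Ω : Type*} [Group G] [MulAction G Ω]

/-- conjugation between two-point stabilisers -/
theorem card_stab_conj {a b x y : Ω} (g : G) (hga : g • a = x) (hgb : g • b = y) :
    Nat.card ↥(stabilizer G x ⊓ stabilizer G y) = Nat.card ↥(stabilizer G a ⊓ stabilizer G b) := by
  have hgx : g⁻¹ • x = a := by rw [inv_smul_eq_iff, hga]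
  have hgy : g⁻¹ • y = b := by rw [inv_smul_eq_iff, hgb]
  refine Nat.card_congr
    { toFun := fun h => ⟨g⁻¹ * h * g, ?_⟩
      invFun := fun h => ⟨g * h * g⁻¹, ?_⟩
      left_inv := fun h => by apply Subtype.ext; simp only; group
      right_inv := fun h => by apply Subtype.ext; simp only; group }
  · obtain ⟨h1, h2⟩ := Subgroup.mem_inf.mp h.2
    rw [mem_stabilizer_iff] at h1 h2
    refine Subgroup.mem_inf.mpr ⟨?_, ?_⟩
    · rw [mem_stabilizer_iff, mul_smul, mul_smul, hga, h1, hgx]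
    · rw [mem_stabilizer_iff, mul_smul, mul_smul, hgb, h2, hgy]
  · obtain ⟨h1, h2⟩ := Subgroup.mem_inf.mp h.2
    rw [mem_stabilizer_iff] at h1 h2
    refine Subgroup.mem_inf.mpr ⟨?_, ?_⟩
    · rw [mem_stabilizer_iff, mul_smul, mul_smul, hgx, h1, hga]
    · rw [mem_stabilizer_iff, mul_smul, mul_smul, hgy, h2, hgb]

variable [Finite G] [Fintype Ω]

theorem card_pair (hZ : Cfsg.IsZassenhausGroup G Ω) {a b x y : Ω} (hab : a ≠ b) (hxy : x ≠ y) :
    Nat.card ↥(stabilizer G x ⊓ stabilizer G y) = Nat.card ↥(stabilizer G a ⊓ stabilizer G b) := by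
  obtain ⟨g, hga, hgb⟩ := MulAction.is_two_pretransitive_iff.mp hZ.2.1 hab hxy
  exact card_stab_conj g hga hgb

/-- a simple Zassenhaus group has no normal `q`-complement for odd `q` dividing its order -/
theorem no_compl (hZ : Cfsg.IsZassenhausGroup G Ω) [IsSimpleGroup G] {a b : Ω} (hab : a ≠ b)
    (q : ℕ) (hq : q.Prime) (hq2 : q ≠ 2) (hqG : q ∣ Nat.card G) :
    ¬ ∃ N : Subgroup G, N.Normal ∧ N.index = q ^ (Nat.card G).factorization q := by
  rintro ⟨N, hN, hidx⟩
  have hv : 1 ≤ (Nat.card G).factorization q :=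
    (hq.dvd_iff_one_le_factorization Nat.card_pos.ne').mp hqG
  rcases hN.eq_bot_or_eq_top with h | h
  · rw [h, Subgroup.index_bot] at hidx
    obtain ⟨⟨s, hs, -, -⟩, -, -⟩ := Cfsg.Agent.S0740.result hZ hab
    have h1 : orderOf s ∣ Nat.card G := orderOf_dvd_natCard s
    rw [hs, hidx] at h1
    have h2 : 2 ∣ q := Nat.Prime.dvd_of_dvd_pow Nat.prime_two h1
    exact hq2 ((Nat.prime_dvd_prime_iff_eq Nat.prime_two hq).mp h2).symm
  · rw [h, Subgroup.index_top] at hidx
    have : 1 < q ^ (Nat.card G).factorization q := Nat.one_lt_pow (by omega) hq.one_lt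
    omega

section Odd

variable (hZ : Cfsg.IsZassenhausGroup G Ω) [IsSimpleGroup G] {a b : Ω} (hab : a ≠ b)
  (hodd : Odd (Nat.card ↥(stabilizer G a ⊓ stabilizer G b)))
include hZ hab hodd

theorem odd_pair {x y : Ω} (hxy : x ≠ y) : Odd (Nat.card ↥(stabilizer G x ⊓ stabilizer G y)) := by
  rw [card_pair hZ hab hxy]; exact hodd

theorem swap_inverts {x y : Ω} (hxy : x ≠ y) {s : G} (h1 : s • x = y) (h2 : s • y = x) :
    ∀ h ∈ stabilizer G x ⊓ stabilizer G y, s * h * s⁻¹ = h⁻¹ := by
  have hoddxy := odd_pair hZ hab hodd hxy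
  have hnil : ∀ q : ℕ, q.Prime → q ∣ Nat.card ↥(stabilizer G x ⊓ stabilizer G y) →
      ¬ ∃ N : Subgroup G, N.Normal ∧ N.index = q ^ (Nat.card G).factorization q := by
    intro q hq hqd
    apply no_compl hZ hab q hq
    · rintro rfl
      exact (Nat.not_even_iff_odd.mpr hoddxy) (even_iff_two_dvd.mpr hqd)
    · exact hqd.trans (Subgroup.card_subgroup_dvd_card _)
  exact (Cfsg.Agent.S0739.result hZ hxy hoddxy hnil).2.2 s h1 h2

theorem odd_order_of_mem {x y : Ω} (hxy : x ≠ y) {k : G}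
    (hk : k ∈ stabilizer G x ⊓ stabilizer G y) : Odd (orderOf k) := by
  have h5 : orderOf k ∣ Nat.card ↥(stabilizer G x ⊓ stabilizer G y) := by
    have := orderOf_dvd_natCard (⟨k, hk⟩ : ↥(stabilizer G x ⊓ stabilizer G y))
    rwa [Subgroup.orderOf_mk] at this
  exact Odd.of_dvd_nat (odd_pair hZ hab hodd hxy) h5

theorem eq_one_of_sq {x y : Ω} (hxy : x ≠ y) {k : G}
    (hk : k ∈ stabilizer G x ⊓ stabilizer G y) (hkk : k * k = 1) : k = 1 := by
  have hxodd := odd_order_of_mem hZ hab hodd hxy hk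
  have h6 : orderOf k ∣ 2 := orderOf_dvd_of_pow_eq_one (by rw [pow_two]; exact hkk)
  have h7 : orderOf k = 1 := by
    rcases (Nat.dvd_prime Nat.prime_two).mp h6 with h | h
    · exact h
    · rw [h] at hxodd; exact absurd hxodd (by decide)
  exact orderOf_eq_one_iff.mp h7

theorem swap_sq {x y : Ω} (hxy : x ≠ y) {s : G} (h1 : s • x = y) (h2 : s • y = x) :
    s * s = 1 := by
  have hmem : s * s ∈ stabilizer G x ⊓ stabilizer G y := by
    refine Subgroup.mem_inf.mpr ⟨?_, ?_⟩
    · rw [mem_stabilizer_iff, mul_smul, h1, h2]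
    · rw [mem_stabilizer_iff, mul_smul, h2, h1]
  have h3 := swap_inverts hZ hab hodd hxy h1 h2 _ hmem
  have h4 : s * (s * s) * s⁻¹ = s * s := by group
  rw [h4] at h3
  apply eq_one_of_sq hZ hab hodd hxy hmem
  calc (s * s) * (s * s) = (s * s) * (s * s)⁻¹ := by rw [← h3]
    _ = 1 := by group

theorem swap_order {x y : Ω} (hxy : x ≠ y) {s : G} (h1 : s • x = y) (h2 : s • y = x) :
    orderOf s = 2 := by
  have hss := swap_sq hZ hab hodd hxy h1 h2
  have hs1 : s ≠ 1 := by
    rintro rfl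
    rw [one_smul] at h1
    exact hxy h1
  exact orderOf_eq_prime (by rw [pow_two]; exact hss) hs1

end Odd

section Odd2

variable (hZ : Cfsg.IsZassenhausGroup G Ω) [IsSimpleGroup G] {a b : Ω} (hab : a ≠ b)
  (hodd : Odd (Nat.card ↥(stabilizer G a ⊓ stabilizer G b)))
include hZ hab hodd

theorem fixed_count {t : G} (ht : orderOf t = 2) :
    Nat.card (fixedBy Ω t) = if Odd (Fintype.card Ω) then 1 else 0 := by
  classical
  haveI := hZ.1
  have ht1 : t ≠ 1 := by
    rintro rfl
    rw [orderOf_one] at ht; omega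
  have htt : t * t = 1 := by
    rw [← pow_two, ← ht]; exact pow_orderOf_eq_one t
  obtain ⟨c, hc⟩ : ∃ c : Ω, t • c ≠ c := by
    by_contra h
    push Not at h
    apply ht1
    apply FaithfulSMul.eq_of_smul_eq_smul (α := Ω)
    intro y
    rw [one_smul]; exact h y
  have hc2 : t • (t • c) = c := by rw [← mul_smul, htt, one_smul]
  obtain ⟨-, h2, -⟩ := Cfsg.Agent.S0740.result hZ (Ne.symm hc)
  obtain ⟨ho, he⟩ := h2 t ht rfl hc2
  by_cases hn : Odd (Fintype.card Ω)
  · rw [if_pos hn]; exact ho hn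
  · rw [if_neg hn]
    rcases he (Nat.not_odd_iff_even.mp hn) with h | h
    · exact h
    · exfalso
      rw [Nat.card_coe_set_eq, Set.ncard_eq_two] at h
      obtain ⟨p, p', hpp', hset⟩ := h
      have hp : p ∈ fixedBy Ω t := by rw [hset]; simp
      have hp' : p' ∈ fixedBy Ω t := by rw [hset]; simp
      have hmem : t ∈ stabilizer G p ⊓ stabilizer G p' :=
        Subgroup.mem_inf.mpr ⟨mem_stabilizer_iff.mpr hp, mem_stabilizer_iff.mpr hp'⟩
      have := odd_order_of_mem hZ hab hodd hpp' hmem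
      rw [ht] at this
      exact absurd this (by decide)

theorem moved_count {t : G} (ht : orderOf t = 2) :
    Nat.card {x : Ω // t • x ≠ x} + (if Odd (Fintype.card Ω) then 1 else 0) = Fintype.card Ω := by
  classical
  rw [← fixed_count hZ hab hodd ht]
  have h1 : Nat.card (fixedBy Ω t) = Nat.card {x : Ω // t • x = x} := rfl
  rw [h1, Nat.card_eq_fintype_card, Nat.card_eq_fintype_card, Fintype.card_subtype,
    Fintype.card_subtype, add_comm]
  exact Finset.card_filter_add_card_filter_not (s := (Finset.univ : Finset Ω)) (fun x => t • x = x)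

theorem card_swaps {x y : Ω} (hxy : x ≠ y) :
    Nat.card {t : G // orderOf t = 2 ∧ t • x = y} =
      Nat.card ↥(stabilizer G a ⊓ stabilizer G b) := by
  rw [← card_pair hZ hab hxy]
  obtain ⟨s0, hs0x, hs0y⟩ := MulAction.is_two_pretransitive_iff.mp hZ.2.1 hxy (Ne.symm hxy)
  have hs0x' : s0⁻¹ • y = x := by rw [inv_smul_eq_iff, hs0x]
  have hs0y' : s0⁻¹ • x = y := by rw [inv_smul_eq_iff, hs0y]
  refine Nat.card_congr
    { toFun := fun t => ⟨s0⁻¹ * t, ?_⟩
      invFun := fun k => ⟨s0 * k, ?_⟩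
      left_inv := fun t => by apply Subtype.ext; simp only; group
      right_inv := fun k => by apply Subtype.ext; simp only; group }
  · obtain ⟨t, ht2, htx⟩ := t
    simp only
    have htt : t * t = 1 := by
      rw [← pow_two, ← ht2]; exact pow_orderOf_eq_one _
    have hty : t • y = x := by rw [← htx, ← mul_smul, htt, one_smul]
    refine Subgroup.mem_inf.mpr ⟨?_, ?_⟩
    · rw [mem_stabilizer_iff, mul_smul, htx, hs0x']
    · rw [mem_stabilizer_iff, mul_smul, hty, hs0y']
  · obtain ⟨h1, h2⟩ := Subgroup.mem_inf.mp k.2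
    rw [mem_stabilizer_iff] at h1 h2
    have e1 : (s0 * (k : G)) • x = y := by rw [mul_smul, h1, hs0x]
    have e2 : (s0 * (k : G)) • y = x := by rw [mul_smul, h2, hs0y]
    exact ⟨swap_order hZ hab hodd hxy e1 e2, e1⟩

theorem card_invol_mul :
    Nat.card {t : G // orderOf t = 2} *
        (Fintype.card Ω - (if Odd (Fintype.card Ω) then 1 else 0)) =
      Fintype.card Ω * ((Fintype.card Ω - 1) * Nat.card ↥(stabilizer G a ⊓ stabilizer G b)) := by
  classical
  haveI := Fintype.ofFinite G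
  set e := Nat.card ↥(stabilizer G a ⊓ stabilizer G b) with he
  set T : Finset G := Finset.univ.filter (fun t => orderOf t = 2) with hT
  have key := Finset.sum_card_bipartiteAbove_eq_sum_card_bipartiteBelow (s := T)
    (t := (Finset.univ : Finset Ω)) (r := fun t x => t • x ≠ x)
  have hL : ∀ t ∈ T, ((Finset.univ : Finset Ω).bipartiteAbove (fun t x => t • x ≠ x) t).card =
      Fintype.card Ω - (if Odd (Fintype.card Ω) then 1 else 0) := by
    intro t ht
    have ht2 : orderOf t = 2 := (Finset.mem_filter.mp ht).2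
    have := moved_count hZ hab hodd ht2
    rw [Nat.card_eq_fintype_card, Fintype.card_subtype] at this
    unfold Finset.bipartiteAbove
    beta_reduce
    omega
  have hR : ∀ x ∈ (Finset.univ : Finset Ω), (T.bipartiteBelow (fun t x => t • x ≠ x) x).card =
      (Fintype.card Ω - 1) * e := by
    intro x _
    unfold Finset.bipartiteBelow
    have hmaps : ((T.filter (fun t => t • x ≠ x) : Finset G) : Set G).MapsTo (fun t => t • x)
        ((Finset.univ.erase x : Finset Ω) : Set Ω) := by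
      intro t ht
      have := (Finset.mem_filter.mp (Finset.mem_coe.mp ht)).2
      exact Finset.mem_coe.mpr (Finset.mem_erase.mpr ⟨this, Finset.mem_univ _⟩)
    rw [Finset.card_eq_sum_card_fiberwise hmaps]
    have hfib : ∀ y ∈ (Finset.univ.erase x : Finset Ω),
        ((T.filter (fun t => t • x ≠ x)).filter (fun t => t • x = y)).card = e := by
      intro y hy
      have hyx : y ≠ x := (Finset.mem_erase.mp hy).1
      have h1 := card_swaps hZ hab hodd (Ne.symm hyx)
      rw [Nat.card_eq_fintype_card, Fintype.card_subtype] at h1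
      rw [he, ← h1]
      congr 1
      ext t
      simp only [Finset.mem_filter, Finset.mem_univ, true_and, hT]
      constructor
      · rintro ⟨⟨h2, -⟩, h3⟩; exact ⟨h2, h3⟩
      · rintro ⟨h2, h3⟩; exact ⟨⟨h2, by rw [h3]; exact hyx⟩, h3⟩
    rw [Finset.sum_congr rfl hfib, Finset.sum_const, Finset.card_erase_of_mem (Finset.mem_univ x),
      Finset.card_univ, smul_eq_mul]
  rw [Finset.sum_congr rfl hL, Finset.sum_congr rfl hR, Finset.sum_const, Finset.sum_const,
    smul_eq_mul, smul_eq_mul, Finset.card_univ] at key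
  have hTcard : Nat.card {t : G // orderOf t = 2} = T.card := by
    rw [Nat.card_eq_fintype_card, Fintype.card_subtype]
  rw [hTcard]
  exact key

theorem conj_to_swap {s0 : G} (h1 : s0 • a = b) (h2 : s0 • b = a) {t : G} (ht : orderOf t = 2) :
    IsConj s0 t := by
  classical
  haveI := hZ.1
  have ht1 : t ≠ 1 := by
    rintro rfl
    rw [orderOf_one] at ht; omega
  have htt : t * t = 1 := by
    rw [← pow_two, ← ht]; exact pow_orderOf_eq_one t
  obtain ⟨c, hc⟩ : ∃ c : Ω, t • c ≠ c := by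
    by_contra h
    push Not at h
    apply ht1
    apply FaithfulSMul.eq_of_smul_eq_smul (α := Ω)
    intro y
    rw [one_smul]; exact h y
  have hc2 : t • (t • c) = c := by rw [← mul_smul, htt, one_smul]
  obtain ⟨g, hgc, hgc'⟩ := MulAction.is_two_pretransitive_iff.mp hZ.2.1 (Ne.symm hc) hab
  -- s := g t g⁻¹ swaps a and b
  have hsa : (g * t * g⁻¹) • a = b := by
    rw [mul_smul, mul_smul, ← hgc, inv_smul_smul, hgc']
  have hsb : (g * t * g⁻¹) • b = a := by
    rw [mul_smul, mul_smul, ← hgc', inv_smul_smul, hc2, hgc]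
  have hs0 : s0 * s0 = 1 := swap_sq hZ hab hodd hab h1 h2
  have hs0inv : s0⁻¹ = s0 := inv_eq_of_mul_eq_one_left hs0
  set k : G := s0⁻¹ * (g * t * g⁻¹) with hk
  have hkE : k ∈ stabilizer G a ⊓ stabilizer G b := by
    refine Subgroup.mem_inf.mpr ⟨?_, ?_⟩
    · rw [mem_stabilizer_iff, hk, mul_smul, hsa, inv_smul_eq_iff, h1]
    · rw [mem_stabilizer_iff, hk, mul_smul, hsb, inv_smul_eq_iff, h2]
  obtain ⟨j, hj⟩ := odd_order_of_mem hZ hab hodd hab hkE
  set x : G := k ^ j with hx
  have hxE : x ∈ stabilizer G a ⊓ stabilizer G b := Subgroup.pow_mem _ hkE j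
  have hxx : x * x * k = 1 := by
    rw [hx, ← pow_add, ← pow_succ, ← two_mul, ← hj, pow_orderOf_eq_one]
  have hinv := swap_inverts hZ hab hodd hab h1 h2 x hxE
  -- x s0 x⁻¹ = s0 k
  rw [hs0inv] at hinv
  have e2 : k = x⁻¹ * x⁻¹ := by
    have : k = (x * x)⁻¹ * (x * x * k) := by group
    rw [this, hxx]; group
  have hconj : x * s0 * x⁻¹ = g * t * g⁻¹ := by
    calc x * s0 * x⁻¹ = (s0 * s0) * x * s0 * x⁻¹ := by rw [hs0, one_mul]
      _ = s0 * (s0 * x * s0) * x⁻¹ := by group
      _ = s0 * (x⁻¹ * x⁻¹) := by rw [hinv]; group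
      _ = s0 * k := by rw [e2]
      _ = g * t * g⁻¹ := by rw [hk]; group
  rw [isConj_iff]
  refine ⟨g⁻¹ * x, ?_⟩
  calc g⁻¹ * x * s0 * (g⁻¹ * x)⁻¹ = g⁻¹ * (x * s0 * x⁻¹) * g := by group
    _ = g⁻¹ * (g * t * g⁻¹) * g := by rw [hconj]
    _ = t := by group

theorem invol_conj {t t' : G} (ht : orderOf t = 2) (ht' : orderOf t' = 2) : IsConj t t' := by
  obtain ⟨s0, h1, h2⟩ := MulAction.is_two_pretransitive_iff.mp hZ.2.1 hab (Ne.symm hab)
  exact (conj_to_swap hZ hab hodd h1 h2 ht).symm.trans (conj_to_swap hZ hab hodd h1 h2 ht')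

end Odd2

end Cfsg.Agent.Lib.helper6.ZassInvol
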