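import Mathlib
import Cfsg.Agent.Lib.helper6.ZassInvol
import Cfsg.Agent.S0882

set_option autoImplicit false

namespace Cfsg.Agent.Lib.helper6.ZassClass

open MulAction Cfsg.Agent.Lib.helper6.ZassInvol

section Gen

variable {G : Type*} [Group G] [Finite G]

/-- pairs `(g,x)` with `x` in a fixed class and `g` inverting `x`: at most `|G|` of them -/
theorem card_inverting_le (C : ConjClasses G) :
    Nat.card {p : G × G // ConjClasses.mk p.2 = C ∧ p.1 * p.2 * p.1⁻¹ = p.2⁻¹} ≤ Nat.card G := by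
  classical
  obtain ⟨x₀, rfl⟩ := ConjClasses.exists_rep C
  have hr : ∀ x : G, ∃ r : G, ConjClasses.mk x = ConjClasses.mk x₀ → r * x₀ * r⁻¹ = x := by
    intro x
    by_cases hx : ConjClasses.mk x = ConjClasses.mk x₀
    · have := ConjClasses.mk_eq_mk_iff_isConj.mp hx
      obtain ⟨r, hr⟩ := isConj_iff.mp this.symm
      exact ⟨r, fun _ => hr⟩
    · exact ⟨1, fun h => absurd h hx⟩
  choose r hr using hr
  apply Nat.card_le_card_of_injective
    (fun p : {p : G × G // ConjClasses.mk p.2 = ConjClasses.mk x₀ ∧ p.1 * p.2 * p.1⁻¹ = p.2⁻¹} =>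
      p.1.1 * r p.1.2)
  intro p q hpq
  simp only at hpq
  have hp : (p.1.1 * r p.1.2) * x₀ * (p.1.1 * r p.1.2)⁻¹ = p.1.2⁻¹ := by
    rw [← p.2.2]
    conv_rhs => rw [← hr p.1.2 p.2.1]
    group
  have hq : (q.1.1 * r q.1.2) * x₀ * (q.1.1 * r q.1.2)⁻¹ = q.1.2⁻¹ := by
    rw [← q.2.2]
    conv_rhs => rw [← hr q.1.2 q.2.1]
    group
  rw [hpq] at hp
  have h2 : p.1.2 = q.1.2 := inv_injective (hp.symm.trans hq)
  rw [h2] at hpq
  have h1 : p.1.1 = q.1.1 := mul_right_cancel hpq
  apply Subtype.ext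
  exact Prod.ext h1 h2

theorem card_inverting_set_le [Fintype G] [DecidableEq G] (S : Finset (ConjClasses G)) :
    (Finset.univ.filter (fun p : G × G =>
      ConjClasses.mk p.2 ∈ S ∧ p.1 * p.2 * p.1⁻¹ = p.2⁻¹)).card ≤ Fintype.card G * S.card := by
  classical
  apply Finset.card_le_mul_card_image_of_maps_to (f := fun p : G × G => ConjClasses.mk p.2)
  · intro p hp
    exact (Finset.mem_filter.mp hp).2.1
  · intro C _
    have := card_inverting_le C
    rw [Nat.card_eq_fintype_card, Nat.card_eq_fintype_card, Fintype.card_subtype] at this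
    refine le_trans (Finset.card_le_card ?_) this
    intro p hp
    obtain ⟨hp1, hp2⟩ := Finset.mem_filter.mp hp
    obtain ⟨-, -, hp3⟩ := Finset.mem_filter.mp hp1
    exact Finset.mem_filter.mpr ⟨Finset.mem_univ _, hp2, hp3⟩

end Gen



section Two

variable {G Ω : Type*} [Group G] [MulAction G Ω] [Finite G] [Fintype Ω]

theorem card_G (h2 : IsMultiplyPretransitive G Ω 2) {a b : Ω} (hab : a ≠ b) :
    Nat.card G = Fintype.card Ω *
      ((Fintype.card Ω - 1) * Nat.card ↥(stabilizer G a ⊓ stabilizer G b)) := by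
  classical
  haveI := Fintype.ofFinite G
  set e := Nat.card ↥(stabilizer G a ⊓ stabilizer G b) with he
  have hmaps : ((Finset.univ : Finset G) : Set G).MapsTo (fun g => (g • a, g • b))
      (((Finset.univ : Finset Ω).offDiag : Finset (Ω × Ω)) : Set (Ω × Ω)) := by
    intro g _
    refine Finset.mem_coe.mpr (Finset.mem_offDiag.mpr ⟨Finset.mem_univ _, Finset.mem_univ _, ?_⟩)
    intro h
    exact hab (smul_left_cancel g h)
  rw [Nat.card_eq_fintype_card, ← Finset.card_univ, Finset.card_eq_sum_card_fiberwise hmaps]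
  have hfib : ∀ p ∈ (Finset.univ : Finset Ω).offDiag,
      ((Finset.univ : Finset G).filter (fun g => (g • a, g • b) = p)).card = e := by
    intro p hp
    obtain ⟨x, y⟩ := p
    have hxy : x ≠ y := (Finset.mem_offDiag.mp hp).2.2
    obtain ⟨g0, hg0a, hg0b⟩ := MulAction.is_two_pretransitive_iff.mp h2 hab hxy
    rw [he, Nat.card_eq_fintype_card, ← Finset.card_univ]
    symm
    apply Finset.card_bij (s := (Finset.univ : Finset ↥(stabilizer G a ⊓ stabilizer G b)))
      (fun k _ => g0 * (k : G))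
    · intro k _
      obtain ⟨h1, h2⟩ := Subgroup.mem_inf.mp k.2
      rw [mem_stabilizer_iff] at h1 h2
      refine Finset.mem_filter.mpr ⟨Finset.mem_univ _, ?_⟩
      rw [mul_smul, mul_smul, h1, h2, hg0a, hg0b]
    · intro k _ k' _ h
      exact Subtype.ext (mul_left_cancel h)
    · intro g hg
      have hg' := (Finset.mem_filter.mp hg).2
      have hga : g • a = x := (Prod.ext_iff.mp hg').1
      have hgb : g • b = y := (Prod.ext_iff.mp hg').2
      refine ⟨⟨g0⁻¹ * g, Subgroup.mem_inf.mpr ⟨?_, ?_⟩⟩, Finset.mem_univ _, by group⟩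
      · rw [mem_stabilizer_iff, mul_smul, hga, inv_smul_eq_iff, hg0a]
      · rw [mem_stabilizer_iff, mul_smul, hgb, inv_smul_eq_iff, hg0b]
  rw [Finset.sum_congr rfl hfib, Finset.sum_const, Finset.offDiag_card, Finset.card_univ,
    smul_eq_mul, ← Nat.mul_sub_one, mul_assoc]

end Two



section CF

variable {G Ω : Type*} [Group G] [MulAction G Ω]

/-- if a product of two involutions is conjugate to an element fixing only `a`, then the
two involutions fix a common point -/
theorem common_fix {a : Ω} {τ σ w g : G} (hτ : orderOf τ = 2) (hσ : orderOf σ = 2)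
    (hw : g * (τ * σ) * g⁻¹ = w) (hwa : w • a = a) (hwfix : ∀ c : Ω, w • c = c → c = a) :
    τ • (g⁻¹ • a) = g⁻¹ • a ∧ σ • (g⁻¹ • a) = g⁻¹ • a := by
  have hττ : τ * τ = 1 := by rw [← pow_two, ← hτ]; exact pow_orderOf_eq_one τ
  have hσσ : σ * σ = 1 := by rw [← pow_two, ← hσ]; exact pow_orderOf_eq_one σ
  -- x' = g τ g⁻¹ satisfies x' w = w⁻¹ x'
  have h1 : (g * τ * g⁻¹) * w = w⁻¹ * (g * τ * g⁻¹) := by
    rw [← hw]
    have e1 : g * τ * g⁻¹ * (g * (τ * σ) * g⁻¹) = g * ((τ * τ) * σ) * g⁻¹ := by group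
    have e2 : (g * (τ * σ) * g⁻¹)⁻¹ * (g * τ * g⁻¹) = g * (σ⁻¹ * τ⁻¹ * τ) * g⁻¹ := by group
    rw [e1, e2, hττ, one_mul, inv_mul_cancel_right, inv_eq_of_mul_eq_one_left hσσ]
  have h2 : (g * τ * g⁻¹) • a = a := by
    apply hwfix
    have : w⁻¹ • ((g * τ * g⁻¹) • a) = (g * τ * g⁻¹) • a := by
      rw [← mul_smul, ← h1, mul_smul, hwa]
    rw [inv_smul_eq_iff] at this
    exact this.symm
  have h3 : (g * σ * g⁻¹) • a = a := by
    have e3 : g * σ * g⁻¹ = (g * τ * g⁻¹) * w := by
      rw [← hw]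
      have : g * τ * g⁻¹ * (g * (τ * σ) * g⁻¹) = g * ((τ * τ) * σ) * g⁻¹ := by group
      rw [this, hττ, one_mul]
    rw [e3, mul_smul, hwa, h2]
  have key : ∀ x : G, (g * x * g⁻¹) • a = a → x • (g⁻¹ • a) = g⁻¹ • a := by
    intro x hx
    have : g⁻¹ • ((g * x * g⁻¹) • a) = g⁻¹ • a := by rw [hx]
    rw [← mul_smul] at this
    have e : g⁻¹ * (g * x * g⁻¹) = x * g⁻¹ := by group
    rw [e, mul_smul] at this
    exact this
  exact ⟨key τ h2, key σ h3⟩

end CF



section Main

variable {G Ω : Type*} [Group G] [MulAction G Ω] [Finite G] [Fintype Ω]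
  (hZ : Cfsg.IsZassenhausGroup G Ω) [IsSimpleGroup G] {a b : Ω} (hab : a ≠ b)
  (hodd : Odd (Nat.card ↥(stabilizer G a ⊓ stabilizer G b)))
include hZ hab hodd

/-- odd degree: the involutions fixing a given point -/
theorem invol_fix_card [Fintype G] [DecidableEq G] [DecidableEq Ω]
    (hn : Odd (Fintype.card Ω)) (c : Ω) :
    ((Finset.univ.filter (fun t : G => orderOf t = 2)).filter (fun t => t • c = c)).card *
      Fintype.card Ω = (Finset.univ.filter (fun t : G => orderOf t = 2)).card := by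
  set I : Finset G := Finset.univ.filter (fun t : G => orderOf t = 2) with hI
  have key := Finset.sum_card_bipartiteAbove_eq_sum_card_bipartiteBelow (s := I)
    (t := (Finset.univ : Finset Ω)) (r := fun t x => t • x = x)
  have hL : ∀ t ∈ I, ((Finset.univ : Finset Ω).bipartiteAbove (fun t x => t • x = x) t).card = 1 := by
    intro t ht
    have ht2 : orderOf t = 2 := (Finset.mem_filter.mp ht).2
    have := fixed_count hZ hab hodd ht2
    rw [if_pos hn] at this
    have h1 : Nat.card (fixedBy Ω t) = Nat.card {x : Ω // t • x = x} := rfl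
    rw [h1, Nat.card_eq_fintype_card, Fintype.card_subtype] at this
    unfold Finset.bipartiteAbove
    exact this
  have hR : ∀ x ∈ (Finset.univ : Finset Ω), (I.bipartiteBelow (fun t x => t • x = x) x).card =
      (I.filter (fun t => t • c = c)).card := by
    intro x _
    unfold Finset.bipartiteBelow
    haveI := hZ.2.1
    haveI : IsPretransitive G Ω := MulAction.isPretransitive_of_is_two_pretransitive
    obtain ⟨g, hg⟩ := MulAction.exists_smul_eq G c x
    symm
    apply Finset.card_bij (fun t _ => g * t * g⁻¹)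
    · intro t ht
      obtain ⟨ht1, ht2⟩ := Finset.mem_filter.mp ht
      have ht3 : orderOf t = 2 := (Finset.mem_filter.mp ht1).2
      refine Finset.mem_filter.mpr ⟨Finset.mem_filter.mpr ⟨Finset.mem_univ _, ?_⟩, ?_⟩
      · have : g * t * g⁻¹ = MulAut.conj g t := rfl
        rw [this, MulEquiv.orderOf_eq, ht3]
      · show (g * t * g⁻¹) • x = x
        rw [← hg, mul_smul, mul_smul, inv_smul_smul, ht2]
    · intro t _ t' _ h
      exact mul_left_cancel (mul_right_cancel h)
    · intro t ht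
      obtain ⟨ht1, ht2⟩ := Finset.mem_filter.mp ht
      have ht3 : orderOf t = 2 := (Finset.mem_filter.mp ht1).2
      change t • x = x at ht2
      refine ⟨g⁻¹ * t * g, Finset.mem_filter.mpr ⟨Finset.mem_filter.mpr ⟨Finset.mem_univ _, ?_⟩, ?_⟩,
        by group⟩
      · have : g⁻¹ * t * g = MulAut.conj g⁻¹ t := by simp [MulAut.conj_apply]
        rw [this, MulEquiv.orderOf_eq, ht3]
      · rw [mul_smul, mul_smul, hg, ht2, ← hg, inv_smul_smul]
  rw [Finset.sum_congr rfl hL, Finset.sum_congr rfl hR, Finset.sum_const, Finset.sum_const,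
    smul_eq_mul, smul_eq_mul, Finset.card_univ, mul_one] at key
  rw [key, mul_comm]

end Main

end Cfsg.Agent.Lib.helper6.ZassClass
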