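import Mathlib
import Cfsg.Agent.Lib.Helper9.FieldOfAffine

set_option autoImplicit false

namespace Cfsg.Agent.Lib.helper6.FieldIrr

open Cfsg.Agent.Lib.Helper9
open scoped IsMulCommutative

/-- A commutative group `D` acting irreducibly by conjugation on a finite commutative group `T`
yields a field structure on `T` in which the elements of `D` act as scalars. -/
theorem exists_field_of_irreducible {G : Type*} [Group G] (T D : Subgroup G) [Finite ↥T]
    (hTcomm : ∀ a ∈ T, ∀ b ∈ T, a * b = b * a)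
    (hDcomm : ∀ a ∈ D, ∀ b ∈ D, a * b = b * a)
    (hnorm : ∀ d ∈ D, ∀ a ∈ T, d * a * d⁻¹ ∈ T)
    (e : G) (he : e ∈ T) (he1 : e ≠ 1)
    (hirr : ∀ W : Subgroup G, W ≤ T → (∀ d ∈ D, ∀ a ∈ W, d * a * d⁻¹ ∈ W) → W = ⊥ ∨ W = T) :
    ∃ (F : Type) (_ : Field F) (_ : Fintype F) (ι : F → G) (μ : D → F),
      Function.Injective ι ∧ (∀ a ∈ T, ∃ x, ι x = a) ∧ (∀ x, ι x ∈ T) ∧
      (∀ x y, ι (x + y) = ι x * ι y) ∧ ι 1 = e ∧
      (∀ d : D, μ d ≠ 0 ∧ ∀ x, ι (μ d * x) = (d : G) * ι x * (d : G)⁻¹) := by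
  classical
  haveI : IsMulCommutative ↥T := ⟨⟨fun a b => Subtype.ext (hTcomm a a.2 b b.2)⟩⟩
  let c : D → AddMonoid.End (Additive ↥T) := conjEnd T D hnorm
  let R : Subring (AddMonoid.End (Additive ↥T)) := Subring.centralizer (Set.range c)
  let e' : Additive ↥T := Additive.ofMul ⟨e, he⟩
  have hcc : ∀ d d' : D, c d * c d' = c d' * c d := by
    intro d d'
    ext a
    show (d : G) * ((d' : G) * (a.toMul : G) * (d' : G)⁻¹) * (d : G)⁻¹ =
      (d' : G) * ((d : G) * (a.toMul : G) * (d : G)⁻¹) * (d' : G)⁻¹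
    have h1 := hDcomm d d.2 d' d'.2
    have e1 : (d : G) * ((d' : G) * (a.toMul : G) * (d' : G)⁻¹) * (d : G)⁻¹ =
        ((d : G) * (d' : G)) * (a.toMul : G) * ((d : G) * (d' : G))⁻¹ := by group
    have e2 : (d' : G) * ((d : G) * (a.toMul : G) * (d : G)⁻¹) * (d' : G)⁻¹ =
        ((d' : G) * (d : G)) * (a.toMul : G) * ((d' : G) * (d : G))⁻¹ := by group
    rw [e1, e2, h1]
  have hcR : ∀ d : D, c d ∈ R := by
    intro d
    rw [Subring.mem_centralizer_iff]
    rintro _ ⟨d', rfl⟩
    exact hcc d' d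
  have hc_app : ∀ (d : D) (a : Additive ↥T),
      ((c d a).toMul : G) = (d : G) * (a.toMul : G) * (d : G)⁻¹ := fun d a => rfl
  have hcomm : ∀ f ∈ R, ∀ (d : D) (a : Additive ↥T), f (c d a) = c d (f a) := by
    intro f hf d a
    have h2 : c d * f = f * c d := (Subring.mem_centralizer_iff.1 hf) _ ⟨d, rfl⟩
    have := congrArg (fun g : AddMonoid.End (Additive ↥T) => g a) h2
    exact this.symm
  -- kernel of an element of `R` as a subgroup of `G`
  have hker : ∀ f ∈ R, (∀ a : Additive ↥T, f a = 0 → a = 0) ∨ f = 0 := by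
    intro f hf
    let W : Subgroup G :=
      { carrier := {x | ∃ hx : x ∈ T, f (Additive.ofMul ⟨x, hx⟩) = 0}
        one_mem' := ⟨T.one_mem, map_zero f⟩
        mul_mem' := by
          rintro x y ⟨hx, hfx⟩ ⟨hy, hfy⟩
          refine ⟨T.mul_mem hx hy, ?_⟩
          have : (Additive.ofMul (⟨x * y, T.mul_mem hx hy⟩ : ↥T)) =
              Additive.ofMul (⟨x, hx⟩ : ↥T) + Additive.ofMul (⟨y, hy⟩ : ↥T) := rfl
          rw [this, map_add, hfx, hfy, add_zero]
        inv_mem' := by
          rintro x ⟨hx, hfx⟩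
          refine ⟨T.inv_mem hx, ?_⟩
          have : (Additive.ofMul (⟨x⁻¹, T.inv_mem hx⟩ : ↥T)) =
              - Additive.ofMul (⟨x, hx⟩ : ↥T) := rfl
          rw [this, map_neg, hfx, neg_zero] }
    have hWT : W ≤ T := fun x hx => hx.1
    have hWinv : ∀ d ∈ D, ∀ a ∈ W, d * a * d⁻¹ ∈ W := by
      rintro d hd a ⟨ha, hfa⟩
      refine ⟨hnorm d hd a ha, ?_⟩
      have : (Additive.ofMul (⟨d * a * d⁻¹, hnorm d hd a ha⟩ : ↥T)) =
          c ⟨d, hd⟩ (Additive.ofMul (⟨a, ha⟩ : ↥T)) := rfl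
      rw [this, hcomm f hf, hfa, map_zero]
    rcases hirr W hWT hWinv with h | h
    · left
      intro a ha
      have : (a.toMul : G) ∈ W := ⟨(a.toMul).2, ha⟩
      rw [h, Subgroup.mem_bot] at this
      apply Additive.toMul.injective
      apply Subtype.ext
      exact this
    · right
      ext a
      have : (a.toMul : G) ∈ W := by rw [h]; exact (a.toMul).2
      obtain ⟨_, hfa⟩ := this
      exact congrArg (fun z : Additive ↥T => (z.toMul : G)) hfa
  have he'0 : e' ≠ 0 := by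
    intro h
    apply he1
    exact congrArg (fun z : Additive ↥T => (z.toMul : G)) h
  have k2 : ∀ f ∈ R, f e' = 0 → f = 0 := by
    intro f hf hfe
    rcases hker f hf with h | h
    · exact absurd (h e' hfe) he'0
    · exact h
  have k3 : ∀ f ∈ R, ∀ g ∈ R, f e' = g e' → f = g := by
    intro f hf g hg hfg
    have h1 : f - g ∈ R := R.sub_mem hf hg
    have h2 : (f - g) e' = 0 := by
      show f e' - g e' = 0
      rw [hfg, sub_self]
    exact sub_eq_zero.1 (k2 _ h1 h2)
  haveI : Finite (AddMonoid.End (Additive ↥T)) :=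
    Finite.of_injective (fun f => (f : Additive ↥T → Additive ↥T)) DFunLike.coe_injective
  haveI : Nontrivial ↥R := by
    refine ⟨⟨0, 1, ?_⟩⟩
    intro h01
    have h1 : (0 : AddMonoid.End (Additive ↥T)) = 1 := congrArg Subtype.val h01
    have h2 : ((0 : AddMonoid.End (Additive ↥T)) e') = ((1 : AddMonoid.End (Additive ↥T)) e') := by
      rw [h1]
    exact he'0 h2.symm
  haveI : NoZeroDivisors ↥R := by
    refine ⟨?_⟩
    rintro ⟨f, hf⟩ ⟨g, hg⟩ hfg
    have hfg' : f * g = 0 := congrArg Subtype.val hfg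
    rcases hker g hg with h | h
    · left
      apply Subtype.ext
      show f = 0
      have hginj : Function.Injective g := by
        intro a b hab
        have : g (a - b) = 0 := by rw [map_sub, hab, sub_self]
        exact sub_eq_zero.mp (h _ this)
      have hgsurj : Function.Surjective g := Finite.surjective_of_injective hginj
      ext a
      obtain ⟨b, rfl⟩ := hgsurj a
      have := congrArg (fun z : AddMonoid.End (Additive ↥T) => z b) hfg'
      exact congrArg (fun z : Additive ↥T => (z.toMul : G)) this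
    · right
      exact Subtype.ext h
  haveI : IsDomain ↥R := NoZeroDivisors.to_isDomain _
  letI : Field ↥R := (Finite.isDomain_to_isField ↥R).toField
  haveI : Small.{0} ↥R := Countable.toSmall _
  let φ : Shrink.{0} ↥R ≃+* ↥R := Shrink.ringEquiv ↥R
  haveI : Fintype (Shrink.{0} ↥R) := Fintype.ofFinite _
  let ι : Shrink.{0} ↥R → G := fun x => (((φ x : ↥R) : AddMonoid.End (Additive ↥T)) e').toMul
  let μ : D → Shrink.{0} ↥R := fun d => φ.symm ⟨c d, hcR d⟩
  -- surjectivity of evaluation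
  have hsurj : ∀ a ∈ T, ∃ f ∈ R, ((f e').toMul : G) = a := by
    let I : Subgroup G :=
      { carrier := {x | ∃ f ∈ R, ((f e').toMul : G) = x}
        one_mem' := ⟨0, R.zero_mem, rfl⟩
        mul_mem' := by
          rintro x y ⟨f, hf, rfl⟩ ⟨g, hg, rfl⟩
          exact ⟨f + g, R.add_mem hf hg, rfl⟩
        inv_mem' := by
          rintro x ⟨f, hf, rfl⟩
          exact ⟨-f, R.neg_mem hf, rfl⟩ }
    have hIT : I ≤ T := by
      rintro x ⟨f, hf, rfl⟩
      exact ((f e').toMul).2
    have hIinv : ∀ d ∈ D, ∀ a ∈ I, d * a * d⁻¹ ∈ I := by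
      rintro d hd a ⟨f, hf, rfl⟩
      exact ⟨c ⟨d, hd⟩ * f, R.mul_mem (hcR _) hf, rfl⟩
    have heI : e ∈ I := ⟨1, R.one_mem, rfl⟩
    rcases hirr I hIT hIinv with h | h
    · rw [h, Subgroup.mem_bot] at heI
      exact absurd heI he1
    · intro a ha
      rw [← h] at ha
      exact ha
  refine ⟨Shrink.{0} ↥R, inferInstance, inferInstance, ι, μ, ?_, ?_, ?_, ?_, ?_, ?_⟩
  · intro x y hxy
    apply φ.injective
    apply Subtype.ext
    apply k3 _ (φ x).2 _ (φ y).2
    apply Additive.toMul.injective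
    apply Subtype.ext
    exact hxy
  · intro a ha
    obtain ⟨f, hf, hfa⟩ := hsurj a ha
    refine ⟨φ.symm ⟨f, hf⟩, ?_⟩
    show ((((φ (φ.symm ⟨f, hf⟩) : ↥R) : AddMonoid.End (Additive ↥T)) e').toMul : G) = a
    rw [RingEquiv.apply_symm_apply]
    exact hfa
  · intro x
    exact ((((φ x : ↥R) : AddMonoid.End (Additive ↥T)) e').toMul).2
  · intro x y
    show ((((φ (x + y) : ↥R) : AddMonoid.End (Additive ↥T)) e').toMul : G) = _
    rw [map_add]
    rfl
  · show ((((φ 1 : ↥R) : AddMonoid.End (Additive ↥T)) e').toMul : G) = e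
    rw [map_one]
    rfl
  · intro d
    constructor
    · intro h0
      have h1 : φ (μ d) = 0 := by rw [h0, map_zero]
      have h2 : (⟨c d, hcR d⟩ : ↥R) = 0 := by
        rw [← h1]
        show _ = φ (φ.symm ⟨c d, hcR d⟩)
        rw [RingEquiv.apply_symm_apply]
      have h3 : c d = 0 := congrArg Subtype.val h2
      have h4 : ((c d e').toMul : G) = 1 := by rw [h3]; rfl
      rw [hc_app] at h4
      apply he1
      have : e = (d : G)⁻¹ * ((d : G) * e * (d : G)⁻¹) * (d : G) := by group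
      rw [this]
      show (d : G)⁻¹ * ((d : G) * ((e'.toMul : ↥T) : G) * (d : G)⁻¹) * (d : G) = 1
      rw [h4]; group
    · intro x
      show ((((φ (μ d * x) : ↥R) : AddMonoid.End (Additive ↥T)) e').toMul : G) = _
      rw [map_mul]
      have : φ (μ d) = ⟨c d, hcR d⟩ := RingEquiv.apply_symm_apply _ _
      rw [this]
      rfl

end Cfsg.Agent.Lib.helper6.FieldIrr
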