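import Mathlib

set_option autoImplicit false

open OnePoint Matrix MatrixGroups

namespace Cfsg.Agent.Lib.helper6.MoebiusRecogS

/-- Data identifying a faithful permutation group with the special Möbius group `PSL₂(F)`. -/
structure MoebiusDataS (G α F : Type*) [Group G] [MulAction G α] [Field F] where
  φ : OnePoint F → α
  φ_bij : Function.Bijective φ
  ι : F → G
  δ : F → G
  s : G
  ι_smul : ∀ b x : F, ι b • φ (x : OnePoint F) = φ ((x + b : F) : OnePoint F)
  ι_infty : ∀ b : F, ι b • φ ∞ = φ ∞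
  δ_smul : ∀ a : F, a ≠ 0 → ∀ x : F, δ a • φ (x : OnePoint F) = φ ((a * a * x : F) : OnePoint F)
  δ_infty : ∀ a : F, a ≠ 0 → δ a • φ ∞ = φ ∞
  s_infty : s • φ ∞ = φ ((0 : F) : OnePoint F)
  s_zero : s • φ ((0 : F) : OnePoint F) = φ ∞
  s_smul : ∀ x : F, x ≠ 0 → s • φ (x : OnePoint F) = φ ((-x⁻¹ : F) : OnePoint F)
  stab : ∀ g : G, g • φ ∞ = φ ∞ → ∃ b a : F, a ≠ 0 ∧ g = ι b * δ a

variable {G α F : Type*} [Group G] [MulAction G α] [Field F] [DecidableEq F]

namespace MoebiusDataS

variable (D : MoebiusDataS G α F)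

/-- `g` acts as the Möbius transformation `A`. -/
def IsMoebius (g : G) (A : SpecialLinearGroup (Fin 2) F) : Prop :=
  ∀ p : OnePoint F, g • D.φ p = D.φ (SpecialLinearGroup.toGL A • p)

theorem isMoebius_mul {g g' : G} {A A' : SpecialLinearGroup (Fin 2) F} (h : D.IsMoebius g A)
    (h' : D.IsMoebius g' A') : D.IsMoebius (g * g') (A * A') := by
  intro p
  rw [mul_smul, h' p, h (SpecialLinearGroup.toGL A' • p), map_mul, mul_smul]

theorem isMoebius_one : D.IsMoebius 1 1 := by
  intro p
  rw [one_smul, map_one, one_smul]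

theorem isMoebius_inv {g : G} {A : SpecialLinearGroup (Fin 2) F} (h : D.IsMoebius g A) :
    D.IsMoebius g⁻¹ A⁻¹ := by
  intro p
  rw [inv_smul_eq_iff, h (SpecialLinearGroup.toGL A⁻¹ • p), map_inv, smul_inv_smul]

theorem isMoebius_unique [FaithfulSMul G α] {g g' : G} {A : SpecialLinearGroup (Fin 2) F}
    (h : D.IsMoebius g A) (h' : D.IsMoebius g' A) : g = g' := by
  apply FaithfulSMul.eq_of_smul_eq_smul (α := α)
  intro x
  obtain ⟨p, rfl⟩ := D.φ_bij.2 x
  rw [h p, h' p]

theorem toGL_smul_infty (A : SpecialLinearGroup (Fin 2) F) :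
    SpecialLinearGroup.toGL A • (∞ : OnePoint F) =
      if A.1 1 0 = 0 then ∞ else ((A.1 0 0 / A.1 1 0 : F) : OnePoint F) :=
  OnePoint.smul_infty_eq_ite _

theorem toGL_smul_coe (A : SpecialLinearGroup (Fin 2) F) (x : F) :
    SpecialLinearGroup.toGL A • (x : OnePoint F) =
      if A.1 1 0 * x + A.1 1 1 = 0 then ∞
      else (((A.1 0 0 * x + A.1 0 1) / (A.1 1 0 * x + A.1 1 1) : F) : OnePoint F) :=
  OnePoint.smul_some_eq_ite

theorem det_eq (A : SpecialLinearGroup (Fin 2) F) :
    A.1 0 0 * A.1 1 1 - A.1 0 1 * A.1 1 0 = 1 := by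
  have := A.2
  rwa [Matrix.det_fin_two] at this

theorem exists_of_SL (A : SpecialLinearGroup (Fin 2) F) : ∃ g : G, D.IsMoebius g A := by
  have hdet := det_eq A
  set a := A.1 0 0 with ha
  set b := A.1 0 1 with hb
  set c := A.1 1 0 with hc'
  set d := A.1 1 1 with hd
  by_cases hc : c = 0
  · rw [hc, mul_zero, sub_zero] at hdet
    have ha0 : a ≠ 0 := left_ne_zero_of_mul_eq_one hdet
    have hd0 : d ≠ 0 := right_ne_zero_of_mul_eq_one hdet
    refine ⟨D.ι (a * b) * D.δ a, ?_⟩
    intro p
    cases p with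
    | infty =>
      rw [mul_smul, D.δ_infty _ ha0, D.ι_infty, toGL_smul_infty, if_pos hc]
    | coe x =>
      rw [mul_smul, D.δ_smul _ ha0, D.ι_smul, toGL_smul_coe, ← hc', ← hd, ← ha, ← hb, hc, zero_mul,
        zero_add, if_neg hd0]
      congr 2
      field_simp
      linear_combination (a * x + b) * hdet
  · have hm : c⁻¹ ≠ 0 := inv_ne_zero hc
    refine ⟨D.ι (a / c) * D.δ c⁻¹ * D.s * D.ι (d / c), ?_⟩
    intro p
    cases p with
    | infty =>
      rw [mul_smul, mul_smul, mul_smul, D.ι_infty, D.s_infty, D.δ_smul _ hm, mul_zero, D.ι_smul,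
        zero_add, toGL_smul_infty, if_neg hc]
    | coe x =>
      rw [mul_smul, mul_smul, mul_smul, D.ι_smul, toGL_smul_coe, ← hc', ← hd, ← ha, ← hb]
      by_cases hx : c * x + d = 0
      · have h0 : x + d / c = 0 := by
          field_simp
          linear_combination hx
        rw [if_pos hx, h0, D.s_zero, D.δ_infty _ hm, D.ι_infty]
      · have h0 : x + d / c ≠ 0 := by
          intro h
          apply hx
          field_simp at h
          linear_combination h
        rw [if_neg hx, D.s_smul _ h0, D.δ_smul _ hm, D.ι_smul]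
        congr 2
        have h1 : c * x + d ≠ 0 := hx
        field_simp
        linear_combination (-(c * x) - d + c * x + d) * hdet + hdet

/-- upper unitriangular -/
def matU (b : F) : SpecialLinearGroup (Fin 2) F :=
  ⟨!![1, b; 0, 1], by simp [Matrix.det_fin_two]⟩

/-- diagonal -/
def matD (a : F) (ha : a ≠ 0) : SpecialLinearGroup (Fin 2) F :=
  ⟨!![a, 0; 0, a⁻¹], by simp [Matrix.det_fin_two, ha]⟩

/-- the Weyl element -/
def matW : SpecialLinearGroup (Fin 2) F :=
  ⟨!![0, -1; 1, 0], by simp [Matrix.det_fin_two]⟩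

theorem isMoebius_ι (b : F) : D.IsMoebius (D.ι b) (matU b) := by
  intro p
  cases p with
  | infty =>
    rw [D.ι_infty, toGL_smul_infty]
    simp [matU]
  | coe x =>
    rw [D.ι_smul, toGL_smul_coe]
    simp [matU]

theorem isMoebius_δ (a : F) (ha : a ≠ 0) : D.IsMoebius (D.δ a) (matD a ha) := by
  intro p
  cases p with
  | infty =>
    rw [D.δ_infty a ha, toGL_smul_infty]
    simp [matD]
  | coe x =>
    rw [D.δ_smul a ha, toGL_smul_coe]
    simp [matD, ha]
    field_simp

theorem isMoebius_s : D.IsMoebius D.s matW := by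
  intro p
  cases p with
  | infty =>
    rw [D.s_infty, toGL_smul_infty]
    simp [matW]
  | coe x =>
    rw [toGL_smul_coe]
    by_cases hx : x = 0
    · subst hx
      rw [D.s_zero]
      simp [matW]
    · rw [D.s_smul x hx]
      simp [matW, hx]
      field_simp

theorem exists_of_group (g : G) : ∃ A : SpecialLinearGroup (Fin 2) F, D.IsMoebius g A := by
  by_cases hg : g • D.φ ∞ = D.φ ∞
  · obtain ⟨b, a, ha, rfl⟩ := D.stab g hg
    exact ⟨matU b * matD a ha, D.isMoebius_mul (D.isMoebius_ι b) (D.isMoebius_δ a ha)⟩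
  · obtain ⟨p, hp⟩ := D.φ_bij.2 (g • D.φ ∞)
    cases p with
    | infty => exact absurd hp.symm hg
    | coe u =>
      have hfix : (D.s * D.ι (-u) * g) • D.φ ∞ = D.φ ∞ := by
        rw [mul_smul, mul_smul, ← hp, D.ι_smul, add_neg_cancel, D.s_zero]
      obtain ⟨b, a, ha, hba⟩ := D.stab _ hfix
      have hg' : g = (D.ι (-u))⁻¹ * (D.s⁻¹ * (D.ι b * D.δ a)) := by
        rw [← hba]; group
      rw [hg']
      exact ⟨_, D.isMoebius_mul (D.isMoebius_inv (D.isMoebius_ι (-u)))
        (D.isMoebius_mul (D.isMoebius_inv D.isMoebius_s)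
          (D.isMoebius_mul (D.isMoebius_ι b) (D.isMoebius_δ a ha)))⟩

variable [FaithfulSMul G α]

/-- The homomorphism from `SL₂(F)` onto `G`. -/
noncomputable def Θ : SpecialLinearGroup (Fin 2) F →* G :=
  MonoidHom.mk' (fun A => Classical.choose (D.exists_of_SL A)) (by
    intro A B
    have h1 := Classical.choose_spec (D.exists_of_SL (A * B))
    have h2 := Classical.choose_spec (D.exists_of_SL A)
    have h3 := Classical.choose_spec (D.exists_of_SL B)
    exact D.isMoebius_unique h1 (D.isMoebius_mul h2 h3))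

theorem Θ_spec (A : SpecialLinearGroup (Fin 2) F) : D.IsMoebius (D.Θ A) A :=
  Classical.choose_spec (D.exists_of_SL A)

theorem Θ_surjective : Function.Surjective D.Θ := by
  intro g
  obtain ⟨A, hA⟩ := D.exists_of_group g
  exact ⟨A, D.isMoebius_unique (D.Θ_spec A) hA⟩

theorem Θ_ker : D.Θ.ker = Subgroup.center (SpecialLinearGroup (Fin 2) F) := by
  ext A
  rw [MonoidHom.mem_ker, Matrix.SpecialLinearGroup.mem_center_iff]
  have hdet := det_eq A
  constructor
  · intro h
    have hA := D.Θ_spec A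
    rw [h] at hA
    have hfix : ∀ p : OnePoint F, SpecialLinearGroup.toGL A • p = p := by
      intro p
      have := hA p
      rw [one_smul] at this
      exact (D.φ_bij.1 this).symm
    have hc : A.1 1 0 = 0 := by
      have := hfix ∞
      rw [toGL_smul_infty] at this
      by_contra hne
      rw [if_neg hne] at this
      exact OnePoint.coe_ne_infty _ this
    rw [hc, mul_zero, sub_zero] at hdet
    have ha : A.1 0 0 ≠ 0 := left_ne_zero_of_mul_eq_one hdet
    have hd : A.1 1 1 ≠ 0 := right_ne_zero_of_mul_eq_one hdet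
    have h0 := hfix ((0 : F) : OnePoint F)
    rw [toGL_smul_coe, hc, zero_mul, zero_add, if_neg hd, mul_zero, zero_add] at h0
    have hb : A.1 0 1 = 0 := by
      have := OnePoint.coe_injective h0
      rcases div_eq_zero_iff.mp this with h | h
      · exact h
      · exact absurd h hd
    have h1 := hfix ((1 : F) : OnePoint F)
    rw [toGL_smul_coe, hc, zero_mul, zero_add, if_neg hd, mul_one, hb, add_zero] at h1
    have had : A.1 0 0 = A.1 1 1 := by
      have := OnePoint.coe_injective h1
      rwa [div_eq_one_iff_eq hd] at this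
    refine ⟨A.1 0 0, ?_, ?_⟩
    · rw [Fintype.card_fin, pow_two]
      nth_rewrite 2 [had]
      exact hdet
    · ext i j
      fin_cases i <;> fin_cases j <;> simp [hc, hb, had]
  · rintro ⟨r, hr, hrA⟩
    have : D.IsMoebius 1 A := by
      intro p
      rw [one_smul]
      congr 1
      have hA : A.1 = Matrix.scalar (Fin 2) r := hrA.symm
      have hr0 : r ≠ 0 := by
        intro h
        rw [h, Fintype.card_fin] at hr
        simp at hr
      cases p with
      | infty =>
        rw [toGL_smul_infty, hA]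
        simp
      | coe x =>
        rw [toGL_smul_coe, hA]
        simp [hr0]
    exact D.isMoebius_unique (D.Θ_spec _) this

include D in
/-- The group is isomorphic to `PSL₂(F)`. -/
theorem nonempty_mulEquiv_PSL :
    Nonempty (G ≃* Matrix.ProjectiveSpecialLinearGroup (Fin 2) F) := by
  let e1 : SpecialLinearGroup (Fin 2) F ⧸ D.Θ.ker ≃* G :=
    QuotientGroup.quotientKerEquivOfSurjective D.Θ D.Θ_surjective
  let e2 : SpecialLinearGroup (Fin 2) F ⧸ D.Θ.ker ≃*
      SpecialLinearGroup (Fin 2) F ⧸ Subgroup.center (SpecialLinearGroup (Fin 2) F) :=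
    QuotientGroup.quotientMulEquivOfEq D.Θ_ker
  let e3 : (SpecialLinearGroup (Fin 2) F ⧸ Subgroup.center (SpecialLinearGroup (Fin 2) F)) ≃*
      Matrix.ProjectiveSpecialLinearGroup (Fin 2) F := MulEquiv.refl _
  exact ⟨e1.symm.trans (e2.trans e3)⟩

end MoebiusDataS

end Cfsg.Agent.Lib.helper6.MoebiusRecogS
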