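import Mathlib
import Cfsg.Agent.Lib.helper6.FieldIrr
import Cfsg.Agent.Lib.helper6.MoebiusRecogS

set_option autoImplicit false

open OnePoint

namespace Cfsg.Agent.Lib.helper6.ZassPSL3

open Cfsg.Agent.Lib.helper6.FieldIrr Cfsg.Agent.Lib.helper6.MoebiusRecogS

variable {G Ω : Type*} [Group G] [MulAction G Ω]

/-- Basic hypotheses on a Zassenhaus-type group with marked points and kernel (no involution). -/
structure ZK (G Ω : Type*) [Group G] [MulAction G Ω] (pinf p0 : Ω) (KG : Subgroup G) :
    Prop where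
  two : ∀ {a b c d : Ω}, a ≠ b → c ≠ d → ∃ g : G, g • a = c ∧ g • b = d
  three : ∀ g : G, ∀ a b c : Ω, a ≠ b → b ≠ c → a ≠ c → g • a = a → g • b = b → g • c = c → g = 1
  hi0 : pinf ≠ p0
  kfix : ∀ k ∈ KG, k • pinf = pinf
  kfpf : ∀ k ∈ KG, k ≠ 1 → ∀ x : Ω, x ≠ pinf → k • x ≠ x
  ktr : ∀ x y : Ω, x ≠ pinf → y ≠ pinf → ∃ k ∈ KG, k • x = y
  knorm : ∀ g : G, g • pinf = pinf → ∀ k ∈ KG, g * k * g⁻¹ ∈ KG

variable {pinf p0 : Ω} {KG : Subgroup G}

namespace ZK

variable (Z : ZK G Ω pinf p0 KG)
include Z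

theorem ne_of_smul {k : G} (hk : k ∈ KG) {x : Ω} (hx : x ≠ pinf) : k • x ≠ pinf := by
  intro h
  have := h.trans (Z.kfix k hk).symm
  exact hx (MulAction.injective k this)

/-- an element of the two-point stabiliser commuting with a nontrivial kernel element is trivial -/
theorem H_semireg {h : G} (hhi : h • pinf = pinf) (hh0 : h • p0 = p0) {k : G} (hk : k ∈ KG)
    (hk1 : k ≠ 1) (hc : h * k * h⁻¹ = k) : h = 1 := by
  have h1 : h • (k • p0) = k • p0 := by
    have : h * k = k * h := by
      calc h * k = (h * k * h⁻¹) * h := by group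
        _ = k * h := by rw [hc]
    rw [← mul_smul, this, mul_smul, hh0]
  have h2 : k • p0 ≠ p0 := Z.kfpf k hk hk1 p0 (Ne.symm Z.hi0)
  have h3 : k • p0 ≠ pinf := Z.ne_of_smul hk (Ne.symm Z.hi0)
  exact Z.three h pinf p0 (k • p0) Z.hi0 (Ne.symm h2) (Ne.symm h3) hhi hh0 h1

end ZK

/-- A Zassenhaus-type group with abelian kernel in which the two-point stabiliser has odd order
`(n-1)/2`, all swaps being fixed-point-free involutions, is `PSL₂(F)`. -/
theorem psl_of_half_odd [Fintype Ω] [FaithfulSMul G Ω] (Z : ZK G Ω pinf p0 KG)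
    (kcomm : ∀ x ∈ KG, ∀ y ∈ KG, x * y = y * x)
    (hswap : ∀ s : G, s • pinf = p0 → s • p0 = pinf → s * s = 1)
    (hnofix : ∀ s : G, s • pinf = p0 → s • p0 = pinf → ∀ x : Ω, s • x ≠ x)
    (hodd : Odd (Nat.card ↥(MulAction.stabilizer G pinf ⊓ MulAction.stabilizer G p0)))
    (hcard : 2 * Nat.card ↥(MulAction.stabilizer G pinf ⊓ MulAction.stabilizer G p0) + 2 =
      Fintype.card Ω) :
    ∃ (F : Type) (_ : Field F) (_ : Fintype F), Fintype.card F + 1 = Fintype.card Ω ∧
      Nonempty (G ≃* Matrix.ProjectiveSpecialLinearGroup (Fin 2) F) := by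
  classical
  haveI : Finite G := Finite.of_injective (MulAction.toPerm : G → Equiv.Perm Ω)
    MulAction.toPerm_injective
  haveI : Finite KG := inferInstance
  have hi0 := Z.hi0
  let H : Subgroup G := MulAction.stabilizer G pinf ⊓ MulAction.stabilizer G p0
  have hHmem : ∀ h : G, h ∈ H ↔ h • pinf = pinf ∧ h • p0 = p0 := by
    intro h
    simp only [H, Subgroup.mem_inf, MulAction.mem_stabilizer_iff]
  have kreg : ∀ k ∈ KG, ∀ k' ∈ KG, ∀ x : Ω, x ≠ pinf → k • x = k' • x → k = k' := by
    intro k hk k' hk' x hx hkk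
    have h1 : (k'⁻¹ * k) • x = x := by rw [mul_smul, hkk, inv_smul_smul]
    by_contra hne
    have h2 : k'⁻¹ * k ≠ 1 := by
      intro h
      apply hne
      have : k = k' * (k'⁻¹ * k) := by group
      rw [this, h, mul_one]
    exact Z.kfpf _ (KG.mul_mem (KG.inv_mem hk') hk) h2 x hx h1
  -- s
  obtain ⟨s, hsi, hs0⟩ := Z.two Z.hi0 (Ne.symm Z.hi0)
  have hss : s * s = 1 := hswap s hsi hs0
  have hsinv : s⁻¹ = s := by rw [inv_eq_iff_mul_eq_one]; exact hss
  have hinvert : ∀ h ∈ H, s * h * s⁻¹ = h⁻¹ := by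
    intro h hh
    obtain ⟨h1, h2⟩ := (hHmem h).mp hh
    have h3 : (s * h) * (s * h) = 1 :=
      hswap _ (by rw [mul_smul, h1, hsi]) (by rw [mul_smul, h2, hs0])
    rw [hsinv]
    have : s * h * s = (s * h) * (s * h) * h⁻¹ := by group
    rw [this, h3, one_mul]
  have hHcomm : ∀ h ∈ H, ∀ k ∈ H, h * k = k * h := by
    intro h hh k hk
    have h1 := hinvert _ (H.mul_mem hh hk)
    have h2 := hinvert h hh
    have h3 := hinvert k hk
    have h4 : s * (h * k) * s⁻¹ = (s * h * s⁻¹) * (s * k * s⁻¹) := by group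
    rw [h1, h2, h3] at h4
    have h5 : (h * k)⁻¹ = (k * h)⁻¹ := by rw [h4]; group
    exact inv_injective h5
  have hnorm : ∀ d ∈ H, ∀ a ∈ KG, d * a * d⁻¹ ∈ KG :=
    fun d hd a ha => Z.knorm d ((hHmem d).mp hd).1 a ha
  -- a third point
  have hΩ3 : 3 ≤ Fintype.card Ω := by
    have : 0 < Nat.card H := Nat.card_pos
    have hH : Nat.card H = Nat.card ↥(MulAction.stabilizer G pinf ⊓ MulAction.stabilizer G p0) :=
      rfl
    omega
  obtain ⟨p1, h1i, h10⟩ : ∃ x : Ω, x ≠ pinf ∧ x ≠ p0 := by
    by_contra h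
    push Not at h
    have : (Finset.univ : Finset Ω) ⊆ {pinf, p0} := by
      intro x _
      by_cases hx : x = pinf
      · simp [hx]
      · simp [h x hx]
    have := (Finset.card_le_card this).trans Finset.card_le_two
    rw [Finset.card_univ] at this
    omega
  obtain ⟨e, heK, he0⟩ := Z.ktr p0 p1 (Ne.symm hi0) h1i
  have he1 : e ≠ 1 := by
    intro h; rw [h, one_smul] at he0; exact h10 he0.symm
  -- cardinality of the kernel
  have hKcard : Nat.card KG + 1 = Fintype.card Ω := by
    let f : KG → {x : Ω // x ≠ pinf} := fun k => ⟨(k : G) • p0, Z.ne_of_smul k.2 (Ne.symm hi0)⟩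
    have hf : Function.Bijective f := by
      constructor
      · intro k k' hkk
        have : (k : G) • p0 = (k' : G) • p0 := congrArg Subtype.val hkk
        exact Subtype.ext (kreg _ k.2 _ k'.2 p0 (Ne.symm hi0) this)
      · rintro ⟨x, hx⟩
        obtain ⟨k, hk, hkx⟩ := Z.ktr p0 x (Ne.symm hi0) hx
        exact ⟨⟨k, hk⟩, Subtype.ext hkx⟩
    rw [Nat.card_eq_of_bijective f hf, Nat.card_eq_fintype_card, Fintype.card_subtype_compl,
      Fintype.card_subtype_eq]
    have : 0 < Fintype.card Ω := Fintype.card_pos_iff.mpr ⟨pinf⟩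
    omega
  -- irreducibility
  have hirr : ∀ W : Subgroup G, W ≤ KG → (∀ d ∈ H, ∀ a ∈ W, d * a * d⁻¹ ∈ W) →
      W = ⊥ ∨ W = KG := by
    intro W hW hinv
    by_cases hbot : W = ⊥
    · exact Or.inl hbot
    · right
      obtain ⟨w, hw1⟩ := (Subgroup.ne_bot_iff_exists_ne_one).mp hbot
      have hw' : (w : G) ≠ 1 := fun h => hw1 (Subtype.ext h)
      have hlt : Nat.card H < Nat.card W := by
        let f : H → W := fun h => ⟨(h : G) * (w : G) * (h : G)⁻¹, hinv h h.2 w w.2⟩
        have hfinj : Function.Injective f := by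
          intro h h' hh
          have h1 : (h : G) * (w : G) * (h : G)⁻¹ = (h' : G) * (w : G) * (h' : G)⁻¹ :=
            congrArg Subtype.val hh
          have h2 : ((h' : G)⁻¹ * (h : G)) * (w : G) * ((h' : G)⁻¹ * (h : G))⁻¹ = (w : G) := by
            calc ((h' : G)⁻¹ * (h : G)) * (w : G) * ((h' : G)⁻¹ * (h : G))⁻¹
                = (h' : G)⁻¹ * ((h : G) * (w : G) * (h : G)⁻¹) * (h' : G) := by group
              _ = (w : G) := by rw [h1]; group
          have hmem := (hHmem _).mp (H.mul_mem (H.inv_mem h'.2) h.2)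
          have h3 := Z.H_semireg hmem.1 hmem.2 (hW w.2) hw' h2
          apply Subtype.ext
          have : (h : G) = (h' : G) * ((h' : G)⁻¹ * (h : G)) := by group
          rw [this, h3, mul_one]
        have hfns : ¬ Function.Surjective f := by
          intro h
          obtain ⟨u, hu⟩ := h 1
          have h1 : (u : G) * (w : G) * (u : G)⁻¹ = 1 := congrArg Subtype.val hu
          apply hw'
          have : (w : G) = (u : G)⁻¹ * ((u : G) * (w : G) * (u : G)⁻¹) * (u : G) := by group
          rw [this, h1]; group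
        letI : Fintype H := Fintype.ofFinite _
        letI : Fintype W := Fintype.ofFinite _
        rw [Nat.card_eq_fintype_card, Nat.card_eq_fintype_card]
        exact Fintype.card_lt_of_injective_not_surjective f hfinj hfns
      have hdvd : Nat.card W ∣ Nat.card KG := Subgroup.card_dvd_of_le hW
      have hge : Nat.card KG ≤ Nat.card W := by
        obtain ⟨q, hq⟩ := hdvd
        have hq0 : q ≠ 0 := by
          intro h
          rw [h, mul_zero] at hq
          have : 0 < Nat.card KG := Nat.card_pos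
          omega
        by_contra hlt'
        push Not at hlt'
        have hq2 : 2 ≤ q := by
          by_contra h
          have : q = 1 := by omega
          rw [this, mul_one] at hq
          omega
        have : Nat.card KG ≥ Nat.card W * 2 := by
          rw [hq]; exact Nat.mul_le_mul_left _ hq2
        have hH : Nat.card H = Nat.card ↥(MulAction.stabilizer G pinf ⊓ MulAction.stabilizer G p0) :=
          rfl
        omega
      exact Subgroup.eq_of_le_of_card_ge hW hge
  obtain ⟨F, instF, instFin, ι, μ, hιinj, hιsurj, hιK, hιadd, hι1, hμ⟩ :=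
    exists_field_of_irreducible KG H kcomm hHcomm hnorm e heK he1 hirr
  have hι0 : ι 0 = 1 := by
    have := hιadd 0 0
    rw [add_zero] at this
    exact mul_left_cancel (a := ι 0) (by rw [mul_one]; exact this.symm)
  have hιneg : ∀ x : F, ι (-x) = (ι x)⁻¹ := by
    intro x
    have := hιadd (-x) x
    rw [neg_add_cancel, hι0] at this
    exact eq_inv_of_mul_eq_one_left this.symm
  have hιi : ∀ x, ι x • pinf = pinf := fun x => Z.kfix _ (hιK x)
  -- φ
  let φ : OnePoint F → Ω := fun p => match p with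
    | ∞ => pinf
    | (x : F) => ι x • p0
  have hφi : φ ∞ = pinf := rfl
  have hφc : ∀ x : F, φ (x : OnePoint F) = ι x • p0 := fun x => rfl
  have hφne : ∀ x : F, φ (x : OnePoint F) ≠ pinf := fun x => Z.ne_of_smul (hιK x) (Ne.symm hi0)
  have hφbij : Function.Bijective φ := by
    constructor
    · intro p q hpq
      cases p with
      | infty =>
        cases q with
        | infty => rfl
        | coe y => exact absurd hpq.symm (hφne y)
      | coe x =>
        cases q with
        | infty => exact absurd hpq (hφne x)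
        | coe y =>
          rw [hφc, hφc] at hpq
          have := kreg _ (hιK x) _ (hιK y) p0 (Ne.symm hi0) hpq
          rw [hιinj this]
    · intro y
      by_cases hy : y = pinf
      · exact ⟨∞, hy.symm⟩
      · obtain ⟨k, hk, hky⟩ := Z.ktr p0 y (Ne.symm hi0) hy
        obtain ⟨x, hx⟩ := hιsurj k hk
        exact ⟨(x : OnePoint F), by rw [hφc, hx, hky]⟩
  have hφ0 : φ ((0 : F) : OnePoint F) = p0 := by rw [hφc, hι0, one_smul]
  have hφinj0 : ∀ x : F, φ (x : OnePoint F) = p0 → x = 0 := by
    intro x hx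
    rw [← hφ0] at hx
    exact OnePoint.coe_injective (hφbij.1 hx)
  have hφcoe : ∀ x y : F, φ (x : OnePoint F) = φ (y : OnePoint F) → x = y :=
    fun x y h => OnePoint.coe_injective (hφbij.1 h)
  have hFΩ : Fintype.card F + 1 = Fintype.card Ω := by
    have h1 : Nat.card (OnePoint F) = Nat.card Ω := Nat.card_eq_of_bijective φ hφbij
    have h2 : Nat.card (OnePoint F) = Nat.card F + 1 := by
      have : Nat.card (Option F) = Nat.card F + 1 := by
        rw [Nat.card_eq_fintype_card, Nat.card_eq_fintype_card, Fintype.card_option]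
      exact this
    have h3 : Nat.card F = Fintype.card F := Nat.card_eq_fintype_card
    have h4 : Nat.card Ω = Fintype.card Ω := Nat.card_eq_fintype_card
    omega
  have hιsmul : ∀ b x : F, ι b • φ (x : OnePoint F) = φ ((x + b : F) : OnePoint F) := by
    intro b x
    rw [hφc, hφc, ← mul_smul, ← hιadd, add_comm]
  have hHsmul : ∀ (h : H) (x : F),
      (h : G) • φ (x : OnePoint F) = φ ((μ h * x : F) : OnePoint F) := by
    intro h x
    rw [hφc, hφc, (hμ h).2 x, mul_smul, mul_smul,
      inv_smul_eq_iff.mpr ((hHmem h).mp h.2).2.symm]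
  have hHinf : ∀ h : H, (h : G) • pinf = pinf := fun h => ((hHmem h).mp h.2).1
  have hμ1 : ∀ h : H, ι (μ h) = (h : G) * e * (h : G)⁻¹ := by
    intro h
    have := (hμ h).2 1
    rwa [mul_one, hι1] at this
  have hμmul : ∀ h h' : H, μ (h * h') = μ h * μ h' := by
    intro h h'
    apply hιinj
    rw [hμ1, (hμ h).2, hμ1, Subgroup.coe_mul]
    group
  have hμinj : Function.Injective μ := by
    intro h h' hh
    have h1 : (h : G) * e * (h : G)⁻¹ = (h' : G) * e * (h' : G)⁻¹ := by
      rw [← hμ1, ← hμ1, hh]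
    have h2 : ((h' : G)⁻¹ * (h : G)) * e * ((h' : G)⁻¹ * (h : G))⁻¹ = e := by
      calc ((h' : G)⁻¹ * (h : G)) * e * ((h' : G)⁻¹ * (h : G))⁻¹
          = (h' : G)⁻¹ * ((h : G) * e * (h : G)⁻¹) * (h' : G) := by group
        _ = e := by rw [h1]; group
    have hmem := (hHmem _).mp (H.mul_mem (H.inv_mem h'.2) h.2)
    have h3 := Z.H_semireg hmem.1 hmem.2 heK he1 h2
    apply Subtype.ext
    have : (h : G) = (h' : G) * ((h' : G)⁻¹ * (h : G)) := by group
    rw [this, h3, mul_one]
  let μu : H →* Fˣ := MonoidHom.mk' (fun h => Units.mk0 (μ h) (hμ h).1) (by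
    intro a b
    apply Units.ext
    simp [hμmul])
  have hμu : ∀ h : H, ((μu h : Fˣ) : F) = μ h := fun h => rfl
  have hμone : μ 1 = 1 := by
    have := hμu 1
    rw [map_one] at this
    exact this.symm
  have hμu_inj : Function.Injective μu := by
    intro h h' hh
    apply hμinj
    rw [← hμu, ← hμu, hh]
  let M : Subgroup Fˣ := μu.range
  have hMmem : ∀ u : Fˣ, u ∈ M ↔ ∃ h : H, μ h = (u : F) := by
    intro u
    constructor
    · rintro ⟨h, rfl⟩
      exact ⟨h, rfl⟩
    · rintro ⟨h, hh⟩
      exact ⟨h, Units.ext hh⟩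
  have hFcard : Nat.card F = Nat.card KG := by
    let f : F → KG := fun x => ⟨ι x, hιK x⟩
    have hf : Function.Bijective f := by
      constructor
      · intro x y hxy
        exact hιinj (congrArg Subtype.val hxy)
      · rintro ⟨k, hk⟩
        obtain ⟨x, hx⟩ := hιsurj k hk
        exact ⟨x, Subtype.ext hx⟩
    exact Nat.card_eq_of_bijective f hf
  have hMcard : Nat.card M = Nat.card H :=
    (Nat.card_congr (MonoidHom.ofInjective hμu_inj).toEquiv).symm
  have hHc : Nat.card H =
      Nat.card ↥(MulAction.stabilizer G pinf ⊓ MulAction.stabilizer G p0) := rfl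
  have hFu : Nat.card Fˣ + 1 = Nat.card F := by
    rw [Nat.card_eq_fintype_card, Nat.card_eq_fintype_card, Fintype.card_units]
    have : 0 < Fintype.card F := Fintype.card_pos
    omega
  have hF2 : Nat.card F = 2 * Nat.card H + 1 := by omega
  have hM2 : M.index = 2 := by
    have h1 := M.card_mul_index
    rw [hMcard] at h1
    have h2 : Nat.card H * M.index = Nat.card H * 2 := by omega
    have hpos : 0 < Nat.card H := Nat.card_pos
    exact Nat.eq_of_mul_eq_mul_left hpos h2
  have hchar : ringChar F ≠ 2 := by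
    intro h
    have := (FiniteField.even_card_iff_char_two (F := F)).mp h
    have h3 : Nat.card F = Fintype.card F := Nat.card_eq_fintype_card
    omega
  have h2ne : (2 : F) ≠ 0 := Ring.two_ne_zero hchar
  -- `-1` is not in the image of `μ`
  have hHodd : Odd (Nat.card H) := hodd
  have hsqH : ∀ h : H, ∃ k : H, k * k = h := by
    intro h
    obtain ⟨m, hm⟩ := hHodd
    refine ⟨h ^ (m + 1), ?_⟩
    rw [← pow_add]
    have : m + 1 + (m + 1) = Nat.card H + 1 := by omega
    rw [this, pow_succ, pow_card_eq_one', one_mul]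
  have hneg1 : ∀ h : H, μ h ≠ -1 := by
    intro h hh
    obtain ⟨k, hk⟩ := hsqH h
    have h1 : μ (h * h) = 1 := by rw [hμmul, hh]; ring
    have h2 : h * h = 1 := hμinj (by rw [h1, hμone])
    -- h has odd order and h^2 = 1, so h = 1
    have h3 : h = 1 := by
      have hord : orderOf h ∣ 2 := orderOf_dvd_of_pow_eq_one (by rw [pow_two]; exact h2)
      have hord' : orderOf h ∣ Nat.card H := orderOf_dvd_natCard h
      have hodd' : Odd (orderOf h) := Odd.of_dvd_nat hHodd hord'
      rcases (Nat.dvd_prime Nat.prime_two).mp hord with h' | h'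
      · exact orderOf_eq_one_iff.mp h'
      · rw [h'] at hodd'; exact absurd hodd' (by decide)
    rw [h3, hμone] at hh
    have : (2 : F) = 0 := by linear_combination hh
    exact h2ne this
  -- every nonzero element is `± μ h`
  have hpm : ∀ x : F, x ≠ 0 → (∃ h : H, μ h = x) ∨ (∃ h : H, μ h = -x) := by
    intro x hx
    by_cases hxM : Units.mk0 x hx ∈ M
    · left
      obtain ⟨h, hh⟩ := (hMmem _).mp hxM
      exact ⟨h, by rw [hh]; rfl⟩
    · right
      have hm1 : (-1 : Fˣ) ∉ M := by
        intro h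
        obtain ⟨k, hk⟩ := (hMmem _).mp h
        exact hneg1 k (by rw [hk]; simp)
      have : (-1 : Fˣ) * Units.mk0 x hx ∈ M := by
        rw [Subgroup.mul_mem_iff_of_index_two hM2]
        exact ⟨fun h => absurd h hm1, fun h => absurd h hxM⟩
      obtain ⟨h, hh⟩ := (hMmem _).mp this
      exact ⟨h, by rw [hh]; simp⟩
  -- σ
  have hσex : ∀ x : F, ∃ y : F, x ≠ 0 →
      (y ≠ 0 ∧ s • φ (x : OnePoint F) = φ (y : OnePoint F)) := by
    intro x
    by_cases hx : x = 0
    · exact ⟨0, fun h => absurd hx h⟩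
    · obtain ⟨q, hq⟩ := hφbij.2 (s • φ (x : OnePoint F))
      cases q with
      | infty =>
        exfalso
        rw [hφi, ← hs0] at hq
        have := MulAction.injective s hq
        exact hx (hφinj0 x this.symm)
      | coe y =>
        refine ⟨y, fun _ => ⟨?_, hq.symm⟩⟩
        intro hy
        rw [hy, hφ0, ← hsi] at hq
        have := MulAction.injective s hq
        exact hφne x this.symm
  choose σ hσ using hσex
  have hsH : ∀ h : H, s * (h : G) = (h : G)⁻¹ * s := by
    intro h
    have := hinvert h h.2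
    calc s * (h : G) = (s * (h : G) * s⁻¹) * s := by group
      _ = (h : G)⁻¹ * s := by rw [this]
  have hμinv : ∀ h : H, μ h⁻¹ = (μ h)⁻¹ := by
    intro h
    have h1 : μ h⁻¹ * μ h = 1 := by rw [← hμmul, inv_mul_cancel, hμone]
    exact eq_inv_of_mul_eq_one_left h1
  have hσF1 : ∀ (h : H) (x : F), x ≠ 0 → σ (μ h * x) = (μ h)⁻¹ * σ x := by
    intro h x hx
    have hx' : μ h * x ≠ 0 := mul_ne_zero (hμ h).1 hx
    apply hφcoe
    rw [← (hσ _ hx').2, ← hHsmul, ← mul_smul, hsH, mul_smul, (hσ x hx).2]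
    have : ((h : G)⁻¹ : G) = ((h⁻¹ : H) : G) := rfl
    rw [this, hHsmul, hμinv]
  have hσσ : ∀ x : F, x ≠ 0 → σ (σ x) = x := by
    intro x hx
    apply hφcoe
    rw [← (hσ _ (hσ x hx).1).2, ← (hσ x hx).2, ← mul_smul, hss, one_smul]
  have hσnofix : ∀ x : F, x ≠ 0 → σ x ≠ x := by
    intro x hx h
    apply hnofix s hsi hs0 (φ (x : OnePoint F))
    rw [(hσ x hx).2, h]
  set α := σ 1 with hα
  have hα0 : α ≠ 0 := (hσ 1 one_ne_zero).1
  have hσα : σ α = 1 := hσσ 1 one_ne_zero
  have hσM : ∀ h : H, σ (μ h) = (μ h)⁻¹ * α := by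
    intro h
    have := hσF1 h 1 one_ne_zero
    rwa [mul_one] at this
  -- `α` is not in the image of `μ`
  have hαM : ¬ ∃ h : H, μ h = α := by
    rintro ⟨h, hh⟩
    obtain ⟨k, hk⟩ := hsqH h
    apply hσnofix (μ k) (hμ k).1
    rw [hσM, ← hh, ← hk, hμmul]
    field_simp [(hμ k).1]
  obtain ⟨ηH, hμη⟩ : ∃ h : H, μ h = -α := by
    rcases hpm α hα0 with h | h
    · exact absurd h hαM
    · exact h
  have hγ : σ (-1) = -α := by
    have h1 : α = μ ηH * (-1) := by rw [hμη]; ring
    have h2 : σ α = (μ ηH)⁻¹ * σ (-1) := by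
      conv_lhs => rw [h1]
      exact hσF1 ηH (-1) (neg_ne_zero.mpr one_ne_zero)
    rw [hσα, hμη] at h2
    have hna : -α ≠ 0 := neg_ne_zero.mpr hα0
    field_simp at h2
    linear_combination h2
  have hσeq : ∀ w : F, w ≠ 0 → σ w = α / w := by
    intro w hw
    rcases hpm w hw with ⟨h, hh⟩ | ⟨h, hh⟩
    · rw [← hh, hσM]
      field_simp [(hμ h).1]
    · have h1 : w = μ h * (-1) := by rw [hh]; ring
      have h0 : μ h ≠ 0 := (hμ h).1
      conv_lhs => rw [h1]
      rw [hσF1 h (-1) (neg_ne_zero.mpr one_ne_zero), hγ, hh]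
      field_simp
  set η : G := (ηH : G) with hη
  have hηi : η • pinf = pinf := ((hHmem η).mp ηH.2).1
  have hη0 : η • p0 = p0 := ((hHmem η).mp ηH.2).2
  -- the normalised involution
  have hs'smul : ∀ x : F, x ≠ 0 →
      (s * η) • φ (x : OnePoint F) = φ ((-x⁻¹ : F) : OnePoint F) := by
    intro x hx
    have h2 : η • φ ((x : F) : OnePoint F) = φ ((μ ηH * x : F) : OnePoint F) := hHsmul ηH x
    have hx' : μ ηH * x ≠ 0 := mul_ne_zero (hμ ηH).1 hx
    rw [mul_smul, h2, (hσ _ hx').2, hσeq _ hx', hμη]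
    congr 2
    field_simp
  -- dilations
  have hδex : ∀ a : F, ∃ h : H, a ≠ 0 → μ h = a * a := by
    intro a
    by_cases ha : a = 0
    · exact ⟨1, fun h => absurd ha h⟩
    · have := Subgroup.mul_self_mem_of_index_two hM2 (Units.mk0 a ha)
      obtain ⟨h, hh⟩ := (hMmem _).mp this
      exact ⟨h, fun _ => by rw [hh]; simp⟩
  choose δ hδ using hδex
  have hsq : ∀ h : H, ∃ a : F, a ≠ 0 ∧ μ h = a * a := by
    intro h
    obtain ⟨k, hk⟩ := hsqH h
    exact ⟨μ k, (hμ k).1, by rw [← hk, hμmul]⟩
  let D : MoebiusDataS G Ω F :=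
    { φ := φ
      φ_bij := hφbij
      ι := ι
      δ := fun a => (δ a : G)
      s := s * η
      ι_smul := hιsmul
      ι_infty := fun b => hιi b
      δ_smul := by
        intro a ha x
        rw [hHsmul, hδ a ha]
      δ_infty := fun a _ => hHinf (δ a)
      s_infty := by rw [hφi, hφ0, mul_smul, hηi, hsi]
      s_zero := by rw [hφi, hφ0, mul_smul, hη0, hs0]
      s_smul := hs'smul
      stab := by
        intro g hg
        have hg0 : g • p0 ≠ pinf := by
          intro h
          have := h.trans hg.symm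
          exact hi0 (MulAction.injective g this).symm
        obtain ⟨p, hp⟩ := hφbij.2 (g • p0)
        cases p with
        | infty => exact absurd hp.symm hg0
        | coe b =>
          rw [hφc] at hp
          have hh : (ι b)⁻¹ * g ∈ H := by
            rw [hHmem]
            constructor
            · rw [mul_smul, hg, inv_smul_eq_iff, hιi]
            · rw [mul_smul, inv_smul_eq_iff, hp]
          obtain ⟨a, ha, haa⟩ := hsq ⟨_, hh⟩
          refine ⟨b, a, ha, ?_⟩
          have h1 : δ a = ⟨_, hh⟩ := hμinj (by rw [hδ a ha, haa])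
          rw [h1]
          group }
  exact ⟨F, instF, instFin, hFΩ, D.nonempty_mulEquiv_PSL⟩

end Cfsg.Agent.Lib.helper6.ZassPSL3
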