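import Mathlib
import Cfsg.Agent.Lib.helper6.ZassPSL3
import Cfsg.Agent.Lib.helper6.ZassClassA

set_option autoImplicit false

namespace Cfsg.Agent.Lib.helper6.DegP1

open MulAction Cfsg.Agent.Lib.helper6.ZassPSL3

variable {G α : Type*} [Group G] [MulAction G α]

/-- structure of a transitive group of degree `p + 1` and order `(p+1) p d`, `d < p` -/
theorem structure_lemma [Fintype α] [Finite G] [FaithfulSMul G α] [IsPretransitive G α]
    {p d : ℕ} (hp : p.Prime) (hα : Fintype.card α = p + 1)
    (hG : Nat.card G = (p + 1) * p * d) (hd : d < p) {a b : α} (hab : a ≠ b) :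
    ∃ KG : Subgroup G, ZK G α a b KG ∧ (∀ x ∈ KG, ∀ y ∈ KG, x * y = y * x) ∧ Nat.card KG = p ∧
      Nat.card ↥(stabilizer G a ⊓ stabilizer G b : Subgroup G) = d ∧
      (∀ h k : G, h • a = a → h • b = b → k • a = a → k • b = b → h * k = k * h) := by
  classical
  haveI : Fact p.Prime := ⟨hp⟩
  have hd0 : 0 < d := by
    rcases Nat.eq_zero_or_pos d with h | h
    · rw [h, mul_zero] at hG
      exact absurd hG (Nat.card_pos).ne'
    · exact h
  -- the stabiliser has order p d
  have hN : Nat.card (stabilizer G a) = p * d := by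
    have h1 := Subgroup.index_mul_card (stabilizer G a)
    rw [index_stabilizer_of_transitive, Nat.card_eq_fintype_card (α := α), hα, hG, mul_assoc] at h1
    exact Nat.eq_of_mul_eq_mul_left (by omega) h1
  -- an element of order p
  obtain ⟨x, hx⟩ := exists_prime_orderOf_dvd_card' (G := stabilizer G a) p (by rw [hN]; exact dvd_mul_right p d)
  set x' : G := (x : G) with hx'
  have hx'o : orderOf x' = p := by rw [hx', Subgroup.orderOf_coe]; exact hx
  have hx'a : x' • a = a := mem_stabilizer_iff.mp x.2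
  set Q : Subgroup G := Subgroup.zpowers x' with hQ
  have hQcard : Nat.card Q = p := by rw [hQ, Nat.card_zpowers, hx'o]
  have hQfix : ∀ k ∈ Q, k • a = a := by
    intro k hk
    obtain ⟨n, rfl⟩ := Subgroup.mem_zpowers_iff.mp hk
    have : x' ^ n ∈ stabilizer G a := (stabilizer G a).zpow_mem x.2 n
    exact mem_stabilizer_iff.mp this
  have hQp : IsPGroup p Q := IsPGroup.of_card (n := 1) (by rw [hQcard, pow_one])
  -- fixed points of Q
  have hfixQ : ∀ y : α, (∀ k ∈ Q, k • y = y) → y = a := by
    intro y hy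
    by_contra hne
    have h1 := hQp.card_modEq_card_fixedPoints α
    rw [Nat.card_eq_fintype_card (α := α), hα] at h1
    have ha : a ∈ fixedPoints Q α := fun k => hQfix k k.2
    have hy' : y ∈ fixedPoints Q α := fun k => hy k k.2
    have h2 : 2 ≤ Nat.card (fixedPoints Q α) := by
      rw [Nat.card_coe_set_eq]
      have : ({a, y} : Set α) ⊆ fixedPoints Q α := by
        intro z hz
        rcases hz with rfl | rfl
        · exact ha
        · exact hy'
      calc 2 = ({a, y} : Set α).ncard := (Set.ncard_pair (Ne.symm hne)).symm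
        _ ≤ (fixedPoints Q α).ncard := Set.ncard_le_ncard this (Set.toFinite _)
    have h3 : Nat.card (fixedPoints Q α) ≤ p + 1 := by
      rw [← hα, ← Nat.card_eq_fintype_card (α := α)]
      exact Nat.card_le_card_of_injective _ Subtype.val_injective
    have h4 : Nat.card (fixedPoints Q α) = p + 1 := by
      have h5 : (p + 1) % p = 1 % p := Nat.add_mod_left p 1
      have h6 : Nat.card (fixedPoints Q α) % p = 1 % p := by
        have := h1.symm
        rw [Nat.ModEq, h5] at this
        exact this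
      have hp2 : 2 ≤ p := hp.two_le
      rw [Nat.mod_eq_of_lt (by omega : 1 < p)] at h6
      -- c ≡ 1 mod p, 2 ≤ c ≤ p + 1
      have h7 := Nat.div_add_mod (Nat.card (fixedPoints Q α)) p
      rw [h6] at h7
      generalize Nat.card (fixedPoints Q α) / p = q at h7
      have hq1 : 1 ≤ q := by
        rcases Nat.eq_zero_or_pos q with h | h
        · rw [h, mul_zero] at h7; omega
        · exact h
      have hq2 : q ≤ 1 := by
        by_contra hlt
        push Not at hlt
        have : p * 2 ≤ p * q := Nat.mul_le_mul_left p hlt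
        omega
      have hq : q = 1 := by omega
      rw [hq, mul_one] at h7
      omega
    -- all points fixed, so x' = 1
    have h5 : fixedPoints Q α = Set.univ := by
      apply Set.eq_of_subset_of_ncard_le (Set.subset_univ _) _ (Set.toFinite _)
      rw [Set.ncard_univ, ← Nat.card_coe_set_eq, h4, Nat.card_eq_fintype_card, hα]
    have h6 : x' = 1 := by
      apply FaithfulSMul.eq_of_smul_eq_smul (α := α)
      intro z
      rw [one_smul]
      have : z ∈ fixedPoints Q α := by rw [h5]; trivial
      exact this ⟨x', Subgroup.mem_zpowers x'⟩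
    rw [h6, orderOf_one] at hx'o
    exact hp.one_lt.ne hx'o
  have hQfpf : ∀ k ∈ Q, k ≠ 1 → ∀ y : α, y ≠ a → k • y ≠ y := by
    intro k hk hk1 y hy hky
    apply hy
    apply hfixQ
    intro k' hk'
    have hgen : Subgroup.zpowers (⟨k, hk⟩ : Q) = ⊤ :=
      zpowers_eq_top_of_prime_card hQcard (fun h => hk1 (congrArg Subtype.val h))
    have : (⟨k', hk'⟩ : Q) ∈ Subgroup.zpowers (⟨k, hk⟩ : Q) := by rw [hgen]; trivial
    obtain ⟨n, hn⟩ := Subgroup.mem_zpowers_iff.mp this
    have hn' : k ^ n = k' := by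
      have := congrArg Subtype.val hn
      simpa using this
    rw [← hn']
    have : k ^ n ∈ stabilizer G y := (stabilizer G y).zpow_mem (mem_stabilizer_iff.mpr hky) n
    exact mem_stabilizer_iff.mp this
  have hne_of : ∀ k ∈ Q, ∀ y : α, y ≠ a → k • y ≠ a := by
    intro k hk y hy h
    have := h.trans (hQfix k hk).symm
    exact hy (MulAction.injective k this)
  have hQtr : ∀ y z : α, y ≠ a → z ≠ a → ∃ k ∈ Q, k • y = z := by
    intro y z hy hz
    let f : Q → {w : α // w ≠ a} := fun k => ⟨(k : G) • y, hne_of k k.2 y hy⟩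
    have hf : Function.Injective f := by
      intro k k' hkk
      have h1 : (k : G) • y = (k' : G) • y := congrArg Subtype.val hkk
      have h2 : ((k' : G)⁻¹ * (k : G)) • y = y := by rw [mul_smul, h1, inv_smul_smul]
      by_contra hne
      have h3 : (k' : G)⁻¹ * (k : G) ≠ 1 := by
        intro h
        apply hne
        apply Subtype.ext
        have : (k : G) = (k' : G) * ((k' : G)⁻¹ * (k : G)) := by group
        rw [this, h, mul_one]
      exact hQfpf _ (Q.mul_mem (Q.inv_mem k'.2) k.2) h3 y hy h2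
    have hc : Nat.card {w : α // w ≠ a} ≤ Nat.card Q := by
      rw [hQcard, Nat.card_eq_fintype_card, Fintype.card_subtype_compl, Fintype.card_subtype_eq, hα]
      omega
    obtain ⟨k, hk⟩ := (hf.bijective_of_nat_card_le hc).2 ⟨z, hz⟩
    exact ⟨k, k.2, congrArg Subtype.val hk⟩
  -- 2-transitivity
  have two : ∀ {a' b' c' d' : α}, a' ≠ b' → c' ≠ d' → ∃ g : G, g • a' = c' ∧ g • b' = d' := by
    intro a' b' c' d' h1 h2
    obtain ⟨g₁, hg₁⟩ := exists_smul_eq G a' a
    obtain ⟨g₂, hg₂⟩ := exists_smul_eq G c' a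
    have h3 : g₁ • b' ≠ a := by
      intro h
      rw [← hg₁] at h
      exact h1 (MulAction.injective g₁ h).symm
    have h4 : g₂ • d' ≠ a := by
      intro h
      rw [← hg₂] at h
      exact h2 (MulAction.injective g₂ h).symm
    obtain ⟨k, hk, hk'⟩ := hQtr _ _ h3 h4
    refine ⟨g₂⁻¹ * k * g₁, ?_, ?_⟩
    · rw [mul_smul, mul_smul, hg₁, hQfix k hk, inv_smul_eq_iff, hg₂]
    · rw [mul_smul, mul_smul, hk', inv_smul_smul]
  have h2tr : IsMultiplyPretransitive G α 2 :=
    is_two_pretransitive_iff.mpr (fun h1 h2 => two h1 h2)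
  -- two-point stabiliser order
  have hE : Nat.card ↥(stabilizer G a ⊓ stabilizer G b : Subgroup G) = d := by
    have h1 := Cfsg.Agent.Lib.helper6.ZassClass.card_G h2tr hab
    rw [hG, hα, Nat.add_sub_cancel, mul_assoc] at h1
    have h2 : p * d = p * Nat.card ↥(stabilizer G a ⊓ stabilizer G b : Subgroup G) :=
      Nat.eq_of_mul_eq_mul_left (by omega) h1
    exact (Nat.eq_of_mul_eq_mul_left hp.pos h2).symm
  -- normality in the stabiliser
  have hQle : Q ≤ stabilizer G a := fun k hk => mem_stabilizer_iff.mpr (hQfix k hk)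
  have hnorm : ∀ g : G, g • a = a → ∀ k ∈ Q, g * k * g⁻¹ ∈ Q := by
    set Q' : Subgroup (stabilizer G a) := Q.subgroupOf (stabilizer G a) with hQ'
    have hQ'card : Nat.card Q' = p := by
      rw [hQ', Nat.card_congr (Subgroup.subgroupOfEquivOfLe hQle).toEquiv, hQcard]
    have hfac : (Nat.card (stabilizer G a)).factorization p = 1 := by
      rw [hN, Nat.factorization_mul hp.ne_zero hd0.ne', Finsupp.add_apply, hp.factorization_self,
        Nat.factorization_eq_zero_of_not_dvd (Nat.not_dvd_of_pos_of_lt hd0 hd)]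
    let S : Sylow p (stabilizer G a) := Sylow.ofCard Q' (by rw [hQ'card, hfac, pow_one])
    have hSidx : (S : Subgroup (stabilizer G a)).index = d := by
      have h1 := Subgroup.index_mul_card (S : Subgroup (stabilizer G a))
      have h2 : Nat.card (S : Subgroup (stabilizer G a)) = p := hQ'card
      rw [h2, hN, mul_comm p d] at h1
      exact Nat.eq_of_mul_eq_mul_right hp.pos h1
    have hdvd : Nat.card (Sylow p (stabilizer G a)) ∣ d := by
      rw [← hSidx]; exact Sylow.card_dvd_index S
    have hmod : Nat.card (Sylow p (stabilizer G a)) % p = 1 := by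
      have := card_sylow_modEq_one p (stabilizer G a)
      rw [Nat.ModEq, Nat.mod_eq_of_lt hp.one_lt] at this
      exact this
    have hone : Nat.card (Sylow p (stabilizer G a)) = 1 := by
      have hle : Nat.card (Sylow p (stabilizer G a)) ≤ d := Nat.le_of_dvd hd0 hdvd
      have hlt : Nat.card (Sylow p (stabilizer G a)) < p := lt_of_le_of_lt hle hd
      rw [Nat.mod_eq_of_lt hlt] at hmod
      exact hmod
    haveI : Subsingleton (Sylow p (stabilizer G a)) := (Nat.card_eq_one_iff_unique.mp hone).1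
    have hSn : (S : Subgroup (stabilizer G a)).Normal := Sylow.normal_of_subsingleton S
    intro g hg k hk
    have hkS : k ∈ stabilizer G a := hQle hk
    have h1 : (⟨k, hkS⟩ : stabilizer G a) ∈ (S : Subgroup (stabilizer G a)) :=
      Subgroup.mem_subgroupOf.mpr hk
    have h2 := hSn.conj_mem _ h1 ⟨g, mem_stabilizer_iff.mpr hg⟩
    have h3 : (⟨g, mem_stabilizer_iff.mpr hg⟩ * (⟨k, hkS⟩ : stabilizer G a) *
        (⟨g, mem_stabilizer_iff.mpr hg⟩ : stabilizer G a)⁻¹) ∈ Q' := h2
    rw [hQ', Subgroup.mem_subgroupOf] at h3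
    simpa using h3
  have hQcomm : ∀ u ∈ Q, ∀ v ∈ Q, u * v = v * u := by
    intro u hu v hv
    obtain ⟨m, rfl⟩ := Subgroup.mem_zpowers_iff.mp hu
    obtain ⟨n, rfl⟩ := Subgroup.mem_zpowers_iff.mp hv
    exact (Commute.zpow_zpow (Commute.refl x') m n).eq
  -- three
  have hreg : ∀ k ∈ Q, ∀ k' ∈ Q, ∀ y : α, y ≠ a → k • y = k' • y → k = k' := by
    intro k hk k' hk' y hy hkk
    have h1 : (k'⁻¹ * k) • y = y := by rw [mul_smul, hkk, inv_smul_smul]
    by_contra hne
    have h2 : k'⁻¹ * k ≠ 1 := by
      intro h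
      apply hne
      have : k = k' * (k'⁻¹ * k) := by group
      rw [this, h, mul_one]
    exact hQfpf _ (Q.mul_mem (Q.inv_mem hk') hk) h2 y hy h1
  have hcentral : ∀ g : G, g • a = a → g * x' = x' * g → ∀ y : α, y ≠ a → g • y = y → g = 1 := by
    intro g hga hgx y hy hgy
    apply FaithfulSMul.eq_of_smul_eq_smul (α := α)
    intro z
    rw [one_smul]
    by_cases hz : z = a
    · rw [hz, hga]
    · obtain ⟨k, hk, hkz⟩ := hQtr y z hy hz
      obtain ⟨n, rfl⟩ := Subgroup.mem_zpowers_iff.mp hk
      have hc : g * x' ^ n = x' ^ n * g := (Commute.zpow_right (show Commute g x' from hgx) n).eq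
      rw [← hkz, ← mul_smul, hc, mul_smul, hgy]
  have three : ∀ g : G, ∀ a' b' c' : α, a' ≠ b' → b' ≠ c' → a' ≠ c' → g • a' = a' → g • b' = b' →
      g • c' = c' → g = 1 := by
    -- first for a' = a
    have key : ∀ g : G, ∀ b' c' : α, a ≠ b' → b' ≠ c' → a ≠ c' → g • a = a → g • b' = b' →
        g • c' = c' → g = 1 := by
      intro g b' c' h1 h2 h3 hga hgb hgc
      obtain ⟨k, hk, hkc⟩ := hQtr b' c' (Ne.symm h1) (Ne.symm h3)
      have hk1 : k ≠ 1 := by
        intro h; rw [h, one_smul] at hkc; exact h2 hkc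
      have hconj : g * k * g⁻¹ = k := by
        apply hreg _ (hnorm g hga k hk) _ hk b' (Ne.symm h1)
        have : g⁻¹ • b' = b' := by rw [inv_smul_eq_iff, hgb]
        rw [mul_smul, mul_smul, this, hkc, hgc]
      -- g commutes with k, a generator of Q
      have hgen : Subgroup.zpowers (⟨k, hk⟩ : Q) = ⊤ :=
        zpowers_eq_top_of_prime_card hQcard (fun h => hk1 (congrArg Subtype.val h))
      have hx'mem : (⟨x', Subgroup.mem_zpowers x'⟩ : Q) ∈ Subgroup.zpowers (⟨k, hk⟩ : Q) := by
        rw [hgen]; trivial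
      obtain ⟨n, hn⟩ := Subgroup.mem_zpowers_iff.mp hx'mem
      have hn' : k ^ n = x' := by
        have := congrArg Subtype.val hn
        simpa using this
      have hgk : g * k = k * g := by
        calc g * k = (g * k * g⁻¹) * g := by group
          _ = k * g := by rw [hconj]
      have hgx : g * x' = x' * g := by
        rw [← hn']
        exact (Commute.zpow_right (show Commute g k from hgk) n).eq
      exact hcentral g hga hgx b' (Ne.symm h1) hgb
    intro g a' b' c' h1 h2 h3 hga hgb hgc
    obtain ⟨u, hu⟩ := exists_smul_eq G a' a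
    have h4 : u * g * u⁻¹ = 1 := by
      apply key (u * g * u⁻¹) (u • b') (u • c')
      · rw [← hu]; exact fun h => h1 (MulAction.injective u h)
      · exact fun h => h2 (MulAction.injective u h)
      · rw [← hu]; exact fun h => h3 (MulAction.injective u h)
      · rw [mul_smul, mul_smul, ← hu, inv_smul_smul, hga]
      · rw [mul_smul, mul_smul, inv_smul_smul, hgb]
      · rw [mul_smul, mul_smul, inv_smul_smul, hgc]
    have : g = u⁻¹ * (u * g * u⁻¹) * u := by group
    rw [this, h4]; group
  have Z : ZK G α a b Q :=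
    { two := fun h1 h2 => two h1 h2
      three := three
      hi0 := hab
      kfix := hQfix
      kfpf := hQfpf
      ktr := hQtr
      knorm := hnorm }
  refine ⟨Q, Z, hQcomm, hQcard, hE, ?_⟩
  -- commutativity of the two-point stabiliser
  intro h k hha hhb hka hkb
  have hx'Q : x' ∈ Q := Subgroup.mem_zpowers x'
  have hx'1 : x' ≠ 1 := by
    intro h1
    rw [h1, orderOf_one] at hx'o
    exact hp.one_lt.ne hx'o
  -- conjugation by h, k are power maps
  obtain ⟨m, hm⟩ := Subgroup.mem_zpowers_iff.mp (hnorm h hha x' hx'Q)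
  obtain ⟨n, hn⟩ := Subgroup.mem_zpowers_iff.mp (hnorm k hka x' hx'Q)
  have hpow : ∀ (g : G) (j i : ℤ), x' ^ j = g * x' * g⁻¹ → g * x' ^ i * g⁻¹ = x' ^ (j * i) := by
    intro g j i hj
    rw [zpow_mul, hj]
    have := map_zpow (MulAut.conj g) x' i
    simp only [MulAut.conj_apply] at this
    exact this
  have e1 : (h * k) * x' * (h * k)⁻¹ = x' ^ (m * n) := by
    calc (h * k) * x' * (h * k)⁻¹ = h * (k * x' * k⁻¹) * h⁻¹ := by group
      _ = h * x' ^ n * h⁻¹ := by rw [hn]
      _ = x' ^ (m * n) := hpow h m n hm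
  have e2 : (k * h) * x' * (k * h)⁻¹ = x' ^ (n * m) := by
    calc (k * h) * x' * (k * h)⁻¹ = k * (h * x' * h⁻¹) * k⁻¹ := by group
      _ = k * x' ^ m * k⁻¹ := by rw [hm]
      _ = x' ^ (n * m) := hpow k n m hn
  have e3 : ((k * h)⁻¹ * (h * k)) * x' * ((k * h)⁻¹ * (h * k))⁻¹ = x' := by
    calc ((k * h)⁻¹ * (h * k)) * x' * ((k * h)⁻¹ * (h * k))⁻¹
        = (k * h)⁻¹ * ((h * k) * x' * (h * k)⁻¹) * (k * h) := by group
      _ = (k * h)⁻¹ * ((k * h) * x' * (k * h)⁻¹) * (k * h) := by rw [e1, e2, mul_comm m n]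
      _ = x' := by group
  have hgi : ((k * h)⁻¹ * (h * k)) • a = a := by
    rw [mul_smul, mul_smul, hka, hha, inv_smul_eq_iff, mul_smul, hha, hka]
  have hg0 : ((k * h)⁻¹ * (h * k)) • b = b := by
    rw [mul_smul, mul_smul, hkb, hhb, inv_smul_eq_iff, mul_smul, hhb, hkb]
  have h1 := Z.H_semireg hgi hg0 hx'Q hx'1 e3
  have : h * k = (k * h) * ((k * h)⁻¹ * (h * k)) := by group
  rw [this, h1, mul_one]

end Cfsg.Agent.Lib.helper6.DegP1
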