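import Mathlib
import Cfsg.Agent.Lib.helper6.ZassPSL3
import Cfsg.Agent.Lib.Helper9.FieldOfAffine

set_option autoImplicit false

namespace Cfsg.Agent.Lib.helper6.DegP1

open MulAction Cfsg.Agent.Lib.helper6.ZassPSL3

variable {G α : Type*} [Group G] [MulAction G α]

open Cfsg.Agent.Lib.Helper9 in
/-- A group with a regular normal abelian subgroup `R` whose point stabiliser has an abelian
normal subgroup `P` regular on the remaining points acts as a group of semi-affine maps of a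
field. -/
theorem affine_recog [Finite G] [FaithfulSMul G α]
    (R : Subgroup G) [hRn : R.Normal] (hRtr : ∀ x y : α, ∃ r ∈ R, r • x = y)
    (hRsr : ∀ r ∈ R, ∀ x : α, r • x = x → r = 1)
    (hRcomm : ∀ x ∈ R, ∀ y ∈ R, x * y = y * x)
    {a b : α} {P : Subgroup G} (Z : ZK G α a b P) (hPcomm : ∀ x ∈ P, ∀ y ∈ P, x * y = y * x) :
    ∃ (F : Type) (_ : Field F) (_ : Fintype F) (φ : F → α), Function.Bijective φ ∧ φ 0 = a ∧
      φ 1 = b ∧ ∀ g : G, ∃ (c t : F) (ψ : F ≃+* F), c ≠ 0 ∧ ∀ x, g • φ x = φ (c * ψ x + t) := by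
  classical
  have hab := Z.hi0
  have hReq : ∀ n ∈ R, ∀ n' ∈ R, ∀ x : α, n • x = n' • x → n = n' := by
    intro n hn n' hn' x hx
    have h1 : (n'⁻¹ * n) • x = x := by rw [mul_smul, hx, inv_smul_smul]
    have h2' := hRsr _ (R.mul_mem (R.inv_mem hn') hn) x h1
    have : n = n' * (n'⁻¹ * n) := by group
    rw [this, h2', mul_one]
  obtain ⟨e, heR, hea⟩ := hRtr a b
  have he1 : e ≠ 1 := by
    intro h; rw [h, one_smul] at hea; exact hab hea
  have hnorm : ∀ d ∈ P, ∀ x ∈ R, d * x * d⁻¹ ∈ R := fun d _ x hx => hRn.conj_mem x hx d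
  have hreg : ∀ x ∈ R, x ≠ 1 → ∃ d ∈ P, d * e * d⁻¹ = x := by
    intro x hx hx1
    have hxa : x • a ≠ a := fun h' => hx1 (hRsr x hx a h')
    obtain ⟨k, hk, hkb⟩ := Z.ktr b (x • a) (Ne.symm hab) hxa
    refine ⟨k, hk, ?_⟩
    apply hReq _ (hRn.conj_mem e heR k) _ hx a
    have : k⁻¹ • a = a := by rw [inv_smul_eq_iff, Z.kfix k hk]
    rw [mul_smul, mul_smul, this, hea, hkb]
  haveI : Finite ↥R := inferInstance
  obtain ⟨F, instF, instFin, ι, δ, hιinj, hιsurj, hιR, hιadd, hι1, hδ⟩ :=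
    exists_field_of_regular R P hRcomm hPcomm hnorm e heR he1 hreg
  have hι0 : ι 0 = 1 := by
    have := hιadd 0 0
    rw [add_zero] at this
    exact mul_left_cancel (a := ι 0) (by rw [mul_one]; exact this.symm)
  obtain ⟨φ, hφd⟩ : ∃ φ : F → α, ∀ x, φ x = ι x • a := ⟨fun x => ι x • a, fun _ => rfl⟩
  have hφbij : Function.Bijective φ := by
    constructor
    · intro x y hxy
      rw [hφd, hφd] at hxy
      exact hιinj (hReq _ (hιR x) _ (hιR y) a hxy)
    · intro z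
      obtain ⟨n, hn, hnz⟩ := hRtr a z
      obtain ⟨x, hx⟩ := hιsurj n hn
      exact ⟨x, by rw [hφd, hx, hnz]⟩
  have hφ0 : φ 0 = a := by rw [hφd, hι0, one_smul]
  have hφ1 : φ 1 = b := by rw [hφd, hι1, hea]
  -- elements of the stabiliser
  have hstab : ∀ g : G, g • a = a → ∃ (c : F) (ψ : F ≃+* F), c ≠ 0 ∧ ∀ x, g • φ x = φ (c * ψ x) := by
    intro g hga
    have hθex : ∀ x : F, ∃ y : F, ι y = g * ι x * g⁻¹ :=
      fun x => hιsurj _ (hRn.conj_mem _ (hιR x) g)
    choose θ hθ using hθex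
    have hgφ : ∀ x, g • φ x = φ (θ x) := by
      intro x
      rw [hφd, hφd, hθ, mul_smul, mul_smul, inv_smul_eq_iff.mpr hga.symm]
    have hθ0 : θ 0 = 0 := by
      apply hιinj
      rw [hθ, hι0]; group
    have hθadd : ∀ x y, θ (x + y) = θ x + θ y := by
      intro x y
      apply hιinj
      rw [hθ, hιadd, hιadd, hθ, hθ]; group
    have hθinj : Function.Injective θ := by
      intro x y hxy
      apply hιinj
      have h1 := hθ x
      rw [hxy, hθ y] at h1
      have : ι x = g⁻¹ * (g * ι x * g⁻¹) * g := by group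
      rw [this, ← h1]; group
    have hθne : ∀ m : F, m ≠ 0 → θ m ≠ 0 := by
      intro m hm h'
      apply hm
      apply hθinj
      rw [h', hθ0]
    set c := θ 1 with hc
    have hc0 : c ≠ 0 := hθne 1 one_ne_zero
    -- the conjugate of δ m
    have hconjδ : ∀ m : F, m ≠ 0 → g * δ m * g⁻¹ = δ (c⁻¹ * θ m) := by
      intro m hm
      have hm' : c⁻¹ * θ m ≠ 0 := mul_ne_zero (inv_ne_zero hc0) (hθne m hm)
      obtain ⟨hd1, hd2⟩ := hδ m hm
      obtain ⟨hd3, hd4⟩ := hδ _ hm'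
      have hgP : g * δ m * g⁻¹ ∈ P := Z.knorm g hga _ hd1
      -- both map ι c to ι (θ m)
      have h5 : (g * δ m * g⁻¹) * ι c * (g * δ m * g⁻¹)⁻¹ = δ (c⁻¹ * θ m) * ι c * (δ (c⁻¹ * θ m))⁻¹ := by
        have h6 := hd2 1
        rw [mul_one] at h6
        have h7 := hd4 c
        rw [mul_assoc, mul_comm (θ m) c, ← mul_assoc, inv_mul_cancel₀ hc0, one_mul] at h7
        have h8 : g⁻¹ * ι c * g = ι 1 := by
          rw [hc, hθ]; group
        calc (g * δ m * g⁻¹) * ι c * (g * δ m * g⁻¹)⁻¹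
            = g * (δ m * (g⁻¹ * ι c * g) * (δ m)⁻¹) * g⁻¹ := by group
          _ = g * (δ m * ι 1 * (δ m)⁻¹) * g⁻¹ := by rw [h8]
          _ = g * ι m * g⁻¹ := by rw [h6]
          _ = ι (θ m) := (hθ m).symm
          _ = δ (c⁻¹ * θ m) * ι c * (δ (c⁻¹ * θ m))⁻¹ := h7
      set u := (δ (c⁻¹ * θ m))⁻¹ * (g * δ m * g⁻¹) with hu
      have huP : u ∈ P := P.mul_mem (P.inv_mem hd3) hgP
      have huc : u * ι c = ι c * u := by
        have : u * ι c * u⁻¹ = ι c := by
          rw [hu]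
          calc (δ (c⁻¹ * θ m))⁻¹ * (g * δ m * g⁻¹) * ι c * ((δ (c⁻¹ * θ m))⁻¹ * (g * δ m * g⁻¹))⁻¹
              = (δ (c⁻¹ * θ m))⁻¹ * ((g * δ m * g⁻¹) * ι c * (g * δ m * g⁻¹)⁻¹) * δ (c⁻¹ * θ m) := by
                group
            _ = ι c := by rw [h5]; group
        calc u * ι c = (u * ι c * u⁻¹) * u := by group
          _ = ι c * u := by rw [this]
      have hcne : ι c • a ≠ a := by
        intro h
        have := hRsr _ (hιR c) a h
        rw [← hι0] at this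
        exact hc0 (hιinj this)
      have hufix : u • (ι c • a) = ι c • a := by
        rw [← mul_smul, huc, mul_smul, Z.kfix u huP]
      have hu1 : u = 1 := by
        by_contra hne
        exact Z.kfpf u huP hne _ hcne hufix
      have : g * δ m * g⁻¹ = δ (c⁻¹ * θ m) * u := by rw [hu]; group
      rw [this, hu1, mul_one]
    have hθmul : ∀ m x : F, m ≠ 0 → θ (m * x) = c⁻¹ * θ m * θ x := by
      intro m x hm
      have hm' : c⁻¹ * θ m ≠ 0 := mul_ne_zero (inv_ne_zero hc0) (hθne m hm)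
      apply hιinj
      rw [hθ, (hδ m hm).2 x, (hδ _ hm').2 (θ x), hθ x, ← hconjδ m hm]; group
    -- the ring automorphism
    let ψf : F → F := fun x => c⁻¹ * θ x
    have hψ1 : ψf 1 = 1 := by show c⁻¹ * θ 1 = 1; rw [← hc, inv_mul_cancel₀ hc0]
    have hψ0 : ψf 0 = 0 := by show c⁻¹ * θ 0 = 0; rw [hθ0, mul_zero]
    have hψadd : ∀ x y, ψf (x + y) = ψf x + ψf y := by
      intro x y; show c⁻¹ * θ (x + y) = c⁻¹ * θ x + c⁻¹ * θ y; rw [hθadd, mul_add]
    have hψmul : ∀ x y, ψf (x * y) = ψf x * ψf y := by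
      intro m x
      show c⁻¹ * θ (m * x) = (c⁻¹ * θ m) * (c⁻¹ * θ x)
      by_cases hm : m = 0
      · rw [hm, zero_mul, hθ0, mul_zero, zero_mul]
      · rw [hθmul m x hm]; ring
    let ψR : F →+* F :=
      { toFun := ψf, map_one' := hψ1, map_mul' := hψmul, map_zero' := hψ0, map_add' := hψadd }
    have hψbij : Function.Bijective ψR :=
      ⟨ψR.injective, Finite.surjective_of_injective ψR.injective⟩
    refine ⟨c, RingEquiv.ofBijective ψR hψbij, hc0, ?_⟩
    intro x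
    rw [hgφ]
    congr 1
    show θ x = c * (c⁻¹ * θ x)
    rw [← mul_assoc, mul_inv_cancel₀ hc0, one_mul]
  refine ⟨F, instF, instFin, φ, hφbij, hφ0, hφ1, ?_⟩
  intro g
  obtain ⟨t, ht⟩ := hφbij.2 (g • a)
  rw [hφd] at ht
  have hg0 : ((ι t)⁻¹ * g) • a = a := by
    rw [mul_smul, inv_smul_eq_iff]
    exact ht.symm
  obtain ⟨c, ψ, hc0, hψ⟩ := hstab _ hg0
  refine ⟨c, t, ψ, hc0, ?_⟩
  intro x
  have h1 : g • φ x = ι t • (((ι t)⁻¹ * g) • φ x) := by
    rw [← mul_smul, mul_inv_cancel_left]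
  rw [h1, hψ, hφd, hφd, ← mul_smul, ← hιadd, add_comm]

end Cfsg.Agent.Lib.helper6.DegP1
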