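import Mathlib
import Cfsg.Agent.Lib.helper6.AffRecog
import Cfsg.Agent.Lib.helper6.ZassReg

set_option autoImplicit false

namespace Cfsg.Agent.Lib.helper6.DegP1

open MulAction Cfsg.Agent.Lib.helper6.ZassPSL3

variable {G α : Type*} [Group G] [MulAction G α]

theorem affine_branch [Fintype α] [Finite G] [FaithfulSMul G α] {p d : ℕ} (hp : p.Prime)
    (hp2 : p ≠ 2) (hα : Fintype.card α = p + 1) {a b : α} {P : Subgroup G} (Z : ZK G α a b P)
    (hPcomm : ∀ x ∈ P, ∀ y ∈ P, x * y = y * x)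
    (hE : Nat.card ↥(stabilizer G a ⊓ stabilizer G b : Subgroup G) = d)
    (R : Subgroup G) [hRn : R.Normal] (hRtr : ∀ x y : α, ∃ r ∈ R, r • x = y)
    (hRsr : ∀ r ∈ R, ∀ x : α, r • x = x → r = 1) :
    ∃ q : ℕ, q.Prime ∧ p + 1 = 2 ^ q ∧ (d = 1 ∨ d = q) ∧ ∃ e : α ≃ GaloisField 2 q,
      ∀ g : G, ∃ (a' : (GaloisField 2 q)ˣ) (b' : GaloisField 2 q)
        (φ' : GaloisField 2 q ≃+* GaloisField 2 q),
        ∀ x, e (g • e.symm x) = (a' : GaloisField 2 q) * φ' x + b' := by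
  classical
  have hRcomm := Cfsg.Agent.Lib.helper6.ZassReg.reg_normal_comm (fun h1 h2 => Z.two h1 h2) R hRsr a
  obtain ⟨F, instF, instFin, φ, hφbij, hφ0, hφ1, hsemi⟩ := affine_recog R hRtr hRsr hRcomm Z hPcomm
  have hcardF : Fintype.card F = p + 1 := by
    rw [← hα]
    exact Fintype.card_of_bijective hφbij
  -- characteristic two
  obtain ⟨n, hr, hcn⟩ := FiniteField.card F (ringChar F)
  have hpodd : Odd p := hp.odd_of_ne_two hp2
  have hr2 : ringChar F = 2 := by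
    have h1 : 2 ∣ ringChar F ^ (n : ℕ) := by
      rw [← hcn, hcardF]
      obtain ⟨k, hk⟩ := hpodd
      exact ⟨k + 1, by omega⟩
    have h2 := Nat.Prime.dvd_of_dvd_pow Nat.prime_two h1
    exact ((Nat.prime_dvd_prime_iff_eq Nat.prime_two hr).mp h2).symm
  rw [hr2] at hcn
  set q : ℕ := (n : ℕ) with hq
  have hpq : p + 1 = 2 ^ q := by rw [← hcardF, hcn]
  have hq1 : q ≠ 1 := by
    intro h
    rw [h, pow_one] at hpq
    have : p = 1 := by omega
    exact hp.one_lt.ne' this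
  have hqprime : q.Prime := by
    have : (2 ^ q - 1).Prime := by
      have : 2 ^ q - 1 = p := by omega
      rw [this]; exact hp
    exact (Nat.prime_of_pow_sub_one_prime hq1 this).2
  have hq0 : q ≠ 0 := hqprime.ne_zero
  -- the group of automorphisms induced by the two-point stabiliser
  have hDψ : ∀ g : G, g • a = a → g • b = b → ∃ ψ : F ≃+* F, ∀ x, g • φ x = φ (ψ x) := by
    intro g hga hgb
    obtain ⟨c, t, ψ, hc0, hψ⟩ := hsemi g
    have h0 := hψ 0
    rw [map_zero, mul_zero, zero_add, hφ0, hga, ← hφ0] at h0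
    have ht : t = 0 := (hφbij.1 h0).symm
    have h1 := hψ 1
    rw [map_one, mul_one, ht, add_zero, hφ1, hgb, ← hφ1] at h1
    have hc : c = 1 := (hφbij.1 h1).symm
    refine ⟨ψ, fun x => ?_⟩
    rw [hψ x, hc, ht, one_mul, add_zero]
  let Γ : Subgroup (RingAut F) :=
    { carrier := {ψ | ∃ g : G, g • a = a ∧ g • b = b ∧ ∀ x, g • φ x = φ (ψ x)}
      one_mem' := ⟨1, one_smul _ _, one_smul _ _, fun x => by rw [one_smul]; rfl⟩
      mul_mem' := by
        rintro ψ₁ ψ₂ ⟨g₁, h1a, h1b, h1⟩ ⟨g₂, h2a, h2b, h2⟩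
        refine ⟨g₁ * g₂, ?_, ?_, fun x => ?_⟩
        · rw [mul_smul, h2a, h1a]
        · rw [mul_smul, h2b, h1b]
        · rw [mul_smul, h2, h1]; rfl
      inv_mem' := by
        rintro ψ ⟨g, ha, hb, h⟩
        refine ⟨g⁻¹, ?_, ?_, fun x => ?_⟩
        · rw [inv_smul_eq_iff, ha]
        · rw [inv_smul_eq_iff, hb]
        · rw [inv_smul_eq_iff, h]
          congr 1
          exact (RingEquiv.apply_symm_apply ψ x).symm }
  have hΓmem : ∀ ψ : RingAut F, ψ ∈ Γ ↔ ∃ g : G, g • a = a ∧ g • b = b ∧ ∀ x, g • φ x = φ (ψ x) :=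
    fun ψ => Iff.rfl
  have hΓcard : Nat.card Γ = d := by
    rw [← hE]
    have hex : ∀ g : ↥(stabilizer G a ⊓ stabilizer G b : Subgroup G),
        ∃ ψ : F ≃+* F, ∀ x, (g : G) • φ x = φ (ψ x) := by
      intro g
      obtain ⟨h1, h2⟩ := Subgroup.mem_inf.mp g.2
      exact hDψ g (mem_stabilizer_iff.mp h1) (mem_stabilizer_iff.mp h2)
    choose Ψ hΨ using hex
    symm
    refine Nat.card_eq_of_bijective (fun g => (⟨Ψ g, ⟨(g : G), ?_, ?_, hΨ g⟩⟩ : Γ)) ⟨?_, ?_⟩
    · exact mem_stabilizer_iff.mp (Subgroup.mem_inf.mp g.2).1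
    · exact mem_stabilizer_iff.mp (Subgroup.mem_inf.mp g.2).2
    · intro g h hgh
      have h1 : Ψ g = Ψ h := congrArg Subtype.val hgh
      apply Subtype.ext
      apply FaithfulSMul.eq_of_smul_eq_smul (α := α)
      intro z
      obtain ⟨x, rfl⟩ := hφbij.2 z
      rw [hΨ g, hΨ h, h1]
    · rintro ⟨ψ, g, ha, hb, h⟩
      refine ⟨⟨g, Subgroup.mem_inf.mpr ⟨mem_stabilizer_iff.mpr ha, mem_stabilizer_iff.mpr hb⟩⟩, ?_⟩
      apply Subtype.ext
      apply RingEquiv.ext
      intro x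
      apply hφbij.1
      show φ (Ψ _ x) = φ (ψ x)
      rw [← hΨ, ← h]
  haveI : Finite (RingAut F) := Finite.of_injective (fun τ : RingAut F => (τ : F → F))
    DFunLike.coe_injective
  haveI : Fintype Γ := Fintype.ofFinite _
  have hrank : Module.finrank (FixedPoints.subfield Γ F) F = d := by
    rw [FixedPoints.finrank_eq_card, ← Nat.card_eq_fintype_card, hΓcard]
  have hcardpow : Fintype.card F = Fintype.card (FixedPoints.subfield Γ F) ^ d := by
    rw [Module.card_eq_pow_finrank (K := FixedPoints.subfield Γ F) (V := F), hrank]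
  have hd0 : 0 < d := by rw [← hE]; exact Nat.card_pos
  have hdq : d = 1 ∨ d = q := by
    rw [hcn] at hcardpow
    have h1 : Fintype.card (FixedPoints.subfield Γ F) ∣ 2 ^ q := by
      rw [hcardpow]
      exact dvd_pow_self _ hd0.ne'
    obtain ⟨k, _, hk⟩ := (Nat.dvd_prime_pow Nat.prime_two).mp h1
    rw [hk, ← pow_mul] at hcardpow
    have h2 : q = k * d := Nat.pow_right_injective (le_refl 2) hcardpow
    have h3 : d ∣ q := ⟨k, by rw [h2, mul_comm]⟩
    exact (Nat.dvd_prime hqprime).mp h3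
  -- the equivalence
  haveI : Fintype (GaloisField 2 q) := Fintype.ofFinite _
  haveI : Fact (Nat.Prime 2) := ⟨Nat.prime_two⟩
  have hcardGF : Fintype.card F = Fintype.card (GaloisField 2 q) := by
    rw [hcn, ← Nat.card_eq_fintype_card, GaloisField.card 2 q hq0]
  let ρ : F ≃+* GaloisField 2 q := FiniteField.ringEquivOfCardEq hcardGF
  let e : α ≃ GaloisField 2 q := (Equiv.ofBijective φ hφbij).symm.trans ρ.toEquiv
  have hesymm : ∀ x' : GaloisField 2 q, e.symm x' = φ (ρ.symm x') := fun x' => rfl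
  have he : ∀ x : F, e (φ x) = ρ x := by
    intro x
    show ρ ((Equiv.ofBijective φ hφbij).symm (φ x)) = ρ x
    congr 1
    exact (Equiv.ofBijective φ hφbij).symm_apply_apply x
  refine ⟨q, hqprime, hpq, hdq, e, ?_⟩
  intro g
  obtain ⟨c, t, ψ, hc0, hψ⟩ := hsemi g
  have hρc : ρ c ≠ 0 := by
    intro h
    apply hc0
    have := congrArg ρ.symm h
    simpa using this
  refine ⟨Units.mk0 (ρ c) hρc, ρ t, (ρ.symm.trans ψ).trans ρ, ?_⟩
  intro x'
  rw [hesymm, hψ, he, map_add, map_mul]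
  rfl

end Cfsg.Agent.Lib.helper6.DegP1
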