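import Mathlib

set_option autoImplicit false

open OnePoint Matrix MatrixGroups

namespace Cfsg.Agent.Lib.helper6.MoebiusRecog

/-- Data identifying a faithful permutation group with the Möbius group of a field. -/
structure MoebiusData (G α F : Type*) [Group G] [MulAction G α] [Field F] where
  φ : OnePoint F → α
  φ_bij : Function.Bijective φ
  ι : F → G
  δ : F → G
  s : G
  ι_smul : ∀ b x : F, ι b • φ (x : OnePoint F) = φ ((x + b : F) : OnePoint F)
  ι_infty : ∀ b : F, ι b • φ ∞ = φ ∞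
  δ_smul : ∀ m : F, m ≠ 0 → ∀ x : F, δ m • φ (x : OnePoint F) = φ ((m * x : F) : OnePoint F)
  δ_infty : ∀ m : F, m ≠ 0 → δ m • φ ∞ = φ ∞
  s_infty : s • φ ∞ = φ ((0 : F) : OnePoint F)
  s_zero : s • φ ((0 : F) : OnePoint F) = φ ∞
  s_smul : ∀ x : F, x ≠ 0 → s • φ (x : OnePoint F) = φ ((x⁻¹ : F) : OnePoint F)
  stab : ∀ g : G, g • φ ∞ = φ ∞ → ∃ b m : F, m ≠ 0 ∧ g = ι b * δ m

variable {G α F : Type*} [Group G] [MulAction G α] [Field F] [DecidableEq F]

namespace MoebiusData

variable (D : MoebiusData G α F)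

/-- `g` acts as the Möbius transformation `A`. -/
def IsMoebius (g : G) (A : GL (Fin 2) F) : Prop :=
  ∀ p : OnePoint F, g • D.φ p = D.φ (A • p)

theorem isMoebius_mul {g g' : G} {A A' : GL (Fin 2) F} (h : D.IsMoebius g A)
    (h' : D.IsMoebius g' A') : D.IsMoebius (g * g') (A * A') := by
  intro p
  rw [mul_smul, h' p, h (A' • p), mul_smul]

theorem isMoebius_one : D.IsMoebius 1 1 := by
  intro p
  rw [one_smul, one_smul]

theorem isMoebius_inv {g : G} {A : GL (Fin 2) F} (h : D.IsMoebius g A) :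
    D.IsMoebius g⁻¹ A⁻¹ := by
  intro p
  rw [inv_smul_eq_iff, h (A⁻¹ • p), smul_inv_smul]

theorem isMoebius_unique [FaithfulSMul G α] {g g' : G} {A : GL (Fin 2) F} (h : D.IsMoebius g A)
    (h' : D.IsMoebius g' A) : g = g' := by
  apply FaithfulSMul.eq_of_smul_eq_smul (α := α)
  intro x
  obtain ⟨p, rfl⟩ := D.φ_bij.2 x
  rw [h p, h' p]

/-- upper unitriangular -/
noncomputable def matU (b : F) : GL (Fin 2) F :=
  Matrix.GeneralLinearGroup.mkOfDetNeZero !![1, b; 0, 1] (by simp [Matrix.det_fin_two])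

/-- diagonal -/
noncomputable def matD (m : F) (hm : m ≠ 0) : GL (Fin 2) F :=
  Matrix.GeneralLinearGroup.mkOfDetNeZero !![m, 0; 0, 1] (by simp [Matrix.det_fin_two, hm])

/-- swap -/
noncomputable def matW : GL (Fin 2) F :=
  Matrix.GeneralLinearGroup.mkOfDetNeZero !![0, 1; 1, 0] (by simp [Matrix.det_fin_two])

theorem isMoebius_ι (b : F) : D.IsMoebius (D.ι b) (matU b) := by
  intro p
  cases p with
  | infty =>
    rw [D.ι_infty, OnePoint.smul_infty_eq_ite]
    simp [matU, Matrix.GeneralLinearGroup.mkOfDetNeZero]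
  | coe x =>
    rw [D.ι_smul, OnePoint.smul_some_eq_ite]
    simp [matU, Matrix.GeneralLinearGroup.mkOfDetNeZero]

theorem isMoebius_δ (m : F) (hm : m ≠ 0) : D.IsMoebius (D.δ m) (matD m hm) := by
  intro p
  cases p with
  | infty =>
    rw [D.δ_infty m hm, OnePoint.smul_infty_eq_ite]
    simp [matD, Matrix.GeneralLinearGroup.mkOfDetNeZero]
  | coe x =>
    rw [D.δ_smul m hm, OnePoint.smul_some_eq_ite]
    simp [matD, Matrix.GeneralLinearGroup.mkOfDetNeZero]

theorem isMoebius_s : D.IsMoebius D.s matW := by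
  intro p
  cases p with
  | infty =>
    rw [D.s_infty, OnePoint.smul_infty_eq_ite]
    simp [matW, Matrix.GeneralLinearGroup.mkOfDetNeZero]
  | coe x =>
    rw [OnePoint.smul_some_eq_ite]
    by_cases hx : x = 0
    · subst hx
      rw [D.s_zero]
      simp [matW, Matrix.GeneralLinearGroup.mkOfDetNeZero]
    · rw [D.s_smul x hx]
      simp [matW, Matrix.GeneralLinearGroup.mkOfDetNeZero, hx]


theorem exists_of_group (g : G) : ∃ A : GL (Fin 2) F, D.IsMoebius g A := by
  by_cases hg : g • D.φ ∞ = D.φ ∞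
  · obtain ⟨b, m, hm, rfl⟩ := D.stab g hg
    exact ⟨matU b * matD m hm, D.isMoebius_mul (D.isMoebius_ι b) (D.isMoebius_δ m hm)⟩
  · obtain ⟨p, hp⟩ := D.φ_bij.2 (g • D.φ ∞)
    cases p with
    | infty => exact absurd hp.symm hg
    | coe u =>
      have hfix : (D.s * D.ι (-u) * g) • D.φ ∞ = D.φ ∞ := by
        rw [mul_smul, mul_smul, ← hp, D.ι_smul, add_neg_cancel, D.s_zero]
      obtain ⟨b, m, hm, hbm⟩ := D.stab _ hfix
      have hg' : g = (D.ι (-u))⁻¹ * (D.s⁻¹ * (D.ι b * D.δ m)) := by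
        rw [← hbm]; group
      rw [hg']
      exact ⟨_, D.isMoebius_mul (D.isMoebius_inv (D.isMoebius_ι (-u)))
        (D.isMoebius_mul (D.isMoebius_inv D.isMoebius_s)
          (D.isMoebius_mul (D.isMoebius_ι b) (D.isMoebius_δ m hm)))⟩

theorem exists_of_GL (A : GL (Fin 2) F) : ∃ g : G, D.IsMoebius g A := by
  have hdet : (A : Matrix (Fin 2) (Fin 2) F).det ≠ 0 := by
    have := A.det_ne_zero
    simpa using this
  rw [Matrix.det_fin_two] at hdet
  by_cases hc : (A : Matrix (Fin 2) (Fin 2) F) 1 0 = 0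
  · rw [hc, mul_zero, sub_zero] at hdet
    have ha : (A : Matrix (Fin 2) (Fin 2) F) 0 0 ≠ 0 := left_ne_zero_of_mul hdet
    have hd : (A : Matrix (Fin 2) (Fin 2) F) 1 1 ≠ 0 := right_ne_zero_of_mul hdet
    have hm : (A : Matrix (Fin 2) (Fin 2) F) 0 0 / (A : Matrix (Fin 2) (Fin 2) F) 1 1 ≠ 0 :=
      div_ne_zero ha hd
    refine ⟨D.ι ((A : Matrix (Fin 2) (Fin 2) F) 0 1 / (A : Matrix (Fin 2) (Fin 2) F) 1 1) *
      D.δ ((A : Matrix (Fin 2) (Fin 2) F) 0 0 / (A : Matrix (Fin 2) (Fin 2) F) 1 1), ?_⟩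
    intro p
    cases p with
    | infty =>
      rw [mul_smul, D.δ_infty _ hm, D.ι_infty, OnePoint.smul_infty_eq_ite, if_pos hc]
    | coe x =>
      rw [mul_smul, D.δ_smul _ hm, D.ι_smul, OnePoint.smul_some_eq_ite, hc, zero_mul, zero_add,
        if_neg hd]
      congr 2
      field_simp
  · set a := (A : Matrix (Fin 2) (Fin 2) F) 0 0 with ha
    set b := (A : Matrix (Fin 2) (Fin 2) F) 0 1 with hb
    set c := (A : Matrix (Fin 2) (Fin 2) F) 1 0 with hc'
    set d := (A : Matrix (Fin 2) (Fin 2) F) 1 1 with hd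
    have hm : (b * c - a * d) / c ^ 2 ≠ 0 := by
      apply div_ne_zero
      · intro h
        apply hdet
        linear_combination -h
      · exact pow_ne_zero 2 hc
    have hsm : ∀ x : F, A • (x : OnePoint F) =
        if c * x + d = 0 then ∞ else (((a * x + b) / (c * x + d) : F) : OnePoint F) :=
      fun x => OnePoint.smul_some_eq_ite
    have hsi : A • (∞ : OnePoint F) = if c = 0 then ∞ else ((a / c : F) : OnePoint F) :=
      OnePoint.smul_infty_eq_ite A
    refine ⟨D.ι (a / c) * D.δ ((b * c - a * d) / c ^ 2) * D.s * D.ι (d / c), ?_⟩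
    intro p
    cases p with
    | infty =>
      rw [mul_smul, mul_smul, mul_smul, D.ι_infty, D.s_infty, D.δ_smul _ hm, mul_zero, D.ι_smul,
        zero_add, hsi, if_neg hc]
    | coe x =>
      rw [mul_smul, mul_smul, mul_smul, D.ι_smul, hsm]
      by_cases hx : c * x + d = 0
      · have h0 : x + d / c = 0 := by
          field_simp
          linear_combination hx
        rw [if_pos hx, h0, D.s_zero, D.δ_infty _ hm, D.ι_infty]
      · have h0 : x + d / c ≠ 0 := by
          intro h
          apply hx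
          field_simp at h
          linear_combination h
        rw [if_neg hx, D.s_smul _ h0, D.δ_smul _ hm, D.ι_smul]
        congr 2
        field_simp
        ring

variable [FaithfulSMul G α]

/-- The homomorphism from `GL₂(F)` onto `G`. -/
noncomputable def Θ : GL (Fin 2) F →* G :=
  MonoidHom.mk' (fun A => Classical.choose (D.exists_of_GL A)) (by
    intro A B
    have h1 := Classical.choose_spec (D.exists_of_GL (A * B))
    have h2 := Classical.choose_spec (D.exists_of_GL A)
    have h3 := Classical.choose_spec (D.exists_of_GL B)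
    exact D.isMoebius_unique h1 (D.isMoebius_mul h2 h3))

theorem Θ_spec (A : GL (Fin 2) F) : D.IsMoebius (D.Θ A) A :=
  Classical.choose_spec (D.exists_of_GL A)

theorem Θ_surjective : Function.Surjective D.Θ := by
  intro g
  obtain ⟨A, hA⟩ := D.exists_of_group g
  exact ⟨A, D.isMoebius_unique (D.Θ_spec A) hA⟩

theorem Θ_ker : D.Θ.ker = Subgroup.center (GL (Fin 2) F) := by
  ext A
  rw [MonoidHom.mem_ker, Matrix.GeneralLinearGroup.center_eq_range_scalar]
  constructor
  · intro h
    have hA := D.Θ_spec A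
    rw [h] at hA
    have hfix : ∀ p : OnePoint F, A • p = p := by
      intro p
      have := hA p
      rw [one_smul] at this
      exact (D.φ_bij.1 this).symm
    have hdet : (A : Matrix (Fin 2) (Fin 2) F).det ≠ 0 := by
      have := A.det_ne_zero
      simpa using this
    rw [Matrix.det_fin_two] at hdet
    have hc : (A : Matrix (Fin 2) (Fin 2) F) 1 0 = 0 := OnePoint.smul_infty_eq_self_iff.mp (hfix ∞)
    rw [hc, mul_zero, sub_zero] at hdet
    have ha : (A : Matrix (Fin 2) (Fin 2) F) 0 0 ≠ 0 := left_ne_zero_of_mul hdet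
    have hd : (A : Matrix (Fin 2) (Fin 2) F) 1 1 ≠ 0 := right_ne_zero_of_mul hdet
    have h0 := hfix ((0 : F) : OnePoint F)
    rw [OnePoint.smul_some_eq_ite, hc, zero_mul, zero_add, if_neg hd, mul_zero, zero_add] at h0
    have hb : (A : Matrix (Fin 2) (Fin 2) F) 0 1 = 0 := by
      have := OnePoint.coe_injective h0
      rcases div_eq_zero_iff.mp this with h | h
      · exact h
      · exact absurd h hd
    have h1 := hfix ((1 : F) : OnePoint F)
    rw [OnePoint.smul_some_eq_ite, hc, zero_mul, zero_add, if_neg hd, mul_one, hb, add_zero] at h1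
    have had : (A : Matrix (Fin 2) (Fin 2) F) 0 0 = (A : Matrix (Fin 2) (Fin 2) F) 1 1 := by
      have := OnePoint.coe_injective h1
      rwa [div_eq_one_iff_eq hd] at this
    refine ⟨Units.mk0 _ ha, ?_⟩
    apply Matrix.GeneralLinearGroup.ext
    intro i j
    fin_cases i <;> fin_cases j <;> simp [Matrix.GeneralLinearGroup.scalar, hc, hb, had]
  · rintro ⟨u, rfl⟩
    have : D.IsMoebius 1 (Matrix.GeneralLinearGroup.scalar (Fin 2) u) := by
      intro p
      rw [one_smul]
      congr 1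
      cases p with
      | infty =>
        rw [OnePoint.smul_infty_eq_ite]
        simp [Matrix.GeneralLinearGroup.scalar]
      | coe x =>
        rw [OnePoint.smul_some_eq_ite]
        simp [Matrix.GeneralLinearGroup.scalar]
    exact D.isMoebius_unique (D.Θ_spec _) this

include D in
/-- The group is isomorphic to `PGL₂(F)`. -/
theorem nonempty_mulEquiv_PGL : Nonempty (G ≃* Matrix.ProjGenLinGroup (Fin 2) F) := by
  let e1 : GL (Fin 2) F ⧸ D.Θ.ker ≃* G := QuotientGroup.quotientKerEquivOfSurjective D.Θ D.Θ_surjective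
  let e2 : GL (Fin 2) F ⧸ D.Θ.ker ≃* GL (Fin 2) F ⧸ Subgroup.center (GL (Fin 2) F) :=
    QuotientGroup.quotientMulEquivOfEq D.Θ_ker
  let e3 : (GL (Fin 2) F ⧸ Subgroup.center (GL (Fin 2) F)) ≃* Matrix.ProjGenLinGroup (Fin 2) F :=
    MulEquiv.refl _
  exact ⟨e1.symm.trans (e2.trans e3)⟩

end MoebiusData

end Cfsg.Agent.Lib.helper6.MoebiusRecog
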