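import Mathlib
import Cfsg.Agent.Lib.helper6.ZassNormal

set_option autoImplicit false

namespace Cfsg.Agent.Lib.helper6.ZassOdd

open Cfsg.Agent.Lib.helper6.ZassNormal

variable {G Ω : Type*} [Group G] [MulAction G Ω]

/-- The fixed points of an involution (or identity) on a set of odd size: odd number. -/
theorem odd_card_fixed [Fintype Ω] [DecidableEq Ω] (hodd : Odd (Fintype.card Ω)) (g : G) (hg : g * g = 1) :
    Odd (Finset.univ.filter (fun x : Ω => g • x = x)).card := by
  have hσ : (MulAction.toPerm g : Equiv.Perm Ω) ^ 2 ^ 1 = 1 := by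
    rw [pow_one, sq, ← MulAction.toPermHom_apply, ← map_mul, hg, map_one]
  haveI : Fact (Nat.Prime 2) := ⟨Nat.prime_two⟩
  have h := Equiv.Perm.card_compl_support_modEq (p := 2) (n := 1) hσ
  have heq : (Equiv.Perm.support (MulAction.toPerm g : Equiv.Perm Ω))ᶜ =
      Finset.univ.filter (fun x : Ω => g • x = x) := by
    ext x
    simp [Equiv.Perm.mem_support]
  rw [heq] at h
  rw [Nat.odd_iff] at hodd ⊢
  rw [← hodd]
  exact h

theorem exists_fixed [Fintype Ω] (hodd : Odd (Fintype.card Ω)) (g : G) (hg : g * g = 1) :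
    ∃ c : Ω, g • c = c := by
  classical
  have h := odd_card_fixed hodd g hg
  have hpos : 0 < (Finset.univ.filter (fun x : Ω => g • x = x)).card := h.pos
  obtain ⟨c, hc⟩ := Finset.card_pos.mp hpos
  exact ⟨c, (Finset.mem_filter.mp hc).2⟩

theorem third_fixed [Fintype Ω] (hodd : Odd (Fintype.card Ω)) (g : G) (hg : g * g = 1)
    {x y : Ω} (hxy : x ≠ y) (hx : g • x = x) (hy : g • y = y) :
    ∃ z : Ω, z ≠ x ∧ z ≠ y ∧ g • z = z := by
  classical
  have h := odd_card_fixed hodd g hg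
  set S := Finset.univ.filter (fun x : Ω => g • x = x) with hS
  have hxS : x ∈ S := Finset.mem_filter.mpr ⟨Finset.mem_univ _, hx⟩
  have hyS : y ∈ S := Finset.mem_filter.mpr ⟨Finset.mem_univ _, hy⟩
  have h2 : ({x, y} : Finset Ω) ⊆ S := by
    intro z hz
    rcases Finset.mem_insert.mp hz with rfl | hz
    · exact hxS
    · rw [Finset.mem_singleton] at hz; rw [hz]; exact hyS
  have hc2 : ({x, y} : Finset Ω).card = 2 := Finset.card_pair hxy
  have hle : 2 ≤ S.card := hc2 ▸ Finset.card_le_card h2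
  have hne2 : S.card ≠ 2 := by
    intro h2'
    rw [h2'] at h
    exact absurd h (by decide)
  have hlt : ({x, y} : Finset Ω).card < S.card := by omega
  obtain ⟨z, hzS, hz⟩ := Finset.exists_mem_notMem_of_card_lt_card hlt
  refine ⟨z, ?_, ?_, (Finset.mem_filter.mp hzS).2⟩
  · intro h; apply hz; rw [h]; simp
  · intro h; apply hz; rw [h]; simp


/-- From an element of `N` swapping `a` and `b` of 2-power order, get an involution of `N` swapping them. -/
theorem exists_invol_swap [Fintype Ω] (hodd : Odd (Fintype.card Ω))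
    (three : ∀ g : G, ∀ a b c : Ω, a ≠ b → b ≠ c → a ≠ c → g • a = a → g • b = b → g • c = c → g = 1)
    (N : Subgroup G) {a b : Ω} (hab : a ≠ b) :
    ∀ s : ℕ, ∀ x ∈ N, x • a = b → x • b = a → x ^ (2 ^ s) = 1 →
      ∃ t ∈ N, t • a = b ∧ t • b = a ∧ t * t = 1 := by
  intro s
  induction s with
  | zero =>
    intro x _ hxa _ hx
    rw [pow_zero, pow_one] at hx
    rw [hx, one_smul] at hxa
    exact absurd hxa hab
  | succ s ih =>
    intro x hxN hxa hxb hx
    rcases Nat.eq_zero_or_pos s with hs | hs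
    · subst hs
      refine ⟨x, hxN, hxa, hxb, ?_⟩
      rw [← sq]; simpa using hx
    · -- y = x^(2^s) is an involution fixing a b
      have hxx : ∀ k : ℕ, (x ^ (2 * k)) • a = a ∧ (x ^ (2 * k)) • b = b := by
        intro k
        induction k with
        | zero => simp
        | succ k ihk =>
          have e : x ^ (2 * (k + 1)) = x ^ (2 * k) * (x * x) := by
            rw [mul_add, pow_add, mul_one, pow_two]
          have hsa : (x * x) • a = a := by rw [mul_smul, hxa, hxb]
          have hsb : (x * x) • b = b := by rw [mul_smul, hxb, hxa]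
          exact ⟨by rw [e, mul_smul, hsa]; exact ihk.1, by rw [e, mul_smul, hsb]; exact ihk.2⟩
      obtain ⟨k, hk⟩ : ∃ k, 2 ^ s = 2 * k := ⟨2 ^ (s - 1), by
        rw [← pow_succ']; congr 1; omega⟩
      have hy : (x ^ (2 ^ s)) * (x ^ (2 ^ s)) = 1 := by
        rw [← pow_add, ← two_mul, ← pow_succ']; exact hx
      have hya := (hxx k).1
      have hyb := (hxx k).2
      rw [← hk] at hya hyb
      obtain ⟨z, hza, hzb, hz⟩ := third_fixed hodd _ hy hab hya hyb
      have hy1 := three _ a b z hab (Ne.symm hzb) (Ne.symm hza) hya hyb hz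
      exact ih x hxN hxa hxb hy1

/-- S0338: a Zassenhaus group of odd degree is simple. -/
theorem zass_odd_simple [Fintype Ω] (hZ : Cfsg.IsZassenhausGroup G Ω) (hodd : Odd (Fintype.card Ω)) :
    IsSimpleGroup G := by
  classical
  have D := ZData.of_zass hZ
  obtain ⟨hf, h2, h3, ⟨g0, hg01, a, b, hab, hg0a, hg0b⟩, hreg⟩ := hZ
  haveI := hf
  haveI : Finite G := finite_of_faithful (Ω := Ω)
  haveI : Nontrivial G := ⟨⟨g0, 1, hg01⟩⟩
  refine ⟨?_⟩
  intro N hNn
  by_cases hN : N = ⊥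
  · exact Or.inl hN
  right
  have hN2 : ∀ {c d e f : Ω}, c ≠ d → e ≠ f → ∃ n ∈ N, n • c = e ∧ n • d = f :=
    fun h1 h2 => two_trans_normal D N hN hab h1 h2
  -- involution t ∈ N swapping a b
  obtain ⟨t0, ht0N, ht0a, ht0b⟩ := hN2 hab (Ne.symm hab)
  obtain ⟨s, r, hr, hsr⟩ := Nat.exists_eq_two_pow_mul_odd (orderOf_pos t0).ne'
  have hswap_odd : ∀ k : ℕ, (t0 ^ (2 * k + 1)) • a = b ∧ (t0 ^ (2 * k + 1)) • b = a := by
    intro k
    induction k with
    | zero => simpa using ⟨ht0a, ht0b⟩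
    | succ k ihk =>
      have e : t0 ^ (2 * (k + 1) + 1) = t0 ^ (2 * k + 1) * (t0 * t0) := by
        rw [← pow_two, ← pow_add]; congr 1
      have hsa : (t0 * t0) • a = a := by rw [mul_smul, ht0a, ht0b]
      have hsb : (t0 * t0) • b = b := by rw [mul_smul, ht0b, ht0a]
      exact ⟨by rw [e, mul_smul, hsa]; exact ihk.1, by rw [e, mul_smul, hsb]; exact ihk.2⟩
  obtain ⟨k, hk⟩ := hr
  have hx1 : (t0 ^ r) ^ (2 ^ s) = 1 := by
    rw [← pow_mul, mul_comm, ← hsr]; exact pow_orderOf_eq_one t0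
  obtain ⟨t, htN, hta, htb, htt⟩ := exists_invol_swap hodd h3 N hab s (t0 ^ r) (N.pow_mem ht0N r)
    (hk ▸ (hswap_odd k).1) (hk ▸ (hswap_odd k).2) hx1
  have htinv : t⁻¹ = t := by rw [inv_eq_iff_mul_eq_one]; exact htt
  -- unique fixed point of t
  obtain ⟨c, hc⟩ := exists_fixed hodd t htt
  have ht1 : t ≠ 1 := by
    intro h; rw [h, one_smul] at hta; exact hab hta
  have hcent : ∀ h : G, h • a = a → h • b = b → h * t = t * h → h = 1 := by
    intro h hha hhb hht
    have hca : c ≠ a := by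
      intro hca; rw [hca, hta] at hc; exact hab hc.symm
    have hcb : c ≠ b := by
      intro hcb; rw [hcb, htb] at hc; exact hab hc
    have hhc : h • c = c := by
      by_contra hne
      have h1 : t • (h • c) = h • c := by
        rw [← mul_smul, ← hht, mul_smul, hc]
      obtain ⟨z, hz1, hz2, hz⟩ := third_fixed hodd t htt (Ne.symm hne) hc h1
      exact ht1 (h3 t c (h • c) z (Ne.symm hne) (Ne.symm hz2) (Ne.symm hz1) hc h1 hz)
    exact h3 h a b c hab (Ne.symm hcb) (Ne.symm hca) hha hhb hhc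
  -- the two point stabilizer is contained in N
  let Hs : Subgroup G := MulAction.stabilizer G a ⊓ MulAction.stabilizer G b
  have hHs : ∀ h : G, h ∈ Hs ↔ h • a = a ∧ h • b = b := by
    intro h
    simp only [Hs, Subgroup.mem_inf, MulAction.mem_stabilizer_iff]
  have htinva : t⁻¹ • a = b := by rw [htinv]; exact hta
  have htinvb : t⁻¹ • b = a := by rw [htinv]; exact htb
  let φ : Hs → Hs := fun h => ⟨(h : G)⁻¹ * t * (h : G) * t⁻¹, by
    obtain ⟨h1, h2⟩ := (hHs _).mp h.2
    rw [hHs]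
    constructor
    · rw [mul_smul, mul_smul, mul_smul, htinva, h2, htb, inv_smul_eq_iff, h1]
    · rw [mul_smul, mul_smul, mul_smul, htinvb, h1, hta, inv_smul_eq_iff, h2]⟩
  have hφinj : Function.Injective φ := by
    intro h h' hh
    have h1 : (h : G)⁻¹ * t * (h : G) * t⁻¹ = (h' : G)⁻¹ * t * (h' : G) * t⁻¹ := congrArg Subtype.val hh
    have h2 : (h : G)⁻¹ * t * (h : G) = (h' : G)⁻¹ * t * (h' : G) := mul_right_cancel h1
    have h3' : ((h' : G) * (h : G)⁻¹) * t = t * ((h' : G) * (h : G)⁻¹) := by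
      calc ((h' : G) * (h : G)⁻¹) * t = (h' : G) * ((h : G)⁻¹ * t * (h : G)) * (h : G)⁻¹ := by group
        _ = (h' : G) * ((h' : G)⁻¹ * t * (h' : G)) * (h : G)⁻¹ := by rw [h2]
        _ = t * ((h' : G) * (h : G)⁻¹) := by group
    have hmem : (h' : G) * (h : G)⁻¹ ∈ Hs := Hs.mul_mem h'.2 (Hs.inv_mem h.2)
    obtain ⟨h4, h5⟩ := (hHs _).mp hmem
    have h6 := hcent _ h4 h5 h3'
    apply Subtype.ext
    have : (h : G) = ((h' : G) * (h : G)⁻¹)⁻¹ * (h' : G) := by group
    rw [this, h6, inv_one, one_mul]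
  have hφsurj : Function.Surjective φ := Finite.surjective_of_injective hφinj
  have hHsN : ∀ h ∈ Hs, h ∈ N := by
    intro h hh
    obtain ⟨h', hh'⟩ := hφsurj ⟨h, hh⟩
    have h1 : (h' : G)⁻¹ * t * (h' : G) * t⁻¹ = h := congrArg Subtype.val hh'
    rw [← h1]
    apply N.mul_mem _ (N.inv_mem htN)
    have := hNn.conj_mem t htN (h' : G)⁻¹
    simpa using this
  rw [eq_top_iff]
  intro g _
  have hgab : g • a ≠ g • b := fun h => hab (MulAction.injective g h)
  obtain ⟨ν, hνN, hνa, hνb⟩ := hN2 hab hgab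
  have hmem : ν⁻¹ * g ∈ Hs := by
    rw [hHs]
    constructor
    · rw [mul_smul, inv_smul_eq_iff, hνa]
    · rw [mul_smul, inv_smul_eq_iff, hνb]
  have : g = ν * (ν⁻¹ * g) := by group
  rw [this]
  exact N.mul_mem hνN (hHsN _ hmem)

end Cfsg.Agent.Lib.helper6.ZassOdd
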