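import Mathlib
import Cfsg.Agent.Lib.helper6.MoebiusRecog
import Cfsg.Agent.Lib.helper6.ZassOdd
import Cfsg.Agent.Lib.Helper9.FieldOfAffine
import Cfsg.Agent.S0680

set_option autoImplicit false

open OnePoint

namespace Cfsg.Agent.Lib.helper6.Sharp3

open Cfsg.Agent.Lib.helper6.MoebiusRecog Cfsg.Agent.Lib.helper6.ZassOdd

variable {G α : Type*} [Group G] [MulAction G α]

/-- The regular normal abelian subgroup of a point stabilizer in a sharply 3-transitive group. -/
theorem kernel_data3 [Finite G] [Finite α]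
    (T3 : ∀ a b c a' b' c' : α, a ≠ b → b ≠ c → a ≠ c → a' ≠ b' → b' ≠ c' → a' ≠ c' →
      ∃ g : G, g • a = a' ∧ g • b = b' ∧ g • c = c')
    (S3 : ∀ g : G, ∀ a b c : α, a ≠ b → b ≠ c → a ≠ c → g • a = a → g • b = b → g • c = c → g = 1)
    {pinf p0 p1 : α} (h01 : p0 ≠ p1) (hi0 : pinf ≠ p0) (hi1 : pinf ≠ p1) :
    ∃ KG : Subgroup G, (∀ k ∈ KG, k • pinf = pinf) ∧
      (∀ k ∈ KG, k ≠ 1 → ∀ x : α, x ≠ pinf → k • x ≠ x) ∧
      (∀ x y : α, x ≠ pinf → y ≠ pinf → ∃ k ∈ KG, k • x = y) ∧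
      (∀ g : G, g • pinf = pinf → ∀ k ∈ KG, g * k * g⁻¹ ∈ KG) ∧
      (∀ x ∈ KG, ∀ y ∈ KG, x * y = y * x) := by
  classical
  letI : Fintype α := Fintype.ofFinite α
  letI : Fintype G := Fintype.ofFinite G
  let X := MulAction.stabilizer G pinf
  let Δ := SubMulAction.ofStabilizer G pinf
  have hmem : ∀ x : α, x ∈ SubMulAction.ofStabilizer G pinf ↔ x ≠ pinf :=
    fun x => SubMulAction.mem_ofStabilizer_iff G pinf
  have H2T : ∀ a b c d : Δ, a ≠ b → c ≠ d → ∃ g : X, g • a = c ∧ g • b = d := by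
    intro a b c d hab hcd
    have ha := (hmem _).mp a.2
    have hb := (hmem _).mp b.2
    have hc := (hmem _).mp c.2
    have hd := (hmem _).mp d.2
    have hab' : (a : α) ≠ b := fun h => hab (Subtype.ext h)
    have hcd' : (c : α) ≠ d := fun h => hcd (Subtype.ext h)
    obtain ⟨g, hg1, hg2, hg3⟩ := T3 pinf a b pinf c d (Ne.symm ha) hab' (Ne.symm hb) (Ne.symm hc)
      hcd' (Ne.symm hd)
    exact ⟨⟨g, MulAction.mem_stabilizer_iff.mpr hg1⟩, Subtype.ext hg2, Subtype.ext hg3⟩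
  have HS : ∀ (g : X) (a b : Δ), a ≠ b → g • a = a → g • b = b → g = 1 := by
    intro g a b hab hga hgb
    have ha := (hmem _).mp a.2
    have hb := (hmem _).mp b.2
    have hab' : (a : α) ≠ b := fun h => hab (Subtype.ext h)
    apply Subtype.ext
    exact S3 (g : G) pinf a b (Ne.symm ha) hab' (Ne.symm hb) (MulAction.mem_stabilizer_iff.mp g.2)
      (congrArg Subtype.val hga) (congrArg Subtype.val hgb)
  have hn : 2 ≤ Fintype.card Δ := by
    have h0 : (⟨p0, (hmem _).mpr (Ne.symm hi0)⟩ : Δ) ≠ ⟨p1, (hmem _).mpr (Ne.symm hi1)⟩ :=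
      fun h => h01 (congrArg Subtype.val h)
    exact Fintype.one_lt_card_iff.mpr ⟨_, _, h0⟩
  obtain ⟨K, p, j, hp, hj1, hj, hK, hKn, hKcomm, hKexp, hKcard⟩ :=
    Cfsg.Agent.S0680.structure_thm H2T HS hn
  -- K transitive on Δ
  have hKtr : ∀ d e : Δ, ∃ k ∈ K, k • d = e := by
    let o : Δ := ⟨p0, (hmem _).mpr (Ne.symm hi0)⟩
    have hinj : Function.Injective (fun k : K => (k : X) • o) := by
      intro k k' hkk
      have hfix : ((k' : X)⁻¹ * (k : X)) • o = o := by
        rw [mul_smul, inv_smul_eq_iff]; exact hkk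
      have hin : (k' : X)⁻¹ * (k : X) ∈ K := K.mul_mem (K.inv_mem k'.2) k.2
      rcases (hK _).mp hin with h | h
      · apply Subtype.ext
        have : (k : X) = (k' : X) * ((k' : X)⁻¹ * (k : X)) := by group
        rw [this, h, mul_one]
      · exact absurd hfix (h o)
    have hbij := hinj.bijective_of_nat_card_le (by rw [hKcard, Nat.card_eq_fintype_card])
    intro d e
    obtain ⟨m1, hm1⟩ := hbij.2 d
    obtain ⟨m2, hm2⟩ := hbij.2 e
    refine ⟨(m2 : X) * (m1 : X)⁻¹, K.mul_mem m2.2 (K.inv_mem m1.2), ?_⟩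
    rw [← hm1, ← hm2]
    simp only [mul_smul, inv_smul_smul]
  let KG : Subgroup G := K.map X.subtype
  have hKGmem : ∀ x : G, x ∈ KG ↔ ∃ hx : x ∈ X, (⟨x, hx⟩ : X) ∈ K := by
    intro x
    constructor
    · rintro ⟨y, hy, rfl⟩
      exact ⟨y.2, hy⟩
    · rintro ⟨hx, hy⟩
      exact ⟨⟨x, hx⟩, hy, rfl⟩
  refine ⟨KG, ?_, ?_, ?_, ?_, ?_⟩
  · intro k hk
    obtain ⟨hkS, -⟩ := (hKGmem k).mp hk
    exact MulAction.mem_stabilizer_iff.mp hkS
  · intro k hk hk1 x hxa hkx
    obtain ⟨hkS, hkK⟩ := (hKGmem k).mp hk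
    rcases (hK _).mp hkK with h | h
    · exact hk1 (congrArg Subtype.val h)
    · apply h ⟨x, (hmem _).mpr hxa⟩
      apply Subtype.ext
      exact hkx
  · intro x y hxa hya
    obtain ⟨k, hkK, hk⟩ := hKtr ⟨x, (hmem _).mpr hxa⟩ ⟨y, (hmem _).mpr hya⟩
    exact ⟨(k : G), (hKGmem _).mpr ⟨k.2, hkK⟩, congrArg Subtype.val hk⟩
  · intro g hga k hk
    obtain ⟨hkS, hkK⟩ := (hKGmem k).mp hk
    have hgS : g ∈ X := MulAction.mem_stabilizer_iff.mpr hga
    have := hKn.conj_mem ⟨k, hkS⟩ hkK ⟨g, hgS⟩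
    exact (hKGmem _).mpr ⟨_, this⟩
  · intro x hx y hy
    obtain ⟨hxS, hxK⟩ := (hKGmem x).mp hx
    obtain ⟨hyS, hyK⟩ := (hKGmem y).mp hy
    exact congrArg Subtype.val (hKcomm _ hxK _ hyK)


open Cfsg.Agent.Lib.Helper9 in
/-- A sharply 3-transitive group of odd degree is `PGL₂(F)` for a field `F`. -/
theorem sharp3_odd [Fintype α] [FaithfulSMul G α] (hodd : Odd (Fintype.card α))
    (T3 : ∀ a b c a' b' c' : α, a ≠ b → b ≠ c → a ≠ c → a' ≠ b' → b' ≠ c' → a' ≠ c' →
      ∃ g : G, g • a = a' ∧ g • b = b' ∧ g • c = c')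
    (S3 : ∀ g : G, ∀ a b c : α, a ≠ b → b ≠ c → a ≠ c → g • a = a → g • b = b → g • c = c → g = 1)
    {pinf p0 p1 : α} (h01 : p0 ≠ p1) (hi0 : pinf ≠ p0) (hi1 : pinf ≠ p1) :
    ∃ (F : Type) (_ : Field F) (_ : Fintype F), Fintype.card F + 1 = Fintype.card α ∧
      Nonempty (G ≃* Matrix.ProjGenLinGroup (Fin 2) F) := by
  classical
  haveI : Finite G := Finite.of_injective (MulAction.toPerm : G → Equiv.Perm α)
    MulAction.toPerm_injective
  obtain ⟨KG, kfix, kfpf, ktr, knorm, kcomm⟩ := kernel_data3 T3 S3 h01 hi0 hi1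
  have kreg : ∀ k ∈ KG, ∀ k' ∈ KG, ∀ x : α, x ≠ pinf → k • x = k' • x → k = k' := by
    intro k hk k' hk' x hx hkk
    have h1 : (k'⁻¹ * k) • x = x := by rw [mul_smul, hkk, inv_smul_smul]
    by_contra hne
    have h2 : k'⁻¹ * k ≠ 1 := by
      intro h
      apply hne
      have : k = k' * (k'⁻¹ * k) := by group
      rw [this, h, mul_one]
    exact kfpf _ (KG.mul_mem (KG.inv_mem hk') hk) h2 x hx h1
  -- H
  let H : Subgroup G := MulAction.stabilizer G pinf ⊓ MulAction.stabilizer G p0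
  have hHmem : ∀ h : G, h ∈ H ↔ h • pinf = pinf ∧ h • p0 = p0 := by
    intro h
    simp only [H, Subgroup.mem_inf, MulAction.mem_stabilizer_iff]
  have hHtr : ∀ x y : α, x ≠ pinf → x ≠ p0 → y ≠ pinf → y ≠ p0 → ∃ h ∈ H, h • x = y := by
    intro x y hx1 hx2 hy1 hy2
    obtain ⟨g, hg1, hg2, hg3⟩ := T3 pinf p0 x pinf p0 y hi0 (Ne.symm hx2) (Ne.symm hx1) hi0
      (Ne.symm hy2) (Ne.symm hy1)
    exact ⟨g, (hHmem g).mpr ⟨hg1, hg2⟩, hg3⟩
  have hHreg : ∀ h ∈ H, ∀ x : α, x ≠ pinf → x ≠ p0 → h • x = x → h = 1 := by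
    intro h hh x hx1 hx2 hhx
    obtain ⟨h1, h2⟩ := (hHmem h).mp hh
    exact S3 h pinf p0 x hi0 (Ne.symm hx2) (Ne.symm hx1) h1 h2 hhx
  -- s
  obtain ⟨s, hsi, hs0, hs1⟩ := T3 pinf p0 p1 p0 pinf p1 hi0 h01 hi1 (Ne.symm hi0) hi1 h01
  have hss : s * s = 1 := by
    apply S3 (s * s) pinf p0 p1 hi0 h01 hi1
    · rw [mul_smul, hsi, hs0]
    · rw [mul_smul, hs0, hsi]
    · rw [mul_smul, hs1, hs1]
  have hsinv : s⁻¹ = s := by rw [inv_eq_iff_mul_eq_one]; exact hss
  have hs_ne : s ≠ 1 := by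
    intro h; rw [h, one_smul] at hsi; exact hi0 hsi
  have hsfix : ∀ x : α, s • x = x → x = p1 := by
    intro x hx
    by_contra hne
    obtain ⟨z, hz1, hz2, hz⟩ := third_fixed hodd s hss hne hx hs1
    exact hs_ne (S3 s x p1 z hne (Ne.symm hz2) (Ne.symm hz1) hx hs1 hz)
  have hsH : ∀ h ∈ H, s * h * s⁻¹ ∈ H := by
    intro h hh
    obtain ⟨h1, h2⟩ := (hHmem h).mp hh
    rw [hHmem, hsinv]
    constructor
    · rw [mul_smul, mul_smul, hsi, h2, hs0]
    · rw [mul_smul, mul_smul, hs0, h1, hsi]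
  have hcent : ∀ h ∈ H, h * s = s * h → h = 1 := by
    intro h hh hhs
    have : s • (h • p1) = h • p1 := by rw [← mul_smul, ← hhs, mul_smul, hs1]
    have h3 := hsfix _ this
    exact hHreg h hh p1 (Ne.symm hi1) (Ne.symm h01) h3
  -- s inverts H
  let ψ : H → H := fun h => ⟨(h : G)⁻¹ * (s * (h : G) * s⁻¹), H.mul_mem (H.inv_mem h.2) (hsH _ h.2)⟩
  have hψinj : Function.Injective ψ := by
    intro h h' hh
    have h1 : (h : G)⁻¹ * (s * (h : G) * s⁻¹) = (h' : G)⁻¹ * (s * (h' : G) * s⁻¹) :=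
      congrArg Subtype.val hh
    have h2 : ((h' : G) * (h : G)⁻¹) * s = s * ((h' : G) * (h : G)⁻¹) := by
      have e1 : s * (h : G) * s⁻¹ = (h : G) * ((h : G)⁻¹ * (s * (h : G) * s⁻¹)) := by group
      have e2 : s * (h' : G) * s⁻¹ = (h' : G) * ((h' : G)⁻¹ * (s * (h' : G) * s⁻¹)) := by group
      calc ((h' : G) * (h : G)⁻¹) * s
          = (h' : G) * ((h : G)⁻¹ * (s * (h : G) * s⁻¹)) * (s * (h : G)⁻¹ * s⁻¹) * s := by group
        _ = (h' : G) * ((h' : G)⁻¹ * (s * (h' : G) * s⁻¹)) * (s * (h : G)⁻¹ * s⁻¹) * s := by rw [h1]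
        _ = s * ((h' : G) * (h : G)⁻¹) := by group
    have h3 := hcent _ (H.mul_mem h'.2 (H.inv_mem h.2)) h2
    apply Subtype.ext
    have : (h : G) = ((h' : G) * (h : G)⁻¹)⁻¹ * (h' : G) := by group
    rw [this, h3, inv_one, one_mul]
  have hψsurj : Function.Surjective ψ := Finite.surjective_of_injective hψinj
  have hinvert : ∀ h ∈ H, s * h * s⁻¹ = h⁻¹ := by
    intro h hh
    obtain ⟨k, hk⟩ := hψsurj ⟨h, hh⟩
    have hk' : (k : G)⁻¹ * (s * (k : G) * s⁻¹) = h := congrArg Subtype.val hk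
    rw [← hk']
    calc s * ((k : G)⁻¹ * (s * (k : G) * s⁻¹)) * s⁻¹
        = (s * (k : G)⁻¹ * s⁻¹) * ((s * s) * (k : G) * (s * s)⁻¹) := by group
      _ = (s * (k : G)⁻¹ * s⁻¹) * (k : G) := by rw [hss]; group
      _ = ((k : G)⁻¹ * (s * (k : G) * s⁻¹))⁻¹ := by group
  have hHcomm : ∀ h ∈ H, ∀ k ∈ H, h * k = k * h := by
    intro h hh k hk
    have h1 := hinvert _ (H.mul_mem hh hk)
    have h2 := hinvert h hh
    have h3 := hinvert k hk
    have h4 : s * (h * k) * s⁻¹ = (s * h * s⁻¹) * (s * k * s⁻¹) := by group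
    rw [h1, h2, h3] at h4
    have h5 : (h * k)⁻¹ = (k * h)⁻¹ := by rw [h4]; group
    exact inv_injective h5
  -- field
  obtain ⟨e, heK, he0⟩ := ktr p0 p1 (Ne.symm hi0) (Ne.symm hi1)
  have he1 : e ≠ 1 := by
    intro h; rw [h, one_smul] at he0; exact h01 he0
  have hnorm : ∀ d ∈ H, ∀ a ∈ KG, d * a * d⁻¹ ∈ KG :=
    fun d hd a ha => knorm d ((hHmem d).mp hd).1 a ha
  have hreg : ∀ a ∈ KG, a ≠ 1 → ∃ d ∈ H, d * e * d⁻¹ = a := by
    intro a ha ha1
    have ha0 : a • p0 ≠ p0 := kfpf a ha ha1 p0 (Ne.symm hi0)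
    have hai : a • p0 ≠ pinf := by
      intro h
      have := h.trans (kfix a ha).symm
      exact hi0 (MulAction.injective a this).symm
    obtain ⟨d, hd, hd1⟩ := hHtr p1 (a • p0) (Ne.symm hi1) (Ne.symm h01) hai ha0
    refine ⟨d, hd, ?_⟩
    apply kreg _ (hnorm d hd e heK) _ ha p0 (Ne.symm hi0)
    have : d⁻¹ • p0 = p0 := by rw [inv_smul_eq_iff, ((hHmem d).mp hd).2]
    rw [mul_smul, mul_smul, this, he0, hd1]
  haveI : Finite ↥KG := inferInstance
  obtain ⟨F, instF, instFin, ι, δ, hιinj, hιsurj, hιK, hιadd, hι1, hδ⟩ :=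
    exists_field_of_regular KG H kcomm hHcomm hnorm e heK he1 hreg
  have hι0 : ι 0 = 1 := by
    have := hιadd 0 0
    rw [add_zero] at this
    exact mul_left_cancel (a := ι 0) (by rw [mul_one]; exact this.symm)
  have hιi : ∀ x, ι x • pinf = pinf := fun x => kfix _ (hιK x)
  have hδH : ∀ m, m ≠ 0 → δ m • pinf = pinf ∧ δ m • p0 = p0 :=
    fun m hm => (hHmem _).mp (hδ m hm).1
  -- φ
  let φ : OnePoint F → α := fun p => match p with
    | ∞ => pinf
    | (x : F) => ι x • p0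
  have hφi : φ ∞ = pinf := rfl
  have hφc : ∀ x : F, φ (x : OnePoint F) = ι x • p0 := fun x => rfl
  have hφne : ∀ x : F, φ (x : OnePoint F) ≠ pinf := by
    intro x h
    rw [hφc] at h
    have := h.trans (hιi x).symm
    exact hi0 (MulAction.injective (ι x) this).symm
  have hφbij : Function.Bijective φ := by
    constructor
    · intro p q hpq
      cases p with
      | infty =>
        cases q with
        | infty => rfl
        | coe y => exact absurd hpq.symm (hφne y)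
      | coe x =>
        cases q with
        | infty => exact absurd hpq (hφne x)
        | coe y =>
          rw [hφc, hφc] at hpq
          have := kreg _ (hιK x) _ (hιK y) p0 (Ne.symm hi0) hpq
          rw [hιinj this]
    · intro y
      by_cases hy : y = pinf
      · exact ⟨∞, hy.symm⟩
      · obtain ⟨k, hk, hky⟩ := ktr p0 y (Ne.symm hi0) hy
        obtain ⟨x, hx⟩ := hιsurj k hk
        exact ⟨(x : OnePoint F), by rw [hφc, hx, hky]⟩
  have hφ0 : φ ((0 : F) : OnePoint F) = p0 := by rw [hφc, hι0, one_smul]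
  have hφ1 : φ ((1 : F) : OnePoint F) = p1 := by rw [hφc, hι1, he0]
  have hδsmul : ∀ m : F, m ≠ 0 → ∀ x : F, δ m • φ (x : OnePoint F) = φ ((m * x : F) : OnePoint F) := by
    intro m hm x
    rw [hφc, hφc, (hδ m hm).2 x, mul_smul, mul_smul, inv_smul_eq_iff.mpr (hδH m hm).2.symm]
  have hδinv : ∀ m : F, m ≠ 0 → δ m⁻¹ = (δ m)⁻¹ := by
    intro m hm
    have hm' : m⁻¹ ≠ 0 := inv_ne_zero hm
    have h1 : (δ m⁻¹ * δ m) • p1 = p1 := by
      rw [mul_smul, ← hφ1, hδsmul m hm, hδsmul _ hm', mul_one, inv_mul_cancel₀ hm]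
    have h2 := hHreg _ (H.mul_mem (hδ _ hm').1 (hδ m hm).1) p1 (Ne.symm hi1) (Ne.symm h01) h1
    exact eq_inv_of_mul_eq_one_left h2
  let D : MoebiusData G α F :=
    { φ := φ
      φ_bij := hφbij
      ι := ι
      δ := δ
      s := s
      ι_smul := by
        intro b x
        rw [hφc, hφc, ← mul_smul, ← hιadd, add_comm]
      ι_infty := fun b => hιi b
      δ_smul := hδsmul
      δ_infty := fun m hm => (hδH m hm).1
      s_infty := by rw [hφi, hφ0, hsi]
      s_zero := by rw [hφi, hφ0, hs0]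
      s_smul := by
        intro x hx
        have h1 : φ (x : OnePoint F) = δ x • p1 := by
          rw [← hφ1, hδsmul x hx, mul_one]
        have h2 : φ ((x⁻¹ : F) : OnePoint F) = (δ x)⁻¹ • p1 := by
          rw [← hδinv x hx, ← hφ1, hδsmul _ (inv_ne_zero hx), mul_one]
        rw [h1, h2]
        have h3 := hinvert _ (hδ x hx).1
        have h4 : s * δ x = (δ x)⁻¹ * s := by
          calc s * δ x = (s * δ x * s⁻¹) * s := by group
            _ = (δ x)⁻¹ * s := by rw [h3]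
        rw [← mul_smul, h4, mul_smul, hs1]
      stab := by
        intro g hg
        have hg0 : g • p0 ≠ pinf := by
          intro h
          have := h.trans hg.symm
          exact hi0 (MulAction.injective g this).symm
        obtain ⟨p, hp⟩ := hφbij.2 (g • p0)
        cases p with
        | infty => exact absurd hp.symm hg0
        | coe b =>
          rw [hφc] at hp
          have hh : (ι b)⁻¹ * g ∈ H := by
            rw [hHmem]
            constructor
            · rw [mul_smul, hg, inv_smul_eq_iff, hιi]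
            · rw [mul_smul, inv_smul_eq_iff, hp]
          have hh1i : ((ι b)⁻¹ * g) • p1 ≠ pinf := by
            intro h
            have := h.trans ((hHmem _).mp hh).1.symm
            exact hi1 (MulAction.injective _ this).symm
          have hh10 : ((ι b)⁻¹ * g) • p1 ≠ p0 := by
            intro h
            have := h.trans ((hHmem _).mp hh).2.symm
            exact h01 (MulAction.injective _ this).symm
          obtain ⟨q, hq⟩ := hφbij.2 (((ι b)⁻¹ * g) • p1)
          cases q with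
          | infty => exact absurd hq.symm hh1i
          | coe m =>
            have hm : m ≠ 0 := by
              intro h
              rw [h, hφ0] at hq
              exact hh10 hq.symm
            have h5 : ((δ m)⁻¹ * ((ι b)⁻¹ * g)) • p1 = p1 := by
              rw [mul_smul, ← hq, inv_smul_eq_iff, ← hφ1, hδsmul m hm, mul_one]
            have h6 := hHreg _ (H.mul_mem (H.inv_mem (hδ m hm).1) hh) p1 (Ne.symm hi1)
              (Ne.symm h01) h5
            refine ⟨b, m, hm, ?_⟩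
            have : g = ι b * (δ m * ((δ m)⁻¹ * ((ι b)⁻¹ * g))) := by group
            rw [this, h6, mul_one] }
  refine ⟨F, instF, instFin, ?_, D.nonempty_mulEquiv_PGL⟩
  have h1 : Nat.card (OnePoint F) = Nat.card α := Nat.card_eq_of_bijective φ hφbij
  have h2 : Nat.card (OnePoint F) = Nat.card F + 1 := by
    have : Nat.card (Option F) = Nat.card F + 1 := by
      rw [Nat.card_eq_fintype_card, Nat.card_eq_fintype_card, Fintype.card_option]
    exact this
  have h3 : Nat.card F = Fintype.card F := Nat.card_eq_fintype_card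
  have h4 : Nat.card α = Fintype.card α := Nat.card_eq_fintype_card
  omega

end Cfsg.Agent.Lib.helper6.Sharp3
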