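import Mathlib
import Cfsg.Agent.Lib.helper6.Sharp3

set_option autoImplicit false

open OnePoint

namespace Cfsg.Agent.Lib.helper6.Sharp3

open Cfsg.Agent.Lib.helper6.MoebiusRecog

variable {G α : Type*} [Group G] [MulAction G α]

open Cfsg.Agent.Lib.Helper9 in
/-- A sharply 3-transitive group of degree `p + 1` (`p` prime) whose two-point stabilisers are
commutative is `PGL₂(F)` for a field `F` with `p` elements. -/
theorem sharp3_prime [Fintype α] [FaithfulSMul G α]
    (T3 : ∀ a b c a' b' c' : α, a ≠ b → b ≠ c → a ≠ c → a' ≠ b' → b' ≠ c' → a' ≠ c' →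
      ∃ g : G, g • a = a' ∧ g • b = b' ∧ g • c = c')
    (S3 : ∀ g : G, ∀ a b c : α, a ≠ b → b ≠ c → a ≠ c → g • a = a → g • b = b → g • c = c → g = 1)
    {pinf p0 p1 : α} (h01 : p0 ≠ p1) (hi0 : pinf ≠ p0) (hi1 : pinf ≠ p1)
    (hHcomm : ∀ h k : G, h • pinf = pinf → h • p0 = p0 → k • pinf = pinf → k • p0 = p0 →
      h * k = k * h)
    (p : ℕ) (hp : p.Prime) (hcard : Fintype.card α = p + 1) :
    ∃ (F : Type) (_ : Field F) (_ : Fintype F), Fintype.card F = p ∧
      Nonempty (G ≃* Matrix.ProjGenLinGroup (Fin 2) F) := by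
  classical
  haveI : Finite G := Finite.of_injective (MulAction.toPerm : G → Equiv.Perm α)
    MulAction.toPerm_injective
  obtain ⟨KG, kfix, kfpf, ktr, knorm, kcomm⟩ := kernel_data3 T3 S3 h01 hi0 hi1
  have kreg : ∀ k ∈ KG, ∀ k' ∈ KG, ∀ x : α, x ≠ pinf → k • x = k' • x → k = k' := by
    intro k hk k' hk' x hx hkk
    have h1 : (k'⁻¹ * k) • x = x := by rw [mul_smul, hkk, inv_smul_smul]
    by_contra hne
    have h2 : k'⁻¹ * k ≠ 1 := by
      intro h
      apply hne
      have : k = k' * (k'⁻¹ * k) := by group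
      rw [this, h, mul_one]
    exact kfpf _ (KG.mul_mem (KG.inv_mem hk') hk) h2 x hx h1
  -- H
  let H : Subgroup G := MulAction.stabilizer G pinf ⊓ MulAction.stabilizer G p0
  have hHmem : ∀ h : G, h ∈ H ↔ h • pinf = pinf ∧ h • p0 = p0 := by
    intro h
    simp only [H, Subgroup.mem_inf, MulAction.mem_stabilizer_iff]
  have hHtr : ∀ x y : α, x ≠ pinf → x ≠ p0 → y ≠ pinf → y ≠ p0 → ∃ h ∈ H, h • x = y := by
    intro x y hx1 hx2 hy1 hy2
    obtain ⟨g, hg1, hg2, hg3⟩ := T3 pinf p0 x pinf p0 y hi0 (Ne.symm hx2) (Ne.symm hx1) hi0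
      (Ne.symm hy2) (Ne.symm hy1)
    exact ⟨g, (hHmem g).mpr ⟨hg1, hg2⟩, hg3⟩
  have hHreg : ∀ h ∈ H, ∀ x : α, x ≠ pinf → x ≠ p0 → h • x = x → h = 1 := by
    intro h hh x hx1 hx2 hhx
    obtain ⟨h1, h2⟩ := (hHmem h).mp hh
    exact S3 h pinf p0 x hi0 (Ne.symm hx2) (Ne.symm hx1) h1 h2 hhx
  have hHcomm' : ∀ h ∈ H, ∀ k ∈ H, h * k = k * h := by
    intro h hh k hk
    obtain ⟨h1, h2⟩ := (hHmem h).mp hh
    obtain ⟨k1, k2⟩ := (hHmem k).mp hk
    exact hHcomm h k h1 h2 k1 k2
  -- s
  obtain ⟨s, hsi, hs0, hs1⟩ := T3 pinf p0 p1 p0 pinf p1 hi0 h01 hi1 (Ne.symm hi0) hi1 h01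
  have hss : s * s = 1 := by
    apply S3 (s * s) pinf p0 p1 hi0 h01 hi1
    · rw [mul_smul, hsi, hs0]
    · rw [mul_smul, hs0, hsi]
    · rw [mul_smul, hs1, hs1]
  have hsinv : s⁻¹ = s := by rw [inv_eq_iff_mul_eq_one]; exact hss
  have hsH : ∀ h ∈ H, s * h * s⁻¹ ∈ H := by
    intro h hh
    obtain ⟨h1, h2⟩ := (hHmem h).mp hh
    rw [hHmem, hsinv]
    constructor
    · rw [mul_smul, mul_smul, hsi, h2, hs0]
    · rw [mul_smul, mul_smul, hs0, h1, hsi]
  -- field
  obtain ⟨e, heK, he0⟩ := ktr p0 p1 (Ne.symm hi0) (Ne.symm hi1)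
  have he1 : e ≠ 1 := by
    intro h; rw [h, one_smul] at he0; exact h01 he0
  have hnorm : ∀ d ∈ H, ∀ a ∈ KG, d * a * d⁻¹ ∈ KG :=
    fun d hd a ha => knorm d ((hHmem d).mp hd).1 a ha
  have hreg : ∀ a ∈ KG, a ≠ 1 → ∃ d ∈ H, d * e * d⁻¹ = a := by
    intro a ha ha1
    have ha0 : a • p0 ≠ p0 := kfpf a ha ha1 p0 (Ne.symm hi0)
    have hai : a • p0 ≠ pinf := by
      intro h
      have := h.trans (kfix a ha).symm
      exact hi0 (MulAction.injective a this).symm
    obtain ⟨d, hd, hd1⟩ := hHtr p1 (a • p0) (Ne.symm hi1) (Ne.symm h01) hai ha0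
    refine ⟨d, hd, ?_⟩
    apply kreg _ (hnorm d hd e heK) _ ha p0 (Ne.symm hi0)
    have : d⁻¹ • p0 = p0 := by rw [inv_smul_eq_iff, ((hHmem d).mp hd).2]
    rw [mul_smul, mul_smul, this, he0, hd1]
  haveI : Finite ↥KG := inferInstance
  obtain ⟨F, instF, instFin, ι, δ, hιinj, hιsurj, hιK, hιadd, hι1, hδ⟩ :=
    exists_field_of_regular KG H kcomm hHcomm' hnorm e heK he1 hreg
  have hι0 : ι 0 = 1 := by
    have := hιadd 0 0
    rw [add_zero] at this
    exact mul_left_cancel (a := ι 0) (by rw [mul_one]; exact this.symm)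
  have hιi : ∀ x, ι x • pinf = pinf := fun x => kfix _ (hιK x)
  have hδH : ∀ m, m ≠ 0 → δ m • pinf = pinf ∧ δ m • p0 = p0 :=
    fun m hm => (hHmem _).mp (hδ m hm).1
  -- φ
  let φ : OnePoint F → α := fun p => match p with
    | ∞ => pinf
    | (x : F) => ι x • p0
  have hφi : φ ∞ = pinf := rfl
  have hφc : ∀ x : F, φ (x : OnePoint F) = ι x • p0 := fun x => rfl
  have hφne : ∀ x : F, φ (x : OnePoint F) ≠ pinf := by
    intro x h
    rw [hφc] at h
    have := h.trans (hιi x).symm
    exact hi0 (MulAction.injective (ι x) this).symm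
  have hφbij : Function.Bijective φ := by
    constructor
    · intro p q hpq
      cases p with
      | infty =>
        cases q with
        | infty => rfl
        | coe y => exact absurd hpq.symm (hφne y)
      | coe x =>
        cases q with
        | infty => exact absurd hpq (hφne x)
        | coe y =>
          rw [hφc, hφc] at hpq
          have := kreg _ (hιK x) _ (hιK y) p0 (Ne.symm hi0) hpq
          rw [hιinj this]
    · intro y
      by_cases hy : y = pinf
      · exact ⟨∞, hy.symm⟩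
      · obtain ⟨k, hk, hky⟩ := ktr p0 y (Ne.symm hi0) hy
        obtain ⟨x, hx⟩ := hιsurj k hk
        exact ⟨(x : OnePoint F), by rw [hφc, hx, hky]⟩
  have hφ0 : φ ((0 : F) : OnePoint F) = p0 := by rw [hφc, hι0, one_smul]
  have hφ1 : φ ((1 : F) : OnePoint F) = p1 := by rw [hφc, hι1, he0]
  have hφinj : ∀ x y : F, φ (x : OnePoint F) = φ (y : OnePoint F) → x = y := by
    intro x y h
    have := @Function.Bijective.injective _ _ φ hφbij (x : OnePoint F) (y : OnePoint F) h
    exact OnePoint.coe_injective this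
  have hδsmul : ∀ m : F, m ≠ 0 → ∀ x : F, δ m • φ (x : OnePoint F) = φ ((m * x : F) : OnePoint F) := by
    intro m hm x
    rw [hφc, hφc, (hδ m hm).2 x, mul_smul, mul_smul, inv_smul_eq_iff.mpr (hδH m hm).2.symm]
  have hιsmul : ∀ b x : F, ι b • φ (x : OnePoint F) = φ ((x + b : F) : OnePoint F) := by
    intro b x
    rw [hφc, hφc, ← mul_smul, ← hιadd, add_comm]
  have hδinv : ∀ m : F, m ≠ 0 → δ m⁻¹ = (δ m)⁻¹ := by
    intro m hm
    have hm' : m⁻¹ ≠ 0 := inv_ne_zero hm
    have h1 : (δ m⁻¹ * δ m) • p1 = p1 := by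
      rw [mul_smul, ← hφ1, hδsmul m hm, hδsmul _ hm', mul_one, inv_mul_cancel₀ hm]
    have h2 := hHreg _ (H.mul_mem (hδ _ hm').1 (hδ m hm).1) p1 (Ne.symm hi1) (Ne.symm h01) h1
    exact eq_inv_of_mul_eq_one_left h2
  -- σ
  have hσex : ∀ x : F, ∃ y : F, x ≠ 0 → (y ≠ 0 ∧ s • φ (x : OnePoint F) = φ (y : OnePoint F)) := by
    intro x
    by_cases hx : x = 0
    · exact ⟨0, fun h => absurd hx h⟩
    · obtain ⟨q, hq⟩ := hφbij.2 (s • φ (x : OnePoint F))
      cases q with
      | infty =>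
        exfalso
        rw [hφi, ← hs0] at hq
        have := MulAction.injective s hq
        rw [← hφ0] at this
        exact hx (hφinj _ _ this).symm
      | coe y =>
        refine ⟨y, fun _ => ⟨?_, hq.symm⟩⟩
        intro hy
        rw [hy, hφ0, ← hsi] at hq
        have := MulAction.injective s hq
        exact hφne x this.symm
  choose σ hσ using hσex
  have hσne : ∀ x : F, x ≠ 0 → σ x ≠ 0 := fun x hx => (hσ x hx).1
  have hσs : ∀ x : F, x ≠ 0 → s • φ (x : OnePoint F) = φ (σ x : OnePoint F) := fun x hx => (hσ x hx).2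
  have hσ1 : σ 1 = 1 := by
    apply hφinj
    rw [← hσs 1 one_ne_zero, hφ1, hs1]
  have hσinj : ∀ x y : F, x ≠ 0 → y ≠ 0 → σ x = σ y → x = y := by
    intro x y hx hy h
    apply hφinj
    apply MulAction.injective s
    show s • φ (x : OnePoint F) = s • φ (y : OnePoint F)
    rw [hσs x hx, hσs y hy, h]
  have hkey : ∀ m : F, m ≠ 0 → s * δ m * s⁻¹ = δ (σ m) := by
    intro m hm
    have h1 : s * δ m * s⁻¹ ∈ H := hsH _ (hδ m hm).1
    have h2 : δ (σ m) ∈ H := (hδ _ (hσne m hm)).1
    have h3 : ((δ (σ m))⁻¹ * (s * δ m * s⁻¹)) • p1 = p1 := by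
      rw [mul_smul, mul_smul, mul_smul, hsinv, hs1, inv_smul_eq_iff, ← hφ1,
        hδsmul m hm, hδsmul _ (hσne m hm), mul_one, mul_one, hσs m hm]
    have h4 := hHreg _ (H.mul_mem (H.inv_mem h2) h1) p1 (Ne.symm hi1) (Ne.symm h01) h3
    have : s * δ m * s⁻¹ = δ (σ m) * ((δ (σ m))⁻¹ * (s * δ m * s⁻¹)) := by group
    rw [this, h4, mul_one]
  have hσmul : ∀ m x : F, m ≠ 0 → x ≠ 0 → σ (m * x) = σ m * σ x := by
    intro m x hm hx
    apply hφinj
    have h1 : s • φ ((m * x : F) : OnePoint F) = (s * δ m * s⁻¹) • (s • φ (x : OnePoint F)) := by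
      rw [mul_smul, mul_smul, inv_smul_smul, hδsmul m hm]
    rw [← hσs _ (mul_ne_zero hm hx), h1, hkey m hm, hσs x hx, hδsmul _ (hσne m hm)]
  have hσinv : ∀ x : F, x ≠ 0 → σ x⁻¹ = (σ x)⁻¹ := by
    intro x hx
    have h1 := hσmul x x⁻¹ hx (inv_ne_zero hx)
    rw [mul_inv_cancel₀ hx, hσ1] at h1
    exact eq_inv_of_mul_eq_one_right h1.symm
  have hσneg : σ (-1) = -1 := by
    by_cases h2 : (-1 : F) = 1
    · rw [h2, hσ1]
    · have hm1 : (-1 : F) ≠ 0 := by simp
      have h1 := hσmul (-1) (-1) hm1 hm1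
      rw [neg_one_mul, neg_neg, hσ1] at h1
      have h3 : σ (-1) = 1 ∨ σ (-1) = -1 := by
        have : (σ (-1) - 1) * (σ (-1) + 1) = 0 := by ring_nf; rw [sq, ← h1]; ring
        rcases mul_eq_zero.mp this with h | h
        · left; exact sub_eq_zero.mp h
        · right; exact eq_neg_of_add_eq_zero_left h
      rcases h3 with h | h
      · exfalso
        apply h2
        exact hσinj _ _ hm1 one_ne_zero (h.trans hσ1.symm)
      · exact h
  -- the basic relation
  have hm1' : (-1 : F) ≠ 0 := by simp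
  have hrel : s * ι 1 * s = ι 1 * δ (-1) * s * ι 1 := by
    have hd := hδH (-1) hm1'
    have hpm : φ ((-1 : F) : OnePoint F) ≠ p0 := by
      rw [← hφ0]
      intro h
      exact hm1' (hφinj _ _ h)
    have hg : ((ι 1 * δ (-1) * s * ι 1)⁻¹ * (s * ι 1 * s)) = 1 := by
      apply S3 _ pinf p0 (φ ((-1 : F) : OnePoint F)) hi0 (Ne.symm hpm) (Ne.symm (hφne _))
      · rw [mul_smul, inv_smul_eq_iff, mul_smul, mul_smul, hsi, ← hφ0, hιsmul, zero_add, hφ1,
          hs1, mul_smul, mul_smul, mul_smul, hιi, hsi, hd.2, ← hφ0, hιsmul, zero_add, hφ1]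
      · rw [mul_smul, inv_smul_eq_iff, mul_smul, mul_smul, hs0, hιi, hsi, mul_smul, mul_smul,
          mul_smul, ← hφ0, hιsmul, zero_add, hσs 1 one_ne_zero, hσ1, hδsmul _ hm1', mul_one,
          hιsmul, neg_add_cancel]
      · rw [mul_smul, inv_smul_eq_iff, mul_smul, mul_smul, hσs _ hm1', hσneg, hιsmul,
          neg_add_cancel, hφ0, hs0, mul_smul, mul_smul, mul_smul, hιsmul, neg_add_cancel, hφ0,
          hs0, hd.1, hιi]
    have : s * ι 1 * s = (ι 1 * δ (-1) * s * ι 1) * ((ι 1 * δ (-1) * s * ι 1)⁻¹ * (s * ι 1 * s)) := by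
      group
    rw [this, hg, mul_one]
  have hFE : ∀ x : F, x ≠ 0 → x + 1 ≠ 0 → σ (σ x + 1) = 1 - σ (x + 1) := by
    intro x hx hx1
    have hσx1 : σ x + 1 ≠ 0 := by
      intro h
      have h1 : σ x = σ (-1) := by rw [hσneg]; exact eq_neg_of_add_eq_zero_left h
      have h2 := hσinj _ _ hx hm1' h1
      apply hx1
      rw [h2]; ring
    apply hφinj
    have h1 : (s * ι 1 * s) • φ (x : OnePoint F) = φ ((σ (σ x + 1) : F) : OnePoint F) := by
      rw [mul_smul, mul_smul, hσs x hx, hιsmul, hσs _ hσx1]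
    have h2 : (ι 1 * δ (-1) * s * ι 1) • φ (x : OnePoint F) = φ ((1 - σ (x + 1) : F) : OnePoint F) := by
      have e : (-1 : F) * σ (x + 1) + 1 = 1 - σ (x + 1) := by ring
      rw [mul_smul, mul_smul, mul_smul, hιsmul, hσs _ hx1, hδsmul _ hm1', hιsmul, e]
    rw [← h1, hrel, h2]
  -- card F
  have hcardF : Fintype.card F = p := by
    have h1 : Nat.card (OnePoint F) = Nat.card α := Nat.card_eq_of_bijective φ hφbij
    have h2 : Nat.card (OnePoint F) = Nat.card F + 1 := by
      have : Nat.card (Option F) = Nat.card F + 1 := by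
        rw [Nat.card_eq_fintype_card, Nat.card_eq_fintype_card, Fintype.card_option]
      exact this
    have h3 : Nat.card F = Fintype.card F := Nat.card_eq_fintype_card
    have h4 : Nat.card α = Fintype.card α := Nat.card_eq_fintype_card
    omega
  -- σ n = n⁻¹
  have hnat : ∀ n : ℕ, (n : F) ≠ 0 → σ (n : F) = (n : F)⁻¹ := by
    intro n
    induction n with
    | zero => intro h; exact absurd (by simp) h
    | succ n ih =>
      intro hn1
      by_cases hn : (n : F) = 0
      · have : ((n + 1 : ℕ) : F) = 1 := by rw [Nat.cast_succ, hn, zero_add]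
        rw [this, hσ1, inv_one]
      · have ih' := ih hn
        have hn1' : (n : F) + 1 ≠ 0 := by
          have : ((n + 1 : ℕ) : F) = (n : F) + 1 := Nat.cast_succ n
          rw [← this]; exact hn1
        have h1 := hFE (n : F) hn hn1'
        rw [ih'] at h1
        have h2 : (n : F)⁻¹ + 1 = ((n : F) + 1) * (n : F)⁻¹ := by
          rw [add_mul, mul_inv_cancel₀ hn, one_mul, add_comm]
        rw [h2, hσmul _ _ hn1' (inv_ne_zero hn), hσinv _ hn, ih', inv_inv] at h1
        have h3 : σ ((n : F) + 1) * ((n : F) + 1) = 1 := by linear_combination h1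
        have : ((n + 1 : ℕ) : F) = (n : F) + 1 := Nat.cast_succ n
        rw [this]
        exact eq_inv_of_mul_eq_one_left h3
  have hσall : ∀ x : F, x ≠ 0 → σ x = x⁻¹ := by
    intro x hx
    haveI : Fact p.Prime := ⟨hp⟩
    let eF : ZMod p ≃+* F := ZMod.ringEquivOfPrime F hp hcardF
    obtain ⟨z, rfl⟩ := eF.surjective x
    have hz : eF z = ((z.val : ℕ) : F) := by
      conv_lhs => rw [← ZMod.natCast_zmod_val z]
      rw [map_natCast]
    rw [hz] at hx ⊢
    exact hnat _ hx
  let D : MoebiusData G α F :=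
    { φ := φ
      φ_bij := hφbij
      ι := ι
      δ := δ
      s := s
      ι_smul := hιsmul
      ι_infty := fun b => hιi b
      δ_smul := hδsmul
      δ_infty := fun m hm => (hδH m hm).1
      s_infty := by rw [hφi, hφ0, hsi]
      s_zero := by rw [hφi, hφ0, hs0]
      s_smul := by
        intro x hx
        rw [hσs x hx, hσall x hx]
      stab := by
        intro g hg
        have hg0 : g • p0 ≠ pinf := by
          intro h
          have := h.trans hg.symm
          exact hi0 (MulAction.injective g this).symm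
        obtain ⟨p, hp⟩ := hφbij.2 (g • p0)
        cases p with
        | infty => exact absurd hp.symm hg0
        | coe b =>
          rw [hφc] at hp
          have hh : (ι b)⁻¹ * g ∈ H := by
            rw [hHmem]
            constructor
            · rw [mul_smul, hg, inv_smul_eq_iff, hιi]
            · rw [mul_smul, inv_smul_eq_iff, hp]
          have hh1i : ((ι b)⁻¹ * g) • p1 ≠ pinf := by
            intro h
            have := h.trans ((hHmem _).mp hh).1.symm
            exact hi1 (MulAction.injective _ this).symm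
          have hh10 : ((ι b)⁻¹ * g) • p1 ≠ p0 := by
            intro h
            have := h.trans ((hHmem _).mp hh).2.symm
            exact h01 (MulAction.injective _ this).symm
          obtain ⟨q, hq⟩ := hφbij.2 (((ι b)⁻¹ * g) • p1)
          cases q with
          | infty => exact absurd hq.symm hh1i
          | coe m =>
            have hm : m ≠ 0 := by
              intro h
              rw [h, hφ0] at hq
              exact hh10 hq.symm
            have h5 : ((δ m)⁻¹ * ((ι b)⁻¹ * g)) • p1 = p1 := by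
              rw [mul_smul, ← hq, inv_smul_eq_iff, ← hφ1, hδsmul m hm, mul_one]
            have h6 := hHreg _ (H.mul_mem (H.inv_mem (hδ m hm).1) hh) p1 (Ne.symm hi1)
              (Ne.symm h01) h5
            refine ⟨b, m, hm, ?_⟩
            have : g = ι b * (δ m * ((δ m)⁻¹ * ((ι b)⁻¹ * g))) := by group
            rw [this, h6, mul_one] }
  exact ⟨F, instF, instFin, hcardF, D.nonempty_mulEquiv_PGL⟩

end Cfsg.Agent.Lib.helper6.Sharp3
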