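import Mathlib

set_option autoImplicit false

namespace Cfsg.Agent.Lib.helper6.ZassPSL1

variable {G Ω : Type*} [Group G] [MulAction G Ω]

/-- A fixed-point-free involutory "automorphism" inverts. -/
theorem fpf_invol_inverts (K : Subgroup G) [Finite K] (j : G) (hjj : j * j = 1)
    (hnorm : ∀ k ∈ K, j * k * j⁻¹ ∈ K) (hfpf : ∀ k ∈ K, j * k * j⁻¹ = k → k = 1) :
    (∀ k ∈ K, j * k * j⁻¹ = k⁻¹) ∧ (∀ x ∈ K, ∀ y ∈ K, x * y = y * x) := by
  let ψ : K → K := fun h => ⟨(h : G)⁻¹ * (j * (h : G) * j⁻¹), K.mul_mem (K.inv_mem h.2) (hnorm _ h.2)⟩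
  have hψinj : Function.Injective ψ := by
    intro h h' hh
    have h1 : (h : G)⁻¹ * (j * (h : G) * j⁻¹) = (h' : G)⁻¹ * (j * (h' : G) * j⁻¹) :=
      congrArg Subtype.val hh
    have h2 : j * ((h' : G) * (h : G)⁻¹) * j⁻¹ = (h' : G) * (h : G)⁻¹ := by
      calc j * ((h' : G) * (h : G)⁻¹) * j⁻¹
          = (h' : G) * ((h' : G)⁻¹ * (j * (h' : G) * j⁻¹)) * (j * (h : G)⁻¹ * j⁻¹) := by group
        _ = (h' : G) * ((h : G)⁻¹ * (j * (h : G) * j⁻¹)) * (j * (h : G)⁻¹ * j⁻¹) := by rw [h1]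
        _ = (h' : G) * (h : G)⁻¹ := by group
    have h3 := hfpf _ (K.mul_mem h'.2 (K.inv_mem h.2)) h2
    apply Subtype.ext
    have : (h : G) = ((h' : G) * (h : G)⁻¹)⁻¹ * (h' : G) := by group
    rw [this, h3, inv_one, one_mul]
  have hψsurj : Function.Surjective ψ := Finite.surjective_of_injective hψinj
  have hinvert : ∀ h ∈ K, j * h * j⁻¹ = h⁻¹ := by
    intro h hh
    obtain ⟨k, hk⟩ := hψsurj ⟨h, hh⟩
    have hk' : (k : G)⁻¹ * (j * (k : G) * j⁻¹) = h := congrArg Subtype.val hk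
    rw [← hk']
    calc j * ((k : G)⁻¹ * (j * (k : G) * j⁻¹)) * j⁻¹
        = (j * (k : G)⁻¹ * j⁻¹) * ((j * j) * (k : G) * (j * j)⁻¹) := by group
      _ = (j * (k : G)⁻¹ * j⁻¹) * (k : G) := by rw [hjj]; group
      _ = ((k : G)⁻¹ * (j * (k : G) * j⁻¹))⁻¹ := by group
  refine ⟨hinvert, ?_⟩
  intro h hh k hk
  have h1 := hinvert _ (K.mul_mem hh hk)
  have h2 := hinvert h hh
  have h3 := hinvert k hk
  have h4 : j * (h * k) * j⁻¹ = (j * h * j⁻¹) * (j * k * j⁻¹) := by group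
  rw [h1, h2, h3] at h4
  have h5 : (h * k)⁻¹ = (k * h)⁻¹ := by rw [h4]; group
  exact inv_injective h5

/-- Basic hypotheses on a Zassenhaus-type group with marked points, kernel and involution. -/
structure ZP (G Ω : Type*) [Group G] [MulAction G Ω] (pinf p0 : Ω) (KG : Subgroup G) (j : G) :
    Prop where
  two : ∀ {a b c d : Ω}, a ≠ b → c ≠ d → ∃ g : G, g • a = c ∧ g • b = d
  three : ∀ g : G, ∀ a b c : Ω, a ≠ b → b ≠ c → a ≠ c → g • a = a → g • b = b → g • c = c → g = 1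
  hi0 : pinf ≠ p0
  kfix : ∀ k ∈ KG, k • pinf = pinf
  kfpf : ∀ k ∈ KG, k ≠ 1 → ∀ x : Ω, x ≠ pinf → k • x ≠ x
  ktr : ∀ x y : Ω, x ≠ pinf → y ≠ pinf → ∃ k ∈ KG, k • x = y
  knorm : ∀ g : G, g • pinf = pinf → ∀ k ∈ KG, g * k * g⁻¹ ∈ KG
  hj1 : j ≠ 1
  hjj : j * j = 1
  hji : j • pinf = pinf
  hj0 : j • p0 = p0

variable {pinf p0 : Ω} {KG : Subgroup G} {j : G}

namespace ZP

variable (Z : ZP G Ω pinf p0 KG j)
include Z

theorem ne_of_smul {k : G} (hk : k ∈ KG) {x : Ω} (hx : x ≠ pinf) : k • x ≠ pinf := by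
  intro h
  have := h.trans (Z.kfix k hk).symm
  exact hx (MulAction.injective k this)

/-- an element of the two-point stabiliser commuting with a nontrivial kernel element is trivial -/
theorem H_semireg {h : G} (hhi : h • pinf = pinf) (hh0 : h • p0 = p0) {k : G} (hk : k ∈ KG)
    (hk1 : k ≠ 1) (hc : h * k * h⁻¹ = k) : h = 1 := by
  have h1 : h • (k • p0) = k • p0 := by
    have : h * k = k * h := by
      calc h * k = (h * k * h⁻¹) * h := by group
        _ = k * h := by rw [hc]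
    rw [← mul_smul, this, mul_smul, hh0]
  have h2 : k • p0 ≠ p0 := Z.kfpf k hk hk1 p0 (Ne.symm Z.hi0)
  have h3 : k • p0 ≠ pinf := Z.ne_of_smul hk (Ne.symm Z.hi0)
  exact Z.three h pinf p0 (k • p0) Z.hi0 (Ne.symm h2) (Ne.symm h3) hhi hh0 h1

/-- any involution in the two-point stabiliser inverts the kernel -/
theorem invol_inverts [Finite KG] {t : G} (htt : t * t = 1) (ht1 : t ≠ 1) (hti : t • pinf = pinf)
    (ht0 : t • p0 = p0) :
    (∀ k ∈ KG, t * k * t⁻¹ = k⁻¹) ∧ (∀ x ∈ KG, ∀ y ∈ KG, x * y = y * x) := by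
  apply fpf_invol_inverts KG t htt (Z.knorm t hti)
  intro k hk hc
  by_contra hk1
  exact ht1 (Z.H_semireg hti ht0 hk hk1 hc)

/-- uniqueness of the involution of the standard two-point stabiliser -/
theorem invol_unique0 [Finite KG] {t t' : G} (htt : t * t = 1) (ht1 : t ≠ 1)
    (hti : t • pinf = pinf) (ht0 : t • p0 = p0) (htt' : t' * t' = 1) (ht1' : t' ≠ 1)
    (hti' : t' • pinf = pinf) (ht0' : t' • p0 = p0) {p1 : Ω} (h1i : p1 ≠ pinf) (h10 : p1 ≠ p0) :
    t = t' := by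
  obtain ⟨k, hk, hk0⟩ := Z.ktr p0 p1 (Ne.symm Z.hi0) h1i
  have hk1 : k ≠ 1 := by
    intro h; rw [h, one_smul] at hk0; exact h10 hk0.symm
  have e1 := (Z.invol_inverts htt ht1 hti ht0).1 k hk
  have e2 := (Z.invol_inverts htt' ht1' hti' ht0').1 k hk
  have hc : (t'⁻¹ * t) * k * (t'⁻¹ * t)⁻¹ = k := by
    calc (t'⁻¹ * t) * k * (t'⁻¹ * t)⁻¹ = t'⁻¹ * (t * k * t⁻¹) * t' := by group
      _ = t'⁻¹ * k⁻¹ * t' := by rw [e1]
      _ = t'⁻¹ * (t' * k * t'⁻¹) * t' := by rw [e2]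
      _ = k := by group
  have h1 := Z.H_semireg (h := t'⁻¹ * t)
    (by rw [mul_smul, hti, inv_smul_eq_iff, hti']) (by rw [mul_smul, ht0, inv_smul_eq_iff, ht0'])
    hk hk1 hc
  have : t = t' * (t'⁻¹ * t) := by group
  rw [this, h1, mul_one]

/-- uniqueness of the involution of any two-point stabiliser -/
theorem invol_unique [Finite KG] {t t' : G} {x y : Ω} (hxy : x ≠ y) (htt : t * t = 1) (ht1 : t ≠ 1)
    (htx : t • x = x) (hty : t • y = y) (htt' : t' * t' = 1) (ht1' : t' ≠ 1)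
    (htx' : t' • x = x) (hty' : t' • y = y) {p1 : Ω} (h1i : p1 ≠ pinf) (h10 : p1 ≠ p0) :
    t = t' := by
  obtain ⟨g, hgx, hgy⟩ := Z.two hxy Z.hi0
  have key : ∀ u : G, u * u = 1 → u ≠ 1 → u • x = x → u • y = y →
      (g * u * g⁻¹) * (g * u * g⁻¹) = 1 ∧ g * u * g⁻¹ ≠ 1 ∧ (g * u * g⁻¹) • pinf = pinf ∧
        (g * u * g⁻¹) • p0 = p0 := by
    intro u huu hu1 hux huy
    refine ⟨?_, ?_, ?_, ?_⟩
    · calc (g * u * g⁻¹) * (g * u * g⁻¹) = g * (u * u) * g⁻¹ := by group
        _ = 1 := by rw [huu]; group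
    · intro h
      apply hu1
      have : u = g⁻¹ * (g * u * g⁻¹) * g := by group
      rw [this, h]; group
    · rw [mul_smul, mul_smul, inv_smul_eq_iff.mpr hgx.symm, hux, hgx]
    · rw [mul_smul, mul_smul, inv_smul_eq_iff.mpr hgy.symm, huy, hgy]
  obtain ⟨a1, a2, a3, a4⟩ := key t htt ht1 htx hty
  obtain ⟨b1, b2, b3, b4⟩ := key t' htt' ht1' htx' hty'
  have := Z.invol_unique0 a1 a2 a3 a4 b1 b2 b3 b4 h1i h10
  have e : t = g⁻¹ * (g * t * g⁻¹) * g := by group
  rw [e, this]; group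

/-- fixed points of `j` -/
theorem fix_j {x : Ω} (hx : j • x = x) : x = pinf ∨ x = p0 := by
  by_contra h
  push Not at h
  exact Z.hj1 (Z.three j pinf p0 x Z.hi0 (Ne.symm h.2) (Ne.symm h.1) Z.hji Z.hj0 hx)

theorem j_inv : j⁻¹ = j := by rw [inv_eq_iff_mul_eq_one]; exact Z.hjj

/-- for `c` outside `{pinf, p0}`, an involution fixing `c` and `j • c` that swaps `pinf`, `p0` -/
theorem exists_tc [Finite KG] {c : Ω} (hci : c ≠ pinf) (hc0 : c ≠ p0) :
    ∃ t : G, t * t = 1 ∧ t ≠ 1 ∧ t • c = c ∧ t • (j • c) = j • c ∧ t • pinf = p0 ∧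
      t • p0 = pinf := by
  have hjc : c ≠ j • c := by
    intro h
    rcases Z.fix_j h.symm with h1 | h1
    · exact hci h1
    · exact hc0 h1
  obtain ⟨g, hgi, hg0⟩ := Z.two Z.hi0 hjc
  have htt : (g * j * g⁻¹) * (g * j * g⁻¹) = 1 := by
    calc (g * j * g⁻¹) * (g * j * g⁻¹) = g * (j * j) * g⁻¹ := by group
      _ = 1 := by rw [Z.hjj]; group
  have ht1 : g * j * g⁻¹ ≠ 1 := by
    intro h
    apply Z.hj1
    have : j = g⁻¹ * (g * j * g⁻¹) * g := by group
    rw [this, h]; group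
  have htc : (g * j * g⁻¹) • c = c := by
    rw [mul_smul, mul_smul, inv_smul_eq_iff.mpr hgi.symm, Z.hji, hgi]
  have htjc : (g * j * g⁻¹) • (j • c) = j • c := by
    rw [mul_smul, mul_smul, inv_smul_eq_iff.mpr hg0.symm, Z.hj0, hg0]
  set t := g * j * g⁻¹ with ht
  -- `j` centralizes `t`
  have hjt : j * t * j⁻¹ = t := by
    have a1 : (j * t * j⁻¹) * (j * t * j⁻¹) = 1 := by
      calc (j * t * j⁻¹) * (j * t * j⁻¹) = j * (t * t) * j⁻¹ := by group
        _ = 1 := by rw [htt]; group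
    have a2 : j * t * j⁻¹ ≠ 1 := by
      intro h
      apply ht1
      have : t = j⁻¹ * (j * t * j⁻¹) * j := by group
      rw [this, h]; group
    have a3 : (j * t * j⁻¹) • c = c := by
      rw [mul_smul, mul_smul, Z.j_inv, htjc, ← mul_smul, Z.hjj, one_smul]
    have a4 : (j * t * j⁻¹) • (j • c) = j • c := by
      rw [mul_smul, mul_smul, Z.j_inv, ← mul_smul j j, Z.hjj, one_smul, htc]
    exact Z.invol_unique hjc a1 a2 a3 a4 htt ht1 htc htjc hci hc0
  have hcomm : j * t = t * j := by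
    calc j * t = (j * t * j⁻¹) * j := by group
      _ = t * j := by rw [hjt]
  have hfix : j • (t • pinf) = t • pinf := by
    rw [← mul_smul, hcomm, mul_smul, Z.hji]
  have htinf : t • pinf = p0 := by
    rcases Z.fix_j hfix with h | h
    · exfalso
      apply ht1
      exact Z.three t c (j • c) pinf hjc
        (fun h' => hci (by
          have : j • (j • c) = j • pinf := by rw [h']
          rw [← mul_smul, Z.hjj, one_smul, Z.hji] at this
          exact this)) hci htc htjc h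
    · exact h
  refine ⟨t, htt, ht1, htc, htjc, htinf, ?_⟩
  rw [← htinf, ← mul_smul, htt, one_smul]

/-- every element swapping `pinf` and `p0` is an involution -/
theorem swap_invol [Fintype Ω] [Finite G]
    (hcard : 2 * Nat.card ↥(MulAction.stabilizer G pinf ⊓ MulAction.stabilizer G p0) + 2 =
      Fintype.card Ω)
    {g : G} (hgi : g • pinf = p0) (hg0 : g • p0 = pinf) : g * g = 1 := by
  classical
  letI : Fintype G := Fintype.ofFinite G
  haveI : Finite KG := inferInstance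
  have hex : ∀ c : Ω, ∃ t : G, c ≠ pinf → c ≠ p0 →
      (t * t = 1 ∧ t ≠ 1 ∧ t • c = c ∧ t • (j • c) = j • c ∧ t • pinf = p0 ∧ t • p0 = pinf) := by
    intro c
    by_cases hci : c = pinf
    · exact ⟨1, fun h => absurd hci h⟩
    · by_cases hc0 : c = p0
      · exact ⟨1, fun _ h => absurd hc0 h⟩
      · obtain ⟨t, ht⟩ := Z.exists_tc hci hc0
        exact ⟨t, fun _ _ => ht⟩
  choose f hf using hex
  let A : Finset Ω := Finset.univ.filter (fun c => c ≠ pinf ∧ c ≠ p0)
  let S : Finset G := Finset.univ.filter (fun g => g • pinf = p0 ∧ g • p0 = pinf)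
  have hAcard : A.card + 2 = Fintype.card Ω := by
    have h1 : A = (Finset.univ.erase pinf).erase p0 := by
      ext c
      simp only [A, Finset.mem_filter, Finset.mem_univ, true_and, Finset.mem_erase]
      tauto
    rw [h1, Finset.card_erase_of_mem, Finset.card_erase_of_mem (Finset.mem_univ _),
      Finset.card_univ]
    · have : 2 ≤ Fintype.card Ω := by omega
      omega
    · rw [Finset.mem_erase]
      exact ⟨Ne.symm Z.hi0, Finset.mem_univ _⟩
  have himg : A.image f ⊆ S := by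
    intro t ht
    obtain ⟨c, hc, rfl⟩ := Finset.mem_image.mp ht
    have hc' := (Finset.mem_filter.mp hc).2
    obtain ⟨-, -, -, -, h5, h6⟩ := hf c hc'.1 hc'.2
    exact Finset.mem_filter.mpr ⟨Finset.mem_univ _, h5, h6⟩
  have hfib : ∀ t ∈ A.image f, (A.filter (fun c => f c = t)).card ≤ 2 := by
    intro t ht
    obtain ⟨c0, hc0, rfl⟩ := Finset.mem_image.mp ht
    have hc0' := (Finset.mem_filter.mp hc0).2
    obtain ⟨h1, h2, h3, h4, -, -⟩ := hf c0 hc0'.1 hc0'.2
    have hjc0 : c0 ≠ j • c0 := by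
      intro h
      rcases Z.fix_j h.symm with h' | h'
      · exact hc0'.1 h'
      · exact hc0'.2 h'
    have hsub : A.filter (fun c => f c = f c0) ⊆ {c0, j • c0} := by
      intro c hc
      obtain ⟨hcA, hfc⟩ := Finset.mem_filter.mp hc
      have hc' := (Finset.mem_filter.mp hcA).2
      obtain ⟨-, -, g3, -, -, -⟩ := hf c hc'.1 hc'.2
      rw [hfc] at g3
      rw [Finset.mem_insert, Finset.mem_singleton]
      by_contra hne
      push Not at hne
      exact h2 (Z.three (f c0) c0 (j • c0) c hjc0 (Ne.symm hne.2) (Ne.symm hne.1) h3 h4 g3)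
    exact (Finset.card_le_card hsub).trans Finset.card_le_two
  have h1 : A.card ≤ 2 * (A.image f).card := Finset.card_le_mul_card_image A 2 hfib
  -- card S = card H
  obtain ⟨s0, hs0i, hs00⟩ := Z.two Z.hi0 (Ne.symm Z.hi0)
  let HF : Finset G := Finset.univ.filter
    (fun h => h ∈ MulAction.stabilizer G pinf ⊓ MulAction.stabilizer G p0)
  have hHF : HF.card = Nat.card ↥(MulAction.stabilizer G pinf ⊓ MulAction.stabilizer G p0) := by
    rw [Nat.card_eq_fintype_card, Fintype.card_subtype]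
  have hS : S = HF.image (fun h => s0 * h) := by
    ext g
    simp only [S, HF, Finset.mem_filter, Finset.mem_univ, true_and, Finset.mem_image,
      Subgroup.mem_inf, MulAction.mem_stabilizer_iff]
    constructor
    · rintro ⟨hg1, hg2⟩
      refine ⟨s0⁻¹ * g, ⟨?_, ?_⟩, by group⟩
      · rw [mul_smul, hg1, inv_smul_eq_iff]; exact hs0i.symm
      · rw [mul_smul, hg2, inv_smul_eq_iff]; exact hs00.symm
    · rintro ⟨h, ⟨hh1, hh2⟩, rfl⟩
      exact ⟨by rw [mul_smul, hh1, hs0i], by rw [mul_smul, hh2, hs00]⟩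
  have hScard : S.card = HF.card := by
    rw [hS]
    exact Finset.card_image_of_injective _ (mul_right_injective s0)
  have h2 : (A.image f).card ≤ S.card := Finset.card_le_card himg
  have h3 : S.card ≤ (A.image f).card := by
    rw [hScard, hHF]
    omega
  have h4 : A.image f = S := Finset.eq_of_subset_of_card_le himg h3
  have hg : g ∈ S := Finset.mem_filter.mpr ⟨Finset.mem_univ _, hgi, hg0⟩
  rw [← h4] at hg
  obtain ⟨c, hc, rfl⟩ := Finset.mem_image.mp hg
  have hc' := (Finset.mem_filter.mp hc).2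
  exact (hf c hc'.1 hc'.2).1

end ZP

end Cfsg.Agent.Lib.helper6.ZassPSL1
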