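import Mathlib
import Cfsg.Agent.Lib.helper6.ZassPSL1
import Cfsg.Agent.Lib.helper6.FieldIrr
import Cfsg.Agent.Lib.helper6.MoebiusRecogS

set_option autoImplicit false

open OnePoint

namespace Cfsg.Agent.Lib.helper6.ZassPSL2

open Cfsg.Agent.Lib.helper6.ZassPSL1 Cfsg.Agent.Lib.helper6.FieldIrr
  Cfsg.Agent.Lib.helper6.MoebiusRecogS

variable {G Ω : Type*} [Group G] [MulAction G Ω]
variable {pinf p0 : Ω} {KG : Subgroup G} {j : G}

/-- Algebraic core: a multiplicative subgroup `M` of index two in a finite field `F`, containing `-1`,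
and an involutory map `σ` on `F` with `σ (m x) = m⁻¹ σ x` satisfying the functional equation is
`x ↦ α / x`. -/
theorem sigma_eq {F : Type*} [Field F] [Fintype F] (M : Subgroup Fˣ) (hM2 : M.index = 2)
    (hneg : (-1 : Fˣ) ∈ M) (σ : F → F) (α : F) (hα0 : α ≠ 0)
    (hσ1 : σ 1 = α)
    (hσ0 : ∀ x : F, x ≠ 0 → σ x ≠ 0)
    (hF1 : ∀ m ∈ M, ∀ x : F, x ≠ 0 → σ ((m : F) * x) = ((m : F))⁻¹ * σ x)
    (hαM : ∃ m ∈ M, (m : F) = α)
    (hFE : ∀ m ∈ M, (m : F) + α ≠ 0 → σ (σ (m : F) + 1) = α - α * σ ((m : F) + α)) :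
    ∀ w : F, w ≠ 0 → σ w = α / w := by
  classical
  have hσM : ∀ m ∈ M, σ (m : F) = α / (m : F) := by
    intro m hm
    have := hF1 m hm 1 one_ne_zero
    rw [mul_one, hσ1] at this
    rw [this]; field_simp
  -- (**)
  have hstar : ∀ m ∈ M, (m : F) + α ≠ 0 → σ ((m : F) + α) = α / ((m : F) + α) := by
    intro m hm hw
    have h1 := hFE m hm hw
    have hm0 : (m : F) ≠ 0 := m.ne_zero
    have h2 : σ (m : F) + 1 = ((m⁻¹ : Fˣ) : F) * ((m : F) + α) := by
      rw [hσM m hm, Units.val_inv_eq_inv_val]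
      field_simp
      ring
    rw [h2, hF1 m⁻¹ (M.inv_mem hm) _ hw, Units.val_inv_eq_inv_val, inv_inv] at h1
    have h3 : σ ((m : F) + α) * ((m : F) + α) = α := by linear_combination h1
    rw [eq_div_iff hw]
    exact h3
  by_cases hcase : ∃ m ∈ M, (m : F) + α ≠ 0 ∧ ∀ u ∈ M, (u : F) ≠ (m : F) + α
  · obtain ⟨m, hm, hw, hnot⟩ := hcase
    intro y hy
    by_cases hyM : ∃ u ∈ M, (u : F) = y
    · obtain ⟨u, hu, rfl⟩ := hyM
      exact hσM u hu
    · -- y and w := m + α both outside M
      let wu : Fˣ := Units.mk0 _ hw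
      let yu : Fˣ := Units.mk0 y hy
      have hwu : wu ∉ M := fun h => hnot wu h rfl
      have hyu : yu ∉ M := fun h => hyM ⟨yu, h, rfl⟩
      have hq : yu * wu⁻¹ ∈ M := by
        rw [Subgroup.mul_mem_iff_of_index_two hM2]
        constructor
        · intro h; exact absurd h hyu
        · intro h; exact absurd (by simpa using M.inv_mem h) hwu
      have hy' : y = ((yu * wu⁻¹ : Fˣ) : F) * ((m : F) + α) := by
        simp only [yu, wu, Units.val_mul, Units.val_mk0, Units.val_inv_eq_inv_val]
        field_simp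
      rw [hy', hF1 _ hq _ hw, hstar m hm hw]
      simp [yu, wu]
      field_simp
  · exfalso
    push Not at hcase
    -- closure of `M ∪ {0}` under addition
    have hMcl : ∀ m ∈ M, (m : F) + α ≠ 0 → ∃ u ∈ M, (u : F) = (m : F) + α := hcase
    obtain ⟨au, hau, haα⟩ := hαM
    have h1 : ∀ m ∈ M, (m : F) + 1 ≠ 0 → ∃ u ∈ M, (u : F) = (m : F) + 1 := by
      intro m hm hne
      have : ((au * m : Fˣ) : F) + α ≠ 0 := by
        rw [Units.val_mul, haα]
        intro h
        apply hne
        have : α * ((m : F) + 1) = 0 := by linear_combination h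
        rcases mul_eq_zero.mp this with h' | h'
        · exact absurd h' hα0
        · exact h'
      obtain ⟨u, hu, hu'⟩ := hMcl (au * m) (M.mul_mem hau hm) this
      refine ⟨au⁻¹ * u, M.mul_mem (M.inv_mem hau) hu, ?_⟩
      rw [Units.val_mul, hu', Units.val_mul, haα, Units.val_inv_eq_inv_val, haα]
      field_simp
    let S : AddSubgroup F :=
      { carrier := {x | x = 0 ∨ ∃ u ∈ M, (u : F) = x}
        zero_mem' := Or.inl rfl
        add_mem' := by
          rintro x y hx hy
          rcases hy with rfl | ⟨v, hv, rfl⟩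
          · rw [add_zero]; exact hx
          · rcases hx with rfl | ⟨u, hu, rfl⟩
            · rw [zero_add]; exact Or.inr ⟨v, hv, rfl⟩
            · by_cases hne : ((u * v⁻¹ : Fˣ) : F) + 1 = 0
              · left
                have : (u : F) + (v : F) = (v : F) * (((u * v⁻¹ : Fˣ) : F) + 1) := by
                  rw [Units.val_mul, Units.val_inv_eq_inv_val]
                  field_simp
                rw [this, hne, mul_zero]
              · right
                obtain ⟨t, ht, ht'⟩ := h1 (u * v⁻¹) (M.mul_mem hu (M.inv_mem hv)) hne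
                refine ⟨v * t, M.mul_mem hv ht, ?_⟩
                rw [Units.val_mul, ht', Units.val_mul, Units.val_inv_eq_inv_val]
                field_simp
        neg_mem' := by
          rintro x hx
          rcases hx with rfl | ⟨u, hu, rfl⟩
          · left; simp
          · right
            exact ⟨-1 * u, M.mul_mem hneg hu, by simp⟩ }
    -- S is proper
    have hMne : ∃ u : Fˣ, u ∉ M := by
      by_contra h
      push Not at h
      have : M = ⊤ := (Subgroup.eq_top_iff' M).mpr h
      rw [this, Subgroup.index_top] at hM2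
      omega
    obtain ⟨u0, hu0⟩ := hMne
    have hSne : S ≠ ⊤ := by
      intro h
      have : (u0 : F) ∈ S := by rw [h]; trivial
      rcases this with h' | ⟨u, hu, hu'⟩
      · exact u0.ne_zero h'
      · exact hu0 (by rwa [← Units.ext hu'])
    have hidx : 2 ≤ S.index := by
      have h0 : S.index ≠ 0 := AddSubgroup.index_ne_zero_of_finite
      have h1' : S.index ≠ 1 := fun h => hSne (AddSubgroup.index_eq_one.mp h)
      omega
    have hcardS : Nat.card S * S.index = Nat.card F := S.card_mul_index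
    have hcardM : Nat.card M * 2 = Nat.card Fˣ := by rw [← hM2]; exact M.card_mul_index
    have hFu : Nat.card Fˣ + 1 = Nat.card F := by
      rw [Nat.card_eq_fintype_card, Nat.card_eq_fintype_card, Fintype.card_units]
      have : 0 < Fintype.card F := Fintype.card_pos
      omega
    have hlt : Nat.card M < Nat.card S := by
      let f : M → S := fun u => ⟨((u : Fˣ) : F), Or.inr ⟨u, u.2, rfl⟩⟩
      have hfinj : Function.Injective f := by
        intro u v huv
        have : ((u : Fˣ) : F) = ((v : Fˣ) : F) := congrArg Subtype.val huv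
        exact Subtype.ext (Units.ext this)
      have hfns : ¬ Function.Surjective f := by
        intro h
        obtain ⟨u, hu⟩ := h ⟨0, Or.inl rfl⟩
        have : ((u : Fˣ) : F) = 0 := congrArg Subtype.val hu
        exact (u : Fˣ).ne_zero this
      letI : Fintype M := Fintype.ofFinite _
      letI : Fintype S := Fintype.ofFinite _
      rw [Nat.card_eq_fintype_card, Nat.card_eq_fintype_card]
      exact Fintype.card_lt_of_injective_not_surjective f hfinj hfns
    nlinarith

/-- A Zassenhaus-type group in which the two-point stabiliser has even order `(n-1)/2` is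
`PSL₂(F)`. -/
theorem psl_of_half [Fintype Ω] [FaithfulSMul G Ω] (Z : ZP G Ω pinf p0 KG j)
    (hcard : 2 * Nat.card ↥(MulAction.stabilizer G pinf ⊓ MulAction.stabilizer G p0) + 2 =
      Fintype.card Ω) :
    ∃ (F : Type) (_ : Field F) (_ : Fintype F), Fintype.card F + 1 = Fintype.card Ω ∧
      Nonempty (G ≃* Matrix.ProjectiveSpecialLinearGroup (Fin 2) F) := by
  classical
  haveI : Finite G := Finite.of_injective (MulAction.toPerm : G → Equiv.Perm Ω)
    MulAction.toPerm_injective
  haveI : Finite KG := inferInstance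
  have hi0 := Z.hi0
  let H : Subgroup G := MulAction.stabilizer G pinf ⊓ MulAction.stabilizer G p0
  have hHmem : ∀ h : G, h ∈ H ↔ h • pinf = pinf ∧ h • p0 = p0 := by
    intro h
    simp only [H, Subgroup.mem_inf, MulAction.mem_stabilizer_iff]
  obtain ⟨kinv, kcomm⟩ := Z.invol_inverts Z.hjj Z.hj1 Z.hji Z.hj0
  have kreg : ∀ k ∈ KG, ∀ k' ∈ KG, ∀ x : Ω, x ≠ pinf → k • x = k' • x → k = k' := by
    intro k hk k' hk' x hx hkk
    have h1 : (k'⁻¹ * k) • x = x := by rw [mul_smul, hkk, inv_smul_smul]
    by_contra hne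
    have h2 : k'⁻¹ * k ≠ 1 := by
      intro h
      apply hne
      have : k = k' * (k'⁻¹ * k) := by group
      rw [this, h, mul_one]
    exact Z.kfpf _ (KG.mul_mem (KG.inv_mem hk') hk) h2 x hx h1
  -- s
  obtain ⟨s, hsi, hs0⟩ := Z.two Z.hi0 (Ne.symm Z.hi0)
  have hss : s * s = 1 := Z.swap_invol hcard hsi hs0
  have hsinv : s⁻¹ = s := by rw [inv_eq_iff_mul_eq_one]; exact hss
  have hinvert : ∀ h ∈ H, s * h * s⁻¹ = h⁻¹ := by
    intro h hh
    obtain ⟨h1, h2⟩ := (hHmem h).mp hh
    have h3 : (s * h) * (s * h) = 1 :=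
      Z.swap_invol hcard (by rw [mul_smul, h1, hsi]) (by rw [mul_smul, h2, hs0])
    rw [hsinv]
    have : s * h * s = (s * h) * (s * h) * h⁻¹ := by group
    rw [this, h3, one_mul]
  have hHcomm : ∀ h ∈ H, ∀ k ∈ H, h * k = k * h := by
    intro h hh k hk
    have h1 := hinvert _ (H.mul_mem hh hk)
    have h2 := hinvert h hh
    have h3 := hinvert k hk
    have h4 : s * (h * k) * s⁻¹ = (s * h * s⁻¹) * (s * k * s⁻¹) := by group
    rw [h1, h2, h3] at h4
    have h5 : (h * k)⁻¹ = (k * h)⁻¹ := by rw [h4]; group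
    exact inv_injective h5
  have hnorm : ∀ d ∈ H, ∀ a ∈ KG, d * a * d⁻¹ ∈ KG :=
    fun d hd a ha => Z.knorm d ((hHmem d).mp hd).1 a ha
  -- a third point
  obtain ⟨p1, hp1⟩ : ∃ x : Ω, j • x ≠ x := by
    by_contra h
    push Not at h
    exact Z.hj1 (FaithfulSMul.eq_of_smul_eq_smul (α := Ω) (fun x => by rw [h x, one_smul]))
  have h1i : p1 ≠ pinf := fun h => hp1 (by rw [h, Z.hji])
  have h10 : p1 ≠ p0 := fun h => hp1 (by rw [h, Z.hj0])
  obtain ⟨e, heK, he0⟩ := Z.ktr p0 p1 (Ne.symm hi0) h1i
  have he1 : e ≠ 1 := by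
    intro h; rw [h, one_smul] at he0; exact h10 he0.symm
  -- cardinality of the kernel
  have hKcard : Nat.card KG + 1 = Fintype.card Ω := by
    let f : KG → {x : Ω // x ≠ pinf} := fun k => ⟨(k : G) • p0, Z.ne_of_smul k.2 (Ne.symm hi0)⟩
    have hf : Function.Bijective f := by
      constructor
      · intro k k' hkk
        have : (k : G) • p0 = (k' : G) • p0 := congrArg Subtype.val hkk
        exact Subtype.ext (kreg _ k.2 _ k'.2 p0 (Ne.symm hi0) this)
      · rintro ⟨x, hx⟩
        obtain ⟨k, hk, hkx⟩ := Z.ktr p0 x (Ne.symm hi0) hx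
        exact ⟨⟨k, hk⟩, Subtype.ext hkx⟩
    rw [Nat.card_eq_of_bijective f hf, Nat.card_eq_fintype_card, Fintype.card_subtype_compl,
      Fintype.card_subtype_eq]
    have : 0 < Fintype.card Ω := Fintype.card_pos_iff.mpr ⟨pinf⟩
    omega
  -- irreducibility
  have hirr : ∀ W : Subgroup G, W ≤ KG → (∀ d ∈ H, ∀ a ∈ W, d * a * d⁻¹ ∈ W) →
      W = ⊥ ∨ W = KG := by
    intro W hW hinv
    by_cases hbot : W = ⊥
    · exact Or.inl hbot
    · right
      obtain ⟨w, hw1⟩ := (Subgroup.ne_bot_iff_exists_ne_one).mp hbot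
      have hw' : (w : G) ≠ 1 := fun h => hw1 (Subtype.ext h)
      have hlt : Nat.card H < Nat.card W := by
        let f : H → W := fun h => ⟨(h : G) * (w : G) * (h : G)⁻¹, hinv h h.2 w w.2⟩
        have hfinj : Function.Injective f := by
          intro h h' hh
          have h1 : (h : G) * (w : G) * (h : G)⁻¹ = (h' : G) * (w : G) * (h' : G)⁻¹ :=
            congrArg Subtype.val hh
          have h2 : ((h' : G)⁻¹ * (h : G)) * (w : G) * ((h' : G)⁻¹ * (h : G))⁻¹ = (w : G) := by
            calc ((h' : G)⁻¹ * (h : G)) * (w : G) * ((h' : G)⁻¹ * (h : G))⁻¹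
                = (h' : G)⁻¹ * ((h : G) * (w : G) * (h : G)⁻¹) * (h' : G) := by group
              _ = (w : G) := by rw [h1]; group
          have hmem := (hHmem _).mp (H.mul_mem (H.inv_mem h'.2) h.2)
          have h3 := Z.H_semireg hmem.1 hmem.2 (hW w.2) hw' h2
          apply Subtype.ext
          have : (h : G) = (h' : G) * ((h' : G)⁻¹ * (h : G)) := by group
          rw [this, h3, mul_one]
        have hfns : ¬ Function.Surjective f := by
          intro h
          obtain ⟨u, hu⟩ := h 1
          have h1 : (u : G) * (w : G) * (u : G)⁻¹ = 1 := congrArg Subtype.val hu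
          apply hw'
          have : (w : G) = (u : G)⁻¹ * ((u : G) * (w : G) * (u : G)⁻¹) * (u : G) := by group
          rw [this, h1]; group
        letI : Fintype H := Fintype.ofFinite _
        letI : Fintype W := Fintype.ofFinite _
        rw [Nat.card_eq_fintype_card, Nat.card_eq_fintype_card]
        exact Fintype.card_lt_of_injective_not_surjective f hfinj hfns
      have hdvd : Nat.card W ∣ Nat.card KG := Subgroup.card_dvd_of_le hW
      have hge : Nat.card KG ≤ Nat.card W := by
        obtain ⟨q, hq⟩ := hdvd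
        have hq0 : q ≠ 0 := by
          intro h
          rw [h, mul_zero] at hq
          have : 0 < Nat.card KG := Nat.card_pos
          omega
        by_contra hlt'
        push Not at hlt'
        have hq2 : 2 ≤ q := by
          by_contra h
          have : q = 1 := by omega
          rw [this, mul_one] at hq
          omega
        have : Nat.card KG ≥ Nat.card W * 2 := by
          rw [hq]; exact Nat.mul_le_mul_left _ hq2
        have hH : Nat.card H = Nat.card ↥(MulAction.stabilizer G pinf ⊓ MulAction.stabilizer G p0) :=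
          rfl
        omega
      exact Subgroup.eq_of_le_of_card_ge hW hge
  obtain ⟨F, instF, instFin, ι, μ, hιinj, hιsurj, hιK, hιadd, hι1, hμ⟩ :=
    exists_field_of_irreducible KG H kcomm hHcomm hnorm e heK he1 hirr
  have hι0 : ι 0 = 1 := by
    have := hιadd 0 0
    rw [add_zero] at this
    exact mul_left_cancel (a := ι 0) (by rw [mul_one]; exact this.symm)
  have hιneg : ∀ x : F, ι (-x) = (ι x)⁻¹ := by
    intro x
    have := hιadd (-x) x
    rw [neg_add_cancel, hι0] at this
    exact eq_inv_of_mul_eq_one_left this.symm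
  have hιi : ∀ x, ι x • pinf = pinf := fun x => Z.kfix _ (hιK x)
  -- φ
  let φ : OnePoint F → Ω := fun p => match p with
    | ∞ => pinf
    | (x : F) => ι x • p0
  have hφi : φ ∞ = pinf := rfl
  have hφc : ∀ x : F, φ (x : OnePoint F) = ι x • p0 := fun x => rfl
  have hφne : ∀ x : F, φ (x : OnePoint F) ≠ pinf := fun x => Z.ne_of_smul (hιK x) (Ne.symm hi0)
  have hφbij : Function.Bijective φ := by
    constructor
    · intro p q hpq
      cases p with
      | infty =>
        cases q with
        | infty => rfl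
        | coe y => exact absurd hpq.symm (hφne y)
      | coe x =>
        cases q with
        | infty => exact absurd hpq (hφne x)
        | coe y =>
          rw [hφc, hφc] at hpq
          have := kreg _ (hιK x) _ (hιK y) p0 (Ne.symm hi0) hpq
          rw [hιinj this]
    · intro y
      by_cases hy : y = pinf
      · exact ⟨∞, hy.symm⟩
      · obtain ⟨k, hk, hky⟩ := Z.ktr p0 y (Ne.symm hi0) hy
        obtain ⟨x, hx⟩ := hιsurj k hk
        exact ⟨(x : OnePoint F), by rw [hφc, hx, hky]⟩
  have hφ0 : φ ((0 : F) : OnePoint F) = p0 := by rw [hφc, hι0, one_smul]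
  have hφinj0 : ∀ x : F, φ (x : OnePoint F) = p0 → x = 0 := by
    intro x hx
    rw [← hφ0] at hx
    exact OnePoint.coe_injective (hφbij.1 hx)
  have hφcoe : ∀ x y : F, φ (x : OnePoint F) = φ (y : OnePoint F) → x = y :=
    fun x y h => OnePoint.coe_injective (hφbij.1 h)
  have hFΩ : Fintype.card F + 1 = Fintype.card Ω := by
    have h1 : Nat.card (OnePoint F) = Nat.card Ω := Nat.card_eq_of_bijective φ hφbij
    have h2 : Nat.card (OnePoint F) = Nat.card F + 1 := by
      have : Nat.card (Option F) = Nat.card F + 1 := by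
        rw [Nat.card_eq_fintype_card, Nat.card_eq_fintype_card, Fintype.card_option]
      exact this
    have h3 : Nat.card F = Fintype.card F := Nat.card_eq_fintype_card
    have h4 : Nat.card Ω = Fintype.card Ω := Nat.card_eq_fintype_card
    omega
  have hιsmul : ∀ b x : F, ι b • φ (x : OnePoint F) = φ ((x + b : F) : OnePoint F) := by
    intro b x
    rw [hφc, hφc, ← mul_smul, ← hιadd, add_comm]
  have hHsmul : ∀ (h : H) (x : F),
      (h : G) • φ (x : OnePoint F) = φ ((μ h * x : F) : OnePoint F) := by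
    intro h x
    rw [hφc, hφc, (hμ h).2 x, mul_smul, mul_smul,
      inv_smul_eq_iff.mpr ((hHmem h).mp h.2).2.symm]
  have hHinf : ∀ h : H, (h : G) • pinf = pinf := fun h => ((hHmem h).mp h.2).1
  have hμ1 : ∀ h : H, ι (μ h) = (h : G) * e * (h : G)⁻¹ := by
    intro h
    have := (hμ h).2 1
    rwa [mul_one, hι1] at this
  have hμmul : ∀ h h' : H, μ (h * h') = μ h * μ h' := by
    intro h h'
    apply hιinj
    rw [hμ1, (hμ h).2, hμ1, Subgroup.coe_mul]
    group
  have hμinj : Function.Injective μ := by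
    intro h h' hh
    have h1 : (h : G) * e * (h : G)⁻¹ = (h' : G) * e * (h' : G)⁻¹ := by
      rw [← hμ1, ← hμ1, hh]
    have h2 : ((h' : G)⁻¹ * (h : G)) * e * ((h' : G)⁻¹ * (h : G))⁻¹ = e := by
      calc ((h' : G)⁻¹ * (h : G)) * e * ((h' : G)⁻¹ * (h : G))⁻¹
          = (h' : G)⁻¹ * ((h : G) * e * (h : G)⁻¹) * (h' : G) := by group
        _ = e := by rw [h1]; group
    have hmem := (hHmem _).mp (H.mul_mem (H.inv_mem h'.2) h.2)
    have h3 := Z.H_semireg hmem.1 hmem.2 heK he1 h2
    apply Subtype.ext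
    have : (h : G) = (h' : G) * ((h' : G)⁻¹ * (h : G)) := by group
    rw [this, h3, mul_one]
  let μu : H →* Fˣ := MonoidHom.mk' (fun h => Units.mk0 (μ h) (hμ h).1) (by
    intro a b
    apply Units.ext
    simp [hμmul])
  have hμu : ∀ h : H, ((μu h : Fˣ) : F) = μ h := fun h => rfl
  have hμu_inj : Function.Injective μu := by
    intro h h' hh
    apply hμinj
    rw [← hμu, ← hμu, hh]
  let M : Subgroup Fˣ := μu.range
  have hMmem : ∀ u : Fˣ, u ∈ M ↔ ∃ h : H, μ h = (u : F) := by
    intro u
    constructor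
    · rintro ⟨h, rfl⟩
      exact ⟨h, rfl⟩
    · rintro ⟨h, hh⟩
      exact ⟨h, Units.ext hh⟩
  have hFcard : Nat.card F = Nat.card KG := by
    let f : F → KG := fun x => ⟨ι x, hιK x⟩
    have hf : Function.Bijective f := by
      constructor
      · intro x y hxy
        exact hιinj (congrArg Subtype.val hxy)
      · rintro ⟨k, hk⟩
        obtain ⟨x, hx⟩ := hιsurj k hk
        exact ⟨x, Subtype.ext hx⟩
    exact Nat.card_eq_of_bijective f hf
  have hMcard : Nat.card M = Nat.card H :=
    (Nat.card_congr (MonoidHom.ofInjective hμu_inj).toEquiv).symm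
  have hHc : Nat.card H =
      Nat.card ↥(MulAction.stabilizer G pinf ⊓ MulAction.stabilizer G p0) := rfl
  have hFu : Nat.card Fˣ + 1 = Nat.card F := by
    rw [Nat.card_eq_fintype_card, Nat.card_eq_fintype_card, Fintype.card_units]
    have : 0 < Fintype.card F := Fintype.card_pos
    omega
  have hF2 : Nat.card F = 2 * Nat.card H + 1 := by omega
  have hM2 : M.index = 2 := by
    have h1 := M.card_mul_index
    rw [hMcard] at h1
    have h2 : Nat.card H * M.index = Nat.card H * 2 := by omega
    have hpos : 0 < Nat.card H := Nat.card_pos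
    exact Nat.eq_of_mul_eq_mul_left hpos h2
  let jH : H := ⟨j, (hHmem j).mpr ⟨Z.hji, Z.hj0⟩⟩
  have hμj : μ jH = -1 := by
    apply hιinj
    rw [hμ1, hιneg, hι1]
    exact kinv e heK
  have hneg : (-1 : Fˣ) ∈ M := (hMmem _).mpr ⟨jH, by simp [hμj]⟩
  -- σ
  have hσex : ∀ x : F, ∃ y : F, x ≠ 0 →
      (y ≠ 0 ∧ s • φ (x : OnePoint F) = φ (y : OnePoint F)) := by
    intro x
    by_cases hx : x = 0
    · exact ⟨0, fun h => absurd hx h⟩
    · obtain ⟨q, hq⟩ := hφbij.2 (s • φ (x : OnePoint F))
      cases q with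
      | infty =>
        exfalso
        rw [hφi, ← hs0] at hq
        have := MulAction.injective s hq
        exact hx (hφinj0 x this.symm)
      | coe y =>
        refine ⟨y, fun _ => ⟨?_, hq.symm⟩⟩
        intro hy
        rw [hy, hφ0, ← hsi] at hq
        have := MulAction.injective s hq
        exact hφne x this.symm
  choose σ hσ using hσex
  have hsH : ∀ h : H, s * (h : G) = (h : G)⁻¹ * s := by
    intro h
    have := hinvert h h.2
    calc s * (h : G) = (s * (h : G) * s⁻¹) * s := by group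
      _ = (h : G)⁻¹ * s := by rw [this]
  have hσF1 : ∀ (h : H) (x : F), x ≠ 0 → σ (μ h * x) = (μ h)⁻¹ * σ x := by
    intro h x hx
    have hx' : μ h * x ≠ 0 := mul_ne_zero (hμ h).1 hx
    apply hφcoe
    rw [← (hσ _ hx').2, ← hHsmul, ← mul_smul, hsH, mul_smul, (hσ x hx).2]
    have : ((h : G)⁻¹ : G) = ((h⁻¹ : H) : G) := rfl
    rw [this, hHsmul]
    congr 2
    have h1 : μ h⁻¹ * μ h = 1 := by
      rw [← hμmul, inv_mul_cancel]
      have := hμu 1
      rw [map_one] at this
      exact this.symm
    field_simp [(hμ h).1]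
    have h2 : μ h⁻¹ = (μ h)⁻¹ := eq_inv_of_mul_eq_one_left h1
    rw [h2]
    field_simp [(hμ h).1]
  have hσσ : ∀ x : F, x ≠ 0 → σ (σ x) = x := by
    intro x hx
    apply hφcoe
    rw [← (hσ _ (hσ x hx).1).2, ← (hσ x hx).2, ← mul_smul, hss, one_smul]
  set α := σ 1 with hα
  have hα0 : α ≠ 0 := (hσ 1 one_ne_zero).1
  have hσneg : ∀ x : F, x ≠ 0 → σ (-x) = - σ x := by
    intro x hx
    have := hσF1 jH x hx
    rw [hμj] at this
    rw [show -x = -1 * x by ring, this]
    field_simp
  have hσα : σ α = 1 := hσσ 1 one_ne_zero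
  -- η
  let η : G := ι (-α) * s * ι 1 * s * ι (-α) * s
  have hηi : η • pinf = pinf := by
    show (ι (-α) * s * ι 1 * s * ι (-α) * s) • pinf = pinf
    have e1 : s • pinf = φ ((0 : F) : OnePoint F) := by rw [hsi, hφ0]
    have hnα : -α ≠ 0 := neg_ne_zero.mpr hα0
    rw [mul_smul, mul_smul, mul_smul, mul_smul, mul_smul, e1, hιsmul, zero_add,
      (hσ _ hnα).2, hσneg α hα0, hσα, hιsmul, neg_add_cancel, hφ0, hs0, hιi]
  have hη0 : η • p0 = p0 := by
    show (ι (-α) * s * ι 1 * s * ι (-α) * s) • p0 = p0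
    rw [mul_smul, mul_smul, mul_smul, mul_smul, mul_smul, hs0, hιi, hsi, ← hφ0, hιsmul, zero_add,
      (hσ 1 one_ne_zero).2, hιsmul, add_neg_cancel]
  let ηH : H := ⟨η, (hHmem η).mpr ⟨hηi, hη0⟩⟩
  have hιαinv : ι (-α) = (ι α)⁻¹ := hιneg α
  have hηeq : s * ι 1 * s = ι α * η * s * ι α := by
    show s * ι 1 * s = ι α * (ι (-α) * s * ι 1 * s * ι (-α) * s) * s * ι α
    rw [hιαinv]
    symm
    calc ι α * ((ι α)⁻¹ * s * ι 1 * s * (ι α)⁻¹ * s) * s * ι α
        = s * ι 1 * s * (ι α)⁻¹ * (s * s) * ι α := by group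
      _ = s * ι 1 * s := by rw [hss]; group
  have hμη : μ ηH = -α := by
    have h1 : (s * ι 1 * s) • p0 = p0 := by
      rw [mul_smul, mul_smul, hs0, hιi, hsi]
    rw [hηeq, mul_smul, mul_smul, mul_smul, ← hφ0, hιsmul, zero_add, (hσ α hα0).2, hσα] at h1
    have h2 : η • φ ((1 : F) : OnePoint F) = φ ((μ ηH * 1 : F) : OnePoint F) := hHsmul ηH 1
    rw [h2, hιsmul, mul_one] at h1
    have := hφcoe _ _ h1
    linear_combination this
  have hαM : ∃ m ∈ M, (m : F) = α := by
    refine ⟨μu (jH * ηH), ⟨_, rfl⟩, ?_⟩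
    rw [hμu, hμmul, hμj, hμη]
    ring
  have hFE : ∀ h : H, μ h + α ≠ 0 → σ (σ (μ h) + 1) = α - α * σ (μ h + α) := by
    intro h hw
    have hx0 : μ h ≠ 0 := (hμ h).1
    have hσx1 : σ (μ h) + 1 ≠ 0 := by
      intro h0
      apply hw
      have h1 : σ (μ h) = -1 := by linear_combination h0
      have h2 : μ h = σ (-1) := by rw [← h1, hσσ _ hx0]
      rw [h2, hσneg 1 one_ne_zero]
      ring
    apply hφcoe
    have lhs : (s * ι 1 * s) • φ ((μ h : F) : OnePoint F) =
        φ ((σ (σ (μ h) + 1) : F) : OnePoint F) := by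
      rw [mul_smul, mul_smul, (hσ _ hx0).2, hιsmul, (hσ _ hσx1).2]
    have rhs : (ι α * η * s * ι α) • φ ((μ h : F) : OnePoint F) =
        φ ((α - α * σ (μ h + α) : F) : OnePoint F) := by
      rw [mul_smul, mul_smul, mul_smul, hιsmul, (hσ _ hw).2]
      have h2 : η • φ ((σ (μ h + α) : F) : OnePoint F) =
          φ ((μ ηH * σ (μ h + α) : F) : OnePoint F) := hHsmul ηH _
      rw [h2, hιsmul, hμη]
      congr 2
      ring
    rw [← lhs, hηeq, rhs]
  have hσeq : ∀ w : F, w ≠ 0 → σ w = α / w := by
    apply sigma_eq M hM2 hneg σ α hα0 rfl (fun x hx => (hσ x hx).1)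
    · intro m hm x hx
      obtain ⟨h, hh⟩ := (hMmem m).mp hm
      rw [← hh]
      exact hσF1 h x hx
    · exact hαM
    · intro m hm hw
      obtain ⟨h, hh⟩ := (hMmem m).mp hm
      rw [← hh] at hw ⊢
      exact hFE h hw
  -- the normalised involution
  have hs'smul : ∀ x : F, x ≠ 0 →
      (s * η) • φ (x : OnePoint F) = φ ((-x⁻¹ : F) : OnePoint F) := by
    intro x hx
    have h2 : η • φ ((x : F) : OnePoint F) = φ ((μ ηH * x : F) : OnePoint F) := hHsmul ηH x
    have hx' : μ ηH * x ≠ 0 := mul_ne_zero (hμ ηH).1 hx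
    rw [mul_smul, h2, (hσ _ hx').2, hσeq _ hx', hμη]
    congr 2
    field_simp
  -- dilations
  have hδex : ∀ a : F, ∃ h : H, a ≠ 0 → μ h = a * a := by
    intro a
    by_cases ha : a = 0
    · exact ⟨1, fun h => absurd ha h⟩
    · have := Subgroup.mul_self_mem_of_index_two hM2 (Units.mk0 a ha)
      obtain ⟨h, hh⟩ := (hMmem _).mp this
      exact ⟨h, fun _ => by rw [hh]; simp⟩
  choose δ hδ using hδex
  have hchar : ringChar F ≠ 2 := by
    intro h
    have := (FiniteField.even_card_iff_char_two (F := F)).mp h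
    have h3 : Nat.card F = Fintype.card F := Nat.card_eq_fintype_card
    omega
  have hsq : ∀ h : H, ∃ a : F, a ≠ 0 ∧ μ h = a * a := by
    intro h
    have h1 : (μu h) ^ (Fintype.card F / 2) = 1 := by
      have h3 : Nat.card F = Fintype.card F := Nat.card_eq_fintype_card
      have h4 : Fintype.card F / 2 = Nat.card M := by omega
      rw [h4]
      have : (⟨μu h, ⟨h, rfl⟩⟩ : M) ^ Nat.card M = 1 := pow_card_eq_one'
      exact congrArg Subtype.val this
    obtain ⟨r, hr⟩ := (FiniteField.unit_isSquare_iff hchar (μu h)).mpr h1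
    refine ⟨(r : F), r.ne_zero, ?_⟩
    rw [← hμu, hr, Units.val_mul]
  let D : MoebiusDataS G Ω F :=
    { φ := φ
      φ_bij := hφbij
      ι := ι
      δ := fun a => (δ a : G)
      s := s * η
      ι_smul := hιsmul
      ι_infty := fun b => hιi b
      δ_smul := by
        intro a ha x
        rw [hHsmul, hδ a ha]
      δ_infty := fun a _ => hHinf (δ a)
      s_infty := by rw [hφi, hφ0, mul_smul, hηi, hsi]
      s_zero := by rw [hφi, hφ0, mul_smul, hη0, hs0]
      s_smul := hs'smul
      stab := by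
        intro g hg
        have hg0 : g • p0 ≠ pinf := by
          intro h
          have := h.trans hg.symm
          exact hi0 (MulAction.injective g this).symm
        obtain ⟨p, hp⟩ := hφbij.2 (g • p0)
        cases p with
        | infty => exact absurd hp.symm hg0
        | coe b =>
          rw [hφc] at hp
          have hh : (ι b)⁻¹ * g ∈ H := by
            rw [hHmem]
            constructor
            · rw [mul_smul, hg, inv_smul_eq_iff, hιi]
            · rw [mul_smul, inv_smul_eq_iff, hp]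
          obtain ⟨a, ha, haa⟩ := hsq ⟨_, hh⟩
          refine ⟨b, a, ha, ?_⟩
          have h1 : δ a = ⟨_, hh⟩ := hμinj (by rw [hδ a ha, haa])
          rw [h1]
          group }
  exact ⟨F, instF, instFin, hFΩ, D.nonempty_mulEquiv_PSL⟩

end Cfsg.Agent.Lib.helper6.ZassPSL2
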