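import Mathlib
import Cfsg.Agent.Lib.helper6.ZassPSL2
import Cfsg.Agent.Lib.helper6.ZassPSL3
import Cfsg.Agent.Lib.helper6.ZassInvol

set_option autoImplicit false

namespace Cfsg.Agent.Lib.helper6.SylowPSL

open MulAction

/-- the centre is preserved by a group isomorphism -/
theorem map_center_eq {A B : Type*} [Group A] [Group B] (e : A ≃* B) :
    (Subgroup.center A).map e.toMonoidHom = Subgroup.center B := by
  ext x
  rw [Subgroup.mem_map, Subgroup.mem_center_iff]
  constructor
  · rintro ⟨a, ha, rfl⟩ g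
    rw [Subgroup.mem_center_iff] at ha
    obtain ⟨g', rfl⟩ := e.surjective g
    show e g' * e a = e a * e g'
    rw [← map_mul, ← map_mul, ha g']
  · intro hx
    refine ⟨e.symm x, ?_, by simp⟩
    rw [Subgroup.mem_center_iff]
    intro g
    apply e.injective
    rw [map_mul, map_mul, e.apply_symm_apply]
    exact hx (e g)

/-- `PSL₂` of isomorphic fields are isomorphic -/
theorem psl_congr {K K' : Type*} [Field K] [Field K'] (e : K ≃+* K') :
    Nonempty (Matrix.ProjectiveSpecialLinearGroup (Fin 2) K ≃*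
      Matrix.ProjectiveSpecialLinearGroup (Fin 2) K') := by
  let f : Matrix.SpecialLinearGroup (Fin 2) K ≃* Matrix.SpecialLinearGroup (Fin 2) K' :=
    { toFun := Matrix.SpecialLinearGroup.map e.toRingHom
      invFun := Matrix.SpecialLinearGroup.map e.symm.toRingHom
      left_inv := by
        intro A
        ext i j
        show e.symm (e ((A : Matrix (Fin 2) (Fin 2) K) i j)) = _
        simp
      right_inv := by
        intro A
        ext i j
        show e (e.symm ((A : Matrix (Fin 2) (Fin 2) K') i j)) = _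
        simp
      map_mul' := fun A B => map_mul _ A B }
  exact ⟨QuotientGroup.congr _ _ f (map_center_eq f)⟩

variable {G : Type*} [Group G] [Finite G]

section Count

/-- Sylow count for a simple group of order `p * m`. -/
theorem sylow_count [IsSimpleGroup G] (p : ℕ) [Fact p.Prime] (m : ℕ)
    (hG : Nat.card G = p * m) (hpm : ¬ p ∣ m) (hm : 1 < m)
    (hdiv : ∀ n, n ∣ m → n % p = 1 → n = 1 ∨ n = p + 1) :
    Nat.card (Sylow p G) = p + 1 := by
  have hp : p.Prime := Fact.out
  obtain ⟨P⟩ : Nonempty (Sylow p G) := inferInstance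
  have hPcard : Nat.card P = p := by
    rw [Sylow.card_eq_multiplicity, hG]
    have h1 : (p * m).factorization p = 1 := by
      have hm0 : m ≠ 0 := by omega
      rw [Nat.factorization_mul hp.ne_zero hm0, Finsupp.add_apply, hp.factorization_self,
        Nat.factorization_eq_zero_of_not_dvd hpm]
    rw [h1, pow_one]
  have hidx : (P : Subgroup G).index = m := by
    have h1 := (P : Subgroup G).card_mul_index
    rw [hG] at h1
    have h2 : Nat.card (P : Subgroup G) = p := hPcard
    rw [h2] at h1
    exact Nat.eq_of_mul_eq_mul_left hp.pos h1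
  have h1 : Nat.card (Sylow p G) ∣ m := by rw [← hidx]; exact Sylow.card_dvd_index P
  have h2 : Nat.card (Sylow p G) % p = 1 := by
    have := card_sylow_modEq_one p G
    rw [Nat.ModEq, Nat.mod_eq_of_lt hp.one_lt] at this
    exact this
  rcases hdiv _ h1 h2 with h | h
  · exfalso
    haveI : Subsingleton (Sylow p G) := (Nat.card_eq_one_iff_unique.mp h).1
    have hn : (P : Subgroup G).Normal := Sylow.normal_of_subsingleton P
    rcases hn.eq_bot_or_eq_top with h' | h'
    · have : Nat.card (P : Subgroup G) = 1 := by rw [h', Subgroup.card_bot]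
      have h2 : Nat.card (P : Subgroup G) = p := hPcard
      have := hp.one_lt
      omega
    · have : Nat.card (P : Subgroup G) = Nat.card G := by rw [h', Subgroup.card_top]
      have h2 : Nat.card (P : Subgroup G) = p := hPcard
      rw [h2, hG] at this
      have : p * 1 < p * m := Nat.mul_lt_mul_of_pos_left hm hp.pos
      omega
  · exact h

end Count


section Main

variable {p : ℕ} [Fact p.Prime]

/-- order of a Sylow `p`-subgroup when `p` exactly divides the group order -/
theorem card_sylow_eq (hcard : 2 * Nat.card G = p * (p - 1) * (p + 1)) (hp3 : 3 ≤ p)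
    (P : Sylow p G) : Nat.card P = p := by
  have hp : p.Prime := Fact.out
  rw [Sylow.card_eq_multiplicity]
  have h1 : p ∣ Nat.card G := by
    have : p ∣ 2 * Nat.card G := by rw [hcard, mul_assoc]; exact dvd_mul_right _ _
    rcases (Nat.Prime.dvd_mul hp).mp this with h | h
    · have := Nat.le_of_dvd (by norm_num) h
      omega
    · exact h
  have h2 : ¬ p ^ 2 ∣ Nat.card G := by
    intro h
    have h3 : p ^ 2 ∣ p * ((p - 1) * (p + 1)) := by
      rw [← mul_assoc, ← hcard]; exact h.trans (dvd_mul_left _ _)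
    rw [pow_two] at h3
    have h4 : p ∣ (p - 1) * (p + 1) := Nat.dvd_of_mul_dvd_mul_left hp.pos h3
    rcases (Nat.Prime.dvd_mul hp).mp h4 with h | h
    · have := Nat.le_of_dvd (by omega) h
      omega
    · have h5 : p ∣ 1 := (Nat.dvd_add_right (dvd_refl p)).mp h
      have := Nat.le_of_dvd (by norm_num) h5
      omega
  have hG0 : Nat.card G ≠ 0 := Nat.card_pos.ne'
  have h3 : 1 ≤ (Nat.card G).factorization p :=
    (hp.dvd_iff_one_le_factorization hG0).mp h1
  have h4 : ¬ 2 ≤ (Nat.card G).factorization p := by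
    intro h
    exact h2 ((hp.pow_dvd_iff_le_factorization hG0).mpr h)
  have : (Nat.card G).factorization p = 1 := by omega
  rw [this, pow_one]

/-- a Sylow subgroup of prime order acts semiregularly on the other Sylow subgroups -/
theorem sylow_semireg (hP : ∀ P : Sylow p G, Nat.card P = p) {P Q : Sylow p G} (hQP : Q ≠ P)
    {x : G} (hx : x ∈ P) (hxQ : x • Q = Q) : x = 1 := by
  have hp : p.Prime := Fact.out
  by_contra hx1
  have h1 : x ∈ (P : Subgroup G) ⊓ Subgroup.normalizer (Q : Set G) :=
    ⟨hx, Sylow.smul_eq_iff_mem_normalizer.mp hxQ⟩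
  rw [IsPGroup.inf_normalizer_sylow P.2 Q] at h1
  set A : Subgroup G := (P : Subgroup G) ⊓ Q with hA
  have hAP : A ≤ P := inf_le_left
  have hdvd : Nat.card A ∣ p := by
    have := Subgroup.card_dvd_of_le hAP
    rwa [show Nat.card (P : Subgroup G) = p from hP P] at this
  have hA1 : Nat.card A ≠ 1 := by
    intro h
    have : A = ⊥ := Subgroup.card_eq_one.mp h
    rw [this, Subgroup.mem_bot] at h1
    exact hx1 h1
  have hAp : Nat.card A = p := by
    rcases (Nat.dvd_prime hp).mp hdvd with h | h
    · exact absurd h hA1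
    · exact h
  have hAeq : A = P := Subgroup.eq_of_le_of_card_ge hAP (by
    rw [hAp, show Nat.card (P : Subgroup G) = p from hP P])
  have hPQ : (P : Subgroup G) ≤ Q := by rw [← hAeq]; exact inf_le_right
  have hPQ' : (P : Subgroup G) = Q := Subgroup.eq_of_le_of_card_ge hPQ (by
    rw [show Nat.card (P : Subgroup G) = p from hP P,
      show Nat.card (Q : Subgroup G) = p from hP Q])
  exact hQP (Sylow.ext hPQ').symm

theorem sylow_smul_self {P : Sylow p G} {x : G} (hx : x ∈ P) : x • P = P :=
  Sylow.smul_eq_iff_mem_normalizer.mpr (Subgroup.le_normalizer hx)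

/-- a Sylow subgroup of prime order acts transitively on the other Sylow subgroups when there are
`p + 1` of them -/
theorem sylow_trans (hP : ∀ P : Sylow p G, Nat.card P = p)
    (hn : Nat.card (Sylow p G) = p + 1) {P Q₁ Q₂ : Sylow p G} (h1 : Q₁ ≠ P) (h2 : Q₂ ≠ P) :
    ∃ x ∈ P, x • Q₁ = Q₂ := by
  classical
  have hne : ∀ x : P, (x : G) • Q₁ ≠ P := by
    intro x h
    have h3 : (x : G) • P = P := sylow_smul_self x.2
    exact h1 (MulAction.injective (x : G) (h.trans h3.symm))
  let f : P → {Q : Sylow p G // Q ≠ P} := fun x => ⟨(x : G) • Q₁, hne x⟩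
  have hf : Function.Injective f := by
    intro x y hxy
    have h3 : (x : G) • Q₁ = (y : G) • Q₁ := congrArg Subtype.val hxy
    have h4 : ((y : G)⁻¹ * (x : G)) • Q₁ = Q₁ := by rw [mul_smul, h3, inv_smul_smul]
    have h5 := sylow_semireg hP h1 ((P : Subgroup G).mul_mem ((P : Subgroup G).inv_mem y.2) x.2) h4
    apply Subtype.ext
    have : (x : G) = (y : G) * ((y : G)⁻¹ * (x : G)) := by group
    rw [this, h5, mul_one]
  have hc : Nat.card {Q : Sylow p G // Q ≠ P} ≤ Nat.card P := by
    letI : Fintype (Sylow p G) := Fintype.ofFinite _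
    rw [Nat.card_eq_fintype_card, Fintype.card_subtype_compl, Fintype.card_subtype_eq,
      ← Nat.card_eq_fintype_card, hn, hP P]
    omega
  obtain ⟨x, hx⟩ := (hf.bijective_of_nat_card_le hc).2 ⟨Q₂, h2⟩
  exact ⟨x, x.2, congrArg Subtype.val hx⟩

end Main


section Assemble

variable {p : ℕ} [Fact p.Prime]

theorem two_of_sylow (hP : ∀ P : Sylow p G, Nat.card P = p)
    (hn : Nat.card (Sylow p G) = p + 1) {a b c d : Sylow p G} (hab : a ≠ b) (hcd : c ≠ d) :
    ∃ g : G, g • a = c ∧ g • b = d := by
  obtain ⟨g, hg⟩ := MulAction.exists_smul_eq G a c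
  have h1 : g • b ≠ c := fun h => hab (MulAction.injective g (hg.trans h.symm))
  obtain ⟨x, hx, hxb⟩ := sylow_trans hP hn h1 (Ne.symm hcd)
  exact ⟨x * g, by rw [mul_smul, hg, sylow_smul_self hx], by rw [mul_smul, hxb]⟩

theorem faithful_of_sylow [IsSimpleGroup G] {a b : Sylow p G} (hab : a ≠ b) :
    FaithfulSMul G (Sylow p G) := by
  have hker : (MulAction.toPermHom G (Sylow p G)).ker = ⊥ := by
    rcases (MonoidHom.normal_ker (MulAction.toPermHom G (Sylow p G))).eq_bot_or_eq_top with h | h
    · exact h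
    · exfalso
      obtain ⟨g, hg⟩ := MulAction.exists_smul_eq G a b
      have h1 : g ∈ (MulAction.toPermHom G (Sylow p G)).ker := by rw [h]; trivial
      rw [MonoidHom.mem_ker] at h1
      have h2 : g • a = a := by
        have := congrArg (fun σ : Equiv.Perm (Sylow p G) => σ a) h1
        simpa using this
      exact hab (h2.symm.trans hg)
  constructor
  intro g g' h
  have h1 : g'⁻¹ * g ∈ (MulAction.toPermHom G (Sylow p G)).ker := by
    rw [MonoidHom.mem_ker]
    ext x
    simp [mul_smul, h x]
  rw [hker, Subgroup.mem_bot] at h1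
  have : g = g' * (g'⁻¹ * g) := by group
  rw [this, h1, mul_one]

theorem three_of_sylow [FaithfulSMul G (Sylow p G)] (hP : ∀ P : Sylow p G, Nat.card P = p)
    (hn : Nat.card (Sylow p G) = p + 1) (g : G) (a b c : Sylow p G) (hab : a ≠ b) (hbc : b ≠ c)
    (hac : a ≠ c) (ha : g • a = a) (hb : g • b = b) (hc : g • c = c) : g = 1 := by
  have hp : p.Prime := Fact.out
  have hgN : g ∈ Subgroup.normalizer (a : Set G) := Sylow.smul_eq_iff_mem_normalizer.mp ha
  have hconj : ∀ x ∈ a, g * x * g⁻¹ ∈ a := by
    intro x hx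
    exact (Subgroup.mem_normalizer_iff.mp hgN x).mp hx
  obtain ⟨x₀, hx₀, hx₀b⟩ := sylow_trans hP hn (Ne.symm hab) (Ne.symm hac)
  have hx₀1 : x₀ ≠ 1 := by
    rintro rfl
    rw [one_smul] at hx₀b
    exact hbc hx₀b
  -- g commutes with x₀
  have hcomm0 : g * x₀ * g⁻¹ = x₀ := by
    have h1 : (g * x₀ * g⁻¹) • b = x₀ • b := by
      rw [mul_smul, mul_smul, inv_smul_eq_iff.mpr hb.symm, hx₀b, hc]
    have h2 : (x₀⁻¹ * (g * x₀ * g⁻¹)) • b = b := by rw [mul_smul, h1, inv_smul_smul]
    have h3 := sylow_semireg hP (Ne.symm hab)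
      ((a : Subgroup G).mul_mem ((a : Subgroup G).inv_mem hx₀) (hconj x₀ hx₀)) h2
    have : g * x₀ * g⁻¹ = x₀ * (x₀⁻¹ * (g * x₀ * g⁻¹)) := by group
    rw [this, h3, mul_one]
  -- every element of a is a power of x₀
  have hpow : ∀ x ∈ a, g * x * g⁻¹ = x := by
    intro x hx
    have h1 : (⟨x₀, hx₀⟩ : (a : Subgroup G)) ≠ 1 := fun h => hx₀1 (congrArg Subtype.val h)
    have h2 := mem_zpowers_of_prime_card (G := (a : Subgroup G)) (hP a) (g := ⟨x₀, hx₀⟩)
      (g' := ⟨x, hx⟩) h1
    obtain ⟨k, hk⟩ := Subgroup.mem_zpowers_iff.mp h2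
    have hk' : x₀ ^ k = x := by
      have := congrArg Subtype.val hk
      simpa using this
    rw [← hk']
    have h3 : g * x₀ ^ k * g⁻¹ = (g * x₀ * g⁻¹) ^ k := by
      rw [conj_zpow]
    rw [h3, hcomm0]
  apply FaithfulSMul.eq_of_smul_eq_smul (α := Sylow p G)
  intro y
  rw [one_smul]
  by_cases hy : y = a
  · rw [hy, ha]
  · obtain ⟨x, hx, hxy⟩ := sylow_trans hP hn (Ne.symm hab) hy
    rw [← hxy]
    have h1 : g * x = x * g := by
      calc g * x = (g * x * g⁻¹) * g := by group
        _ = x * g := by rw [hpow x hx]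
    rw [← mul_smul, h1, mul_smul, hb]

/-- order of the two-point stabiliser -/
theorem card_H_of_sylow (hcard : 2 * Nat.card G = p * (p - 1) * (p + 1))
    (hP : ∀ P : Sylow p G, Nat.card P = p)
    (hn : Nat.card (Sylow p G) = p + 1) {a b : Sylow p G} (hab : a ≠ b) :
    2 * Nat.card ↥(stabilizer G a ⊓ stabilizer G b) + 2 = p + 1 := by
  have hp : p.Prime := Fact.out
  -- card of stabilizer of a
  have h1 : Nat.card (stabilizer G a) * (p + 1) = Nat.card G := by
    rw [Sylow.stabilizer_eq_normalizer, ← hn, Sylow.card_eq_index_normalizer a]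
    exact Subgroup.card_mul_index _
  -- bijection a × H → stabilizer a
  let H : Subgroup G := stabilizer G a ⊓ stabilizer G b
  have hHmem : ∀ h : G, h ∈ H ↔ h • a = a ∧ h • b = b := by
    intro h
    simp only [H, Subgroup.mem_inf, MulAction.mem_stabilizer_iff]
  let A : Subgroup G := a
  let f : ↥A × ↥H → stabilizer G a := fun xh =>
    ⟨(xh.1 : G) * (xh.2 : G), by
      rw [mem_stabilizer_iff, mul_smul, ((hHmem _).mp xh.2.2).1, sylow_smul_self xh.1.2]⟩
  have hf : Function.Bijective f := by
    constructor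
    · rintro ⟨x, h⟩ ⟨x', h'⟩ hxy
      have h2 : (x : G) * (h : G) = (x' : G) * (h' : G) := congrArg Subtype.val hxy
      have h3 : ((x' : G)⁻¹ * (x : G)) = (h' : G) * (h : G)⁻¹ := by
        calc ((x' : G)⁻¹ * (x : G)) = (x' : G)⁻¹ * ((x : G) * (h : G)) * (h : G)⁻¹ := by group
          _ = (h' : G) * (h : G)⁻¹ := by rw [h2]; group
      have h4 : ((x' : G)⁻¹ * (x : G)) • b = b := by
        rw [h3]
        exact ((hHmem _).mp (H.mul_mem h'.2 (H.inv_mem h.2))).2
      have h5 := sylow_semireg hP (Ne.symm hab)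
        ((a : Subgroup G).mul_mem ((a : Subgroup G).inv_mem x'.2) x.2) h4
      have hx : x = x' := by
        apply Subtype.ext
        have : (x : G) = (x' : G) * ((x' : G)⁻¹ * (x : G)) := by group
        rw [this, h5, mul_one]
      have hh : h = h' := by
        apply Subtype.ext
        rw [h5] at h3
        have : (h : G) = ((h' : G) * (h : G)⁻¹)⁻¹ * (h' : G) := by group
        rw [this, ← h3, inv_one, one_mul]
      rw [hx, hh]
    · rintro ⟨g, hg⟩
      rw [mem_stabilizer_iff] at hg
      have h2 : g • b ≠ a := fun h => hab (MulAction.injective g (hg.trans h.symm))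
      obtain ⟨x, hx, hxb⟩ := sylow_trans hP hn (Ne.symm hab) h2
      refine ⟨⟨⟨x, hx⟩, ⟨x⁻¹ * g, (hHmem _).mpr ⟨?_, ?_⟩⟩⟩, ?_⟩
      · rw [mul_smul, hg, inv_smul_eq_iff, sylow_smul_self hx]
      · rw [mul_smul, inv_smul_eq_iff, hxb]
      · apply Subtype.ext
        show x * (x⁻¹ * g) = g
        group
  have h2 : Nat.card (stabilizer G a) = p * Nat.card H := by
    rw [← Nat.card_eq_of_bijective f hf, Nat.card_prod, hP a]
  rw [h2] at h1
  have h3 : p * (2 * Nat.card H * (p + 1)) = p * ((p - 1) * (p + 1)) := by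
    rw [← mul_assoc p (p - 1), ← hcard, ← h1]; ring
  have h4 := Nat.eq_of_mul_eq_mul_left hp.pos h3
  have h5 := Nat.eq_of_mul_eq_mul_right (by omega : 0 < p + 1) h4
  have hH : Nat.card H = Nat.card ↥(stabilizer G a ⊓ stabilizer G b) := rfl
  have := hp.one_lt
  omega

end Assemble


section Final

variable {p : ℕ} [Fact p.Prime]

open Cfsg.Agent.Lib.helper6.ZassPSL1 Cfsg.Agent.Lib.helper6.ZassPSL2
  Cfsg.Agent.Lib.helper6.ZassPSL3

/-- A simple group of order `p (p² - 1) / 2` with `p + 1` Sylow `p`-subgroups is `PSL₂(p)`. -/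
theorem exists_psl [IsSimpleGroup G] (hp5 : 5 ≤ p)
    (hcard : 2 * Nat.card G = p * (p - 1) * (p + 1))
    (hn : Nat.card (Sylow p G) = p + 1) :
    ∃ (F : Type) (_ : Field F) (_ : Fintype F), Fintype.card F = p ∧
      Nonempty (G ≃* Matrix.ProjectiveSpecialLinearGroup (Fin 2) F) := by
  classical
  have hp : p.Prime := Fact.out
  letI : Fintype (Sylow p G) := Fintype.ofFinite _
  have hP := card_sylow_eq hcard (by omega : 3 ≤ p)
  have hΩ : Fintype.card (Sylow p G) = p + 1 := by rw [← Nat.card_eq_fintype_card, hn]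
  obtain ⟨pinf, p0, hi0⟩ : ∃ a b : Sylow p G, a ≠ b :=
    Fintype.exists_pair_of_one_lt_card (by omega)
  haveI hfaith : FaithfulSMul G (Sylow p G) := faithful_of_sylow hi0
  have hthree := three_of_sylow hP hn
  have hH := card_H_of_sylow hcard hP hn hi0
  have kcomm : ∀ x ∈ (pinf : Subgroup G), ∀ y ∈ (pinf : Subgroup G), x * y = y * x := by
    intro x hx y hy
    haveI : IsCyclic (pinf : Subgroup G) := isCyclic_of_prime_card (hP pinf)
    haveI := IsCyclic.commutative (α := (pinf : Subgroup G))
    have := mul_comm' (⟨x, hx⟩ : (pinf : Subgroup G)) ⟨y, hy⟩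
    exact congrArg Subtype.val this
  have Zk : ZK G (Sylow p G) pinf p0 (pinf : Subgroup G) :=
    { two := fun hab hcd => two_of_sylow hP hn hab hcd
      three := hthree
      hi0 := hi0
      kfix := fun k hk => sylow_smul_self hk
      kfpf := fun k hk hk1 x hx h => hk1 (sylow_semireg hP hx hk h)
      ktr := fun x y hx hy => sylow_trans hP hn hx hy
      knorm := by
        intro g hg k hk
        have hgN : g ∈ Subgroup.normalizer (pinf : Set G) :=
          Sylow.smul_eq_iff_mem_normalizer.mp hg
        exact (Subgroup.mem_normalizer_iff.mp hgN k).mp hk }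
  have hcardH : 2 * Nat.card ↥(stabilizer G pinf ⊓ stabilizer G p0) + 2 =
      Fintype.card (Sylow p G) := by rw [hΩ]; exact hH
  have key : ∃ (F : Type) (_ : Field F) (_ : Fintype F),
      Fintype.card F + 1 = Fintype.card (Sylow p G) ∧
      Nonempty (G ≃* Matrix.ProjectiveSpecialLinearGroup (Fin 2) F) := by
    rcases Nat.even_or_odd (Nat.card ↥(stabilizer G pinf ⊓ stabilizer G p0)) with heven | hodd
    · -- even: an involution in H
      obtain ⟨j, hj⟩ := exists_prime_orderOf_dvd_card' (G := ↥(stabilizer G pinf ⊓ stabilizer G p0)) 2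
        (even_iff_two_dvd.mp heven)
      have hjmem := (Subgroup.mem_inf.mp j.2)
      have hj2 : orderOf (j : G) = 2 := by rw [Subgroup.orderOf_coe, hj]
      have hjj : (j : G) * (j : G) = 1 := by
        rw [← pow_two, ← hj2]; exact pow_orderOf_eq_one _
      have hj1 : (j : G) ≠ 1 := by
        intro h
        rw [h, orderOf_one] at hj2
        omega
      have Z : ZP G (Sylow p G) pinf p0 (pinf : Subgroup G) (j : G) :=
        { two := Zk.two
          three := Zk.three
          hi0 := hi0
          kfix := Zk.kfix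
          kfpf := Zk.kfpf
          ktr := Zk.ktr
          knorm := Zk.knorm
          hj1 := hj1
          hjj := hjj
          hji := mem_stabilizer_iff.mp hjmem.1
          hj0 := mem_stabilizer_iff.mp hjmem.2 }
      exact psl_of_half Z hcardH
    · -- odd
      have hH1 : 2 ≤ Nat.card ↥(stabilizer G pinf ⊓ stabilizer G p0) := by omega
      have hZ : Cfsg.IsZassenhausGroup G (Sylow p G) := by
        refine ⟨hfaith, ?_, hthree, ?_, ?_⟩
        · exact MulAction.is_two_pretransitive_iff.mpr (fun hab hcd => two_of_sylow hP hn hab hcd)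
        · obtain ⟨g, hg⟩ : ∃ g : ↥(stabilizer G pinf ⊓ stabilizer G p0), g ≠ 1 := by
            by_contra h
            push Not at h
            have : Nat.card ↥(stabilizer G pinf ⊓ stabilizer G p0) ≤ 1 :=
              Finite.card_le_one_iff_subsingleton.mpr ⟨fun x y => by rw [h x, h y]⟩
            omega
          have hgmem := Subgroup.mem_inf.mp g.2
          exact ⟨g, fun h => hg (Subtype.ext h), pinf, p0, hi0, mem_stabilizer_iff.mp hgmem.1,
            mem_stabilizer_iff.mp hgmem.2⟩
        · intro N hN htr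
          rcases hN.eq_bot_or_eq_top with h | h
          · exfalso
            subst h
            obtain ⟨g, hg⟩ := htr.exists_smul_eq pinf p0
            have : (g : G) = 1 := Subgroup.mem_bot.mp g.2
            have h2 : (g : G) • pinf = p0 := hg
            rw [this, one_smul] at h2
            exact hi0 h2
          · subst h
            obtain ⟨g, hg⟩ : ∃ g : ↥(stabilizer G pinf ⊓ stabilizer G p0), g ≠ 1 := by
              by_contra h
              push Not at h
              have : Nat.card ↥(stabilizer G pinf ⊓ stabilizer G p0) ≤ 1 :=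
                Finite.card_le_one_iff_subsingleton.mpr ⟨fun x y => by rw [h x, h y]⟩
              omega
            have hgmem := Subgroup.mem_inf.mp g.2
            refine ⟨pinf, ?_⟩
            intro hbot
            have hmem : (⟨(g : G), Subgroup.mem_top _⟩ : (⊤ : Subgroup G)) ∈
                stabilizer (⊤ : Subgroup G) pinf := by
              rw [mem_stabilizer_iff]
              exact mem_stabilizer_iff.mp hgmem.1
            rw [hbot, Subgroup.mem_bot] at hmem
            have h3 : (g : G) = 1 := congrArg Subtype.val hmem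
            exact hg (Subtype.ext h3)
      apply psl_of_half_odd Zk kcomm
      · intro s h1 h2
        exact Cfsg.Agent.Lib.helper6.ZassInvol.swap_sq hZ hi0 hodd hi0 h1 h2
      · intro s h1 h2 x hx
        have hord := Cfsg.Agent.Lib.helper6.ZassInvol.swap_order hZ hi0 hodd hi0 h1 h2
        have hfc := Cfsg.Agent.Lib.helper6.ZassInvol.fixed_count hZ hi0 hodd hord
        have heven : ¬ Odd (Fintype.card (Sylow p G)) := by
          rw [Nat.not_odd_iff_even, ← hcardH]
          exact ⟨Nat.card ↥(stabilizer G pinf ⊓ stabilizer G p0) + 1, by ring⟩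
        rw [if_neg heven] at hfc
        have : Nonempty (fixedBy (Sylow p G) s) := ⟨⟨x, hx⟩⟩
        have hpos : 0 < Nat.card (fixedBy (Sylow p G) s) := Nat.card_pos
        omega
      · exact hodd
      · exact hcardH
  obtain ⟨F, i1, i2, hF, hiso⟩ := key
  exact ⟨F, i1, i2, by omega, hiso⟩

/-- transfer to a prescribed field of `p` elements -/
theorem psl_of_sylow [IsSimpleGroup G] (hp5 : 5 ≤ p)
    (hcard : 2 * Nat.card G = p * (p - 1) * (p + 1))
    (hn : Nat.card (Sylow p G) = p + 1) {F : Type*} [Field F] [Fintype F]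
    (hF : Fintype.card F = p) :
    Nonempty (G ≃* Matrix.ProjectiveSpecialLinearGroup (Fin 2) F) := by
  obtain ⟨F', i1, i2, hF', ⟨e⟩⟩ := exists_psl hp5 hcard hn
  have hc : Fintype.card F' = Fintype.card F := by rw [hF', hF]
  obtain ⟨e'⟩ := psl_congr (FiniteField.ringEquivOfCardEq hc)
  exact ⟨e.trans e'⟩

/-- combined form: order `p * m` with `2 m = (p-1)(p+1)` -/
theorem psl_of_order [IsSimpleGroup G] (hp5 : 5 ≤ p) (m : ℕ)
    (hG : Nat.card G = p * m) (hm : 2 * m = (p - 1) * (p + 1))
    (hdiv : ∀ n, n ∣ m → n % p = 1 → n = 1 ∨ n = p + 1)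
    {F : Type*} [Field F] [Fintype F] (hF : Fintype.card F = p) :
    Nonempty (G ≃* Matrix.ProjectiveSpecialLinearGroup (Fin 2) F) := by
  have hp : p.Prime := Fact.out
  have hcard : 2 * Nat.card G = p * (p - 1) * (p + 1) := by
    rw [hG, mul_assoc, ← hm]; ring
  have hpm : ¬ p ∣ m := by
    intro h
    have h1 : p ∣ (p - 1) * (p + 1) := by rw [← hm]; exact h.trans (dvd_mul_left _ _)
    rcases (Nat.Prime.dvd_mul hp).mp h1 with h | h
    · have := Nat.le_of_dvd (by omega) h
      omega
    · have h5 : p ∣ 1 := (Nat.dvd_add_right (dvd_refl p)).mp h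
      have := Nat.le_of_dvd (by norm_num) h5
      omega
  have hm1 : 1 < m := by
    have : 4 * 6 ≤ (p - 1) * (p + 1) := Nat.mul_le_mul (by omega) (by omega)
    omega
  exact psl_of_sylow hp5 hcard (sylow_count p m hG hpm hm1 hdiv) hF

end Final

end Cfsg.Agent.Lib.helper6.SylowPSL
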