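import Mathlib

set_option autoImplicit false

namespace Cfsg.Agent.Lib.helper6.FeitComb

open Finset

section Sep

variable {T : Type*} [Fintype T] [DecidableEq T]

/-- A non-constant function separates at least `2(t-1)` ordered pairs. -/
theorem card_sep_pairs (f : T → ℤ) {ξ₀ ξ₁ : T} (h01 : f ξ₀ ≠ f ξ₁) :
    2 * (Fintype.card T - 1) ≤ (univ.filter (fun p : T × T => f p.1 ≠ f p.2)).card := by
  classical
  set π : T → T := fun ξ => if f ξ ≠ f ξ₀ then ξ₀ else ξ₁ with hπ
  have hπne : ∀ ξ, f ξ ≠ f (π ξ) := by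
    intro ξ
    by_cases h : f ξ ≠ f ξ₀
    · simp only [hπ, if_pos h]; exact h
    · simp only [hπ, if_neg h]
      rw [not_not] at h
      rw [h]; exact h01
  have hπ0 : π ξ₀ = ξ₁ := by simp [hπ]
  have hπ1 : π ξ₁ = ξ₀ := by simp [hπ, Ne.symm h01]
  have hπmem : ∀ ξ, π ξ = ξ₀ ∨ π ξ = ξ₁ := by
    intro ξ
    by_cases h : f ξ ≠ f ξ₀
    · left; simp [hπ, h]
    · right; simp only [hπ, if_neg h]
  set S₁ : Finset (T × T) := univ.image (fun ξ => (ξ, π ξ)) with hS₁
  set S₂ : Finset (T × T) := univ.image (fun ξ => (π ξ, ξ)) with hS₂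
  have hc1 : S₁.card = Fintype.card T := by
    rw [hS₁, Finset.card_image_of_injective, Finset.card_univ]
    intro a b hab
    exact (Prod.ext_iff.mp hab).1
  have hc2 : S₂.card = Fintype.card T := by
    rw [hS₂, Finset.card_image_of_injective, Finset.card_univ]
    intro a b hab
    exact (Prod.ext_iff.mp hab).2
  have hinter : S₁ ∩ S₂ ⊆ {(ξ₀, ξ₁), (ξ₁, ξ₀)} := by
    intro p hp
    obtain ⟨hp1, hp2⟩ := Finset.mem_inter.mp hp
    obtain ⟨ξ, -, rfl⟩ := Finset.mem_image.mp hp1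
    obtain ⟨ξ', -, h⟩ := Finset.mem_image.mp hp2
    obtain ⟨h1, h2⟩ := Prod.ext_iff.mp h
    simp only at h1 h2
    -- ξ = π ξ'
    rcases hπmem ξ' with h3 | h3
    · rw [h3] at h1
      rw [← h1, hπ0]; simp
    · rw [h3] at h1
      rw [← h1, hπ1]; simp
  have hinter2 : (S₁ ∩ S₂).card ≤ 2 := by
    refine le_trans (Finset.card_le_card hinter) ?_
    exact Finset.card_le_two
  have hunion : (S₁ ∪ S₂) ⊆ univ.filter (fun p : T × T => f p.1 ≠ f p.2) := by
    intro p hp
    refine Finset.mem_filter.mpr ⟨Finset.mem_univ _, ?_⟩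
    rcases Finset.mem_union.mp hp with h | h
    · obtain ⟨ξ, -, rfl⟩ := Finset.mem_image.mp h
      exact hπne ξ
    · obtain ⟨ξ, -, rfl⟩ := Finset.mem_image.mp h
      exact (hπne ξ).symm
  have := Finset.card_union_add_card_inter S₁ S₂
  have h3 := Finset.card_le_card hunion
  omega

/-- The sum of squared differences of a non-constant integer function. -/
theorem sum_sq_diff_ge (f : T → ℤ) {ξ₀ ξ₁ : T} (h01 : f ξ₀ ≠ f ξ₁) :
    (2 * ((Fintype.card T : ℤ) - 1)) ≤ ∑ p : T × T, (f p.1 - f p.2) ^ 2 := by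
  classical
  have h1 := card_sep_pairs f h01
  have hT : 1 ≤ Fintype.card T := Fintype.card_pos_iff.mpr ⟨ξ₀⟩
  have h2 : ((univ.filter (fun p : T × T => f p.1 ≠ f p.2)).card : ℤ) ≤
      ∑ p : T × T, (f p.1 - f p.2) ^ 2 := by
    rw [Finset.card_filter]
    push_cast
    apply Finset.sum_le_sum
    intro p _
    by_cases h : f p.1 ≠ f p.2
    · rw [if_pos h]
      have : f p.1 - f p.2 ≠ 0 := sub_ne_zero.mpr h
      have h3 : 0 < (f p.1 - f p.2) ^ 2 := by positivity
      omega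
    · rw [if_neg h]; positivity
  have h3 : (2 * ((Fintype.card T : ℤ) - 1)) =
      ((2 * (Fintype.card T - 1) : ℕ) : ℤ) := by
    push_cast [Nat.cast_sub hT]; ring
  rw [h3]
  exact le_trans (by exact_mod_cast h1) h2

end Sep

end Cfsg.Agent.Lib.helper6.FeitComb
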