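import Mathlib
import Cfsg.Agent.Lib.helper6.FeitComb

set_option autoImplicit false

namespace Cfsg.Agent.Lib.helper6.FeitComb

open Finset

section Main

variable {I T : Type*} [Fintype I] [DecidableEq I] [Fintype T] [DecidableEq T]

theorem feit_comb (m : I → T → ℕ) (e : ℕ) (i₀ : I)
    (ht : 3 ≤ Fintype.card T)
    (h0 : ∀ ξ, m i₀ ξ = 0)
    (hne : ∀ i, i ≠ i₀ → ∃ ξ, 1 ≤ m i ξ)
    (hgram : ∀ ξ ξ', ∑ i, m i ξ * m i ξ' = e + if ξ = ξ' then 1 else 0)
    (hcard : 1 + Fintype.card T + e ≤ Fintype.card I) :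
    ∃ Λ : T → I, Function.Injective Λ ∧ (∀ ξ, Λ ξ ≠ i₀) ∧
      (∀ ξ ξ', m (Λ ξ) ξ' = if ξ' = ξ then 1 else 0) ∧
      (∀ i, i ≠ i₀ → (∀ ξ, i ≠ Λ ξ) → ∀ ξ, m i ξ = 1) ∧
      Fintype.card I = 1 + Fintype.card T + e := by
  classical
  set t := Fintype.card T with htdef
  set A : Finset I := univ.erase i₀ with hA
  have hAcard : A.card + 1 = Fintype.card I := by
    rw [hA, Finset.card_erase_of_mem (Finset.mem_univ _), Finset.card_univ]
    have : 1 ≤ Fintype.card I := Fintype.card_pos_iff.mpr ⟨i₀⟩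
    omega
  let const : I → Prop := fun i => ∀ ξ ξ', m i ξ = m i ξ'
  set V : Finset I := A.filter (fun i => ¬ const i) with hV
  set C : Finset I := A.filter (fun i => const i) with hC
  have hCV : C.card + V.card = A.card := by
    rw [hC, hV]; exact Finset.card_filter_add_card_filter_not _
  let q : I → ℕ := fun i => ∑ ξ, m i ξ ^ 2
  -- S1
  have hS1 : ∑ i ∈ A, q i = t * (e + 1) := by
    have h1 : ∑ i, q i = t * (e + 1) := by
      show ∑ i, ∑ ξ, m i ξ ^ 2 = _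
      rw [Finset.sum_comm]
      have : ∀ ξ ∈ (univ : Finset T), ∑ i, m i ξ ^ 2 = e + 1 := by
        intro ξ _
        have := hgram ξ ξ
        rw [if_pos rfl] at this
        rw [← this]
        refine Finset.sum_congr rfl fun i _ => ?_
        ring
      rw [Finset.sum_congr rfl this, Finset.sum_const, Finset.card_univ, smul_eq_mul]
    have h2 : q i₀ = 0 := by
      show ∑ ξ, m i₀ ξ ^ 2 = 0
      apply Finset.sum_eq_zero
      intro ξ _
      rw [h0 ξ]; rfl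
    rw [← h1, ← Finset.add_sum_erase univ q (Finset.mem_univ i₀), h2, zero_add]
  -- S2
  have hS2 : ∀ i ∈ C, t ≤ q i := by
    intro i hi
    obtain ⟨hiA, hic⟩ := Finset.mem_filter.mp hi
    have hi0 : i ≠ i₀ := (Finset.mem_erase.mp hiA).1
    obtain ⟨ξ₁, hξ₁⟩ := hne i hi0
    have : ∀ ξ, 1 ≤ m i ξ ^ 2 := by
      intro ξ
      have : m i ξ = m i ξ₁ := hic ξ ξ₁
      rw [this]
      exact Nat.one_le_pow _ _ hξ₁
    calc t = ∑ _ξ : T, 1 := by simp [htdef]
      _ ≤ ∑ ξ, m i ξ ^ 2 := Finset.sum_le_sum fun ξ _ => this ξ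
  -- S3
  have hS3 : ∀ i ∈ V, 1 ≤ q i := by
    intro i hi
    obtain ⟨hiA, -⟩ := Finset.mem_filter.mp hi
    have hi0 : i ≠ i₀ := (Finset.mem_erase.mp hiA).1
    obtain ⟨ξ₁, hξ₁⟩ := hne i hi0
    calc 1 ≤ m i ξ₁ ^ 2 := Nat.one_le_pow _ _ hξ₁
      _ ≤ ∑ ξ, m i ξ ^ 2 := Finset.single_le_sum (f := fun ξ => m i ξ ^ 2)
          (fun _ _ => Nat.zero_le _) (Finset.mem_univ ξ₁)
  -- S4
  have hS4 : V.card ≤ t := by
    have hsum : ∑ i, ∑ p : T × T, ((m i p.1 : ℤ) - m i p.2) ^ 2 = 2 * ((t : ℤ) * t - t) := by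
      rw [Finset.sum_comm]
      have : ∀ p ∈ (univ : Finset (T × T)),
          ∑ i, ((m i p.1 : ℤ) - m i p.2) ^ 2 = if p.1 = p.2 then 0 else 2 := by
        intro p _
        have e1 : ∑ i, ((m i p.1 : ℤ) - m i p.2) ^ 2 =
            ((∑ i, m i p.1 * m i p.1 : ℕ) : ℤ) + ((∑ i, m i p.2 * m i p.2 : ℕ) : ℤ) -
              2 * ((∑ i, m i p.1 * m i p.2 : ℕ) : ℤ) := by
          push_cast
          rw [← Finset.sum_add_distrib, Finset.mul_sum, ← Finset.sum_sub_distrib]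
          refine Finset.sum_congr rfl fun i _ => ?_
          ring
        rw [e1, hgram, hgram, hgram]
        by_cases h : p.1 = p.2
        · simp [h]; ring
        · simp [h]; ring
      rw [Finset.sum_congr rfl this]
      rw [Finset.sum_ite, Finset.sum_const_zero, Finset.sum_const, zero_add]
      have hcard : (univ.filter (fun p : T × T => ¬ p.1 = p.2)).card = t * t - t := by
        have h1 : (univ.filter (fun p : T × T => ¬ p.1 = p.2)) = (univ : Finset T).offDiag := by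
          ext p
          simp [Finset.mem_offDiag]
        rw [h1, Finset.offDiag_card, Finset.card_univ]
      rw [hcard]
      have : t ≤ t * t := Nat.le_mul_self t
      rw [nsmul_eq_mul]
      push_cast [Nat.cast_sub this]
      ring
    have hVle : ∀ i ∈ V, (2 * ((t : ℤ) - 1)) ≤ ∑ p : T × T, ((m i p.1 : ℤ) - m i p.2) ^ 2 := by
      intro i hi
      obtain ⟨-, hnc⟩ := Finset.mem_filter.mp hi
      have hnc' : ∃ ξ ξ', m i ξ ≠ m i ξ' := by
        by_contra hcon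
        push Not at hcon
        exact hnc hcon
      obtain ⟨ξ, ξ', hξ⟩ := hnc'
      have := sum_sq_diff_ge (fun ξ => (m i ξ : ℤ)) (ξ₀ := ξ) (ξ₁ := ξ') (by exact_mod_cast hξ)
      exact this
    have h1 : (V.card : ℤ) * (2 * ((t : ℤ) - 1)) ≤ 2 * ((t : ℤ) * t - t) := by
      rw [← hsum]
      calc (V.card : ℤ) * (2 * ((t : ℤ) - 1)) = ∑ _i ∈ V, (2 * ((t : ℤ) - 1)) := by
            rw [Finset.sum_const, nsmul_eq_mul]
        _ ≤ ∑ i ∈ V, ∑ p : T × T, ((m i p.1 : ℤ) - m i p.2) ^ 2 := Finset.sum_le_sum hVle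
        _ ≤ ∑ i, ∑ p : T × T, ((m i p.1 : ℤ) - m i p.2) ^ 2 := by
            apply Finset.sum_le_sum_of_subset_of_nonneg (Finset.subset_univ _)
            intro i _ _
            exact Finset.sum_nonneg fun p _ => by positivity
    have ht1 : (0 : ℤ) < (t : ℤ) - 1 := by
      have : (3 : ℤ) ≤ t := by exact_mod_cast ht
      linarith
    have h2 : (V.card : ℤ) * (2 * ((t : ℤ) - 1)) ≤ (t : ℤ) * (2 * ((t : ℤ) - 1)) := by
      calc (V.card : ℤ) * (2 * ((t : ℤ) - 1)) ≤ 2 * ((t : ℤ) * t - t) := h1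
        _ = (t : ℤ) * (2 * ((t : ℤ) - 1)) := by ring
    have h3 := le_of_mul_le_mul_right h2 (by linarith)
    exact_mod_cast h3
  -- S5 numerics
  have hsplit : ∑ i ∈ C, q i + ∑ i ∈ V, q i = t * (e + 1) := by
    rw [← hS1, hC, hV]
    exact Finset.sum_filter_add_sum_filter_not A _ q
  have hCle : t * C.card ≤ ∑ i ∈ C, q i := by
    calc t * C.card = ∑ _i ∈ C, t := by rw [Finset.sum_const, smul_eq_mul, mul_comm]
      _ ≤ ∑ i ∈ C, q i := Finset.sum_le_sum hS2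
  have hVle : V.card ≤ ∑ i ∈ V, q i := by
    calc V.card = ∑ _i ∈ V, 1 := by rw [Finset.sum_const, smul_eq_mul, mul_one]
      _ ≤ ∑ i ∈ V, q i := Finset.sum_le_sum hS3
  have hAge : t + e ≤ C.card + V.card := by omega
  have hVt : V.card = t := by
    apply le_antisymm hS4
    by_contra hlt
    push Not at hlt
    have h1 : t * C.card + V.card ≤ t * (e + 1) := by omega
    have h2 : t * (t + e) ≤ t * (C.card + V.card) := Nat.mul_le_mul_left t hAge
    have h3 : (t - 1 - V.card) * (t - 1) + (t - 1) ≤ (t - 1) * t - (t - 1) * V.card := by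
      have e1 : t - 1 - V.card + 1 = t - V.card := by omega
      have e2 : (t - 1) * t - (t - 1) * V.card = (t - 1) * (t - V.card) := by
        rw [Nat.mul_sub]
      rw [e2, ← e1]; ring_nf; omega
    zify at h1 h2
    have hv : (V.card : ℤ) + 1 ≤ t := by exact_mod_cast hlt
    have ht' : (3 : ℤ) ≤ t := by exact_mod_cast ht
    nlinarith [mul_nonneg (sub_nonneg.mpr hv) (by linarith : (0 : ℤ) ≤ (t : ℤ) - 1)]
  have hCe : C.card = e := by
    have h1 : t * C.card + V.card ≤ t * (e + 1) := by omega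
    rw [hVt] at h1 hAge
    have h2 : t * C.card ≤ t * e := by
      have : t * (e + 1) = t * e + t := by ring
      omega
    have h3 : C.card ≤ e := Nat.le_of_mul_le_mul_left h2 (by omega)
    omega
  have hCeq : ∑ i ∈ C, q i = t * C.card := by
    have : t * (e + 1) = t * e + t := by ring
    rw [hCe] at hCle ⊢
    rw [hVt] at hVle
    omega
  have hVeq : ∑ i ∈ V, q i = V.card := by
    have : t * (e + 1) = t * e + t := by ring
    rw [hCe] at hCle
    rw [hVt] at hVle ⊢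
    omega
  have hqC : ∀ i ∈ C, q i = t := by
    have h1 : ∑ i ∈ C, q i = ∑ _i ∈ C, t := by
      rw [hCeq, Finset.sum_const, smul_eq_mul, mul_comm]
    intro i hi
    exact ((Finset.sum_eq_sum_iff_of_le (fun i hi => hS2 i hi)).mp h1.symm i hi).symm
  have hqV : ∀ i ∈ V, q i = 1 := by
    have h1 : ∑ i ∈ V, q i = ∑ _i ∈ V, 1 := by
      rw [hVeq, Finset.sum_const, smul_eq_mul, mul_one]
    intro i hi
    exact ((Finset.sum_eq_sum_iff_of_le (fun i hi => hS3 i hi)).mp h1.symm i hi).symm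
  -- S7
  have hmC : ∀ i ∈ C, ∀ ξ, m i ξ = 1 := by
    intro i hi ξ
    obtain ⟨hiA, hic⟩ := Finset.mem_filter.mp hi
    have hi0 : i ≠ i₀ := (Finset.mem_erase.mp hiA).1
    obtain ⟨ξ₁, hξ₁⟩ := hne i hi0
    have hq := hqC i hi
    have h1 : q i = t * m i ξ ^ 2 := by
      show ∑ ξ', m i ξ' ^ 2 = _
      have : ∀ ξ' ∈ (univ : Finset T), m i ξ' ^ 2 = m i ξ ^ 2 := fun ξ' _ => by rw [hic ξ' ξ]
      rw [Finset.sum_congr rfl this, Finset.sum_const, Finset.card_univ, smul_eq_mul]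
    rw [h1] at hq
    have h2 : m i ξ ^ 2 = 1 := by
      have : t * m i ξ ^ 2 = t * 1 := by rw [hq, mul_one]
      exact Nat.eq_of_mul_eq_mul_left (by omega) this
    exact (Nat.pow_eq_one.mp h2).resolve_right (by norm_num)
  -- S6
  have hmV : ∀ i ∈ V, ∃ ξ₁, m i ξ₁ = 1 ∧ ∀ ξ, ξ ≠ ξ₁ → m i ξ = 0 := by
    intro i hi
    obtain ⟨hiA, -⟩ := Finset.mem_filter.mp hi
    have hi0 : i ≠ i₀ := (Finset.mem_erase.mp hiA).1
    obtain ⟨ξ₁, hξ₁⟩ := hne i hi0
    have hq : ∑ ξ, m i ξ ^ 2 = 1 := hqV i hi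
    rw [← Finset.add_sum_erase univ (fun ξ => m i ξ ^ 2) (Finset.mem_univ ξ₁)] at hq
    have h1 : 1 ≤ m i ξ₁ ^ 2 := Nat.one_le_pow _ _ hξ₁
    have h2 : m i ξ₁ ^ 2 = 1 := by omega
    have h3 : ∑ ξ ∈ univ.erase ξ₁, m i ξ ^ 2 = 0 := by omega
    refine ⟨ξ₁, (Nat.pow_eq_one.mp h2).resolve_right (by norm_num), ?_⟩
    intro ξ hξ
    have := (Finset.sum_eq_zero_iff.mp h3) ξ (Finset.mem_erase.mpr ⟨hξ, Finset.mem_univ _⟩)
    exact (pow_eq_zero_iff (by norm_num)).mp this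
  -- S8
  have hS8 : ∀ ξ, (V.filter (fun i => m i ξ = 1)).card = 1 := by
    intro ξ
    have h1 := hgram ξ ξ
    rw [if_pos rfl] at h1
    rw [← Finset.add_sum_erase univ (fun i => m i ξ * m i ξ) (Finset.mem_univ i₀), h0 ξ, zero_mul,
      zero_add, ← hA, ← Finset.sum_filter_add_sum_filter_not A (fun i => const i), ← hC, ← hV] at h1
    have h2 : ∑ i ∈ C, m i ξ * m i ξ = e := by
      have : ∀ i ∈ C, m i ξ * m i ξ = 1 := fun i hi => by rw [hmC i hi ξ]
      rw [Finset.sum_congr rfl this, Finset.sum_const, smul_eq_mul, mul_one, hCe]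
    have h3 : ∑ i ∈ V, m i ξ * m i ξ = (V.filter (fun i => m i ξ = 1)).card := by
      rw [Finset.card_filter]
      refine Finset.sum_congr rfl fun i hi => ?_
      obtain ⟨ξ₁, h4, h5⟩ := hmV i hi
      by_cases h : ξ = ξ₁
      · rw [h, h4, if_pos rfl]
      · rw [h5 ξ h, if_neg (by norm_num)]
    omega
  -- S9
  have hex : ∀ ξ, ∃ i, V.filter (fun i => m i ξ = 1) = {i} := fun ξ =>
    Finset.card_eq_one.mp (hS8 ξ)
  choose Λ hΛ using hex
  have hΛV : ∀ ξ, Λ ξ ∈ V ∧ m (Λ ξ) ξ = 1 := by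
    intro ξ
    have : Λ ξ ∈ V.filter (fun i => m i ξ = 1) := by rw [hΛ ξ]; exact Finset.mem_singleton_self _
    exact Finset.mem_filter.mp this
  have hΛm : ∀ ξ ξ', m (Λ ξ) ξ' = if ξ' = ξ then 1 else 0 := by
    intro ξ ξ'
    obtain ⟨hv, h1⟩ := hΛV ξ
    obtain ⟨ξ₁, h4, h5⟩ := hmV _ hv
    have hξ : ξ = ξ₁ := by
      by_contra h
      rw [h5 ξ h] at h1
      exact absurd h1 (by norm_num)
    by_cases h : ξ' = ξ
    · rw [if_pos h, h]; exact h1
    · rw [if_neg h]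
      exact h5 ξ' (by rw [← hξ]; exact h)
  refine ⟨Λ, ?_, ?_, hΛm, ?_, ?_⟩
  · intro ξ ξ' h
    have h1 := hΛm ξ ξ
    rw [h, hΛm ξ' ξ, if_pos rfl] at h1
    by_contra hne'
    rw [if_neg hne'] at h1
    exact absurd h1 (by norm_num)
  · intro ξ
    exact (Finset.mem_erase.mp (Finset.mem_filter.mp (hΛV ξ).1).1).1
  · intro i hi0 hiΛ ξ
    have hiA : i ∈ A := Finset.mem_erase.mpr ⟨hi0, Finset.mem_univ _⟩
    by_cases hc : const i
    · exact hmC i (Finset.mem_filter.mpr ⟨hiA, hc⟩) ξ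
    · exfalso
      have hiV : i ∈ V := Finset.mem_filter.mpr ⟨hiA, hc⟩
      obtain ⟨ξ₁, h4, -⟩ := hmV i hiV
      have : i ∈ V.filter (fun i => m i ξ₁ = 1) := Finset.mem_filter.mpr ⟨hiV, h4⟩
      rw [hΛ ξ₁] at this
      exact hiΛ ξ₁ (Finset.mem_singleton.mp this)
  · omega

end Main

end Cfsg.Agent.Lib.helper6.FeitComb
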