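import Mathlib

set_option autoImplicit false

namespace Cfsg.Agent.Lib.helper6.FeitComb

open Finset

section Final1

variable {I T L : Type*} [Fintype I] [DecidableEq I] [Fintype T] [DecidableEq T]
  [Fintype L] [DecidableEq L]

/-- the skeleton: sums over `I` weighted by `mT · ξ` -/
theorem skel_sum (mT : I → T → ℕ) (i₀ : I) (Λ : T → I) (hΛinj : Function.Injective Λ)
    (hΛ0 : ∀ ξ, Λ ξ ≠ i₀) (hΛm : ∀ ξ ξ', mT (Λ ξ) ξ' = if ξ' = ξ then 1 else 0)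
    (hO : ∀ i, i ≠ i₀ → (∀ ξ, i ≠ Λ ξ) → ∀ ξ, mT i ξ = 1) (h0 : ∀ ξ, mT i₀ ξ = 0)
    (g : I → ℕ) (ξ : T) :
    ∑ i, mT i ξ * g i = g (Λ ξ) +
      ∑ i ∈ univ.filter (fun i => i ≠ i₀ ∧ ∀ ξ', i ≠ Λ ξ'), g i := by
  classical
  rw [← Finset.sum_filter_add_sum_filter_not univ (fun i => i ≠ i₀ ∧ ∀ ξ', i ≠ Λ ξ'), add_comm]
  congr 1
  · -- the complement: i₀ and range Λ
    rw [Finset.sum_eq_single (Λ ξ)]
    · rw [hΛm, if_pos rfl, one_mul]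
    · intro i hi hne
      have hi' := (Finset.mem_filter.mp hi).2
      rw [not_and_or, not_not] at hi'
      rcases hi' with h | h
      · rw [h, h0, zero_mul]
      · push Not at h
        obtain ⟨ξ', hξ'⟩ := h
        rw [hξ', hΛm]
        have : ξ ≠ ξ' := by
          intro h1; apply hne; rw [hξ', h1]
        rw [if_neg this, zero_mul]
    · intro h
      exfalso
      apply h
      refine Finset.mem_filter.mpr ⟨Finset.mem_univ _, ?_⟩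
      intro h1
      exact h1.2 ξ rfl
  · refine Finset.sum_congr rfl fun i hi => ?_
    obtain ⟨h1, h2⟩ := (Finset.mem_filter.mp hi).2
    rw [hO i h1 h2, one_mul]

theorem feit_final1 (mT : I → T → ℕ) (mL : I → L → ℕ) (d : I → ℕ) (i₀ : I) (Λ : T → I)
    (h e t : ℕ)
    (hΛinj : Function.Injective Λ)
    (hΛ0 : ∀ ξ, Λ ξ ≠ i₀) (hΛm : ∀ ξ ξ', mT (Λ ξ) ξ' = if ξ' = ξ then 1 else 0)
    (hO : ∀ i, i ≠ i₀ → (∀ ξ, i ≠ Λ ξ) → ∀ ξ, mT i ξ = 1) (h0 : ∀ ξ, mT i₀ ξ = 0)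
    (hC : ∀ ξ μ, ∑ i, mT i ξ * mL i μ = 1)
    (hHL : ∀ μ, ∑ i, mL i μ * d i = h + 1)
    (hHT : ∀ ξ, ∑ i, mT i ξ * d i = (h + 1) * e)
    (hA : ∀ i, d i = ∑ μ, mL i μ + e * ∑ ξ, mT i ξ)
    (hT : Fintype.card T = t) (ht : 3 ≤ t) (hte : h = t * e + 1) :
    ∀ ξ μ, mL (Λ ξ) μ = 0 := by
  classical
  set O : Finset I := univ.filter (fun i => i ≠ i₀ ∧ ∀ ξ', i ≠ Λ ξ') with hOdef
  have hsk : ∀ (g : I → ℕ) (ξ : T), ∑ i, mT i ξ * g i = g (Λ ξ) + ∑ i ∈ O, g i :=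
    skel_sum mT i₀ Λ hΛinj hΛ0 hΛm hO h0
  -- all d (Λ ξ) are equal
  have hD : ∀ ξ ξ', d (Λ ξ) = d (Λ ξ') := by
    intro ξ ξ'
    have h1 := hHT ξ
    have h2 := hHT ξ'
    rw [hsk] at h1 h2
    omega
  by_contra hcon
  push Not at hcon
  obtain ⟨ξ₀, μ₀, hne⟩ := hcon
  have hpos : 1 ≤ mL (Λ ξ₀) μ₀ := Nat.one_le_iff_ne_zero.mpr hne
  -- from (C) at (ξ₀, μ₀)
  have h1 := hC ξ₀ μ₀
  rw [hsk (fun i => mL i μ₀) ξ₀] at h1
  have hO0 : ∑ i ∈ O, mL i μ₀ = 0 := by omega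
  have hall : ∀ ξ, mL (Λ ξ) μ₀ = 1 := by
    intro ξ
    have h2 := hC ξ μ₀
    rw [hsk (fun i => mL i μ₀) ξ, hO0, add_zero] at h2
    exact h2
  -- degree of Λ ξ₀ is at least e + 1
  have hdeg : e + 1 ≤ d (Λ ξ₀) := by
    rw [hA]
    have h3 : 1 ≤ ∑ μ, mL (Λ ξ₀) μ :=
      le_trans hpos (Finset.single_le_sum (f := fun μ => mL (Λ ξ₀) μ)
        (fun _ _ => Nat.zero_le _) (Finset.mem_univ μ₀))
    have h4 : ∑ ξ, mT (Λ ξ₀) ξ = 1 := by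
      simp only [hΛm]
      rw [Finset.sum_ite_eq' univ ξ₀]
      simp
    rw [h4, mul_one]
    omega
  -- (H_L) for μ₀
  have h5 := hHL μ₀
  have h6 : ∑ ξ : T, d (Λ ξ) ≤ ∑ i, mL i μ₀ * d i := by
    calc ∑ ξ : T, d (Λ ξ) = ∑ ξ : T, mL (Λ ξ) μ₀ * d (Λ ξ) := by
          refine Finset.sum_congr rfl fun ξ _ => ?_
          rw [hall ξ, one_mul]
      _ = ∑ i ∈ univ.image Λ, mL i μ₀ * d i := by
          rw [Finset.sum_image]
          intro a _ b _ hab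
          exact hΛinj hab
      _ ≤ ∑ i, mL i μ₀ * d i := Finset.sum_le_sum_of_subset (Finset.subset_univ _)
  have h7 : ∑ ξ : T, d (Λ ξ) = t * d (Λ ξ₀) := by
    rw [Finset.sum_congr rfl (fun ξ _ => hD ξ ξ₀), Finset.sum_const, Finset.card_univ, hT,
      smul_eq_mul]
  have h8 : t * (e + 1) ≤ t * d (Λ ξ₀) := Nat.mul_le_mul_left t hdeg
  have h9 : t * (e + 1) = t * e + t := by ring
  omega

/-- a natural-valued function on a finset summing to `1` is an indicator -/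
theorem sum_eq_one_indicator {α : Type*} [DecidableEq α] (s : Finset α) (f : α → ℕ)
    (h : ∑ i ∈ s, f i = 1) : ∃ i ∈ s, f i = 1 ∧ ∀ j ∈ s, j ≠ i → f j = 0 := by
  classical
  have hex : ∃ i ∈ s, f i ≠ 0 := by
    by_contra hcon
    push Not at hcon
    rw [Finset.sum_eq_zero hcon] at h
    exact absurd h (by norm_num)
  obtain ⟨i, hi, hne⟩ := hex
  have h1 : f i + ∑ j ∈ s.erase i, f j = 1 := by
    rw [Finset.add_sum_erase s f hi]; exact h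
  have h2 : f i = 1 := by omega
  have h3 : ∑ j ∈ s.erase i, f j = 0 := by omega
  refine ⟨i, hi, h2, ?_⟩
  intro j hj hji
  exact (Finset.sum_eq_zero_iff.mp h3) j (Finset.mem_erase.mpr ⟨hji, hj⟩)

theorem feit_final2 (mT : I → T → ℕ) (mL : I → L → ℕ) (d c : I → ℕ) (i₀ : I) (Λ : T → I)
    (μ₁ : L) (h e t : ℕ)
    (hΛinj : Function.Injective Λ)
    (hΛ0 : ∀ ξ, Λ ξ ≠ i₀) (hΛm : ∀ ξ ξ', mT (Λ ξ) ξ' = if ξ' = ξ then 1 else 0)
    (hO : ∀ i, i ≠ i₀ → (∀ ξ, i ≠ Λ ξ) → ∀ ξ, mT i ξ = 1) (h0 : ∀ ξ, mT i₀ ξ = 0)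
    (hZ : ∀ ξ μ, mL (Λ ξ) μ = 0)
    (hC : ∀ ξ μ, ∑ i, mT i ξ * mL i μ = 1)
    (hD : ∑ i, (∑ μ, mL i μ) ^ 2 = 2 * e)
    (hE : ∀ μ, mL i₀ μ = if μ = μ₁ then 1 else 0)
    (hHL : ∀ μ, ∑ i, mL i μ * d i = h + 1)
    (hc0 : c i₀ = 1) (hd0 : d i₀ = 1)
    (hcd : ∑ i, c i * d i = e ^ 2)
    (hcL : ∀ μ, ∑ i, c i * mL i μ = 1)
    (hL : Fintype.card L = e) (he : 3 ≤ e)
    (hT : Fintype.card T = t) (ht : 3 ≤ t) (hte : h = t * e + 1) : False := by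
  classical
  set O : Finset I := univ.filter (fun i => i ≠ i₀ ∧ ∀ ξ', i ≠ Λ ξ') with hOdef
  have hsk : ∀ (g : I → ℕ) (ξ : T), ∑ i, mT i ξ * g i = g (Λ ξ) + ∑ i ∈ O, g i :=
    skel_sum mT i₀ Λ hΛinj hΛ0 hΛm hO h0
  have hTne : Nonempty T := by
    apply Fintype.card_pos_iff.mp
    omega
  obtain ⟨ξ₀⟩ := hTne
  have hOsum : ∀ μ, ∑ i ∈ O, mL i μ = 1 := by
    intro μ
    have h1 := hC ξ₀ μ
    rw [hsk (fun i => mL i μ) ξ₀, hZ, zero_add] at h1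
    exact h1
  have hchoose : ∀ μ, ∃ i ∈ O, mL i μ = 1 ∧ ∀ j ∈ O, j ≠ i → mL j μ = 0 := fun μ =>
    sum_eq_one_indicator O (fun i => mL i μ) (hOsum μ)
  choose χ hχO hχ1 hχ0 using hchoose
  have hmemO : ∀ j, j ∈ O ↔ (j ≠ i₀ ∧ ∀ ξ', j ≠ Λ ξ') := by
    intro j
    rw [hOdef, Finset.mem_filter]
    simp
  -- for μ ≠ μ₁, the column is an indicator
  have hcol : ∀ μ, μ ≠ μ₁ → ∀ j, j ≠ χ μ → mL j μ = 0 := by
    intro μ hμ j hj
    by_cases hj0 : j = i₀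
    · rw [hj0, hE, if_neg hμ]
    by_cases hjΛ : ∃ ξ, j = Λ ξ
    · obtain ⟨ξ, rfl⟩ := hjΛ
      exact hZ ξ μ
    · push Not at hjΛ
      exact hχ0 μ j ((hmemO j).mpr ⟨hj0, hjΛ⟩) hj
  have hdχ : ∀ μ, μ ≠ μ₁ → d (χ μ) = h + 1 := by
    intro μ hμ
    have h1 := hHL μ
    rw [Finset.sum_eq_single (χ μ)] at h1
    · rw [hχ1, one_mul] at h1; exact h1
    · intro j _ hj
      rw [hcol μ hμ j hj, zero_mul]
    · intro hh; exact absurd (Finset.mem_univ _) hh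
  have hcχ : ∀ μ, μ ≠ μ₁ → c (χ μ) = 1 := by
    intro μ hμ
    have h1 := hcL μ
    rw [Finset.sum_eq_single (χ μ)] at h1
    · rw [hχ1, mul_one] at h1; exact h1
    · intro j _ hj
      rw [hcol μ hμ j hj, mul_zero]
    · intro hh; exact absurd (Finset.mem_univ _) hh
  set L' : Finset L := univ.filter (fun μ => μ ≠ μ₁) with hL'
  have hL'card : L'.card + 1 = e := by
    rw [hL', Finset.filter_ne' univ μ₁, Finset.card_erase_of_mem (Finset.mem_univ _),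
      Finset.card_univ, hL]
    omega
  set S' : Finset I := L'.image χ with hS'
  have hS'O : ∀ ψ ∈ S', ψ ∈ O := by
    intro ψ hψ
    obtain ⟨μ, _, rfl⟩ := Finset.mem_image.mp hψ
    exact hχO μ
  have hi0S' : i₀ ∉ S' := by
    intro hh
    exact ((hmemO i₀).mp (hS'O i₀ hh)).1 rfl
  -- (A)
  have hAineq : 1 + S'.card * (h + 1) ≤ e ^ 2 := by
    rw [← hcd]
    calc 1 + S'.card * (h + 1) = c i₀ * d i₀ + ∑ ψ ∈ S', c ψ * d ψ := by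
          rw [hc0, hd0, one_mul]
          congr 1
          rw [← smul_eq_mul, ← Finset.sum_const]
          refine Finset.sum_congr rfl fun ψ hψ => ?_
          obtain ⟨μ, hμ, rfl⟩ := Finset.mem_image.mp hψ
          have hμ' : μ ≠ μ₁ := (Finset.mem_filter.mp hμ).2
          rw [hcχ μ hμ', hdχ μ hμ', one_mul]
      _ = ∑ ψ ∈ insert i₀ S', c ψ * d ψ := by
          rw [Finset.sum_insert hi0S']
      _ ≤ ∑ i, c i * d i := Finset.sum_le_sum_of_subset (Finset.subset_univ _)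
  -- (B)
  let b : I → ℕ := fun i => ∑ μ, mL i μ
  have hb0 : b i₀ = 1 := by
    show ∑ μ, mL i₀ μ = 1
    simp only [hE]
    rw [Finset.sum_ite_eq' univ μ₁]
    simp
  have hfb : ∀ ψ ∈ S', (L'.filter (fun μ => χ μ = ψ)).card ≤ b ψ := by
    intro ψ _
    show _ ≤ ∑ μ, mL ψ μ
    calc (L'.filter (fun μ => χ μ = ψ)).card
        = ∑ μ ∈ L'.filter (fun μ => χ μ = ψ), mL ψ μ := by
          rw [Finset.card_eq_sum_ones]
          refine Finset.sum_congr rfl fun μ hμ => ?_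
          have := (Finset.mem_filter.mp hμ).2
          rw [← this, hχ1]
      _ ≤ ∑ μ, mL ψ μ := Finset.sum_le_sum_of_subset (Finset.subset_univ _)
  have hfsum : ∑ ψ ∈ S', (L'.filter (fun μ => χ μ = ψ)).card = L'.card := by
    rw [hS']
    exact (Finset.card_eq_sum_card_image χ L').symm
  have hbsum : L'.card ≤ ∑ ψ ∈ S', b ψ := by
    rw [← hfsum]
    exact Finset.sum_le_sum hfb
  have hbsq : ∑ ψ ∈ S', b ψ ^ 2 + 1 ≤ 2 * e := by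
    rw [← hD]
    calc ∑ ψ ∈ S', b ψ ^ 2 + 1 = ∑ ψ ∈ insert i₀ S', b ψ ^ 2 := by
          rw [Finset.sum_insert hi0S', hb0]; ring
      _ ≤ ∑ i, b i ^ 2 := Finset.sum_le_sum_of_subset (Finset.subset_univ _)
  have hCS : (∑ ψ ∈ S', b ψ) ^ 2 ≤ S'.card * ∑ ψ ∈ S', b ψ ^ 2 :=
    sq_sum_le_card_mul_sum_sq
  have hB : L'.card ^ 2 ≤ S'.card * ∑ ψ ∈ S', b ψ ^ 2 :=
    le_trans (Nat.pow_le_pow_left hbsum 2) hCS
  -- arithmetic
  obtain ⟨k, rfl⟩ : ∃ k, e = k + 3 := ⟨e - 3, by omega⟩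
  obtain ⟨t', rfl⟩ : ∃ t', t = t' + 3 := ⟨t - 3, by omega⟩
  have hL'k : L'.card = k + 2 := by omega
  set s := S'.card
  set Q := ∑ ψ ∈ S', b ψ ^ 2
  rw [hL'k] at hB
  have hQ : Q ≤ 2 * k + 5 := by omega
  have h1 : (k + 2) ^ 2 ≤ s * (2 * k + 5) := le_trans hB (Nat.mul_le_mul_left s hQ)
  have h2 : 1 + s * (3 * (k + 3) + 2) ≤ (k + 3) ^ 2 := by
    refine le_trans ?_ hAineq
    have : 3 * (k + 3) + 2 ≤ h + 1 := by
      rw [hte]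
      nlinarith
    exact Nat.add_le_add_left (Nat.mul_le_mul_left s this) 1
  nlinarith

end Final1

end Cfsg.Agent.Lib.helper6.FeitComb
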