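import Mathlib
import Cfsg.Prelude.Def_Characters
import Cfsg.Agent.S1528
import Cfsg.Agent.S0134
import Cfsg.Agent.Lib.Helper11.AbelianQuot
import Cfsg.Agent.Lib.Helper25.CharNormal
import Cfsg.Agent.Lib.Helper25.CharAbelian
import Cfsg.Agent.Lib.helper7.BSFinal

set_option autoImplicit false
open scoped ComplexConjugate

namespace Cfsg.Agent.Lib.helper6.FeitFrob

open Cfsg.Agent.Lib.helper7 Cfsg.Agent.Lib.helper2 Cfsg.Agent.Lib.Helper25 Cfsg.Agent.Lib.Helper11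

variable {K : Type*} [Group K] [Fintype K] (F : Subgroup K) [hFn : F.Normal]

/-- the irreducible characters of `K` not having `F` in their kernel -/
def IsT (ξ : Cfsg.IrrCharacter K) : Prop := ∃ n ∈ F, (ξ : K → ℂ) n ≠ (ξ : K → ℂ) 1

variable (hab : ∀ x y : K, x * y * x⁻¹ * y⁻¹ ∈ F)
  (hFab : ∀ u ∈ F, ∀ v ∈ F, u * v = v * u)
  (hC : ∀ n ∈ F, n ≠ 1 → Subgroup.centralizer ({n} : Set K) ≤ F)

include hFab hC in
theorem T_ind {ξ : Cfsg.IrrCharacter K} (hξ : IsT F ξ) :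
    ∃ φ : F → ℂ, Cfsg.IsIrrCharacter F φ ∧ φ 1 = 1 ∧ (ξ : K → ℂ) = Cfsg.indFun F φ := by
  obtain ⟨φ, hφ, h⟩ := Cfsg.Agent.S1528.result F hC (ξ : K → ℂ) ξ.2 hξ
  refine ⟨φ, hφ, ?_, h⟩
  letI : CommGroup F := { (inferInstance : Group F) with
    mul_comm := fun a b => Subtype.ext (hFab a a.2 b b.2) }
  exact irr_one_of_comm (⟨φ, hφ⟩ : Cfsg.IrrCharacter F)

include hFab hC in
theorem T_deg {ξ : Cfsg.IrrCharacter K} (hξ : IsT F ξ) : (ξ : K → ℂ) 1 = (F.index : ℂ) := by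
  obtain ⟨φ, hφ, h1, h⟩ := T_ind F hFab hC hξ
  rw [h, h7_indFun_one, h1, mul_one]

include hFab hC in
theorem T_vanish {ξ : Cfsg.IrrCharacter K} (hξ : IsT F ξ) {k : K} (hk : k ∉ F) :
    (ξ : K → ℂ) k = 0 := by
  obtain ⟨φ, hφ, h1, h⟩ := T_ind F hFab hC hξ
  rw [h]
  exact indFun_eq_zero_of_not_mem F φ k hk

omit [Fintype K] in
theorem T_sumF [Fintype F] {ξ : Cfsg.IrrCharacter K} (hξ : IsT F ξ) :
    ∑ u : F, (ξ : K → ℂ) (u : K) = 0 := by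
  have := irr_sum_normal ξ F hξ 1
  simpa using this

include hab in
theorem L_lin {μ : Cfsg.IrrCharacter K} (hμ : ¬ IsT F μ) : (μ : K → ℂ) 1 = 1 := by
  apply h7_irr_linear_of_commutator
  intro g h
  by_contra hne
  exact hμ ⟨_, hab g h, hne⟩

include hab in
theorem L_F {μ : Cfsg.IrrCharacter K} (hμ : ¬ IsT F μ) {n : K} (hn : n ∈ F) :
    (μ : K → ℂ) n = 1 := by
  rw [← L_lin F hab hμ]
  by_contra hne
  exact hμ ⟨n, hn, hne⟩

end Cfsg.Agent.Lib.helper6.FeitFrob
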