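import Mathlib
import Cfsg.Agent.Lib.helper6.FeitFrob

set_option autoImplicit false
open scoped ComplexConjugate

namespace Cfsg.Agent.Lib.helper6.FeitFrob

open Cfsg.Agent.Lib.helper7 Cfsg.Agent.Lib.helper2 Cfsg.Agent.Lib.Helper25 Cfsg.Agent.Lib.Helper11

variable {K : Type*} [Group K] [Fintype K] (F : Subgroup K) [hFn : F.Normal]
  [Fintype (Cfsg.IrrCharacter K)] [DecidablePred (IsT F)]

variable (hab : ∀ x y : K, x * y * x⁻¹ * y⁻¹ ∈ F)
  (hFab : ∀ u ∈ F, ∀ v ∈ F, u * v = v * u)
  (hC : ∀ n ∈ F, n ≠ 1 → Subgroup.centralizer ({n} : Set K) ≤ F)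

omit [DecidablePred (IsT F)] hFn in
theorem col_one [DecidableEq K] (k : K) :
    ∑ η : Cfsg.IrrCharacter K, (η : K → ℂ) k * (η : K → ℂ) 1 =
      if k = 1 then (Nat.card K : ℂ) else 0 := by
  classical
  have h := irr_column_orthogonality (G := K) k 1
  have e1 : ∀ η : Cfsg.IrrCharacter K, conj ((η : K → ℂ) 1) = (η : K → ℂ) 1 := by
    intro η
    obtain ⟨n, -, hn⟩ := irr_one_eq_finrank η
    rw [hn, Complex.conj_natCast]
  simp only [e1] at h
  rw [h]
  by_cases hk : k = 1
  · rw [if_pos hk, if_pos (by rw [hk])]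
    have : Subgroup.centralizer ({1} : Set K) = ⊤ := by
      ext x; simp [Subgroup.mem_centralizer_iff]
    rw [this, Subgroup.card_top]
  · rw [if_neg hk, if_neg]
    intro h1
    have h2 : IsConj (1 : K) k ↔ k = 1 := isConj_one_right
    exact hk (h2.mp h1)

include hab in
theorem card_L [Fintype F] :
    ((Finset.univ.filter (fun η : Cfsg.IrrCharacter K => ¬ IsT F η)).card : ℂ) = (F.index : ℂ) := by
  classical
  -- sum col_one over k ∈ F
  have h1 : ∑ k : F, ∑ η : Cfsg.IrrCharacter K, (η : K → ℂ) (k : K) * (η : K → ℂ) 1 =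
      (Nat.card K : ℂ) := by
    simp only [col_one]
    rw [Finset.sum_eq_single (1 : F)]
    · simp
    · intro k _ hk
      rw [if_neg]
      intro h
      exact hk (Subtype.ext h)
    · intro h; exact absurd (Finset.mem_univ _) h
  rw [Finset.sum_comm] at h1
  have h2 : ∀ η : Cfsg.IrrCharacter K, ∑ k : F, (η : K → ℂ) (k : K) * (η : K → ℂ) 1 =
      if IsT F η then 0 else (Nat.card F : ℂ) := by
    intro η
    rw [← Finset.sum_mul]
    by_cases hη : IsT F η
    · rw [if_pos hη, T_sumF F hη, zero_mul]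
    · rw [if_neg hη, L_lin F hab hη, mul_one]
      have : ∀ k : F, (η : K → ℂ) (k : K) = 1 := fun k => L_F F hab hη k.2
      simp only [this, Finset.sum_const, Finset.card_univ, nsmul_eq_mul, mul_one,
        Nat.card_eq_fintype_card]
  simp only [h2] at h1
  rw [Finset.sum_ite, Finset.sum_const_zero, zero_add, Finset.sum_const, nsmul_eq_mul] at h1
  have h3 : (Nat.card K : ℂ) = (F.index : ℂ) * (Nat.card F : ℂ) := by
    rw [← Nat.cast_mul, Subgroup.index_mul_card]
  rw [h3] at h1
  have hF0 : (Nat.card F : ℂ) ≠ 0 := by exact_mod_cast Nat.card_pos.ne'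
  exact mul_right_cancel₀ hF0 h1

include hab hFab hC in
theorem L_sum [Fintype F] (k : K) [Decidable (k ∈ F)] :
    ∑ μ ∈ Finset.univ.filter (fun η : Cfsg.IrrCharacter K => ¬ IsT F η), (μ : K → ℂ) k =
      if k ∈ F then (F.index : ℂ) else 0 := by
  classical
  by_cases hk : k ∈ F
  · rw [if_pos hk, ← card_L F hab]
    have : ∀ μ ∈ Finset.univ.filter (fun η : Cfsg.IrrCharacter K => ¬ IsT F η),
        (μ : K → ℂ) k = 1 := fun μ hμ => L_F F hab (Finset.mem_filter.mp hμ).2 hk
    rw [Finset.sum_congr rfl this, Finset.sum_const, nsmul_eq_mul, mul_one]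
  · rw [if_neg hk]
    have hk1 : k ≠ 1 := fun h => hk (h ▸ F.one_mem)
    have h1 := col_one (K := K) k
    rw [if_neg hk1, ← Finset.sum_filter_add_sum_filter_not Finset.univ (fun η => IsT F η)] at h1
    have h2 : ∑ η ∈ Finset.univ.filter (fun η : Cfsg.IrrCharacter K => IsT F η),
        (η : K → ℂ) k * (η : K → ℂ) 1 = 0 := by
      apply Finset.sum_eq_zero
      intro η hη
      rw [T_vanish F hFab hC (Finset.mem_filter.mp hη).2 hk, zero_mul]
    rw [h2, zero_add] at h1
    rw [← h1]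
    refine Finset.sum_congr rfl fun μ hμ => ?_
    rw [L_lin F hab (Finset.mem_filter.mp hμ).2, mul_one]

include hab hFab hC in
theorem card_T [Fintype F] :
    ((Finset.univ.filter (fun η : Cfsg.IrrCharacter K => IsT F η)).card : ℂ) * (F.index : ℂ) + 1 =
      (Nat.card F : ℂ) := by
  classical
  have h1 := Cfsg.Agent.S0134.result (G := K)
  rw [finsum_eq_sum_of_fintype,
    ← Finset.sum_filter_add_sum_filter_not Finset.univ (fun η => IsT F η)] at h1
  have h2 : ∑ η ∈ Finset.univ.filter (fun η : Cfsg.IrrCharacter K => IsT F η),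
      (η : K → ℂ) 1 ^ 2 =
      ((Finset.univ.filter (fun η : Cfsg.IrrCharacter K => IsT F η)).card : ℂ) *
        (F.index : ℂ) ^ 2 := by
    have : ∀ η ∈ Finset.univ.filter (fun η : Cfsg.IrrCharacter K => IsT F η),
        (η : K → ℂ) 1 ^ 2 = (F.index : ℂ) ^ 2 := fun η hη => by
      rw [T_deg F hFab hC (Finset.mem_filter.mp hη).2]
    rw [Finset.sum_congr rfl this, Finset.sum_const, nsmul_eq_mul]
  have h3 : ∑ η ∈ Finset.univ.filter (fun η : Cfsg.IrrCharacter K => ¬ IsT F η),
      (η : K → ℂ) 1 ^ 2 = (F.index : ℂ) := by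
    have : ∀ η ∈ Finset.univ.filter (fun η : Cfsg.IrrCharacter K => ¬ IsT F η),
        (η : K → ℂ) 1 ^ 2 = 1 := fun η hη => by
      rw [L_lin F hab (Finset.mem_filter.mp hη).2, one_pow]
    rw [Finset.sum_congr rfl this, Finset.sum_const, nsmul_eq_mul, mul_one,
      card_L F hab]
  rw [h2, h3] at h1
  have h4 : (Nat.card K : ℂ) = (F.index : ℂ) * (Nat.card F : ℂ) := by
    rw [← Nat.cast_mul, Subgroup.index_mul_card]
  rw [h4] at h1
  have hi0 : (F.index : ℂ) ≠ 0 := by
    have : F.index ≠ 0 := Subgroup.index_ne_zero_of_finite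
    exact_mod_cast this
  apply mul_left_cancel₀ hi0
  linear_combination h1

end Cfsg.Agent.Lib.helper6.FeitFrob
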