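import Mathlib
import Cfsg.Prelude.Def_Characters
import Cfsg.Agent.S0148
import Cfsg.Agent.Lib.helper7.Induction
import Cfsg.Agent.Lib.helper7.CharTools
import Cfsg.Agent.Lib.helper2.CharNat
import Cfsg.Agent.Lib.Helper25.CharAbelian

set_option autoImplicit false
open scoped ComplexConjugate

namespace Cfsg.Agent.Lib.helper6.FeitInd

open Cfsg.Agent.Lib.helper7 Cfsg.Agent.Lib.helper2 Cfsg.Agent.Lib.Helper25

variable {G : Type*} [Group G] [Fintype G] (N : Subgroup G) [Fintype N]

/-- restriction of a function to `N` -/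
def res (χ : G → ℂ) : N → ℂ := fun n => χ (n : G)

omit [Fintype G] [Fintype N] in
theorem res_apply (χ : G → ℂ) (n : N) : res N χ n = χ (n : G) := rfl

/-- induction evaluated at an element all of whose conjugates in `N` come from `N` -/
theorem ind_apply (φ : N → ℂ) (hφ : Cfsg.IsClassFunction N φ) (u : N)
    (hu : ∀ x : G, x⁻¹ * (u : G) * x ∈ N → x ∈ N) :
    Cfsg.indFun N φ (u : G) = φ u := by
  classical
  unfold Cfsg.indFun
  have hNne : (Nat.card N : ℂ) ≠ 0 := by exact_mod_cast (Nat.card_pos (α := N)).ne'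
  have hext : ∀ x : G, Cfsg.extendByZero N φ (x⁻¹ * (u : G) * x) = if x ∈ N then φ u else 0 := by
    intro x
    by_cases hx : x ∈ N
    · rw [if_pos hx]
      have hmem : x⁻¹ * (u : G) * x ∈ N := N.mul_mem (N.mul_mem (N.inv_mem hx) u.2) hx
      rw [h7_extendByZero_mem _ _ _ hmem]
      have := hφ u (⟨x, hx⟩⁻¹)
      rw [← this]
      congr 1
      apply Subtype.ext
      simp
    · rw [if_neg hx]
      apply h7_extendByZero_not_mem
      intro h
      exact hx (hu x h)
  simp only [hext]
  rw [Finset.sum_ite, Finset.sum_const_zero, add_zero, Finset.sum_const, nsmul_eq_mul]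
  have hcard : ((Finset.univ.filter (fun x : G => x ∈ N)).card : ℂ) = (Nat.card N : ℂ) := by
    congr 1
    rw [Nat.card_eq_fintype_card, Fintype.card_subtype]
  rw [hcard, ← mul_assoc, inv_mul_cancel₀ hNne, one_mul]

/-- multiplicities against restricted irreducible characters compute the inner product of
induced characters -/
theorem gram_ind [Fintype (Cfsg.IrrCharacter G)] {a b : N → ℂ}
    (ha : Cfsg.IsCharacter N a) (hb : Cfsg.IsCharacter N b) :
    ∑ χ : Cfsg.IrrCharacter G, Cfsg.classInner (res N (χ : G → ℂ)) a *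
        Cfsg.classInner (res N (χ : G → ℂ)) b =
      Cfsg.classInner (Cfsg.indFun N a) (Cfsg.indFun N b) := by
  classical
  have key : ∀ (c : N → ℂ), Cfsg.IsCharacter N c → ∀ χ : Cfsg.IrrCharacter G,
      Cfsg.classInner (Cfsg.indFun N c) (χ : G → ℂ) = Cfsg.classInner (res N (χ : G → ℂ)) c ∧
      conj (Cfsg.classInner (res N (χ : G → ℂ)) c) = Cfsg.classInner (res N (χ : G → ℂ)) c := by
    intro c hc χ
    have hχ : Cfsg.IsCharacter G (χ : G → ℂ) := isCharacter_of_irr χ
    have h1 := h7_frobenius_reciprocity N c (χ : G → ℂ) (isCharacter_isClassFunction hχ)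
    obtain ⟨m, hm⟩ := classInner_character_nat (isCharacter_restrict hχ N) hc
    have hm' : Cfsg.classInner (res N (χ : G → ℂ)) c = (m : ℂ) := hm
    have h2 : Cfsg.classInner c (res N (χ : G → ℂ)) = (m : ℂ) := by
      rw [Cfsg.Agent.Lib.Helper25.classInner_conj_symm, hm', Complex.conj_natCast]
    refine ⟨?_, ?_⟩
    · rw [h1, hm']; exact h2
    · rw [hm', Complex.conj_natCast]
  have hcl : ∀ g h : G, Cfsg.indFun N b (h * g * h⁻¹) = Cfsg.indFun N b g :=
    h7_indFun_isClassFunction N b
  have hexp := classFunction_expansion (Cfsg.indFun N b) hcl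
  conv_rhs => rw [hexp]
  rw [h7_classInner_sum_right]
  refine Finset.sum_congr rfl fun χ _ => ?_
  rw [h7_classInner_smul_right, (key a ha χ).1, (key b hb χ).1, (key b hb χ).2]
  ring

/-- the TI computation -/
theorem ind_inner_ti (X : Set N) (a b : N → ℂ) (hb : Cfsg.IsClassFunction N b)
    (haX : ∀ n : N, n ∉ X → a n = 0)
    (hTI : ∀ u : N, u ∈ X → u ≠ 1 → ∀ x : G, x⁻¹ * (u : G) * x ∈ N → x ∈ N) :
    Cfsg.classInner (Cfsg.indFun N a) (Cfsg.indFun N b) =
      Cfsg.classInner a b + (Nat.card N : ℂ)⁻¹ * (a 1 * conj (b 1) * ((N.index : ℂ) - 1)) := by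
  classical
  rw [h7_frobenius_reciprocity N a _ (h7_indFun_isClassFunction N b)]
  unfold Cfsg.classInner
  rw [← mul_add]
  congr 1
  have h1 : ∀ n : N, a n * conj (Cfsg.indFun N b (n : G)) =
      a n * conj (b n) + if n = 1 then a 1 * conj (b 1) * ((N.index : ℂ) - 1) else 0 := by
    intro n
    by_cases hn1 : n = 1
    · rw [if_pos hn1, hn1]
      have : Cfsg.indFun N b ((1 : N) : G) = (N.index : ℂ) * b 1 := by
        rw [Subgroup.coe_one, h7_indFun_one]
      rw [this, map_mul, Complex.conj_natCast]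
      ring
    · rw [if_neg hn1, add_zero]
      by_cases hnX : n ∈ X
      · rw [ind_apply N b hb n (hTI n hnX hn1)]
      · rw [haX n hnX, zero_mul, zero_mul]
  rw [Finset.sum_congr rfl fun n _ => h1 n, Finset.sum_add_distrib, Finset.sum_ite_eq' Finset.univ (1 : N)]
  simp

/-- degree of the induced character in terms of multiplicities -/
theorem ind_degree [Fintype (Cfsg.IrrCharacter G)] {a : N → ℂ} (ha : Cfsg.IsCharacter N a) :
    ∑ χ : Cfsg.IrrCharacter G, Cfsg.classInner (res N (χ : G → ℂ)) a * (χ : G → ℂ) 1 =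
      (N.index : ℂ) * a 1 := by
  classical
  have hcl : ∀ g h : G, Cfsg.indFun N a (h * g * h⁻¹) = Cfsg.indFun N a g :=
    h7_indFun_isClassFunction N a
  have hexp := congrFun (classFunction_expansion (Cfsg.indFun N a) hcl) 1
  rw [h7_indFun_one] at hexp
  rw [hexp, Finset.sum_apply]
  refine Finset.sum_congr rfl fun χ _ => ?_
  have hχ : Cfsg.IsCharacter G (χ : G → ℂ) := isCharacter_of_irr χ
  have h1 := h7_frobenius_reciprocity N a (χ : G → ℂ) (isCharacter_isClassFunction hχ)
  obtain ⟨m, hm⟩ := classInner_character_nat (isCharacter_restrict hχ N) ha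
  have hm' : Cfsg.classInner (res N (χ : G → ℂ)) a = (m : ℂ) := hm
  have h2 : Cfsg.classInner a (res N (χ : G → ℂ)) = (m : ℂ) := by
    rw [Cfsg.Agent.Lib.Helper25.classInner_conj_symm, hm', Complex.conj_natCast]
  rw [Pi.smul_apply, smul_eq_mul, h1, hm']
  congr 1
  exact h2.symm

end Cfsg.Agent.Lib.helper6.FeitInd
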