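import Mathlib
import Cfsg.Prelude.Def_Characters
import Cfsg.Agent.Lib.helper6.FeitFrob2
import Cfsg.Agent.Lib.helper6.FeitInd
import Cfsg.Agent.Lib.Helper25.CharLinear

set_option autoImplicit false
open scoped ComplexConjugate

namespace Cfsg.Agent.Lib.helper6.FeitMain

open Cfsg.Agent.Lib.helper7 Cfsg.Agent.Lib.helper2 Cfsg.Agent.Lib.Helper25 Cfsg.Agent.Lib.Helper11
open Cfsg.Agent.Lib.helper6.FeitFrob Cfsg.Agent.Lib.helper6.FeitInd

variable {G : Type*} [Group G] [Fintype G] (N : Subgroup G) [Fintype N]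

/-- multiplicity of `η` in the restriction of `χ` -/
noncomputable def mult (χ : Cfsg.IrrCharacter G) (η : Cfsg.IrrCharacter N) : ℕ :=
  Classical.choose (classInner_character_nat
    (isCharacter_restrict (isCharacter_of_irr χ) N) (isCharacter_of_irr η))

theorem mult_spec (χ : Cfsg.IrrCharacter G) (η : Cfsg.IrrCharacter N) :
    Cfsg.classInner (res N (χ : G → ℂ)) (η : N → ℂ) = (mult N χ η : ℂ) :=
  Classical.choose_spec (classInner_character_nat
    (isCharacter_restrict (isCharacter_of_irr χ) N) (isCharacter_of_irr η))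

/-- degree as a natural number -/
noncomputable def deg {H : Type*} [Group H] (χ : Cfsg.IrrCharacter H) : ℕ :=
  Classical.choose (irr_one_eq_finrank χ)

theorem deg_spec {H : Type*} [Group H] (χ : Cfsg.IrrCharacter H) : (χ : H → ℂ) 1 = (deg χ : ℂ) :=
  (Classical.choose_spec (irr_one_eq_finrank χ)).2

theorem deg_pos {H : Type*} [Group H] (χ : Cfsg.IrrCharacter H) : 0 < deg χ :=
  (Classical.choose_spec (irr_one_eq_finrank χ)).1

variable (F : Subgroup N) [hFn : F.Normal] [Fintype F]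
  [Fintype (Cfsg.IrrCharacter G)] [Fintype (Cfsg.IrrCharacter N)]

variable (hab : ∀ x y : N, x * y * x⁻¹ * y⁻¹ ∈ F)
  (hFab : ∀ u ∈ F, ∀ v ∈ F, u * v = v * u)
  (hC : ∀ n ∈ F, n ≠ 1 → Subgroup.centralizer ({n} : Set N) ≤ F)
  (hTI : ∀ u : N, u ∈ F → u ≠ 1 → ∀ x : G, x⁻¹ * (u : G) * x ∈ N → x ∈ N)
  (h e : ℕ) (hF : Nat.card F = h) (hidx : F.index = e) (hN : N.index = h + 1)

include hF hidx in
theorem card_N : (Nat.card N : ℂ) = (h : ℂ) * (e : ℂ) := by
  rw [← hF, ← hidx, ← Nat.cast_mul, mul_comm, Subgroup.index_mul_card]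

include hF in
theorem h_pos : 0 < h := by rw [← hF]; exact Nat.card_pos

include hidx in
theorem e_pos : 0 < e := by
  rw [← hidx]; exact Nat.pos_of_ne_zero Subgroup.index_ne_zero_of_finite

include hFab hC hTI hF hidx hN in
theorem gramTT [DecidableEq (Cfsg.IrrCharacter N)] {ξ ξ' : Cfsg.IrrCharacter N}
    (hξ : IsT F ξ) (hξ' : IsT F ξ') :
    ∑ χ : Cfsg.IrrCharacter G, mult N χ ξ * mult N χ ξ' = e + if ξ = ξ' then 1 else 0 := by
  have hh := h_pos N F h hF
  have he := e_pos N F e hidx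
  have key : ((∑ χ : Cfsg.IrrCharacter G, mult N χ ξ * mult N χ ξ' : ℕ) : ℂ) =
      ((e + if ξ = ξ' then 1 else 0 : ℕ) : ℂ) := by
    push_cast
    simp only [← mult_spec]
    rw [gram_ind N (isCharacter_of_irr ξ) (isCharacter_of_irr ξ'),
      ind_inner_ti N (F : Set N) _ _ (isCharacter_isClassFunction (isCharacter_of_irr ξ'))
        (fun n hn => T_vanish F hFab hC hξ hn) (fun u hu => hTI u hu),
      irr_classInner, T_deg F hFab hC hξ, T_deg F hFab hC hξ', hidx, hN,
      card_N N F h e hF hidx, Complex.conj_natCast]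
    have h1 : (h : ℂ) ≠ 0 := by exact_mod_cast hh.ne'
    have h2 : (e : ℂ) ≠ 0 := by exact_mod_cast he.ne'
    push_cast
    field_simp
    split_ifs <;> ring
  exact_mod_cast key

include hab hFab hC hTI hF hidx hN in
theorem gramTL {ξ μ : Cfsg.IrrCharacter N}
    (hξ : IsT F ξ) (hμ : ¬ IsT F μ) :
    ∑ χ : Cfsg.IrrCharacter G, mult N χ ξ * mult N χ μ = 1 := by
  classical
  have hh := h_pos N F h hF
  have he := e_pos N F e hidx
  have hne : ξ ≠ μ := fun h => hμ (h ▸ hξ)
  have key : ((∑ χ : Cfsg.IrrCharacter G, mult N χ ξ * mult N χ μ : ℕ) : ℂ) = ((1 : ℕ) : ℂ) := by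
    push_cast
    simp only [← mult_spec]
    rw [gram_ind N (isCharacter_of_irr ξ) (isCharacter_of_irr μ),
      ind_inner_ti N (F : Set N) _ _ (isCharacter_isClassFunction (isCharacter_of_irr μ))
        (fun n hn => T_vanish F hFab hC hξ hn) (fun u hu => hTI u hu),
      irr_classInner, if_neg hne, T_deg F hFab hC hξ, L_lin F hab hμ, hidx, hN,
      card_N N F h e hF hidx]
    have h1 : (h : ℂ) ≠ 0 := by exact_mod_cast hh.ne'
    have h2 : (e : ℂ) ≠ 0 := by exact_mod_cast he.ne'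
    push_cast
    field_simp
    simp
  exact_mod_cast key

end Cfsg.Agent.Lib.helper6.FeitMain
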