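import Mathlib
import Cfsg.Prelude.Def_Characters
import Cfsg.Agent.Lib.helper6.FeitMain1

set_option autoImplicit false
set_option linter.unusedSectionVars false
open scoped ComplexConjugate

namespace Cfsg.Agent.Lib.helper6.FeitMain

open Cfsg.Agent.Lib.helper7 Cfsg.Agent.Lib.helper2 Cfsg.Agent.Lib.Helper25 Cfsg.Agent.Lib.Helper11
open Cfsg.Agent.Lib.helper6.FeitFrob Cfsg.Agent.Lib.helper6.FeitInd

variable {G : Type*} [Group G] [Fintype G] (N : Subgroup G) [Fintype N]

variable (F : Subgroup N) [hFn : F.Normal] [Fintype F]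
  [Fintype (Cfsg.IrrCharacter G)] [Fintype (Cfsg.IrrCharacter N)]
  [DecidablePred (IsT F)]

variable (hab : ∀ x y : N, x * y * x⁻¹ * y⁻¹ ∈ F)
  (hFab : ∀ u ∈ F, ∀ v ∈ F, u * v = v * u)
  (hC : ∀ n ∈ F, n ≠ 1 → Subgroup.centralizer ({n} : Set N) ≤ F)
  (hTI : ∀ u : N, u ∈ F → u ≠ 1 → ∀ x : G, x⁻¹ * (u : G) * x ∈ N → x ∈ N)
  (h e : ℕ) (hF : Nat.card F = h) (hidx : F.index = e) (hN : N.index = h + 1)

/-- the regular character of `N/F` -/
noncomputable def rho : N → ℂ :=
  ∑ μ ∈ Finset.univ.filter (fun η : Cfsg.IrrCharacter N => ¬ IsT F η), (μ : N → ℂ)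

theorem rho_char : Cfsg.IsCharacter N (rho N F) :=
  isCharacter_sum _ _ fun μ _ => isCharacter_of_irr μ

include hab hFab hC in
theorem rho_apply (k : N) [Decidable (k ∈ F)] :
    rho N F k = if k ∈ F then (F.index : ℂ) else 0 := by
  unfold rho
  rw [Finset.sum_apply]
  exact L_sum F hab hFab hC k

include hab in
theorem rho_norm : Cfsg.classInner (rho N F) (rho N F) = (F.index : ℂ) := by
  classical
  unfold rho
  rw [classInner_sum_left]
  simp only [h7_classInner_sum_right, irr_classInner]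
  rw [← card_L F hab]
  have h1 : ∀ μ ∈ Finset.univ.filter (fun η : Cfsg.IrrCharacter N => ¬ IsT F η),
      (∑ μ' ∈ Finset.univ.filter (fun η : Cfsg.IrrCharacter N => ¬ IsT F η),
        (if μ = μ' then (1 : ℂ) else 0)) = 1 := by
    intro μ hμ
    rw [Finset.sum_ite_eq, if_pos hμ]
  rw [Finset.sum_congr rfl h1, Finset.sum_const, nsmul_eq_mul, mul_one]

theorem mult_rho (χ : Cfsg.IrrCharacter G) :
    Cfsg.classInner (res N (χ : G → ℂ)) (rho N F) =
      ((∑ μ ∈ Finset.univ.filter (fun η : Cfsg.IrrCharacter N => ¬ IsT F η), mult N χ μ : ℕ) : ℂ) := by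
  unfold rho
  rw [h7_classInner_sum_right]
  push_cast
  refine Finset.sum_congr rfl fun μ _ => ?_
  exact mult_spec N χ μ

include hab hFab hC hTI hF hidx hN in
theorem gramLL :
    ∑ χ : Cfsg.IrrCharacter G,
      (∑ μ ∈ Finset.univ.filter (fun η : Cfsg.IrrCharacter N => ¬ IsT F η), mult N χ μ) ^ 2 =
        2 * e := by
  classical
  have hh := h_pos N F h hF
  have he := e_pos N F e hidx
  have key : ((∑ χ : Cfsg.IrrCharacter G,
      (∑ μ ∈ Finset.univ.filter (fun η : Cfsg.IrrCharacter N => ¬ IsT F η), mult N χ μ) ^ 2 : ℕ) : ℂ)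
        = ((2 * e : ℕ) : ℂ) := by
    rw [Nat.cast_sum]
    have h0 : ∀ χ : Cfsg.IrrCharacter G,
        (((∑ μ ∈ Finset.univ.filter (fun η : Cfsg.IrrCharacter N => ¬ IsT F η), mult N χ μ) ^ 2 : ℕ) : ℂ)
        = Cfsg.classInner (res N (χ : G → ℂ)) (rho N F) *
          Cfsg.classInner (res N (χ : G → ℂ)) (rho N F) := by
      intro χ
      rw [mult_rho, Nat.cast_pow, sq]
    rw [Finset.sum_congr rfl fun χ _ => h0 χ,
      gram_ind N (rho_char N F) (rho_char N F),
      ind_inner_ti N (F : Set N) _ _ (isCharacter_isClassFunction (rho_char N F))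
        (fun n hn => by
          rw [rho_apply N F hab hFab hC n, if_neg]
          exact hn) (fun u hu => hTI u hu),
      rho_norm N F hab, rho_apply N F hab hFab hC 1, if_pos F.one_mem, hidx, hN,
      card_N N F h e hF hidx, Complex.conj_natCast]
    have h1 : (h : ℂ) ≠ 0 := by exact_mod_cast hh.ne'
    have h2 : (e : ℂ) ≠ 0 := by exact_mod_cast he.ne'
    push_cast
    field_simp
    ring
  exact_mod_cast key

theorem multTriv [DecidableEq (Cfsg.IrrCharacter N)] (η : Cfsg.IrrCharacter N) :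
    mult N (trivIrr G) η = if η = trivIrr N then 1 else 0 := by
  have key : ((mult N (trivIrr G) η : ℕ) : ℂ) = ((if η = trivIrr N then 1 else 0 : ℕ) : ℂ) := by
    rw [← mult_spec]
    have : res N ((trivIrr G : Cfsg.IrrCharacter G) : G → ℂ) = ((trivIrr N : Cfsg.IrrCharacter N) : N → ℂ) := rfl
    rw [this, irr_classInner]
    by_cases h : η = trivIrr N
    · rw [if_pos h, if_pos h.symm]; simp
    · rw [if_neg h, if_neg (fun h' => h h'.symm)]; simp
  exact_mod_cast key

theorem triv_notT : ¬ IsT F (trivIrr N) := by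
  rintro ⟨n, _, hn⟩
  exact hn rfl

include hab hN in
theorem degL {μ : Cfsg.IrrCharacter N} (hμ : ¬ IsT F μ) :
    ∑ χ : Cfsg.IrrCharacter G, mult N χ μ * deg χ = h + 1 := by
  have key : ((∑ χ : Cfsg.IrrCharacter G, mult N χ μ * deg χ : ℕ) : ℂ) = ((h + 1 : ℕ) : ℂ) := by
    push_cast
    simp only [← mult_spec, ← deg_spec]
    rw [ind_degree N (isCharacter_of_irr μ), L_lin F hab hμ, hN]
    push_cast
    ring
  exact_mod_cast key

include hFab hC hN hidx in
theorem degT {ξ : Cfsg.IrrCharacter N} (hξ : IsT F ξ) :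
    ∑ χ : Cfsg.IrrCharacter G, mult N χ ξ * deg χ = (h + 1) * e := by
  have key : ((∑ χ : Cfsg.IrrCharacter G, mult N χ ξ * deg χ : ℕ) : ℂ) = (((h + 1) * e : ℕ) : ℂ) := by
    push_cast
    simp only [← mult_spec, ← deg_spec]
    rw [ind_degree N (isCharacter_of_irr ξ), T_deg F hFab hC hξ, hN, hidx]
    push_cast
    ring
  exact_mod_cast key

/-- expansion of the restriction -/
theorem res_expand (χ : Cfsg.IrrCharacter G) :
    res N (χ : G → ℂ) = ∑ η : Cfsg.IrrCharacter N, (mult N χ η : ℂ) • (η : N → ℂ) := by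
  have h1 := classFunction_expansion (res N (χ : G → ℂ))
    (isCharacter_isClassFunction (isCharacter_restrict (isCharacter_of_irr χ) N))
  simp only [mult_spec] at h1
  exact h1

include hab hFab hC hidx in
theorem degRes (χ : Cfsg.IrrCharacter G) :
    deg χ = ∑ μ ∈ Finset.univ.filter (fun η : Cfsg.IrrCharacter N => ¬ IsT F η), mult N χ μ +
      e * ∑ ξ ∈ Finset.univ.filter (fun η : Cfsg.IrrCharacter N => IsT F η), mult N χ ξ := by
  have key : ((deg χ : ℕ) : ℂ) =
      ((∑ μ ∈ Finset.univ.filter (fun η : Cfsg.IrrCharacter N => ¬ IsT F η), mult N χ μ +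
      e * ∑ ξ ∈ Finset.univ.filter (fun η : Cfsg.IrrCharacter N => IsT F η), mult N χ ξ : ℕ) : ℂ) := by
    rw [← deg_spec]
    have h1 := congrFun (res_expand N χ) 1
    rw [res_apply, Subgroup.coe_one, Finset.sum_apply] at h1
    rw [h1, ← Finset.sum_filter_add_sum_filter_not Finset.univ (fun η => IsT F η), add_comm]
    push_cast
    congr 1
    · refine Finset.sum_congr rfl fun μ hμ => ?_
      rw [Pi.smul_apply, smul_eq_mul, L_lin F hab (Finset.mem_filter.mp hμ).2, mul_one]
    · rw [Finset.mul_sum]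
      refine Finset.sum_congr rfl fun ξ hξ => ?_
      rw [Pi.smul_apply, smul_eq_mul, T_deg F hFab hC (Finset.mem_filter.mp hξ).2, hidx]
      ring
  exact_mod_cast key

end Cfsg.Agent.Lib.helper6.FeitMain
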