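import Mathlib
import Cfsg.Prelude.Def_Characters
import Cfsg.Agent.Lib.helper6.FeitMain2
import Cfsg.Agent.Lib.Helper25.Gagola
import Cfsg.Agent.Lib.Helper25.CharReal
import Cfsg.Agent.Lib.helper7.CharMul

set_option autoImplicit false
set_option linter.unusedSectionVars false
open scoped ComplexConjugate

namespace Cfsg.Agent.Lib.helper6.FeitMain

open Cfsg.Agent.Lib.helper7 Cfsg.Agent.Lib.helper2 Cfsg.Agent.Lib.Helper25 Cfsg.Agent.Lib.Helper11
open Cfsg.Agent.Lib.helper6.FeitFrob Cfsg.Agent.Lib.helper6.FeitInd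

variable {G : Type*} [Group G] [Fintype G] (N : Subgroup G) [Fintype N]

variable (F : Subgroup N) [hFn : F.Normal] [Fintype F]
  [Fintype (Cfsg.IrrCharacter G)] [Fintype (Cfsg.IrrCharacter N)]
  [DecidablePred (IsT F)]

variable (hab : ∀ x y : N, x * y * x⁻¹ * y⁻¹ ∈ F)
  (hFab : ∀ u ∈ F, ∀ v ∈ F, u * v = v * u)
  (hC : ∀ n ∈ F, n ≠ 1 → Subgroup.centralizer ({n} : Set N) ≤ F)
  (hTI : ∀ u : N, u ∈ F → u ≠ 1 → ∀ x : G, x⁻¹ * (u : G) * x ∈ N → x ∈ N)
  (h e : ℕ) (hF : Nat.card F = h) (hidx : F.index = e) (hN : N.index = h + 1)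

include hab hF in
theorem neTriv [IsSimpleGroup G] (hF1 : 1 < h) {χ : Cfsg.IrrCharacter G} (hχ : χ ≠ trivIrr G) :
    ∃ ξ : Cfsg.IrrCharacter N, IsT F ξ ∧ 1 ≤ mult N χ ξ := by
  classical
  by_contra hcon
  push Not at hcon
  have h0 : ∀ ξ : Cfsg.IrrCharacter N, IsT F ξ → mult N χ ξ = 0 := fun ξ hξ => by
    have := hcon ξ hξ; omega
  have hexp := res_expand N χ
  have hker : ∀ n : N, n ∈ F → (n : G) ∈ irrKer χ := by
    intro n hn
    rw [mem_irrKer]
    have h1 := congrFun hexp n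
    have h2 := congrFun hexp 1
    rw [res_apply, Finset.sum_apply] at h1 h2
    rw [Subgroup.coe_one] at h2
    rw [h1, h2]
    refine Finset.sum_congr rfl fun η _ => ?_
    rw [Pi.smul_apply, Pi.smul_apply]
    by_cases hη : IsT F η
    · rw [h0 η hη]; simp
    · rw [L_F F hab hη hn, L_lin F hab hη]
  have hFne : F ≠ ⊥ := by
    intro hbot
    rw [hbot, Subgroup.card_bot] at hF
    omega
  obtain ⟨n, hn1⟩ := (Subgroup.ne_bot_iff_exists_ne_one).mp hFne
  have hn1' : ((n : N) : G) ≠ 1 := by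
    intro hh
    apply hn1
    apply Subtype.ext
    apply Subtype.ext
    simpa using hh
  have htop : irrKer χ = ⊤ := by
    rcases IsSimpleGroup.eq_bot_or_eq_top_of_normal (irrKer χ) (irrKer_normal χ) with hb | ht
    · exfalso
      have := hker n n.2
      rw [hb, Subgroup.mem_bot] at this
      exact hn1' this
    · exact ht
  have hall : ∀ g : G, (χ : G → ℂ) g = (χ : G → ℂ) 1 := by
    intro g
    rw [← mem_irrKer, htop]
    exact Subgroup.mem_top g
  have h3 := irr_classInner χ (trivIrr G)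
  rw [if_neg hχ] at h3
  unfold Cfsg.classInner at h3
  simp only [trivIrr_apply, map_one, mul_one, hall, Finset.sum_const, Finset.card_univ,
    nsmul_eq_mul] at h3
  have hG0 : (Nat.card G : ℂ) ≠ 0 := by exact_mod_cast (Nat.card_pos (α := G)).ne'
  rw [← Nat.card_eq_fintype_card, ← mul_assoc, inv_mul_cancel₀ hG0, one_mul] at h3
  exact irr_one_ne_zero χ h3

section Lam

variable (Λ : Cfsg.IrrCharacter G) (ξ₀ : Cfsg.IrrCharacter N)

/-- `Λ Λ̄` -/
noncomputable def psi : G → ℂ := (Λ : G → ℂ) * (irrConj Λ : G → ℂ)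

theorem psi_char : Cfsg.IsCharacter G (psi Λ) :=
  h7_isCharacter_mul (isCharacter_of_irr Λ) (isCharacter_of_irr (irrConj Λ))

theorem psi_apply (g : G) : psi Λ g = (Λ : G → ℂ) g * conj ((Λ : G → ℂ) g) := rfl

noncomputable def cc (χ : Cfsg.IrrCharacter G) : ℕ :=
  Classical.choose (classInner_character_nat (psi_char Λ) (isCharacter_of_irr χ))

theorem cc_spec (χ : Cfsg.IrrCharacter G) :
    Cfsg.classInner (psi Λ) (χ : G → ℂ) = (cc Λ χ : ℂ) :=
  Classical.choose_spec (classInner_character_nat (psi_char Λ) (isCharacter_of_irr χ))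

theorem cc_triv : cc Λ (trivIrr G) = 1 := by
  classical
  have key : ((cc Λ (trivIrr G) : ℕ) : ℂ) = ((1 : ℕ) : ℂ) := by
    rw [← cc_spec]
    have h1 := irr_classInner Λ Λ
    rw [if_pos rfl] at h1
    rw [Nat.cast_one, ← h1]
    unfold Cfsg.classInner
    congr 1
    refine Finset.sum_congr rfl fun g _ => ?_
    rw [psi_apply, trivIrr_apply, map_one, mul_one]
  exact_mod_cast key

theorem psi_expand : psi Λ = ∑ χ : Cfsg.IrrCharacter G, (cc Λ χ : ℂ) • (χ : G → ℂ) := by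
  have h1 := classFunction_expansion (psi Λ) (isCharacter_isClassFunction (psi_char Λ))
  simp only [cc_spec] at h1
  exact h1

theorem cc_deg : ∑ χ : Cfsg.IrrCharacter G, cc Λ χ * deg χ = deg Λ ^ 2 := by
  have key : ((∑ χ : Cfsg.IrrCharacter G, cc Λ χ * deg χ : ℕ) : ℂ) = ((deg Λ ^ 2 : ℕ) : ℂ) := by
    push_cast
    have h1 := congrFun (psi_expand Λ) 1
    rw [psi_apply, Finset.sum_apply, deg_spec, Complex.conj_natCast] at h1
    rw [sq, h1]
    refine Finset.sum_congr rfl fun χ _ => ?_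
    rw [Pi.smul_apply, smul_eq_mul, deg_spec]
  exact_mod_cast key

variable (hΛ : ∀ η : Cfsg.IrrCharacter N, (mult N Λ η : ℂ) = if η = ξ₀ then 1 else 0)

include hΛ in
theorem res_Lam : res N (Λ : G → ℂ) = (ξ₀ : N → ℂ) := by
  classical
  rw [res_expand N Λ]
  simp only [hΛ]
  rw [Finset.sum_eq_single ξ₀]
  · rw [if_pos rfl, one_smul]
  · intro η _ hη
    rw [if_neg hη, zero_smul]
  · intro hh; exact absurd (Finset.mem_univ _) hh

include hab hFab hC hΛ in
theorem cc_L (hξ₀ : IsT F ξ₀) {μ : Cfsg.IrrCharacter N} (hμ : ¬ IsT F μ) :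
    ∑ χ : Cfsg.IrrCharacter G, cc Λ χ * mult N χ μ = 1 := by
  classical
  have key : ((∑ χ : Cfsg.IrrCharacter G, cc Λ χ * mult N χ μ : ℕ) : ℂ) = ((1 : ℕ) : ℂ) := by
    push_cast
    have hres : res N (psi Λ) = ∑ χ : Cfsg.IrrCharacter G, (cc Λ χ : ℂ) • res N (χ : G → ℂ) := by
      funext n
      rw [res_apply, psi_expand Λ, Finset.sum_apply, Finset.sum_apply]
      refine Finset.sum_congr rfl fun χ _ => ?_
      rw [Pi.smul_apply, Pi.smul_apply, res_apply]
    have h1 : Cfsg.classInner (res N (psi Λ)) (μ : N → ℂ) =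
        ∑ χ : Cfsg.IrrCharacter G, (cc Λ χ : ℂ) * (mult N χ μ : ℂ) := by
      rw [hres, classInner_sum_left]
      refine Finset.sum_congr rfl fun χ _ => ?_
      rw [classInner_smul_left, mult_spec]
    rw [← h1]
    have h2 := irr_classInner ξ₀ ξ₀
    rw [if_pos rfl] at h2
    rw [← h2]
    unfold Cfsg.classInner
    congr 1
    refine Finset.sum_congr rfl fun n _ => ?_
    have h3 : res N (psi Λ) n = (ξ₀ : N → ℂ) n * conj ((ξ₀ : N → ℂ) n) := by
      have h4 := congrFun (res_Lam N Λ ξ₀ hΛ) n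
      rw [res_apply] at h4
      rw [res_apply, psi_apply, h4]
    rw [h3]
    by_cases hn : n ∈ F
    · rw [L_F F hab hμ hn, map_one, mul_one]
    · rw [T_vanish F hFab hC hξ₀ hn]; simp
  exact_mod_cast key

end Lam

end Cfsg.Agent.Lib.helper6.FeitMain
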