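import Mathlib
import Cfsg.Prelude.Def_Characters
import Cfsg.Agent.Lib.helper6.FeitMain3
import Cfsg.Agent.Lib.helper6.FeitComb2
import Cfsg.Agent.Lib.helper6.FeitComb3
import Cfsg.Agent.S0133

set_option autoImplicit false
set_option linter.unusedSectionVars false
open scoped ComplexConjugate

namespace Cfsg.Agent.Lib.helper6.FeitMain

open Cfsg.Agent.Lib.helper7 Cfsg.Agent.Lib.helper2 Cfsg.Agent.Lib.Helper25 Cfsg.Agent.Lib.Helper11
open Cfsg.Agent.Lib.helper6.FeitFrob Cfsg.Agent.Lib.helper6.FeitInd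
open Cfsg.Agent.Lib.helper6.FeitComb

/-- **Feit's theorem** (abelian kernel, abelian complement, strongly TI kernel): the
class number of a simple group containing such a Frobenius subgroup of index `h + 1` is small. -/
theorem feit_abelian {G : Type*} [Group G] [Finite G] [IsSimpleGroup G] (N : Subgroup G)
    (F : Subgroup N) [hFn : F.Normal]
    (hab : ∀ x y : N, x * y * x⁻¹ * y⁻¹ ∈ F)
    (hFab : ∀ u ∈ F, ∀ v ∈ F, u * v = v * u)
    (hC : ∀ n ∈ F, n ≠ 1 → Subgroup.centralizer ({n} : Set N) ≤ F)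
    (hTI : ∀ u : N, u ∈ F → u ≠ 1 → ∀ x : G, x⁻¹ * (u : G) * x ∈ N → x ∈ N)
    (h e t : ℕ) (hF : Nat.card F = h) (hidx : F.index = e) (hN : N.index = h + 1)
    (hte : h = t * e + 1) (ht : 3 ≤ t) (he : 3 ≤ e)
    (hcls : 1 + t + e ≤ Nat.card (ConjClasses G)) : False := by
  classical
  haveI : Fintype G := Fintype.ofFinite G
  haveI : Fintype N := Fintype.ofFinite N
  haveI : Fintype F := Fintype.ofFinite F
  haveI : Fintype (Cfsg.IrrCharacter G) := Fintype.ofFinite _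
  haveI : Fintype (Cfsg.IrrCharacter N) := Fintype.ofFinite _
  have he0 : 0 < e := by omega
  have hh1 : 1 < h := by rw [hte]; nlinarith
  -- cardinalities
  have hcardT : Fintype.card {ξ : Cfsg.IrrCharacter N // IsT F ξ} = t := by
    rw [Fintype.card_subtype]
    have h1 := card_T F hab hFab hC
    rw [hidx, hF] at h1
    have h2 : (Finset.univ.filter (fun η : Cfsg.IrrCharacter N => IsT F η)).card * e + 1 = h := by
      exact_mod_cast h1
    rw [hte] at h2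
    have h3 : (Finset.univ.filter (fun η : Cfsg.IrrCharacter N => IsT F η)).card * e = t * e := by
      omega
    exact Nat.eq_of_mul_eq_mul_right he0 h3
  have hcardL : Fintype.card {μ : Cfsg.IrrCharacter N // ¬ IsT F μ} = e := by
    rw [Fintype.card_subtype]
    have h1 := card_L F hab
    rw [hidx] at h1
    exact_mod_cast h1
  have hcardI : 1 + Fintype.card {ξ : Cfsg.IrrCharacter N // IsT F ξ} + e ≤
      Fintype.card (Cfsg.IrrCharacter G) := by
    rw [hcardT, ← Nat.card_eq_fintype_card, Cfsg.Agent.S0133.result]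
    exact hcls
  -- conversion of sums
  have hsumT : ∀ f : Cfsg.IrrCharacter N → ℕ,
      ∑ ξ ∈ Finset.univ.filter (fun η : Cfsg.IrrCharacter N => IsT F η), f ξ =
        ∑ ξ : {ξ : Cfsg.IrrCharacter N // IsT F ξ}, f ξ.1 := by
    intro f
    exact Finset.sum_subtype _ (fun x => by simp) f
  have hsumL : ∀ f : Cfsg.IrrCharacter N → ℕ,
      ∑ μ ∈ Finset.univ.filter (fun η : Cfsg.IrrCharacter N => ¬ IsT F η), f μ =
        ∑ μ : {μ : Cfsg.IrrCharacter N // ¬ IsT F μ}, f μ.1 := by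
    intro f
    exact Finset.sum_subtype _ (fun x => by simp) f
  -- the data
  set mT : Cfsg.IrrCharacter G → {ξ : Cfsg.IrrCharacter N // IsT F ξ} → ℕ :=
    fun χ ξ => mult N χ ξ.1 with hmT
  set mL : Cfsg.IrrCharacter G → {μ : Cfsg.IrrCharacter N // ¬ IsT F μ} → ℕ :=
    fun χ μ => mult N χ μ.1 with hmL
  have h0 : ∀ ξ, mT (trivIrr G) ξ = 0 := by
    intro ξ
    show mult N (trivIrr G) ξ.1 = 0
    rw [multTriv, if_neg]
    intro hh
    exact triv_notT N F (hh ▸ ξ.2)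
  have hne : ∀ χ, χ ≠ trivIrr G → ∃ ξ, 1 ≤ mT χ ξ := by
    intro χ hχ
    obtain ⟨ξ, hξ, h1⟩ := neTriv N F hab h hF hh1 hχ
    exact ⟨⟨ξ, hξ⟩, h1⟩
  have hgram : ∀ ξ ξ', ∑ χ, mT χ ξ * mT χ ξ' = e + if ξ = ξ' then 1 else 0 := by
    intro ξ ξ'
    show ∑ χ, mult N χ ξ.1 * mult N χ ξ'.1 = _
    rw [gramTT N F hFab hC hTI h e hF hidx hN ξ.2 ξ'.2]
    congr 1
    by_cases hh : ξ = ξ'
    · rw [if_pos hh, if_pos (congrArg Subtype.val hh)]
    · rw [if_neg hh, if_neg (fun h' => hh (Subtype.ext h'))]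
  obtain ⟨Λ, hΛinj, hΛ0, hΛm, hO, hI⟩ :=
    feit_comb mT e (trivIrr G) (by rw [hcardT]; exact ht) h0 hne hgram hcardI
  have hCC : ∀ ξ μ, ∑ χ, mT χ ξ * mL χ μ = 1 := by
    intro ξ μ
    exact gramTL N F hab hFab hC hTI h e hF hidx hN ξ.2 μ.2
  have hHL : ∀ μ, ∑ χ, mL χ μ * deg χ = h + 1 := fun μ => degL N F hab h hN μ.2
  have hHT : ∀ ξ, ∑ χ, mT χ ξ * deg χ = (h + 1) * e := fun ξ => degT N F hFab hC h e hidx hN ξ.2
  have hA : ∀ χ, deg χ = ∑ μ, mL χ μ + e * ∑ ξ, mT χ ξ := by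
    intro χ
    rw [degRes N F hab hFab hC e hidx χ, hsumL, hsumT]
  have hZ := feit_final1 mT mL deg (trivIrr G) Λ h e t hΛinj hΛ0 hΛm hO h0 hCC hHL hHT hA hcardT ht hte
  -- second half
  have hD : ∑ χ, (∑ μ, mL χ μ) ^ 2 = 2 * e := by
    rw [← gramLL N F hab hFab hC hTI h e hF hidx hN]
    refine Finset.sum_congr rfl fun χ _ => ?_
    rw [hsumL]
  have hE : ∀ μ, mL (trivIrr G) μ = if μ = ⟨trivIrr N, triv_notT N F⟩ then 1 else 0 := by
    intro μ
    show mult N (trivIrr G) μ.1 = _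
    rw [multTriv]
    by_cases hh : μ = ⟨trivIrr N, triv_notT N F⟩
    · rw [if_pos hh, if_pos (congrArg Subtype.val hh)]
    · rw [if_neg hh, if_neg (fun h' => hh (Subtype.ext h'))]
  have hTne : Nonempty {ξ : Cfsg.IrrCharacter N // IsT F ξ} := by
    apply Fintype.card_pos_iff.mp
    omega
  obtain ⟨ξ₀⟩ := hTne
  have hd0 : deg (trivIrr G) = 1 := by
    have := deg_spec (trivIrr G)
    rw [trivIrr_apply] at this
    exact_mod_cast this.symm
  have hdΛ : deg (Λ ξ₀) = e := by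
    rw [hA]
    have h1 : ∑ μ, mL (Λ ξ₀) μ = 0 := Finset.sum_eq_zero fun μ _ => hZ ξ₀ μ
    have h2 : ∑ ξ, mT (Λ ξ₀) ξ = 1 := by
      simp only [hΛm]
      rw [Finset.sum_ite_eq' Finset.univ ξ₀]
      simp
    rw [h1, h2]
    omega
  have hΛmult : ∀ η : Cfsg.IrrCharacter N, (mult N (Λ ξ₀) η : ℂ) = if η = ξ₀.1 then 1 else 0 := by
    intro η
    by_cases hη : IsT F η
    · have := hΛm ξ₀ ⟨η, hη⟩
      show (mult N (Λ ξ₀) η : ℂ) = _
      have h1 : mult N (Λ ξ₀) η = if (⟨η, hη⟩ : {ξ : Cfsg.IrrCharacter N // IsT F ξ}) = ξ₀ then 1 else 0 := this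
      rw [h1]
      by_cases hh : (⟨η, hη⟩ : {ξ : Cfsg.IrrCharacter N // IsT F ξ}) = ξ₀
      · rw [if_pos hh, if_pos (congrArg Subtype.val hh)]; simp
      · rw [if_neg hh, if_neg (fun h' => hh (Subtype.ext h'))]; simp
    · have h1 : mult N (Λ ξ₀) η = 0 := hZ ξ₀ ⟨η, hη⟩
      rw [h1, if_neg]
      · simp
      · intro hh
        exact hη (hh ▸ ξ₀.2)
  have hcd : ∑ χ, cc (Λ ξ₀) χ * deg χ = e ^ 2 := by
    rw [cc_deg, hdΛ]
  have hcL : ∀ μ, ∑ χ, cc (Λ ξ₀) χ * mL χ μ = 1 := fun μ =>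
    cc_L N F hab hFab hC (Λ ξ₀) ξ₀.1 hΛmult ξ₀.2 μ.2
  exact feit_final2 mT mL deg (cc (Λ ξ₀)) (trivIrr G) Λ ⟨trivIrr N, triv_notT N F⟩ h e t
    hΛinj hΛ0 hΛm hO h0 hZ hCC hD hE hHL (cc_triv (Λ ξ₀)) hd0 hcd hcL hcardL he hcardT ht hte

end Cfsg.Agent.Lib.helper6.FeitMain
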