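import Mathlib

set_option autoImplicit false

namespace Cfsg.Agent.Lib.helper6

open MulAction

theorem ncard_orbit_mul_card_stabilizer {Q α : Type*} [Group Q] [MulAction Q α] (b : α) :
    (orbit Q b).ncard * Nat.card (stabilizer Q b) = Nat.card Q := by
  rw [← Nat.card_coe_set_eq, ← Nat.card_prod,
    Nat.card_congr (orbitProdStabilizerEquivGroup Q b)]

theorem dvd_ncard_of_invariant {Q α : Type*} [Group Q] [MulAction Q α] (t : ℕ) :
    ∀ (n : ℕ) (S : Set α), S.Finite → S.ncard = n → (∀ q : Q, ∀ x ∈ S, q • x ∈ S) →
      (∀ x ∈ S, (orbit Q x).ncard = t) → t ∣ n := by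
  intro n
  induction n using Nat.strong_induction_on with
  | _ n ih =>
  intro S hfin hn hinv horb
  rcases S.eq_empty_or_nonempty with rfl | ⟨x, hx⟩
  · rw [Set.ncard_empty] at hn
    rw [← hn]
    exact dvd_zero t
  · have hO : orbit Q x ⊆ S := by
      rintro _ ⟨q, rfl⟩
      exact hinv q x hx
    have hOfin : (orbit Q x).Finite := hfin.subset hO
    have htpos : 0 < t := by
      rw [← horb x hx, Set.ncard_pos hOfin]
      exact ⟨x, mem_orbit_self x⟩
    have hcard : (S \ orbit Q x).ncard = n - t := by
      rw [Set.ncard_sdiff hO hOfin, hn, horb x hx]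
    have htle : t ≤ n := by
      rw [← hn, ← horb x hx]
      exact Set.ncard_le_ncard hO hfin
    have hdvd : t ∣ n - t := by
      apply ih (n - t) (by omega) (S \ orbit Q x) (hfin.subset Set.sdiff_subset) hcard
      · intro q y hy
        refine ⟨hinv q y hy.1, ?_⟩
        intro hqy
        apply hy.2
        have : y = q⁻¹ • (q • y) := by rw [inv_smul_smul]
        rw [this]
        exact mem_orbit_of_mem_orbit q⁻¹ hqy
      · intro y hy
        exact horb y hy.1
    have : n = (n - t) + t := by omega
    rw [this]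
    exact dvd_add hdvd (dvd_refl t)

theorem dvd_ncard_of_invariant' {Q α : Type*} [Group Q] [MulAction Q α] (t : ℕ) :
    ∀ (n : ℕ) (S : Set α), S.Finite → S.ncard = n → (∀ q : Q, ∀ x ∈ S, q • x ∈ S) →
      (∀ x ∈ S, t ∣ (orbit Q x).ncard) → t ∣ n := by
  intro n
  induction n using Nat.strong_induction_on with
  | _ n ih =>
  intro S hfin hn hinv horb
  rcases S.eq_empty_or_nonempty with rfl | ⟨x, hx⟩
  · rw [Set.ncard_empty] at hn
    rw [← hn]
    exact dvd_zero t
  · have hO : orbit Q x ⊆ S := by
      rintro _ ⟨q, rfl⟩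
      exact hinv q x hx
    have hOfin : (orbit Q x).Finite := hfin.subset hO
    have hOpos : 0 < (orbit Q x).ncard := by
      rw [Set.ncard_pos hOfin]
      exact ⟨x, mem_orbit_self x⟩
    have hcard : (S \ orbit Q x).ncard = n - (orbit Q x).ncard := by
      rw [Set.ncard_sdiff hO hOfin, hn]
    have htle : (orbit Q x).ncard ≤ n := by
      rw [← hn]
      exact Set.ncard_le_ncard hO hfin
    have hdvd : t ∣ n - (orbit Q x).ncard := by
      apply ih (n - (orbit Q x).ncard) (by omega) (S \ orbit Q x) (hfin.subset Set.sdiff_subset) hcard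
      · intro q y hy
        refine ⟨hinv q y hy.1, ?_⟩
        intro hqy
        apply hy.2
        have : y = q⁻¹ • (q • y) := by rw [inv_smul_smul]
        rw [this]
        exact mem_orbit_of_mem_orbit q⁻¹ hqy
      · intro y hy
        exact horb y hy.1
    have : n = (n - (orbit Q x).ncard) + (orbit Q x).ncard := by omega
    rw [this]
    exact dvd_add hdvd (horb x hx)

theorem pgroup_ncard_modEq {p : ℕ} [Fact p.Prime] {Q α : Type*} [Group Q] [MulAction Q α] [Finite α]
    (hQ : IsPGroup p Q) (S : Set α) (hinv : ∀ q : Q, ∀ x ∈ S, q • x ∈ S) :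
    S.ncard ≡ (S ∩ fixedPoints Q α).ncard [MOD p] := by
  have hsplit := Set.ncard_inter_add_ncard_sdiff_eq_ncard S (fixedPoints Q α) (Set.toFinite _)
  have hdvd : p ∣ (S \ fixedPoints Q α).ncard := by
    apply dvd_ncard_of_invariant' (Q := Q) p _ (S \ fixedPoints Q α) (Set.toFinite _) rfl
    · intro q x hx
      refine ⟨hinv q x hx.1, ?_⟩
      intro hqx
      apply hx.2
      rw [mem_fixedPoints] at hqx ⊢
      intro r
      have := hqx (q * r * q⁻¹)
      rw [mul_smul, mul_smul, inv_smul_smul] at this
      exact MulAction.injective q this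
    · intro x hx
      obtain ⟨n, hn⟩ := hQ.card_orbit x
      rw [Nat.card_coe_set_eq] at hn
      rw [hn]
      rcases Nat.eq_zero_or_pos n with h0 | h0
      · exfalso
        apply hx.2
        rw [h0, pow_zero] at hn
        rw [Set.ncard_eq_one] at hn
        obtain ⟨y, hy⟩ := hn
        have hxy : x = y := by
          have : x ∈ orbit Q x := mem_orbit_self x
          rw [hy] at this
          exact this
        rw [mem_fixedPoints]
        intro r
        have : r • x ∈ orbit Q x := mem_orbit x r
        rw [hy, Set.mem_singleton_iff] at this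
        rw [this, hxy]
      · exact dvd_pow_self p (by omega)
  rw [← hsplit]
  exact (Nat.modEq_iff_dvd' (Nat.le_add_right _ _)).mpr (by simpa using hdvd) |>.symm

end Cfsg.Agent.Lib.helper6
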