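import Mathlib
import Cfsg.Agent.Lib.helper6.ZassInvol
import Cfsg.Agent.S0882
import Cfsg.Agent.Lib.helper6.ZassClassA

set_option autoImplicit false

namespace Cfsg.Agent.Lib.helper6.ZassClass

open MulAction Cfsg.Agent.Lib.helper6.ZassInvol

section Main2

variable {G Ω : Type*} [Group G] [MulAction G Ω] [Finite G] [Fintype Ω]

theorem classes_outside (hZ : Cfsg.IsZassenhausGroup G Ω) [IsSimpleGroup G] {a b : Ω} (hab : a ≠ b)
    (h e : ℕ) (hh : Fintype.card Ω = h + 1)
    (he : Nat.card ↥(stabilizer G a ⊓ stabilizer G b : Subgroup G) = e)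
    (hodd : Odd e) (hlt : 2 * e < h - 1) (H : Subgroup G)
    (hHa : H ≤ stabilizer G a)
    (hHfix : ∀ u ∈ H, u ≠ 1 → ∀ c : Ω, u • c = c → c = a) :
    e ≤ Nat.card {C : ConjClasses G // ∀ g : G, ConjClasses.mk g = C → g ∉ H} := by
  classical
  haveI := Fintype.ofFinite G
  have hodd' : Odd (Nat.card ↥(stabilizer G a ⊓ stabilizer G b : Subgroup G)) := by
    rw [he]; exact hodd
  set I : Finset G := Finset.univ.filter (fun t : G => orderOf t = 2) with hI
  set Good : Finset (ConjClasses G) :=
    Finset.univ.filter (fun C => ∀ g : G, ConjClasses.mk g = C → g ∉ H) with hGood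
  rw [Nat.card_eq_fintype_card, Fintype.card_subtype]
  change e ≤ Good.card
  have hIcard : I.card = if Even h then e * (h + 1) else e * h := by
    have := (Cfsg.Agent.S0882.result hZ hab h e hh he hodd hlt).2
    rw [Nat.card_eq_fintype_card, Fintype.card_subtype] at this
    exact this
  have hG : Fintype.card G = (h + 1) * (h * e) := by
    have := card_G (G := G) (Ω := Ω) hZ.2.1 hab
    rw [Nat.card_eq_fintype_card, hh, he] at this
    rw [this]; simp
  have hmemI : ∀ {t : G}, t ∈ I ↔ orderOf t = 2 := by
    intro t; rw [hI, Finset.mem_filter]; simp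
  have hsq : ∀ {t : G}, orderOf t = 2 → t * t = 1 := by
    intro t ht; rw [← pow_two, ← ht]; exact pow_orderOf_eq_one t
  set P : Finset (G × G) := (I ×ˢ I).filter (fun p => ConjClasses.mk (p.1 * p.2) ∈ Good) with hP
  set Bad : Finset (G × G) := (I ×ˢ I).filter (fun p => ¬ ConjClasses.mk (p.1 * p.2) ∈ Good)
    with hBad
  have hPB : P.card + Bad.card = I.card * I.card := by
    rw [hP, hBad, Finset.card_filter_add_card_filter_not, Finset.card_product]
  -- P injects into the inverting pairs
  have hPs : P.card ≤ Fintype.card G * Good.card := by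
    refine le_trans ?_ (card_inverting_set_le Good)
    apply Finset.card_le_card_of_injOn (fun p => (p.1, p.1 * p.2))
    · intro p hp
      obtain ⟨hp1, hp2⟩ := Finset.mem_filter.mp (Finset.mem_coe.mp hp)
      obtain ⟨hτ, hσ⟩ := Finset.mem_product.mp hp1
      have hτ2 := hsq (hmemI.mp hτ)
      have hσ2 := hsq (hmemI.mp hσ)
      refine Finset.mem_coe.mpr (Finset.mem_filter.mpr ⟨Finset.mem_univ _, hp2, ?_⟩)
      simp only
      rw [mul_inv_rev, inv_eq_of_mul_eq_one_left hτ2, inv_eq_of_mul_eq_one_left hσ2,
        ← mul_assoc, hτ2, one_mul]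
    · intro p _ q _ hpq
      simp only [Prod.mk.injEq] at hpq
      obtain ⟨h1, h2⟩ := hpq
      rw [h1] at h2
      exact Prod.ext h1 (mul_left_cancel h2)
  -- description of bad pairs
  have hbad : ∀ τ σ : G, orderOf τ = 2 → orderOf σ = 2 →
      ¬ ConjClasses.mk (τ * σ) ∈ Good → σ = τ ∨ ∃ c : Ω, τ • c = c ∧ σ • c = c := by
    intro τ σ hτ hσ hng
    rw [hGood, Finset.mem_filter] at hng
    simp only [Finset.mem_univ, true_and, not_forall, not_not] at hng
    obtain ⟨w, hw, hwH⟩ := hng
    obtain ⟨g, hg⟩ := isConj_iff.mp (ConjClasses.mk_eq_mk_iff_isConj.mp hw).symm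
    by_cases hw1 : w = 1
    · left
      rw [hw1] at hg
      have h1 : τ * σ = 1 := by
        have : τ * σ = g⁻¹ * (g * (τ * σ) * g⁻¹) * g := by group
        rw [this, hg]; group
      have h2 := hsq hτ
      exact mul_left_cancel (h1.trans h2.symm)
    · right
      have hwa : w • a = a := mem_stabilizer_iff.mp (hHa hwH)
      obtain ⟨h1, h2⟩ := common_fix hτ hσ hg hwa (hHfix w hwH hw1)
      exact ⟨_, h1, h2⟩
  by_cases hev : Even h
  · -- odd degree
    rw [if_pos hev] at hIcard
    have hn : Odd (Fintype.card Ω) := by rw [hh]; exact hev.add_one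
    have hfixcard : ∀ c : Ω, (I.filter (fun t => t • c = c)).card = e := by
      intro c
      have := invol_fix_card hZ hab hodd' hn c
      rw [← hI, hIcard, hh] at this
      exact Nat.eq_of_mul_eq_mul_right (by omega) this
    have hBadle : Bad.card ≤ e * I.card := by
      apply Finset.card_le_mul_card_image_of_maps_to (f := Prod.fst)
      · intro p hp
        exact (Finset.mem_product.mp (Finset.mem_filter.mp hp).1).1
      · intro τ hτI
        have hτ := hmemI.mp hτI
        have hfc := fixed_count hZ hab hodd' hτ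
        rw [if_pos hn, Nat.card_coe_set_eq, Set.ncard_eq_one] at hfc
        obtain ⟨c, hc⟩ := hfc
        have hcfix : τ • c = c := by
          have : c ∈ fixedBy Ω τ := by rw [hc]; exact Set.mem_singleton c
          exact this
        have hcuniq : ∀ x : Ω, τ • x = x → x = c := by
          intro x hx
          have : x ∈ fixedBy Ω τ := hx
          rw [hc] at this
          exact this
        rw [← hfixcard c]
        apply Finset.card_le_card_of_injOn Prod.snd
        · intro p hp
          obtain ⟨hp1, hp2⟩ := Finset.mem_filter.mp (Finset.mem_coe.mp hp)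
          obtain ⟨hp3, hp4⟩ := Finset.mem_filter.mp hp1
          obtain ⟨h1, h2⟩ := Finset.mem_product.mp hp3
          refine Finset.mem_coe.mpr (Finset.mem_filter.mpr ⟨h2, ?_⟩)
          rcases hbad p.1 p.2 (hmemI.mp h1) (hmemI.mp h2) hp4 with h | ⟨c', hc1, hc2⟩
          · rw [h, hp2]; exact hcfix
          · rw [hp2] at hc1
            rw [← hcuniq c' hc1]; exact hc2
        · intro p hp q hq hpq
          have hp2 := (Finset.mem_filter.mp (Finset.mem_coe.mp hp)).2
          have hq2 := (Finset.mem_filter.mp (Finset.mem_coe.mp hq)).2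
          exact Prod.ext (hp2.trans hq2.symm) hpq
    -- arithmetic
    rw [hIcard] at hPB hBadle
    rw [hG] at hPs
    have h1 : e * (h + 1) * (e * (h + 1)) ≤ (h + 1) * (h * e) * Good.card + e * (e * (h + 1)) := by
      rw [← hPB]; exact Nat.add_le_add hPs hBadle
    have h2 : (h + 1) * (h * e) * e ≤ (h + 1) * (h * e) * Good.card := by
      have : e * (h + 1) * (e * (h + 1)) = (h + 1) * (h * e) * e + e * (e * (h + 1)) := by ring
      rw [this] at h1
      exact Nat.le_of_add_le_add_right h1
    have hpos : 0 < (h + 1) * (h * e) := by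
      have he0 : 0 < e := hodd.pos
      have hh0 : 0 < h := by omega
      positivity
    exact Nat.le_of_mul_le_mul_left h2 hpos
  · -- even degree: involutions are fixed-point-free
    rw [if_neg hev] at hIcard
    have hn : ¬ Odd (Fintype.card Ω) := by
      rw [hh, Nat.not_odd_iff_even]
      exact (Nat.not_even_iff_odd.mp hev).add_one
    have hBadle : Bad.card ≤ I.card := by
      apply Finset.card_le_card_of_injOn Prod.fst
      · intro p hp
        exact Finset.mem_coe.mpr (Finset.mem_product.mp (Finset.mem_filter.mp (Finset.mem_coe.mp hp)).1).1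
      · intro p hp q hq hpq
        have key : ∀ p : G × G, p ∈ Bad → p.2 = p.1 := by
          intro p hp
          obtain ⟨hp3, hp4⟩ := Finset.mem_filter.mp hp
          obtain ⟨h1, h2⟩ := Finset.mem_product.mp hp3
          rcases hbad p.1 p.2 (hmemI.mp h1) (hmemI.mp h2) hp4 with h | ⟨c', hc1, hc2⟩
          · exact h
          · exfalso
            have hfc := fixed_count hZ hab hodd' (hmemI.mp h1)
            rw [if_neg hn, Nat.card_coe_set_eq, Set.ncard_eq_zero] at hfc
            have : c' ∈ fixedBy Ω p.1 := hc1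
            rw [hfc] at this
            exact this
        exact Prod.ext hpq ((key p (Finset.mem_coe.mp hp)).trans (hpq.trans (key q (Finset.mem_coe.mp hq)).symm))
    rw [hIcard] at hPB hBadle
    rw [hG] at hPs
    have h1 : e * h * (e * h) ≤ (h + 1) * (h * e) * Good.card + e * h := by
      rw [← hPB]; exact Nat.add_le_add hPs hBadle
    by_contra hK
    push Not at hK
    have he0 : 0 < e := hodd.pos
    have hh0 : 0 < h := by omega
    have hK' : Good.card ≤ e - 1 := by omega
    have h2 : (h + 1) * (h * e) * Good.card ≤ (h + 1) * (h * e) * (e - 1) :=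
      Nat.mul_le_mul_left _ hK'
    obtain ⟨k, rfl⟩ : ∃ k, e = k + 1 := ⟨e - 1, by omega⟩
    have e1 : k + 1 - 1 = k := by omega
    rw [e1] at h2
    have h3 : (k + 1) * h * ((k + 1) * h) ≤ (h + 1) * (h * (k + 1)) * k + (k + 1) * h := by omega
    have h4 : (k + 1) * h * ((k + 1) * h) ≤ (k + 1) * h * ((h + 1) * k + 1) := by
      have : (h + 1) * (h * (k + 1)) * k + (k + 1) * h = (k + 1) * h * ((h + 1) * k + 1) := by ring
      rw [this] at h3; exact h3
    have hpos : 0 < (k + 1) * h := by positivity
    have h5 := Nat.le_of_mul_le_mul_left h4 hpos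
    have : (k + 1) * h = k * h + h := by ring
    have : (h + 1) * k + 1 = k * h + k + 1 := by ring
    omega

end Main2

end Cfsg.Agent.Lib.helper6.ZassClass
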