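import Mathlib
import Cfsg.Agent.Lib.helper6.ZassPSL3

set_option autoImplicit false

namespace Cfsg.Agent.Lib.helper6.ZassFeit

open MulAction Cfsg.Agent.Lib.helper6.ZassPSL3

variable {G Ω : Type*} [Group G] [MulAction G Ω]
variable {pinf p0 : Ω} {KG : Subgroup G}

section Basic

variable (Z : ZK G Ω pinf p0 KG)
include Z

theorem KG_le : KG ≤ stabilizer G pinf := fun k hk => mem_stabilizer_iff.mpr (Z.kfix k hk)

/-- every element of the point stabiliser is a kernel element times an element of the two-point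
stabiliser -/
theorem N_decomp {g : G} (hg : g • pinf = pinf) :
    ∃ u ∈ KG, ∃ k : G, k • pinf = pinf ∧ k • p0 = p0 ∧ g = u * k := by
  have h1 : g • p0 ≠ pinf := by
    intro h
    have : g • p0 = g • pinf := by rw [h, hg]
    exact Z.hi0 (MulAction.injective g this).symm
  obtain ⟨u, hu, hup⟩ := Z.ktr p0 (g • p0) (Ne.symm Z.hi0) h1
  refine ⟨u, hu, u⁻¹ * g, ?_, ?_, by group⟩
  · rw [mul_smul, hg, inv_smul_eq_iff, Z.kfix u hu]
  · rw [mul_smul, inv_smul_eq_iff, hup]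

/-- strong TI property of the kernel -/
theorem kernel_TI {u : G} (hu : u ∈ KG) (hu1 : u ≠ 1) {g : G} (hg : (g⁻¹ * u * g) • pinf = pinf) :
    g • pinf = pinf := by
  by_contra hne
  apply Z.kfpf u hu hu1 (g • pinf) hne
  have : g • ((g⁻¹ * u * g) • pinf) = g • pinf := by rw [hg]
  rw [← mul_smul] at this
  have e : g * (g⁻¹ * u * g) = u * g := by group
  rw [e, mul_smul] at this
  exact this

/-- the kernel is self-centralising in the point stabiliser -/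
theorem kernel_cent (kcomm : ∀ x ∈ KG, ∀ y ∈ KG, x * y = y * x) {u : G} (hu : u ∈ KG) (hu1 : u ≠ 1)
    {g : G} (hg : g • pinf = pinf) (hc : g * u = u * g) : g ∈ KG := by
  obtain ⟨v, hv, k, hki, hk0, rfl⟩ := N_decomp Z hg
  have h1 : k * u * k⁻¹ = u := by
    have h2 : v * k * u = v * u * k := by
      rw [hc, ← mul_assoc, kcomm u hu v hv]
    have h3 : k * u = u * k := by
      have := congrArg (fun z => v⁻¹ * z) h2
      simpa [mul_assoc] using this
    rw [h3]; group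
  have hk1 : k = 1 := Z.H_semireg hki hk0 hu hu1 h1
  rw [hk1, mul_one]
  exact hv

/-- commutators of the point stabiliser lie in the kernel, if the two-point stabiliser is
commutative -/
theorem comm_mem (hE : ∀ k k' : G, k • pinf = pinf → k • p0 = p0 → k' • pinf = pinf → k' • p0 = p0 →
      k * k' = k' * k) {a b : G} (ha : a • pinf = pinf) (hb : b • pinf = pinf) :
    a * b * a⁻¹ * b⁻¹ ∈ KG := by
  obtain ⟨u₁, hu₁, k₁, h1i, h10, rfl⟩ := N_decomp Z ha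
  obtain ⟨u₂, hu₂, k₂, h2i, h20, rfl⟩ := N_decomp Z hb
  have hc : k₂ * k₁⁻¹ = k₁⁻¹ * k₂ := by
    have := hE k₁ k₂ h1i h10 h2i h20
    calc k₂ * k₁⁻¹ = k₁⁻¹ * (k₁ * k₂) * k₁⁻¹ := by group
      _ = k₁⁻¹ * (k₂ * k₁) * k₁⁻¹ := by rw [this]
      _ = k₁⁻¹ * k₂ := by group
  have e : u₁ * k₁ * (u₂ * k₂) * (u₁ * k₁)⁻¹ * (u₂ * k₂)⁻¹ =
      u₁ * (k₁ * u₂ * k₁⁻¹) * (k₂ * u₁⁻¹ * k₂⁻¹) * u₂⁻¹ := by
    calc u₁ * k₁ * (u₂ * k₂) * (u₁ * k₁)⁻¹ * (u₂ * k₂)⁻¹
        = u₁ * k₁ * u₂ * (k₂ * k₁⁻¹) * u₁⁻¹ * k₂⁻¹ * u₂⁻¹ := by group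
      _ = u₁ * k₁ * u₂ * (k₁⁻¹ * k₂) * u₁⁻¹ * k₂⁻¹ * u₂⁻¹ := by rw [hc]
      _ = u₁ * (k₁ * u₂ * k₁⁻¹) * (k₂ * u₁⁻¹ * k₂⁻¹) * u₂⁻¹ := by group
  rw [e]
  exact KG.mul_mem (KG.mul_mem (KG.mul_mem hu₁ (Z.knorm k₁ h1i u₂ hu₂))
    (Z.knorm k₂ h2i u₁⁻¹ (KG.inv_mem hu₁))) (KG.inv_mem hu₂)

end Basic

section Card

variable [Fintype Ω] (Z : ZK G Ω pinf p0 KG)
include Z

theorem card_KG : Nat.card KG + 1 = Fintype.card Ω := by
  classical
  have hbij : Function.Bijective (fun u : KG => (⟨(u : G) • p0, Z.ne_of_smul u.2 (Ne.symm Z.hi0)⟩ :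
      {z : Ω // z ≠ pinf})) := by
    constructor
    · intro u v huv
      have h1 : (u : G) • p0 = (v : G) • p0 := congrArg Subtype.val huv
      have h2 : ((v : G)⁻¹ * (u : G)) • p0 = p0 := by rw [mul_smul, h1, inv_smul_smul]
      by_contra hne
      have h3 : (v : G)⁻¹ * (u : G) ≠ 1 := by
        intro h
        apply hne
        apply Subtype.ext
        have : (u : G) = (v : G) := by
          have := congrArg (fun z => (v : G) * z) h
          simpa using this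
        exact this
      exact Z.kfpf _ (KG.mul_mem (KG.inv_mem v.2) u.2) h3 p0 (Ne.symm Z.hi0) h2
    · intro z
      obtain ⟨k, hk, hkz⟩ := Z.ktr p0 z.1 (Ne.symm Z.hi0) z.2
      exact ⟨⟨k, hk⟩, Subtype.ext hkz⟩
  rw [Nat.card_congr (Equiv.ofBijective _ hbij), Nat.card_eq_fintype_card,
    Fintype.card_subtype_compl, Fintype.card_subtype_eq]
  have : 1 ≤ Fintype.card Ω := Fintype.card_pos_iff.mpr ⟨pinf⟩
  omega

end Card

end Cfsg.Agent.Lib.helper6.ZassFeit
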