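import Mathlib
import Cfsg.Agent.Lib.helper6.ZassFeitA

set_option autoImplicit false

namespace Cfsg.Agent.Lib.helper6.ZassFeit

open MulAction Cfsg.Agent.Lib.helper6.ZassPSL3

variable {G Ω : Type*} [Group G] [MulAction G Ω]
variable {pinf p0 : Ω} {KG : Subgroup G}

/-- conjugate kernel elements are conjugate under the two-point stabiliser -/
theorem conj_in_E (Z : ZK G Ω pinf p0 KG) (kcomm : ∀ x ∈ KG, ∀ y ∈ KG, x * y = y * x)
    {u₀ u : G} (hu₀ : u₀ ∈ KG) (hu : u ∈ KG) (hu1 : u₀ ≠ 1) (hc : IsConj u₀ u) :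
    ∃ k : G, k • pinf = pinf ∧ k • p0 = p0 ∧ u = k * u₀ * k⁻¹ := by
  obtain ⟨c, hc⟩ := isConj_iff.mp hc
  have h1 : ((c⁻¹)⁻¹ * u₀ * c⁻¹) • pinf = pinf := by
    rw [inv_inv, hc]; exact Z.kfix u hu
  have h2 : c⁻¹ • pinf = pinf := kernel_TI Z hu₀ hu1 h1
  have h3 : c • pinf = pinf := by
    have := congrArg (fun z => c • z) h2
    simp only [smul_inv_smul] at this
    exact this.symm
  obtain ⟨v, hv, k, hki, hk0, rfl⟩ := N_decomp Z h3
  refine ⟨k, hki, hk0, ?_⟩
  have h4 : k * u₀ * k⁻¹ ∈ KG := Z.knorm k hki u₀ hu₀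
  rw [← hc]
  calc v * k * u₀ * (v * k)⁻¹ = v * (k * u₀ * k⁻¹) * v⁻¹ := by group
    _ = (k * u₀ * k⁻¹) * v * v⁻¹ := by rw [kcomm v hv _ h4]
    _ = k * u₀ * k⁻¹ := by group

theorem class_count [Fintype Ω] [Finite G] (Z : ZK G Ω pinf p0 KG)
    (kcomm : ∀ x ∈ KG, ∀ y ∈ KG, x * y = y * x) (e t m : ℕ)
    (he : Nat.card ↥(stabilizer G pinf ⊓ stabilizer G p0 : Subgroup G) = e)
    (hte : Nat.card KG = t * e + 1) (he0 : 0 < e)
    (hm : m ≤ Nat.card {C : ConjClasses G // ∀ g : G, ConjClasses.mk g = C → g ∉ KG}) :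
    1 + t + m ≤ Nat.card (ConjClasses G) := by
  classical
  haveI : Fintype G := Fintype.ofFinite G
  set s : Finset KG := Finset.univ.filter (fun u => u ≠ 1) with hs
  set f : KG → ConjClasses G := fun u => ConjClasses.mk (u : G) with hf
  have hscard : s.card = t * e := by
    rw [hs, Finset.filter_ne' Finset.univ (1 : KG), Finset.card_erase_of_mem (Finset.mem_univ _),
      Finset.card_univ, ← Nat.card_eq_fintype_card, hte]
    omega
  have hfiber : ∀ a ∈ s.image f, (s.filter (fun u => f u = a)).card ≤ e := by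
    intro a ha
    obtain ⟨u₀, hu₀s, rfl⟩ := Finset.mem_image.mp ha
    have hu₀1 : (u₀ : G) ≠ 1 := by
      intro h
      exact (Finset.mem_filter.mp hu₀s).2 (Subtype.ext h)
    have hsub : (s.filter (fun u => f u = f u₀)).image (fun u : KG => (u : G)) ⊆
        (Finset.univ : Finset ↥(stabilizer G pinf ⊓ stabilizer G p0 : Subgroup G)).image
          (fun k : ↥(stabilizer G pinf ⊓ stabilizer G p0 : Subgroup G) => (k : G) * (u₀ : G) * (k : G)⁻¹) := by
      intro x hx
      obtain ⟨u, hu, rfl⟩ := Finset.mem_image.mp hx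
      have hfu : f u = f u₀ := (Finset.mem_filter.mp hu).2
      have hconj : IsConj (u₀ : G) (u : G) := ConjClasses.mk_eq_mk_iff_isConj.mp hfu.symm
      obtain ⟨k, hki, hk0, hk⟩ := conj_in_E Z kcomm u₀.2 u.2 hu₀1 hconj
      refine Finset.mem_image.mpr ⟨⟨k, Subgroup.mem_inf.mpr
        ⟨mem_stabilizer_iff.mpr hki, mem_stabilizer_iff.mpr hk0⟩⟩, Finset.mem_univ _, hk.symm⟩
    calc (s.filter (fun u => f u = f u₀)).card
        = ((s.filter (fun u => f u = f u₀)).image (fun u : KG => (u : G))).card := by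
          rw [Finset.card_image_of_injective _ Subtype.val_injective]
      _ ≤ ((Finset.univ : Finset ↥(stabilizer G pinf ⊓ stabilizer G p0 : Subgroup G)).image
          (fun k : ↥(stabilizer G pinf ⊓ stabilizer G p0 : Subgroup G) => (k : G) * (u₀ : G) * (k : G)⁻¹)).card := Finset.card_le_card hsub
      _ ≤ (Finset.univ : Finset ↥(stabilizer G pinf ⊓ stabilizer G p0 : Subgroup G)).card :=
          Finset.card_image_le
      _ = e := by rw [Finset.card_univ, ← Nat.card_eq_fintype_card, he]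
  have h1 := Finset.card_le_mul_card_image s e hfiber
  rw [hscard] at h1
  have ht : t ≤ (s.image f).card := by
    have : e * t ≤ e * (s.image f).card := by rw [mul_comm e t]; exact h1
    exact Nat.le_of_mul_le_mul_left this he0
  -- the three families
  set A : Finset (ConjClasses G) := s.image f with hA
  set D : Finset (ConjClasses G) :=
    Finset.univ.filter (fun C => ∀ g : G, ConjClasses.mk g = C → g ∉ KG) with hD
  have hDcard : m ≤ D.card := by
    rw [hD, ← Fintype.card_subtype, ← Nat.card_eq_fintype_card]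
    exact hm
  have h1A : ConjClasses.mk (1 : G) ∉ A := by
    intro h
    obtain ⟨u, hu, hfu⟩ := Finset.mem_image.mp h
    have hconj : IsConj (u : G) 1 := ConjClasses.mk_eq_mk_iff_isConj.mp hfu
    have : (u : G) = 1 := isConj_one_right.mp hconj.symm
    exact (Finset.mem_filter.mp hu).2 (Subtype.ext this)
  have h1D : ConjClasses.mk (1 : G) ∉ D := by
    intro h
    exact (Finset.mem_filter.mp h).2 1 rfl KG.one_mem
  have hAD : Disjoint (insert (ConjClasses.mk (1 : G)) A) D := by
    rw [Finset.disjoint_left]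
    intro C hC hCD
    rcases Finset.mem_insert.mp hC with rfl | hCA
    · exact h1D hCD
    · obtain ⟨u, _, hfu⟩ := Finset.mem_image.mp hCA
      exact (Finset.mem_filter.mp hCD).2 (u : G) hfu u.2
  have hcard : (insert (ConjClasses.mk (1 : G)) A ∪ D).card = 1 + A.card + D.card := by
    rw [Finset.card_union_of_disjoint hAD, Finset.card_insert_of_notMem h1A]
    ring
  have hle : (insert (ConjClasses.mk (1 : G)) A ∪ D).card ≤ Fintype.card (ConjClasses G) := by
    rw [← Finset.card_univ]
    exact Finset.card_le_card (Finset.subset_univ _)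
  rw [Nat.card_eq_fintype_card]
  omega

end Cfsg.Agent.Lib.helper6.ZassFeit
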