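import Mathlib
import Cfsg.Agent.Lib.helper6.ZassFeitB
import Cfsg.Agent.Lib.helper6.ZassClassB
import Cfsg.Agent.Lib.helper6.FeitMain4
import Cfsg.Agent.Lib.helper6.OrbitTools
import Cfsg.Agent.S0739

set_option autoImplicit false

namespace Cfsg.Agent.Lib.helper6.ZassFeit

open MulAction Cfsg.Agent.Lib.helper6.ZassPSL3 Cfsg.Agent.Lib.helper6.ZassInvol

variable {G Ω : Type*} [Group G] [MulAction G Ω]
variable {pinf p0 : Ω} {KG : Subgroup G}

/-- the order of the two-point stabiliser divides `n - 2` -/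
theorem E_dvd [Fintype Ω] [Finite G]
    (three : ∀ g : G, ∀ a b c : Ω, a ≠ b → b ≠ c → a ≠ c → g • a = a → g • b = b → g • c = c → g = 1)
    (hi0 : pinf ≠ p0) :
    Nat.card ↥(stabilizer G pinf ⊓ stabilizer G p0 : Subgroup G) ∣ Fintype.card Ω - 2 := by
  classical
  set E : Subgroup G := stabilizer G pinf ⊓ stabilizer G p0 with hE
  set S : Set Ω := {z | z ≠ pinf ∧ z ≠ p0} with hS
  have hScard : S.ncard = Fintype.card Ω - 2 := by
    have h1 : S = (({pinf, p0} : Finset Ω) : Set Ω)ᶜ := by
      ext z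
      simp [hS]
    rw [h1, ← Finset.coe_compl, Set.ncard_coe_finset, Finset.card_compl, Finset.card_pair hi0]
  apply dvd_ncard_of_invariant (Q := E) (Nat.card E) (Fintype.card Ω - 2) S (Set.toFinite S) hScard
  · intro q z hz
    obtain ⟨hq1, hq2⟩ := Subgroup.mem_inf.mp q.2
    rw [mem_stabilizer_iff] at hq1 hq2
    refine ⟨?_, ?_⟩
    · intro h
      apply hz.1
      have : (q : G) • z = (q : G) • pinf := by rw [hq1]; exact h
      exact MulAction.injective (q : G) this
    · intro h
      apply hz.2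
      have : (q : G) • z = (q : G) • p0 := by rw [hq2]; exact h
      exact MulAction.injective (q : G) this
  · intro z hz
    have h1 := ncard_orbit_mul_card_stabilizer (Q := E) z
    have h2 : stabilizer E z = ⊥ := by
      rw [Subgroup.eq_bot_iff_forall]
      intro q hq
      obtain ⟨hq1, hq2⟩ := Subgroup.mem_inf.mp q.2
      rw [mem_stabilizer_iff] at hq1 hq2
      have hq3 : (q : G) • z = z := mem_stabilizer_iff.mp hq
      apply Subtype.ext
      exact three (q : G) pinf p0 z hi0 (Ne.symm hz.2) (Ne.symm hz.1) hq1 hq2 hq3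
    rw [h2, Subgroup.card_bot, mul_one] at h1
    exact h1

theorem simple_odd_bound [Fintype Ω] [Finite G] (hZ : Cfsg.IsZassenhausGroup G Ω) [IsSimpleGroup G]
    (Z : ZK G Ω pinf p0 KG) (kcomm : ∀ x ∈ KG, ∀ y ∈ KG, x * y = y * x)
    (hodd : Odd (Nat.card ↥(stabilizer G pinf ⊓ stabilizer G p0 : Subgroup G))) :
    Fintype.card Ω - 2 ≤ 2 * Nat.card ↥(stabilizer G pinf ⊓ stabilizer G p0 : Subgroup G) := by
  classical
  by_contra hcon
  push Not at hcon
  have hi0 := Z.hi0
  set e := Nat.card ↥(stabilizer G pinf ⊓ stabilizer G p0 : Subgroup G) with he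
  have hKGcard := card_KG Z
  set h := Nat.card KG with hh
  have hdvd : e ∣ Fintype.card Ω - 2 := E_dvd Z.three hi0
  obtain ⟨t, ht⟩ := hdvd
  have he0 : 0 < e := Nat.card_pos
  -- e ≥ 3
  have he2 : 2 ≤ e := by
    obtain ⟨g, hg1, a, b, hab, hga, hgb⟩ := hZ.2.2.2.1
    rw [he, ← card_pair hZ hi0 hab]
    have : Nontrivial ↥(stabilizer G a ⊓ stabilizer G b : Subgroup G) := by
      refine ⟨⟨⟨g, Subgroup.mem_inf.mpr ⟨mem_stabilizer_iff.mpr hga, mem_stabilizer_iff.mpr hgb⟩⟩,
        1, ?_⟩⟩
      intro h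
      exact hg1 (congrArg Subtype.val h)
    exact Finite.one_lt_card
  have he3 : 3 ≤ e := by
    obtain ⟨k, hk⟩ := hodd
    omega
  have ht3 : 3 ≤ t := by
    by_contra hlt
    push Not at hlt
    have : e * t ≤ e * 2 := Nat.mul_le_mul_left e (by omega)
    omega
  have hte : h = t * e + 1 := by
    have : Fintype.card Ω - 2 = h - 1 := by omega
    rw [this] at ht
    have h1 : 1 ≤ h := Nat.card_pos
    rw [mul_comm t e]
    omega
  -- two-point stabiliser is commutative
  have hnil : ∀ q : ℕ, q.Prime → q ∣ Nat.card ↥(stabilizer G pinf ⊓ stabilizer G p0) →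
      ¬ ∃ M : Subgroup G, M.Normal ∧ M.index = q ^ (Nat.card G).factorization q := by
    intro q hq hqd
    apply no_compl hZ hi0 q hq
    · rintro rfl
      exact (Nat.not_even_iff_odd.mpr hodd) (even_iff_two_dvd.mpr hqd)
    · exact hqd.trans (Subgroup.card_subgroup_dvd_card _)
  have hcyc := (Cfsg.Agent.S0739.result hZ hi0 hodd hnil).1
  have hEcomm : ∀ k k' : G, k • pinf = pinf → k • p0 = p0 → k' • pinf = pinf → k' • p0 = p0 →
      k * k' = k' * k := by
    intro k k' h1 h2 h3 h4
    haveI := hcyc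
    have hk : k ∈ (stabilizer G pinf ⊓ stabilizer G p0 : Subgroup G) :=
      Subgroup.mem_inf.mpr ⟨mem_stabilizer_iff.mpr h1, mem_stabilizer_iff.mpr h2⟩
    have hk' : k' ∈ (stabilizer G pinf ⊓ stabilizer G p0 : Subgroup G) :=
      Subgroup.mem_inf.mpr ⟨mem_stabilizer_iff.mpr h3, mem_stabilizer_iff.mpr h4⟩
    have := IsCyclic.commGroup.mul_comm (⟨k, hk⟩ : ↥(stabilizer G pinf ⊓ stabilizer G p0 : Subgroup G))
      ⟨k', hk'⟩
    exact congrArg Subtype.val this
  -- the subgroup F of (stabilizer G pinf)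
  have hKGle : KG ≤ stabilizer G pinf := KG_le Z
  set F : Subgroup (stabilizer G pinf) := KG.subgroupOf (stabilizer G pinf) with hF
  haveI hFn : F.Normal := by
    constructor
    intro n hn g
    rw [hF, Subgroup.mem_subgroupOf] at hn ⊢
    have hg : (g : G) • pinf = pinf := mem_stabilizer_iff.mp g.2
    have := Z.knorm (g : G) hg (n : G) hn
    simpa using this
  have hFcard : Nat.card F = h := Nat.card_congr (Subgroup.subgroupOfEquivOfLe hKGle).toEquiv
  haveI : IsPretransitive G Ω :=
    @isPretransitive_of_is_two_pretransitive G Ω _ _ hZ.2.1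
  have hNidx : (stabilizer G pinf).index = h + 1 := by
    rw [index_stabilizer_of_transitive, Nat.card_eq_fintype_card]
    omega
  have hFidx : F.index = e := by
    have h1 := Subgroup.index_mul_card F
    have h2 := Subgroup.index_mul_card (stabilizer G pinf)
    have h3 := Cfsg.Agent.Lib.helper6.ZassClass.card_G hZ.2.1 hi0
    rw [hFcard] at h1
    rw [hNidx, h3] at h2
    have h4 : Fintype.card Ω = h + 1 := by omega
    rw [h4] at h2
    have h5 : Nat.card (stabilizer G pinf) = h * e := by
      have : (h + 1) * Nat.card (stabilizer G pinf) = (h + 1) * (h * e) := by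
        rw [h2, Nat.add_sub_cancel]
      exact Nat.eq_of_mul_eq_mul_left (by omega) this
    rw [h5, mul_comm h e] at h1
    have h1pos : 0 < h := Nat.card_pos
    exact Nat.eq_of_mul_eq_mul_right h1pos h1
  -- apply Feit's theorem
  apply Cfsg.Agent.Lib.helper6.FeitMain.feit_abelian (stabilizer G pinf) F
    (hab := ?_) (hFab := ?_) (hC := ?_) (hTI := ?_) h e t hFcard hFidx hNidx hte ht3 he3 ?_
  · intro a b
    rw [hF, Subgroup.mem_subgroupOf]
    have := comm_mem Z hEcomm (mem_stabilizer_iff.mp a.2) (mem_stabilizer_iff.mp b.2)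
    simpa using this
  · intro u hu v hv
    rw [hF, Subgroup.mem_subgroupOf] at hu hv
    apply Subtype.ext
    simpa using kcomm (u : G) hu (v : G) hv
  · intro n hn hn1 g hg
    rw [hF, Subgroup.mem_subgroupOf] at hn ⊢
    have hn1' : (n : G) ≠ 1 := fun h => hn1 (Subtype.ext h)
    have hc : (g : G) * (n : G) = (n : G) * (g : G) := by
      have := Subgroup.mem_centralizer_iff.mp hg n (Set.mem_singleton n)
      have h2 := congrArg Subtype.val this
      simpa using h2.symm
    exact kernel_cent Z kcomm hn hn1' (mem_stabilizer_iff.mp g.2) hc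
  · intro u hu hu1 x hx
    rw [hF, Subgroup.mem_subgroupOf] at hu
    have hu1' : (u : G) ≠ 1 := fun h => hu1 (Subtype.ext h)
    exact mem_stabilizer_iff.mpr (kernel_TI Z hu hu1' (mem_stabilizer_iff.mp hx))
  · apply class_count Z kcomm e t e he.symm hte he0
    apply Cfsg.Agent.Lib.helper6.ZassClass.classes_outside hZ hi0 h e (by omega) he.symm hodd
      (by omega) KG hKGle
    intro u hu hu1 c hc
    by_contra hne
    exact Z.kfpf u hu hu1 c hne hc

end Cfsg.Agent.Lib.helper6.ZassFeit
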