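import Mathlib
import Cfsg.Agent.Lib.helper6.ZassFeitC
import Cfsg.Agent.Lib.helper6.ZassNormal

set_option autoImplicit false

universe u v

namespace Cfsg.Agent.Lib.helper6.ZassFeit

open MulAction Cfsg.Agent.Lib.helper6.ZassPSL3 Cfsg.Agent.Lib.helper6.ZassInvol
  Cfsg.Agent.Lib.helper6.ZassNormal

section D1

variable {G : Type*} {Ω : Type*} [Group G] [MulAction G Ω]
variable {pinf p0 : Ω} {KG : Subgroup G}

/-- a normal subgroup meeting the two-point stabiliser nontrivially contains the kernel -/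
theorem kernel_le_normal [Finite G] (Z : ZK G Ω pinf p0 KG)
    (kcomm : ∀ x ∈ KG, ∀ y ∈ KG, x * y = y * x) (M : Subgroup G) [hMn : M.Normal]
    {m : G} (hmM : m ∈ M) (hm1 : m ≠ 1) (hmi : m • pinf = pinf) (hm0 : m • p0 = p0) : KG ≤ M := by
  classical
  have hmem : ∀ u : KG, m * (u : G) * m⁻¹ * (u : G)⁻¹ ∈ KG ⊓ M := by
    intro u
    refine Subgroup.mem_inf.mpr ⟨?_, ?_⟩
    · exact KG.mul_mem (Z.knorm m hmi u u.2) (KG.inv_mem u.2)
    · have h1 : (u : G) * m⁻¹ * (u : G)⁻¹ ∈ M := hMn.conj_mem _ (M.inv_mem hmM) _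
      have e : m * (u : G) * m⁻¹ * (u : G)⁻¹ = m * ((u : G) * m⁻¹ * (u : G)⁻¹) := by group
      rw [e]
      exact M.mul_mem hmM h1
  let f : KG → ↥(KG ⊓ M) := fun u => ⟨_, hmem u⟩
  have hinj : Function.Injective f := by
    intro u v huv
    have h1 : m * (u : G) * m⁻¹ * (u : G)⁻¹ = m * (v : G) * m⁻¹ * (v : G)⁻¹ :=
      congrArg Subtype.val huv
    set w : G := (v : G)⁻¹ * (u : G) with hw
    have hwK : w ∈ KG := KG.mul_mem (KG.inv_mem v.2) u.2
    have ha : m * (u : G) * m⁻¹ ∈ KG := Z.knorm m hmi u u.2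
    have hb : m * (v : G) * m⁻¹ ∈ KG := Z.knorm m hmi v v.2
    have h2 : m * w * m⁻¹ = w := by
      have e1 : m * w * m⁻¹ = (m * (v : G) * m⁻¹)⁻¹ * (m * (u : G) * m⁻¹) := by
        rw [hw]; group
      have e2 : m * (u : G) * m⁻¹ = m * (v : G) * m⁻¹ * (v : G)⁻¹ * (u : G) := by
        have := congrArg (fun z => z * (u : G)) h1
        simpa [mul_assoc] using this
      rw [e1, e2, hw]
      group
    by_contra hne
    have hw1 : w ≠ 1 := by
      intro h
      apply hne
      apply Subtype.ext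
      have : (v : G) * w = (v : G) := by rw [h, mul_one]
      rw [hw] at this
      simpa using this
    exact hm1 (Z.H_semireg hmi hm0 hwK hw1 h2)
  have hcard : Nat.card KG ≤ Nat.card ↥(KG ⊓ M) := Nat.card_le_card_of_injective f hinj
  have heq : KG ⊓ M = KG := Subgroup.eq_of_le_of_card_ge inf_le_left hcard
  rw [← heq]
  exact inf_le_right

/-- the structure restricts to a normal subgroup containing the kernel -/
theorem ZK_normal [Finite Ω] (hZ : Cfsg.IsZassenhausGroup G Ω) (Z : ZK G Ω pinf p0 KG)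
    (M : Subgroup G) [hMn : M.Normal] (hM : M ≠ ⊥) (hKM : KG ≤ M) :
    ZK M Ω pinf p0 (KG.subgroupOf M) := by
  have D := ZData.of_zass hZ
  refine ⟨?_, ?_, Z.hi0, ?_, ?_, ?_, ?_⟩
  · intro a b c d hab hcd
    obtain ⟨n, hn, h1, h2⟩ := two_trans_normal D M hM Z.hi0 hab hcd
    exact ⟨⟨n, hn⟩, h1, h2⟩
  · intro g a b c hab hbc hac hga hgb hgc
    apply Subtype.ext
    exact Z.three (g : G) a b c hab hbc hac hga hgb hgc
  · intro k hk
    exact Z.kfix (k : G) (Subgroup.mem_subgroupOf.mp hk)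
  · intro k hk hk1 x hx
    exact Z.kfpf (k : G) (Subgroup.mem_subgroupOf.mp hk) (fun h => hk1 (Subtype.ext h)) x hx
  · intro x y hx hy
    obtain ⟨k, hk, hkxy⟩ := Z.ktr x y hx hy
    exact ⟨⟨k, hKM hk⟩, Subgroup.mem_subgroupOf.mpr hk, hkxy⟩
  · intro g hg k hk
    rw [Subgroup.mem_subgroupOf] at hk ⊢
    have := Z.knorm (g : G) hg (k : G) hk
    simpa using this

/-- the two-point stabiliser of a subgroup has order dividing that of the group -/
theorem card_E_dvd [Finite G] (M : Subgroup G) (a b : Ω) :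
    Nat.card ↥(stabilizer M a ⊓ stabilizer M b : Subgroup M) ∣
      Nat.card ↥(stabilizer G a ⊓ stabilizer G b : Subgroup G) := by
  let f : ↥(stabilizer M a ⊓ stabilizer M b : Subgroup M) →*
      ↥(stabilizer G a ⊓ stabilizer G b : Subgroup G) :=
    { toFun := fun k => ⟨((k : M) : G), by
        obtain ⟨h1, h2⟩ := Subgroup.mem_inf.mp k.2
        rw [mem_stabilizer_iff] at h1 h2
        exact Subgroup.mem_inf.mpr ⟨mem_stabilizer_iff.mpr h1, mem_stabilizer_iff.mpr h2⟩⟩
      map_one' := rfl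
      map_mul' := fun _ _ => rfl }
  apply Subgroup.card_dvd_of_injective f
  intro k k' hkk
  apply Subtype.ext
  apply Subtype.ext
  have : ((f k : ↥(stabilizer G a ⊓ stabilizer G b : Subgroup G)) : G) = (f k' : G) :=
    congrArg Subtype.val hkk
  exact this

end D1

/-- a Zassenhaus group with abelian kernel and odd two-point stabiliser is simple -/
theorem odd_simple_aux {Ω : Type v} [Fintype Ω] (pinf p0 : Ω) :
    ∀ n : ℕ, ∀ (G : Type u) [Group G] [MulAction G Ω] [Finite G], Nat.card G = n →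
      Cfsg.IsZassenhausGroup G Ω → ∀ KG : Subgroup G, ZK G Ω pinf p0 KG →
      (∀ x ∈ KG, ∀ y ∈ KG, x * y = y * x) →
      Odd (Nat.card ↥(stabilizer G pinf ⊓ stabilizer G p0 : Subgroup G)) → IsSimpleGroup G := by
  intro n
  induction n using Nat.strong_induction_on with
  | _ n ih =>
  intro G _ _ _ hn hZ KG Z kcomm hodd
  classical
  have D := ZData.of_zass hZ
  haveI := D.faithful
  obtain ⟨g0, hg01, a0, b0, hab0, hg0a, hg0b⟩ := hZ.2.2.2.1
  haveI : Nontrivial G := ⟨⟨g0, 1, hg01⟩⟩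
  by_contra hns
  have hex : ∃ M : Subgroup G, M.Normal ∧ M ≠ ⊥ ∧ M ≠ ⊤ := by
    by_contra hcon
    push Not at hcon
    apply hns
    refine ⟨?_⟩
    intro M hM
    by_contra h
    push Not at h
    exact h.2 (hcon M hM h.1)
  obtain ⟨M, hMn, hMbot, hMtop⟩ := hex
  haveI := hMn
  have hZM : Cfsg.IsZassenhausGroup M Ω := zass_normal hZ M hMbot
  have hi0 := Z.hi0
  -- a nontrivial element of `M` fixing both marked points
  obtain ⟨g, hg1, a, b, hab, hga, hgb⟩ := hZM.2.2.2.1
  obtain ⟨n', hn'M, hn'a, hn'b⟩ := two_trans_normal D M hMbot hi0 hab hi0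
  have hmM : n' * (g : G) * n'⁻¹ ∈ M := M.mul_mem (M.mul_mem hn'M g.2) (M.inv_mem hn'M)
  have hm1 : n' * (g : G) * n'⁻¹ ≠ 1 := by
    intro h
    apply hg1
    apply Subtype.ext
    have : (g : G) = n'⁻¹ * (n' * (g : G) * n'⁻¹) * n' := by group
    rw [this, h]
    simp
  have hga' : (g : G) • a = a := hga
  have hgb' : (g : G) • b = b := hgb
  have hmi : (n' * (g : G) * n'⁻¹) • pinf = pinf := by
    rw [mul_smul, mul_smul, ← hn'a, inv_smul_smul, hga']
  have hm0 : (n' * (g : G) * n'⁻¹) • p0 = p0 := by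
    rw [mul_smul, mul_smul, ← hn'b, inv_smul_smul, hgb']
  have hKM : KG ≤ M := kernel_le_normal Z kcomm M hmM hm1 hmi hm0
  have ZM : ZK M Ω pinf p0 (KG.subgroupOf M) := ZK_normal hZ Z M hMbot hKM
  have kcommM : ∀ x ∈ KG.subgroupOf M, ∀ y ∈ KG.subgroupOf M, x * y = y * x := by
    intro x hx y hy
    apply Subtype.ext
    exact kcomm (x : G) (Subgroup.mem_subgroupOf.mp hx) (y : G) (Subgroup.mem_subgroupOf.mp hy)
  have hdvd := card_E_dvd M pinf p0
  have hoddM : Odd (Nat.card ↥(stabilizer M pinf ⊓ stabilizer M p0 : Subgroup M)) :=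
    Odd.of_dvd_nat hodd hdvd
  have hlt : Nat.card M < n := by
    rw [← hn]
    apply lt_of_le_of_ne (Subgroup.card_le_card_group M)
    intro h
    exact hMtop ((Subgroup.card_eq_iff_eq_top M).mp h)
  have hMs : IsSimpleGroup M := ih (Nat.card M) hlt M rfl hZM _ ZM kcommM hoddM
  have hbound := simple_odd_bound hZM ZM kcommM hoddM
  -- orders
  have hcG := Cfsg.Agent.Lib.helper6.ZassClass.card_G hZ.2.1 hi0
  have hcM := Cfsg.Agent.Lib.helper6.ZassClass.card_G hZM.2.1 hi0
  set eG := Nat.card ↥(stabilizer G pinf ⊓ stabilizer G p0 : Subgroup G) with heG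
  set eM := Nat.card ↥(stabilizer M pinf ⊓ stabilizer M p0 : Subgroup M) with heM
  have hEd : eG ∣ Fintype.card Ω - 2 := E_dvd Z.three hi0
  obtain ⟨e0, he0a, he0b⟩ := exists_third hg01 hg0a hg0b
  have hn3 : 3 ≤ Fintype.card Ω := by
    rw [← Finset.card_univ]
    have h3 : ({a0, b0, e0} : Finset Ω).card = 3 := by
      rw [Finset.card_insert_of_notMem, Finset.card_pair (Ne.symm he0b)]
      simp only [Finset.mem_insert, Finset.mem_singleton, not_or]
      exact ⟨hab0, Ne.symm he0a⟩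
    rw [← h3]
    exact Finset.card_le_card (Finset.subset_univ _)
  have heGle : eG ≤ Fintype.card Ω - 2 := Nat.le_of_dvd (by omega) hEd
  have heMpos : 0 < eM := Nat.card_pos
  have hlt' : Nat.card M < Nat.card G := by rw [hn]; exact hlt
  rw [hcG, hcM] at hlt'
  have heMlt : eM < eG := by
    by_contra hge
    push Not at hge
    have : Fintype.card Ω * ((Fintype.card Ω - 1) * eG) ≤ Fintype.card Ω * ((Fintype.card Ω - 1) * eM) :=
      Nat.mul_le_mul_left _ (Nat.mul_le_mul_left _ hge)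
    omega
  obtain ⟨k, hk⟩ := hdvd
  have hkodd : Odd k := by
    rw [hk] at hodd
    exact (Nat.odd_mul.mp hodd).2
  have hk3 : 3 ≤ k := by
    obtain ⟨j, hj⟩ := hkodd
    rcases Nat.eq_zero_or_pos j with h0 | hpos
    · exfalso
      rw [h0] at hj
      rw [hj] at hk
      omega
    · omega
  have : 3 * eM ≤ eG := by
    rw [hk, mul_comm]
    exact Nat.mul_le_mul_left eM hk3
  omega

end Cfsg.Agent.Lib.helper6.ZassFeit
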