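import Mathlib

set_option autoImplicit false

namespace Cfsg.Agent.Lib.helper6.ZassFeit

open MulAction

variable {G Ω : Type*} [Group G] [MulAction G Ω]

/-- a 2-transitive group with trivial three-point stabilisers whose two-point stabilisers have
order `n - 2` is sharply 3-transitive -/
theorem sharp3_of_card [Fintype Ω] [Finite G]
    (two : ∀ {a b c d : Ω}, a ≠ b → c ≠ d → ∃ g : G, g • a = c ∧ g • b = d)
    (three : ∀ g : G, ∀ a b c : Ω, a ≠ b → b ≠ c → a ≠ c → g • a = a → g • b = b → g • c = c → g = 1)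
    (hcard : ∀ a b : Ω, a ≠ b →
      Nat.card ↥(stabilizer G a ⊓ stabilizer G b : Subgroup G) + 2 = Fintype.card Ω) :
    IsMultiplyPretransitive G Ω 3 ∧ ∀ t : Fin 3 ↪ Ω, stabilizer G t = ⊥ := by
  classical
  constructor
  · rw [isMultiplyPretransitive_iff]
    intro u v
    have hu01 : u 0 ≠ u 1 := fun h => absurd (u.injective h) (by decide)
    have hu02 : u 0 ≠ u 2 := fun h => absurd (u.injective h) (by decide)
    have hu12 : u 1 ≠ u 2 := fun h => absurd (u.injective h) (by decide)
    have hv01 : v 0 ≠ v 1 := fun h => absurd (v.injective h) (by decide)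
    have hv02 : v 0 ≠ v 2 := fun h => absurd (v.injective h) (by decide)
    have hv12 : v 1 ≠ v 2 := fun h => absurd (v.injective h) (by decide)
    obtain ⟨g₁, hg0, hg1⟩ := two hu01 hv01
    set w := g₁ • u 2 with hw
    have hw0 : w ≠ v 0 := by
      intro h
      rw [hw, ← hg0] at h
      exact hu02 (MulAction.injective g₁ h).symm
    have hw1 : w ≠ v 1 := by
      intro h
      rw [hw, ← hg1] at h
      exact hu12 (MulAction.injective g₁ h).symm
    set E : Subgroup G := stabilizer G (v 0) ⊓ stabilizer G (v 1) with hE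
    have hmem : ∀ k : E, (k : G) • w ≠ v 0 ∧ (k : G) • w ≠ v 1 := by
      intro k
      obtain ⟨h1, h2⟩ := Subgroup.mem_inf.mp k.2
      rw [mem_stabilizer_iff] at h1 h2
      refine ⟨?_, ?_⟩
      · intro h
        apply hw0
        have : (k : G) • w = (k : G) • v 0 := by rw [h1]; exact h
        exact MulAction.injective (k : G) this
      · intro h
        apply hw1
        have : (k : G) • w = (k : G) • v 1 := by rw [h2]; exact h
        exact MulAction.injective (k : G) this
    let φ : E → {z : Ω // z ≠ v 0 ∧ z ≠ v 1} := fun k => ⟨(k : G) • w, hmem k⟩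
    have hφinj : Function.Injective φ := by
      intro k k' hkk
      have h1 : (k : G) • w = (k' : G) • w := congrArg Subtype.val hkk
      obtain ⟨a1, a2⟩ := Subgroup.mem_inf.mp k.2
      obtain ⟨b1, b2⟩ := Subgroup.mem_inf.mp k'.2
      rw [mem_stabilizer_iff] at a1 a2 b1 b2
      have h2 : ((k' : G)⁻¹ * (k : G)) • w = w := by rw [mul_smul, h1, inv_smul_smul]
      have h3 : ((k' : G)⁻¹ * (k : G)) • v 0 = v 0 := by rw [mul_smul, a1, inv_smul_eq_iff, b1]
      have h4 : ((k' : G)⁻¹ * (k : G)) • v 1 = v 1 := by rw [mul_smul, a2, inv_smul_eq_iff, b2]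
      have h5 := three _ (v 0) (v 1) w hv01 (Ne.symm hw1) (Ne.symm hw0) h3 h4 h2
      apply Subtype.ext
      have : (k : G) = (k' : G) * ((k' : G)⁻¹ * (k : G)) := by group
      rw [this, h5, mul_one]
    have hcardS : Nat.card {z : Ω // z ≠ v 0 ∧ z ≠ v 1} = Nat.card E := by
      have h1 : Nat.card E + 2 = Fintype.card Ω := hcard (v 0) (v 1) hv01
      rw [Nat.card_eq_fintype_card (α := {z : Ω // z ≠ v 0 ∧ z ≠ v 1}), Fintype.card_subtype]
      have h2 : (Finset.univ.filter (fun z : Ω => z ≠ v 0 ∧ z ≠ v 1)) = ({v 0, v 1} : Finset Ω)ᶜ := by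
        ext z
        simp
      rw [h2, Finset.card_compl, Finset.card_pair hv01]
      omega
    have hφsurj : Function.Surjective φ :=
      (Function.Injective.bijective_of_nat_card_le hφinj hcardS.le).2
    obtain ⟨k, hk⟩ := hφsurj ⟨v 2, Ne.symm hv02, Ne.symm hv12⟩
    have hk' : (k : G) • w = v 2 := congrArg Subtype.val hk
    obtain ⟨c1, c2⟩ := Subgroup.mem_inf.mp k.2
    rw [mem_stabilizer_iff] at c1 c2
    refine ⟨(k : G) * g₁, ?_⟩
    apply DFunLike.ext
    intro i
    rw [Function.Embedding.smul_apply]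
    fin_cases i
    · show ((k : G) * g₁) • u 0 = v 0
      rw [mul_smul, hg0, c1]
    · show ((k : G) * g₁) • u 1 = v 1
      rw [mul_smul, hg1, c2]
    · show ((k : G) * g₁) • u 2 = v 2
      rw [mul_smul, ← hw, hk']
  · intro t
    rw [Subgroup.eq_bot_iff_forall]
    intro g hg
    rw [mem_stabilizer_iff] at hg
    have h : ∀ i, g • t i = t i := by
      intro i
      have := congrArg (fun f : Fin 3 ↪ Ω => f i) hg
      simpa [Function.Embedding.smul_apply] using this
    have h01 : t 0 ≠ t 1 := fun h => absurd (t.injective h) (by decide)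
    have h02 : t 0 ≠ t 2 := fun h => absurd (t.injective h) (by decide)
    have h12 : t 1 ≠ t 2 := fun h => absurd (t.injective h) (by decide)
    exact three g (t 0) (t 1) (t 2) h01 h12 h02 (h 0) (h 1) (h 2)

end Cfsg.Agent.Lib.helper6.ZassFeit
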