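import Mathlib
import Cfsg.Agent.Lib.helper6.ZassFeitD
import Cfsg.Agent.Lib.helper6.ZassFeitE
import Cfsg.Agent.S0741
import Cfsg.Agent.S0742

set_option autoImplicit false

namespace Cfsg.Agent.Lib.helper6.ZassFeit

open MulAction Cfsg.Agent.Lib.helper6.ZassPSL3

/-- strong form of S0731, in element form -/
theorem zass_abelian_strong {G Ω : Type*} [Group G] [Finite G] [MulAction G Ω] [Fintype Ω]
    (hZ : Cfsg.IsZassenhausGroup G Ω) {x y : Ω} {F : Subgroup G} (Z : ZK G Ω x y F)
    (kcomm : ∀ u ∈ F, ∀ v ∈ F, u * v = v * u) :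
    (Fintype.card Ω - 2 = Nat.card ↥(stabilizer G x ⊓ stabilizer G y : Subgroup G) ∧
      MulAction.IsMultiplyPretransitive G Ω 3 ∧ ∀ t : Fin 3 ↪ Ω, MulAction.stabilizer G t = ⊥) ∨
    (Fintype.card Ω - 2 = 2 * Nat.card ↥(stabilizer G x ⊓ stabilizer G y : Subgroup G) ∧
      ∃ (K : Type) (_ : Field K) (_ : Fintype K), ringChar K ≠ 2 ∧
        Fintype.card K + 1 = Fintype.card Ω ∧
        Nonempty (G ≃* Matrix.ProjectiveSpecialLinearGroup (Fin 2) K)) := by
  classical
  have D := Cfsg.Agent.Lib.helper6.ZassNormal.ZData.of_zass hZ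
  haveI := D.faithful
  have hxy := Z.hi0
  obtain ⟨g0, hg01, a0, b0, hab0, hg0a, hg0b⟩ := hZ.2.2.2.1
  obtain ⟨e0, he0a, he0b⟩ := Cfsg.Agent.Lib.helper6.ZassNormal.exists_third hg01 hg0a hg0b
  have hn3 : 3 ≤ Fintype.card Ω := by
    rw [← Finset.card_univ]
    have h3 : ({a0, b0, e0} : Finset Ω).card = 3 := by
      rw [Finset.card_insert_of_notMem, Finset.card_pair (Ne.symm he0b)]
      simp only [Finset.mem_insert, Finset.mem_singleton, not_or]
      exact ⟨hab0, Ne.symm he0a⟩
    rw [← h3]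
    exact Finset.card_le_card (Finset.subset_univ _)
  set e := Nat.card ↥(MulAction.stabilizer G x ⊓ MulAction.stabilizer G y : Subgroup G) with he
  have hEd : e ∣ Fintype.card Ω - 2 := E_dvd D.three hxy
  have he0 : 0 < e := Nat.card_pos
  have hpair : ∀ a b : Ω, a ≠ b →
      Nat.card ↥(MulAction.stabilizer G a ⊓ MulAction.stabilizer G b : Subgroup G) = e :=
    fun a b hab => Cfsg.Agent.Lib.helper6.ZassInvol.card_pair hZ hxy hab
  have hsharp : Fintype.card Ω - 2 = e →
      (MulAction.IsMultiplyPretransitive G Ω 3 ∧ ∀ t : Fin 3 ↪ Ω, MulAction.stabilizer G t = ⊥) := by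
    intro h
    apply sharp3_of_card (fun h1 h2 => D.two h1 h2) D.three
    intro a b hab
    rw [hpair a b hab]
    omega
  have hoddchar : ∀ (K : Type) [Field K] [Fintype K], Odd (Fintype.card K) → ringChar K ≠ 2 := by
    intro K _ _ hodd h2
    obtain ⟨n, _, hc⟩ := FiniteField.card K (ringChar K)
    rw [h2] at hc
    rw [hc] at hodd
    have : Even (2 ^ (n : ℕ)) := (Nat.even_pow' (PNat.ne_zero n)).mpr even_two
    exact (Nat.not_even_iff_odd.mpr hodd) this
  have hcases : Fintype.card Ω - 2 ≤ 2 * e → (Fintype.card Ω - 2 = e ∨ Fintype.card Ω - 2 = 2 * e) := by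
    intro hle
    obtain ⟨k, hk⟩ := hEd
    have hk1 : 1 ≤ k := by
      rcases Nat.eq_zero_or_pos k with h | h
      · rw [h, mul_zero] at hk; omega
      · exact h
    have hk2 : k ≤ 2 := by
      by_contra hlt
      push Not at hlt
      have : e * 3 ≤ e * k := Nat.mul_le_mul_left e hlt
      omega
    interval_cases k
    · left; omega
    · right; omega
  rcases Nat.even_or_odd e with heven | hodd
  · have h741 := Cfsg.Agent.S0741.result hZ hxy heven
    by_cases hd : 2 * e ≤ Fintype.card Ω - 2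
    · right
      refine ⟨by omega, ?_⟩
      obtain ⟨p, f, K, iK, iKf, hp, hp2, hK, hΩ, hiso⟩ := Cfsg.Agent.S0742.result hZ hxy heven hd
      refine ⟨K, iK, iKf, ?_, by rw [hK, hΩ], hiso⟩
      apply hoddchar K
      rw [hK]
      exact (hp.odd_of_ne_two hp2).pow
    · left
      have : Fintype.card Ω - 2 = e := by
        rcases hcases h741 with h | h
        · exact h
        · omega
      exact ⟨this, hsharp this⟩
  · haveI hsimple : IsSimpleGroup G :=
      odd_simple_aux x y (Nat.card G) G rfl hZ F Z kcomm hodd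
    have hbound := simple_odd_bound hZ Z kcomm hodd
    rcases hcases hbound with h | h
    · left; exact ⟨h, hsharp h⟩
    · right
      refine ⟨h, ?_⟩
      have hcard : 2 * e + 2 = Fintype.card Ω := by omega
      have hswap : ∀ s : G, s • x = y → s • y = x → s * s = 1 := fun s h1 h2 =>
        Cfsg.Agent.Lib.helper6.ZassInvol.swap_sq hZ hxy hodd hxy h1 h2
      have hnofix : ∀ s : G, s • x = y → s • y = x → ∀ z : Ω, s • z ≠ z := by
        intro s h1 h2 z hz
        have hs2 := Cfsg.Agent.Lib.helper6.ZassInvol.swap_order hZ hxy hodd hxy h1 h2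
        have hfc := Cfsg.Agent.Lib.helper6.ZassInvol.fixed_count hZ hxy hodd hs2
        have hev : ¬ Odd (Fintype.card Ω) := by
          rw [← hcard, Nat.not_odd_iff_even]
          exact ⟨e + 1, by ring⟩
        rw [if_neg hev] at hfc
        have hne : Nonempty (MulAction.fixedBy Ω s) := ⟨⟨z, hz⟩⟩
        have : 0 < Nat.card (MulAction.fixedBy Ω s) := Nat.card_pos
        omega
      obtain ⟨K, iK, iKf, hK, hiso⟩ := psl_of_half_odd Z kcomm hswap hnofix hodd hcard
      refine ⟨K, iK, iKf, ?_, hK, hiso⟩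
      apply hoddchar K
      have : Fintype.card K = 2 * e + 1 := by omega
      rw [this]
      exact ⟨e, rfl⟩

end Cfsg.Agent.Lib.helper6.ZassFeit
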