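import Mathlib
import Cfsg.Agent.Lib.helper6.DegP1A
import Cfsg.Agent.Lib.helper6.DegP1B
import Cfsg.Agent.Lib.helper6.Sharp3Prime
import Cfsg.Agent.Lib.helper6.ZassFeitF
import Cfsg.Agent.Lib.helper6.SylowPSL

set_option autoImplicit false

namespace Cfsg.Agent.Lib.helper6.DegP1

open MulAction Cfsg.Agent.Lib.helper6.ZassPSL3

variable {G α : Type*} [Group G] [MulAction G α]

/-- element form of 3-transitivity from the order of the two-point stabilisers -/
theorem T3_of_card [Fintype α] [Finite G]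
    (two : ∀ {a b c d : α}, a ≠ b → c ≠ d → ∃ g : G, g • a = c ∧ g • b = d)
    (three : ∀ g : G, ∀ a b c : α, a ≠ b → b ≠ c → a ≠ c → g • a = a → g • b = b → g • c = c → g = 1)
    (hcard : ∀ a b : α, a ≠ b →
      Nat.card ↥(stabilizer G a ⊓ stabilizer G b : Subgroup G) + 2 = Fintype.card α) :
    ∀ a b c a' b' c' : α, a ≠ b → b ≠ c → a ≠ c → a' ≠ b' → b' ≠ c' → a' ≠ c' →
      ∃ g : G, g • a = a' ∧ g • b = b' ∧ g • c = c' := by
  classical
  intro a b c a' b' c' hab hbc hac hab' hbc' hac'
  obtain ⟨g₁, hg0, hg1⟩ := two hab hab'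
  obtain ⟨w, hw⟩ : ∃ w : α, w = g₁ • c := ⟨_, rfl⟩
  have hw0 : w ≠ a' := by
    intro h
    rw [hw, ← hg0] at h
    exact hac (MulAction.injective g₁ h).symm
  have hw1 : w ≠ b' := by
    intro h
    rw [hw, ← hg1] at h
    exact hbc (MulAction.injective g₁ h).symm
  obtain ⟨E, hE⟩ : ∃ E : Subgroup G, E = stabilizer G a' ⊓ stabilizer G b' := ⟨_, rfl⟩
  have hEmem : ∀ k : G, k ∈ E ↔ k • a' = a' ∧ k • b' = b' := by
    intro k
    rw [hE, Subgroup.mem_inf, mem_stabilizer_iff, mem_stabilizer_iff]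
  have hmem : ∀ k : E, (k : G) • w ≠ a' ∧ (k : G) • w ≠ b' := by
    intro k
    obtain ⟨h1, h2⟩ := (hEmem _).mp k.2
    refine ⟨?_, ?_⟩
    · intro h
      apply hw0
      have : (k : G) • w = (k : G) • a' := by rw [h1]; exact h
      exact MulAction.injective (k : G) this
    · intro h
      apply hw1
      have : (k : G) • w = (k : G) • b' := by rw [h2]; exact h
      exact MulAction.injective (k : G) this
  let f : E → {z : α // z ≠ a' ∧ z ≠ b'} := fun k => ⟨(k : G) • w, hmem k⟩
  have hfinj : Function.Injective f := by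
    intro k k' hkk
    have h1 : (k : G) • w = (k' : G) • w := congrArg Subtype.val hkk
    obtain ⟨a1, a2⟩ := (hEmem _).mp k.2
    obtain ⟨b1, b2⟩ := (hEmem _).mp k'.2
    have h2 : ((k' : G)⁻¹ * (k : G)) • w = w := by rw [mul_smul, h1, inv_smul_smul]
    have h3 : ((k' : G)⁻¹ * (k : G)) • a' = a' := by rw [mul_smul, a1, inv_smul_eq_iff, b1]
    have h4 : ((k' : G)⁻¹ * (k : G)) • b' = b' := by rw [mul_smul, a2, inv_smul_eq_iff, b2]
    have h5 := three _ a' b' w hab' (Ne.symm hw1) (Ne.symm hw0) h3 h4 h2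
    apply Subtype.ext
    have : (k : G) = (k' : G) * ((k' : G)⁻¹ * (k : G)) := by group
    rw [this, h5, mul_one]
  have hcardS : Nat.card {z : α // z ≠ a' ∧ z ≠ b'} = Nat.card E := by
    have h1 : Nat.card E + 2 = Fintype.card α := by rw [hE]; exact hcard a' b' hab'
    rw [Nat.card_eq_fintype_card (α := {z : α // z ≠ a' ∧ z ≠ b'}), Fintype.card_subtype]
    have h2 : (Finset.univ.filter (fun z : α => z ≠ a' ∧ z ≠ b')) = ({a', b'} : Finset α)ᶜ := by
      ext z
      simp
    rw [h2, Finset.card_compl, Finset.card_pair hab']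
    omega
  obtain ⟨k, hk⟩ := (hfinj.bijective_of_nat_card_le hcardS.le).2 ⟨c', Ne.symm hac', Ne.symm hbc'⟩
  have hk' : (k : G) • w = c' := congrArg Subtype.val hk
  obtain ⟨c1, c2⟩ := (hEmem _).mp k.2
  refine ⟨(k : G) * g₁, ?_, ?_, ?_⟩
  · rw [mul_smul, hg0, c1]
  · rw [mul_smul, hg1, c2]
  · rw [mul_smul, ← hw, hk']

/-- `PGL₂` of isomorphic fields are isomorphic -/
theorem pgl_congr {K K' : Type*} [Field K] [Field K'] (e : K ≃+* K') :
    Nonempty (Matrix.ProjGenLinGroup (Fin 2) K ≃* Matrix.ProjGenLinGroup (Fin 2) K') := by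
  let f : Matrix.GeneralLinearGroup (Fin 2) K ≃* Matrix.GeneralLinearGroup (Fin 2) K' :=
    { toFun := Matrix.GeneralLinearGroup.map e.toRingHom
      invFun := Matrix.GeneralLinearGroup.map e.symm.toRingHom
      left_inv := by
        intro A
        ext i j
        simp [Matrix.GeneralLinearGroup.map]
      right_inv := by
        intro A
        ext i j
        simp [Matrix.GeneralLinearGroup.map]
      map_mul' := fun A B => map_mul _ A B }
  exact ⟨QuotientGroup.congr _ _ f (Cfsg.Agent.Lib.helper6.SylowPSL.map_center_eq f)⟩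

/-- Zassenhaus' theorem on transitive groups of degree `p + 1` and order `(p+1) p d`, `d < p`,
for an abstract faithful action. -/
theorem deg_p1_main [Fintype α] [Finite G] [FaithfulSMul G α] [IsPretransitive G α]
    {p d : ℕ} (hp : p.Prime) (hα : Fintype.card α = p + 1)
    (hG : Nat.card G = (p + 1) * p * d) (hd : d < p) :
    (d = p - 1 ∧ Nonempty (G ≃* Matrix.ProjGenLinGroup (Fin 2) (ZMod p))) ∨
    (2 * d = p - 1 ∧ Nonempty (G ≃* Matrix.ProjectiveSpecialLinearGroup (Fin 2) (ZMod p))) ∨
    (∃ q : ℕ, q.Prime ∧ p + 1 = 2 ^ q ∧ (d = 1 ∨ d = q) ∧ ∃ e : α ≃ GaloisField 2 q,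
      ∀ g : G, ∃ (a' : (GaloisField 2 q)ˣ) (b' : GaloisField 2 q)
        (φ' : GaloisField 2 q ≃+* GaloisField 2 q),
        ∀ x, e (g • e.symm x) = (a' : GaloisField 2 q) * φ' x + b') := by
  classical
  haveI : Fact p.Prime := ⟨hp⟩
  have hp2 := hp.two_le
  -- three distinct points
  have h3 : 2 < Fintype.card α := by omega
  obtain ⟨a, b, c, hab, hac, hbc⟩ := Fintype.two_lt_card_iff.mp h3
  obtain ⟨P, Z, hPcomm, hPcard, hE, hHcomm⟩ := structure_lemma hp hα hG hd hab
  have hEall : ∀ x y : α, x ≠ y →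
      Nat.card ↥(stabilizer G x ⊓ stabilizer G y : Subgroup G) = d := by
    intro x y hxy
    obtain ⟨g, hga, hgb⟩ := Z.two hab hxy
    rw [Cfsg.Agent.Lib.helper6.ZassInvol.card_stab_conj g hga hgb, hE]
  by_cases hdp : d = p - 1
  · -- sharply 3-transitive
    left
    refine ⟨hdp, ?_⟩
    have hcard : ∀ x y : α, x ≠ y →
        Nat.card ↥(stabilizer G x ⊓ stabilizer G y : Subgroup G) + 2 = Fintype.card α := by
      intro x y hxy
      rw [hEall x y hxy, hα, hdp]
      omega
    have T3 := T3_of_card (fun h1 h2 => Z.two h1 h2) Z.three hcard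
    obtain ⟨F, iF, iFin, hF, hiso⟩ :=
      Cfsg.Agent.Lib.helper6.Sharp3.sharp3_prime T3 Z.three hbc hab hac hHcomm p hp hα
    obtain ⟨iso⟩ := hiso
    let eF : ZMod p ≃+* F := ZMod.ringEquivOfPrime F hp hF
    obtain ⟨iso2⟩ := pgl_congr eF.symm
    exact ⟨iso.trans iso2⟩
  · right
    have hp2' : p ≠ 2 := by
      intro h
      apply hdp
      have hd0 : 0 < d := by rw [← hE]; exact Nat.card_pos
      omega
    by_cases hreg : ∃ R : Subgroup G, R.Normal ∧ (∀ x y : α, ∃ r ∈ R, r • x = y) ∧
        (∀ r ∈ R, ∀ x : α, r • x = x → r = 1)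
    · right
      obtain ⟨R, hRn, hRtr, hRsr⟩ := hreg
      haveI := hRn
      exact affine_branch hp hp2' hα Z hPcomm hE R hRtr hRsr
    · left
      have hd0 : 0 < d := by rw [← hE]; exact Nat.card_pos
      -- d ≠ 1
      have hd1 : d ≠ 1 := by
        intro h1
        apply hreg
        have h1' : ∀ x : G, ∀ c d' : α, c ≠ d' → x • c = c → x • d' = d' → x = 1 := by
          intro x c d' hcd hxc hxd
          have hcard1 := hEall c d' hcd
          rw [h1] at hcard1
          have hx : x ∈ (stabilizer G c ⊓ stabilizer G d' : Subgroup G) :=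
            Subgroup.mem_inf.mpr ⟨mem_stabilizer_iff.mpr hxc, mem_stabilizer_iff.mpr hxd⟩
          haveI : Subsingleton ↥(stabilizer G c ⊓ stabilizer G d' : Subgroup G) :=
            (Nat.card_eq_one_iff_unique.mp hcard1).1
          have := Subsingleton.elim (⟨x, hx⟩ : ↥(stabilizer G c ⊓ stabilizer G d' : Subgroup G)) 1
          exact congrArg Subtype.val this
        have hstab : stabilizer G a ≠ ⊥ := by
          intro hbot
          obtain ⟨k, hk, hkb⟩ := Z.ktr b c (Ne.symm hab) (Ne.symm hac)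
          have : k ∈ stabilizer G a := mem_stabilizer_iff.mpr (Z.kfix k hk)
          rw [hbot, Subgroup.mem_bot] at this
          rw [this, one_smul] at hkb
          exact hbc hkb
        obtain ⟨M, hMn, hMmem, hMtr, -⟩ :=
          Cfsg.Agent.Lib.helper6.ZassNormal.frobenius_perm (X := G) (Δ := α) inferInstance h1' a hstab
            ⟨b, Ne.symm hab⟩
        refine ⟨M, hMn, hMtr, ?_⟩
        intro r hr x hrx
        rcases (hMmem r).mp hr with h | h
        · exact h
        · exact absurd hrx (h x)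
      -- Zassenhaus group
      have hZ : Cfsg.IsZassenhausGroup G α := by
        refine ⟨inferInstance, is_two_pretransitive_iff.mpr (fun h1 h2 => Z.two h1 h2), Z.three, ?_, ?_⟩
        · have : 1 < Nat.card ↥(stabilizer G a ⊓ stabilizer G b : Subgroup G) := by
            rw [hE]; omega
          haveI : Nontrivial ↥(stabilizer G a ⊓ stabilizer G b : Subgroup G) :=
            Finite.one_lt_card_iff_nontrivial.mp this
          obtain ⟨g, hg⟩ := exists_ne (1 : ↥(stabilizer G a ⊓ stabilizer G b : Subgroup G))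
          obtain ⟨h1, h2⟩ := Subgroup.mem_inf.mp g.2
          exact ⟨(g : G), fun h => hg (Subtype.ext h), a, b, hab, mem_stabilizer_iff.mp h1,
            mem_stabilizer_iff.mp h2⟩
        · intro N hNn hNtr
          by_contra hcon
          push Not at hcon
          apply hreg
          refine ⟨N, hNn, ?_, ?_⟩
          · intro x y
            obtain ⟨n, hn⟩ := exists_smul_eq N x y
            exact ⟨(n : G), n.2, hn⟩
          · intro r hr x hrx
            have : (⟨r, hr⟩ : N) ∈ stabilizer N x := mem_stabilizer_iff.mpr hrx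
            rw [hcon x, Subgroup.mem_bot] at this
            exact congrArg Subtype.val this
      rcases Cfsg.Agent.Lib.helper6.ZassFeit.zass_abelian_strong hZ Z hPcomm with ⟨h1, -⟩ | ⟨h1, K, iK, iKf, -, hK, hiso⟩
      · exfalso
        rw [hE, hα] at h1
        apply hdp
        omega
      · rw [hE, hα] at h1
        refine ⟨by omega, ?_⟩
        obtain ⟨iso⟩ := hiso
        have hKp : Fintype.card K = p := by omega
        let eK : ZMod p ≃+* K := ZMod.ringEquivOfPrime K hp hKp
        obtain ⟨iso2⟩ := Cfsg.Agent.Lib.helper6.SylowPSL.psl_congr eK.symm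
        exact ⟨iso.trans iso2⟩

end Cfsg.Agent.Lib.helper6.DegP1
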