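import Mathlib
import Cfsg.Agent.Lib.helper6.DegP1C
import Cfsg.Agent.S0253

set_option autoImplicit false

namespace Cfsg.Agent.Lib.helper6.DicksonG

open Subgroup

variable {H : Type*} [Group H] [Finite H]

/-- a Sylow subgroup for a prime dividing the order exactly once has prime order -/
theorem card_sylow_eq (ℓ m : ℕ) [Fact ℓ.Prime] (hcard : Nat.card H = ℓ * m) (hm : ¬ ℓ ∣ m)
    (P : Sylow ℓ H) : Nat.card P = ℓ := by
  obtain ⟨n, hn⟩ := (IsPGroup.iff_card.mp P.isPGroup')
  have h1 := (P : Subgroup H).card_mul_index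
  have h2 := P.not_dvd_index
  rw [hcard] at h1
  have hn' : Nat.card (P : Subgroup H) = ℓ ^ n := hn
  rw [hn'] at h1
  rcases n with _ | _ | n
  · exfalso
    rw [pow_zero, one_mul] at h1
    exact h2 (h1 ▸ dvd_mul_right ℓ m)
  · rw [hn]; simp
  · exfalso
    apply hm
    have h3 : ℓ ^ (n + 1 + 1) ∣ ℓ * m := ⟨_, h1.symm⟩
    rw [pow_succ, mul_comm] at h3
    exact (Nat.mul_dvd_mul_iff_left (Fact.out : ℓ.Prime).pos).mp
      ((Nat.mul_dvd_mul_left ℓ (dvd_pow_self ℓ (Nat.succ_ne_zero n))).trans h3)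

/-- a Sylow subgroup of prime order is generated by any non-trivial element -/
theorem sylow_eq_zpowers (ℓ : ℕ) [Fact ℓ.Prime] (P : Sylow ℓ H) (hP : Nat.card P = ℓ)
    {y : H} (hy : y ∈ P) (hy1 : y ≠ 1) : (P : Subgroup H) = zpowers y := by
  symm
  apply Subgroup.eq_of_le_of_card_ge ((zpowers_le (H := (P : Subgroup H))).mpr hy)
  have h1 : Nat.card (zpowers y) ∣ ℓ := by
    have := Subgroup.card_dvd_of_le ((zpowers_le (H := (P : Subgroup H))).mpr hy)
    rwa [show Nat.card (P : Subgroup H) = ℓ from hP] at this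
  rcases (Nat.dvd_prime (Fact.out : ℓ.Prime)).mp h1 with h | h
  · exfalso
    rw [Nat.card_zpowers, orderOf_eq_one_iff] at h
    exact hy1 h
  · rw [h]; exact hP.le

theorem sylow_not_normal (ℓ : ℕ) [Fact ℓ.Prime] (P : Sylow ℓ H) (hP : Nat.card P = ℓ)
    (hno : ∀ z : H, z ≠ 1 → ¬ (Subgroup.zpowers z).Normal) : ¬ (P : Subgroup H).Normal := by
  intro hn
  have hne : (P : Subgroup H) ≠ ⊥ := by
    intro h
    have : Nat.card (P : Subgroup H) = 1 := by rw [h]; exact Subgroup.card_bot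
    rw [show Nat.card (P : Subgroup H) = ℓ from hP] at this
    exact (Fact.out : ℓ.Prime).one_lt.ne' this
  obtain ⟨y, hy1⟩ := (Subgroup.ne_bot_iff_exists_ne_one).mp hne
  have hy1' : (y : H) ≠ 1 := fun h => hy1 (Subtype.ext h)
  have := sylow_eq_zpowers ℓ P hP y.2 hy1'
  rw [this] at hn
  exact hno _ hy1' hn

/-- the conjugation action on the Sylow subgroups is faithful -/
theorem sylow_faithful (ℓ m : ℕ) [Fact ℓ.Prime] (hℓ : ℓ ≠ 2) (hcard : Nat.card H = ℓ * m)
    (hm : ¬ ℓ ∣ m) (hno : ∀ z : H, z ≠ 1 → ¬ (Subgroup.zpowers z).Normal) (P : Sylow ℓ H)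
    (hN : Nat.card (Subgroup.normalizer (P : Set H)) ∣ 2 * ℓ) :
    ∀ g : H, (∀ Q : Sylow ℓ H, g • Q = Q) → g = 1 := by
  have hℓp : ℓ.Prime := Fact.out
  have hPc : ∀ Q : Sylow ℓ H, Nat.card Q = ℓ := fun Q => card_sylow_eq ℓ m hcard hm Q
  let K : Subgroup H := (MulAction.toPermHom H (Sylow ℓ H)).ker
  have hKmem : ∀ g : H, g ∈ K ↔ ∀ Q : Sylow ℓ H, g • Q = Q := by
    intro g
    rw [MonoidHom.mem_ker]
    constructor
    · intro h Q
      have := congrArg (fun σ => σ Q) h
      simpa using this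
    · intro h
      apply Equiv.ext
      intro Q
      exact h Q
  haveI hKn : K.Normal := MonoidHom.normal_ker _
  have hKle : K ≤ Subgroup.normalizer (P : Set H) := by
    intro g hg
    exact Sylow.smul_eq_iff_mem_normalizer.mp ((hKmem g).mp hg P)
  -- step 1
  have h1 : ∀ g ∈ K, ¬ ℓ ∣ orderOf g := by
    intro g hg hdvd
    have hpos : 0 < orderOf g := orderOf_pos g
    obtain ⟨y, hy⟩ : ∃ y : H, y = g ^ (orderOf g / ℓ) := ⟨_, rfl⟩
    have hyo : orderOf y = ℓ := by
      rw [hy]; exact orderOf_pow_orderOf_div hpos.ne' hdvd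
    have hyK : y ∈ K := by rw [hy]; exact K.pow_mem hg _
    have hy1 : y ≠ 1 := by
      intro h
      rw [h, orderOf_one] at hyo
      exact hℓp.one_lt.ne hyo
    have hpg : IsPGroup ℓ (zpowers y) := by
      apply IsPGroup.of_card (n := 1)
      rw [Nat.card_zpowers, hyo, pow_one]
    have hall : ∀ Q : Sylow ℓ H, (Q : Subgroup H) = zpowers y := by
      intro Q
      have hyN : y ∈ Subgroup.normalizer (Q : Set H) :=
        Sylow.smul_eq_iff_mem_normalizer.mp ((hKmem y).mp hyK Q)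
      have hle : zpowers y ≤ Subgroup.normalizer (Q : Set H) := (zpowers_le).mpr hyN
      have h2 := hpg.inf_normalizer_sylow Q
      rw [inf_eq_left.mpr hle] at h2
      have h3 : zpowers y ≤ Q := by
        rw [h2]; exact inf_le_right
      have hyQ : y ∈ Q := h3 (mem_zpowers y)
      exact sylow_eq_zpowers ℓ Q (hPc Q) hyQ hy1
    haveI : Subsingleton (Sylow ℓ H) := ⟨fun Q Q' => Sylow.ext ((hall Q).trans (hall Q').symm)⟩
    exact sylow_not_normal ℓ P (hPc P) hno (Sylow.normal_of_subsingleton P)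
  -- step 2
  have h2 : ∀ g ∈ K, g ^ 2 = 1 := by
    intro g hg
    have ho : orderOf g ∣ 2 * ℓ := by
      have hgN : g ∈ Subgroup.normalizer (P : Set H) := hKle hg
      have := Subgroup.orderOf_dvd_natCard _ hgN
      exact this.trans hN
    have hco : (orderOf g).Coprime ℓ := by
      rw [Nat.coprime_comm, Nat.Prime.coprime_iff_not_dvd hℓp]
      exact h1 g hg
    have := hco.dvd_of_dvd_mul_right ho
    exact orderOf_dvd_iff_pow_eq_one.mp this
  -- step 3
  have h3 : Nat.card K ∣ 2 := by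
    have hK2 : IsPGroup 2 K := by
      intro g
      refine ⟨1, ?_⟩
      rw [pow_one]
      exact Subtype.ext (h2 g g.2)
    obtain ⟨n, hn⟩ := IsPGroup.iff_card.mp hK2
    have hd : Nat.card K ∣ 2 * ℓ := (Subgroup.card_dvd_of_le hKle).trans hN
    rw [hn] at hd ⊢
    rcases n with _ | _ | n
    · simp
    · simp
    · exfalso
      have h4 : 2 * 2 ∣ 2 * ℓ := by
        refine dvd_trans ?_ hd
        rw [pow_succ, pow_succ, mul_assoc]
        exact dvd_mul_left _ _
      have h5 : 2 ∣ ℓ := (Nat.mul_dvd_mul_iff_left (by norm_num)).mp h4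
      exact hℓ ((Nat.prime_dvd_prime_iff_eq Nat.prime_two hℓp).mp h5).symm
  intro g hg
  by_contra hg1
  have hgK : g ∈ K := (hKmem g).mpr hg
  have h4 : zpowers g = K := by
    apply Subgroup.eq_of_le_of_card_ge ((zpowers_le).mpr hgK)
    rw [Nat.card_zpowers]
    have h5 : Nat.card K ≤ 2 := Nat.le_of_dvd (by norm_num) h3
    have h6 : orderOf g ≠ 1 := fun h => hg1 (orderOf_eq_one_iff.mp h)
    have h7 : 0 < orderOf g := orderOf_pos g
    omega
  exact hno g hg1 (h4 ▸ hKn)


/-- the Sylow count -/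
theorem sylow_count (ℓ m : ℕ) [Fact ℓ.Prime] (hcard : Nat.card H = ℓ * m) (hm : ¬ ℓ ∣ m)
    (hno : ∀ z : H, z ≠ 1 → ¬ (Subgroup.zpowers z).Normal) (P : Sylow ℓ H) :
    Nat.card (Sylow ℓ H) ∣ m ∧ Nat.card (Sylow ℓ H) ≡ 1 [MOD ℓ] ∧ Nat.card (Sylow ℓ H) ≠ 1 ∧
      Nat.card (Sylow ℓ H) * Nat.card (Subgroup.normalizer (P : Set H)) = ℓ * m := by
  have hℓp : ℓ.Prime := Fact.out
  have hPc : Nat.card P = ℓ := card_sylow_eq ℓ m hcard hm P
  refine ⟨?_, card_sylow_modEq_one ℓ H, ?_, ?_⟩
  · have h1 := P.card_dvd_index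
    have h2 := (P : Subgroup H).card_mul_index
    rw [hcard, show Nat.card (P : Subgroup H) = ℓ from hPc] at h2
    have h3 : (P : Subgroup H).index = m := Nat.eq_of_mul_eq_mul_left hℓp.pos h2
    rwa [h3] at h1
  · intro h1
    haveI : Subsingleton (Sylow ℓ H) := (Nat.card_eq_one_iff_unique.mp h1).1
    exact sylow_not_normal ℓ P hPc hno (Sylow.normal_of_subsingleton P)
  · rw [P.card_eq_index_normalizer, Subgroup.index_mul_card, hcard]

theorem a4_of_card (hcard : Nat.card H = 12)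
    (hno : ∀ z : H, z ≠ 1 → ¬ (Subgroup.zpowers z).Normal) :
    Nonempty (H ≃* alternatingGroup (Fin 4)) := by
  classical
  haveI : Fact (Nat.Prime 3) := ⟨by norm_num⟩
  have hc : Nat.card H = 3 * 4 := by rw [hcard]
  obtain ⟨P⟩ : Nonempty (Sylow 3 H) := inferInstance
  obtain ⟨h1, h2, h3, h4⟩ := sylow_count 3 4 hc (by norm_num) hno P
  have hn : Nat.card (Sylow 3 H) = 4 := by
    have hle : Nat.card (Sylow 3 H) ≤ 4 := Nat.le_of_dvd (by norm_num) h1
    have hpos : 0 < Nat.card (Sylow 3 H) := Nat.card_pos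
    unfold Nat.ModEq at h2
    interval_cases (Nat.card (Sylow 3 H)) <;> simp_all
  have hN : Nat.card (Subgroup.normalizer (P : Set H)) = 3 := by
    rw [hn] at h4; omega
  have hfaith := sylow_faithful 3 4 (by norm_num) hc (by norm_num) hno P (by rw [hN]; norm_num)
  haveI : Fintype (Sylow 3 H) := Fintype.ofFinite _
  have hn' : Fintype.card (Sylow 3 H) = 4 := by rw [← Nat.card_eq_fintype_card, hn]
  let e : Sylow 3 H ≃ Fin 4 := Fintype.equivFinOfCardEq hn'
  let ψ : H →* Equiv.Perm (Fin 4) :=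
    (e.permCongrHom.toMonoidHom).comp (MulAction.toPermHom H (Sylow 3 H))
  have hψ : Function.Injective ψ := by
    rw [injective_iff_map_eq_one]
    intro g hg
    apply hfaith g
    intro Q
    have h5 : MulAction.toPermHom H (Sylow 3 H) g = 1 := by
      apply e.permCongrHom.injective
      rw [map_one]
      exact hg
    have := congrArg (fun σ => σ Q) h5
    simpa using this
  have hr : Nat.card ψ.range = 12 := by
    rw [← hcard]
    exact (Nat.card_congr (MonoidHom.ofInjective hψ).toEquiv).symm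
  have hidx : ψ.range.index = 2 := by
    have := ψ.range.card_mul_index
    rw [hr, Nat.card_perm, Nat.card_eq_fintype_card, Fintype.card_fin] at this
    have h6 : Nat.factorial 4 = 24 := by decide
    omega
  have heq := Equiv.Perm.eq_alternatingGroup_of_index_eq_two hidx
  exact ⟨(MonoidHom.ofInjective hψ).trans (MulEquiv.subgroupCongr heq)⟩

theorem s4_of_card (hcard : Nat.card H = 24)
    (hno : ∀ z : H, z ≠ 1 → ¬ (Subgroup.zpowers z).Normal) :
    Nonempty (H ≃* Equiv.Perm (Fin 4)) := by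
  classical
  haveI : Fact (Nat.Prime 3) := ⟨by norm_num⟩
  have hc : Nat.card H = 3 * 8 := by rw [hcard]
  obtain ⟨P⟩ : Nonempty (Sylow 3 H) := inferInstance
  obtain ⟨h1, h2, h3, h4⟩ := sylow_count 3 8 hc (by norm_num) hno P
  have hn : Nat.card (Sylow 3 H) = 4 := by
    have hle : Nat.card (Sylow 3 H) ≤ 8 := Nat.le_of_dvd (by norm_num) h1
    have hpos : 0 < Nat.card (Sylow 3 H) := Nat.card_pos
    unfold Nat.ModEq at h2
    interval_cases (Nat.card (Sylow 3 H)) <;> simp_all
  have hN : Nat.card (Subgroup.normalizer (P : Set H)) = 6 := by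
    rw [hn] at h4; omega
  have hfaith := sylow_faithful 3 8 (by norm_num) hc (by norm_num) hno P (by rw [hN])
  haveI : Fintype (Sylow 3 H) := Fintype.ofFinite _
  have hn' : Fintype.card (Sylow 3 H) = 4 := by rw [← Nat.card_eq_fintype_card, hn]
  let e : Sylow 3 H ≃ Fin 4 := Fintype.equivFinOfCardEq hn'
  let ψ : H →* Equiv.Perm (Fin 4) :=
    (e.permCongrHom.toMonoidHom).comp (MulAction.toPermHom H (Sylow 3 H))
  have hψ : Function.Injective ψ := by
    rw [injective_iff_map_eq_one]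
    intro g hg
    apply hfaith g
    intro Q
    have h5 : MulAction.toPermHom H (Sylow 3 H) g = 1 := by
      apply e.permCongrHom.injective
      rw [map_one]
      exact hg
    have := congrArg (fun σ => σ Q) h5
    simpa using this
  have hbij : Function.Bijective ψ := by
    apply Function.Injective.bijective_of_nat_card_le hψ
    rw [hcard, Nat.card_perm, Nat.card_eq_fintype_card, Fintype.card_fin]
    decide
  exact ⟨MulEquiv.ofBijective ψ hbij⟩

theorem a5_of_card (hcard : Nat.card H = 60)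
    (hno : ∀ z : H, z ≠ 1 → ¬ (Subgroup.zpowers z).Normal) :
    Nonempty (H ≃* alternatingGroup (Fin 5)) := by
  classical
  haveI : Fact (Nat.Prime 5) := ⟨by norm_num⟩
  have hc : Nat.card H = 5 * 12 := by rw [hcard]
  obtain ⟨P⟩ : Nonempty (Sylow 5 H) := inferInstance
  obtain ⟨h1, h2, h3, h4⟩ := sylow_count 5 12 hc (by norm_num) hno P
  have hn : Nat.card (Sylow 5 H) = 6 := by
    have hle : Nat.card (Sylow 5 H) ≤ 12 := Nat.le_of_dvd (by norm_num) h1
    have hpos : 0 < Nat.card (Sylow 5 H) := Nat.card_pos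
    unfold Nat.ModEq at h2
    interval_cases (Nat.card (Sylow 5 H)) <;> simp_all
  have hN : Nat.card (Subgroup.normalizer (P : Set H)) = 10 := by
    rw [hn] at h4; omega
  have hfaith := sylow_faithful 5 12 (by norm_num) hc (by norm_num) hno P (by rw [hN])
  haveI : Fintype (Sylow 5 H) := Fintype.ofFinite _
  have hn' : Fintype.card (Sylow 5 H) = 5 + 1 := by rw [← Nat.card_eq_fintype_card, hn]
  haveI : FaithfulSMul H (Sylow 5 H) := by
    refine ⟨fun {g g'} hgg => ?_⟩
    have h5 : ∀ Q : Sylow 5 H, (g'⁻¹ * g) • Q = Q := by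
      intro Q
      rw [mul_smul, hgg Q, inv_smul_smul]
    have h6 := hfaith _ h5
    calc g = g' * (g'⁻¹ * g) := by group
      _ = g' := by rw [h6, mul_one]
  have hG : Nat.card H = (5 + 1) * 5 * 2 := by rw [hcard]
  rcases Cfsg.Agent.Lib.helper6.DegP1.deg_p1_main (G := H) (α := Sylow 5 H)
    (by norm_num : Nat.Prime 5) hn' hG (by norm_num) with h | h | h
  · omega
  · obtain ⟨-, ⟨f⟩⟩ := h
    obtain ⟨f'⟩ := Cfsg.Agent.S0253.result (F := ZMod 5) (by rw [ZMod.card])
    exact ⟨f.trans f'⟩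
  · exfalso
    obtain ⟨q, hq, h6, -⟩ := h
    have h7 : q < 3 := by
      by_contra hge
      push Not at hge
      have : 2 ^ 3 ≤ 2 ^ q := Nat.pow_le_pow_right (by norm_num) hge
      omega
    interval_cases q <;> omega

end Cfsg.Agent.Lib.helper6.DicksonG
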