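import Mathlib

set_option autoImplicit false

namespace Cfsg.Agent.Lib.helper6.DicksonH

/-- the arithmetic of three orbits with trivial parabolic parts -/
theorem arith_E (g n1 e1 n2 e2 n3 e3 : ℕ) (h1 : n1 * e1 = g) (h2 : n2 * e2 = g)
    (h3 : n3 * e3 = g) (he1 : 2 ≤ e1) (he2 : 2 ≤ e2) (he3 : 2 ≤ e3)
    (hsum : n1 + n2 + n3 = g + 2) :
    (n1 = 2 ∨ n2 = 2 ∨ n3 = 2) ∨ (g = 12 ∧ e1 ≤ 3 ∧ e2 ≤ 3 ∧ e3 ≤ 3) ∨
      (g = 24 ∧ e1 ≤ 4 ∧ e2 ≤ 4 ∧ e3 ≤ 4) ∨ (g = 60 ∧ e1 ≤ 5 ∧ e2 ≤ 5 ∧ e3 ≤ 5) := by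
  have c1 : e1 = 2 ∨ e1 = 3 ∨ e1 = 4 ∨ e1 = 5 ∨ 6 ≤ e1 := by omega
  have c2 : e2 = 2 ∨ e2 = 3 ∨ e2 = 4 ∨ e2 = 5 ∨ 6 ≤ e2 := by omega
  have c3 : e3 = 2 ∨ e3 = 3 ∨ e3 = 4 ∨ e3 = 5 ∨ 6 ≤ e3 := by omega
  have b1 : 6 ≤ e1 → 6 * n1 ≤ g := fun h => by
    rw [← h1]
    calc 6 * n1 = n1 * 6 := by ring
      _ ≤ n1 * e1 := Nat.mul_le_mul_left _ h
  have b2 : 6 ≤ e2 → 6 * n2 ≤ g := fun h => by
    rw [← h2]
    calc 6 * n2 = n2 * 6 := by ring
      _ ≤ n2 * e2 := Nat.mul_le_mul_left _ h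
  have b3 : 6 ≤ e3 → 6 * n3 ≤ g := fun h => by
    rw [← h3]
    calc 6 * n3 = n3 * 6 := by ring
      _ ≤ n3 * e3 := Nat.mul_le_mul_left _ h
  rcases c1 with c1 | c1 | c1 | c1 | c1 <;> rcases c2 with c2 | c2 | c2 | c2 | c2 <;>
    rcases c3 with c3 | c3 | c3 | c3 | c3 <;>
    (first
      | (subst c1; subst c2; subst c3; omega)
      | (subst c1; subst c2; have := b3 c3; omega)
      | (subst c1; subst c3; have := b2 c2; omega)
      | (subst c2; subst c3; have := b1 c1; omega)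
      | (subst c1; have := b2 c2; have := b3 c3; omega)
      | (subst c2; have := b1 c1; have := b3 c3; omega)
      | (subst c3; have := b1 c1; have := b2 c2; omega)
      | (have := b1 c1; have := b2 c2; have := b3 c3; omega))


/-- the arithmetic of the case of one parabolic orbit and one other orbit -/
theorem arith_C (nr ns q c m k : ℕ) (hnr : nr = 1 + q * k) (hk : 1 ≤ k) (hq : 2 ≤ q)
    (hc1 : 1 ≤ c) (hc2 : c < q) (hns : ns + 2 * nr = nr * q + 2)
    (hg : nr * (q * c) = ns * m) :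
    ns = 2 ∨ (k = 1 ∧ 2 * c + 1 = q ∧ 2 * m = q + 1) ∨ (k = 1 ∧ c + 1 = q ∧ m = q + 1) ∨
      (q = 3 ∧ c = 2 ∧ k = 3 ∧ m = 5) := by
  obtain ⟨Q, rfl⟩ : ∃ Q, q = Q + 2 := ⟨q - 2, by omega⟩
  rcases Nat.eq_zero_or_pos Q with hQ0 | hQ
  · left
    subst hQ0
    omega
  right
  have hns' : ns = (Q + 2) * (1 + Q * k) := by
    have h1 : nr * (Q + 2) = nr * Q + 2 * nr := by ring
    have h2 : ns = nr * Q + 2 := by omega
    rw [h2, hnr]; ring
  have hA : (1 + (Q + 2) * k) * c = (1 + Q * k) * m := by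
    have h1 : (Q + 2) * ((1 + (Q + 2) * k) * c) = (Q + 2) * ((1 + Q * k) * m) := by
      calc (Q + 2) * ((1 + (Q + 2) * k) * c) = nr * ((Q + 2) * c) := by rw [hnr]; ring
        _ = ns * m := hg
        _ = (Q + 2) * ((1 + Q * k) * m) := by rw [hns']; ring
    exact Nat.eq_of_mul_eq_mul_left (by omega) h1
  obtain ⟨A, hAdef⟩ : ∃ A, A = 1 + Q * k := ⟨_, rfl⟩
  have hA' : (A + 2 * k) * c = A * m := by
    rw [hAdef, ← hA]; ring
  have hApos : 1 ≤ A := by omega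
  have hmc : c < m := by
    by_contra hle
    push Not at hle
    have h1 : A * m ≤ A * c := Nat.mul_le_mul_left A hle
    have h2 : (A + 2 * k) * c = A * c + 2 * k * c := by ring
    have h3 : 1 ≤ k * c := Nat.one_le_iff_ne_zero.mpr (Nat.mul_ne_zero (by omega) (by omega))
    have h4 : 2 * k * c = 2 * (k * c) := by ring
    omega
  obtain ⟨δ, rfl⟩ : ∃ δ, m = c + δ := ⟨m - c, by omega⟩
  have hδ : 1 ≤ δ := by omega
  have hAδ : A * δ = 2 * (k * c) := by
    have h2 : (A + 2 * k) * c = A * c + 2 * (k * c) := by ring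
    have h3 : A * (c + δ) = A * c + A * δ := by ring
    omega
  have hkc : k * c ≤ k * (Q + 1) := Nat.mul_le_mul_left k (by omega)
  have hkQ : k ≤ k * Q := by
    calc k = k * 1 := by ring
      _ ≤ k * Q := Nat.mul_le_mul_left k hQ
  have hδ4 : δ < 4 := by
    by_contra hge
    push Not at hge
    have h1 : A * 4 ≤ A * δ := Nat.mul_le_mul_left A hge
    have h2 : k * (Q + 1) = k * Q + k := by ring
    have h3 : A * 4 = 4 + 4 * (k * Q) := by rw [hAdef]; ring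
    omega
  have hAexp : A = 1 + k * Q := by rw [hAdef]; ring
  interval_cases δ
  · -- δ = 1
    left
    rw [mul_one] at hAδ
    have hk1 : k = 1 := by
      have h1 : k ∣ 1 := by
        have h2 : k ∣ 2 * (k * c) := Dvd.dvd.mul_left (dvd_mul_right k c) 2
        have h3 : k ∣ k * Q := dvd_mul_right k Q
        rw [← hAδ, hAexp] at h2
        exact (Nat.dvd_add_left h3).mp h2
      exact Nat.dvd_one.mp h1
    subst hk1
    simp only [one_mul] at hAδ hAexp
    omega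
  · -- δ = 2
    right; left
    have hk1 : k = 1 := by
      have h0 : A = k * c := by omega
      have h1 : k ∣ 1 := by
        have h2 : k ∣ k * c := dvd_mul_right k c
        have h3 : k ∣ k * Q := dvd_mul_right k Q
        rw [← h0, hAexp] at h2
        exact (Nat.dvd_add_left h3).mp h2
      exact Nat.dvd_one.mp h1
    subst hk1
    simp only [one_mul] at hAδ hAexp
    omega
  · -- δ = 3
    right; right
    have h1 : k ∣ 3 := by
      have h2 : k ∣ 2 * (k * c) := Dvd.dvd.mul_left (dvd_mul_right k c) 2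
      have h3 : k ∣ 3 * (k * Q) := Dvd.dvd.mul_left (dvd_mul_right k Q) 3
      have h4 : A * 3 = 3 + 3 * (k * Q) := by rw [hAexp]; ring
      rw [← hAδ, h4] at h2
      exact (Nat.dvd_add_left h3).mp h2
    have hk13 : k = 1 ∨ k = 3 := by
      have := Nat.le_of_dvd (by norm_num) h1
      interval_cases k <;> simp_all
    rcases hk13 with rfl | rfl
    · exfalso
      simp only [one_mul] at hAδ hAexp hkc
      omega
    · have h5 : 3 * c ≤ 3 * (Q + 1) := hkc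
      omega

end Cfsg.Agent.Lib.helper6.DicksonH
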