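import Mathlib

set_option autoImplicit false

namespace Cfsg.Agent.Lib.helper6.Dickson

open MulAction

variable {H X : Type*} [Group H] [MulAction H X]

/-- `h` is parabolic at `x`: a non-identity element whose only fixed point is `x`. -/
def IsPar (x : X) (h : H) : Prop := h ≠ 1 ∧ h • x = x ∧ ∀ y : X, h • y = y → y = x

/-- Abstract hypotheses on a finite group acting like a subgroup of `PGL₂` on the projective
line over an algebraically closed field of characteristic `p`. -/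
structure DAct (H X : Type*) [Group H] [MulAction H X] (p : ℕ) : Prop where
  faithful : ∀ h : H, (∀ x : X, h • x = x) → h = 1
  fix_exists : ∀ h : H, ∃ x : X, h • x = x
  fix_le_two : ∀ h : H, h ≠ 1 → ∀ x y z : X, h • x = x → h • y = y → h • z = z →
    x = y ∨ y = z ∨ x = z
  par_mul : ∀ (x : X) (h k : H), IsPar x h → IsPar x k → h * k = 1 ∨ IsPar x (h * k)
  par_comm : ∀ (x : X) (h k : H), IsPar x h → IsPar x k → h * k = k * h
  par_pow : ∀ (x : X) (h : H), IsPar x h → h ^ p = 1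
  stab_comm : ∀ (x : X) (h k : H), h • x = x → k • x = x →
    h * k * h⁻¹ * k⁻¹ = 1 ∨ IsPar x (h * k * h⁻¹ * k⁻¹)
  two_cyc : ∀ x y : X, x ≠ y → IsCyclic ↥(stabilizer H x ⊓ stabilizer H y : Subgroup H)
  two_coprime : ∀ (x y : X) (h : H), x ≠ y → h • x = x → h • y = y → h ^ p = 1 → h = 1

theorem IsPar.inv {x : X} {h : H} (hp : IsPar x h) : IsPar x h⁻¹ := by
  obtain ⟨h1, h2, h3⟩ := hp
  refine ⟨inv_ne_one.mpr h1, by rw [inv_smul_eq_iff, h2], fun y hy => h3 y ?_⟩
  rw [inv_smul_eq_iff] at hy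
  exact hy.symm

theorem IsPar.conj {x : X} {h : H} (hp : IsPar x h) (g : H) : IsPar (g • x) (g * h * g⁻¹) := by
  obtain ⟨h1, h2, h3⟩ := hp
  refine ⟨?_, ?_, ?_⟩
  · intro hc
    apply h1
    calc h = g⁻¹ * (g * h * g⁻¹) * g := by group
      _ = 1 := by rw [hc]; group
  · rw [mul_smul, mul_smul, inv_smul_smul, h2]
  · intro y hy
    have e : g⁻¹ • (g * h * g⁻¹) • y = g⁻¹ • y := by rw [hy]
    rw [← mul_smul] at e
    have e2 : g⁻¹ * (g * h * g⁻¹) = h * g⁻¹ := by group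
    rw [e2, mul_smul] at e
    have h4 := h3 _ e
    rw [inv_smul_eq_iff] at h4
    exact h4

namespace DAct

variable {p : ℕ} (D : DAct H X p)
include D

/-- the parabolic subgroup at `x` -/
def Q (x : X) : Subgroup H where
  carrier := {h | h = 1 ∨ IsPar x h}
  one_mem' := Or.inl rfl
  mul_mem' := by
    rintro a b (rfl | ha) (rfl | hb)
    · left; rw [mul_one]
    · right; rwa [one_mul]
    · right; rwa [mul_one]
    · exact D.par_mul x a b ha hb
  inv_mem' := by
    rintro a (rfl | ha)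
    · left; rw [inv_one]
    · right; exact ha.inv

theorem mem_Q {x : X} {h : H} : h ∈ D.Q x ↔ h = 1 ∨ IsPar x h := Iff.rfl

theorem Q_le_stab (x : X) : D.Q x ≤ stabilizer H x := by
  rintro h (rfl | hh)
  · exact Subgroup.one_mem _
  · exact hh.2.1

theorem Q_fix {x : X} {h : H} (hh : h ∈ D.Q x) : h • x = x := D.Q_le_stab x hh

theorem Q_eq_one_of_fix {x y : X} {h : H} (hh : h ∈ D.Q x) (hy : h • y = y) (hxy : y ≠ x) :
    h = 1 := by
  rcases hh with rfl | hh
  · rfl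
  · exact absurd (hh.2.2 y hy) hxy

theorem Q_conj {x : X} {u : H} (hu : u ∈ D.Q x) (g : H) : g * u * g⁻¹ ∈ D.Q (g • x) := by
  rcases hu with rfl | hu
  · left; group
  · right; exact hu.conj g

theorem Q_conj_stab {x : X} {u : H} (hu : u ∈ D.Q x) {g : H} (hg : g • x = x) :
    g * u * g⁻¹ ∈ D.Q x := by
  have := D.Q_conj hu g
  rwa [hg] at this

theorem Q_comm {x : X} {u v : H} (hu : u ∈ D.Q x) (hv : v ∈ D.Q x) : u * v = v * u := by
  rcases hu with rfl | hu
  · rw [one_mul, mul_one]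
  rcases hv with rfl | hv
  · rw [one_mul, mul_one]
  exact D.par_comm x u v hu hv

theorem Q_pow {x : X} {u : H} (hu : u ∈ D.Q x) : u ^ p = 1 := by
  rcases hu with rfl | hu
  · rw [one_pow]
  · exact D.par_pow x u hu

theorem Q_inf {x y : X} (hxy : x ≠ y) {u : H} (hx : u ∈ D.Q x) (hy : u ∈ D.Q y) : u = 1 :=
  D.Q_eq_one_of_fix hx (D.Q_fix hy) (Ne.symm hxy)

theorem isPGroup_Q [Fact p.Prime] (x : X) : IsPGroup p (D.Q x) := by
  intro u
  refine ⟨1, ?_⟩
  rw [pow_one]
  exact Subtype.ext (D.Q_pow u.2)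

/-- a non-parabolic element of a point stabiliser has a second fixed point -/
theorem exists_second {x : X} {h : H} (hx : h • x = x) (hh : h ∉ D.Q x) :
    ∃ y : X, y ≠ x ∧ h • y = y := by
  by_contra hne
  push Not at hne
  apply hh
  right
  refine ⟨fun h1 => hh (h1 ▸ (D.Q x).one_mem), hx, fun y hy => ?_⟩
  by_contra hyx
  exact hne y hyx hy

theorem fix_eq_of_two {h : H} (h1 : h ≠ 1) {x y z : X} (hxy : x ≠ y) (hx : h • x = x)
    (hy : h • y = y) (hz : h • z = z) : z = x ∨ z = y := by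
  rcases D.fix_le_two h h1 x y z hx hy hz with h | h | h
  · exact absurd h hxy
  · right; exact h.symm
  · left; exact h.symm

/-- the commutator of two elements of a point stabiliser is parabolic -/
theorem comm_mem_Q {x : X} {h k : H} (hh : h • x = x) (hk : k • x = x) :
    h * k * h⁻¹ * k⁻¹ ∈ D.Q x := D.stab_comm x h k hh hk

/-- the parabolic subgroup is transitive on the second fixed points -/
theorem exists_Q_smul [Finite H] {x y : X} (hxy : x ≠ y) {k₀ : H} (hk1 : k₀ ≠ 1)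
    (hkx : k₀ • x = x) (hky : k₀ • y = y) {g : H} (hg : g • x = x) :
    ∃ u ∈ D.Q x, u • y = g • y := by
  classical
  have hk0i : k₀⁻¹ • x = x := by rw [inv_smul_eq_iff, hkx]
  -- θ
  let θ : D.Q x → D.Q x := fun u => ⟨(u : H) * k₀ * (u : H)⁻¹ * k₀⁻¹, by
    have h1 : k₀ * (u : H)⁻¹ * k₀⁻¹ ∈ D.Q x := D.Q_conj_stab ((D.Q x).inv_mem u.2) hkx
    have : (u : H) * k₀ * (u : H)⁻¹ * k₀⁻¹ = (u : H) * (k₀ * (u : H)⁻¹ * k₀⁻¹) := by group
    rw [this]
    exact (D.Q x).mul_mem u.2 h1⟩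
  have hθinj : Function.Injective θ := by
    intro u u' huu
    have h1 : (u : H) * k₀ * (u : H)⁻¹ * k₀⁻¹ = (u' : H) * k₀ * (u' : H)⁻¹ * k₀⁻¹ :=
      congrArg Subtype.val huu
    have h2 : (u : H) * k₀ * (u : H)⁻¹ = (u' : H) * k₀ * (u' : H)⁻¹ := mul_right_cancel h1
    -- v commutes with k₀
    have h3 : ((u' : H)⁻¹ * (u : H)) * k₀ = k₀ * ((u' : H)⁻¹ * (u : H)) := by
      calc ((u' : H)⁻¹ * (u : H)) * k₀ = (u' : H)⁻¹ * ((u : H) * k₀ * (u : H)⁻¹) * (u : H) := by
            group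
        _ = (u' : H)⁻¹ * ((u' : H) * k₀ * (u' : H)⁻¹) * (u : H) := by rw [h2]
        _ = k₀ * ((u' : H)⁻¹ * (u : H)) := by group
    have hv : (u' : H)⁻¹ * (u : H) ∈ D.Q x := (D.Q x).mul_mem ((D.Q x).inv_mem u'.2) u.2
    have h4 : k₀ • (((u' : H)⁻¹ * (u : H)) • y) = ((u' : H)⁻¹ * (u : H)) • y := by
      rw [← mul_smul, ← h3, mul_smul, hky]
    have h5 := D.fix_eq_of_two hk1 hxy hkx hky h4
    have h6 : ((u' : H)⁻¹ * (u : H)) • y = y := by
      rcases h5 with h | h
      · exfalso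
        have h7 := D.Q_fix hv
        have h8 := h.trans h7.symm
        exact hxy (MulAction.injective _ h8).symm
      · exact h
    have h7 := D.Q_eq_one_of_fix hv h6 (Ne.symm hxy)
    apply Subtype.ext
    have : (u : H) = (u' : H) * ((u' : H)⁻¹ * (u : H)) := by group
    rw [this, h7, mul_one]
  have hθsurj : Function.Surjective θ := Finite.surjective_of_injective hθinj
  obtain ⟨u, hu⟩ := hθsurj ⟨g * k₀ * g⁻¹ * k₀⁻¹, D.comm_mem_Q hg hkx⟩
  have h1 : (u : H) * k₀ * (u : H)⁻¹ * k₀⁻¹ = g * k₀ * g⁻¹ * k₀⁻¹ := congrArg Subtype.val hu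
  have h2 : (u : H) * k₀ * (u : H)⁻¹ = g * k₀ * g⁻¹ := mul_right_cancel h1
  refine ⟨u, u.2, ?_⟩
  -- both are the second fixed point of g k₀ g⁻¹
  have hne : g * k₀ * g⁻¹ ≠ 1 := by
    intro h
    apply hk1
    have : k₀ = g⁻¹ * (g * k₀ * g⁻¹) * g := by group
    rw [this, h]; group
  have f1 : (g * k₀ * g⁻¹) • x = x := by
    rw [mul_smul, mul_smul, inv_smul_eq_iff.mpr hg.symm, hkx, hg]
  have f2 : (g * k₀ * g⁻¹) • (g • y) = g • y := by
    rw [mul_smul, mul_smul, inv_smul_smul, hky]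
  have f3 : (g * k₀ * g⁻¹) • ((u : H) • y) = (u : H) • y := by
    rw [← h2, mul_smul, mul_smul, inv_smul_smul, hky]
  have hgy : x ≠ g • y := by
    intro h
    rw [← hg] at h
    exact hxy (MulAction.injective g h)
  rcases D.fix_eq_of_two hne hgy f1 f2 f3 with h | h
  · exfalso
    have h7 := D.Q_fix u.2
    have h8 := h.trans h7.symm
    exact hxy (MulAction.injective _ h8).symm
  · exact h

/-- the order of a point stabiliser with a non-parabolic element -/
theorem card_stab_eq [Finite H] {x y : X} (hxy : x ≠ y) {k₀ : H} (hk1 : k₀ ≠ 1)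
    (hkx : k₀ • x = x) (hky : k₀ • y = y) :
    Nat.card (stabilizer H x) =
      Nat.card (D.Q x) * Nat.card ↥(stabilizer H x ⊓ stabilizer H y : Subgroup H) := by
  classical
  rw [← Nat.card_prod]
  symm
  let f : (D.Q x) × ↥(stabilizer H x ⊓ stabilizer H y : Subgroup H) → stabilizer H x :=
    fun uk => ⟨(uk.1 : H) * (uk.2 : H), (stabilizer H x).mul_mem (D.Q_le_stab x uk.1.2)
      (Subgroup.mem_inf.mp uk.2.2).1⟩
  apply Nat.card_eq_of_bijective f
  constructor
  · rintro ⟨u, k⟩ ⟨u', k'⟩ huk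
    have h1 : (u : H) * (k : H) = (u' : H) * (k' : H) := congrArg Subtype.val huk
    have h2 : (u' : H)⁻¹ * (u : H) = (k' : H) * (k : H)⁻¹ := by
      calc (u' : H)⁻¹ * (u : H) = (u' : H)⁻¹ * ((u : H) * (k : H)) * (k : H)⁻¹ := by group
        _ = (k' : H) * (k : H)⁻¹ := by rw [h1]; group
    have hv : (u' : H)⁻¹ * (u : H) ∈ D.Q x := (D.Q x).mul_mem ((D.Q x).inv_mem u'.2) u.2
    have hk : (k' : H) * (k : H)⁻¹ ∈ (stabilizer H x ⊓ stabilizer H y : Subgroup H) :=
      Subgroup.mul_mem _ k'.2 (Subgroup.inv_mem _ k.2)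
    have h3 : ((u' : H)⁻¹ * (u : H)) • y = y := by
      rw [h2]; exact (Subgroup.mem_inf.mp hk).2
    have h4 := D.Q_eq_one_of_fix hv h3 (Ne.symm hxy)
    have h5 : (u : H) = (u' : H) := by
      have : (u : H) = (u' : H) * ((u' : H)⁻¹ * (u : H)) := by group
      rw [this, h4, mul_one]
    have h6 : (k : H) = (k' : H) := by
      rw [h5] at h1
      exact mul_left_cancel h1
    exact Prod.ext (Subtype.ext h5) (Subtype.ext h6)
  · rintro ⟨g, hg⟩
    obtain ⟨u, hu, huy⟩ := D.exists_Q_smul hxy hk1 hkx hky (mem_stabilizer_iff.mp hg)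
    have hux : u • x = x := D.Q_fix hu
    refine ⟨(⟨u, hu⟩, ⟨u⁻¹ * g, Subgroup.mem_inf.mpr ⟨?_, ?_⟩⟩), ?_⟩
    · rw [mem_stabilizer_iff, mul_smul, mem_stabilizer_iff.mp hg, inv_smul_eq_iff, hux]
    · rw [mem_stabilizer_iff, mul_smul, ← huy, inv_smul_smul]
    · apply Subtype.ext
      show u * (u⁻¹ * g) = g
      group

/-- a point stabiliser all of whose elements have no second fixed point is parabolic -/
theorem stab_eq_Q {x : X} (hno : ∀ h : H, h ≠ 1 → h • x = x → ∀ y : X, y ≠ x → h • y ≠ y) :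
    stabilizer H x = D.Q x := by
  apply le_antisymm
  · intro h hh
    by_contra hq
    obtain ⟨y, hyx, hy⟩ := D.exists_second (mem_stabilizer_iff.mp hh) hq
    have h1 : h ≠ 1 := fun h1 => hq (h1 ▸ (D.Q x).one_mem)
    exact hno h h1 (mem_stabilizer_iff.mp hh) y hyx hy
  · exact D.Q_le_stab x

end DAct

end Cfsg.Agent.Lib.helper6.Dickson
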