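import Mathlib
import Cfsg.Agent.Lib.helper6.DicksonA

set_option autoImplicit false

namespace Cfsg.Agent.Lib.helper6.Dickson

open MulAction

variable {H X : Type*} [Group H] [MulAction H X]

namespace DAct

variable {p : ℕ} (D : DAct H X p)
include D

theorem finite_fix {h : H} (h1 : h ≠ 1) : Set.Finite {x : X | h • x = x} := by
  classical
  obtain ⟨x₀, hx₀⟩ := D.fix_exists h
  by_cases hex : ∃ y : X, y ≠ x₀ ∧ h • y = y
  · obtain ⟨y, hy0, hy⟩ := hex
    apply Set.Finite.subset (Set.toFinite ({x₀, y} : Set X))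
    intro z hz
    rcases D.fix_eq_of_two h1 (Ne.symm hy0) hx₀ hy hz with h | h
    · left; exact h
    · right; exact h
  · push Not at hex
    apply Set.Finite.subset (Set.toFinite ({x₀} : Set X))
    intro z hz
    by_contra hne
    exact hex z hne hz

/-- the set of points with non-trivial stabiliser -/
noncomputable def Ω [Fintype H] [DecidableEq H] [DecidableEq X] : Finset X :=
  Finset.univ.biUnion (fun h : H => if h1 : h = 1 then ∅ else (D.finite_fix h1).toFinset)

theorem mem_Ω [Fintype H] [DecidableEq H] [DecidableEq X] {x : X} : x ∈ D.Ω ↔ ∃ h : H, h ≠ 1 ∧ h • x = x := by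
  unfold Ω
  rw [Finset.mem_biUnion]
  constructor
  · rintro ⟨h, -, hx⟩
    by_cases h1 : h = 1
    · rw [dif_pos h1] at hx
      exact absurd hx (Finset.notMem_empty x)
    · rw [dif_neg h1, Set.Finite.mem_toFinset] at hx
      exact ⟨h, h1, hx⟩
  · rintro ⟨h, h1, hx⟩
    refine ⟨h, Finset.mem_univ h, ?_⟩
    rw [dif_neg h1, Set.Finite.mem_toFinset]
    exact hx

theorem smul_mem_Ω [Fintype H] [DecidableEq H] [DecidableEq X] {x : X} (hx : x ∈ D.Ω) (g : H) : g • x ∈ D.Ω := by
  obtain ⟨h, h1, hh⟩ := D.mem_Ω.mp hx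
  refine D.mem_Ω.mpr ⟨g * h * g⁻¹, ?_, ?_⟩
  · intro hc
    apply h1
    calc h = g⁻¹ * (g * h * g⁻¹) * g := by group
      _ = 1 := by rw [hc]; group
  · rw [mul_smul, mul_smul, inv_smul_smul, hh]

omit D in
/-- uniqueness of the parabolic point -/
theorem isPar_unique {h : H} {x y : X} (hx : IsPar x h) (hy : IsPar y h) : x = y :=
  hy.2.2 x hx.2.1

open Classical in
/-- the number of fixed points in `Ω` of a non-identity element -/
theorem card_fix_Ω [Fintype H] [DecidableEq H] [DecidableEq X] {h : H} (h1 : h ≠ 1) :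
    (D.Ω.filter (fun x => h • x = x)).card + (if ∃ x : X, IsPar x h then 1 else 0) = 2 := by
  obtain ⟨x₀, hx₀⟩ := D.fix_exists h
  have hx₀Ω : x₀ ∈ D.Ω := D.mem_Ω.mpr ⟨h, h1, hx₀⟩
  by_cases hex : ∃ y : X, y ≠ x₀ ∧ h • y = y
  · obtain ⟨y, hy0, hy⟩ := hex
    have hnp : ¬ ∃ x : X, IsPar x h := by
      rintro ⟨x, hx⟩
      have e1 := hx.2.2 x₀ hx₀
      have e2 := hx.2.2 y hy
      exact hy0 (e2.trans e1.symm)
    rw [if_neg hnp, add_zero]
    have : D.Ω.filter (fun x => h • x = x) = {x₀, y} := by
      ext z
      rw [Finset.mem_filter, Finset.mem_insert, Finset.mem_singleton]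
      constructor
      · rintro ⟨-, hz⟩
        exact D.fix_eq_of_two h1 (Ne.symm hy0) hx₀ hy hz
      · rintro (rfl | rfl)
        · exact ⟨hx₀Ω, hx₀⟩
        · exact ⟨D.mem_Ω.mpr ⟨h, h1, hy⟩, hy⟩
    rw [this, Finset.card_pair (Ne.symm hy0)]
  · push Not at hex
    have hpar : IsPar x₀ h := ⟨h1, hx₀, fun y hy => by
      by_contra hne
      exact hex y hne hy⟩
    rw [if_pos ⟨x₀, hpar⟩]
    have : D.Ω.filter (fun x => h • x = x) = {x₀} := by
      ext z
      rw [Finset.mem_filter, Finset.mem_singleton]
      constructor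
      · rintro ⟨-, hz⟩
        exact hpar.2.2 z hz
      · rintro rfl
        exact ⟨hx₀Ω, hx₀⟩
    rw [this, Finset.card_singleton]

open Classical in
/-- the basic counting identity -/
theorem count_identity [Fintype H] [DecidableEq H] [DecidableEq X] :
    ∑ x ∈ D.Ω, ((Nat.card (stabilizer H x) - 1) + (Nat.card (D.Q x) - 1)) =
      2 * (Fintype.card H - 1) := by
  classical
  -- first double count
  have h1 : ∑ x ∈ D.Ω, (Nat.card (stabilizer H x) - 1) =
      ∑ h ∈ Finset.univ.filter (fun h : H => h ≠ 1), (D.Ω.filter (fun x => h • x = x)).card := by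
    have e1 : ∀ x ∈ D.Ω, Nat.card (stabilizer H x) - 1 =
        ∑ h ∈ Finset.univ.filter (fun h : H => h ≠ 1), (if h • x = x then 1 else 0) := by
      intro x _
      rw [Finset.sum_boole, Finset.filter_filter]
      have : Nat.card (stabilizer H x) = (Finset.univ.filter (fun h : H => h • x = x)).card := by
        rw [Nat.card_eq_fintype_card, Fintype.card_subtype]
        rfl
      rw [this]
      have h2 : Finset.univ.filter (fun h : H => h • x = x) =
          insert 1 (Finset.univ.filter (fun h : H => h ≠ 1 ∧ h • x = x)) := by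
        ext h
        simp only [Finset.mem_filter, Finset.mem_univ, true_and, Finset.mem_insert]
        constructor
        · intro hh
          by_cases h1 : h = 1
          · left; exact h1
          · right; exact ⟨h1, hh⟩
        · rintro (rfl | ⟨-, hh⟩)
          · exact one_smul _ _
          · exact hh
      rw [h2, Finset.card_insert_of_notMem (by simp)]
      simp
    rw [Finset.sum_congr rfl e1, Finset.sum_comm]
    apply Finset.sum_congr rfl
    intro h _
    rw [Finset.sum_boole]
    simp
  -- second double count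
  have h2 : ∑ x ∈ D.Ω, (Nat.card (D.Q x) - 1) =
      ∑ h ∈ Finset.univ.filter (fun h : H => h ≠ 1), (if ∃ x : X, IsPar x h then 1 else 0) := by
    have e1 : ∀ x ∈ D.Ω, Nat.card (D.Q x) - 1 =
        ∑ h ∈ Finset.univ.filter (fun h : H => h ≠ 1), (if IsPar x h then 1 else 0) := by
      intro x _
      rw [Finset.sum_boole, Finset.filter_filter]
      have : Nat.card (D.Q x) = (Finset.univ.filter (fun h : H => h ∈ D.Q x)).card := by
        rw [Nat.card_eq_fintype_card, Fintype.card_subtype]
      rw [this]
      have h2 : Finset.univ.filter (fun h : H => h ∈ D.Q x) =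
          insert 1 (Finset.univ.filter (fun h : H => h ≠ 1 ∧ IsPar x h)) := by
        ext h
        simp only [Finset.mem_filter, Finset.mem_univ, true_and, Finset.mem_insert]
        constructor
        · rintro (rfl | hh)
          · left; rfl
          · right; exact ⟨hh.1, hh⟩
        · rintro (rfl | ⟨-, hh⟩)
          · exact (D.Q x).one_mem
          · exact Or.inr hh
      rw [h2, Finset.card_insert_of_notMem (by simp)]
      simp
    rw [Finset.sum_congr rfl e1, Finset.sum_comm]
    apply Finset.sum_congr rfl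
    intro h hh
    rw [Finset.mem_filter] at hh
    rw [Finset.sum_boole]
    by_cases hex : ∃ x : X, IsPar x h
    · obtain ⟨x, hx⟩ := hex
      rw [if_pos ⟨x, hx⟩]
      have : D.Ω.filter (fun y => IsPar y h) = {x} := by
        ext z
        rw [Finset.mem_filter, Finset.mem_singleton]
        constructor
        · rintro ⟨-, hz⟩
          exact isPar_unique hz hx
        · rintro rfl
          exact ⟨D.mem_Ω.mpr ⟨h, hx.1, hx.2.1⟩, hx⟩
      rw [this, Finset.card_singleton]
      simp
    · rw [if_neg hex]
      have : D.Ω.filter (fun y => IsPar y h) = ∅ := by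
        rw [Finset.filter_eq_empty_iff]
        intro z _ hz
        exact hex ⟨z, hz⟩
      rw [this]
      simp
  rw [Finset.sum_add_distrib, h1, h2, ← Finset.sum_add_distrib]
  have h3 : ∀ h ∈ Finset.univ.filter (fun h : H => h ≠ 1),
      (D.Ω.filter (fun x => h • x = x)).card + (if ∃ x : X, IsPar x h then 1 else 0) = 2 := by
    intro h hh
    rw [Finset.mem_filter] at hh
    exact D.card_fix_Ω hh.2
  rw [Finset.sum_congr rfl h3, Finset.sum_const, smul_eq_mul, mul_comm]
  congr 1
  rw [Finset.filter_ne' Finset.univ (1 : H), Finset.card_erase_of_mem (Finset.mem_univ _),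
    Finset.card_univ]

end DAct

end Cfsg.Agent.Lib.helper6.Dickson
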