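import Mathlib
import Cfsg.Agent.Lib.helper6.DicksonB

set_option autoImplicit false

namespace Cfsg.Agent.Lib.helper6.Dickson

open MulAction

variable {H X : Type*} [Group H] [MulAction H X]

/-- a chosen representative of the orbit of `x` -/
noncomputable def rep (H : Type*) [Group H] {X : Type*} [MulAction H X] (x : X) : X :=
  Quotient.out (Quotient.mk (orbitRel H X) x)

theorem rep_mem_orbit (x : X) : rep H x ∈ orbit H x := by
  have : (orbitRel H X) (rep H x) x := Quotient.mk_out (s := orbitRel H X) x
  exact (orbitRel_apply).mp this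

theorem rep_smul (g : H) (x : X) : rep H (g • x) = rep H x := by
  unfold rep
  congr 1
  apply Quotient.sound
  exact (orbitRel_apply).mpr (mem_orbit x g)

theorem rep_rep (x : X) : rep H (rep H x) = rep H x := by
  obtain ⟨g, hg⟩ := rep_mem_orbit (H := H) x
  have hg' : g • x = rep H x := hg
  rw [← hg', rep_smul]
  exact hg'.symm

theorem rep_eq_iff {x r : X} (hr : rep H r = r) : rep H x = r ↔ x ∈ orbit H r := by
  constructor
  · intro h
    obtain ⟨g, hg⟩ := rep_mem_orbit (H := H) x
    rw [h] at hg
    refine ⟨g⁻¹, ?_⟩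
    show g⁻¹ • r = x
    rw [← hg, inv_smul_smul]
  · rintro ⟨g, rfl⟩
    show rep H (g • r) = r
    rw [rep_smul, hr]

namespace DAct

variable {p : ℕ} (D : DAct H X p)
include D

omit D in
theorem card_stab_smul (g : H) (x : X) :
    Nat.card (stabilizer H (g • x)) = Nat.card (stabilizer H x) := by
  have h : orbitRel H X (g • x) x := (orbitRel_apply).mpr (mem_orbit x g)
  exact Nat.card_congr (stabilizerEquivStabilizerOfOrbitRel h).toEquiv

theorem card_Q_smul (g : H) (x : X) : Nat.card (D.Q (g • x)) = Nat.card (D.Q x) := by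
  symm
  refine Nat.card_congr
    { toFun := fun u => ⟨g * (u : H) * g⁻¹, D.Q_conj u.2 g⟩
      invFun := fun u => ⟨g⁻¹ * (u : H) * g, by
        have := D.Q_conj u.2 g⁻¹
        rwa [inv_smul_smul, inv_inv] at this⟩
      left_inv := fun u => by apply Subtype.ext; simp only; group
      right_inv := fun u => by apply Subtype.ext; simp only; group }

variable [Fintype H] [DecidableEq H] [DecidableEq X]

/-- orbit representatives of the points with non-trivial stabiliser -/
noncomputable def R : Finset X := D.Ω.image (rep H)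

theorem mem_R {r : X} : r ∈ D.R ↔ r ∈ D.Ω ∧ rep H r = r := by
  unfold R
  rw [Finset.mem_image]
  constructor
  · rintro ⟨x, hx, rfl⟩
    refine ⟨?_, rep_rep x⟩
    obtain ⟨g, hg⟩ := rep_mem_orbit (H := H) x
    rw [← hg]
    exact D.smul_mem_Ω hx g
  · rintro ⟨h1, h2⟩
    exact ⟨r, h1, h2⟩

/-- the size of the orbit of a representative -/
noncomputable def nn (r : X) : ℕ := (D.Ω.filter (fun x => rep H x = r)).card

theorem nn_mul {r : X} (hr : r ∈ D.R) : D.nn r * Nat.card (stabilizer H r) = Fintype.card H := by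
  obtain ⟨h1, h2⟩ := D.mem_R.mp hr
  have e1 : (↑(D.Ω.filter (fun x => rep H x = r)) : Set X) = orbit H r := by
    ext x
    rw [Finset.coe_filter, Set.mem_ofPred_eq, rep_eq_iff h2]
    constructor
    · exact fun h => h.2
    · rintro ⟨g, rfl⟩
      exact ⟨D.smul_mem_Ω h1 g, ⟨g, rfl⟩⟩
  have e2 : D.nn r = (orbit H r).ncard := by
    rw [← e1, Set.ncard_coe_finset]; rfl
  rw [e2, ← index_stabilizer, mul_comm, Subgroup.card_mul_index, Nat.card_eq_fintype_card]

/-- the counting identity over orbit representatives -/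
theorem count_orbits :
    ∑ r ∈ D.R, D.nn r * ((Nat.card (stabilizer H r) - 1) + (Nat.card (D.Q r) - 1)) =
      2 * (Fintype.card H - 1) := by
  rw [← D.count_identity]
  have hmaps : ∀ x ∈ D.Ω, rep H x ∈ D.R := fun x hx => Finset.mem_image_of_mem _ hx
  rw [← Finset.sum_fiberwise_of_maps_to hmaps]
  apply Finset.sum_congr rfl
  intro r hr
  unfold nn
  rw [Finset.card_eq_sum_ones, Finset.sum_mul]
  apply Finset.sum_congr rfl
  intro x hx
  rw [Finset.mem_filter] at hx
  obtain ⟨g, hg⟩ := rep_mem_orbit (H := H) x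
  rw [hx.2] at hg
  rw [one_mul, ← hg, card_stab_smul, D.card_Q_smul]

end DAct

end Cfsg.Agent.Lib.helper6.Dickson
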