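import Mathlib
import Cfsg.Agent.Lib.helper6.DicksonC
import Cfsg.Agent.Lib.helper6.OrbitTools

set_option autoImplicit false

namespace Cfsg.Agent.Lib.helper6.Dickson

open MulAction

variable {H X : Type*} [Group H] [MulAction H X]

namespace DAct

variable {p : ℕ} (D : DAct H X p)
include D

/-- two-point stabilisers have order prime to `p` -/
theorem coprime_inf [Finite H] [Fact p.Prime] {x y : X} (hxy : x ≠ y) :
    (Nat.card ↥(stabilizer H x ⊓ stabilizer H y : Subgroup H)).Coprime p := by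
  rw [Nat.coprime_comm, Nat.Prime.coprime_iff_not_dvd Fact.out]
  intro hdvd
  obtain ⟨k, hk⟩ := exists_prime_orderOf_dvd_card' (G := ↥(stabilizer H x ⊓ stabilizer H y : Subgroup H)) p hdvd
  have h1 : (k : H) ^ p = 1 := by
    have := pow_orderOf_eq_one k
    rw [hk] at this
    have h2 := congrArg Subtype.val this
    simpa using h2
  have hkm := Subgroup.mem_inf.mp k.2
  have h3 := D.two_coprime x y (k : H) hxy (mem_stabilizer_iff.mp hkm.1) (mem_stabilizer_iff.mp hkm.2) h1
  have h4 : k = 1 := Subtype.ext h3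
  rw [h4, orderOf_one] at hk
  exact (Fact.out : p.Prime).one_lt.ne hk

/-- a stabiliser with trivial parabolic part is a two-point stabiliser -/
theorem stab_eq_inf_of_Q_bot [Finite H] {x : X} (hQ : D.Q x = ⊥) (hne : stabilizer H x ≠ ⊥) :
    ∃ y : X, y ≠ x ∧ stabilizer H x = stabilizer H x ⊓ stabilizer H y := by
  obtain ⟨k₀, hk1⟩ := (Subgroup.ne_bot_iff_exists_ne_one).mp hne
  have hk1' : (k₀ : H) ≠ 1 := fun h => hk1 (Subtype.ext h)
  have hkx : (k₀ : H) • x = x := mem_stabilizer_iff.mp k₀.2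
  have hnq : (k₀ : H) ∉ D.Q x := by
    rw [hQ, Subgroup.mem_bot]; exact hk1'
  obtain ⟨y, hyx, hy⟩ := D.exists_second hkx hnq
  refine ⟨y, hyx, ?_⟩
  have hc := D.card_stab_eq (Ne.symm hyx) hk1' hkx hy
  have hQ1 : Nat.card (D.Q x) = 1 := by rw [hQ]; exact Subgroup.card_bot
  rw [hQ1, one_mul] at hc
  symm
  apply Subgroup.eq_of_le_of_card_ge inf_le_left
  rw [hc]

theorem isCyclic_stab_of_Q_bot [Finite H] {x : X} (hQ : D.Q x = ⊥) :
    IsCyclic (stabilizer H x) := by
  by_cases hne : stabilizer H x = ⊥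
  · rw [hne]; infer_instance
  · obtain ⟨y, hyx, hy⟩ := D.stab_eq_inf_of_Q_bot hQ hne
    rw [hy]
    exact D.two_cyc x y (Ne.symm hyx)

theorem coprime_stab_of_Q_bot [Finite H] [Fact p.Prime] {x : X} (hQ : D.Q x = ⊥) :
    (Nat.card (stabilizer H x)).Coprime p := by
  by_cases hne : stabilizer H x = ⊥
  · rw [hne, Subgroup.card_bot]; exact Nat.coprime_one_left p
  · obtain ⟨y, hyx, hy⟩ := D.stab_eq_inf_of_Q_bot hQ hne
    rw [hy]
    exact D.coprime_inf (Ne.symm hyx)

/-- the two-point stabiliser is smaller than the parabolic subgroup -/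
theorem card_inf_lt [Finite H] {x y : X} (hxy : x ≠ y) (hQ : D.Q x ≠ ⊥) :
    Nat.card ↥(stabilizer H x ⊓ stabilizer H y : Subgroup H) < Nat.card (D.Q x) := by
  classical
  obtain ⟨u₀, hu1⟩ := (Subgroup.ne_bot_iff_exists_ne_one).mp hQ
  have hu1' : (u₀ : H) ≠ 1 := fun h => hu1 (Subtype.ext h)
  let f : Option ↥(stabilizer H x ⊓ stabilizer H y : Subgroup H) → D.Q x := fun o =>
    match o with
    | none => 1
    | some k => ⟨(k : H) * (u₀ : H) * (k : H)⁻¹,
        D.Q_conj_stab u₀.2 (mem_stabilizer_iff.mp (Subgroup.mem_inf.mp k.2).1)⟩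
  have hconj1 : ∀ k : H, k * (u₀ : H) * k⁻¹ ≠ 1 := by
    intro k hc
    apply hu1'
    calc (u₀ : H) = k⁻¹ * (k * (u₀ : H) * k⁻¹) * k := by group
      _ = 1 := by rw [hc]; group
  have hf : Function.Injective f := by
    intro a b hab
    rcases a with _ | k <;> rcases b with _ | k'
    · rfl
    · exfalso
      have := congrArg Subtype.val hab
      exact hconj1 _ this.symm
    · exfalso
      have := congrArg Subtype.val hab
      exact hconj1 _ this
    · have h1 : (k : H) * (u₀ : H) * (k : H)⁻¹ = (k' : H) * (u₀ : H) * (k' : H)⁻¹ :=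
        congrArg Subtype.val hab
      -- h := k'⁻¹ k commutes with u₀
      have h2 : ((k' : H)⁻¹ * (k : H)) * (u₀ : H) = (u₀ : H) * ((k' : H)⁻¹ * (k : H)) := by
        calc ((k' : H)⁻¹ * (k : H)) * (u₀ : H)
            = (k' : H)⁻¹ * ((k : H) * (u₀ : H) * (k : H)⁻¹) * (k : H) := by group
          _ = (k' : H)⁻¹ * ((k' : H) * (u₀ : H) * (k' : H)⁻¹) * (k : H) := by rw [h1]
          _ = (u₀ : H) * ((k' : H)⁻¹ * (k : H)) := by group
      have hm : (k' : H)⁻¹ * (k : H) ∈ (stabilizer H x ⊓ stabilizer H y : Subgroup H) :=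
        Subgroup.mul_mem _ (Subgroup.inv_mem _ k'.2) k.2
      have hmx := mem_stabilizer_iff.mp (Subgroup.mem_inf.mp hm).1
      have hmy := mem_stabilizer_iff.mp (Subgroup.mem_inf.mp hm).2
      by_contra hne
      have hne' : (k' : H)⁻¹ * (k : H) ≠ 1 := by
        intro h
        apply hne
        congr 1
        apply Subtype.ext
        have : (k : H) = (k' : H) * ((k' : H)⁻¹ * (k : H)) := by group
        rw [this, h, mul_one]
      -- u₀ • y is fixed by h
      have h3 : ((k' : H)⁻¹ * (k : H)) • ((u₀ : H) • y) = (u₀ : H) • y := by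
        rw [← mul_smul, h2, mul_smul, hmy]
      rcases D.fix_eq_of_two hne' hxy hmx hmy h3 with h4 | h4
      · have h5 := D.Q_fix u₀.2
        have h6 := h4.trans h5.symm
        exact hxy (MulAction.injective _ h6).symm
      · exact hu1' (D.Q_eq_one_of_fix u₀.2 h4 (Ne.symm hxy))
  have hle := Nat.card_le_card_of_injective f hf
  haveI : Fintype ↥(stabilizer H x ⊓ stabilizer H y : Subgroup H) := Fintype.ofFinite _
  rw [Nat.card_eq_fintype_card (α := Option _), Fintype.card_option,
    ← Nat.card_eq_fintype_card] at hle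
  omega

/-- the order of the parabolic subgroup divides the orbit length minus one -/
theorem card_Q_dvd [Finite H] (x : X) : Nat.card (D.Q x) ∣ (orbit H x).ncard - 1 := by
  have hfin : (orbit H x).Finite := Set.finite_range _
  have hS : (orbit H x \ {x}).ncard = (orbit H x).ncard - 1 := by
    rw [Set.ncard_sdiff (Set.singleton_subset_iff.mpr (mem_orbit_self x)), Set.ncard_singleton]
  rw [← hS]
  apply Cfsg.Agent.Lib.helper6.dvd_ncard_of_invariant (Q := D.Q x) (Nat.card (D.Q x)) _
    (orbit H x \ {x}) (hfin.subset Set.sdiff_subset) rfl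
  · rintro u z ⟨hz, hzx⟩
    refine ⟨?_, ?_⟩
    · obtain ⟨g, rfl⟩ := hz
      exact ⟨(u : H) * g, by simp [mul_smul]; rfl⟩
    · intro h
      apply hzx
      have h1 : (u : H) • z = x := h
      have h2 : (u : H) • x = x := D.Q_fix u.2
      have h3 := h1.trans h2.symm
      exact MulAction.injective _ h3
  · rintro z ⟨hz, hzx⟩
    have h1 := Cfsg.Agent.Lib.helper6.ncard_orbit_mul_card_stabilizer (Q := D.Q x) z
    have h2 : stabilizer (D.Q x) z = ⊥ := by
      rw [Subgroup.eq_bot_iff_forall]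
      intro u hu
      have h3 : (u : H) • z = z := mem_stabilizer_iff.mp hu
      exact Subtype.ext (D.Q_eq_one_of_fix u.2 h3 hzx)
    rw [h2, Subgroup.card_bot, mul_one] at h1
    exact h1

end DAct

end Cfsg.Agent.Lib.helper6.Dickson
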