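import Mathlib
import Cfsg.Agent.Lib.helper6.DicksonD

set_option autoImplicit false

namespace Cfsg.Agent.Lib.helper6.Dickson

open MulAction

variable {H X : Type*} [Group H] [MulAction H X]

namespace DAct

variable {p : ℕ} (D : DAct H X p)
include D

variable [Fintype H] [DecidableEq H] [DecidableEq X]

theorem two_le_card_stab {x : X} (hx : x ∈ D.Ω) : 2 ≤ Nat.card (stabilizer H x) := by
  obtain ⟨h, h1, hh⟩ := D.mem_Ω.mp hx
  have hne : stabilizer H x ≠ ⊥ := by
    intro hb
    have : h ∈ stabilizer H x := mem_stabilizer_iff.mpr hh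
    rw [hb, Subgroup.mem_bot] at this
    exact h1 this
  have h2 : Nat.card (stabilizer H x) ≠ 1 := fun h => hne (Subgroup.card_eq_one.mp h)
  have h3 : 0 < Nat.card (stabilizer H x) := Nat.card_pos
  omega

theorem card_Q_dvd_stab (x : X) : Nat.card (D.Q x) ∣ Nat.card (stabilizer H x) :=
  Subgroup.card_dvd_of_le (D.Q_le_stab x)

theorem nn_eq_ncard {r : X} (hr : r ∈ D.R) : D.nn r = (orbit H r).ncard := by
  obtain ⟨h1, h2⟩ := D.mem_R.mp hr
  have e1 : (↑(D.Ω.filter (fun x => rep H x = r)) : Set X) = orbit H r := by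
    ext x
    rw [Finset.coe_filter, Set.mem_ofPred_eq, rep_eq_iff h2]
    constructor
    · exact fun h => h.2
    · rintro ⟨g, rfl⟩
      exact ⟨D.smul_mem_Ω h1 g, ⟨g, rfl⟩⟩
  rw [← e1, Set.ncard_coe_finset]; rfl

/-- the numerical data attached to an orbit representative -/
theorem numerics {r : X} (hr : r ∈ D.R) : ∃ a T : ℕ,
    T = D.nn r * ((Nat.card (stabilizer H r) - 1) + (Nat.card (D.Q r) - 1)) ∧
    a = D.nn r * Nat.card (D.Q r) ∧ 1 ≤ D.nn r ∧ 2 * D.nn r ≤ Fintype.card H ∧ D.nn r ≤ a ∧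
    a ≤ Fintype.card H ∧ T + 2 * D.nn r = Fintype.card H + a ∧
    (Nat.card (D.Q r) = 1 ∨ 2 * D.nn r ≤ a) ∧ 1 ≤ Nat.card (D.Q r) := by
  obtain ⟨h1, h2⟩ := D.mem_R.mp hr
  have hmul := D.nn_mul hr
  have he := D.two_le_card_stab h1
  have hq : 0 < Nat.card (D.Q r) := Nat.card_pos
  have hqe := Nat.le_of_dvd (by omega) (D.card_Q_dvd_stab r)
  have hg : 0 < Fintype.card H := Fintype.card_pos
  obtain ⟨n, hn⟩ : ∃ n, n = D.nn r := ⟨_, rfl⟩
  obtain ⟨e, hee⟩ : ∃ e, e = Nat.card (stabilizer H r) := ⟨_, rfl⟩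
  obtain ⟨q, hqq⟩ : ∃ q, q = Nat.card (D.Q r) := ⟨_, rfl⟩
  rw [← hn, ← hee] at hmul
  rw [← hee] at he hqe
  rw [← hqq] at hq hqe
  rw [← hn, ← hee, ← hqq]
  refine ⟨_, _, rfl, rfl, ?_, ?_, ?_, ?_, ?_, ?_, hq⟩
  · rcases Nat.eq_zero_or_pos n with h | h
    · rw [h, zero_mul] at hmul; omega
    · exact h
  · calc 2 * n = n * 2 := by ring
      _ ≤ n * e := Nat.mul_le_mul_left n he
      _ = _ := hmul
  · calc n = n * 1 := by ring
      _ ≤ n * q := Nat.mul_le_mul_left n hq
  · rw [← hmul]; exact Nat.mul_le_mul_left n hqe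
  · obtain ⟨e', rfl⟩ : ∃ e', e = e' + 1 := ⟨e - 1, by omega⟩
    obtain ⟨q', rfl⟩ : ∃ q', q = q' + 1 := ⟨q - 1, by omega⟩
    rw [← hmul]
    simp only [Nat.add_sub_cancel]
    ring
  · rcases Nat.lt_or_ge q 2 with h | h
    · left; omega
    · right
      calc 2 * n = n * 2 := by ring
        _ ≤ n * q := Nat.mul_le_mul_left n h


theorem card_R_le : D.R.card ≤ 3 := by
  have hg : 0 < Fintype.card H := Fintype.card_pos
  have hsum := D.count_orbits
  have hle : D.R.card • Fintype.card H ≤ ∑ r ∈ D.R, 2 * (D.nn r *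
      ((Nat.card (stabilizer H r) - 1) + (Nat.card (D.Q r) - 1))) := by
    apply Finset.card_nsmul_le_sum
    intro r hr
    obtain ⟨a, T, hT, ha, h1, h2, h3, h4, h5, h6, h7⟩ := D.numerics hr
    rw [← hT]
    omega
  rw [← Finset.mul_sum, hsum, smul_eq_mul] at hle
  by_contra hc
  push Not at hc
  have : 4 * Fintype.card H ≤ D.R.card * Fintype.card H := Nat.mul_le_mul_right _ hc
  omega

/-- first level of the case analysis -/
theorem first_level :
    Fintype.card H = 1 ∨
    (∃ r ∈ D.R, D.nn r = 1 ∧ Nat.card (D.Q r) ≠ 1) ∨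
    (∃ r ∈ D.R, ∃ s ∈ D.R, r ≠ s ∧ D.nn r = 1 ∧ D.nn s = 1) ∨
    (∃ r ∈ D.R, ∃ s ∈ D.R, r ≠ s ∧ D.R = {r, s} ∧ Nat.card (D.Q r) ≠ 1 ∧ Nat.card (D.Q s) = 1 ∧
      2 ≤ D.nn r ∧ D.nn s + 2 * D.nn r = D.nn r * Nat.card (D.Q r) + 2) ∨
    (∃ r ∈ D.R, ∃ s ∈ D.R, ∃ t ∈ D.R, r ≠ s ∧ r ≠ t ∧ s ≠ t ∧ D.R = {r, s, t} ∧
      Nat.card (D.Q r) = 1 ∧ Nat.card (D.Q s) = 1 ∧ Nat.card (D.Q t) = 1 ∧
      D.nn r + D.nn s + D.nn t = Fintype.card H + 2) := by
  have hg : 0 < Fintype.card H := Fintype.card_pos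
  have hsum := D.count_orbits
  have hcard := D.card_R_le
  obtain ⟨c, hc⟩ : ∃ c, c = D.R.card := ⟨_, rfl⟩
  rw [← hc] at hcard
  interval_cases c
  · -- empty
    left
    have : D.R = ∅ := Finset.card_eq_zero.mp hc.symm
    rw [this, Finset.sum_empty] at hsum
    omega
  · -- one orbit
    obtain ⟨r, hr⟩ := Finset.card_eq_one.mp hc.symm
    have hrR : r ∈ D.R := by rw [hr]; exact Finset.mem_singleton_self r
    rw [hr, Finset.sum_singleton] at hsum
    obtain ⟨a, T, hT, ha, h1, h2, h3, h4, h5, h6, h7⟩ := D.numerics hrR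
    rw [← hT] at hsum
    right; left
    refine ⟨r, hrR, ?_, ?_⟩
    · omega
    · intro hq
      rw [hq, mul_one] at ha
      omega
  · -- two orbits
    obtain ⟨r, s, hrs, hR⟩ := Finset.card_eq_two.mp hc.symm
    have hrR : r ∈ D.R := by rw [hR]; simp
    have hsR : s ∈ D.R := by rw [hR]; simp
    rw [hR, Finset.sum_pair hrs] at hsum
    obtain ⟨a, T, hT, ha, h1, h2, h3, h4, h5, h6, h7⟩ := D.numerics hrR
    obtain ⟨a', T', hT', ha', h1', h2', h3', h4', h5', h6', h7'⟩ := D.numerics hsR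
    rw [← hT, ← hT'] at hsum
    by_cases hq : Nat.card (D.Q r) = 1
    · by_cases hq' : Nat.card (D.Q s) = 1
      · right; right; left
        rw [hq, mul_one] at ha
        rw [hq', mul_one] at ha'
        exact ⟨r, hrR, s, hsR, hrs, by omega, by omega⟩
      · rw [hq, mul_one] at ha
        have h8 : 2 * D.nn s ≤ a' := by
          rcases h6' with h | h
          · exact absurd h hq'
          · exact h
        by_cases hn1 : D.nn s = 1
        · right; left
          exact ⟨s, hsR, hn1, hq'⟩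
        · right; right; right; left
          refine ⟨s, hsR, r, hrR, Ne.symm hrs, ?_, hq', hq, by omega, ?_⟩
          · rw [hR]; exact Finset.pair_comm r s
          · rw [← ha']; omega
    · have h8 : 2 * D.nn r ≤ a := by
        rcases h6 with h | h
        · exact absurd h hq
        · exact h
      by_cases hq' : Nat.card (D.Q s) = 1
      · rw [hq', mul_one] at ha'
        by_cases hn1 : D.nn r = 1
        · right; left
          exact ⟨r, hrR, hn1, hq⟩
        · right; right; right; left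
          refine ⟨r, hrR, s, hsR, hrs, hR, hq, hq', by omega, ?_⟩
          rw [← ha]; omega
      · exfalso
        have h8' : 2 * D.nn s ≤ a' := by
          rcases h6' with h | h
          · exact absurd h hq'
          · exact h
        omega
  · -- three orbits
    obtain ⟨r, s, t, hrs, hrt, hst, hR⟩ := Finset.card_eq_three.mp hc.symm
    have hrR : r ∈ D.R := by rw [hR]; simp
    have hsR : s ∈ D.R := by rw [hR]; simp
    have htR : t ∈ D.R := by rw [hR]; simp
    have hsum3 : ∑ x ∈ ({r, s, t} : Finset X), D.nn x *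
        ((Nat.card (stabilizer H x) - 1) + (Nat.card (D.Q x) - 1)) =
        D.nn r * ((Nat.card (stabilizer H r) - 1) + (Nat.card (D.Q r) - 1)) +
        (D.nn s * ((Nat.card (stabilizer H s) - 1) + (Nat.card (D.Q s) - 1)) +
        D.nn t * ((Nat.card (stabilizer H t) - 1) + (Nat.card (D.Q t) - 1))) := by
      rw [Finset.sum_insert, Finset.sum_pair hst]
      simp only [Finset.mem_insert, Finset.mem_singleton, not_or]
      exact ⟨hrs, hrt⟩
    rw [hR, hsum3] at hsum
    obtain ⟨a, T, hT, ha, h1, h2, h3, h4, h5, h6, h7⟩ := D.numerics hrR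
    obtain ⟨a', T', hT', ha', h1', h2', h3', h4', h5', h6', h7'⟩ := D.numerics hsR
    obtain ⟨a'', T'', hT'', ha'', h1'', h2'', h3'', h4'', h5'', h6'', h7''⟩ := D.numerics htR
    rw [← hT, ← hT', ← hT''] at hsum
    right; right; right; right
    have hq : Nat.card (D.Q r) = 1 := by
      rcases h6 with h | h
      · exact h
      · exfalso; omega
    have hq' : Nat.card (D.Q s) = 1 := by
      rcases h6' with h | h
      · exact h
      · exfalso; omega
    have hq'' : Nat.card (D.Q t) = 1 := by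
      rcases h6'' with h | h
      · exact h
      · exfalso; omega
    rw [hq, mul_one] at ha
    rw [hq', mul_one] at ha'
    rw [hq'', mul_one] at ha''
    exact ⟨r, hrR, s, hsR, t, htR, hrs, hrt, hst, hR, hq, hq', hq'', by omega⟩

end DAct

end Cfsg.Agent.Lib.helper6.Dickson
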