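import Mathlib
import Cfsg.Agent.Lib.helper6.DicksonE
import Cfsg.Agent.Lib.Helper21.PByCyc

set_option autoImplicit false

namespace Cfsg.Agent.Lib.helper6.Dickson

open MulAction

variable {H X : Type*} [Group H] [MulAction H X]

namespace DAct

variable {p : ℕ} (D : DAct H X p)
include D

/-- an orbit contained in the fixed points of a non-identity element has at most two points -/
theorem orbit_small [Finite H] {z : H} (hz1 : z ≠ 1) {w : X}
    (hall : ∀ g : H, z • (g • w) = g • w) : Nat.card H ≤ 2 * Nat.card (stabilizer H w) := by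
  have hfin : (orbit H w).Finite := Set.finite_range _
  have hle : (orbit H w).ncard ≤ 2 := by
    by_contra hc
    push Not at hc
    obtain ⟨a, b, c, ha, hb, hc', hab, hac, hbc⟩ := (Set.two_lt_ncard_iff hfin).mp hc
    obtain ⟨ga, rfl⟩ := ha
    obtain ⟨gb, rfl⟩ := hb
    obtain ⟨gc, rfl⟩ := hc'
    rcases D.fix_le_two z hz1 _ _ _ (hall ga) (hall gb) (hall gc) with h | h | h
    · exact hab h
    · exact hbc h
    · exact hac h
  have := Cfsg.Agent.Lib.helper6.ncard_orbit_mul_card_stabilizer (Q := H) w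
  rw [← this]
  exact Nat.mul_le_mul_right _ hle

/-- small stabilisers: no non-trivial cyclic normal subgroup -/
theorem no_normal_cyclic [Finite H]
    (hsmall : ∀ x : X, 2 * Nat.card (stabilizer H x) < Nat.card H) :
    ∀ z : H, z ≠ 1 → ¬ (Subgroup.zpowers z).Normal := by
  intro z hz1 hn
  obtain ⟨w, hw⟩ := D.fix_exists z
  have hall : ∀ g : H, z • (g • w) = g • w := by
    intro g
    have h1 : g⁻¹ * z * g⁻¹⁻¹ ∈ Subgroup.zpowers z := hn.conj_mem z (Subgroup.mem_zpowers z) g⁻¹
    obtain ⟨k, hk⟩ := Subgroup.mem_zpowers_iff.mp h1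
    have h2 : (g⁻¹ * z * g⁻¹⁻¹) • w = w := by
      rw [← hk]
      have : z ∈ stabilizer H w := mem_stabilizer_iff.mpr hw
      exact mem_stabilizer_iff.mp ((stabilizer H w).zpow_mem this k)
    have h3 : z = g * (g⁻¹ * z * g⁻¹⁻¹) * g⁻¹ := by group
    rw [h3, mul_smul, mul_smul, inv_smul_smul, h2]
  have := D.orbit_small hz1 hall
  have h4 := hsmall w
  omega

/-- a fixed point of the whole group: orbit length one -/
theorem fixes_of_card_stab [Finite H] {r : X} (h : Nat.card (stabilizer H r) = Nat.card H) :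
    ∀ g : H, g • r = r := by
  have h1 : stabilizer H r = ⊤ := (Subgroup.card_eq_iff_eq_top (stabilizer H r)).mp h
  intro g
  have : g ∈ stabilizer H r := by rw [h1]; exact Subgroup.mem_top g
  exact mem_stabilizer_iff.mp this

/-- two global fixed points: the group is cyclic of order prime to `p` -/
theorem cyclic_of_two_fixed [Finite H] [Fact p.Prime] {r s : X} (hrs : r ≠ s)
    (hr : ∀ g : H, g • r = r) (hs : ∀ g : H, g • s = s) :
    IsCyclic H ∧ (Nat.card H).Coprime p := by
  have htop : (stabilizer H r ⊓ stabilizer H s : Subgroup H) = ⊤ := by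
    rw [eq_top_iff]
    intro g _
    exact Subgroup.mem_inf.mpr ⟨mem_stabilizer_iff.mpr (hr g), mem_stabilizer_iff.mpr (hs g)⟩
  have h1 := D.two_cyc r s hrs
  have h2 := D.coprime_inf (H := H) hrs
  rw [htop] at h1 h2
  refine ⟨?_, ?_⟩
  · exact isCyclic_of_surjective (Subgroup.topEquiv : (⊤ : Subgroup H) ≃* H)
      (Subgroup.topEquiv : (⊤ : Subgroup H) ≃* H).surjective
  · rwa [Subgroup.card_top] at h2

/-- an orbit of length two with trivial parabolic part: the group is dihedral -/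
theorem dihedral_of_index_two [Finite H] [Fact p.Prime] {t : X} (hQ : D.Q t = ⊥)
    (hidx : (stabilizer H t).index = 2) (hne : stabilizer H t ≠ ⊥) :
    ∃ s₀ : H, Nonempty (H ≃* DihedralGroup (orderOf s₀)) ∧ (orderOf s₀).Coprime p ∧
      orderOf s₀ = Nat.card (stabilizer H t) := by
  obtain ⟨t', ht't, hN⟩ := D.stab_eq_inf_of_Q_bot hQ hne
  have hNt' : ∀ n : H, n • t = t → n • t' = t' := by
    intro n hn
    have h1 : n ∈ stabilizer H t := mem_stabilizer_iff.mpr hn
    rw [hN] at h1
    exact mem_stabilizer_iff.mp (Subgroup.mem_inf.mp h1).2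
  haveI hcyc : IsCyclic (stabilizer H t) := D.isCyclic_stab_of_Q_bot hQ
  obtain ⟨s₁, hs₁⟩ := (Subgroup.isCyclic_iff_exists_zpowers_eq_top (stabilizer H t)).mp hcyc
  have hord : orderOf s₁ = Nat.card (stabilizer H t) := by rw [← Nat.card_zpowers, hs₁]
  have hs1 : s₁ ≠ 1 := by
    intro h
    rw [h, Subgroup.zpowers_one_eq_bot] at hs₁
    exact hne hs₁.symm
  have hst : s₁ • t = t := by
    have : s₁ ∈ stabilizer H t := by rw [← hs₁]; exact Subgroup.mem_zpowers s₁
    exact mem_stabilizer_iff.mp this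
  have hst' : s₁ • t' = t' := hNt' s₁ hst
  haveI hnorm : (stabilizer H t).Normal := Subgroup.normal_of_index_eq_two hidx
  -- elements outside the stabiliser are involutions
  have hinvol : ∀ g : H, g • t ≠ t → g * g = 1 := by
    intro g hg
    have hconj : ∀ y : X, s₁ • y = y → (g * s₁ * g⁻¹) • (g • y) = g • y := by
      intro y hy
      rw [mul_smul, mul_smul, inv_smul_smul, hy]
    have hgs : (g * s₁ * g⁻¹) • t = t :=
      mem_stabilizer_iff.mp (hnorm.conj_mem s₁ (mem_stabilizer_iff.mpr hst) g)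
    have hgs' : (g * s₁ * g⁻¹) • t' = t' := hNt' _ hgs
    have hgs1 : g * s₁ * g⁻¹ ≠ 1 := by
      intro hc
      apply hs1
      calc s₁ = g⁻¹ * (g * s₁ * g⁻¹) * g := by group
        _ = 1 := by rw [hc]; group
    have h1 : g • t = t' := by
      rcases D.fix_eq_of_two hgs1 (Ne.symm ht't) hgs hgs' (hconj t hst) with h | h
      · exact absurd h hg
      · exact h
    have h2 : g • t' = t := by
      rcases D.fix_eq_of_two hgs1 (Ne.symm ht't) hgs hgs' (hconj t' hst') with h | h
      · exact h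
      · exfalso
        have := h.trans h1.symm
        exact ht't (MulAction.injective g this)
    obtain ⟨w, hw⟩ := D.fix_exists g
    have hwt : w ≠ t := by
      rintro rfl; exact hg hw
    have hwt' : w ≠ t' := by
      rintro rfl
      rw [h2] at hw
      exact ht't hw.symm
    by_contra hgg
    have f1 : (g * g) • t = t := by rw [mul_smul, h1, h2]
    have f2 : (g * g) • t' = t' := by rw [mul_smul, h2, h1]
    have f3 : (g * g) • w = w := by rw [mul_smul, hw, hw]
    rcases D.fix_eq_of_two hgg (Ne.symm ht't) f1 f2 f3 with h | h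
    · exact hwt h
    · exact hwt' h
  -- an element outside
  obtain ⟨c₀, hc₀⟩ : ∃ c₀ : H, c₀ ∉ stabilizer H t := by
    by_contra hc
    push Not at hc
    have : stabilizer H t = ⊤ := by
      rw [eq_top_iff]; intro g _; exact hc g
    rw [this, Subgroup.index_top] at hidx
    omega
  have hc₀t : c₀ • t ≠ t := fun h => hc₀ (mem_stabilizer_iff.mpr h)
  have hcc : c₀ * c₀ = 1 := hinvol c₀ hc₀t
  have hc1 : c₀ ≠ 1 := by
    rintro rfl
    exact hc₀ (Subgroup.one_mem _)
  have hc2 : orderOf c₀ = 2 := orderOf_eq_prime (by rw [pow_two]; exact hcc) hc1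
  have hci : c₀⁻¹ = c₀ := inv_eq_of_mul_eq_one_left hcc
  obtain ⟨s₀, hs₀⟩ : ∃ s₀ : H, s₀ = s₁ := ⟨_, rfl⟩
  have hs₀N : s₀ ∈ stabilizer H t := by rw [hs₀]; exact mem_stabilizer_iff.mpr hst
  have hzp : Subgroup.zpowers s₀ = stabilizer H t := by rw [hs₀]; exact hs₁
  have hord₀ : orderOf s₀ = Nat.card (stabilizer H t) := by rw [hs₀]; exact hord
  have hcs : (c₀ * s₀) * (c₀ * s₀) = 1 := by
    apply hinvol
    intro h
    apply hc₀
    have h1 : c₀ * s₀ ∈ stabilizer H t := mem_stabilizer_iff.mpr h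
    have h2 : c₀ = (c₀ * s₀) * s₀⁻¹ := by group
    rw [h2]
    exact (stabilizer H t).mul_mem h1 ((stabilizer H t).inv_mem hs₀N)
  have hinv : c₀ * s₀ * c₀⁻¹ = s₀⁻¹ := by
    rw [hci]
    calc c₀ * s₀ * c₀ = ((c₀ * s₀) * (c₀ * s₀)) * s₀⁻¹ := by group
      _ = s₀⁻¹ := by rw [hcs, one_mul]
  have hmeet : Subgroup.zpowers s₀ ⊓ Subgroup.zpowers c₀ = ⊥ := by
    rw [Subgroup.eq_bot_iff_forall]
    intro x hx
    obtain ⟨hx1, hx2⟩ := Subgroup.mem_inf.mp hx
    obtain ⟨k, hk⟩ := Subgroup.mem_zpowers_iff.mp hx2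
    rw [← zpow_mod_orderOf, hc2] at hk
    have h01 : (k % ((2 : ℕ) : ℤ)) = 0 ∨ (k % ((2 : ℕ) : ℤ)) = 1 := Int.emod_two_eq_zero_or_one k
    rcases h01 with h | h
    · rw [h, zpow_zero] at hk
      exact hk.symm
    · exfalso
      rw [h, zpow_one] at hk
      rw [← hk, hzp] at hx1
      exact hc₀ hx1
  have hgen : Subgroup.zpowers s₀ ⊔ Subgroup.zpowers c₀ = ⊤ := by
    rw [eq_top_iff]
    intro g _
    by_cases hg : g ∈ stabilizer H t
    · apply Subgroup.mem_sup_left
      rw [hzp]; exact hg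
    · have h1 : c₀⁻¹ * g ∈ stabilizer H t := by
        rw [Subgroup.mul_mem_iff_of_index_two hidx, inv_mem_iff]
        exact ⟨fun h => absurd h hc₀, fun h => absurd h hg⟩
      have h2 : g = c₀ * (c₀⁻¹ * g) := by group
      rw [h2]
      apply Subgroup.mul_mem
      · exact Subgroup.mem_sup_right (Subgroup.mem_zpowers c₀)
      · apply Subgroup.mem_sup_left
        rw [hzp]; exact h1
  refine ⟨s₀, Cfsg.Agent.Lib.Helper21.PByCyc.dihedral_of_invert s₀ c₀ hc2 hinv hmeet hgen, ?_, hord₀⟩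
  rw [hord₀]
  exact D.coprime_stab_of_Q_bot hQ

end DAct

end Cfsg.Agent.Lib.helper6.Dickson
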