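import Mathlib
import Cfsg.Agent.Lib.helper6.Sharp3

set_option autoImplicit false

open OnePoint

namespace Cfsg.Agent.Lib.helper6.Sharp3C

open Cfsg.Agent.Lib.helper6.MoebiusRecog Cfsg.Agent.Lib.helper6.Sharp3

/-- an involutory multiplicative map satisfying the Moebius functional equation is inversion -/
theorem sigma_inv {F : Type*} [Field F] (h2 : (2 : F) ≠ 0) (σ : F → F)
    (hσne : ∀ x : F, x ≠ 0 → σ x ≠ 0)
    (hσmul : ∀ m x : F, m ≠ 0 → x ≠ 0 → σ (m * x) = σ m * σ x)
    (hσ1 : σ 1 = 1) (hσneg : σ (-1) = -1)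
    (hσσ : ∀ x : F, x ≠ 0 → σ (σ x) = x)
    (hFE : ∀ x : F, x ≠ 0 → x + 1 ≠ 0 → σ (σ x + 1) = 1 - σ (x + 1)) :
    ∀ y : F, y ≠ 0 → σ y = y⁻¹ := by
  have hσinj : ∀ x y : F, x ≠ 0 → y ≠ 0 → σ x = σ y → x = y := by
    intro x y hx hy h
    rw [← hσσ x hx, ← hσσ y hy, h]
  have hσinv : ∀ x : F, x ≠ 0 → σ x⁻¹ = (σ x)⁻¹ := by
    intro x hx
    have h1 := hσmul x x⁻¹ hx (inv_ne_zero hx)
    rw [mul_inv_cancel₀ hx, hσ1] at h1
    exact eq_inv_of_mul_eq_one_right h1.symm
  have hm1 : (-1 : F) ≠ 0 := by simp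
  -- equation (I)
  have hI : ∀ x : F, x ≠ 0 → x + 1 ≠ 0 →
      x * (σ x - σ (x + 1)) = σ x * (1 - σ (x + 1)) := by
    intro x hx hx1
    have ha : σ x ≠ 0 := hσne x hx
    have hxi : x⁻¹ ≠ 0 := inv_ne_zero hx
    have hxi1 : x⁻¹ + 1 ≠ 0 := by
      intro h
      apply hx1
      have : x⁻¹ = -1 := eq_neg_of_add_eq_zero_left h
      have h3 : x = -1 := by
        rw [← inv_inv x, this]; norm_num
      rw [h3]; ring
    have ha1 : (σ x)⁻¹ + 1 ≠ 0 := by
      intro h
      have h3 : (σ x)⁻¹ = -1 := eq_neg_of_add_eq_zero_left h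
      have h4 : σ x = -1 := by rw [← inv_inv (σ x), h3]; norm_num
      have h5 : x = -1 := hσinj x (-1) hx hm1 (h4.trans hσneg.symm)
      apply hx1
      rw [h5]; ring
    have e1 := hFE x⁻¹ hxi hxi1
    rw [hσinv x hx] at e1
    have e2 : x⁻¹ + 1 = (x + 1) * x⁻¹ := by
      rw [add_mul, mul_inv_cancel₀ hx, one_mul, add_comm]
    rw [e2, hσmul _ _ hx1 hxi, hσinv x hx] at e1
    have e3 : σ x + 1 = σ x * ((σ x)⁻¹ + 1) := by
      rw [mul_add, mul_inv_cancel₀ ha, mul_one, add_comm]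
    have e4 := hFE x hx hx1
    rw [e3, hσmul _ _ ha ha1, hσσ x hx, e1] at e4
    -- e4 : x * (1 - σ (x+1) * (σ x)⁻¹) = 1 - σ (x+1)
    have e5 : x * (σ x - σ (x + 1)) = σ x * (x * (1 - σ (x + 1) * (σ x)⁻¹)) := by
      field_simp
    rw [e5, e4]
  intro y hy
  by_cases hy1 : y = 1
  · rw [hy1, hσ1, inv_one]
  · obtain ⟨x, hx⟩ : ∃ x : F, x = y - 1 := ⟨_, rfl⟩
    have hx0 : x ≠ 0 := by
      rw [hx]; exact sub_ne_zero.mpr hy1
    have hxy : x + 1 = y := by rw [hx]; ring
    have hx1 : x + 1 ≠ 0 := by rw [hxy]; exact hy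
    have E1 := hI x hx0 hx1
    have hx' : -(x + 1) ≠ 0 := neg_ne_zero.mpr hx1
    have hx'1 : -(x + 1) + 1 ≠ 0 := by
      have : -(x + 1) + 1 = -x := by ring
      rw [this]; exact neg_ne_zero.mpr hx0
    have E2 := hI (-(x + 1)) hx' hx'1
    have e1 : σ (-(x + 1)) = -σ (x + 1) := by
      have : -(x + 1) = (-1) * (x + 1) := by ring
      rw [this, hσmul _ _ hm1 hx1, hσneg]; ring
    have e2 : σ (-(x + 1) + 1) = -σ x := by
      have : -(x + 1) + 1 = (-1) * x := by ring
      rw [this, hσmul _ _ hm1 hx0, hσneg]; ring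
    rw [e1, e2] at E2
    rw [hxy] at E1 E2
    set a := σ x with ha
    set b := σ y with hb
    have ha0 : a ≠ 0 := hσne x hx0
    have E3 : 2 * (a - b - a * b) = 0 := by linear_combination (-1 : F) * E1 + (-1 : F) * E2 + (a - b) * hxy
    have E4 : a - b - a * b = 0 := by
      rcases mul_eq_zero.mp E3 with h | h
      · exact absurd h h2
      · exact h
    have E5 : a * (b * y - 1) = 0 := by
      linear_combination E1 + (-x) * E4 + (-(a * b)) * hxy
    have E6 : b * y - 1 = 0 := by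
      rcases mul_eq_zero.mp E5 with h | h
      · exact absurd h ha0
      · exact h
    exact eq_inv_of_mul_eq_one_left (sub_eq_zero.mp E6)

variable {G α : Type*} [Group G] [MulAction G α]

open Cfsg.Agent.Lib.Helper9 in
/-- A sharply 3-transitive group whose two-point stabilisers are commutative is `PGL₂(F)`. -/
theorem sharp3_comm [Fintype α] [FaithfulSMul G α]
    (T3 : ∀ a b c a' b' c' : α, a ≠ b → b ≠ c → a ≠ c → a' ≠ b' → b' ≠ c' → a' ≠ c' →
      ∃ g : G, g • a = a' ∧ g • b = b' ∧ g • c = c')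
    (S3 : ∀ g : G, ∀ a b c : α, a ≠ b → b ≠ c → a ≠ c → g • a = a → g • b = b → g • c = c → g = 1)
    {pinf p0 p1 : α} (h01 : p0 ≠ p1) (hi0 : pinf ≠ p0) (hi1 : pinf ≠ p1)
    (hHcomm : ∀ h k : G, h • pinf = pinf → h • p0 = p0 → k • pinf = pinf → k • p0 = p0 →
      h * k = k * h) :
    ∃ (F : Type) (_ : Field F) (_ : Fintype F), Fintype.card F + 1 = Fintype.card α ∧
      Nonempty (G ≃* Matrix.ProjGenLinGroup (Fin 2) F) := by
  classical
  rcases Nat.even_or_odd (Fintype.card α) with heven | hodd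
  swap
  · exact sharp3_odd hodd T3 S3 h01 hi0 hi1
  haveI : Finite G := Finite.of_injective (MulAction.toPerm : G → Equiv.Perm α)
    MulAction.toPerm_injective
  obtain ⟨KG, kfix, kfpf, ktr, knorm, kcomm⟩ := kernel_data3 T3 S3 h01 hi0 hi1
  have kreg : ∀ k ∈ KG, ∀ k' ∈ KG, ∀ x : α, x ≠ pinf → k • x = k' • x → k = k' := by
    intro k hk k' hk' x hx hkk
    have h1 : (k'⁻¹ * k) • x = x := by rw [mul_smul, hkk, inv_smul_smul]
    by_contra hne
    have h2 : k'⁻¹ * k ≠ 1 := by
      intro h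
      apply hne
      have : k = k' * (k'⁻¹ * k) := by group
      rw [this, h, mul_one]
    exact kfpf _ (KG.mul_mem (KG.inv_mem hk') hk) h2 x hx h1
  -- H
  let H : Subgroup G := MulAction.stabilizer G pinf ⊓ MulAction.stabilizer G p0
  have hHmem : ∀ h : G, h ∈ H ↔ h • pinf = pinf ∧ h • p0 = p0 := by
    intro h
    simp only [H, Subgroup.mem_inf, MulAction.mem_stabilizer_iff]
  have hHtr : ∀ x y : α, x ≠ pinf → x ≠ p0 → y ≠ pinf → y ≠ p0 → ∃ h ∈ H, h • x = y := by
    intro x y hx1 hx2 hy1 hy2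
    obtain ⟨g, hg1, hg2, hg3⟩ := T3 pinf p0 x pinf p0 y hi0 (Ne.symm hx2) (Ne.symm hx1) hi0
      (Ne.symm hy2) (Ne.symm hy1)
    exact ⟨g, (hHmem g).mpr ⟨hg1, hg2⟩, hg3⟩
  have hHreg : ∀ h ∈ H, ∀ x : α, x ≠ pinf → x ≠ p0 → h • x = x → h = 1 := by
    intro h hh x hx1 hx2 hhx
    obtain ⟨h1, h2⟩ := (hHmem h).mp hh
    exact S3 h pinf p0 x hi0 (Ne.symm hx2) (Ne.symm hx1) h1 h2 hhx
  have hHcomm' : ∀ h ∈ H, ∀ k ∈ H, h * k = k * h := by
    intro h hh k hk
    obtain ⟨h1, h2⟩ := (hHmem h).mp hh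
    obtain ⟨k1, k2⟩ := (hHmem k).mp hk
    exact hHcomm h k h1 h2 k1 k2
  -- s
  obtain ⟨s, hsi, hs0, hs1⟩ := T3 pinf p0 p1 p0 pinf p1 hi0 h01 hi1 (Ne.symm hi0) hi1 h01
  have hss : s * s = 1 := by
    apply S3 (s * s) pinf p0 p1 hi0 h01 hi1
    · rw [mul_smul, hsi, hs0]
    · rw [mul_smul, hs0, hsi]
    · rw [mul_smul, hs1, hs1]
  have hsinv : s⁻¹ = s := by rw [inv_eq_iff_mul_eq_one]; exact hss
  have hsH : ∀ h ∈ H, s * h * s⁻¹ ∈ H := by
    intro h hh
    obtain ⟨h1, h2⟩ := (hHmem h).mp hh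
    rw [hHmem, hsinv]
    constructor
    · rw [mul_smul, mul_smul, hsi, h2, hs0]
    · rw [mul_smul, mul_smul, hs0, h1, hsi]
  -- field
  obtain ⟨e, heK, he0⟩ := ktr p0 p1 (Ne.symm hi0) (Ne.symm hi1)
  have he1 : e ≠ 1 := by
    intro h; rw [h, one_smul] at he0; exact h01 he0
  have hnorm : ∀ d ∈ H, ∀ a ∈ KG, d * a * d⁻¹ ∈ KG :=
    fun d hd a ha => knorm d ((hHmem d).mp hd).1 a ha
  have hreg : ∀ a ∈ KG, a ≠ 1 → ∃ d ∈ H, d * e * d⁻¹ = a := by
    intro a ha ha1
    have ha0 : a • p0 ≠ p0 := kfpf a ha ha1 p0 (Ne.symm hi0)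
    have hai : a • p0 ≠ pinf := by
      intro h
      have := h.trans (kfix a ha).symm
      exact hi0 (MulAction.injective a this).symm
    obtain ⟨d, hd, hd1⟩ := hHtr p1 (a • p0) (Ne.symm hi1) (Ne.symm h01) hai ha0
    refine ⟨d, hd, ?_⟩
    apply kreg _ (hnorm d hd e heK) _ ha p0 (Ne.symm hi0)
    have : d⁻¹ • p0 = p0 := by rw [inv_smul_eq_iff, ((hHmem d).mp hd).2]
    rw [mul_smul, mul_smul, this, he0, hd1]
  haveI : Finite ↥KG := inferInstance
  obtain ⟨F, instF, instFin, ι, δ, hιinj, hιsurj, hιK, hιadd, hι1, hδ⟩ :=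
    exists_field_of_regular KG H kcomm hHcomm' hnorm e heK he1 hreg
  have hι0 : ι 0 = 1 := by
    have := hιadd 0 0
    rw [add_zero] at this
    exact mul_left_cancel (a := ι 0) (by rw [mul_one]; exact this.symm)
  have hιi : ∀ x, ι x • pinf = pinf := fun x => kfix _ (hιK x)
  have hδH : ∀ m, m ≠ 0 → δ m • pinf = pinf ∧ δ m • p0 = p0 :=
    fun m hm => (hHmem _).mp (hδ m hm).1
  -- φ
  let φ : OnePoint F → α := fun p => match p with
    | ∞ => pinf
    | (x : F) => ι x • p0
  have hφi : φ ∞ = pinf := rfl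
  have hφc : ∀ x : F, φ (x : OnePoint F) = ι x • p0 := fun x => rfl
  have hφne : ∀ x : F, φ (x : OnePoint F) ≠ pinf := by
    intro x h
    rw [hφc] at h
    have := h.trans (hιi x).symm
    exact hi0 (MulAction.injective (ι x) this).symm
  have hφbij : Function.Bijective φ := by
    constructor
    · intro p q hpq
      cases p with
      | infty =>
        cases q with
        | infty => rfl
        | coe y => exact absurd hpq.symm (hφne y)
      | coe x =>
        cases q with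
        | infty => exact absurd hpq (hφne x)
        | coe y =>
          rw [hφc, hφc] at hpq
          have := kreg _ (hιK x) _ (hιK y) p0 (Ne.symm hi0) hpq
          rw [hιinj this]
    · intro y
      by_cases hy : y = pinf
      · exact ⟨∞, hy.symm⟩
      · obtain ⟨k, hk, hky⟩ := ktr p0 y (Ne.symm hi0) hy
        obtain ⟨x, hx⟩ := hιsurj k hk
        exact ⟨(x : OnePoint F), by rw [hφc, hx, hky]⟩
  have hφ0 : φ ((0 : F) : OnePoint F) = p0 := by rw [hφc, hι0, one_smul]
  have hφ1 : φ ((1 : F) : OnePoint F) = p1 := by rw [hφc, hι1, he0]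
  have hφinj : ∀ x y : F, φ (x : OnePoint F) = φ (y : OnePoint F) → x = y := by
    intro x y h
    have := @Function.Bijective.injective _ _ φ hφbij (x : OnePoint F) (y : OnePoint F) h
    exact OnePoint.coe_injective this
  have hδsmul : ∀ m : F, m ≠ 0 → ∀ x : F, δ m • φ (x : OnePoint F) = φ ((m * x : F) : OnePoint F) := by
    intro m hm x
    rw [hφc, hφc, (hδ m hm).2 x, mul_smul, mul_smul, inv_smul_eq_iff.mpr (hδH m hm).2.symm]
  have hιsmul : ∀ b x : F, ι b • φ (x : OnePoint F) = φ ((x + b : F) : OnePoint F) := by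
    intro b x
    rw [hφc, hφc, ← mul_smul, ← hιadd, add_comm]
  have hδinv : ∀ m : F, m ≠ 0 → δ m⁻¹ = (δ m)⁻¹ := by
    intro m hm
    have hm' : m⁻¹ ≠ 0 := inv_ne_zero hm
    have h1 : (δ m⁻¹ * δ m) • p1 = p1 := by
      rw [mul_smul, ← hφ1, hδsmul m hm, hδsmul _ hm', mul_one, inv_mul_cancel₀ hm]
    have h2 := hHreg _ (H.mul_mem (hδ _ hm').1 (hδ m hm).1) p1 (Ne.symm hi1) (Ne.symm h01) h1
    exact eq_inv_of_mul_eq_one_left h2
  -- σ
  have hσex : ∀ x : F, ∃ y : F, x ≠ 0 → (y ≠ 0 ∧ s • φ (x : OnePoint F) = φ (y : OnePoint F)) := by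
    intro x
    by_cases hx : x = 0
    · exact ⟨0, fun h => absurd hx h⟩
    · obtain ⟨q, hq⟩ := hφbij.2 (s • φ (x : OnePoint F))
      cases q with
      | infty =>
        exfalso
        rw [hφi, ← hs0] at hq
        have := MulAction.injective s hq
        rw [← hφ0] at this
        exact hx (hφinj _ _ this).symm
      | coe y =>
        refine ⟨y, fun _ => ⟨?_, hq.symm⟩⟩
        intro hy
        rw [hy, hφ0, ← hsi] at hq
        have := MulAction.injective s hq
        exact hφne x this.symm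
  choose σ hσ using hσex
  have hσne : ∀ x : F, x ≠ 0 → σ x ≠ 0 := fun x hx => (hσ x hx).1
  have hσs : ∀ x : F, x ≠ 0 → s • φ (x : OnePoint F) = φ (σ x : OnePoint F) := fun x hx => (hσ x hx).2
  have hσ1 : σ 1 = 1 := by
    apply hφinj
    rw [← hσs 1 one_ne_zero, hφ1, hs1]
  have hσinj : ∀ x y : F, x ≠ 0 → y ≠ 0 → σ x = σ y → x = y := by
    intro x y hx hy h
    apply hφinj
    apply MulAction.injective s
    show s • φ (x : OnePoint F) = s • φ (y : OnePoint F)
    rw [hσs x hx, hσs y hy, h]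
  have hkey : ∀ m : F, m ≠ 0 → s * δ m * s⁻¹ = δ (σ m) := by
    intro m hm
    have h1 : s * δ m * s⁻¹ ∈ H := hsH _ (hδ m hm).1
    have h2 : δ (σ m) ∈ H := (hδ _ (hσne m hm)).1
    have h3 : ((δ (σ m))⁻¹ * (s * δ m * s⁻¹)) • p1 = p1 := by
      rw [mul_smul, mul_smul, mul_smul, hsinv, hs1, inv_smul_eq_iff, ← hφ1,
        hδsmul m hm, hδsmul _ (hσne m hm), mul_one, mul_one, hσs m hm]
    have h4 := hHreg _ (H.mul_mem (H.inv_mem h2) h1) p1 (Ne.symm hi1) (Ne.symm h01) h3
    have : s * δ m * s⁻¹ = δ (σ m) * ((δ (σ m))⁻¹ * (s * δ m * s⁻¹)) := by group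
    rw [this, h4, mul_one]
  have hσmul : ∀ m x : F, m ≠ 0 → x ≠ 0 → σ (m * x) = σ m * σ x := by
    intro m x hm hx
    apply hφinj
    have h1 : s • φ ((m * x : F) : OnePoint F) = (s * δ m * s⁻¹) • (s • φ (x : OnePoint F)) := by
      rw [mul_smul, mul_smul, inv_smul_smul, hδsmul m hm]
    rw [← hσs _ (mul_ne_zero hm hx), h1, hkey m hm, hσs x hx, hδsmul _ (hσne m hm)]
  have hσinv : ∀ x : F, x ≠ 0 → σ x⁻¹ = (σ x)⁻¹ := by
    intro x hx
    have h1 := hσmul x x⁻¹ hx (inv_ne_zero hx)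
    rw [mul_inv_cancel₀ hx, hσ1] at h1
    exact eq_inv_of_mul_eq_one_right h1.symm
  have hσneg : σ (-1) = -1 := by
    by_cases h2 : (-1 : F) = 1
    · rw [h2, hσ1]
    · have hm1 : (-1 : F) ≠ 0 := by simp
      have h1 := hσmul (-1) (-1) hm1 hm1
      rw [neg_one_mul, neg_neg, hσ1] at h1
      have h3 : σ (-1) = 1 ∨ σ (-1) = -1 := by
        have : (σ (-1) - 1) * (σ (-1) + 1) = 0 := by ring_nf; rw [sq, ← h1]; ring
        rcases mul_eq_zero.mp this with h | h
        · left; exact sub_eq_zero.mp h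
        · right; exact eq_neg_of_add_eq_zero_left h
      rcases h3 with h | h
      · exfalso
        apply h2
        exact hσinj _ _ hm1 one_ne_zero (h.trans hσ1.symm)
      · exact h
  -- the basic relation
  have hm1' : (-1 : F) ≠ 0 := by simp
  have hrel : s * ι 1 * s = ι 1 * δ (-1) * s * ι 1 := by
    have hd := hδH (-1) hm1'
    have hpm : φ ((-1 : F) : OnePoint F) ≠ p0 := by
      rw [← hφ0]
      intro h
      exact hm1' (hφinj _ _ h)
    have hg : ((ι 1 * δ (-1) * s * ι 1)⁻¹ * (s * ι 1 * s)) = 1 := by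
      apply S3 _ pinf p0 (φ ((-1 : F) : OnePoint F)) hi0 (Ne.symm hpm) (Ne.symm (hφne _))
      · rw [mul_smul, inv_smul_eq_iff, mul_smul, mul_smul, hsi, ← hφ0, hιsmul, zero_add, hφ1,
          hs1, mul_smul, mul_smul, mul_smul, hιi, hsi, hd.2, ← hφ0, hιsmul, zero_add, hφ1]
      · rw [mul_smul, inv_smul_eq_iff, mul_smul, mul_smul, hs0, hιi, hsi, mul_smul, mul_smul,
          mul_smul, ← hφ0, hιsmul, zero_add, hσs 1 one_ne_zero, hσ1, hδsmul _ hm1', mul_one,
          hιsmul, neg_add_cancel]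
      · rw [mul_smul, inv_smul_eq_iff, mul_smul, mul_smul, hσs _ hm1', hσneg, hιsmul,
          neg_add_cancel, hφ0, hs0, mul_smul, mul_smul, mul_smul, hιsmul, neg_add_cancel, hφ0,
          hs0, hd.1, hιi]
    have : s * ι 1 * s = (ι 1 * δ (-1) * s * ι 1) * ((ι 1 * δ (-1) * s * ι 1)⁻¹ * (s * ι 1 * s)) := by
      group
    rw [this, hg, mul_one]
  have hFE : ∀ x : F, x ≠ 0 → x + 1 ≠ 0 → σ (σ x + 1) = 1 - σ (x + 1) := by
    intro x hx hx1
    have hσx1 : σ x + 1 ≠ 0 := by
      intro h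
      have h1 : σ x = σ (-1) := by rw [hσneg]; exact eq_neg_of_add_eq_zero_left h
      have h2 := hσinj _ _ hx hm1' h1
      apply hx1
      rw [h2]; ring
    apply hφinj
    have h1 : (s * ι 1 * s) • φ (x : OnePoint F) = φ ((σ (σ x + 1) : F) : OnePoint F) := by
      rw [mul_smul, mul_smul, hσs x hx, hιsmul, hσs _ hσx1]
    have h2 : (ι 1 * δ (-1) * s * ι 1) • φ (x : OnePoint F) = φ ((1 - σ (x + 1) : F) : OnePoint F) := by
      have e : (-1 : F) * σ (x + 1) + 1 = 1 - σ (x + 1) := by ring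
      rw [mul_smul, mul_smul, mul_smul, hιsmul, hσs _ hx1, hδsmul _ hm1', hιsmul, e]
    rw [← h1, hrel, h2]
  -- card F
  have hcardF : Fintype.card F + 1 = Fintype.card α := by
    have h1 : Nat.card (OnePoint F) = Nat.card α := Nat.card_eq_of_bijective φ hφbij
    have h2 : Nat.card (OnePoint F) = Nat.card F + 1 := by
      have : Nat.card (Option F) = Nat.card F + 1 := by
        rw [Nat.card_eq_fintype_card, Nat.card_eq_fintype_card, Fintype.card_option]
      exact this
    have h3 : Nat.card F = Fintype.card F := Nat.card_eq_fintype_card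
    have h4 : Nat.card α = Fintype.card α := Nat.card_eq_fintype_card
    omega
  have h2F : (2 : F) ≠ 0 := by
    intro h
    have hchar : ringChar F = 2 := by
      have h2' : ((2 : ℕ) : F) = 0 := by exact_mod_cast h
      have hd := (ringChar.spec F 2).mp h2'
      have hpr : (ringChar F).Prime := CharP.char_is_prime F (ringChar F)
      exact (Nat.prime_dvd_prime_iff_eq hpr Nat.prime_two).mp hd
    have hev := (FiniteField.even_card_iff_char_two (F := F)).mp hchar
    have : Odd (Fintype.card F + 1) := Even.add_one (Nat.even_iff.mpr hev)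
    rw [hcardF] at this
    exact (Nat.not_even_iff_odd.mpr this) heven
  have hσσ : ∀ x : F, x ≠ 0 → σ (σ x) = x := by
    intro x hx
    apply hφinj
    rw [← hσs _ (hσne x hx), ← hσs x hx, ← mul_smul, hss, one_smul]
  have hσall : ∀ x : F, x ≠ 0 → σ x = x⁻¹ :=
    sigma_inv h2F σ hσne hσmul hσ1 hσneg hσσ hFE
  let D : MoebiusData G α F :=
    { φ := φ
      φ_bij := hφbij
      ι := ι
      δ := δ
      s := s
      ι_smul := hιsmul
      ι_infty := fun b => hιi b
      δ_smul := hδsmul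
      δ_infty := fun m hm => (hδH m hm).1
      s_infty := by rw [hφi, hφ0, hsi]
      s_zero := by rw [hφi, hφ0, hs0]
      s_smul := by
        intro x hx
        rw [hσs x hx, hσall x hx]
      stab := by
        intro g hg
        have hg0 : g • p0 ≠ pinf := by
          intro h
          have := h.trans hg.symm
          exact hi0 (MulAction.injective g this).symm
        obtain ⟨p, hp⟩ := hφbij.2 (g • p0)
        cases p with
        | infty => exact absurd hp.symm hg0
        | coe b =>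
          rw [hφc] at hp
          have hh : (ι b)⁻¹ * g ∈ H := by
            rw [hHmem]
            constructor
            · rw [mul_smul, hg, inv_smul_eq_iff, hιi]
            · rw [mul_smul, inv_smul_eq_iff, hp]
          have hh1i : ((ι b)⁻¹ * g) • p1 ≠ pinf := by
            intro h
            have := h.trans ((hHmem _).mp hh).1.symm
            exact hi1 (MulAction.injective _ this).symm
          have hh10 : ((ι b)⁻¹ * g) • p1 ≠ p0 := by
            intro h
            have := h.trans ((hHmem _).mp hh).2.symm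
            exact h01 (MulAction.injective _ this).symm
          obtain ⟨q, hq⟩ := hφbij.2 (((ι b)⁻¹ * g) • p1)
          cases q with
          | infty => exact absurd hq.symm hh1i
          | coe m =>
            have hm : m ≠ 0 := by
              intro h
              rw [h, hφ0] at hq
              exact hh10 hq.symm
            have h5 : ((δ m)⁻¹ * ((ι b)⁻¹ * g)) • p1 = p1 := by
              rw [mul_smul, ← hq, inv_smul_eq_iff, ← hφ1, hδsmul m hm, mul_one]
            have h6 := hHreg _ (H.mul_mem (H.inv_mem (hδ m hm).1) hh) p1 (Ne.symm hi1)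
              (Ne.symm h01) h5
            refine ⟨b, m, hm, ?_⟩
            have : g = ι b * (δ m * ((δ m)⁻¹ * ((ι b)⁻¹ * g))) := by group
            rw [this, h6, mul_one] }
  exact ⟨F, instF, instFin, hcardF, D.nonempty_mulEquiv_PGL⟩

end Cfsg.Agent.Lib.helper6.Sharp3C
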