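import Mathlib
import Cfsg.Agent.Lib.helper6.DicksonF
import Cfsg.Agent.Lib.helper6.ZassPSL2
import Cfsg.Agent.Lib.helper6.ZassPSL3
import Cfsg.Agent.Lib.helper6.Sharp3Comm
import Cfsg.Agent.Lib.helper6.DegP1C
import Cfsg.Agent.Lib.helper6.ZassInvol

set_option autoImplicit false

namespace Cfsg.Agent.Lib.helper6.Dickson

open MulAction

variable {H X : Type*} [Group H] [MulAction H X]

namespace DAct

variable {p : ℕ} (D : DAct H X p)
include D

/-- the parabolic subgroup is transitive on the rest of a short orbit -/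
theorem Q_trans [Finite H] {r : X} (hn : (orbit H r).ncard = Nat.card (D.Q r) + 1) {y y' : X}
    (hy : y ∈ orbit H r) (hyr : y ≠ r) (hy' : y' ∈ orbit H r) (hyr' : y' ≠ r) :
    ∃ u ∈ D.Q r, u • y = y' := by
  have hfin : (orbit H r).Finite := Set.finite_range _
  have hS : (orbit H r \ {r}).ncard = Nat.card (D.Q r) := by
    rw [Set.ncard_sdiff (Set.singleton_subset_iff.mpr (mem_orbit_self r)), Set.ncard_singleton, hn]
    omega
  have hsub : orbit (D.Q r) y ⊆ orbit H r \ {r} := by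
    rintro _ ⟨u, rfl⟩
    refine ⟨?_, ?_⟩
    · obtain ⟨g, rfl⟩ := hy
      exact ⟨(u : H) * g, by simp [mul_smul]; rfl⟩
    · intro h
      apply hyr
      have h1 : (u : H) • y = r := h
      have h2 : (u : H) • r = r := D.Q_fix u.2
      exact MulAction.injective _ (h1.trans h2.symm)
  have hcard : (orbit (D.Q r) y).ncard = Nat.card (D.Q r) := by
    have h1 := Cfsg.Agent.Lib.helper6.ncard_orbit_mul_card_stabilizer (Q := D.Q r) y
    have h2 : stabilizer (D.Q r) y = ⊥ := by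
      rw [Subgroup.eq_bot_iff_forall]
      intro u hu
      have h3 : (u : H) • y = y := mem_stabilizer_iff.mp hu
      exact Subtype.ext (D.Q_eq_one_of_fix u.2 h3 hyr)
    rw [h2, Subgroup.card_bot, mul_one] at h1
    exact h1
  have heq : orbit (D.Q r) y = orbit H r \ {r} :=
    Set.eq_of_subset_of_ncard_le hsub (by rw [hS, hcard]) (hfin.subset Set.sdiff_subset)
  have hmem : y' ∈ orbit (D.Q r) y := by rw [heq]; exact ⟨hy', hyr'⟩
  obtain ⟨u, hu⟩ := hmem
  exact ⟨u, u.2, hu⟩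

/-- two-transitivity on a short orbit -/
theorem two_trans [Finite H] {r : X} (hn : (orbit H r).ncard = Nat.card (D.Q r) + 1) {a b c d : X}
    (ha : a ∈ orbit H r) (hb : b ∈ orbit H r) (hc : c ∈ orbit H r) (hd : d ∈ orbit H r)
    (hab : a ≠ b) (hcd : c ≠ d) : ∃ g : H, g • a = c ∧ g • b = d := by
  obtain ⟨g₁, hg₁⟩ := ha
  obtain ⟨g₂, hg₂⟩ := hc
  have hg₁' : g₁ • r = a := hg₁
  have hg₂' : g₂ • r = c := hg₂
  have hb1 : g₁⁻¹ • b ∈ orbit H r := by
    obtain ⟨g, rfl⟩ := hb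
    exact ⟨g₁⁻¹ * g, by simp [mul_smul]⟩
  have hd1 : g₂⁻¹ • d ∈ orbit H r := by
    obtain ⟨g, rfl⟩ := hd
    exact ⟨g₂⁻¹ * g, by simp [mul_smul]⟩
  have hb2 : g₁⁻¹ • b ≠ r := by
    intro h
    rw [inv_smul_eq_iff, hg₁'] at h
    exact hab h.symm
  have hd2 : g₂⁻¹ • d ≠ r := by
    intro h
    rw [inv_smul_eq_iff, hg₂'] at h
    exact hcd h.symm
  obtain ⟨u, hu, huy⟩ := D.Q_trans hn hb1 hb2 hd1 hd2
  refine ⟨g₂ * u * g₁⁻¹, ?_, ?_⟩
  · rw [mul_smul, mul_smul, ← hg₁', inv_smul_smul, D.Q_fix hu, hg₂']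
  · rw [mul_smul, mul_smul, huy, smul_inv_smul]

/-- the order of the stabiliser of the base point of a short orbit -/
theorem card_stab_eq_of_trans [Finite H] {r y : X}
    (hn : (orbit H r).ncard = Nat.card (D.Q r) + 1) (hy : y ∈ orbit H r) (hyr : y ≠ r) :
    Nat.card (stabilizer H r) =
      Nat.card (D.Q r) * Nat.card ↥(stabilizer H r ⊓ stabilizer H y : Subgroup H) := by
  classical
  rw [← Nat.card_prod]
  symm
  let f : (D.Q r) × ↥(stabilizer H r ⊓ stabilizer H y : Subgroup H) → stabilizer H r :=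
    fun uk => ⟨(uk.1 : H) * (uk.2 : H), (stabilizer H r).mul_mem (D.Q_le_stab r uk.1.2)
      (Subgroup.mem_inf.mp uk.2.2).1⟩
  apply Nat.card_eq_of_bijective f
  constructor
  · rintro ⟨u, k⟩ ⟨u', k'⟩ huk
    have h1 : (u : H) * (k : H) = (u' : H) * (k' : H) := congrArg Subtype.val huk
    have h2 : (u' : H)⁻¹ * (u : H) = (k' : H) * (k : H)⁻¹ := by
      calc (u' : H)⁻¹ * (u : H) = (u' : H)⁻¹ * ((u : H) * (k : H)) * (k : H)⁻¹ := by group
        _ = (k' : H) * (k : H)⁻¹ := by rw [h1]; group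
    have hv : (u' : H)⁻¹ * (u : H) ∈ D.Q r := (D.Q r).mul_mem ((D.Q r).inv_mem u'.2) u.2
    have hk : (k' : H) * (k : H)⁻¹ ∈ (stabilizer H r ⊓ stabilizer H y : Subgroup H) :=
      Subgroup.mul_mem _ k'.2 (Subgroup.inv_mem _ k.2)
    have h3 : ((u' : H)⁻¹ * (u : H)) • y = y := by
      rw [h2]; exact (Subgroup.mem_inf.mp hk).2
    have h4 := D.Q_eq_one_of_fix hv h3 hyr
    have h5 : (u : H) = (u' : H) := by
      have : (u : H) = (u' : H) * ((u' : H)⁻¹ * (u : H)) := by group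
      rw [this, h4, mul_one]
    have h6 : (k : H) = (k' : H) := by
      rw [h5] at h1
      exact mul_left_cancel h1
    exact Prod.ext (Subtype.ext h5) (Subtype.ext h6)
  · rintro ⟨g, hg⟩
    have hgr : g • r = r := mem_stabilizer_iff.mp hg
    have hgy : g • y ∈ orbit H r := by
      obtain ⟨g', rfl⟩ := hy
      exact ⟨g * g', by simp [mul_smul]⟩
    have hgy' : g • y ≠ r := by
      intro h
      apply hyr
      exact MulAction.injective g (h.trans hgr.symm)
    obtain ⟨u, hu, huy⟩ := D.Q_trans hn hy hyr hgy hgy'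
    have hux : u • r = r := D.Q_fix hu
    refine ⟨(⟨u, hu⟩, ⟨u⁻¹ * g, Subgroup.mem_inf.mpr ⟨?_, ?_⟩⟩), ?_⟩
    · rw [mem_stabilizer_iff, mul_smul, hgr, inv_smul_eq_iff, hux]
    · rw [mem_stabilizer_iff, mul_smul, ← huy, inv_smul_smul]
    · apply Subtype.ext
      show u * (u⁻¹ * g) = g
      group


omit D in
/-- stabiliser in the orbit action equals stabiliser in `X` -/
theorem stab_orbit_eq {r : X} (a : ↥(orbit H r)) : stabilizer H a = stabilizer H (a : X) := by
  ext g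
  rw [mem_stabilizer_iff, mem_stabilizer_iff, Subtype.ext_iff, orbit.coe_smul]

theorem zk_of [Finite H] {r y : X} (hn : (orbit H r).ncard = Nat.card (D.Q r) + 1)
    (hy : y ∈ orbit H r) (hyr : y ≠ r) :
    Cfsg.Agent.Lib.helper6.ZassPSL3.ZK H ↥(orbit H r) ⟨r, mem_orbit_self r⟩ ⟨y, hy⟩ (D.Q r) where
  two := by
    intro a b c d hab hcd
    obtain ⟨g, h1, h2⟩ := D.two_trans hn a.2 b.2 c.2 d.2 (fun h => hab (Subtype.ext h))
      (fun h => hcd (Subtype.ext h))
    exact ⟨g, Subtype.ext (by rw [orbit.coe_smul]; exact h1),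
      Subtype.ext (by rw [orbit.coe_smul]; exact h2)⟩
  three := by
    intro g a b c hab hbc hac ha hb hc
    by_contra hg1
    have ha' : g • (a : X) = a := by rw [← orbit.coe_smul, ha]
    have hb' : g • (b : X) = b := by rw [← orbit.coe_smul, hb]
    have hc' : g • (c : X) = c := by rw [← orbit.coe_smul, hc]
    rcases D.fix_le_two g hg1 a b c ha' hb' hc' with h | h | h
    · exact hab (Subtype.ext h)
    · exact hbc (Subtype.ext h)
    · exact hac (Subtype.ext h)
  hi0 := fun h => hyr (congrArg Subtype.val h).symm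
  kfix := fun k hk => Subtype.ext (by rw [orbit.coe_smul]; exact D.Q_fix hk)
  kfpf := by
    intro k hk hk1 x hx hkx
    apply hk1
    have h1 : k • (x : X) = x := by rw [← orbit.coe_smul, hkx]
    exact D.Q_eq_one_of_fix hk h1 (fun h => hx (Subtype.ext h))
  ktr := by
    intro x y' hx hy'
    obtain ⟨u, hu, huy⟩ := D.Q_trans hn x.2 (fun h => hx (Subtype.ext h)) y'.2
      (fun h => hy' (Subtype.ext h))
    exact ⟨u, hu, Subtype.ext (by rw [orbit.coe_smul]; exact huy)⟩
  knorm := by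
    intro g hg k hk
    have hg' : g • r = r := by
      have := congrArg Subtype.val hg
      rwa [orbit.coe_smul] at this
    exact D.Q_conj_stab hk hg'

/-- common data for the recognition theorems -/
theorem recog_data [Finite H] {r : X} {c : ℕ} (hq3 : 3 ≤ Nat.card (D.Q r))
    (hn : (orbit H r).ncard = Nat.card (D.Q r) + 1)
    (hc : Nat.card (stabilizer H r) = Nat.card (D.Q r) * c) :
    ∃ (_ : Fintype ↥(orbit H r)) (y z : X) (hy : y ∈ orbit H r) (hz : z ∈ orbit H r), y ≠ r ∧ z ≠ r ∧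
      z ≠ y ∧ Fintype.card ↥(orbit H r) = Nat.card (D.Q r) + 1 ∧ FaithfulSMul H ↥(orbit H r) ∧
      (∀ a b : ↥(orbit H r), a ≠ b →
        Nat.card ↥(stabilizer H a ⊓ stabilizer H b : Subgroup H) = c) := by
  classical
  haveI : Finite ↥(orbit H r) := (Set.finite_range _).to_subtype
  haveI : Fintype ↥(orbit H r) := Fintype.ofFinite _
  have hcardα : Fintype.card ↥(orbit H r) = Nat.card (D.Q r) + 1 := by
    rw [← hn, ← Nat.card_eq_fintype_card, Nat.card_coe_set_eq]
  -- three points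
  obtain ⟨a, b, c', hab, hac, hbc⟩ := Fintype.two_lt_card_iff.mp (by omega : 2 < Fintype.card ↥(orbit H r))
  obtain ⟨y', z', hyz, hyr, hzr⟩ : ∃ y' z' : ↥(orbit H r), y' ≠ z' ∧ (y' : X) ≠ r ∧ (z' : X) ≠ r := by
    by_cases ha : (a : X) = r
    · refine ⟨b, c', hbc, ?_, ?_⟩
      · intro h; exact hab (Subtype.ext (ha.trans h.symm))
      · intro h; exact hac (Subtype.ext (ha.trans h.symm))
    · by_cases hb : (b : X) = r
      · refine ⟨a, c', hac, ha, ?_⟩
        intro h; exact hbc (Subtype.ext (hb.trans h.symm))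
      · exact ⟨a, b, hab, ha, hb⟩
  have hthree : ∀ g : H, (∀ x : ↥(orbit H r), g • x = x) → g = 1 := by
    intro g hg
    exact (D.zk_of hn y'.2 hyr).three g a b c' hab hbc hac (hg a) (hg b) (hg c')
  refine ⟨inferInstance, y', z', y'.2, z'.2, hyr, hzr, fun h => hyz (Subtype.ext h.symm), hcardα, ?_, ?_⟩
  · refine ⟨fun {g g'} hgg => ?_⟩
    have h5 : ∀ x : ↥(orbit H r), (g'⁻¹ * g) • x = x := by
      intro x
      rw [mul_smul, hgg x, inv_smul_smul]
    have h6 := hthree _ h5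
    calc g = g' * (g'⁻¹ * g) := by group
      _ = g' := by rw [h6, mul_one]
  · intro a b hab
    have Z := D.zk_of hn y'.2 hyr
    obtain ⟨g, hg1, hg2⟩ := Z.two Z.hi0 hab
    rw [Cfsg.Agent.Lib.helper6.ZassInvol.card_stab_conj g hg1 hg2, stab_orbit_eq, stab_orbit_eq]
    have h1 := D.card_stab_eq_of_trans hn y'.2 hyr
    rw [hc] at h1
    have hpos : 0 < Nat.card (D.Q r) := Nat.card_pos
    exact (Nat.eq_of_mul_eq_mul_left hpos h1).symm

/-- recognition of `PGL₂` -/
theorem pgl_type [Finite H] {r : X} {c : ℕ} (hq3 : 3 ≤ Nat.card (D.Q r))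
    (hn : (orbit H r).ncard = Nat.card (D.Q r) + 1)
    (hc : Nat.card (stabilizer H r) = Nat.card (D.Q r) * c) (hqc : c + 1 = Nat.card (D.Q r)) :
    ∃ (F : Type) (_ : Field F) (_ : Fintype F), Fintype.card F = Nat.card (D.Q r) ∧
      Nonempty (H ≃* Matrix.ProjGenLinGroup (Fin 2) F) := by
  classical
  obtain ⟨_, y, z, hy, hz, hyr, hzr, hzy, hcardα, hfaith, hpair⟩ := D.recog_data hq3 hn hc
  have Z := D.zk_of hn hy hyr
  have hcard : ∀ a b : ↥(orbit H r), a ≠ b →
      Nat.card ↥(stabilizer H a ⊓ stabilizer H b : Subgroup H) + 2 = Fintype.card ↥(orbit H r) := by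
    intro a b hab
    rw [hpair a b hab, hcardα]; omega
  have T3 := Cfsg.Agent.Lib.helper6.DegP1.T3_of_card (G := H) (α := ↥(orbit H r)) Z.two Z.three hcard
  have hHcomm : ∀ h k : H, h • (⟨r, mem_orbit_self r⟩ : ↥(orbit H r)) = ⟨r, mem_orbit_self r⟩ →
      h • (⟨y, hy⟩ : ↥(orbit H r)) = ⟨y, hy⟩ →
      k • (⟨r, mem_orbit_self r⟩ : ↥(orbit H r)) = ⟨r, mem_orbit_self r⟩ →
      k • (⟨y, hy⟩ : ↥(orbit H r)) = ⟨y, hy⟩ → h * k = k * h := by
    intro h k h1 h2 k1 k2
    have h1' : h • r = r := by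
      have := congrArg Subtype.val h1; rwa [orbit.coe_smul] at this
    have h2' : h • y = y := by
      have := congrArg Subtype.val h2; rwa [orbit.coe_smul] at this
    have k1' : k • r = r := by
      have := congrArg Subtype.val k1; rwa [orbit.coe_smul] at this
    have k2' : k • y = y := by
      have := congrArg Subtype.val k2; rwa [orbit.coe_smul] at this
    have hcm := D.comm_mem_Q h1' k1'
    have hfix : (h * k * h⁻¹ * k⁻¹) • y = y := by
      rw [mul_smul, mul_smul, mul_smul, inv_smul_eq_iff.mpr k2'.symm, inv_smul_eq_iff.mpr h2'.symm,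
        k2', h2']
    have h3 := D.Q_eq_one_of_fix hcm hfix hyr
    calc h * k = (h * k * h⁻¹ * k⁻¹) * (k * h) := by group
      _ = k * h := by rw [h3, one_mul]
  obtain ⟨F, hF1, hF2, hFc, hiso⟩ := Cfsg.Agent.Lib.helper6.Sharp3C.sharp3_comm (G := H)
    (α := ↥(orbit H r)) T3 Z.three (pinf := ⟨r, mem_orbit_self r⟩) (p0 := ⟨y, hy⟩) (p1 := ⟨z, hz⟩)
    (fun h => hzy (congrArg Subtype.val h).symm) Z.hi0
    (fun h => hzr (congrArg Subtype.val h).symm) hHcomm
  refine ⟨F, hF1, hF2, ?_, hiso⟩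
  rw [hcardα] at hFc
  omega


/-- recognition of `PSL₂` -/
theorem psl_type [Finite H] {r : X} {c : ℕ} (hq3 : 3 ≤ Nat.card (D.Q r))
    (hn : (orbit H r).ncard = Nat.card (D.Q r) + 1)
    (hc : Nat.card (stabilizer H r) = Nat.card (D.Q r) * c)
    (hqc : 2 * c + 1 = Nat.card (D.Q r)) :
    ∃ (F : Type) (_ : Field F) (_ : Fintype F), Fintype.card F = Nat.card (D.Q r) ∧
      Nonempty (H ≃* Matrix.ProjectiveSpecialLinearGroup (Fin 2) F) := by
  classical
  obtain ⟨_, y, z, hy, hz, hyr, hzr, hzy, hcardα, hfaith, hpair⟩ := D.recog_data hq3 hn hc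
  have Z := D.zk_of hn hy hyr
  have hc0 : Nat.card ↥(stabilizer H (⟨r, mem_orbit_self r⟩ : ↥(orbit H r)) ⊓
      stabilizer H (⟨y, hy⟩ : ↥(orbit H r)) : Subgroup H) = c := hpair _ _ Z.hi0
  have hcard : 2 * Nat.card ↥(stabilizer H (⟨r, mem_orbit_self r⟩ : ↥(orbit H r)) ⊓
      stabilizer H (⟨y, hy⟩ : ↥(orbit H r)) : Subgroup H) + 2 = Fintype.card ↥(orbit H r) := by
    rw [hc0, hcardα]; omega
  rcases Nat.even_or_odd c with hev | hodd
  · -- an involution in the two-point stabiliser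
    haveI : Fact (Nat.Prime 2) := ⟨Nat.prime_two⟩
    have h2 : 2 ∣ Nat.card ↥(stabilizer H (⟨r, mem_orbit_self r⟩ : ↥(orbit H r)) ⊓
      stabilizer H (⟨y, hy⟩ : ↥(orbit H r)) : Subgroup H) := by
      rw [hc0]; exact even_iff_two_dvd.mp hev
    obtain ⟨j, hj⟩ := exists_prime_orderOf_dvd_card' 2 h2
    have hjm := Subgroup.mem_inf.mp j.2
    have hjo : orderOf (j : H) = 2 := by rw [Subgroup.orderOf_coe]; exact hj
    have hj1 : (j : H) ≠ 1 := by
      intro h
      rw [h, orderOf_one] at hjo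
      omega
    have hjj : (j : H) * (j : H) = 1 := by
      rw [← pow_two, ← hjo]; exact pow_orderOf_eq_one _
    have ZP : Cfsg.Agent.Lib.helper6.ZassPSL1.ZP H ↥(orbit H r) ⟨r, mem_orbit_self r⟩ ⟨y, hy⟩
        (D.Q r) (j : H) :=
      { two := Z.two, three := Z.three, hi0 := Z.hi0, kfix := Z.kfix, kfpf := Z.kfpf,
        ktr := Z.ktr, knorm := Z.knorm, hj1 := hj1, hjj := hjj,
        hji := mem_stabilizer_iff.mp hjm.1, hj0 := mem_stabilizer_iff.mp hjm.2 }
    obtain ⟨F, hF1, hF2, hFc, hiso⟩ := Cfsg.Agent.Lib.helper6.ZassPSL2.psl_of_half ZP hcard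
    refine ⟨F, hF1, hF2, ?_, hiso⟩
    rw [hcardα] at hFc
    omega
  · have kcomm : ∀ x ∈ D.Q r, ∀ y ∈ D.Q r, x * y = y * x := fun x hx y hy => D.Q_comm hx hy
    have hswap : ∀ s : H, s • (⟨r, mem_orbit_self r⟩ : ↥(orbit H r)) = ⟨y, hy⟩ →
        s • (⟨y, hy⟩ : ↥(orbit H r)) = ⟨r, mem_orbit_self r⟩ → s * s = 1 := by
      intro s h1 h2
      have h1' : s • r = y := by
        have := congrArg Subtype.val h1; rwa [orbit.coe_smul] at this
      have h2' : s • y = r := by
        have := congrArg Subtype.val h2; rwa [orbit.coe_smul] at this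
      obtain ⟨w, hw⟩ := D.fix_exists s
      have hwr : w ≠ r := by
        rintro rfl
        rw [h1'] at hw
        exact hyr hw
      have hwy : w ≠ y := by
        rintro rfl
        rw [h2'] at hw
        exact hyr hw.symm
      by_contra hss
      have f1 : (s * s) • r = r := by rw [mul_smul, h1', h2']
      have f2 : (s * s) • y = y := by rw [mul_smul, h2', h1']
      have f3 : (s * s) • w = w := by rw [mul_smul, hw, hw]
      rcases D.fix_eq_of_two hss (Ne.symm hyr) f1 f2 f3 with h | h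
      · exact hwr h
      · exact hwy h
    have hnofix : ∀ s : H, s • (⟨r, mem_orbit_self r⟩ : ↥(orbit H r)) = ⟨y, hy⟩ →
        s • (⟨y, hy⟩ : ↥(orbit H r)) = ⟨r, mem_orbit_self r⟩ → ∀ x : ↥(orbit H r), s • x ≠ x := by
      intro s h1 h2 x hx
      have hss := hswap s h1 h2
      have hs1 : s ≠ 1 := by
        rintro rfl
        rw [one_smul] at h1
        exact Z.hi0 h1
      have hso : orderOf s = 2 := orderOf_eq_prime (by rw [pow_two]; exact hss) hs1
      have hsx : s ∈ stabilizer H (x : X) := by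
        rw [mem_stabilizer_iff, ← orbit.coe_smul, hx]
      have hdvd : 2 ∣ Nat.card (stabilizer H (x : X)) := by
        rw [← hso]
        exact Subgroup.orderOf_dvd_natCard _ hsx
      obtain ⟨g, hg⟩ := x.2
      have hg' : g • r = (x : X) := hg
      rw [← hg', card_stab_smul, hc] at hdvd
      have hoddq : Odd (Nat.card (D.Q r)) := by
        rw [← hqc]; exact ⟨c, rfl⟩
      have := hoddq.mul hodd
      rw [Nat.odd_iff] at this
      omega
    have hodd' : Odd (Nat.card ↥(stabilizer H (⟨r, mem_orbit_self r⟩ : ↥(orbit H r)) ⊓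
      stabilizer H (⟨y, hy⟩ : ↥(orbit H r)) : Subgroup H)) := by rw [hc0]; exact hodd
    obtain ⟨F, hF1, hF2, hFc, hiso⟩ := Cfsg.Agent.Lib.helper6.ZassPSL3.psl_of_half_odd Z kcomm
      hswap hnofix hodd' hcard
    refine ⟨F, hF1, hF2, ?_, hiso⟩
    rw [hcardα] at hFc
    omega

end DAct

end Cfsg.Agent.Lib.helper6.Dickson
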