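import Mathlib
import Cfsg.Agent.Lib.helper6.DicksonI
import Cfsg.Agent.Lib.helper6.DicksonG
import Cfsg.Agent.Lib.helper6.DicksonH

set_option autoImplicit false

namespace Cfsg.Agent.Lib.helper6.Dickson

open MulAction

variable {H X : Type*} [Group H] [MulAction H X]

namespace DAct

variable {p : ℕ} (D : DAct H X p)
include D

/-- a bound on the stabilisers of the orbit representatives bounds all stabilisers -/
theorem card_stab_le_of_R [Fintype H] [DecidableEq H] [DecidableEq X] (B : ℕ) (hB : 1 ≤ B)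
    (hR : ∀ r ∈ D.R, Nat.card (stabilizer H r) ≤ B) : ∀ x : X, Nat.card (stabilizer H x) ≤ B := by
  intro x
  by_cases hx : x ∈ D.Ω
  · have h1 : rep H x ∈ D.R := Finset.mem_image_of_mem _ hx
    obtain ⟨g, hg⟩ := rep_mem_orbit (H := H) x
    have hg' : g • x = rep H x := hg
    have h2 := hR _ h1
    rwa [← hg', card_stab_smul] at h2
  · have h1 : stabilizer H x = ⊥ := by
      rw [Subgroup.eq_bot_iff_forall]
      intro h hh
      by_contra h1
      exact hx (D.mem_Ω.mpr ⟨h, h1, mem_stabilizer_iff.mp hh⟩)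
    rw [h1, Subgroup.card_bot]
    exact hB

/-- a generator of a stabiliser with trivial parabolic part -/
theorem exists_gen_stab [Finite H] {s : X} (hQ : D.Q s = ⊥) :
    ∃ h : H, orderOf h = Nat.card (stabilizer H s) := by
  haveI := D.isCyclic_stab_of_Q_bot hQ
  obtain ⟨h, hh⟩ := (Subgroup.isCyclic_iff_exists_zpowers_eq_top (stabilizer H s)).mp inferInstance
  exact ⟨h, by rw [← Nat.card_zpowers, hh]⟩

end DAct

open DAct in
/-- The abstract form of Dickson's theorem. -/
theorem dickson_abstract {H X : Type*} [Group H] [Finite H] [MulAction H X] {p : ℕ}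
    [Fact p.Prime] (D : DAct H X p) :
    (IsCyclic H ∧ (Nat.card H).Coprime p) ∨
    (∃ s₀ : H, Nonempty (H ≃* DihedralGroup (orderOf s₀)) ∧ (orderOf s₀).Coprime p) ∨
    (∃ r : X, (∀ h : H, h • r = r) ∧ D.Q r ≠ ⊥) ∨
    Nonempty (H ≃* alternatingGroup (Fin 4)) ∨ Nonempty (H ≃* Equiv.Perm (Fin 4)) ∨
    Nonempty (H ≃* alternatingGroup (Fin 5)) ∨
    (∃ (K : Type) (_ : Field K) (_ : Fintype K) (a : ℕ) (h : H), Fintype.card K = p ^ a ∧
      ((Nonempty (H ≃* Matrix.ProjectiveSpecialLinearGroup (Fin 2) K) ∧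
          orderOf h = (p ^ a + 1) / Nat.gcd 2 (p ^ a - 1)) ∨
        (Nonempty (H ≃* Matrix.ProjGenLinGroup (Fin 2) K) ∧ orderOf h = p ^ a + 1))) := by
  classical
  haveI : Fintype H := Fintype.ofFinite H
  have hgc : Nat.card H = Fintype.card H := Nat.card_eq_fintype_card
  -- dihedral helper
  have hdih : ∀ t ∈ D.R, Nat.card (D.Q t) = 1 → D.nn t = 2 →
      ∃ s₀ : H, Nonempty (H ≃* DihedralGroup (orderOf s₀)) ∧ (orderOf s₀).Coprime p := by
    intro t ht hq hn
    have hQ : D.Q t = ⊥ := Subgroup.card_eq_one.mp hq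
    have hidx : (stabilizer H t).index = 2 := by
      rw [index_stabilizer, ← D.nn_eq_ncard ht, hn]
    have hne : stabilizer H t ≠ ⊥ := by
      intro h
      have := D.two_le_card_stab (D.mem_R.mp ht).1
      rw [h, Subgroup.card_bot] at this
      omega
    obtain ⟨s₀, h1, h2, _⟩ := D.dihedral_of_index_two hQ hidx hne
    exact ⟨s₀, h1, h2⟩
  rcases D.first_level with h | h | h | h | h
  · -- trivial group
    left
    haveI : Subsingleton H := Fintype.card_le_one_iff_subsingleton.mp (by omega)
    exact ⟨isCyclic_of_subsingleton, by rw [hgc, h]; exact Nat.coprime_one_left p⟩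
  · -- Borel
    obtain ⟨r, hr, hn1, hq⟩ := h
    right; right; left
    refine ⟨r, ?_, ?_⟩
    · apply D.fixes_of_card_stab
      have := D.nn_mul hr
      rw [hn1, one_mul] at this
      rw [this, hgc]
    · intro hb
      apply hq
      rw [hb, Subgroup.card_bot]
  · -- cyclic
    obtain ⟨r, hr, s, hs, hrs, hn1, hn1'⟩ := h
    left
    apply D.cyclic_of_two_fixed hrs
    · apply D.fixes_of_card_stab
      have := D.nn_mul hr
      rw [hn1, one_mul] at this
      rw [this, hgc]
    · apply D.fixes_of_card_stab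
      have := D.nn_mul hs
      rw [hn1', one_mul] at this
      rw [this, hgc]
  · -- one parabolic orbit and another orbit
    obtain ⟨r, hr, s, hs, hrs, hR, hq, hq', hn2, hsum⟩ := h
    have hQs : D.Q s = ⊥ := Subgroup.card_eq_one.mp hq'
    have hQr : D.Q r ≠ ⊥ := fun hb => hq (by rw [hb, Subgroup.card_bot])
    obtain ⟨q, hqdef⟩ : ∃ q, q = Nat.card (D.Q r) := ⟨_, rfl⟩
    have hqpos : 0 < q := hqdef ▸ Nat.card_pos
    have hq2 : 2 ≤ q := by omega
    by_cases hq_eq2 : q = 2
    · right; left
      apply hdih s hs hq'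
      rw [← hqdef, hq_eq2] at hsum
      omega
    have hq3 : 3 ≤ q := by omega
    have hnr := D.nn_eq_ncard hr
    obtain ⟨k, hk⟩ := D.card_Q_dvd r
    have hnrk : D.nn r = 1 + q * k := by
      rw [hnr, hqdef]
      have : 1 ≤ (orbit H r).ncard := by rw [← hnr]; omega
      omega
    have hk1 : 1 ≤ k := by
      rcases Nat.eq_zero_or_pos k with h0 | h0
      · rw [h0, mul_zero] at hnrk; omega
      · exact h0
    obtain ⟨c, hc⟩ := D.card_Q_dvd_stab r
    have he2 := D.two_le_card_stab (D.mem_R.mp hr).1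
    have hc1 : 1 ≤ c := by
      rcases Nat.eq_zero_or_pos c with h0 | h0
      · rw [h0, mul_zero] at hc; omega
      · exact h0
    have hcq : c < q := by
      by_cases hc_one : c = 1
      · omega
      · have hne : ¬ stabilizer H r ≤ D.Q r := by
          intro hle
          have h1 := Subgroup.card_le_of_le hle
          rw [hc, ← hqdef] at h1
          have h2 : q * 2 ≤ q * c := Nat.mul_le_mul_left q (by omega)
          omega
        obtain ⟨k₀, hk₀, hk₀'⟩ := SetLike.not_le_iff_exists.mp hne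
        have hk₀1 : k₀ ≠ 1 := fun h => hk₀' (h ▸ (D.Q r).one_mem)
        obtain ⟨y, hyr, hy⟩ := D.exists_second (mem_stabilizer_iff.mp hk₀) hk₀'
        have h1 := D.card_stab_eq (Ne.symm hyr) hk₀1 (mem_stabilizer_iff.mp hk₀) hy
        have h2 := D.card_inf_lt (Ne.symm hyr) hQr
        rw [hc] at h1
        have h3 : c = Nat.card ↥(stabilizer H r ⊓ stabilizer H y : Subgroup H) :=
          Nat.eq_of_mul_eq_mul_left Nat.card_pos h1
        rw [h3, hqdef]; exact h2
    obtain ⟨m, hm⟩ : ∃ m, m = Nat.card (stabilizer H s) := ⟨_, rfl⟩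
    have hg : D.nn r * (q * c) = D.nn s * m := by
      rw [hqdef, ← hc, hm, D.nn_mul hr, D.nn_mul hs]
    obtain ⟨a, ha⟩ := IsPGroup.iff_card.mp (D.isPGroup_Q r)
    obtain ⟨h₀, hh₀⟩ := D.exists_gen_stab hQs
    rcases Cfsg.Agent.Lib.helper6.DicksonH.arith_C (D.nn r) (D.nn s) q c m k hnrk hk1 hq2 hc1 hcq
      (by rw [hqdef]; exact hsum) hg with h | h | h | h
    · right; left
      exact hdih s hs hq' h
    · obtain ⟨hk, hcq2, hm2⟩ := h
      have hn : (orbit H r).ncard = Nat.card (D.Q r) + 1 := by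
        rw [← hnr, hnrk, hk, ← hqdef]; ring
      obtain ⟨F, hF1, hF2, hFc, hiso⟩ := D.psl_type (c := c) (by rw [← hqdef]; exact hq3) hn hc
        (by rw [← hqdef]; exact hcq2)
      refine Or.inr (Or.inr (Or.inr (Or.inr (Or.inr (Or.inr
        ⟨F, hF1, hF2, a, h₀, by rw [hFc, ha], Or.inl ⟨hiso, ?_⟩⟩)))))
      rw [hh₀, ← hm, ← ha, ← hqdef]
      have hgcd : Nat.gcd 2 (q - 1) = 2 := by
        have : q - 1 = 2 * c := by omega
        rw [this]
        exact Nat.gcd_mul_right_right c 2
      rw [hgcd]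
      omega
    · obtain ⟨hk, hcq2, hm2⟩ := h
      have hn : (orbit H r).ncard = Nat.card (D.Q r) + 1 := by
        rw [← hnr, hnrk, hk, ← hqdef]; ring
      obtain ⟨F, hF1, hF2, hFc, hiso⟩ := D.pgl_type (c := c) (by rw [← hqdef]; exact hq3) hn hc
        (by rw [← hqdef]; exact hcq2)
      refine Or.inr (Or.inr (Or.inr (Or.inr (Or.inr (Or.inr
        ⟨F, hF1, hF2, a, h₀, by rw [hFc, ha], Or.inr ⟨hiso, ?_⟩⟩)))))
      rw [hh₀, ← hm, ← ha, ← hqdef]
      exact hm2
    · obtain ⟨hq3', hc2, hk3, hm5⟩ := h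
      right; right; right; right; right; left
      have hcard : Nat.card H = 60 := by
        rw [hgc, ← D.nn_mul hr, hnrk, hc, ← hqdef, hq3', hc2, hk3]
      apply Cfsg.Agent.Lib.helper6.DicksonG.a5_of_card hcard
      apply D.no_normal_cyclic
      intro x
      have hle := D.card_stab_le_of_R 6 (by norm_num) (by
        intro y hy
        rw [hR] at hy
        simp only [Finset.mem_insert, Finset.mem_singleton] at hy
        rcases hy with rfl | rfl
        · rw [hc, ← hqdef, hq3', hc2]
        · rw [← hm, hm5]; norm_num) x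
      rw [hcard]; omega
  · -- three orbits
    obtain ⟨r, hr, s, hs, t, ht, hrs, hrt, hst, hR, hq, hq', hq'', hsum⟩ := h
    have e1 := D.nn_mul hr
    have e2 := D.nn_mul hs
    have e3 := D.nn_mul ht
    have b1 := D.two_le_card_stab (D.mem_R.mp hr).1
    have b2 := D.two_le_card_stab (D.mem_R.mp hs).1
    have b3 := D.two_le_card_stab (D.mem_R.mp ht).1
    have hbound : ∀ B : ℕ, 1 ≤ B → Nat.card (stabilizer H r) ≤ B → Nat.card (stabilizer H s) ≤ B →
        Nat.card (stabilizer H t) ≤ B → ∀ x : X, Nat.card (stabilizer H x) ≤ B := by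
      intro B hB c1 c2 c3
      apply D.card_stab_le_of_R B hB
      intro y hy
      rw [hR] at hy
      simp only [Finset.mem_insert, Finset.mem_singleton] at hy
      rcases hy with rfl | rfl | rfl <;> assumption
    rcases Cfsg.Agent.Lib.helper6.DicksonH.arith_E _ _ _ _ _ _ _ e1 e2 e3 b1 b2 b3 hsum with
      h | h | h | h
    · right; left
      rcases h with h | h | h
      · exact hdih r hr hq h
      · exact hdih s hs hq' h
      · exact hdih t ht hq'' h
    · obtain ⟨hg, c1, c2, c3⟩ := h
      right; right; right; left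
      have hcard : Nat.card H = 12 := by rw [hgc, hg]
      apply Cfsg.Agent.Lib.helper6.DicksonG.a4_of_card hcard
      apply D.no_normal_cyclic
      intro x
      have := hbound 3 (by norm_num) c1 c2 c3 x
      rw [hcard]; omega
    · obtain ⟨hg, c1, c2, c3⟩ := h
      right; right; right; right; left
      have hcard : Nat.card H = 24 := by rw [hgc, hg]
      apply Cfsg.Agent.Lib.helper6.DicksonG.s4_of_card hcard
      apply D.no_normal_cyclic
      intro x
      have := hbound 4 (by norm_num) c1 c2 c3 x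
      rw [hcard]; omega
    · obtain ⟨hg, c1, c2, c3⟩ := h
      right; right; right; right; right; left
      have hcard : Nat.card H = 60 := by rw [hgc, hg]
      apply Cfsg.Agent.Lib.helper6.DicksonG.a5_of_card hcard
      apply D.no_normal_cyclic
      intro x
      have := hbound 5 (by norm_num) c1 c2 c3 x
      rw [hcard]; omega

end Cfsg.Agent.Lib.helper6.Dickson
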