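import Mathlib
import Cfsg.Agent.Lib.helper6.DicksonMain

set_option autoImplicit false

namespace Cfsg.Agent.Lib.helper6.Dickson

open MulAction

variable {H X : Type*} [Group H] [MulAction H X]

namespace DAct

variable {p : ℕ} (D : DAct H X p)
include D

/-- numerical data in the case of one parabolic orbit and one other orbit -/
theorem caseC_data [Fintype H] [DecidableEq H] [DecidableEq X] [Fact p.Prime] {r s : X}
    (hr : r ∈ D.R) (hs : s ∈ D.R) (hq : Nat.card (D.Q r) ≠ 1) (hn2 : 2 ≤ D.nn r) :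
    ∃ c k : ℕ, D.nn r = 1 + Nat.card (D.Q r) * k ∧ 1 ≤ k ∧
      Nat.card (stabilizer H r) = Nat.card (D.Q r) * c ∧ 1 ≤ c ∧ c < Nat.card (D.Q r) ∧
      D.nn r * (Nat.card (D.Q r) * c) = D.nn s * Nat.card (stabilizer H s) := by
  have hQr : D.Q r ≠ ⊥ := fun hb => hq (by rw [hb, Subgroup.card_bot])
  obtain ⟨q, hqdef⟩ : ∃ q, q = Nat.card (D.Q r) := ⟨_, rfl⟩
  have hqpos : 0 < q := hqdef ▸ Nat.card_pos
  have hq2 : 2 ≤ q := by omega
  have hnr := D.nn_eq_ncard hr
  obtain ⟨k, hk⟩ := D.card_Q_dvd r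
  have hnrk : D.nn r = 1 + q * k := by
    rw [hnr, hqdef]
    have : 1 ≤ (orbit H r).ncard := by rw [← hnr]; omega
    omega
  have hk1 : 1 ≤ k := by
    rcases Nat.eq_zero_or_pos k with h0 | h0
    · rw [h0, mul_zero] at hnrk; omega
    · exact h0
  obtain ⟨c, hc⟩ := D.card_Q_dvd_stab r
  have he2 := D.two_le_card_stab (D.mem_R.mp hr).1
  have hc1 : 1 ≤ c := by
    rcases Nat.eq_zero_or_pos c with h0 | h0
    · rw [h0, mul_zero] at hc; omega
    · exact h0
  have hcq : c < q := by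
    by_cases hc_one : c = 1
    · omega
    · have hne : ¬ stabilizer H r ≤ D.Q r := by
        intro hle
        have h1 := Subgroup.card_le_of_le hle
        rw [hc, ← hqdef] at h1
        have h2 : q * 2 ≤ q * c := Nat.mul_le_mul_left q (by omega)
        omega
      obtain ⟨k₀, hk₀, hk₀'⟩ := SetLike.not_le_iff_exists.mp hne
      have hk₀1 : k₀ ≠ 1 := fun h => hk₀' (h ▸ (D.Q r).one_mem)
      obtain ⟨y, hyr, hy⟩ := D.exists_second (mem_stabilizer_iff.mp hk₀) hk₀'
      have h1 := D.card_stab_eq (Ne.symm hyr) hk₀1 (mem_stabilizer_iff.mp hk₀) hy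
      have h2 := D.card_inf_lt (Ne.symm hyr) hQr
      rw [hc] at h1
      have h3 : c = Nat.card ↥(stabilizer H r ⊓ stabilizer H y : Subgroup H) :=
        Nat.eq_of_mul_eq_mul_left Nat.card_pos h1
      rw [h3, hqdef]; exact h2
  refine ⟨c, k, by rw [← hqdef]; exact hnrk, hk1, hc, hc1, by rw [← hqdef]; exact hcq, ?_⟩
  rw [← hc, D.nn_mul hr, D.nn_mul hs]

end DAct

/-- the structure of a "full" group of `PSL₂(q)` type acting on the projective line -/
structure Full {L X : Type*} [Group L] [MulAction L X] {p : ℕ} (D : DAct L X p) (q d : ℕ)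
    (r s : X) : Prop where
  hQr : D.Q r ≠ ⊥
  cardQ : Nat.card (D.Q r) = q
  orb : (orbit L r).ncard = q + 1
  stabr : Nat.card (stabilizer L r) * d = q * (q - 1)
  hQs : D.Q s = ⊥
  stabs : Nat.card (stabilizer L s) * d = q + 1
  cover : ∀ x : X, (∃ g : L, g ≠ 1 ∧ g • x = x) → x ∈ orbit L r ∨ x ∈ orbit L s

open DAct in
theorem full_of_card {L X : Type*} [Group L] [Finite L] [MulAction L X] {p : ℕ} [Fact p.Prime]
    (D : DAct L X p) {q d : ℕ} (hq4 : 4 ≤ q) (hd : d = 1 ∨ d = 2)
    (hcard : Nat.card L * d = q * (q ^ 2 - 1))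
    (hQ : ∀ x : X, D.Q x ≠ ⊥ → Nat.card (D.Q x) = q)
    (hex : ∃ x : X, D.Q x ≠ ⊥)
    (hnofix : ∀ x : X, ∃ g : L, g • x ≠ x)
    (hno2 : ∀ A : Subgroup L, A.index ≠ 2) :
    ∃ r s : X, Full D q d r s := by
  classical
  haveI : Fintype L := Fintype.ofFinite L
  have hgc : Nat.card L = Fintype.card L := Nat.card_eq_fintype_card
  have hfix1 : ∀ r ∈ D.R, D.nn r ≠ 1 := by
    intro r hr hn1
    obtain ⟨g, hg⟩ := hnofix r
    apply hg
    apply D.fixes_of_card_stab
    have := D.nn_mul hr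
    rw [hn1, one_mul] at this
    rw [this, hgc]
  rcases D.first_level with h | h | h | h | h
  · exfalso
    rw [← hgc] at h
    rw [h, one_mul] at hcard
    have h1 : 4 * (4 ^ 2 - 1) ≤ q * (q ^ 2 - 1) :=
      Nat.mul_le_mul hq4 (Nat.sub_le_sub_right (Nat.pow_le_pow_left hq4 2) 1)
    omega
  · obtain ⟨r, hr, hn1, -⟩ := h
    exact absurd hn1 (hfix1 r hr)
  · obtain ⟨r, hr, s, hs, -, hn1, -⟩ := h
    exact absurd hn1 (hfix1 r hr)
  · obtain ⟨r, hr, s, hs, hrs, hR, hq, hq', hn2, hsum⟩ := h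
    have hQs : D.Q s = ⊥ := Subgroup.card_eq_one.mp hq'
    have hQr : D.Q r ≠ ⊥ := fun hb => hq (by rw [hb, Subgroup.card_bot])
    have hqr := hQ r hQr
    obtain ⟨c, k, hnrk, hk1, hc, hc1, hcq, hg⟩ := D.caseC_data (s := s) hr hs hq hn2
    rw [hqr] at hnrk hc hcq hg hsum
    have hmul := D.nn_mul hr
    rw [← hgc] at hmul
    have hidx : D.nn s ≠ 2 := by
      intro h2
      apply hno2 (stabilizer L s)
      rw [index_stabilizer, ← D.nn_eq_ncard hs, h2]
    have hsq : q ^ 2 - 1 = (q + 1) * (q - 1) := by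
      obtain ⟨m, rfl⟩ : ∃ m, q = m + 1 := ⟨q - 1, by omega⟩
      rw [show (m + 1) ^ 2 = m ^ 2 + 2 * m + 1 by ring]
      simp only [Nat.add_sub_cancel]
      ring
    have hcover : ∀ x : X, (∃ g : L, g ≠ 1 ∧ g • x = x) → x ∈ orbit L r ∨ x ∈ orbit L s := by
      intro x hx
      have hxΩ : x ∈ D.Ω := D.mem_Ω.mpr hx
      have h1 : rep L x ∈ D.R := Finset.mem_image_of_mem _ hxΩ
      rw [hR] at h1
      simp only [Finset.mem_insert, Finset.mem_singleton] at h1
      rcases h1 with h1 | h1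
      · left; exact (rep_eq_iff (D.mem_R.mp hr).2).mp h1
      · right; exact (rep_eq_iff (D.mem_R.mp hs).2).mp h1
    rcases Cfsg.Agent.Lib.helper6.DicksonH.arith_C (D.nn r) (D.nn s) q c
      (Nat.card (stabilizer L s)) k hnrk hk1 (by omega) hc1 hcq hsum hg with h | h | h | h
    · exact absurd h hidx
    · obtain ⟨hk, hcq2, hm2⟩ := h
      -- card L = (q+1) q c
      rw [hnrk, hk, hc] at hmul
      have hd2 : d = 2 := by
        rcases hd with hd | hd
        · exfalso
          rw [hd, mul_one, ← hmul, hsq] at hcard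
          have h3 : (1 + q * 1) * (q * c) * 2 = q * ((q + 1) * (q - 1)) := by
            have : q - 1 = 2 * c := by omega
            rw [this]; ring
          have hpos : 0 < (1 + q * 1) * (q * c) := by positivity
          omega
        · exact hd
      refine ⟨r, s, hQr, hqr, ?_, ?_, hQs, ?_, hcover⟩
      · rw [← D.nn_eq_ncard hr, hnrk, hk]; ring
      · rw [hc, hd2]
        have : q - 1 = 2 * c := by omega
        rw [this]; ring
      · rw [hd2]; omega
    · obtain ⟨hk, hcq2, hm2⟩ := h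
      rw [hnrk, hk, hc] at hmul
      have hd1 : d = 1 := by
        rcases hd with hd | hd
        · exact hd
        · exfalso
          rw [hd, ← hmul, hsq] at hcard
          have h3 : (1 + q * 1) * (q * c) = q * ((q + 1) * (q - 1)) := by
            have : q - 1 = c := by omega
            rw [this]; ring
          have hpos : 0 < (1 + q * 1) * (q * c) := by positivity
          omega
      refine ⟨r, s, hQr, hqr, ?_, ?_, hQs, ?_, hcover⟩
      · rw [← D.nn_eq_ncard hr, hnrk, hk]; ring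
      · rw [hc, hd1, mul_one]
        have : q - 1 = c := by omega
        rw [this]
      · rw [hd1, mul_one]; exact hm2
    · omega
  · exfalso
    obtain ⟨r, hr, s, hs, t, ht, -, -, -, hR, hq, hq', hq'', -⟩ := h
    obtain ⟨x, hx⟩ := hex
    obtain ⟨u, hu1⟩ := (Subgroup.ne_bot_iff_exists_ne_one).mp hx
    have hu1' : (u : L) ≠ 1 := fun h => hu1 (Subtype.ext h)
    have hxΩ : x ∈ D.Ω := D.mem_Ω.mpr ⟨u, hu1', D.Q_fix u.2⟩
    have h1 : rep L x ∈ D.R := Finset.mem_image_of_mem _ hxΩ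
    obtain ⟨g, hg⟩ := rep_mem_orbit (H := L) x
    have hg' : g • x = rep L x := hg
    have h2 : Nat.card (D.Q (rep L x)) = 1 := by
      rw [hR] at h1
      simp only [Finset.mem_insert, Finset.mem_singleton] at h1
      rcases h1 with h1 | h1 | h1 <;> rw [h1] <;> assumption
    rw [← hg', D.card_Q_smul] at h2
    exact hx (Subgroup.card_eq_one.mp h2)

end Cfsg.Agent.Lib.helper6.Dickson
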