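import Mathlib
import Cfsg.Agent.Lib.helper6.DicksonS
import Cfsg.Agent.Lib.helper3.DicksonAsm

set_option autoImplicit false

namespace Cfsg.Agent.Lib.helper6.Dickson

open MulAction

variable {H X : Type*} [Group H] [MulAction H X]

namespace DAct

variable {p : ℕ} (D : DAct H X p)
include D

/-- factorisation of the stabiliser of the base point of a short orbit -/
theorem stab_eq_Q_mul [Finite H] {r y : X}
    (hn : (orbit H r).ncard = Nat.card (D.Q r) + 1) (hy : y ∈ orbit H r) (hyr : y ≠ r)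
    {g : H} (hg : g • r = r) :
    ∃ u ∈ D.Q r, ∃ k : H, k • r = r ∧ k • y = y ∧ g = u * k := by
  have hgy : g • y ∈ orbit H r := by
    obtain ⟨g', rfl⟩ := hy
    exact ⟨g * g', by simp [mul_smul]⟩
  have hgy' : g • y ≠ r := by
    intro h
    apply hyr
    exact MulAction.injective g (h.trans hg.symm)
  obtain ⟨u, hu, huy⟩ := D.Q_trans hn hy hyr hgy hgy'
  have hux : u • r = r := D.Q_fix hu
  refine ⟨u, hu, u⁻¹ * g, ?_, ?_, by group⟩
  · rw [mul_smul, hg, inv_smul_eq_iff, hux]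
  · rw [mul_smul, ← huy, inv_smul_smul]

/-- a non-parabolic element of the stabiliser of the base point of a short orbit is conjugate,
under the parabolic subgroup, to an element of a two-point stabiliser -/
theorem conj_into [Finite H] {r y : X}
    (hn : (orbit H r).ncard = Nat.card (D.Q r) + 1) (hy : y ∈ orbit H r) (hyr : y ≠ r)
    {t : H} (ht : t • r = r) (htQ : t ∉ D.Q r) :
    ∃ u ∈ D.Q r, (u⁻¹ * t * u) • r = r ∧ (u⁻¹ * t * u) • y = y := by
  classical
  obtain ⟨u₁, hu₁, k₁, hk₁r, hk₁y, htk⟩ := D.stab_eq_Q_mul hn hy hyr ht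
  have hk₁1 : k₁ ≠ 1 := by
    rintro rfl
    rw [mul_one] at htk
    exact htQ (htk ▸ hu₁)
  have hk₁i : k₁⁻¹ • r = r := by rw [inv_smul_eq_iff, hk₁r]
  -- θ : u ↦ u k₁ u⁻¹ k₁⁻¹ is a bijection of Q r
  let θ : D.Q r → D.Q r := fun u => ⟨(u : H) * k₁ * (u : H)⁻¹ * k₁⁻¹, by
    have h1 : k₁ * (u : H)⁻¹ * k₁⁻¹ ∈ D.Q r := D.Q_conj_stab ((D.Q r).inv_mem u.2) hk₁r
    have : (u : H) * k₁ * (u : H)⁻¹ * k₁⁻¹ = (u : H) * (k₁ * (u : H)⁻¹ * k₁⁻¹) := by group
    rw [this]
    exact (D.Q r).mul_mem u.2 h1⟩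
  have hθinj : Function.Injective θ := by
    intro u u' huu
    have h1 : (u : H) * k₁ * (u : H)⁻¹ * k₁⁻¹ = (u' : H) * k₁ * (u' : H)⁻¹ * k₁⁻¹ :=
      congrArg Subtype.val huu
    have h2 : (u : H) * k₁ * (u : H)⁻¹ = (u' : H) * k₁ * (u' : H)⁻¹ := mul_right_cancel h1
    have h3 : ((u' : H)⁻¹ * (u : H)) * k₁ = k₁ * ((u' : H)⁻¹ * (u : H)) := by
      calc ((u' : H)⁻¹ * (u : H)) * k₁ = (u' : H)⁻¹ * ((u : H) * k₁ * (u : H)⁻¹) * (u : H) := by
            group
        _ = (u' : H)⁻¹ * ((u' : H) * k₁ * (u' : H)⁻¹) * (u : H) := by rw [h2]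
        _ = k₁ * ((u' : H)⁻¹ * (u : H)) := by group
    have hv : (u' : H)⁻¹ * (u : H) ∈ D.Q r := (D.Q r).mul_mem ((D.Q r).inv_mem u'.2) u.2
    have h4 : k₁ • (((u' : H)⁻¹ * (u : H)) • y) = ((u' : H)⁻¹ * (u : H)) • y := by
      rw [← mul_smul, ← h3, mul_smul, hk₁y]
    have h5 := D.fix_eq_of_two hk₁1 (Ne.symm hyr) hk₁r hk₁y h4
    have h6 : ((u' : H)⁻¹ * (u : H)) • y = y := by
      rcases h5 with h | h
      · exfalso
        have h7 := D.Q_fix hv
        have h8 := h.trans h7.symm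
        exact hyr (MulAction.injective _ h8)
      · exact h
    have h7 := D.Q_eq_one_of_fix hv h6 hyr
    apply Subtype.ext
    have : (u : H) = (u' : H) * ((u' : H)⁻¹ * (u : H)) := by group
    rw [this, h7, mul_one]
  have hθsurj : Function.Surjective θ := Finite.surjective_of_injective hθinj
  obtain ⟨u, hu⟩ := hθsurj ⟨u₁, hu₁⟩
  have h1 : (u : H) * k₁ * (u : H)⁻¹ * k₁⁻¹ = u₁ := congrArg Subtype.val hu
  have h2 : (u : H) * k₁ * (u : H)⁻¹ = t := by
    rw [htk, ← h1]; group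
  refine ⟨u, u.2, ?_, ?_⟩
  · have : (u : H)⁻¹ * t * (u : H) = k₁ := by rw [← h2]; group
    rw [this]; exact hk₁r
  · have : (u : H)⁻¹ * t * (u : H) = k₁ := by rw [← h2]; group
    rw [this]; exact hk₁y

/-- the second fixed point of a non-parabolic element of the stabiliser of the base point of a
short orbit lies in that orbit -/
theorem second_fixed_mem_orbit [Finite H] {r : X}
    (hn : (orbit H r).ncard = Nat.card (D.Q r) + 1) (hq2 : 2 ≤ Nat.card (D.Q r))
    {t : H} (ht1 : t ≠ 1) (ht : t • r = r) {z : X} (hz : t • z = z) : z ∈ orbit H r := by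
  by_cases hzr : z = r
  · rw [hzr]; exact mem_orbit_self r
  have htQ : t ∉ D.Q r := fun h => ht1 (D.Q_eq_one_of_fix h hz hzr)
  -- a point of the orbit different from r
  have hex : ∃ y, y ∈ orbit H r ∧ y ≠ r := by
    by_contra hcon
    push Not at hcon
    have hsub : orbit H r ⊆ {r} := fun y hy => hcon y hy
    have h1 : (orbit H r).ncard ≤ 1 := by
      have := Set.ncard_le_ncard hsub (Set.finite_singleton r)
      rwa [Set.ncard_singleton] at this
    omega
  obtain ⟨y, hy, hyr⟩ := hex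
  obtain ⟨u, hu, hur, huy⟩ := D.conj_into hn hy hyr ht htQ
  have hk1 : (u⁻¹ * t * u) ≠ 1 := by
    intro h
    apply ht1
    calc t = u * (u⁻¹ * t * u) * u⁻¹ := by group
      _ = 1 := by rw [h]; group
  have hfz : (u⁻¹ * t * u) • (u⁻¹ • z) = u⁻¹ • z := by
    rw [mul_smul, mul_smul, smul_inv_smul, hz]
  rcases D.fix_eq_of_two hk1 (Ne.symm hyr) hur huy hfz with h | h
  · exfalso
    apply hzr
    rw [inv_smul_eq_iff, D.Q_fix hu] at h
    exact h
  · rw [inv_smul_eq_iff] at h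
    rw [h]
    obtain ⟨g', rfl⟩ := hy
    exact ⟨u * g', by simp [mul_smul]⟩

end DAct

end Cfsg.Agent.Lib.helper6.Dickson
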