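import Mathlib
import Cfsg.Agent.Lib.helper6.DicksonT

set_option autoImplicit false

namespace Cfsg.Agent.Lib.helper6.Dickson

open MulAction

/-- the setwise stabiliser of a pair of points -/
def pairStab (H : Type*) [Group H] {X : Type*} [MulAction H X] (x y : X) : Subgroup H where
  carrier := {g | (g • x = x ∧ g • y = y) ∨ (g • x = y ∧ g • y = x)}
  one_mem' := Or.inl ⟨one_smul _ _, one_smul _ _⟩
  mul_mem' := by
    rintro a b (⟨h1, h2⟩ | ⟨h1, h2⟩) (⟨h3, h4⟩ | ⟨h3, h4⟩)
    · left; rw [mul_smul, mul_smul, h3, h4]; exact ⟨h1, h2⟩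
    · right; rw [mul_smul, mul_smul, h3, h4]; exact ⟨h2, h1⟩
    · right; rw [mul_smul, mul_smul, h3, h4]; exact ⟨h1, h2⟩
    · left; rw [mul_smul, mul_smul, h3, h4]; exact ⟨h2, h1⟩
  inv_mem' := by
    rintro a (⟨h1, h2⟩ | ⟨h1, h2⟩)
    · left; exact ⟨by rw [inv_smul_eq_iff, h1], by rw [inv_smul_eq_iff, h2]⟩
    · right; exact ⟨by rw [inv_smul_eq_iff, h2], by rw [inv_smul_eq_iff, h1]⟩

variable {H X : Type*} [Group H] [MulAction H X]

theorem mem_pairStab {x y : X} {g : H} :
    g ∈ pairStab H x y ↔ (g • x = x ∧ g • y = y) ∨ (g • x = y ∧ g • y = x) := Iff.rfl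

theorem inf_le_pairStab (x y : X) :
    (stabilizer H x ⊓ stabilizer H y : Subgroup H) ≤ pairStab H x y := by
  intro g hg
  exact Or.inl ⟨mem_stabilizer_iff.mp (Subgroup.mem_inf.mp hg).1,
    mem_stabilizer_iff.mp (Subgroup.mem_inf.mp hg).2⟩

namespace DAct

variable {p : ℕ} (D : DAct H X p)
include D

/-- an element conjugating a non-trivial two-point-fixing element into the two-point stabiliser
preserves the pair -/
theorem mem_pairStab_of_conj {x y : X} (hxy : x ≠ y) {t : H} (ht1 : t ≠ 1) (htx : t • x = x)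
    (hty : t • y = y) {g : H} (h1 : (g * t * g⁻¹) • x = x) (h2 : (g * t * g⁻¹) • y = y) :
    g ∈ pairStab H x y := by
  have hc1 : g * t * g⁻¹ ≠ 1 := by
    intro hc
    apply ht1
    calc t = g⁻¹ * (g * t * g⁻¹) * g := by group
      _ = 1 := by rw [hc]; group
  have f1 : (g * t * g⁻¹) • (g • x) = g • x := by
    rw [mul_smul, mul_smul, inv_smul_smul, htx]
  have f2 : (g * t * g⁻¹) • (g • y) = g • y := by
    rw [mul_smul, mul_smul, inv_smul_smul, hty]
  have hne : g • x ≠ g • y := fun h => hxy (MulAction.injective g h)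
  rcases D.fix_eq_of_two hc1 hxy h1 h2 f1 with e1 | e1 <;>
    rcases D.fix_eq_of_two hc1 hxy h1 h2 f2 with e2 | e2
  · exact absurd (e1.trans e2.symm) hne
  · exact Or.inl ⟨e1, e2⟩
  · exact Or.inr ⟨e1, e2⟩
  · exact absurd (e1.trans e2.symm) hne

/-- the setwise stabiliser of a pair with non-trivial two-point stabiliser and a swapping element
is dihedral -/
theorem pairStab_dihedral [Finite H] [Fact p.Prime] {x y : X} (hxy : x ≠ y)
    (hT : (stabilizer H x ⊓ stabilizer H y : Subgroup H) ≠ ⊥)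
    (hswap : ∃ g : H, g • x = y ∧ g • y = x) :
    Nonempty (pairStab H x y ≃*
      DihedralGroup (Nat.card ↥(stabilizer H x ⊓ stabilizer H y : Subgroup H))) := by
  have D' : DAct (pairStab H x y) X p := Cfsg.Agent.Lib.helper3.dk_restrict D (pairStab H x y)
  have hfix : ∀ n : pairStab H x y, n • x = x → n • y = y := by
    intro n hn
    rcases n.2 with ⟨_, h2⟩ | ⟨h1, _⟩
    · exact h2
    · exfalso
      have : (n : H) • x = x := hn
      exact hxy (this.symm.trans h1)
  have hQ : D'.Q x = ⊥ := by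
    rw [eq_bot_iff]
    intro u hu
    rw [Subgroup.mem_bot]
    rcases hu with rfl | hu
    · rfl
    · exfalso
      exact hxy (hu.2.2 y (hfix u hu.2.1)).symm
  obtain ⟨g₀, hg₀x, hg₀y⟩ := hswap
  have hg₀ : g₀ ∈ pairStab H x y := Or.inr ⟨hg₀x, hg₀y⟩
  have horb : orbit (pairStab H x y) x = {x, y} := by
    ext z
    constructor
    · rintro ⟨n, rfl⟩
      rcases n.2 with ⟨h1, _⟩ | ⟨h1, _⟩
      · left; exact h1
      · right; exact h1
    · rintro (rfl | rfl)
      · exact mem_orbit_self _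
      · exact ⟨⟨g₀, hg₀⟩, hg₀x⟩
  have hidx : (stabilizer (pairStab H x y) x).index = 2 := by
    rw [index_stabilizer, horb, Set.ncard_pair hxy]
  have hmap : (stabilizer (pairStab H x y) x).map (pairStab H x y).subtype =
      (stabilizer H x ⊓ stabilizer H y : Subgroup H) := by
    ext g
    rw [Subgroup.mem_map]
    constructor
    · rintro ⟨n, hn, rfl⟩
      have h1 : n • x = x := mem_stabilizer_iff.mp hn
      exact Subgroup.mem_inf.mpr ⟨mem_stabilizer_iff.mpr h1, mem_stabilizer_iff.mpr (hfix n h1)⟩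
    · intro hg
      refine ⟨⟨g, inf_le_pairStab x y hg⟩, ?_, rfl⟩
      exact mem_stabilizer_iff.mpr (mem_stabilizer_iff.mp (Subgroup.mem_inf.mp hg).1)
  have hcardeq : Nat.card (stabilizer (pairStab H x y) x) =
      Nat.card ↥(stabilizer H x ⊓ stabilizer H y : Subgroup H) := by
    rw [← hmap]
    exact (Subgroup.card_map_of_injective (Subgroup.subtype_injective _)).symm
  have hne : stabilizer (pairStab H x y) x ≠ ⊥ := by
    intro hb
    apply hT
    rw [← Subgroup.card_eq_one, ← hcardeq, hb, Subgroup.card_bot]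
  obtain ⟨s₀, ⟨e⟩, -, hs₀⟩ := D'.dihedral_of_index_two hQ hidx hne
  rw [hs₀, hcardeq] at e
  exact ⟨e⟩

/-- orders of `p'`-elements when there is a short parabolic orbit and one further orbit -/
theorem order_dvd_of_caseC [Finite H] {r s : X} {c : ℕ}
    (hn : (orbit H r).ncard = Nat.card (D.Q r) + 1)
    (hc : Nat.card (stabilizer H r) = Nat.card (D.Q r) * c)
    (hcover : ∀ x : X, (∃ g : H, g ≠ 1 ∧ g • x = x) → x ∈ orbit H r ∨ x ∈ orbit H s)
    (t : H) (ht : (orderOf t).Coprime p) :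
    orderOf t ∣ c ∨ orderOf t ∣ Nat.card (stabilizer H s) := by
  by_cases ht1 : t = 1
  · left; rw [ht1, orderOf_one]; exact one_dvd _
  obtain ⟨x, hx⟩ := D.fix_exists t
  have hconj : ∀ g : H, orderOf (g⁻¹ * t * g) = orderOf t := by
    intro g
    have := (MulAut.conj g⁻¹).orderOf_eq t
    rw [MulAut.conj_apply, inv_inv] at this
    exact this
  have hconj1 : ∀ g : H, g⁻¹ * t * g ≠ 1 := by
    intro g h
    apply ht1
    calc t = g * (g⁻¹ * t * g) * g⁻¹ := by group
      _ = 1 := by rw [h]; group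
  rcases hcover x ⟨t, ht1, hx⟩ with ⟨g, hg⟩ | ⟨g, hg⟩
  · left
    have hg' : g • r = x := hg
    have htr : (g⁻¹ * t * g) • r = r := by
      rw [mul_smul, mul_smul, hg', hx, ← hg', inv_smul_smul]
    have htQ : g⁻¹ * t * g ∉ D.Q r := by
      intro hQ
      have h1 := D.Q_pow hQ
      have h2 : orderOf (g⁻¹ * t * g) ∣ p := orderOf_dvd_of_pow_eq_one h1
      rw [hconj g] at h2
      have h3 : orderOf t = 1 := Nat.Coprime.eq_one_of_dvd ht h2
      exact ht1 (orderOf_eq_one_iff.mp h3)
    -- a point of the orbit different from r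
    have hex : ∃ y, y ∈ orbit H r ∧ y ≠ r := by
      by_contra hcon
      push Not at hcon
      have hsub : orbit H r ⊆ {r} := fun y hy => hcon y hy
      have h1 : (orbit H r).ncard ≤ 1 := by
        have := Set.ncard_le_ncard hsub (Set.finite_singleton r)
        rwa [Set.ncard_singleton] at this
      have : 0 < Nat.card (D.Q r) := Nat.card_pos
      omega
    obtain ⟨y, hy, hyr⟩ := hex
    obtain ⟨u, hu, hur, huy⟩ := D.conj_into hn hy hyr htr htQ
    have hmem : u⁻¹ * (g⁻¹ * t * g) * u ∈ (stabilizer H r ⊓ stabilizer H y : Subgroup H) :=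
      Subgroup.mem_inf.mpr ⟨mem_stabilizer_iff.mpr hur, mem_stabilizer_iff.mpr huy⟩
    have h1 := Subgroup.orderOf_dvd_natCard _ hmem
    have h2 : orderOf (u⁻¹ * (g⁻¹ * t * g) * u) = orderOf t := by
      have := (MulAut.conj u⁻¹).orderOf_eq (g⁻¹ * t * g)
      rw [MulAut.conj_apply, inv_inv] at this
      rw [this, hconj g]
    rw [h2] at h1
    have h3 := D.card_stab_eq_of_trans hn hy hyr
    rw [hc] at h3
    have h4 : c = Nat.card ↥(stabilizer H r ⊓ stabilizer H y : Subgroup H) :=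
      Nat.eq_of_mul_eq_mul_left Nat.card_pos h3
    rw [h4]; exact h1
  · right
    have hg' : g • s = x := hg
    have hts : (g⁻¹ * t * g) • s = s := by
      rw [mul_smul, mul_smul, hg', hx, ← hg', inv_smul_smul]
    have h1 := Subgroup.orderOf_dvd_natCard _ (mem_stabilizer_iff.mpr hts)
    rwa [hconj g] at h1

end DAct

end Cfsg.Agent.Lib.helper6.Dickson
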