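import Mathlib
import Cfsg.Agent.Lib.helper6.DicksonU

set_option autoImplicit false

namespace Cfsg.Agent.Lib.helper6.Dickson

open MulAction

variable {L X : Type*} [Group L] [MulAction L X] {p : ℕ} {D : DAct L X p} {q d : ℕ} {r s : X}

namespace Full

theorem hn (hF : Full D q d r s) : (orbit L r).ncard = Nat.card (D.Q r) + 1 := by
  rw [hF.orb, hF.cardQ]

/-- a second point of the short orbit -/
theorem exists_ne [Finite L] (hF : Full D q d r s) : ∃ y, y ∈ orbit L r ∧ y ≠ r := by
  by_contra hcon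
  push Not at hcon
  have hsub : orbit L r ⊆ {r} := fun y hy => hcon y hy
  have h1 : (orbit L r).ncard ≤ 1 := by
    have := Set.ncard_le_ncard hsub (Set.finite_singleton r)
    rwa [Set.ncard_singleton] at this
  have h2 := hF.orb
  have h3 := hF.cardQ
  have : 0 < Nat.card (D.Q r) := Nat.card_pos
  omega

/-- order of the two-point stabiliser in the short orbit -/
theorem card_inf [Finite L] (hF : Full D q d r s) {y : X} (hy : y ∈ orbit L r) (hyr : y ≠ r) :
    Nat.card ↥(stabilizer L r ⊓ stabilizer L y : Subgroup L) * d = q - 1 := by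
  have h3 := D.card_stab_eq_of_trans hF.hn hy hyr
  have h4 := hF.stabr
  rw [h3, hF.cardQ, mul_assoc] at h4
  have hq : 0 < q := by rw [← hF.cardQ]; exact Nat.card_pos
  exact Nat.eq_of_mul_eq_mul_left hq h4

/-- orders of `p'`-elements -/
theorem order_dvd [Finite L] (hF : Full D q d r s) (hd : 1 ≤ d) (t : L)
    (ht : (orderOf t).Coprime p) : orderOf t ∣ (q - 1) / d ∨ orderOf t ∣ (q + 1) / d := by
  obtain ⟨y, hy, hyr⟩ := hF.exists_ne
  have h1 := hF.card_inf hy hyr
  have h2 := D.card_stab_eq_of_trans hF.hn hy hyr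
  have h3 := hF.stabs
  have e1 : Nat.card ↥(stabilizer L r ⊓ stabilizer L y : Subgroup L) = (q - 1) / d := by
    rw [← h1, Nat.mul_div_cancel _ (by omega)]
  have e2 : Nat.card (stabilizer L s) = (q + 1) / d := by
    rw [← h3, Nat.mul_div_cancel _ (by omega)]
  rw [← e1, ← e2]
  exact D.order_dvd_of_caseC hF.hn h2 hF.cover t ht

/-- a pair of points of split type, with a swapping element -/
theorem plus_pair [Finite L] (hF : Full D q d r s) :
    ∃ y, y ≠ r ∧ Nat.card ↥(stabilizer L r ⊓ stabilizer L y : Subgroup L) * d = q - 1 ∧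
      ∃ g : L, g • r = y ∧ g • y = r := by
  obtain ⟨y, hy, hyr⟩ := hF.exists_ne
  refine ⟨y, hyr, hF.card_inf hy hyr, ?_⟩
  exact D.two_trans hF.hn (mem_orbit_self r) hy hy (mem_orbit_self r) (Ne.symm hyr) hyr

/-- a pair of points of non-split type, with a swapping element -/
theorem minus_pair [Finite L] [Fact p.Prime] (hF : Full D q d r s) (hq2 : 2 ≤ q) (hd : d ≤ 2) :
    ∃ y, y ≠ s ∧ Nat.card ↥(stabilizer L s ⊓ stabilizer L y : Subgroup L) * d = q + 1 ∧
      ∃ g : L, g • s = y ∧ g • y = s := by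
  have h3 := hF.stabs
  have hne : stabilizer L s ≠ ⊥ := by
    intro hb
    rw [hb, Subgroup.card_bot] at h3
    omega
  obtain ⟨y, hys, hy⟩ := D.stab_eq_inf_of_Q_bot hF.hQs hne
  refine ⟨y, hys, by rw [← hy]; exact h3, ?_⟩
  obtain ⟨t', ht1⟩ := (Subgroup.ne_bot_iff_exists_ne_one).mp hne
  obtain ⟨t, htmem, rfl⟩ : ∃ t : L, ∃ h : t ∈ stabilizer L s, t' = ⟨t, h⟩ := ⟨t'.1, t'.2, rfl⟩
  have ht1' : (t : L) ≠ 1 := fun h => ht1 (Subtype.ext h)
  have hts : (t : L) • s = s := mem_stabilizer_iff.mp htmem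
  have hle : stabilizer L s ≤ stabilizer L y := by
    rw [hy]; exact inf_le_right
  have hty : (t : L) • y = y := mem_stabilizer_iff.mp (hle htmem)
  -- y lies in the orbit of s
  have hyorb : y ∈ orbit L s := by
    rcases hF.cover y ⟨t, ht1', hty⟩ with h | h
    · exfalso
      obtain ⟨g, hg⟩ := h
      have hg' : g • r = y := hg
      have htr : (g⁻¹ * (t : L) * g) • r = r := by
        rw [mul_smul, mul_smul, hg', hty, ← hg', inv_smul_smul]
      have htz : (g⁻¹ * (t : L) * g) • (g⁻¹ • s) = g⁻¹ • s := by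
        rw [mul_smul, mul_smul, smul_inv_smul, hts]
      have hc1 : g⁻¹ * (t : L) * g ≠ 1 := by
        intro hc
        apply ht1'
        calc (t : L) = g * (g⁻¹ * (t : L) * g) * g⁻¹ := by group
          _ = 1 := by rw [hc]; group
      have hmem := D.second_fixed_mem_orbit hF.hn (by rw [hF.cardQ]; exact hq2) hc1 htr htz
      obtain ⟨g', hg'⟩ := hmem
      have hg'' : g' • r = g⁻¹ • s := hg'
      have hs : s = (g * g') • r := by rw [mul_smul, hg'', smul_inv_smul]
      have hQ := D.card_Q_smul (g * g') r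
      rw [← hs, hF.hQs, Subgroup.card_bot, hF.cardQ] at hQ
      omega
    · exact h
  obtain ⟨g, hg⟩ := hyorb
  have hg' : g • s = y := hg
  refine ⟨g, hg', ?_⟩
  have heq : stabilizer L s = stabilizer L y := by
    apply Subgroup.eq_of_le_of_card_ge hle
    rw [← hg', DAct.card_stab_smul]
  have hcs : (g * (t : L) * g⁻¹) • y = y := by
    rw [← hg', mul_smul, mul_smul, inv_smul_smul, hts]
  have hcs' : (g * (t : L) * g⁻¹) • s = s := by
    have : g * (t : L) * g⁻¹ ∈ stabilizer L s := by
      rw [heq]; exact mem_stabilizer_iff.mpr hcs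
    exact mem_stabilizer_iff.mp this
  have hc1 : g * (t : L) * g⁻¹ ≠ 1 := by
    intro hc
    apply ht1'
    calc (t : L) = g⁻¹ * (g * (t : L) * g⁻¹) * g := by group
      _ = 1 := by rw [hc]; group
  have hgy : (g * (t : L) * g⁻¹) • (g • y) = g • y := by
    rw [mul_smul, mul_smul, inv_smul_smul, hty]
  rcases D.fix_eq_of_two hc1 (Ne.symm hys) hcs' hcs hgy with h | h
  · exact h
  · exfalso
    have := h.trans hg'.symm
    exact hys (MulAction.injective g this)

end Full

end Cfsg.Agent.Lib.helper6.Dickson
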