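import Mathlib
import Cfsg.Agent.Lib.helper3.DicksonConcB
import Cfsg.Agent.Lib.helper3.DicksonAsm
import Cfsg.Agent.Lib.helper15.SL2Card
import Cfsg.Agent.Lib.helper6.OrbitTools
import Cfsg.Agent.S0265
import Cfsg.Agent.S0799

set_option autoImplicit false

namespace Cfsg.Agent.Lib.helper6.PSL2Index

open Matrix MulAction
open scoped Pointwise
open scoped LinearAlgebra.Projectivization MatrixGroups
open Cfsg.Agent.Lib.helper3

section Card

variable {F : Type*} [Field F] [Fintype F]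

theorem card_center_SL2 :
    Nat.card (Subgroup.center (Matrix.SpecialLinearGroup (Fin 2) F)) =
      Nat.gcd 2 (Fintype.card F - 1) := by
  have e := Matrix.SpecialLinearGroup.center_equiv_rootsOfUnity' (n := Fin 2) (R := F) 0
  rw [Nat.card_congr e.toEquiv, Fintype.card_fin]
  have h1 : (rootsOfUnity 2 F) = (powMonoidHom 2 : Fˣ →* Fˣ).ker := by
    ext x
    simp [mem_rootsOfUnity, MonoidHom.mem_ker]
  rw [h1, IsCyclic.card_powMonoidHom_ker, Nat.card_units, Nat.card_eq_fintype_card, Nat.gcd_comm]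

theorem card_PSL2_mul :
    Nat.card (Matrix.ProjectiveSpecialLinearGroup (Fin 2) F) * Nat.gcd 2 (Fintype.card F - 1) =
      Fintype.card F * (Fintype.card F ^ 2 - 1) := by
  have h2 := Subgroup.card_eq_card_quotient_mul_card_subgroup
    (Subgroup.center (Matrix.SpecialLinearGroup (Fin 2) F))
  rw [card_center_SL2, Cfsg.Agent.Lib.helper15.card_SL2] at h2
  exact h2.symm

theorem card_PGL2 :
    Nat.card (Matrix.ProjGenLinGroup (Fin 2) F) = Fintype.card F * (Fintype.card F ^ 2 - 1) := by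
  rw [Cfsg.Agent.S0265.result, Cfsg.Agent.Lib.helper15.card_SL2]

theorem card_projLine : Nat.card (ℙ F (Fin 2 → F)) = Fintype.card F + 1 := by
  classical
  let f : Option F → ℙ F (Fin 2 → F) := fun o =>
    match o with
    | none => dcE
    | some t => dcPt t
  have hf : Function.Bijective f := by
    constructor
    · intro a b hab
      rcases a with _ | a <;> rcases b with _ | b
      · rfl
      · exact absurd hab (dcE_ne_dcPt b)
      · exact absurd hab.symm (dcE_ne_dcPt a)
      · exact congrArg some (dcPt_injective hab)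
    · intro x
      rcases dc_cases x with rfl | ⟨t, rfl⟩
      · exact ⟨none, rfl⟩
      · exact ⟨some t, rfl⟩
  rw [← Nat.card_congr (Equiv.ofBijective f hf), Nat.card_eq_fintype_card, Fintype.card_option]

/-- a subgroup of index `q + 1` -/
theorem exists_index :
    ∃ B : Subgroup (Matrix.ProjectiveSpecialLinearGroup (Fin 2) F), B.index = Fintype.card F + 1 := by
  classical
  haveI : IsPretransitive SL(2,F) (ℙ F (Fin 2 → F)) := by
    refine ⟨fun x y => ?_⟩
    obtain ⟨P, hP⟩ := dc_exists_move x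
    obtain ⟨P', hP'⟩ := dc_exists_move y
    refine ⟨P' * P⁻¹, ?_⟩
    rw [mul_smul, ← hP, inv_smul_smul, hP']
  have h1 : (stabilizer SL(2,F) (dcE : ℙ F (Fin 2 → F))).index = Fintype.card F + 1 := by
    rw [index_stabilizer_of_transitive, card_projLine]
  have hle : (QuotientGroup.mk' (Subgroup.center SL(2,F))).ker ≤
      stabilizer SL(2,F) (dcE : ℙ F (Fin 2 → F)) := by
    rw [QuotientGroup.ker_mk']
    intro A hA
    rw [mem_stabilizer_iff, dc_smul_E_eq_iff]
    rw [Matrix.SpecialLinearGroup.mem_center_iff] at hA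
    obtain ⟨r, -, hr⟩ := hA
    rw [← hr]
    simp
  have h2 := Subgroup.index_map_eq (H := stabilizer SL(2,F) (dcE : ℙ F (Fin 2 → F)))
    (QuotientGroup.mk'_surjective (Subgroup.center SL(2,F))) hle
  rw [h1] at h2
  exact ⟨_, h2⟩

end Card


section TI

variable {G : Type*} [Group G] [Finite G] {p : ℕ} [Fact p.Prime]

/-- a trivial-intersection Sylow subgroup: the number of Sylow subgroups is `1` modulo its order -/
theorem card_dvd_card_sylow_sub_one (P : Sylow p G)
    (hTI : ∀ Q : Sylow p G, Q ≠ P → (P : Subgroup G) ⊓ (Q : Subgroup G) = ⊥) :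
    Nat.card (P : Subgroup G) ∣ Nat.card (Sylow p G) - 1 := by
  classical
  have hS : ({Q : Sylow p G | Q ≠ P}).ncard = Nat.card (Sylow p G) - 1 := by
    have h1 : ({Q : Sylow p G | Q ≠ P}) = (Set.univ : Set (Sylow p G)) \ {P} := by
      ext Q; simp
    rw [h1, Set.ncard_sdiff (Set.subset_univ _), Set.ncard_singleton, Set.ncard_univ]
  rw [← hS]
  apply Cfsg.Agent.Lib.helper6.dvd_ncard_of_invariant (Q := ↥(P : Subgroup G))
    (Nat.card (P : Subgroup G)) _ {Q : Sylow p G | Q ≠ P} (Set.toFinite _) rfl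
  · intro g Q hQ hgQ
    apply hQ
    have h1 : (g : G) • Q = P := hgQ
    have h2 : (g : G) • P = P :=
      Sylow.smul_eq_iff_mem_normalizer.mpr (Subgroup.le_normalizer g.2)
    have h3 : (g : G) • Q = (g : G) • P := h1.trans h2.symm
    exact MulAction.injective _ h3
  · intro Q hQ
    have h1 := Cfsg.Agent.Lib.helper6.ncard_orbit_mul_card_stabilizer (Q := ↥(P : Subgroup G)) Q
    have h2 : stabilizer ↥(P : Subgroup G) Q = ⊥ := by
      rw [Subgroup.eq_bot_iff_forall]
      intro g hg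
      have h3 : (g : G) • Q = Q := mem_stabilizer_iff.mp hg
      have h4 : (g : G) ∈ Subgroup.normalizer (Q : Set G) :=
        Sylow.smul_eq_iff_mem_normalizer.mp h3
      have h5 : (g : G) ∈ (P : Subgroup G) ⊓ Subgroup.normalizer (Q : Set G) :=
        Subgroup.mem_inf.mpr ⟨g.2, h4⟩
      rw [P.2.inf_normalizer_sylow Q, hTI Q hQ, Subgroup.mem_bot] at h5
      exact Subtype.ext h5
    rw [h2, Subgroup.card_bot, mul_one] at h1
    exact h1

end TI


section Count

open Cfsg.Agent.Lib.helper6.Dickson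

variable {F : Type*} [Field F] [Fintype F]

theorem sq_sub_one_eq (q : ℕ) (hq : 1 ≤ q) : q ^ 2 - 1 = (q + 1) * (q - 1) := by
  obtain ⟨m, rfl⟩ : ∃ m, q = m + 1 := ⟨q - 1, by omega⟩
  rw [show (m + 1) ^ 2 = m ^ 2 + 2 * m + 1 by ring]
  simp only [Nat.add_sub_cancel]
  ring

theorem coprime_card_gcd (q : ℕ) (hq : 1 ≤ q) : Nat.Coprime q (Nat.gcd 2 (q - 1)) := by
  have h1 : Nat.Coprime q (q - 1) := by
    obtain ⟨m, rfl⟩ : ∃ m, q = m + 1 := ⟨q - 1, by omega⟩
    simp
  exact Nat.Coprime.coprime_dvd_right (Nat.gcd_dvd_right 2 (q - 1)) h1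

/-- the number of Sylow `p`-subgroups of `PSL₂(q)` is at least `q + 1` -/
theorem card_sylow_ge (p : ℕ) [Fact p.Prime] [CharP F p] (h4 : 4 ≤ Fintype.card F) :
    Fintype.card F + 1 ≤ Nat.card (Sylow p (Matrix.ProjectiveSpecialLinearGroup (Fin 2) F)) := by
  classical
  have hpP : p.Prime := Fact.out
  obtain ⟨X, inst, D⟩ := Cfsg.Agent.Lib.helper3.psl2_dact (F := F) p
  letI : MulAction (Matrix.ProjectiveSpecialLinearGroup (Fin 2) F) X := inst
  haveI : IsSimpleGroup (Matrix.ProjectiveSpecialLinearGroup (Fin 2) F) :=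
    Matrix.ProjectiveSpecialLinearGroup.rank_two_simple (by rw [Nat.card_eq_fintype_card]; exact h4)
  obtain ⟨n, -, hqn⟩ := FiniteField.card F p
  obtain ⟨q, hq⟩ : ∃ q, q = Fintype.card F := ⟨_, rfl⟩
  rw [← hq] at hqn h4 ⊢
  have hcard := card_PSL2_mul (F := F)
  rw [← hq] at hcard
  obtain ⟨N, hN⟩ : ∃ N, N = Nat.card (Matrix.ProjectiveSpecialLinearGroup (Fin 2) F) := ⟨_, rfl⟩
  rw [← hN] at hcard
  have hNpos : 0 < N := by rw [hN]; exact Nat.card_pos
  have hqN : q ∣ N := by
    have h1 : q ∣ N * Nat.gcd 2 (q - 1) := by rw [hcard]; exact dvd_mul_right _ _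
    exact (coprime_card_gcd q (by omega)).dvd_of_dvd_mul_right h1
  -- an element of order p
  have hpN : p ∣ N := by
    refine dvd_trans ?_ hqN
    rw [hqn]
    exact dvd_pow_self p n.pos.ne'
  obtain ⟨u, hu⟩ := exists_prime_orderOf_dvd_card' (G := Matrix.ProjectiveSpecialLinearGroup (Fin 2) F)
    p (by rw [← hN]; exact hpN)
  have hu1 : u ≠ 1 := by
    intro h
    rw [h, orderOf_one] at hu
    exact hpP.one_lt.ne hu
  obtain ⟨r, hr⟩ := D.fix_exists u
  have hpar : IsPar r u := Cfsg.Agent.Lib.helper3.dk_isPar_of_pow D hu1 hr (k := 1)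
    (by rw [pow_one, ← hu]; exact pow_orderOf_eq_one u)
  have huQ : u ∈ D.Q r := Or.inr hpar
  have hQne : D.Q r ≠ ⊥ := by
    intro h
    rw [h, Subgroup.mem_bot] at huQ
    exact hu1 huQ
  obtain ⟨P, hP⟩ := Cfsg.Agent.Lib.helper3.dk_sylow_eq_Q D r hQne
  -- the order of P
  have hqP : q ∣ Nat.card (P : Subgroup (Matrix.ProjectiveSpecialLinearGroup (Fin 2) F)) := by
    rw [P.card_eq_multiplicity, ← hN, hqn]
    apply pow_dvd_pow
    exact (hpP.pow_dvd_iff_le_factorization hNpos.ne').mp (hqn ▸ hqN)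
  -- trivial intersections
  have hTI : ∀ Q' : Sylow p (Matrix.ProjectiveSpecialLinearGroup (Fin 2) F), Q' ≠ P →
      (P : Subgroup (Matrix.ProjectiveSpecialLinearGroup (Fin 2) F)) ⊓
        (Q' : Subgroup (Matrix.ProjectiveSpecialLinearGroup (Fin 2) F)) = ⊥ := by
    intro Q' hQ'
    obtain ⟨g, hg⟩ := MulAction.exists_smul_eq (Matrix.ProjectiveSpecialLinearGroup (Fin 2) F) P Q'
    have hgr : g • r ≠ r := by
      intro h
      apply hQ'
      rw [← hg]
      apply Sylow.smul_eq_iff_mem_normalizer.mpr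
      have h1 := Cfsg.Agent.Lib.helper3.dk_stab_le_normalizer D r (mem_stabilizer_iff.mpr h)
      have h2 : ((P : Subgroup (Matrix.ProjectiveSpecialLinearGroup (Fin 2) F)) :
          Set (Matrix.ProjectiveSpecialLinearGroup (Fin 2) F)) = (D.Q r : Set _) := by rw [hP]
      rw [← h2] at h1
      exact h1
    rw [Subgroup.eq_bot_iff_forall]
    intro x hx
    obtain ⟨hx1, hx2⟩ := Subgroup.mem_inf.mp hx
    rw [hP] at hx1
    have hx3 : g⁻¹ * x * g ∈ D.Q r := by
      rw [← hg] at hx2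
      have h1 : x ∈ (MulAut.conj g • (P : Subgroup (Matrix.ProjectiveSpecialLinearGroup (Fin 2) F))) := hx2
      rw [Subgroup.mem_pointwise_smul_iff_inv_smul_mem] at h1
      rw [hP] at h1
      simpa [MulAut.smul_def, MulAut.conj_inv_apply] using h1
    have hx4 : g * (g⁻¹ * x * g) * g⁻¹ ∈ D.Q (g • r) := D.Q_conj hx3 g
    have hx5 : g * (g⁻¹ * x * g) * g⁻¹ = x := by group
    rw [hx5] at hx4
    exact D.Q_inf (Ne.symm hgr) hx1 hx4
  have hdvd := card_dvd_card_sylow_sub_one P hTI
  -- not normal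
  have hne1 : Nat.card (Sylow p (Matrix.ProjectiveSpecialLinearGroup (Fin 2) F)) ≠ 1 := by
    intro h1
    haveI : Subsingleton (Sylow p (Matrix.ProjectiveSpecialLinearGroup (Fin 2) F)) :=
      (Nat.card_eq_one_iff_unique.mp h1).1
    have hnorm := Sylow.normal_of_subsingleton P
    rcases hnorm.eq_bot_or_eq_top with h | h
    · rw [hP] at h
      exact hQne h
    · obtain ⟨k, hk⟩ := IsPGroup.iff_card.mp P.2
      have hk' : Nat.card (P : Subgroup (Matrix.ProjectiveSpecialLinearGroup (Fin 2) F)) = p ^ k := hk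
      rw [h, Subgroup.card_top, ← hN] at hk'
      rw [hk', sq_sub_one_eq q (by omega)] at hcard
      have h5 : (q + 1) ∣ p ^ k * Nat.gcd 2 (q - 1) := by
        rw [hcard]
        exact Dvd.dvd.mul_left (dvd_mul_right _ _) q
      have hcop : Nat.Coprime (q + 1) (p ^ k) := by
        apply Nat.Coprime.pow_right
        rw [Nat.coprime_comm, Nat.Prime.coprime_iff_not_dvd hpP]
        intro h6
        have h7 : p ∣ q := by rw [hqn]; exact dvd_pow_self p n.pos.ne'
        have h8 : p ∣ 1 := (Nat.dvd_add_right h7).mp h6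
        exact hpP.one_lt.ne' (Nat.dvd_one.mp h8)
      have h9 := hcop.dvd_of_dvd_mul_left h5
      have h10 : Nat.gcd 2 (q - 1) ≤ 2 := Nat.le_of_dvd (by norm_num) (Nat.gcd_dvd_left 2 (q - 1))
      have h11 := Nat.le_of_dvd (Nat.gcd_pos_of_pos_left _ (by norm_num)) h9
      omega
  have hpos : 0 < Nat.card (Sylow p (Matrix.ProjectiveSpecialLinearGroup (Fin 2) F)) := Nat.card_pos
  have hle1 : Nat.card (P : Subgroup (Matrix.ProjectiveSpecialLinearGroup (Fin 2) F)) ≤
      Nat.card (Sylow p (Matrix.ProjectiveSpecialLinearGroup (Fin 2) F)) - 1 :=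
    Nat.le_of_dvd (by omega) hdvd
  have hle2 : q ≤ Nat.card (P : Subgroup (Matrix.ProjectiveSpecialLinearGroup (Fin 2) F)) :=
    Nat.le_of_dvd Nat.card_pos hqP
  omega


/-- numerics for the exceptional subgroups -/
theorem small_numerics (q N h : ℕ) (hq4 : 4 ≤ q) (hq5 : q ≠ 5) (hq7 : q ≠ 7) (hq9 : q ≠ 9)
    (hq11 : q ≠ 11) (hcard : N * Nat.gcd 2 (q - 1) = q * (q ^ 2 - 1)) (hh : h = 12 ∨ h = 24 ∨ h = 60)
    (hdvd : h ∣ N) (hne : h ≠ N) : h * (q + 1) ≤ N := by
  rcases Nat.lt_or_ge q 13 with hlt | hge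
  · interval_cases q
    · have : Nat.gcd 2 (4 - 1) = 1 := by decide
      rw [this] at hcard
      norm_num at hcard
      rcases hh with rfl | rfl | rfl <;> omega
    · exact absurd rfl hq5
    · have : Nat.gcd 2 (6 - 1) = 1 := by decide
      rw [this] at hcard
      norm_num at hcard
      rcases hh with rfl | rfl | rfl <;> omega
    · exact absurd rfl hq7
    · have : Nat.gcd 2 (8 - 1) = 1 := by decide
      rw [this] at hcard
      norm_num at hcard
      rcases hh with rfl | rfl | rfl <;> omega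
    · exact absurd rfl hq9
    · have : Nat.gcd 2 (10 - 1) = 1 := by decide
      rw [this] at hcard
      norm_num at hcard
      rcases hh with rfl | rfl | rfl <;> omega
    · exact absurd rfl hq11
    · have : Nat.gcd 2 (12 - 1) = 1 := by decide
      rw [this] at hcard
      norm_num at hcard
      rcases hh with rfl | rfl | rfl <;> omega
  · have hd : Nat.gcd 2 (q - 1) ≤ 2 := Nat.le_of_dvd (by norm_num) (Nat.gcd_dvd_left 2 (q - 1))
    have hd0 : 0 < Nat.gcd 2 (q - 1) := Nat.gcd_pos_of_pos_left _ (by norm_num)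
    rw [sq_sub_one_eq q (by omega)] at hcard
    have h1 : h * 2 ≤ q * (q - 1) := by
      have h2 : 13 * 12 ≤ q * (q - 1) := Nat.mul_le_mul hge (by omega)
      rcases hh with rfl | rfl | rfl <;> omega
    have h3 : h * (q + 1) * Nat.gcd 2 (q - 1) ≤ N * Nat.gcd 2 (q - 1) := by
      rw [hcard]
      calc h * (q + 1) * Nat.gcd 2 (q - 1) ≤ h * (q + 1) * 2 := Nat.mul_le_mul_left _ hd
        _ = (h * 2) * (q + 1) := by ring
        _ ≤ (q * (q - 1)) * (q + 1) := Nat.mul_le_mul_right _ h1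
        _ = q * ((q + 1) * (q - 1)) := by ring
    exact Nat.le_of_mul_le_mul_right h3 hd0

section Main

variable {F : Type*} [Field F] [Fintype F]

/-- Galois: proper subgroups of `PSL₂(q)` have index at least `q + 1` for `q ∉ {2,3,5,7,9,11}` -/
theorem index_ge {q : ℕ} (hF : Fintype.card F = q) (hq : q ∉ ({2, 3, 5, 7, 9, 11} : Finset ℕ))
    (H : Subgroup (Matrix.ProjectiveSpecialLinearGroup (Fin 2) F)) (hH : H ≠ ⊤) :
    q + 1 ≤ H.index := by
  classical
  obtain ⟨p, hchar⟩ := CharP.exists F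
  haveI : Fact p.Prime := ⟨CharP.char_is_prime F p⟩
  have hq2 : 2 ≤ q := by rw [← hF]; exact Fintype.one_lt_card
  simp only [Finset.mem_insert, Finset.mem_singleton, not_or] at hq
  obtain ⟨hq2', hq3, hq5, hq7, hq9, hq11⟩ := hq
  have hq4 : 4 ≤ q := by omega
  have hcard := card_PSL2_mul (F := F)
  rw [hF] at hcard
  obtain ⟨N, hN⟩ : ∃ N, N = Nat.card (Matrix.ProjectiveSpecialLinearGroup (Fin 2) F) := ⟨_, rfl⟩
  rw [← hN] at hcard
  have hd : Nat.gcd 2 (q - 1) ≤ 2 := Nat.le_of_dvd (by norm_num) (Nat.gcd_dvd_left 2 (q - 1))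
  have hd0 : 0 < Nat.gcd 2 (q - 1) := Nat.gcd_pos_of_pos_left _ (by norm_num)
  have hidx : Nat.card H * H.index = N := by rw [hN]; exact H.card_mul_index
  have hHpos : 0 < Nat.card H := Nat.card_pos
  have hHne : Nat.card H ≠ N := by
    intro h
    apply hH
    apply (Subgroup.card_eq_iff_eq_top H).mp
    rw [h, hN]
  -- it suffices to bound the order
  suffices hsuff : Nat.card H * (q + 1) ≤ N by
    rw [← hidx] at hsuff
    exact Nat.le_of_mul_le_mul_left hsuff hHpos
  have hstar : Nat.card H * Nat.gcd 2 (q - 1) ≤ q * (q - 1) → Nat.card H * (q + 1) ≤ N := by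
    intro h1
    have h3 : Nat.card H * (q + 1) * Nat.gcd 2 (q - 1) ≤ N * Nat.gcd 2 (q - 1) := by
      rw [hcard, sq_sub_one_eq q (by omega)]
      calc Nat.card H * (q + 1) * Nat.gcd 2 (q - 1)
          = (Nat.card H * Nat.gcd 2 (q - 1)) * (q + 1) := by ring
        _ ≤ (q * (q - 1)) * (q + 1) := Nat.mul_le_mul_right _ h1
        _ = q * ((q + 1) * (q - 1)) := by ring
    exact Nat.le_of_mul_le_mul_right h3 hd0
  have hqq : 2 * (q + 1) ≤ q * (q - 1) := by
    have : 4 * (q - 1) ≤ q * (q - 1) := Nat.mul_le_mul_right _ hq4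
    omega
  rcases Cfsg.Agent.S0799.result hF p H with h | h | h | h | h | h
  · -- cyclic or dihedral
    obtain ⟨k, hk, hk2⟩ := h
    have hkd : k * Nat.gcd 2 (q - 1) ≤ q + 1 := by
      rcases hk with hk | hk
      · have hpos : 0 < (q + 1) / Nat.gcd 2 (q - 1) := Nat.div_pos (by omega) hd0
        have := Nat.le_of_dvd hpos hk
        calc k * Nat.gcd 2 (q - 1) ≤ (q + 1) / Nat.gcd 2 (q - 1) * Nat.gcd 2 (q - 1) :=
              Nat.mul_le_mul_right _ this
          _ ≤ q + 1 := Nat.div_mul_le_self _ _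
      · have hpos : 0 < (q - 1) / Nat.gcd 2 (q - 1) := Nat.div_pos (by omega) hd0
        have := Nat.le_of_dvd hpos hk
        calc k * Nat.gcd 2 (q - 1) ≤ (q - 1) / Nat.gcd 2 (q - 1) * Nat.gcd 2 (q - 1) :=
              Nat.mul_le_mul_right _ this
          _ ≤ q - 1 := Nat.div_mul_le_self _ _
          _ ≤ q + 1 := by omega
    apply hstar
    rcases hk2 with ⟨-, hc⟩ | ⟨⟨e⟩⟩
    · rw [hc]; omega
    · rw [Nat.card_congr e.toEquiv, DihedralGroup.nat_card]
      calc 2 * k * Nat.gcd 2 (q - 1) = 2 * (k * Nat.gcd 2 (q - 1)) := by ring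
        _ ≤ 2 * (q + 1) := Nat.mul_le_mul_left _ hkd
        _ ≤ q * (q - 1) := hqq
  · -- inside a Sylow normaliser
    obtain ⟨P, K, hK, ⟨e⟩⟩ := h
    rw [Nat.card_congr e.toEquiv]
    have h1 := Subgroup.card_le_of_le hK
    have h2 := card_sylow_ge (F := F) p (by rw [hF]; exact hq4)
    rw [hF, P.card_eq_index_normalizer] at h2
    have h3 := (Subgroup.normalizer ((P : Subgroup (Matrix.ProjectiveSpecialLinearGroup (Fin 2) F)) :
      Set (Matrix.ProjectiveSpecialLinearGroup (Fin 2) F))).card_mul_index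
    rw [← hN] at h3
    calc Nat.card K * (q + 1) ≤ Nat.card (Subgroup.normalizer
          ((P : Subgroup (Matrix.ProjectiveSpecialLinearGroup (Fin 2) F)) :
            Set (Matrix.ProjectiveSpecialLinearGroup (Fin 2) F))) * (q + 1) :=
          Nat.mul_le_mul_right _ h1
      _ ≤ _ := Nat.mul_le_mul_left _ h2
      _ = N := h3
  · obtain ⟨e⟩ := h
    have hc : Nat.card H = 12 := by
      rw [Nat.card_congr e.toEquiv, nat_card_alternatingGroup, Nat.card_eq_fintype_card, Fintype.card_fin]; rfl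
    have hdvd : Nat.card H ∣ N := by rw [hN]; exact Subgroup.card_subgroup_dvd_card H
    exact small_numerics q N _ hq4 hq5 hq7 hq9 hq11 hcard (Or.inl hc) hdvd hHne
  · obtain ⟨e⟩ := h
    have hc : Nat.card H = 24 := by
      rw [Nat.card_congr e.toEquiv, Nat.card_perm, Nat.card_eq_fintype_card, Fintype.card_fin]; rfl
    have hdvd : Nat.card H ∣ N := by rw [hN]; exact Subgroup.card_subgroup_dvd_card H
    exact small_numerics q N _ hq4 hq5 hq7 hq9 hq11 hcard (Or.inr (Or.inl hc)) hdvd hHne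
  · obtain ⟨e⟩ := h
    have hc : Nat.card H = 60 := by
      rw [Nat.card_congr e.toEquiv, nat_card_alternatingGroup, Nat.card_eq_fintype_card, Fintype.card_fin]; rfl
    have hdvd : Nat.card H ∣ N := by rw [hN]; exact Subgroup.card_subgroup_dvd_card H
    exact small_numerics q N _ hq4 hq5 hq7 hq9 hq11 hcard (Or.inr (Or.inr hc)) hdvd hHne
  · -- subfield subgroups
    obtain ⟨K, iK, iKf, m, hKm, hiso⟩ := h
    obtain ⟨q₀, hq₀⟩ : ∃ q₀, q₀ = Fintype.card K := ⟨_, rfl⟩
    have hq₀2 : 2 ≤ q₀ := by rw [hq₀]; exact Fintype.one_lt_card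
    rw [← hq₀] at hKm
    have hK1 := card_PSL2_mul (F := K)
    have hK2 := card_PGL2 (F := K)
    rw [← hq₀] at hK1 hK2
    have hd₀ : 0 < Nat.gcd 2 (q₀ - 1) := Nat.gcd_pos_of_pos_left _ (by norm_num)
    rcases Nat.lt_or_ge m 2 with hm | hm
    · interval_cases m
      · rw [pow_zero] at hKm; omega
      · rw [pow_one] at hKm
        subst hKm
        exfalso
        rcases hiso with ⟨⟨e⟩⟩ | ⟨⟨e⟩⟩
        · have h1 : Nat.card H = Nat.card (Matrix.ProjectiveSpecialLinearGroup (Fin 2) K) :=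
            Nat.card_congr e.toEquiv
          rw [← h1, ← hcard] at hK1
          exact hHne (Nat.eq_of_mul_eq_mul_right hd0 hK1)
        · have h1 : Nat.card H = Nat.card (Matrix.ProjGenLinGroup (Fin 2) K) :=
            Nat.card_congr e.toEquiv
          rw [← h1, ← hcard] at hK2
          have h2 : Nat.card H ≤ N := by
            rw [← hidx]; exact Nat.le_mul_of_pos_right _ (Nat.pos_of_ne_zero (fun h0 => by
              rw [h0, mul_zero] at hidx; rw [← hidx] at hK2; omega))
          have h3 : Nat.gcd 2 (q₀ - 1) = 1 ∨ Nat.gcd 2 (q₀ - 1) = 2 := by omega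
          rcases h3 with h3 | h3
          · rw [h3, mul_one] at hK2
            exact hHne hK2
          · rw [h3] at hK2
            have hNpos : 0 < N := by rw [hN]; exact Nat.card_pos
            omega
    · apply hstar
      have hsq : q₀ ^ 2 ≤ q := by
        rw [← hKm]; exact Nat.pow_le_pow_right (by omega) hm
      have hHle : Nat.card H ≤ q₀ * (q₀ ^ 2 - 1) := by
        rcases hiso with ⟨⟨e⟩⟩ | ⟨⟨e⟩⟩
        · rw [Nat.card_congr e.toEquiv, ← hK1]
          exact Nat.le_mul_of_pos_right _ hd₀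
        · rw [Nat.card_congr e.toEquiv, hK2]
      have h2q : 2 * q₀ ≤ q₀ ^ 2 := by
        rw [pow_two]; exact Nat.mul_le_mul_right _ hq₀2
      calc Nat.card H * Nat.gcd 2 (q - 1) ≤ (q₀ * (q₀ ^ 2 - 1)) * 2 := Nat.mul_le_mul hHle hd
        _ = (2 * q₀) * (q₀ ^ 2 - 1) := by ring
        _ ≤ q₀ ^ 2 * (q₀ ^ 2 - 1) := Nat.mul_le_mul_right _ h2q
        _ ≤ q * (q - 1) := Nat.mul_le_mul hsq (by omega)

end Main

end Count

end Cfsg.Agent.Lib.helper6.PSL2Index
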