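import Mathlib
import Cfsg.Agent.Lib.helper6.PSL2Index

set_option autoImplicit false

namespace Cfsg.Agent.Lib.helper6.PSL2Max

open MulAction
open scoped Pointwise commutatorElement
open Cfsg.Agent.Lib.helper6.Dickson

/-- metabelian groups, elementwise -/
def Meta (G : Type*) [Group G] : Prop := ∀ a b c d : G, ⁅⁅a, b⁆, ⁅c, d⁆⁆ = 1

theorem Meta.of_injective {G G' : Type*} [Group G] [Group G'] (f : G →* G')
    (hf : Function.Injective f) (h : Meta G') : Meta G := by
  intro a b c d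
  apply hf
  rw [map_one, map_commutatorElement, map_commutatorElement, map_commutatorElement]
  exact h _ _ _ _

theorem Meta.of_equiv {G G' : Type*} [Group G] [Group G'] (e : G ≃* G') (h : Meta G') : Meta G :=
  Meta.of_injective e.toMonoidHom e.injective h

theorem Meta.subgroup {G : Type*} [Group G] {A B : Subgroup G} (hAB : A ≤ B) (h : Meta B) :
    Meta A :=
  Meta.of_injective (Subgroup.inclusion hAB) (Subgroup.inclusion_injective hAB) h

theorem Meta.of_comm {G : Type*} [Group G] (h : ∀ a b : G, a * b = b * a) : Meta G := by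
  intro a b c d
  rw [commutatorElement_def, h (⁅a, b⁆) (⁅c, d⁆)]
  group

theorem comm_of_isCyclic {G : Type*} [Group G] [IsCyclic G] (a b : G) : a * b = b * a := by
  obtain ⟨g, hg⟩ := IsCyclic.exists_generator (α := G)
  obtain ⟨i, rfl⟩ := Subgroup.mem_zpowers_iff.mp (hg a)
  obtain ⟨j, rfl⟩ := Subgroup.mem_zpowers_iff.mp (hg b)
  rw [← zpow_add, ← zpow_add, add_comm]

theorem Meta.of_isCyclic {G : Type*} [Group G] [IsCyclic G] : Meta G :=
  Meta.of_comm comm_of_isCyclic

/-- in a dihedral group commutators are rotations -/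
theorem dihedral_comm_rot (k : ℕ) (x y : DihedralGroup k) : ∃ i, ⁅x, y⁆ = DihedralGroup.r i := by
  rw [commutatorElement_def]
  rcases x with i | i <;> rcases y with j | j
  · exact ⟨0, by simp⟩
  · exact ⟨_, by simp; rfl⟩
  · exact ⟨_, by simp; rfl⟩
  · exact ⟨_, by simp; rfl⟩

theorem meta_dihedral (k : ℕ) : Meta (DihedralGroup k) := by
  intro a b c d
  obtain ⟨i, hi⟩ := dihedral_comm_rot k a b
  obtain ⟨j, hj⟩ := dihedral_comm_rot k c d
  rw [hi, hj, commutatorElement_def]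
  simp

theorem not_meta_S4 : ¬ Meta (Equiv.Perm (Fin 4)) := by
  intro h
  have := h (Equiv.swap 0 1) (Equiv.swap 0 2) (Equiv.swap 0 1) (Equiv.swap 0 3)
  revert this
  decide

set_option maxRecDepth 100000 in
theorem not_meta_A5 : ¬ Meta (alternatingGroup (Fin 5)) := by
  intro h
  let a : alternatingGroup (Fin 5) := ⟨Equiv.swap 0 1 * Equiv.swap 1 2, by rw [Equiv.Perm.mem_alternatingGroup]; decide⟩
  let b : alternatingGroup (Fin 5) := ⟨Equiv.swap 0 1 * Equiv.swap 1 3, by rw [Equiv.Perm.mem_alternatingGroup]; decide⟩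
  let c : alternatingGroup (Fin 5) := ⟨Equiv.swap 0 1 * Equiv.swap 1 4, by rw [Equiv.Perm.mem_alternatingGroup]; decide⟩
  have h1 := h a b a c
  have h2 := congrArg (fun x : alternatingGroup (Fin 5) => (x : Equiv.Perm (Fin 5))) h1
  simp only [commutatorElement_def, a, b, c, Subgroup.coe_mul, Subgroup.coe_inv, Subgroup.coe_one] at h2
  revert h2
  decide


section Borel

variable {L X : Type*} [Group L] [Finite L] [MulAction L X] {p : ℕ} [Fact p.Prime]

/-- every Sylow `p`-subgroup is a parabolic subgroup -/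
theorem sylow_eq_Q_all (D : DAct L X p) (hp : p ∣ Nat.card L) (P : Sylow p L) :
    ∃ r : X, (P : Subgroup L) = D.Q r ∧ D.Q r ≠ ⊥ := by
  have hpP : p.Prime := Fact.out
  obtain ⟨u, hu⟩ := exists_prime_orderOf_dvd_card' (G := L) p hp
  have hu1 : u ≠ 1 := by
    intro h
    rw [h, orderOf_one] at hu
    exact hpP.one_lt.ne hu
  obtain ⟨r₀, hr₀⟩ := D.fix_exists u
  have hpar : IsPar r₀ u := Cfsg.Agent.Lib.helper3.dk_isPar_of_pow D hu1 hr₀ (k := 1)
    (by rw [pow_one, ← hu]; exact pow_orderOf_eq_one u)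
  have huQ : u ∈ D.Q r₀ := Or.inr hpar
  have hQne : D.Q r₀ ≠ ⊥ := by
    intro h
    rw [h, Subgroup.mem_bot] at huQ
    exact hu1 huQ
  obtain ⟨P₀, hP₀⟩ := Cfsg.Agent.Lib.helper3.dk_sylow_eq_Q D r₀ hQne
  obtain ⟨g, hg⟩ := MulAction.exists_smul_eq L P₀ P
  refine ⟨g • r₀, ?_, ?_⟩
  · ext x
    rw [← hg]
    have h1 : x ∈ (g • P₀ : Sylow p L) ↔ x ∈ (MulAut.conj g • (P₀ : Subgroup L)) := Iff.rfl
    rw [Sylow.coe_subgroup_smul, Subgroup.mem_pointwise_smul_iff_inv_smul_mem, hP₀]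
    have h2 : (MulAut.conj g)⁻¹ • x = g⁻¹ * x * g := by
      simp [MulAut.smul_def, MulAut.conj_inv_apply]
    rw [h2]
    constructor
    · intro hx
      have h3 := D.Q_conj hx g
      have h4 : g * (g⁻¹ * x * g) * g⁻¹ = x := by group
      rwa [h4] at h3
    · intro hx
      have h3 := D.Q_conj hx g⁻¹
      rwa [inv_smul_smul, inv_inv] at h3
  · intro h
    have h1 := D.Q_conj huQ g
    rw [h, Subgroup.mem_bot] at h1
    apply hu1
    calc u = g⁻¹ * (g * u * g⁻¹) * g := by group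
      _ = 1 := by rw [h1]; group

theorem normalizer_Q_le_stab (D : DAct L X p) {r : X} (hQ : D.Q r ≠ ⊥) :
    Subgroup.normalizer ((D.Q r : Subgroup L) : Set L) ≤ stabilizer L r := by
  intro n hn
  rw [Subgroup.mem_set_normalizer_iff] at hn
  obtain ⟨u, hu1⟩ := (Subgroup.ne_bot_iff_exists_ne_one).mp hQ
  have hu1' : (u : L) ≠ 1 := fun h => hu1 (Subtype.ext h)
  have h1 : n * (u : L) * n⁻¹ ∈ D.Q r := (hn u).mp u.2
  have h2 : n * (u : L) * n⁻¹ ∈ D.Q (n • r) := D.Q_conj u.2 n
  rw [mem_stabilizer_iff]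
  by_contra hne
  have h3 := D.Q_inf (Ne.symm hne) h1 h2
  apply hu1'
  calc (u : L) = n⁻¹ * (n * (u : L) * n⁻¹) * n := by group
    _ = 1 := by rw [h3]; group

theorem borel_meta (D : DAct L X p) (hp : p ∣ Nat.card L) (P : Sylow p L) (K : Subgroup L)
    (hK : K ≤ Subgroup.normalizer ((P : Subgroup L) : Set L)) :
    Meta K ∧ ∀ a b : K, ⁅a, b⁆ ^ p = 1 := by
  obtain ⟨r, hP, hQ⟩ := sylow_eq_Q_all D hp P
  have hKr : ∀ a : K, (a : L) • r = r := by
    intro a
    have h1 := hK a.2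
    rw [hP] at h1
    exact mem_stabilizer_iff.mp (normalizer_Q_le_stab D hQ h1)
  have hcomm : ∀ a b : K, ((⁅a, b⁆ : K) : L) ∈ D.Q r := by
    intro a b
    have := D.comm_mem_Q (hKr a) (hKr b)
    rw [commutatorElement_def]
    simpa using this
  refine ⟨?_, ?_⟩
  · intro a b c d
    apply Subtype.ext
    have h1 := D.Q_comm (hcomm a b) (hcomm c d)
    rw [commutatorElement_def]
    simp only [Subgroup.coe_mul, Subgroup.coe_inv, Subgroup.coe_one]
    rw [h1]
    group
  · intro a b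
    apply Subtype.ext
    have := D.Q_pow (hcomm a b)
    simpa using this

end Borel

section PSL

variable {F : Type*} [Field F] [Fintype F]

theorem p_dvd_card_PSL2 (p : ℕ) [Fact p.Prime] [CharP F p] :
    p ∣ Nat.card (Matrix.ProjectiveSpecialLinearGroup (Fin 2) F) := by
  obtain ⟨n, -, hqn⟩ := FiniteField.card F p
  have hcard := Cfsg.Agent.Lib.helper6.PSL2Index.card_PSL2_mul (F := F)
  have hq1 : 1 ≤ Fintype.card F := Fintype.card_pos
  have h1 : Fintype.card F ∣ Nat.card (Matrix.ProjectiveSpecialLinearGroup (Fin 2) F) *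
      Nat.gcd 2 (Fintype.card F - 1) := by rw [hcard]; exact dvd_mul_right _ _
  have h2 := (Cfsg.Agent.Lib.helper6.PSL2Index.coprime_card_gcd _ hq1).dvd_of_dvd_mul_right h1
  refine dvd_trans ?_ h2
  rw [hqn]
  exact dvd_pow_self p n.pos.ne'

/-- subgroups of Sylow normalisers of `PSL₂(q)` are metabelian with commutators of order `p` -/
theorem psl_borel (p : ℕ) [Fact p.Prime] [CharP F p]
    (P : Sylow p (Matrix.ProjectiveSpecialLinearGroup (Fin 2) F))
    (K : Subgroup (Matrix.ProjectiveSpecialLinearGroup (Fin 2) F))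
    (hK : K ≤ Subgroup.normalizer ((P : Subgroup (Matrix.ProjectiveSpecialLinearGroup (Fin 2) F)) :
      Set (Matrix.ProjectiveSpecialLinearGroup (Fin 2) F))) :
    Meta K ∧ ∀ a b : K, ⁅a, b⁆ ^ p = 1 := by
  obtain ⟨X, inst, D⟩ := Cfsg.Agent.Lib.helper3.psl2_dact (F := F) p
  letI : MulAction (Matrix.ProjectiveSpecialLinearGroup (Fin 2) F) X := inst
  exact borel_meta D (p_dvd_card_PSL2 p) P K hK


/-- a subgroup isomorphic to `PSL₂` or `PGL₂` over a field of the same order is everything -/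
theorem eq_top_of_same_field {K : Type*} [Field K] [Fintype K]
    (hK : Fintype.card K = Fintype.card F)
    (M : Subgroup (Matrix.ProjectiveSpecialLinearGroup (Fin 2) F))
    (hiso : Nonempty (M ≃* Matrix.ProjectiveSpecialLinearGroup (Fin 2) K) ∨
      Nonempty (M ≃* Matrix.ProjGenLinGroup (Fin 2) K)) : M = ⊤ := by
  have hcard := Cfsg.Agent.Lib.helper6.PSL2Index.card_PSL2_mul (F := F)
  have hK1 := Cfsg.Agent.Lib.helper6.PSL2Index.card_PSL2_mul (F := K)
  have hK2 := Cfsg.Agent.Lib.helper6.PSL2Index.card_PGL2 (F := K)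
  rw [hK] at hK1 hK2
  have hd0 : 0 < Nat.gcd 2 (Fintype.card F - 1) := Nat.gcd_pos_of_pos_left _ (by norm_num)
  have hd : Nat.gcd 2 (Fintype.card F - 1) ≤ 2 :=
    Nat.le_of_dvd (by norm_num) (Nat.gcd_dvd_left 2 _)
  have hle : Nat.card M ≤ Nat.card (Matrix.ProjectiveSpecialLinearGroup (Fin 2) F) :=
    Nat.card_le_card_of_injective _ (Subgroup.subtype_injective M)
  apply (Subgroup.card_eq_iff_eq_top M).mp
  rcases hiso with ⟨⟨e⟩⟩ | ⟨⟨e⟩⟩
  · rw [Nat.card_congr e.toEquiv]
    rw [← hcard] at hK1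
    exact Nat.eq_of_mul_eq_mul_right hd0 hK1
  · have h1 : Nat.card M = Nat.card (Matrix.ProjGenLinGroup (Fin 2) K) := Nat.card_congr e.toEquiv
    rw [← h1, ← hcard] at hK2
    have hNpos : 0 < Nat.card (Matrix.ProjectiveSpecialLinearGroup (Fin 2) F) := Nat.card_pos
    have h3 : Nat.gcd 2 (Fintype.card F - 1) = 1 ∨ Nat.gcd 2 (Fintype.card F - 1) = 2 := by omega
    rcases h3 with h3 | h3
    · rw [h3, mul_one] at hK2
      exact hK2
    · rw [h3] at hK2
      omega

theorem meta_of_cyc_dih {G : Type*} [Group G] (k : ℕ)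
    (h : IsCyclic G ∨ Nonempty (G ≃* DihedralGroup k)) : Meta G := by
  rcases h with h | ⟨⟨e⟩⟩
  · exact Meta.of_isCyclic
  · exact Meta.of_equiv e (meta_dihedral k)

theorem card_lt_of_lt {G : Type*} [Group G] [Finite G] {A B : Subgroup G} (h : A < B) :
    Nat.card A < Nat.card B ∧ Nat.card A ∣ Nat.card B := by
  refine ⟨?_, Subgroup.card_dvd_of_le h.le⟩
  by_contra hle
  push Not at hle
  exact h.ne (Subgroup.eq_of_le_of_card_ge h.le hle)

end PSL

end Cfsg.Agent.Lib.helper6.PSL2Max
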