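import Mathlib
import Cfsg.Agent.Lib.helper6.DicksonS
import Cfsg.Agent.Lib.helper6.PSL2Max

set_option autoImplicit false

namespace Cfsg.Agent.Lib.helper6.PSL2Struct

open MulAction
open Cfsg.Agent.Lib.helper6.Dickson Cfsg.Agent.Lib.helper6.PSL2Index Cfsg.Agent.Lib.helper6.PSL2Max

variable {F : Type*} [Field F] [Fintype F]

/-- the order of a Sylow `p`-subgroup of `PSL₂(q)` is `q` -/
theorem card_sylow_PSL2 (p : ℕ) [Fact p.Prime] [CharP F p]
    (P : Sylow p (Matrix.ProjectiveSpecialLinearGroup (Fin 2) F)) :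
    Nat.card (P : Subgroup (Matrix.ProjectiveSpecialLinearGroup (Fin 2) F)) = Fintype.card F := by
  have hpP : p.Prime := Fact.out
  obtain ⟨n, -, hqn⟩ := FiniteField.card F p
  obtain ⟨q, hq⟩ : ∃ q, q = Fintype.card F := ⟨_, rfl⟩
  rw [← hq] at hqn ⊢
  have hq1 : 1 ≤ q := by rw [hq]; exact Fintype.card_pos
  have hcard := card_PSL2_mul (F := F)
  rw [← hq] at hcard
  obtain ⟨N, hN⟩ : ∃ N, N = Nat.card (Matrix.ProjectiveSpecialLinearGroup (Fin 2) F) := ⟨_, rfl⟩
  rw [← hN] at hcard
  have hNpos : 0 < N := by rw [hN]; exact Nat.card_pos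
  have hqN : q ∣ N := by
    have h1 : q ∣ N * Nat.gcd 2 (q - 1) := by rw [hcard]; exact dvd_mul_right _ _
    exact (coprime_card_gcd q hq1).dvd_of_dvd_mul_right h1
  have hqP : q ∣ Nat.card (P : Subgroup (Matrix.ProjectiveSpecialLinearGroup (Fin 2) F)) := by
    rw [P.card_eq_multiplicity, ← hN, hqn]
    apply pow_dvd_pow
    exact (hpP.pow_dvd_iff_le_factorization hNpos.ne').mp (hqn ▸ hqN)
  obtain ⟨k, hk⟩ := IsPGroup.iff_card.mp P.2
  have hk' : Nat.card (P : Subgroup (Matrix.ProjectiveSpecialLinearGroup (Fin 2) F)) = p ^ k := hk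
  have hPN : p ^ k ∣ N := by
    rw [← hk', hN]; exact Subgroup.card_subgroup_dvd_card _
  have hPq : p ^ k ∣ q := by
    have h1 : p ^ k ∣ q * (q ^ 2 - 1) := by
      rw [← hcard]; exact Dvd.dvd.mul_right hPN _
    have hcop : Nat.Coprime (p ^ k) (q ^ 2 - 1) := by
      apply Nat.Coprime.pow_left
      rw [Nat.Prime.coprime_iff_not_dvd hpP, sq_sub_one_eq q hq1]
      intro h6
      have h7 : p ∣ q := by rw [hqn]; exact dvd_pow_self p n.pos.ne'
      rcases (hpP.dvd_mul).mp h6 with h8 | h8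
      · have h9 : p ∣ 1 := (Nat.dvd_add_right h7).mp h8
        exact hpP.one_lt.ne' (Nat.dvd_one.mp h9)
      · have h9 : p ∣ 1 := by
          have : q = (q - 1) + 1 := by omega
          rw [this] at h7
          exact (Nat.dvd_add_right h8).mp h7
        exact hpP.one_lt.ne' (Nat.dvd_one.mp h9)
    exact hcop.dvd_of_dvd_mul_right h1
  rw [hk'] at hqP ⊢
  exact Nat.dvd_antisymm hPq hqP

/-- the full orbit structure of `PSL₂(q)` on the projective line over the algebraic closure -/
theorem psl_full {X : Type*} [MulAction (Matrix.ProjectiveSpecialLinearGroup (Fin 2) F) X]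
    (p : ℕ) [Fact p.Prime] [CharP F p] (h4 : 4 ≤ Fintype.card F)
    (D : DAct (Matrix.ProjectiveSpecialLinearGroup (Fin 2) F) X p) :
    ∃ r s : X, Full D (Fintype.card F) (Nat.gcd 2 (Fintype.card F - 1)) r s := by
  classical
  have hpP : p.Prime := Fact.out
  haveI : IsSimpleGroup (Matrix.ProjectiveSpecialLinearGroup (Fin 2) F) :=
    Matrix.ProjectiveSpecialLinearGroup.rank_two_simple (by rw [Nat.card_eq_fintype_card]; exact h4)
  have hpL := p_dvd_card_PSL2 (F := F) p
  have hd : Nat.gcd 2 (Fintype.card F - 1) = 1 ∨ Nat.gcd 2 (Fintype.card F - 1) = 2 := by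
    have h1 : Nat.gcd 2 (Fintype.card F - 1) ≤ 2 :=
      Nat.le_of_dvd (by norm_num) (Nat.gcd_dvd_left 2 _)
    have h2 : 0 < Nat.gcd 2 (Fintype.card F - 1) := Nat.gcd_pos_of_pos_left _ (by norm_num)
    omega
  have hQ : ∀ x : X, D.Q x ≠ ⊥ → Nat.card (D.Q x) = Fintype.card F := by
    intro x hx
    obtain ⟨P, hP⟩ := Cfsg.Agent.Lib.helper3.dk_sylow_eq_Q D x hx
    rw [← hP]
    exact card_sylow_PSL2 p P
  obtain ⟨P₀⟩ : Nonempty (Sylow p (Matrix.ProjectiveSpecialLinearGroup (Fin 2) F)) := inferInstance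
  obtain ⟨r₀, hP₀, hr₀⟩ := sylow_eq_Q_all D hpL P₀
  have hnp := card_sylow_ge (F := F) p h4
  have hnofix : ∀ x : X, ∃ g : Matrix.ProjectiveSpecialLinearGroup (Fin 2) F, g • x ≠ x := by
    intro x
    by_contra hall
    push Not at hall
    by_cases hQx : D.Q x = ⊥
    · -- cyclic of order prime to p
      have htop : stabilizer (Matrix.ProjectiveSpecialLinearGroup (Fin 2) F) x = ⊤ := by
        rw [eq_top_iff]; intro g _; exact mem_stabilizer_iff.mpr (hall g)
      have h1 := D.coprime_stab_of_Q_bot hQx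
      rw [htop, Subgroup.card_top] at h1
      exact (Nat.Prime.coprime_iff_not_dvd hpP).mp h1.symm hpL
    · -- normal Sylow
      obtain ⟨P, hP⟩ := Cfsg.Agent.Lib.helper3.dk_sylow_eq_Q D x hQx
      have hnorm : (P : Subgroup (Matrix.ProjectiveSpecialLinearGroup (Fin 2) F)).Normal := by
        rw [hP]
        constructor
        intro u hu g
        exact D.Q_conj_stab hu (hall g)
      have h1 := Sylow.unique_of_normal P hnorm
      have h2 : Nat.card (Sylow p (Matrix.ProjectiveSpecialLinearGroup (Fin 2) F)) = 1 := by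
        haveI := h1
        exact Nat.card_unique
      omega
  have hno2 : ∀ A : Subgroup (Matrix.ProjectiveSpecialLinearGroup (Fin 2) F), A.index ≠ 2 := by
    intro A hA
    have hnorm := Subgroup.normal_of_index_eq_two hA
    rcases hnorm.eq_bot_or_eq_top with h | h
    · rw [h, Subgroup.index_bot] at hA
      have h1 := card_PSL2_mul (F := F)
      rw [hA] at h1
      have h3 : 4 * (4 ^ 2 - 1) ≤ Fintype.card F * (Fintype.card F ^ 2 - 1) :=
        Nat.mul_le_mul h4 (Nat.sub_le_sub_right (Nat.pow_le_pow_left h4 2) 1)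
      rcases hd with hd | hd <;> rw [hd] at h1 <;> omega
    · rw [h, Subgroup.index_top] at hA
      omega
  exact full_of_card D h4 hd card_PSL2_mul hQ ⟨r₀, hr₀⟩ hnofix hno2

end Cfsg.Agent.Lib.helper6.PSL2Struct
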