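import Mathlib
import Cfsg.Agent.Lib.helper6.PSL2Max

set_option autoImplicit false

namespace Cfsg.Agent.Lib.helper6.PSL2Max

open scoped commutatorElement

/-- elements of order dividing three commute -/
def C3 (G : Type*) [Group G] : Prop := ∀ x y : G, x ^ 3 = 1 → y ^ 3 = 1 → x * y = y * x

theorem C3.of_injective {G G' : Type*} [Group G] [Group G'] (f : G →* G')
    (hf : Function.Injective f) (h : C3 G') : C3 G := by
  intro x y hx hy
  apply hf
  rw [map_mul, map_mul]
  apply h
  · rw [← map_pow, hx, map_one]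
  · rw [← map_pow, hy, map_one]

theorem C3.of_equiv {G G' : Type*} [Group G] [Group G'] (e : G ≃* G') (h : C3 G') : C3 G :=
  C3.of_injective e.toMonoidHom e.injective h

theorem C3.subgroup {G : Type*} [Group G] {A B : Subgroup G} (hAB : A ≤ B) (h : C3 B) : C3 A :=
  C3.of_injective (Subgroup.inclusion hAB) (Subgroup.inclusion_injective hAB) h

theorem c3_dihedral (k : ℕ) : C3 (DihedralGroup k) := by
  intro x y hx hy
  rcases x with i | i
  · rcases y with j | j
    · simp [add_comm]
    · exfalso
      rw [pow_succ, pow_two, DihedralGroup.sr_mul_sr, sub_self, DihedralGroup.r_mul_sr,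
        DihedralGroup.one_def] at hy
      cases hy
  · exfalso
    rw [pow_succ, pow_two, DihedralGroup.sr_mul_sr, sub_self, DihedralGroup.r_mul_sr,
      DihedralGroup.one_def] at hx
    cases hx

theorem c3_of_cyc_dih {G : Type*} [Group G] (k : ℕ)
    (h : IsCyclic G ∨ Nonempty (G ≃* DihedralGroup k)) : C3 G := by
  rcases h with h | ⟨⟨e⟩⟩
  · intro x y _ _
    exact comm_of_isCyclic x y
  · exact C3.of_equiv e (c3_dihedral k)

theorem not_c3_A4 : ¬ C3 (alternatingGroup (Fin 4)) := by
  intro h
  let a : alternatingGroup (Fin 4) := ⟨Equiv.swap 0 1 * Equiv.swap 1 2, by rw [Equiv.Perm.mem_alternatingGroup]; decide⟩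
  let b : alternatingGroup (Fin 4) := ⟨Equiv.swap 0 1 * Equiv.swap 1 3, by rw [Equiv.Perm.mem_alternatingGroup]; decide⟩
  have h1 := h a b (by apply Subtype.ext; simp only [a, Subgroup.coe_pow, Subgroup.coe_one]; decide)
    (by apply Subtype.ext; simp only [b, Subgroup.coe_pow, Subgroup.coe_one]; decide)
  have h2 := congrArg (fun x : alternatingGroup (Fin 4) => (x : Equiv.Perm (Fin 4))) h1
  simp only [a, b, Subgroup.coe_mul] at h2
  revert h2
  decide

/-- commutators have order dividing `p` -/
def CP (G : Type*) [Group G] (p : ℕ) : Prop := ∀ a b : G, ⁅a, b⁆ ^ p = 1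

theorem CP.of_injective {G G' : Type*} [Group G] [Group G'] {p : ℕ} (f : G →* G')
    (hf : Function.Injective f) (h : CP G' p) : CP G p := by
  intro a b
  apply hf
  rw [map_pow, map_commutatorElement, map_one]
  exact h _ _

theorem CP.of_equiv {G G' : Type*} [Group G] [Group G'] {p : ℕ} (e : G ≃* G') (h : CP G' p) :
    CP G p :=
  CP.of_injective e.toMonoidHom e.injective h

theorem CP.subgroup {G : Type*} [Group G] {p : ℕ} {A B : Subgroup G} (hAB : A ≤ B) (h : CP B p) :
    CP A p :=
  CP.of_injective (Subgroup.inclusion hAB) (Subgroup.inclusion_injective hAB) h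

theorem not_cp_A4 (p : ℕ) (hp : Odd p) : ¬ CP (alternatingGroup (Fin 4)) p := by
  intro h
  let a : alternatingGroup (Fin 4) := ⟨Equiv.swap 0 1 * Equiv.swap 1 2, by rw [Equiv.Perm.mem_alternatingGroup]; decide⟩
  let b : alternatingGroup (Fin 4) := ⟨Equiv.swap 0 1 * Equiv.swap 1 3, by rw [Equiv.Perm.mem_alternatingGroup]; decide⟩
  have h1 := h a b
  have h2 : (⁅a, b⁆ : alternatingGroup (Fin 4)) ^ 2 = 1 := by
    apply Subtype.ext
    simp only [commutatorElement_def, a, b, Subgroup.coe_pow, Subgroup.coe_mul, Subgroup.coe_inv,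
      Subgroup.coe_one]
    decide
  have h3 : (⁅a, b⁆ : alternatingGroup (Fin 4)) ≠ 1 := by
    intro h4
    have h5 := congrArg (fun x : alternatingGroup (Fin 4) => (x : Equiv.Perm (Fin 4))) h4
    simp only [commutatorElement_def, a, b, Subgroup.coe_mul, Subgroup.coe_inv,
      Subgroup.coe_one] at h5
    revert h5
    decide
  apply h3
  obtain ⟨m, hm⟩ := hp
  have h6 : (⁅a, b⁆ : alternatingGroup (Fin 4)) ^ p = ⁅a, b⁆ := by
    rw [hm, pow_succ, pow_mul, h2, one_pow, one_mul]
  rw [← h6, h1]

end Cfsg.Agent.Lib.helper6.PSL2Max
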