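import Mathlib
import Cfsg.Agent.Lib.helper6.PSL2MaxB

set_option autoImplicit false

namespace Cfsg.Agent.Lib.helper6.PSL2Tor

open Cfsg.Agent.Lib.helper6.PSL2Max

theorem dihedral_not_comm {n : ℕ} (hn : 3 ≤ n) :
    ¬ ∀ a b : DihedralGroup n, a * b = b * a := by
  intro h
  have h1 := h (DihedralGroup.r 1) (DihedralGroup.sr 0)
  rw [DihedralGroup.r_mul_sr, DihedralGroup.sr_mul_r] at h1
  have h2 : (0 : ZMod n) - 1 = 0 + 1 := DihedralGroup.sr.inj h1
  have h3 : ((2 : ℕ) : ZMod n) = 0 := by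
    have : (2 : ZMod n) = 0 := by linear_combination -h2
    exact_mod_cast this
  have h4 := (ZMod.natCast_eq_zero_iff 2 n).mp h3
  have := Nat.le_of_dvd (by norm_num) h4
  omega

theorem c3_of_index_two {G : Type*} [Group G] (A : Subgroup G) (hA : A.index = 2) (h : C3 A) :
    C3 G := by
  have hmem : ∀ x : G, x ^ 3 = 1 → x ∈ A := by
    intro x hx
    have h1 : x * x ∈ A := Subgroup.mul_self_mem_of_index_two hA x
    have h2 : x = (x * x) * (x * x) := by
      calc x = x * x ^ 3 := by rw [hx, mul_one]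
        _ = (x * x) * (x * x) := by rw [pow_succ, pow_two]; simp only [mul_assoc]
    rw [h2]
    exact A.mul_mem h1 h1
  intro x y hx hy
  have := h ⟨x, hmem x hx⟩ ⟨y, hmem y hy⟩ (Subtype.ext hx) (Subtype.ext hy)
  exact congrArg Subtype.val this

set_option maxRecDepth 100000 in
theorem pow_S4 : ∀ g : Equiv.Perm (Fin 4), g ^ 4 = 1 ∨ g ^ 3 = 1 := by decide

set_option maxRecDepth 100000 in
theorem pow_A5 : ∀ g : alternatingGroup (Fin 5), g ^ 2 = 1 ∨ g ^ 3 = 1 ∨ g ^ 5 = 1 := by decide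

set_option maxRecDepth 100000 in
theorem pow_A4 : ∀ g : alternatingGroup (Fin 4), g ^ 2 = 1 ∨ g ^ 3 = 1 := by decide

theorem order_S4 (g : Equiv.Perm (Fin 4)) : orderOf g ∣ 4 ∨ orderOf g ∣ 3 := by
  rcases pow_S4 g with h | h
  · left; exact orderOf_dvd_of_pow_eq_one h
  · right; exact orderOf_dvd_of_pow_eq_one h

theorem order_A5 (g : alternatingGroup (Fin 5)) :
    orderOf g ∣ 2 ∨ orderOf g ∣ 3 ∨ orderOf g ∣ 5 := by
  rcases pow_A5 g with h | h | h
  · left; exact orderOf_dvd_of_pow_eq_one h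
  · right; left; exact orderOf_dvd_of_pow_eq_one h
  · right; right; exact orderOf_dvd_of_pow_eq_one h

theorem order_A4 (g : alternatingGroup (Fin 4)) : orderOf g ∣ 2 ∨ orderOf g ∣ 3 := by
  rcases pow_A4 g with h | h
  · left; exact orderOf_dvd_of_pow_eq_one h
  · right; exact orderOf_dvd_of_pow_eq_one h

/-- the two possible values of `gcd 2 (q - 1)` -/
theorem gcd_two_cases (q : ℕ) (hq : 1 ≤ q) :
    (Nat.gcd 2 (q - 1) = 1 ∧ q % 2 = 0) ∨ (Nat.gcd 2 (q - 1) = 2 ∧ q % 2 = 1) := by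
  rcases Nat.even_or_odd (q - 1) with h | h
  · right
    refine ⟨Nat.gcd_eq_left (even_iff_two_dvd.mp h), ?_⟩
    obtain ⟨k, hk⟩ := h
    omega
  · left
    refine ⟨Nat.coprime_two_left.mpr h, ?_⟩
    obtain ⟨k, hk⟩ := h
    omega

end Cfsg.Agent.Lib.helper6.PSL2Tor
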