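import Mathlib
import Cfsg.Agent.Lib.helper6.DicksonR
import Cfsg.Agent.Lib.helper6.PSL2TorA
import Cfsg.Agent.Lib.helper6.PSL2Index

set_option autoImplicit false

namespace Cfsg.Agent.Lib.helper6.PSL2Tor

open MulAction
open Cfsg.Agent.Lib.helper6.Dickson Cfsg.Agent.Lib.helper6.PSL2Index
open Cfsg.Agent.Lib.helper6.PSL2Max

set_option maxHeartbeats 1600000 in
/-- the normaliser of a maximal torus of a group of `PSL₂(q)` type is a maximal subgroup,
with the classical exceptions -/
theorem coatom_pairStab {L X : Type*} [Group L] [Finite L] [MulAction L X] {p : ℕ}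
    [Fact p.Prime] (D : DAct L X p) {q d f : ℕ} {r s : X} (hF : Full D q d r s)
    (hq4 : 4 ≤ q) (hqp : q = p ^ f) (hd : d = Nat.gcd 2 (q - 1))
    (hcard : Nat.card L * d = q * (q ^ 2 - 1))
    {x y : X} (hxy : x ≠ y) {m' : ℕ}
    (hT : Nat.card ↥(stabilizer L x ⊓ stabilizer L y : Subgroup L) = m')
    (hswap : ∃ g : L, g • x = y ∧ g • y = x)
    (hm' : (m' * d = q - 1 ∧ q ≠ 5 ∧ q ≠ 7 ∧ q ≠ 9 ∧ q ≠ 11) ∨
      (m' * d = q + 1 ∧ q ≠ 7 ∧ q ≠ 9)) :
    IsCoatom (pairStab L x y) ∧ Nonempty (pairStab L x y ≃* DihedralGroup m') := by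
  classical
  have hpP : p.Prime := Fact.out
  have hd12 := gcd_two_cases q (by omega)
  rw [← hd] at hd12
  have hd1 : 1 ≤ d := by rcases hd12 with ⟨h1, _⟩ | ⟨h1, _⟩ <;> omega
  have hd2 : d ≤ 2 := by rcases hd12 with ⟨h1, _⟩ | ⟨h1, _⟩ <;> omega
  have hm3 : 3 ≤ m' := by
    rcases hd12 with ⟨h1, h2⟩ | ⟨h1, h2⟩ <;> rcases hm' with ⟨h3, _⟩ | ⟨h3, _⟩ <;>
      rw [h1] at h3 <;> omega
  have hTne : (stabilizer L x ⊓ stabilizer L y : Subgroup L) ≠ ⊥ := by
    intro hb
    rw [hb, Subgroup.card_bot] at hT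
    omega
  obtain ⟨e⟩ := D.pairStab_dihedral hxy hTne hswap
  rw [hT] at e
  have hNcard : Nat.card (pairStab L x y) = 2 * m' := by
    rw [Nat.card_congr e.toEquiv, DihedralGroup.nat_card]
  -- a generator of the torus
  haveI := D.two_cyc x y hxy
  obtain ⟨t₀', ht₀'⟩ := IsCyclic.exists_generator
    (α := ↥(stabilizer L x ⊓ stabilizer L y : Subgroup L))
  have hord' : orderOf t₀' = m' := by
    rw [orderOf_eq_card_of_forall_mem_zpowers ht₀', hT]
  obtain ⟨t₀, ht₀mem, rfl⟩ : ∃ t₀ : L, ∃ h : t₀ ∈ (stabilizer L x ⊓ stabilizer L y : Subgroup L),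
      t₀' = ⟨t₀, h⟩ := ⟨t₀'.1, t₀'.2, rfl⟩
  have hord : orderOf t₀ = m' := by rw [← hord', Subgroup.orderOf_mk]
  have hcop : m'.Coprime p := by rw [← hT]; exact D.coprime_inf hxy
  have ht₀1 : t₀ ≠ 1 := by
    intro h
    rw [h, orderOf_one] at hord
    omega
  have ht₀x : t₀ • x = x := mem_stabilizer_iff.mp (Subgroup.mem_inf.mp ht₀mem).1
  have ht₀y : t₀ • y = y := mem_stabilizer_iff.mp (Subgroup.mem_inf.mp ht₀mem).2
  have hq2ge : 4 * q ≤ q ^ 2 := by nlinarith
  have hLpos : 0 < Nat.card L := Nat.card_pos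
  have hbig : 2 * (q + 1) * 2 < q * (q ^ 2 - 1) := by
    have h1 : 4 * q - 1 ≤ q ^ 2 - 1 := Nat.sub_le_sub_right hq2ge 1
    have h2 : 4 * (q ^ 2 - 1) ≤ q * (q ^ 2 - 1) := Nat.mul_le_mul_right _ hq4
    omega
  have hm'le : m' * d ≤ q + 1 := by
    rcases hm' with ⟨h3, _⟩ | ⟨h3, _⟩ <;> omega
  have hNtop : pairStab L x y ≠ ⊤ := by
    intro htop
    have h1 : Nat.card (pairStab L x y) = Nat.card L := by rw [htop, Subgroup.card_top]
    rw [hNcard] at h1
    rw [← h1] at hcard
    have : 2 * m' * d ≤ 2 * (q + 1) := by nlinarith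
    nlinarith
  refine ⟨⟨hNtop, ?_⟩, ⟨e⟩⟩
  intro M hNM
  by_contra hMtop
  have hMcard := card_lt_of_lt hNM
  rw [hNcard] at hMcard
  obtain ⟨hMgt, hMdvd⟩ := hMcard
  have hML : Nat.card M ∣ Nat.card L := Subgroup.card_subgroup_dvd_card M
  have hMlt : Nat.card M < Nat.card L := by
    have := (card_lt_of_lt (lt_top_iff_ne_top.mpr hMtop)).1
    rwa [Subgroup.card_top] at this
  have ht₀M : t₀ ∈ M := hNM.le (inf_le_pairStab x y ht₀mem)
  have hordM : orderOf (⟨t₀, ht₀M⟩ : M) = m' := by rw [Subgroup.orderOf_mk, hord]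
  obtain ⟨g₀, hg₀x, hg₀y⟩ := hswap
  have hg₀M : g₀ ∈ M := hNM.le (Or.inr ⟨hg₀x, hg₀y⟩)
  have hA : (q - 1) / d * d = q - 1 := by
    rcases hd12 with ⟨h1, h2⟩ | ⟨h1, h2⟩
    · rw [h1, Nat.div_one, mul_one]
    · rw [h1]; omega
  have hB : (q + 1) / d * d = q + 1 := by
    rcases hd12 with ⟨h1, h2⟩ | ⟨h1, h2⟩
    · rw [h1, Nat.div_one, mul_one]
    · rw [h1]; omega
  rcases dickson_refined (Cfsg.Agent.Lib.helper3.dk_restrict D M) with
    h | h | h | h | h | h | h
  · -- cyclic
    obtain ⟨hcyc, -⟩ := h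
    haveI := hcyc
    have hcomm : ∀ a b : pairStab L x y, a * b = b * a := by
      intro a b
      have := comm_of_isCyclic (G := M) ⟨a, hNM.le a.2⟩ ⟨b, hNM.le b.2⟩
      apply Subtype.ext
      exact congrArg (fun z : M => (z : L)) this
    apply dihedral_not_comm hm3
    intro a b
    have := hcomm (e.symm a) (e.symm b)
    have h2 := congrArg e this
    simpa using h2
  · -- dihedral
    obtain ⟨s₀, ⟨eM⟩, hcop'⟩ := h
    have hMc : Nat.card M = 2 * orderOf s₀ := by
      rw [Nat.card_congr eM.toEquiv, DihedralGroup.nat_card]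
    have hk := hF.order_dvd hd1 (s₀ : L) (by rw [Subgroup.orderOf_coe]; exact hcop')
    rw [Subgroup.orderOf_coe] at hk
    obtain ⟨k, hkdef⟩ : ∃ k, k = orderOf s₀ := ⟨_, rfl⟩
    rw [← hkdef] at hk hMc
    rw [hMc] at hMgt hMdvd
    have hmk : m' ∣ k := (Nat.mul_dvd_mul_iff_left (by norm_num)).mp hMdvd
    have hmk' : m' < k := by omega
    have hkpos : 0 < k := by omega
    obtain ⟨A, hAdef⟩ : ∃ A, A = (q - 1) / d := ⟨_, rfl⟩
    obtain ⟨B, hBdef⟩ : ∃ B, B = (q + 1) / d := ⟨_, rfl⟩
    rw [← hAdef] at hA hk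
    rw [← hBdef] at hB hk
    rcases hm' with ⟨h3, -⟩ | ⟨h3, -⟩
    · have hmA : m' = A := Nat.eq_of_mul_eq_mul_right hd1 (h3.trans hA.symm)
      rcases hk with hk | hk
      · have hApos : 0 < A := by omega
        have := Nat.le_of_dvd hApos hk
        omega
      · obtain ⟨j, hj⟩ := hmk.trans hk
        have h5 : m' * j * d = m' * d + 2 := by
          rw [← hj, hB, h3]; omega
        rcases Nat.lt_or_ge j 2 with hj2 | hj2
        · interval_cases j
          · simp at h5
          · rw [mul_one] at h5; omega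
        · have h6 : m' * 2 * d ≤ m' * j * d :=
            Nat.mul_le_mul_right d (Nat.mul_le_mul_left m' hj2)
          have h7 : 3 * 1 ≤ m' * d := Nat.mul_le_mul hm3 hd1
          nlinarith
    · have hmB : m' = B := Nat.eq_of_mul_eq_mul_right hd1 (h3.trans hB.symm)
      rcases hk with hk | hk
      · obtain ⟨j, hj⟩ := hmk.trans hk
        have h5 : m' * j * d = q - 1 := by rw [← hj, hA]
        rcases Nat.eq_zero_or_pos j with hj0 | hj0
        · rw [hj0] at h5; simp at h5; omega
        · have h6 : m' * 1 * d ≤ m' * j * d :=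
            Nat.mul_le_mul_right d (Nat.mul_le_mul_left m' hj0)
          rw [mul_one] at h6
          omega
      · have hBpos : 0 < B := by omega
        have := Nat.le_of_dvd hBpos hk
        omega
  · -- Borel
    obtain ⟨r', hfix, -⟩ := h
    have h1 : t₀ • r' = r' := hfix ⟨t₀, ht₀M⟩
    have h2 : g₀ • r' = r' := hfix ⟨g₀, hg₀M⟩
    rcases D.fix_eq_of_two ht₀1 hxy ht₀x ht₀y h1 with h3 | h3
    · rw [h3, hg₀x] at h2
      exact hxy h2.symm
    · rw [h3, hg₀y] at h2
      exact hxy h2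
  · -- A4
    obtain ⟨eM⟩ := h
    have hMc : Nat.card M = 12 := by
      rw [Nat.card_congr eM.toEquiv, nat_card_alternatingGroup, Nat.card_eq_fintype_card,
        Fintype.card_fin]
      rfl
    rw [hMc] at hMgt hMdvd
    have hm3' : m' = 3 := by
      obtain ⟨j, hj⟩ := hMdvd
      have h1 : m' ≤ 5 := by omega
      interval_cases m' <;> omega
    have hidx : ((pairStab L x y).subgroupOf M).index = 2 := by
      have h1 := Subgroup.card_mul_index ((pairStab L x y).subgroupOf M)
      rw [Nat.card_congr (Subgroup.subgroupOfEquivOfLe hNM.le).toEquiv, hNcard, hMc, hm3'] at h1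
      omega
    have hc3 : C3 ((pairStab L x y).subgroupOf M) :=
      C3.of_equiv ((Subgroup.subgroupOfEquivOfLe hNM.le).trans e) (c3_dihedral m')
    have hc3M : C3 M := c3_of_index_two _ hidx hc3
    exact not_c3_A4 (C3.of_equiv eM.symm hc3M)
  · -- S4
    obtain ⟨eM⟩ := h
    have hMc : Nat.card M = 24 := by
      rw [Nat.card_congr eM.toEquiv, Nat.card_perm, Nat.card_eq_fintype_card, Fintype.card_fin]
      rfl
    have ho := order_S4 (eM ⟨t₀, ht₀M⟩)
    rw [MulEquiv.orderOf_eq, hordM] at ho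
    have hm34 : m' = 3 ∨ m' = 4 := by
      rcases ho with ho | ho
      · have h1 := Nat.le_of_dvd (by norm_num) ho
        interval_cases m' <;> omega
      · have h1 := Nat.le_of_dvd (by norm_num) ho
        left; omega
    rw [hMc] at hML
    obtain ⟨nL, hnL⟩ : ∃ n, n = Nat.card L := ⟨_, rfl⟩
    rw [← hnL] at hML hcard
    rcases hm34 with h3 | h3 <;> rw [h3] at hm' <;> rcases hd12 with ⟨h1, h2⟩ | ⟨h1, h2⟩ <;>
      rw [h1] at hm' hcard <;> rcases hm' with ⟨h4, h5⟩ | ⟨h4, h5⟩
    · obtain rfl : q = 4 := by omega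
      norm_num at hcard
      omega
    · omega
    · omega
    · obtain rfl : q = 5 := by omega
      norm_num at hcard
      omega
    · omega
    · omega
    · omega
    · omega
  · -- A5
    obtain ⟨eM⟩ := h
    have hMc : Nat.card M = 60 := by
      rw [Nat.card_congr eM.toEquiv, nat_card_alternatingGroup, Nat.card_eq_fintype_card,
        Fintype.card_fin]
      rfl
    have ho := order_A5 (eM ⟨t₀, ht₀M⟩)
    rw [MulEquiv.orderOf_eq, hordM] at ho
    have hm35 : m' = 3 ∨ m' = 5 := by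
      rcases ho with ho | ho | ho
      · have h1 := Nat.le_of_dvd (by norm_num) ho
        omega
      · have h1 := Nat.le_of_dvd (by norm_num) ho
        left; omega
      · have h1 := Nat.le_of_dvd (by norm_num) ho
        interval_cases m' <;> omega
    rw [hMc] at hML hMlt
    obtain ⟨nL, hnL⟩ : ∃ n, n = Nat.card L := ⟨_, rfl⟩
    rw [← hnL] at hML hcard hMlt
    rcases hm35 with h3 | h3 <;> rw [h3] at hm' <;> rcases hd12 with ⟨h1, h2⟩ | ⟨h1, h2⟩ <;>
      rw [h1] at hm' hcard <;> rcases hm' with ⟨h4, h5⟩ | ⟨h4, h5⟩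
    · obtain rfl : q = 4 := by omega
      norm_num at hcard
      omega
    · omega
    · omega
    · obtain rfl : q = 5 := by omega
      norm_num at hcard
      omega
    · obtain rfl : q = 6 := by omega
      norm_num at hcard
      omega
    · obtain rfl : q = 4 := by omega
      norm_num at hcard
      omega
    · omega
    · omega
  · -- subfield
    obtain ⟨K, instK, instKf, a, h, hK, hrest⟩ := h
    have ha1 : 1 ≤ a := by
      rcases Nat.eq_zero_or_pos a with h0 | h0
      · exfalso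
        rw [h0, pow_zero] at hK
        have := Fintype.one_lt_card (α := K)
        omega
      · exact h0
    have hf1 : 1 ≤ f := by
      rcases Nat.eq_zero_or_pos f with h0 | h0
      · rw [h0, pow_zero] at hqp; omega
      · exact h0
    obtain ⟨q₀, hq₀⟩ : ∃ q₀, q₀ = p ^ a := ⟨_, rfl⟩
    have hq₀2 : 2 ≤ q₀ := by
      rw [hq₀]
      calc 2 ≤ p := hpP.two_le
        _ = p ^ 1 := (pow_one p).symm
        _ ≤ p ^ a := Nat.pow_le_pow_right hpP.pos ha1
    have hpq₀ : p ∣ q₀ := by rw [hq₀]; exact dvd_pow_self p (by omega)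
    have hcopq : ∀ n, n ∣ q₀ + 1 → n.Coprime p := by
      intro n hn
      apply Nat.Coprime.coprime_dvd_left hn
      rw [Nat.coprime_comm, Nat.Prime.coprime_iff_not_dvd hpP]
      intro h1
      have h3 : p ∣ 1 := (Nat.dvd_add_right hpq₀).mp h1
      exact hpP.one_lt.ne' (Nat.dvd_one.mp h3)
    have hNh : orderOf h = (p ^ a + 1) / Nat.gcd 2 (p ^ a - 1) ∨ orderOf h = p ^ a + 1 := by
      rcases hrest with ⟨_, hh, _⟩ | ⟨_, hh, _⟩
      · left; exact hh
      · right; exact hh
    have hNcop : (orderOf h).Coprime p := by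
      apply hcopq
      rcases hNh with hh | hh
      · rw [hh, ← hq₀]
        apply Nat.div_dvd_of_dvd
        have e1 : q₀ + 1 = (q₀ - 1) + 2 := by omega
        rw [e1]
        exact dvd_add (Nat.gcd_dvd_right _ _) (Nat.gcd_dvd_left _ _)
      · rw [hh, ← hq₀]
    have haf : a ∣ f := by
      apply Cfsg.Agent.Lib.helper3.dk_subfield_dvd p a f (orderOf h) hpP ha1 hf1 hNh
      right
      have := hF.order_dvd hd1 (h : L) (by rw [Subgroup.orderOf_coe]; exact hNcop)
      rw [Subgroup.orderOf_coe, hd, hqp] at this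
      exact this
    obtain ⟨e', he'⟩ := haf
    rcases Nat.lt_or_ge e' 2 with he2 | he2
    · interval_cases e'
      · rw [mul_zero] at he'; omega
      · rw [mul_one] at he'
        have hKq : Fintype.card K = q := by rw [hK, hqp, he']
        rcases hrest with ⟨⟨eM⟩, -, -⟩ | ⟨⟨eM⟩, -, -⟩
        · have h1 := card_PSL2_mul (F := K)
          rw [← Nat.card_congr eM.toEquiv, hKq, ← hd, ← hcard] at h1
          have := Nat.eq_of_mul_eq_mul_right hd1 h1
          omega
        · have h1 := card_PGL2 (F := K)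
          rw [← Nat.card_congr eM.toEquiv, hKq, ← hcard] at h1
          have : Nat.card L * 1 ≤ Nat.card L * d := Nat.mul_le_mul_left _ hd1
          omega
    · have hqq : q₀ ^ 2 ≤ q := by
        rw [hqp, he', pow_mul, ← hq₀]
        exact Nat.pow_le_pow_right (by omega) he2
      have hmle : m' ≤ q₀ + 1 := by
        rcases hrest with ⟨-, -, c, m, hc, hm, hall⟩ | ⟨-, -, hall⟩
        · rw [← hq₀] at hc hm
          rcases hall ⟨t₀, ht₀M⟩ (by rw [hordM]; exact hcop) with h1 | h1
          · rw [hordM] at h1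
            have hcpos : 0 < c := by omega
            have := Nat.le_of_dvd hcpos h1
            omega
          · rw [hordM] at h1
            have hmpos : 0 < m := by omega
            have := Nat.le_of_dvd hmpos h1
            omega
        · rcases hall ⟨t₀, ht₀M⟩ (by rw [hordM]; exact hcop) with h1 | h1
          · rw [hordM, ← hq₀] at h1
            have := Nat.le_of_dvd (by omega) h1
            omega
          · rw [hordM, ← hq₀] at h1
            have := Nat.le_of_dvd (by omega) h1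
            omega
      have h1 : q - 1 ≤ m' * d := by
        clear hrest
        rcases hm' with ⟨h3, _⟩ | ⟨h3, _⟩ <;> omega
      have hq₀3 : q₀ ≤ 3 := by
        clear hrest
        have h2 : m' * d ≤ (q₀ + 1) * 2 := Nat.mul_le_mul hmle hd2
        by_contra hcon
        push Not at hcon
        have : 4 * q₀ ≤ q₀ ^ 2 := by nlinarith
        omega
      have hpa : q₀ = 2 ∧ p = 2 ∨ q₀ = 3 ∧ p = 3 := by
        interval_cases q₀
        · left; exact ⟨rfl, ((Nat.prime_dvd_prime_iff_eq hpP Nat.prime_two).mp hpq₀)⟩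
        · right; exact ⟨rfl, ((Nat.prime_dvd_prime_iff_eq hpP Nat.prime_three).mp hpq₀)⟩
      rcases hpa with ⟨hq₀2', hp2⟩ | ⟨hq₀3', hp3⟩
      · have hqeven : q % 2 = 0 := by
          clear hrest
          rw [hqp, hp2]
          obtain ⟨f', rfl⟩ : ∃ f', f = f' + 1 := ⟨f - 1, by omega⟩
          rw [pow_succ]; omega
        have hd1' : d = 1 := by
          clear hrest
          rcases hd12 with ⟨h1, h2⟩ | ⟨h1, h2⟩ <;> omega
        rcases hrest with ⟨-, -, c, m, hc, -, -⟩ | ⟨⟨eM⟩, -, hall⟩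
        · rw [← hq₀, hq₀2'] at hc; omega
        · have hm3' : m' = 3 := by rw [hq₀2'] at hmle; omega
          have h1 := card_PGL2 (F := K)
          rw [← Nat.card_congr eM.toEquiv, hK, ← hq₀, hq₀2'] at h1
          norm_num at h1
          rw [hm3'] at hMgt
          omega
      · clear hrest
        have hqodd : q % 2 = 1 := by
          rw [hqp, hp3]
          exact Nat.odd_iff.mp (Odd.pow (by decide))
        have hd2' : d = 2 := by rcases hd12 with ⟨h1, h2⟩ | ⟨h1, h2⟩ <;> omega
        rw [hq₀3'] at hmle hqq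
        have hq9 : q = 9 := by rw [hd2'] at h1; omega
        rcases hm' with ⟨_, h5⟩ | ⟨_, h5⟩ <;> omega

end Cfsg.Agent.Lib.helper6.PSL2Tor
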