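import Mathlib
import Cfsg.Agent.Lib.helper6.PSL2TorB
import Cfsg.Agent.Lib.helper6.PSL2Struct
import Cfsg.Agent.Lib.helper3.DicksonConcB
import Cfsg.Agent.S0144

set_option autoImplicit false

namespace Cfsg.Agent.Lib.helper6.PSL2Min

open MulAction
open scoped commutatorElement
open Cfsg.Agent.Lib.helper6.Dickson Cfsg.Agent.Lib.helper6.PSL2Index
open Cfsg.Agent.Lib.helper6.PSL2Max Cfsg.Agent.Lib.helper6.PSL2Tor

/-- a metabelian group is solvable -/
theorem Meta.isSolvable {G : Type*} [Group G] (h : Meta G) : Group.IsSolvable G := by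
  rw [Group.isSolvable_def]
  refine ⟨2, ?_⟩
  have h1 : derivedSeries G 2 = ⁅⁅(⊤ : Subgroup G), (⊤ : Subgroup G)⁆, ⁅(⊤ : Subgroup G), (⊤ : Subgroup G)⁆⁆ := by
    rw [derivedSeries_succ, derivedSeries_succ, derivedSeries_zero]
  rw [h1, eq_bot_iff, Subgroup.commutator_le (H₁ := ⁅(⊤ : Subgroup G), (⊤ : Subgroup G)⁆)
    (H₂ := ⁅(⊤ : Subgroup G), (⊤ : Subgroup G)⁆) (H₃ := ⊥)]
  have hcomm : ∀ x ∈ ⁅(⊤ : Subgroup G), (⊤ : Subgroup G)⁆, ∀ y ∈ ⁅(⊤ : Subgroup G), (⊤ : Subgroup G)⁆, x * y = y * x := by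
    intro x hx
    rw [Subgroup.commutator_def] at hx
    refine Subgroup.closure_induction (p := fun x _ => ∀ y ∈ ⁅(⊤ : Subgroup G), (⊤ : Subgroup G)⁆, x * y = y * x)
      ?_ ?_ ?_ ?_ hx
    · rintro _ ⟨a, -, b, -, rfl⟩ y hy
      rw [Subgroup.commutator_def] at hy
      refine Subgroup.closure_induction
        (p := fun y _ => ⁅a, b⁆ * y = y * ⁅a, b⁆) ?_ ?_ ?_ ?_ hy
      · rintro _ ⟨c, -, d, -, rfl⟩
        have := h a b c d
        rw [commutatorElement_def] at this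
        calc ⁅a, b⁆ * ⁅c, d⁆ = (⁅a, b⁆ * ⁅c, d⁆ * ⁅a, b⁆⁻¹ * ⁅c, d⁆⁻¹) * ⁅c, d⁆ * ⁅a, b⁆ := by group
          _ = ⁅c, d⁆ * ⁅a, b⁆ := by rw [this, one_mul]
      · rw [mul_one, one_mul]
      · intro u v _ _ hu hv
        rw [← mul_assoc, hu, mul_assoc, hv, mul_assoc]
      · intro u _ hu
        calc ⁅a, b⁆ * u⁻¹ = u⁻¹ * (u * ⁅a, b⁆) * u⁻¹ := by group
          _ = u⁻¹ * (⁅a, b⁆ * u) * u⁻¹ := by rw [hu]
          _ = u⁻¹ * ⁅a, b⁆ := by group
    · intro y _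
      rw [mul_one, one_mul]
    · intro u v _ _ hu hv y hy
      rw [mul_assoc, hv y hy, ← mul_assoc, hu y hy, mul_assoc]
    · intro u _ hu y hy
      calc u⁻¹ * y = u⁻¹ * (y * u) * u⁻¹ := by group
        _ = u⁻¹ * (u * y) * u⁻¹ := by rw [hu y hy]
        _ = y * u⁻¹ := by group
  intro x hx y hy
  rw [Subgroup.mem_bot, commutatorElement_def]
  have := hcomm x hx y hy
  calc x * y * x⁻¹ * y⁻¹ = (x * y) * x⁻¹ * y⁻¹ := by group
    _ = (y * x) * x⁻¹ * y⁻¹ := by rw [this]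
    _ = 1 := by group

/-- `PSL₂(q)`, `q ≥ 4`, is not commutative -/
theorem psl_not_comm {F : Type*} [Field F] [Fintype F] (h4 : 4 ≤ Fintype.card F) :
    ¬ ∀ a b : Matrix.ProjectiveSpecialLinearGroup (Fin 2) F, a * b = b * a := by
  intro hcomm
  obtain ⟨p, hchar⟩ := CharP.exists F
  haveI : Fact p.Prime := ⟨CharP.char_is_prime F p⟩
  have h1 := card_sylow_ge (F := F) p h4
  obtain ⟨P⟩ : Nonempty (Sylow p (Matrix.ProjectiveSpecialLinearGroup (Fin 2) F)) := inferInstance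
  have hnorm : (P : Subgroup (Matrix.ProjectiveSpecialLinearGroup (Fin 2) F)).Normal := by
    constructor
    intro u hu g
    have : g * u * g⁻¹ = u := by rw [hcomm g u, mul_assoc, mul_inv_cancel, mul_one]
    rw [this]; exact hu
  haveI := Sylow.unique_of_normal P hnorm
  have h2 : Nat.card (Sylow p (Matrix.ProjectiveSpecialLinearGroup (Fin 2) F)) = 1 :=
    Nat.card_unique
  omega

set_option maxRecDepth 100000 in
theorem a5_not_comm : ∃ a b : alternatingGroup (Fin 5), a * b ≠ b * a := by decide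

theorem a5_not_solvable : ¬ Group.IsSolvable (alternatingGroup (Fin 5)) := by
  intro h
  haveI := alternatingGroup.isSimpleGroup (α := Fin 5) (by simp)
  have := (IsSimpleGroup.comm_iff_isSolvable (G := alternatingGroup (Fin 5))).mpr h
  obtain ⟨a, b, hab⟩ := a5_not_comm
  exact hab (this a b)

end Cfsg.Agent.Lib.helper6.PSL2Min
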