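import Mathlib
import Cfsg.Agent.Lib.helper6.DicksonU
import Cfsg.Agent.Lib.helper6.PSL2Max
import Cfsg.Agent.Lib.helper6.PSL2MinA
import Cfsg.Agent.Lib.Helper11.Eppo

set_option autoImplicit false

namespace Cfsg.Agent.Lib.helper6.Sol2

open MulAction
open scoped commutatorElement
open Cfsg.Agent.Lib.helper6.Dickson Cfsg.Agent.Lib.helper6.PSL2Max

variable {H X : Type*} [Group H] [MulAction H X]

/-! ### element types -/

/-- a non-identity element is parabolic or has two distinct fixed points -/
theorem par_or_two {p : ℕ} (D : DAct H X p) {h : H} (h1 : h ≠ 1) :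
    (∃ x : X, IsPar x h) ∨ ∃ a b : X, a ≠ b ∧ h • a = a ∧ h • b = b := by
  obtain ⟨x, hx⟩ := D.fix_exists h
  by_cases hq : h ∈ D.Q x
  · rcases hq with hq | hq
    · exact absurd hq h1
    · exact Or.inl ⟨x, hq⟩
  · obtain ⟨y, hyx, hy⟩ := D.exists_second hx hq
    exact Or.inr ⟨x, y, Ne.symm hyx, hx, hy⟩

/-- in characteristic two, involutions are parabolic -/
theorem isPar_of_sq (D : DAct H X 2) {h : H} (h1 : h ≠ 1) (h2 : h * h = 1) :
    ∃ x : X, IsPar x h := by
  rcases par_or_two D h1 with hp | ⟨a, b, hab, ha, hb⟩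
  · exact hp
  · exfalso
    apply h1
    exact D.two_coprime a b h hab ha hb (by rw [pow_two]; exact h2)

/-- an element with two fixed points is not an involution -/
theorem sq_ne_one_of_two (D : DAct H X 2) {h : H} (h1 : h ≠ 1) {a b : X} (hab : a ≠ b)
    (ha : h • a = a) (hb : h • b = b) : h * h ≠ 1 := by
  intro h2
  apply h1
  exact D.two_coprime a b h hab ha hb (by rw [pow_two]; exact h2)

/-- an element commuting with a parabolic element fixes its point -/
theorem fix_of_comm_par {x : X} {n m : H} (hn : IsPar x n) (hc : m * n = n * m) : m • x = x := by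
  apply hn.2.2
  rw [← mul_smul, ← hc, mul_smul, hn.2.1]

theorem swap_pow_even {g : H} {c d : X} (h1 : g • c = d) (h2 : g • d = c) (k : ℕ) :
    g ^ (2 * k) • c = c := by
  induction k with
  | zero => simp
  | succ k ih =>
    rw [show 2 * (k + 1) = 2 * k + 1 + 1 by ring, pow_succ, pow_succ, mul_smul, mul_smul, h1, h2, ih]

/-- in characteristic two, an element swapping two points is an involution -/
theorem sq_of_swap [Finite H] (D : DAct H X 2) {g : H} {c d : X} (hcd : c ≠ d) (h1 : g • c = d)
    (h2 : g • d = c) : g * g = 1 := by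
  haveI : Fact (Nat.Prime 2) := ⟨Nat.prime_two⟩
  have hg1 : g ≠ 1 := by
    rintro rfl
    rw [one_smul] at h1
    exact hcd h1
  rcases par_or_two D hg1 with ⟨x, hp⟩ | ⟨a, b, hab, ha, hb⟩
  · have := D.par_pow x g hp
    rwa [pow_two] at this
  · exfalso
    have hcop := D.coprime_inf (x := a) (y := b) hab
    have hmem : g ∈ (stabilizer H a ⊓ stabilizer H b : Subgroup H) :=
      Subgroup.mem_inf.mpr ⟨mem_stabilizer_iff.mpr ha, mem_stabilizer_iff.mpr hb⟩
    have hdvd : orderOf g ∣ Nat.card ↥(stabilizer H a ⊓ stabilizer H b : Subgroup H) := by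
      have := orderOf_dvd_natCard (⟨g, hmem⟩ : ↥(stabilizer H a ⊓ stabilizer H b : Subgroup H))
      rwa [Subgroup.orderOf_mk] at this
    have hodd : (orderOf g).Coprime 2 := Nat.Coprime.coprime_dvd_left hdvd hcop
    have hodd' : orderOf g % 2 = 1 := by
      rcases Nat.mod_two_eq_zero_or_one (orderOf g) with h | h
      · exfalso
        have h2 : 2 ∣ orderOf g := Nat.dvd_of_mod_eq_zero h
        have := Nat.Coprime.eq_one_of_dvd hodd.symm h2
        omega
      · exact h
    obtain ⟨k, hk⟩ : ∃ k, orderOf g = 2 * k + 1 := ⟨orderOf g / 2, by omega⟩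
    have e := pow_orderOf_eq_one g
    rw [hk, pow_succ] at e
    have e2 : (g ^ (2 * k) * g) • c = c := by rw [e, one_smul]
    rw [mul_smul, h1] at e2
    -- g^(2k) fixes d as well
    have e3 := swap_pow_even h2 h1 k
    rw [e3] at e2
    exact hcd e2.symm

/-! ### solvability of stabilizers and pair stabilizers -/

theorem meta_stab {p : ℕ} (D : DAct H X p) (c : X) : Meta (stabilizer H c) := by
  have hcomm : ∀ a b : stabilizer H c, ((⁅a, b⁆ : stabilizer H c) : H) ∈ D.Q c := by
    intro a b
    have := D.comm_mem_Q (mem_stabilizer_iff.mp a.2) (mem_stabilizer_iff.mp b.2)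
    rw [commutatorElement_def]
    simpa using this
  intro a b c' d
  apply Subtype.ext
  have h1 := D.Q_comm (hcomm a b) (hcomm c' d)
  rw [commutatorElement_def]
  simp only [Subgroup.coe_mul, Subgroup.coe_inv, Subgroup.coe_one]
  rw [h1]
  group

theorem solvable_of_le_stab {p : ℕ} (D : DAct H X p) {K : Subgroup H} {c : X}
    (hK : K ≤ stabilizer H c) : Group.IsSolvable K :=
  Cfsg.Agent.Lib.helper6.PSL2Min.Meta.isSolvable (Meta.subgroup hK (meta_stab D c))

theorem pairStab_cases {c d : X} {g : H} (hg : g ∈ pairStab H c d) :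
    (g • c = c ∧ g • d = d ∧ g⁻¹ • c = c ∧ g⁻¹ • d = d) ∨
      (g • c = d ∧ g • d = c ∧ g⁻¹ • c = d ∧ g⁻¹ • d = c) := by
  rcases mem_pairStab.mp hg with ⟨h1, h2⟩ | ⟨h1, h2⟩
  · left
    refine ⟨h1, h2, ?_, ?_⟩
    · rw [inv_smul_eq_iff, h1]
    · rw [inv_smul_eq_iff, h2]
  · right
    refine ⟨h1, h2, ?_, ?_⟩
    · rw [inv_smul_eq_iff, h2]
    · rw [inv_smul_eq_iff, h1]

theorem comm_mem_inf_of_pairStab {c d : X} {a b : H} (ha : a ∈ pairStab H c d)
    (hb : b ∈ pairStab H c d) :
    a * b * a⁻¹ * b⁻¹ ∈ (stabilizer H c ⊓ stabilizer H d : Subgroup H) := by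
  rw [Subgroup.mem_inf, mem_stabilizer_iff, mem_stabilizer_iff]
  rcases pairStab_cases ha with ⟨a1, a2, a3, a4⟩ | ⟨a1, a2, a3, a4⟩ <;>
    rcases pairStab_cases hb with ⟨b1, b2, b3, b4⟩ | ⟨b1, b2, b3, b4⟩ <;>
    simp only [mul_smul, a1, a2, a3, a4, b1, b2, b3, b4, and_self]

theorem meta_pairStab {p : ℕ} (D : DAct H X p) {c d : X} (hcd : c ≠ d) :
    Meta (pairStab H c d) := by
  haveI := D.two_cyc c d hcd
  have hcomm : ∀ a b : pairStab H c d, ((⁅a, b⁆ : pairStab H c d) : H) ∈
      (stabilizer H c ⊓ stabilizer H d : Subgroup H) := by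
    intro a b
    have := comm_mem_inf_of_pairStab a.2 b.2
    rw [commutatorElement_def]
    simpa using this
  intro a b c' d'
  apply Subtype.ext
  have h1 := comm_of_isCyclic (G := ↥(stabilizer H c ⊓ stabilizer H d : Subgroup H))
    ⟨_, hcomm a b⟩ ⟨_, hcomm c' d'⟩
  have h2 := congrArg Subtype.val h1
  simp only [Subgroup.coe_mul] at h2
  rw [commutatorElement_def]
  simp only [Subgroup.coe_mul, Subgroup.coe_inv, Subgroup.coe_one]
  rw [h2]
  group

theorem solvable_of_le_pairStab {p : ℕ} (D : DAct H X p) {K : Subgroup H} {c d : X} (hcd : c ≠ d)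
    (hK : K ≤ pairStab H c d) : Group.IsSolvable K :=
  Cfsg.Agent.Lib.helper6.PSL2Min.Meta.isSolvable (Meta.subgroup hK (meta_pairStab D hcd))

/-! ### the dichotomy for solvable groups in characteristic two -/

theorem conj_ne_one {G : Type*} [Group G] {n : G} (hn : n ≠ 1) (g : G) : g * n * g⁻¹ ≠ 1 := by
  intro hc
  apply hn
  calc n = g⁻¹ * (g * n * g⁻¹) * g := by group
    _ = 1 := by rw [hc]; group

theorem conj_smul_fix {g n : H} {c : X} (hc : n • c = c) : (g * n * g⁻¹) • (g • c) = g • c := by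
  rw [mul_smul, mul_smul, inv_smul_smul, hc]

theorem dichotomy {G : Type*} [Group G] [MulAction G X] [Finite G] (D : DAct G X 2)
    [Group.IsSolvable G] [Nontrivial G] :
    (∃ c : X, ∀ g : G, g • c = c) ∨
      ∃ c d : X, c ≠ d ∧ ∀ g : G, (g • c = c ∧ g • d = d) ∨ (g • c = d ∧ g • d = c) := by
  obtain ⟨A, hAn, hAne, hAc⟩ := Cfsg.Agent.Lib.Helper11.exists_abelian_normal (G := G)
  obtain ⟨n, hnA, hn1⟩ : ∃ n ∈ A, n ≠ (1 : G) := by
    rcases A.bot_or_exists_ne_one with h | h
    · exact absurd h hAne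
    · exact h
  have hconjA : ∀ g : G, g * n * g⁻¹ ∈ A := fun g => hAn.conj_mem n hnA g
  rcases par_or_two D hn1 with ⟨c, hp⟩ | ⟨c, d, hcd, hc, hd⟩
  · -- parabolic case
    left
    refine ⟨c, fun g => ?_⟩
    have hp' : IsPar (g • c) (g * n * g⁻¹) := hp.conj g
    have hcomm : n * (g * n * g⁻¹) = (g * n * g⁻¹) * n := hAc n hnA _ (hconjA g)
    have h1 : n • (g • c) = g • c := fix_of_comm_par hp' hcomm
    exact hp.2.2 _ h1
  · -- semisimple case
    right
    refine ⟨c, d, hcd, fun g => ?_⟩
    set m := g * n * g⁻¹ with hm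
    have hm1 : m ≠ 1 := conj_ne_one hn1 g
    have hmA : m ∈ A := hconjA g
    have hcomm : m * n = n * m := hAc m hmA n hnA
    have hmc : m • (g • c) = g • c := conj_smul_fix hc
    have hmd : m • (g • d) = g • d := conj_smul_fix hd
    have hgcd : g • c ≠ g • d := fun h => hcd (smul_left_cancel g h)
    -- m permutes {c, d}
    have h1 : n • (m • c) = m • c := by rw [← mul_smul, ← hcomm, mul_smul, hc]
    have h2 : n • (m • d) = m • d := by rw [← mul_smul, ← hcomm, mul_smul, hd]
    have h3 := D.fix_eq_of_two hn1 hcd hc hd h1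
    have h4 := D.fix_eq_of_two hn1 hcd hc hd h2
    have hmcd : m • c ≠ m • d := fun h => hcd (smul_left_cancel m h)
    have hfix : m • c = c ∧ m • d = d := by
      rcases h3 with h3 | h3
      · rcases h4 with h4 | h4
        · exact absurd (h3.trans h4.symm) hmcd
        · exact ⟨h3, h4⟩
      · rcases h4 with h4 | h4
        · -- m swaps c and d: contradiction
          exfalso
          have hsq := sq_of_swap D hcd h3 h4
          obtain ⟨e, he⟩ := isPar_of_sq D hm1 hsq
          have hne : n • e = e := fix_of_comm_par he hcomm.symm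
          have hmee := he.2.1
          rcases D.fix_eq_of_two hn1 hcd hc hd hne with h | h
          · rw [h, h3] at hmee
            exact hcd hmee.symm
          · rw [h, h4] at hmee
            exact hcd hmee
        · exact absurd (h3.trans h4.symm) hmcd
    have h5 := D.fix_eq_of_two hm1 hgcd hmc hmd hfix.1
    have h6 := D.fix_eq_of_two hm1 hgcd hmc hmd hfix.2
    rcases h5 with h5 | h5
    · rcases h6 with h6 | h6
      · exact absurd (h5.trans h6.symm) hcd
      · exact Or.inl ⟨h5.symm, h6.symm⟩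
    · rcases h6 with h6 | h6
      · exact Or.inr ⟨h6.symm, h5.symm⟩
      · exact absurd (h5.trans h6.symm) hcd

theorem dichotomy_sub [Finite H] (D : DAct H X 2) (K : Subgroup H) (hK : Group.IsSolvable K)
    (hne : K ≠ ⊥) :
    (∃ c : X, K ≤ stabilizer H c) ∨ ∃ c d : X, c ≠ d ∧ K ≤ pairStab H c d := by
  haveI := hK
  haveI : Nontrivial K := (Subgroup.nontrivial_iff_ne_bot K).mpr hne
  have D' : DAct K X 2 := Cfsg.Agent.Lib.helper3.dk_restrict D K
  rcases dichotomy D' with ⟨c, hc⟩ | ⟨c, d, hcd, h⟩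
  · left
    exact ⟨c, fun k hk => mem_stabilizer_iff.mpr (hc ⟨k, hk⟩)⟩
  · right
    exact ⟨c, d, hcd, fun k hk => mem_pairStab.mpr (h ⟨k, hk⟩)⟩


/-! ### the solubilizer of an element -/

theorem closure_pair_le {K : Subgroup H} {x y : H} (hx : x ∈ K) (hy : y ∈ K) :
    Subgroup.closure ({x, y} : Set H) ≤ K := by
  rw [Subgroup.closure_le]
  rintro z (rfl | rfl)
  · exact hx
  · exact hy

theorem mem_closure_pair_left (x y : H) : x ∈ Subgroup.closure ({x, y} : Set H) :=
  Subgroup.subset_closure (Set.mem_insert x {y})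

theorem mem_closure_pair_right (x y : H) : y ∈ Subgroup.closure ({x, y} : Set H) :=
  Subgroup.subset_closure (Set.mem_insert_of_mem x rfl)

theorem closure_pair_ne_bot {x : H} (hx1 : x ≠ 1) (y : H) :
    Subgroup.closure ({x, y} : Set H) ≠ ⊥ := by
  intro h
  have := mem_closure_pair_left x y
  rw [h, Subgroup.mem_bot] at this
  exact hx1 this

theorem pairStab_symm (a b : X) : pairStab H a b = pairStab H b a := by
  ext g
  rw [mem_pairStab, mem_pairStab]
  constructor
  · rintro (⟨h1, h2⟩ | ⟨h1, h2⟩)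
    · exact Or.inl ⟨h2, h1⟩
    · exact Or.inr ⟨h2, h1⟩
  · rintro (⟨h1, h2⟩ | ⟨h1, h2⟩)
    · exact Or.inl ⟨h2, h1⟩
    · exact Or.inr ⟨h2, h1⟩

theorem sol_iff_ss [Finite H] (D : DAct H X 2) {x : H} (hx1 : x ≠ 1) {a b : X} (hab : a ≠ b)
    (ha : x • a = a) (hb : x • b = b) (y : H) :
    Group.IsSolvable (Subgroup.closure ({x, y} : Set H)) ↔
      y • a = a ∨ y • b = b ∨ y ∈ pairStab H a b := by
  constructor
  · intro hs
    rcases dichotomy_sub D _ hs (closure_pair_ne_bot hx1 y) with ⟨c, hc⟩ | ⟨c, d, hcd, hK⟩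
    · have hxc : x • c = c := mem_stabilizer_iff.mp (hc (mem_closure_pair_left x y))
      have hyc : y • c = c := mem_stabilizer_iff.mp (hc (mem_closure_pair_right x y))
      rcases D.fix_eq_of_two hx1 hab ha hb hxc with h | h
      · left; rw [← h]; exact hyc
      · right; left; rw [← h]; exact hyc
    · right; right
      have hxK := hK (mem_closure_pair_left x y)
      have hyK := hK (mem_closure_pair_right x y)
      rcases mem_pairStab.mp hxK with ⟨h1, h2⟩ | ⟨h1, h2⟩
      · rcases D.fix_eq_of_two hx1 hab ha hb h1 with h3 | h3 <;>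
          rcases D.fix_eq_of_two hx1 hab ha hb h2 with h4 | h4
        · exact absurd (h3.trans h4.symm) hcd
        · rw [← h3, ← h4]; exact hyK
        · rw [← h3, ← h4, pairStab_symm]; exact hyK
        · exact absurd (h3.trans h4.symm) hcd
      · exfalso
        exact sq_ne_one_of_two D hx1 hab ha hb (sq_of_swap D hcd h1 h2)
  · rintro (h | h | h)
    · apply solvable_of_le_stab D (c := a)
      exact closure_pair_le (mem_stabilizer_iff.mpr ha) (mem_stabilizer_iff.mpr h)
    · apply solvable_of_le_stab D (c := b)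
      exact closure_pair_le (mem_stabilizer_iff.mpr hb) (mem_stabilizer_iff.mpr h)
    · apply solvable_of_le_pairStab D hab
      exact closure_pair_le (mem_pairStab.mpr (Or.inl ⟨ha, hb⟩)) h

/-- two involutions generate a solvable group -/
theorem solvable_of_invol [Finite H] (D : DAct H X 2) {x y : H} (hx : x * x = 1) (hy : y * y = 1) :
    Group.IsSolvable (Subgroup.closure ({x, y} : Set H)) := by
  by_cases hx1 : x = 1
  · obtain ⟨e, he⟩ := D.fix_exists y
    apply solvable_of_le_stab D (c := e)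
    apply closure_pair_le _ (mem_stabilizer_iff.mpr he)
    rw [hx1]; exact Subgroup.one_mem _
  by_cases hy1 : y = 1
  · obtain ⟨e, he⟩ := D.fix_exists x
    apply solvable_of_le_stab D (c := e)
    apply closure_pair_le (mem_stabilizer_iff.mpr he)
    rw [hy1]; exact Subgroup.one_mem _
  obtain ⟨t, ht⟩ := isPar_of_sq D hx1 hx
  obtain ⟨e, he⟩ := isPar_of_sq D hy1 hy
  by_cases hte : t = e
  · apply solvable_of_le_stab D (c := t)
    apply closure_pair_le (mem_stabilizer_iff.mpr ht.2.1)
    rw [hte]; exact mem_stabilizer_iff.mpr he.2.1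
  have hxi : x⁻¹ = x := inv_eq_of_mul_eq_one_left hx
  have hyi : y⁻¹ = y := inv_eq_of_mul_eq_one_left hy
  set z := x * y with hz
  have hzi : z⁻¹ = y * x := by rw [hz, mul_inv_rev, hxi, hyi]
  have hzx : z * x = x * z⁻¹ := by
    rw [hzi, hz, mul_assoc]
  have hzy : z * y = y * z⁻¹ := by
    rw [hzi, hz, mul_assoc, hy, mul_one, ← mul_assoc, hy, one_mul]
  have hz1 : z ≠ 1 := by
    intro h
    have : x = y := by
      calc x = x * (y * y) := by rw [hy, mul_one]
        _ = z * y := by rw [hz, mul_assoc]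
        _ = y := by rw [h, one_mul]
    rw [this] at ht
    exact hte (Cfsg.Agent.Lib.helper6.Dickson.DAct.isPar_unique ht he)
  -- x and y permute the fixed points of z
  have hxperm : ∀ w : X, z • w = w → z • (x • w) = x • w := by
    intro w hw
    have h1 : z⁻¹ • w = w := by rw [inv_smul_eq_iff, hw]
    rw [← mul_smul, hzx, mul_smul, h1]
  have hyperm : ∀ w : X, z • w = w → z • (y • w) = y • w := by
    intro w hw
    have h1 : z⁻¹ • w = w := by rw [inv_smul_eq_iff, hw]
    rw [← mul_smul, hzy, mul_smul, h1]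
  rcases par_or_two D hz1 with ⟨c, hc⟩ | ⟨c, d, hcd, hc, hd⟩
  · exfalso
    have h1 : x • c = c := hc.2.2 _ (hxperm c hc.2.1)
    have h2 : y • c = c := hc.2.2 _ (hyperm c hc.2.1)
    have h3 : c = t := ht.2.2 c h1
    have h4 : c = e := he.2.2 c h2
    exact hte (h3.symm.trans h4)
  · apply solvable_of_le_pairStab D hcd
    have key : ∀ g : H, (∀ w : X, z • w = w → z • (g • w) = g • w) → g ∈ pairStab H c d := by
      intro g hg
      have h1 := D.fix_eq_of_two hz1 hcd hc hd (hg c hc)
      have h2 := D.fix_eq_of_two hz1 hcd hc hd (hg d hd)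
      have hne : g • c ≠ g • d := fun h => hcd (smul_left_cancel g h)
      rw [mem_pairStab]
      rcases h1 with h1 | h1 <;> rcases h2 with h2 | h2
      · exact absurd (h1.trans h2.symm) hne
      · exact Or.inl ⟨h1, h2⟩
      · exact Or.inr ⟨h1, h2⟩
      · exact absurd (h1.trans h2.symm) hne
    exact closure_pair_le (key x hxperm) (key y hyperm)

theorem sol_iff_par [Finite H] (D : DAct H X 2) {x : H} {t : X} (hx : IsPar t x) (y : H) :
    Group.IsSolvable (Subgroup.closure ({x, y} : Set H)) ↔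
      y • t = t ∨ y * y = 1 ∨ (x * y) * (x * y) = 1 := by
  have hx2 : x * x = 1 := by
    have := D.par_pow t x hx
    rwa [pow_two] at this
  constructor
  · intro hs
    rcases dichotomy_sub D _ hs (closure_pair_ne_bot hx.1 y) with ⟨c, hc⟩ | ⟨c, d, hcd, hK⟩
    · have hxc : x • c = c := mem_stabilizer_iff.mp (hc (mem_closure_pair_left x y))
      have hyc : y • c = c := mem_stabilizer_iff.mp (hc (mem_closure_pair_right x y))
      left
      rw [← hx.2.2 c hxc]; exact hyc
    · right
      have hxK := hK (mem_closure_pair_left x y)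
      have hyK := hK (mem_closure_pair_right x y)
      rcases mem_pairStab.mp hxK with ⟨h1, h2⟩ | ⟨h1, h2⟩
      · exfalso
        exact hcd ((hx.2.2 c h1).trans (hx.2.2 d h2).symm)
      · rcases mem_pairStab.mp hyK with ⟨h3, h4⟩ | ⟨h3, h4⟩
        · right
          apply sq_of_swap D hcd (c := c) (d := d)
          · rw [mul_smul, h3, h1]
          · rw [mul_smul, h4, h2]
        · left
          exact sq_of_swap D hcd h3 h4
  · rintro (h | h | h)
    · apply solvable_of_le_stab D (c := t)
      exact closure_pair_le (mem_stabilizer_iff.mpr hx.2.1) (mem_stabilizer_iff.mpr h)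
    · exact solvable_of_invol D hx2 h
    · have h1 := solvable_of_invol D hx2 h
      have hle : Subgroup.closure ({x, y} : Set H) ≤ Subgroup.closure ({x, x * y} : Set H) := by
        apply closure_pair_le (mem_closure_pair_left _ _)
        have h3 := Subgroup.mul_mem _ (Subgroup.inv_mem _ (mem_closure_pair_left x (x * y)))
          (mem_closure_pair_right x (x * y))
        rwa [inv_mul_cancel_left] at h3
      exact Group.isSolvable_of_isSolvable_injective (Subgroup.inclusion_injective hle)

end Cfsg.Agent.Lib.helper6.Sol2
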