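import Mathlib
import Cfsg.Agent.Lib.helper6.SolA
import Cfsg.Agent.Lib.helper6.DicksonV

set_option autoImplicit false

namespace Cfsg.Agent.Lib.helper6.Sol2

open MulAction
open scoped commutatorElement
open Cfsg.Agent.Lib.helper6.Dickson Cfsg.Agent.Lib.helper6.PSL2Max

/-! ### counting helpers -/

theorem filter_card_eq_natCard {α : Type*} [Fintype α] (p : α → Prop) [DecidablePred p] :
    (Finset.univ.filter p).card = Nat.card {x // p x} := by
  rw [Nat.card_eq_fintype_card, Fintype.card_subtype]

/-- three sets with a common pairwise intersection -/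
theorem natCard_union3 {α : Type*} [Finite α] (A B C Q : α → Prop)
    (hAB : ∀ a, A a ∧ B a ↔ Q a) (hAC : ∀ a, A a ∧ C a ↔ Q a) (hBC : ∀ a, B a ∧ C a ↔ Q a) :
    Nat.card {a // A a ∨ B a ∨ C a} + 2 * Nat.card {a // Q a} =
      Nat.card {a // A a} + Nat.card {a // B a} + Nat.card {a // C a} := by
  classical
  have : Fintype α := Fintype.ofFinite α
  simp only [← filter_card_eq_natCard]
  have e1 : Finset.univ.filter (fun a => A a ∨ B a ∨ C a) =
      (Finset.univ.filter A ∪ Finset.univ.filter B) ∪ Finset.univ.filter C := by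
    ext a; simp
  have e2 : Finset.univ.filter A ∩ Finset.univ.filter B = Finset.univ.filter Q := by
    ext a; simp [hAB a]
  have e3 : (Finset.univ.filter A ∪ Finset.univ.filter B) ∩ Finset.univ.filter C =
      Finset.univ.filter Q := by
    ext a
    simp only [Finset.mem_inter, Finset.mem_union, Finset.mem_filter, Finset.mem_univ, true_and]
    constructor
    · rintro ⟨h | h, hc⟩
      · exact (hAC a).mp ⟨h, hc⟩
      · exact (hBC a).mp ⟨h, hc⟩
    · intro h
      exact ⟨Or.inl ((hAC a).mpr h).1, ((hAC a).mpr h).2⟩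
  have k1 := Finset.card_union_add_card_inter (Finset.univ.filter A) (Finset.univ.filter B)
  have k2 := Finset.card_union_add_card_inter (Finset.univ.filter A ∪ Finset.univ.filter B)
    (Finset.univ.filter C)
  rw [e2] at k1
  rw [e3] at k2
  rw [e1]
  omega

/-- double counting, for cardinalities of subtypes -/
theorem natCard_double_count {α β : Type*} [Finite α] [Finite β] (P : α → Prop) (Q : β → Prop)
    (r : α → β → Prop) (c d : ℕ)
    (h1 : ∀ a, P a → Nat.card {b // Q b ∧ r a b} = c)
    (h2 : ∀ b, Q b → Nat.card {a // P a ∧ r a b} = d) :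
    Nat.card {a // P a} * c = Nat.card {b // Q b} * d := by
  classical
  have : Fintype α := Fintype.ofFinite α
  have : Fintype β := Fintype.ofFinite β
  have key := Finset.sum_card_bipartiteAbove_eq_sum_card_bipartiteBelow
    (s := Finset.univ.filter P) (t := Finset.univ.filter Q) r
  have e1 : ∀ a ∈ Finset.univ.filter P, ((Finset.univ.filter Q).bipartiteAbove r a).card = c := by
    intro a ha
    rw [Finset.mem_filter] at ha
    rw [← h1 a ha.2, ← filter_card_eq_natCard]
    congr 1
    ext b
    simp [Finset.mem_bipartiteAbove]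
  have e2 : ∀ b ∈ Finset.univ.filter Q, ((Finset.univ.filter P).bipartiteBelow r b).card = d := by
    intro b hb
    rw [Finset.mem_filter] at hb
    rw [← h2 b hb.2, ← filter_card_eq_natCard]
    congr 1
    ext a
    simp [Finset.mem_bipartiteBelow]
  rw [Finset.sum_congr rfl e1, Finset.sum_congr rfl e2, Finset.sum_const, Finset.sum_const,
    smul_eq_mul, smul_eq_mul, filter_card_eq_natCard, filter_card_eq_natCard] at key
  exact key

theorem natCard_ne_one_subgroup {G : Type*} [Group G] [Finite G] (K : Subgroup G) :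
    Nat.card {y : G // y ∈ K ∧ y ≠ 1} = Nat.card K - 1 := by
  classical
  have e : {y : G // y ∈ K ∧ y ≠ 1} ≃ {y : K // y ≠ 1} :=
    { toFun := fun y => ⟨⟨y.1, y.2.1⟩, fun h => y.2.2 (congrArg Subtype.val h)⟩
      invFun := fun y => ⟨y.1.1, y.1.2, fun h => y.2 (Subtype.ext h)⟩
      left_inv := fun _ => rfl
      right_inv := fun _ => rfl }
  rw [Nat.card_congr e]
  have : Fintype K := Fintype.ofFinite K
  rw [Nat.card_eq_fintype_card, Fintype.card_subtype_compl, Fintype.card_subtype_eq,
    Nat.card_eq_fintype_card]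

variable {H X : Type*} [Group H] [MulAction H X]

theorem natCard_mem_subgroup (K : Subgroup H) : Nat.card {y : H // y ∈ K} = Nat.card K := rfl

theorem natCard_fix (a : X) : Nat.card {y : H // y • a = a} = Nat.card (stabilizer H a) :=
  Nat.card_congr (Equiv.subtypeEquivRight (fun _ => mem_stabilizer_iff.symm))

/-! ### the general counting formulas -/

theorem card_sol_ss [Finite H] (D : DAct H X 2) {x : H} (hx1 : x ≠ 1) {a b : X} (hab : a ≠ b)
    (ha : x • a = a) (hb : x • b = b) :
    Nat.card {y : H // Group.IsSolvable (Subgroup.closure ({x, y} : Set H))} +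
        2 * Nat.card ↥(stabilizer H a ⊓ stabilizer H b : Subgroup H) =
      Nat.card (stabilizer H a) + Nat.card (stabilizer H b) + Nat.card (pairStab H a b) := by
  rw [Nat.card_congr (Equiv.subtypeEquivRight (sol_iff_ss D hx1 hab ha hb))]
  have key := natCard_union3 (α := H) (fun y => y • a = a) (fun y => y • b = b)
    (fun y => y ∈ pairStab H a b)
    (fun y => y ∈ (stabilizer H a ⊓ stabilizer H b : Subgroup H)) ?_ ?_ ?_
  · rw [natCard_fix, natCard_fix] at key
    exact key
  · intro y
    rw [Subgroup.mem_inf, mem_stabilizer_iff, mem_stabilizer_iff]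
  · intro y
    rw [Subgroup.mem_inf, mem_stabilizer_iff, mem_stabilizer_iff, mem_pairStab]
    constructor
    · rintro ⟨h1, ⟨h2, h3⟩ | ⟨h2, h3⟩⟩
      · exact ⟨h2, h3⟩
      · exact absurd (h1.symm.trans h2) hab
    · rintro ⟨h1, h2⟩
      exact ⟨h1, Or.inl ⟨h1, h2⟩⟩
  · intro y
    rw [Subgroup.mem_inf, mem_stabilizer_iff, mem_stabilizer_iff, mem_pairStab]
    constructor
    · rintro ⟨h1, ⟨h2, h3⟩ | ⟨h2, h3⟩⟩
      · exact ⟨h2, h3⟩
      · exact absurd (h3.symm.trans h1) hab
    · rintro ⟨h1, h2⟩
      exact ⟨h2, Or.inl ⟨h1, h2⟩⟩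

theorem mem_Q_of_sq (D : DAct H X 2) {t : X} {y : H} (h1 : y • t = t) (h2 : y * y = 1) :
    y ∈ D.Q t := by
  by_cases hy1 : y = 1
  · left; exact hy1
  · right
    obtain ⟨e, he⟩ := isPar_of_sq D hy1 h2
    have : t = e := he.2.2 t h1
    rw [this]; exact he

theorem sq_of_mem_Q (D : DAct H X 2) {t : X} {y : H} (h : y ∈ D.Q t) : y * y = 1 := by
  have := D.Q_pow h
  rwa [pow_two] at this

theorem card_sol_par [Finite H] (D : DAct H X 2) {x : H} {t : X} (hx : IsPar t x) :
    Nat.card {y : H // Group.IsSolvable (Subgroup.closure ({x, y} : Set H))} +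
        2 * Nat.card (D.Q t) =
      Nat.card (stabilizer H t) + 2 * Nat.card {y : H // y * y = 1} := by
  rw [Nat.card_congr (Equiv.subtypeEquivRight (sol_iff_par D hx))]
  have hxQ : x ∈ D.Q t := Or.inr hx
  have hx2 : x * x = 1 := sq_of_mem_Q D hxQ
  have hxi : x⁻¹ = x := inv_eq_of_mul_eq_one_left hx2
  have key := natCard_union3 (α := H) (fun y => y • t = t) (fun y => y * y = 1)
    (fun y => (x * y) * (x * y) = 1) (fun y => y ∈ D.Q t) ?_ ?_ ?_
  · have e : Nat.card {y : H // (x * y) * (x * y) = 1} = Nat.card {y : H // y * y = 1} :=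
      Nat.card_congr (Equiv.subtypeEquiv (Equiv.mulLeft x) (fun y => Iff.rfl))
    rw [natCard_fix, e] at key
    rw [key]
    have : Nat.card {y : H // y ∈ D.Q t} = Nat.card (D.Q t) := rfl
    omega
  · intro y
    constructor
    · rintro ⟨h1, h2⟩
      exact mem_Q_of_sq D h1 h2
    · intro h
      exact ⟨D.Q_fix h, sq_of_mem_Q D h⟩
  · intro y
    constructor
    · rintro ⟨h1, h2⟩
      have h3 : (x * y) • t = t := by rw [mul_smul, h1, hx.2.1]
      have h4 := mem_Q_of_sq D h3 h2
      have h5 := Subgroup.mul_mem _ (Subgroup.inv_mem _ hxQ) h4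
      rwa [inv_mul_cancel_left] at h5
    · intro h
      exact ⟨D.Q_fix h, sq_of_mem_Q D (Subgroup.mul_mem _ hxQ h)⟩
  · intro y
    constructor
    · rintro ⟨h1, h2⟩
      have hyi : y⁻¹ = y := inv_eq_of_mul_eq_one_left h1
      have hcomm : y * x = x * y := by
        have h3 : x * y = (x * y)⁻¹ := (inv_eq_of_mul_eq_one_left h2).symm
        rw [mul_inv_rev, hxi, hyi] at h3
        exact h3.symm
      exact mem_Q_of_sq D (fix_of_comm_par hx hcomm) h1
    · intro h
      exact ⟨sq_of_mem_Q D h, sq_of_mem_Q D (Subgroup.mul_mem _ hxQ h)⟩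

end Cfsg.Agent.Lib.helper6.Sol2
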