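import Mathlib
import Cfsg.Agent.Lib.helper6.SolB

set_option autoImplicit false

namespace Cfsg.Agent.Lib.helper6.Sol2

open MulAction
open scoped commutatorElement
open Cfsg.Agent.Lib.helper6.Dickson Cfsg.Agent.Lib.helper6.PSL2Max

variable {H X : Type*} [Group H] [MulAction H X] {D : DAct H X 2} {q : ℕ} {r s : X}

/-! ### orbit data of a full group -/

theorem Q_ne_bot_of_mem {t : X} {u : H} (hu : u ∈ D.Q t) (hu1 : u ≠ 1) : D.Q t ≠ ⊥ := by
  intro h
  rw [h, Subgroup.mem_bot] at hu
  exact hu1 hu

theorem mem_orbit_r_of_Q (hF : Full D q 1 r s) {t : X} (hQ : D.Q t ≠ ⊥) : t ∈ orbit H r := by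
  obtain ⟨u, hu1⟩ := (Subgroup.ne_bot_iff_exists_ne_one).mp hQ
  have hu1' : (u : H) ≠ 1 := fun h => hu1 (Subtype.ext h)
  rcases hF.cover t ⟨u, hu1', D.Q_fix u.2⟩ with h | h
  · exact h
  · exfalso
    obtain ⟨g, hg⟩ := h
    have hg' : g • s = t := hg
    have h1 := D.card_Q_smul g s
    rw [hg', hF.hQs, Subgroup.card_bot] at h1
    exact hQ (Subgroup.card_eq_one.mp h1)

theorem card_stab_of_mem_r (hF : Full D q 1 r s) {t : X} (ht : t ∈ orbit H r) :
    Nat.card (stabilizer H t) = q * (q - 1) := by
  obtain ⟨g, hg⟩ := ht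
  have hg' : g • r = t := hg
  rw [← hg', DAct.card_stab_smul]
  have := hF.stabr
  rwa [mul_one] at this

theorem card_Q_of_mem_r (hF : Full D q 1 r s) {t : X} (ht : t ∈ orbit H r) :
    Nat.card (D.Q t) = q := by
  obtain ⟨g, hg⟩ := ht
  have hg' : g • r = t := hg
  rw [← hg', D.card_Q_smul]
  exact hF.cardQ

theorem card_stab_of_mem_s (hF : Full D q 1 r s) {t : X} (ht : t ∈ orbit H s) :
    Nat.card (stabilizer H t) = q + 1 := by
  obtain ⟨g, hg⟩ := ht
  have hg' : g • s = t := hg
  rw [← hg', DAct.card_stab_smul]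
  have := hF.stabs
  rwa [mul_one] at this

theorem Q_bot_of_mem_s (hF : Full D q 1 r s) {t : X} (ht : t ∈ orbit H s) : D.Q t = ⊥ := by
  obtain ⟨g, hg⟩ := ht
  have hg' : g • s = t := hg
  have h1 := D.card_Q_smul g s
  rw [hg', hF.hQs, Subgroup.card_bot] at h1
  exact Subgroup.card_eq_one.mp h1

theorem q_pos [Finite H] (hF : Full D q 1 r s) : 0 < q := by
  rw [← hF.cardQ]; exact Nat.card_pos

/-- the number of elements of square one -/
theorem card_sq_one [Finite H] (hF : Full D q 1 r s) :
    Nat.card {y : H // y * y = 1} = q * q := by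
  classical
  haveI : Finite ↥(orbit H r) := (Set.finite_range _).to_subtype
  have hq := q_pos hF
  -- double counting
  have key := natCard_double_count (α := H) (β := ↥(orbit H r))
    (fun y => y ≠ 1 ∧ y * y = 1) (fun _ => True) (fun y c => y • (c : X) = c) 1 (q - 1) ?_ ?_
  · have horb : Nat.card {b : ↥(orbit H r) // True} = q + 1 := by
      rw [Nat.card_congr (Equiv.subtypeUnivEquiv (fun _ => trivial))]
      have := hF.orb
      rwa [← _root_.Nat.card_coe_set_eq] at this
    rw [horb, mul_one] at key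
    have hsplit : Nat.card {y : H // y * y = 1} =
        Nat.card {y : H // y ≠ 1 ∧ y * y = 1} + 1 := by
      have h1 := natCard_union3 (α := H) (fun y => y ≠ 1 ∧ y * y = 1) (fun y => y = 1)
        (fun _ => False) (fun _ => False) ?_ ?_ ?_
      · have e1 : Nat.card {y : H // (y ≠ 1 ∧ y * y = 1) ∨ y = 1 ∨ False} =
            Nat.card {y : H // y * y = 1} := by
          apply Nat.card_congr
          apply Equiv.subtypeEquivRight
          intro y
          constructor
          · rintro (h | h | h)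
            · exact h.2
            · rw [h, mul_one]
            · exact absurd h id
          · intro h
            by_cases hy : y = 1
            · exact Or.inr (Or.inl hy)
            · exact Or.inl ⟨hy, h⟩
        have e2 : Nat.card {y : H // y = 1} = 1 := by
          rw [Nat.card_eq_one_iff_unique]
          exact ⟨⟨fun a b => Subtype.ext (a.2.trans b.2.symm)⟩, ⟨⟨1, rfl⟩⟩⟩
        have e3 : Nat.card {y : H // False} = 0 := by
          haveI : IsEmpty {y : H // False} := ⟨fun a => a.2⟩
          exact Nat.card_of_isEmpty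
        rw [e1, e2, e3] at h1
        omega
      · intro y
        constructor
        · rintro ⟨h1, h2⟩; exact h1.1 h2
        · intro h; exact absurd h id
      · intro y
        constructor
        · rintro ⟨_, h2⟩; exact h2
        · intro h; exact absurd h id
      · intro y
        constructor
        · rintro ⟨_, h2⟩; exact h2
        · intro h; exact absurd h id
    rw [hsplit, key]
    obtain ⟨k, rfl⟩ : ∃ k, q = k + 1 := ⟨q - 1, by omega⟩
    simp only [Nat.add_sub_cancel]
    ring
  · -- each involution fixes exactly one point of the orbit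
    rintro y ⟨hy1, hy2⟩
    obtain ⟨t, ht⟩ := isPar_of_sq D hy1 hy2
    have htr : t ∈ orbit H r := mem_orbit_r_of_Q hF (Q_ne_bot_of_mem (Or.inr ht) hy1)
    rw [Nat.card_eq_one_iff_unique]
    refine ⟨⟨fun a b => ?_⟩, ⟨⟨⟨t, htr⟩, trivial, ht.2.1⟩⟩⟩
    apply Subtype.ext
    apply Subtype.ext
    exact (ht.2.2 _ a.2.2).trans (ht.2.2 _ b.2.2).symm
  · -- involutions fixing a given point of the orbit
    rintro ⟨c, hc⟩ -
    have e : Nat.card {y : H // (y ≠ 1 ∧ y * y = 1) ∧ y • c = c} =
        Nat.card {y : H // y ∈ D.Q c ∧ y ≠ 1} := by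
      apply Nat.card_congr
      apply Equiv.subtypeEquivRight
      intro y
      constructor
      · rintro ⟨⟨h1, h2⟩, h3⟩
        exact ⟨mem_Q_of_sq D h3 h2, h1⟩
      · rintro ⟨h1, h2⟩
        exact ⟨⟨h2, sq_of_mem_Q D h1⟩, D.Q_fix h1⟩
    rw [e, natCard_ne_one_subgroup, card_Q_of_mem_r hF hc]

end Cfsg.Agent.Lib.helper6.Sol2
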