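import Mathlib
import Cfsg.Agent.Lib.helper6.SolC

set_option autoImplicit false

namespace Cfsg.Agent.Lib.helper6.Sol2

open MulAction
open scoped commutatorElement
open Cfsg.Agent.Lib.helper6.Dickson Cfsg.Agent.Lib.helper6.PSL2Max

variable {H X : Type*} [Group H] [MulAction H X] {D : DAct H X 2} {q : ℕ} {r s : X}

theorem order_dvd_card_stab [Finite H] {x : H} {a : X} (ha : x • a = a) :
    orderOf x ∣ Nat.card (stabilizer H a) := by
  have := orderOf_dvd_natCard (⟨x, mem_stabilizer_iff.mpr ha⟩ : stabilizer H a)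
  rwa [Subgroup.orderOf_mk] at this

theorem order_dvd_card_inf [Finite H] {x : H} {a b : X} (ha : x • a = a) (hb : x • b = b) :
    orderOf x ∣ Nat.card ↥(stabilizer H a ⊓ stabilizer H b : Subgroup H) := by
  have hmem : x ∈ (stabilizer H a ⊓ stabilizer H b : Subgroup H) :=
    Subgroup.mem_inf.mpr ⟨mem_stabilizer_iff.mpr ha, mem_stabilizer_iff.mpr hb⟩
  have := orderOf_dvd_natCard (⟨x, hmem⟩ : ↥(stabilizer H a ⊓ stabilizer H b : Subgroup H))
  rwa [Subgroup.orderOf_mk] at this

theorem two_fixed_of_odd [Finite H] (D : DAct H X 2) {x : H} (hx1 : x ≠ 1)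
    (hodd : Odd (orderOf x)) : ∃ a b : X, a ≠ b ∧ x • a = a ∧ x • b = b := by
  rcases par_or_two D hx1 with ⟨t, ht⟩ | h
  · exfalso
    have h2 := D.par_pow t x ht
    have h3 : orderOf x ∣ 2 := orderOf_dvd_of_pow_eq_one h2
    have h4 : orderOf x = 1 := by
      rcases (Nat.dvd_prime Nat.prime_two).mp h3 with h | h
      · exact h
      · rw [h] at hodd
        exact absurd hodd (by decide)
    exact hx1 (orderOf_eq_one_iff.mp h4)
  · exact h

/-- the inertia of the pointwise stabilizer of a pair at a point of the short orbit -/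
theorem card_inf_of_mem_r [Finite H] (hF : Full D q 1 r s) {x : H} (hx1 : x ≠ 1) {a b : X}
    (hab : a ≠ b) (ha : x • a = a) (hb : x • b = b) (har : a ∈ orbit H r) :
    Nat.card ↥(stabilizer H a ⊓ stabilizer H b : Subgroup H) = q - 1 := by
  have h1 := D.card_stab_eq hab hx1 ha hb
  rw [card_stab_of_mem_r hF har, card_Q_of_mem_r hF har] at h1
  exact (Nat.eq_of_mul_eq_mul_left (q_pos hF) h1).symm

theorem orbit_type [Finite H] (hF : Full D q 1 r s) {x : H} (hx1 : x ≠ 1) {a b : X}
    (hab : a ≠ b) (ha : x • a = a) (hb : x • b = b) :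
    (a ∈ orbit H r ∧ orderOf x ∣ q - 1) ∨ (a ∈ orbit H s ∧ orderOf x ∣ q + 1) := by
  rcases hF.cover a ⟨x, hx1, ha⟩ with h | h
  · left
    refine ⟨h, ?_⟩
    rw [← card_inf_of_mem_r hF hx1 hab ha hb h]
    exact order_dvd_card_inf ha hb
  · right
    refine ⟨h, ?_⟩
    rw [← card_stab_of_mem_s hF h]
    exact order_dvd_card_stab ha

theorem not_both [Finite H] {x : H} (hx1 : x ≠ 1) (hq : 2 ∣ q) (hq0 : 0 < q)
    (h1 : orderOf x ∣ q - 1) (h2 : orderOf x ∣ q + 1) : False := by
  have h3 : orderOf x ∣ (q + 1) - (q - 1) := Nat.dvd_sub h2 h1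
  have e : (q + 1) - (q - 1) = 2 := by omega
  rw [e] at h3
  rcases (Nat.dvd_prime Nat.prime_two).mp h3 with h | h
  · exact hx1 (orderOf_eq_one_iff.mp h)
  · rw [h] at h1
    omega

theorem card_pairStab [Finite H] (D : DAct H X 2) {x : H} (hx1 : x ≠ 1) {a b : X}
    (hab : a ≠ b) (ha : x • a = a) (hb : x • b = b) (hswap : ∃ g : H, g • a = b ∧ g • b = a) :
    Nat.card (pairStab H a b) =
      2 * Nat.card ↥(stabilizer H a ⊓ stabilizer H b : Subgroup H) := by
  haveI : Fact (Nat.Prime 2) := ⟨Nat.prime_two⟩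
  have hT : (stabilizer H a ⊓ stabilizer H b : Subgroup H) ≠ ⊥ := by
    intro h
    have hmem : x ∈ (stabilizer H a ⊓ stabilizer H b : Subgroup H) :=
      Subgroup.mem_inf.mpr ⟨mem_stabilizer_iff.mpr ha, mem_stabilizer_iff.mpr hb⟩
    rw [h, Subgroup.mem_bot] at hmem
    exact hx1 hmem
  obtain ⟨e⟩ := D.pairStab_dihedral hab hT hswap
  rw [Nat.card_congr e.toEquiv, DihedralGroup.nat_card]

theorem sol_invol [Finite H] (hF : Full D q 1 r s) {x : H} (hx1 : x ≠ 1) (hx2 : x * x = 1) :
    Nat.card {y : H // Group.IsSolvable (Subgroup.closure ({x, y} : Set H))} =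
      3 * q * (q - 1) := by
  obtain ⟨t, ht⟩ := isPar_of_sq D hx1 hx2
  have htr : t ∈ orbit H r := mem_orbit_r_of_Q hF (Q_ne_bot_of_mem (Or.inr ht) hx1)
  have key := card_sol_par D ht
  rw [card_Q_of_mem_r hF htr, card_stab_of_mem_r hF htr, card_sq_one hF] at key
  have hq := q_pos hF
  obtain ⟨k, rfl⟩ : ∃ k, q = k + 1 := ⟨q - 1, by omega⟩
  simp only [Nat.add_sub_cancel] at key ⊢
  have h : Nat.card {y : H // Group.IsSolvable (Subgroup.closure ({x, y} : Set H))} + 2 * (k + 1) =
      3 * (k + 1) * k + 2 * (k + 1) := by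
    rw [key]; ring
  omega

theorem sol_split [Finite H] (hF : Full D q 1 r s) (hq : 2 ∣ q) {x : H} (hx1 : x ≠ 1)
    (ho : orderOf x ∣ q - 1) :
    Nat.card {y : H // Group.IsSolvable (Subgroup.closure ({x, y} : Set H))} =
      2 * q * (q - 1) := by
  have hq0 := q_pos hF
  have hodd : Odd (orderOf x) := by
    have h1 : Odd (q - 1) := by
      obtain ⟨k, hk⟩ := hq
      exact ⟨k - 1, by omega⟩
    exact Odd.of_dvd_nat h1 ho
  obtain ⟨a, b, hab, ha, hb⟩ := two_fixed_of_odd D hx1 hodd
  have har : a ∈ orbit H r := by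
    rcases orbit_type hF hx1 hab ha hb with h | h
    · exact h.1
    · exact absurd (not_both hx1 hq hq0 ho h.2) id
  have hbr : b ∈ orbit H r := by
    rcases orbit_type hF hx1 hab.symm hb ha with h | h
    · exact h.1
    · exact absurd (not_both hx1 hq hq0 ho h.2) id
  have hswap : ∃ g : H, g • a = b ∧ g • b = a :=
    D.two_trans hF.hn har hbr hbr har hab hab.symm
  have key := card_sol_ss D hx1 hab ha hb
  rw [card_pairStab D hx1 hab ha hb hswap, card_inf_of_mem_r hF hx1 hab ha hb har,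
    card_stab_of_mem_r hF har, card_stab_of_mem_r hF hbr] at key
  have h : Nat.card {y : H // Group.IsSolvable (Subgroup.closure ({x, y} : Set H))} + 2 * (q - 1) =
      2 * q * (q - 1) + 2 * (q - 1) := by
    rw [key]; ring
  omega

theorem stab_eq_inf_of_mem_s [Finite H] (hF : Full D q 1 r s) {x : H} (hx1 : x ≠ 1) {a b : X}
    (hab : a ≠ b) (ha : x • a = a) (hb : x • b = b) (has : a ∈ orbit H s) :
    stabilizer H a = stabilizer H a ⊓ stabilizer H b := by
  have hne : stabilizer H a ≠ ⊥ := by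
    intro h
    have hmem : x ∈ stabilizer H a := mem_stabilizer_iff.mpr ha
    rw [h, Subgroup.mem_bot] at hmem
    exact hx1 hmem
  obtain ⟨y, hya, hy⟩ := D.stab_eq_inf_of_Q_bot (Q_bot_of_mem_s hF has) hne
  have hxy : x • y = y := by
    have hmem : x ∈ stabilizer H a := mem_stabilizer_iff.mpr ha
    rw [hy] at hmem
    exact mem_stabilizer_iff.mp (Subgroup.mem_inf.mp hmem).2
  rcases D.fix_eq_of_two hx1 hab ha hb hxy with h | h
  · exact absurd h hya
  · rw [← h]; exact hy

theorem sol_nonsplit [Finite H] (hF : Full D q 1 r s) (hq : 2 ∣ q) {x : H} (hx1 : x ≠ 1)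
    (ho : orderOf x ∣ q + 1) :
    Nat.card {y : H // Group.IsSolvable (Subgroup.closure ({x, y} : Set H))} =
      2 * (q + 1) := by
  have hq0 := q_pos hF
  have hodd : Odd (orderOf x) := by
    have h1 : Odd (q + 1) := by
      obtain ⟨k, hk⟩ := hq
      exact ⟨k, by omega⟩
    exact Odd.of_dvd_nat h1 ho
  obtain ⟨a, b, hab, ha, hb⟩ := two_fixed_of_odd D hx1 hodd
  have has : a ∈ orbit H s := by
    rcases orbit_type hF hx1 hab ha hb with h | h
    · exact absurd (not_both hx1 hq hq0 h.2 ho) id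
    · exact h.1
  have hbs : b ∈ orbit H s := by
    rcases orbit_type hF hx1 hab.symm hb ha with h | h
    · exact absurd (not_both hx1 hq hq0 h.2 ho) id
    · exact h.1
  have hSa := stab_eq_inf_of_mem_s hF hx1 hab ha hb has
  have hSb := stab_eq_inf_of_mem_s hF hx1 hab.symm hb ha hbs
  have hswap : ∃ g : H, g • a = b ∧ g • b = a := by
    obtain ⟨g1, hg1⟩ := has
    obtain ⟨g2, hg2⟩ := hbs
    have hg1' : g1 • s = a := hg1
    have hg2' : g2 • s = b := hg2
    set g := g2 * g1⁻¹ with hg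
    have hga : g • a = b := by rw [hg, mul_smul, ← hg1', inv_smul_smul, hg2']
    refine ⟨g, hga, ?_⟩
    have hm1 : g * x * g⁻¹ ≠ 1 := conj_ne_one hx1 g
    have hmb : (g * x * g⁻¹) • b = b := by
      have := conj_smul_fix (g := g) ha
      rwa [hga] at this
    have hmgb : (g * x * g⁻¹) • (g • b) = g • b := conj_smul_fix hb
    have hma : (g * x * g⁻¹) • a = a := by
      have hmem : g * x * g⁻¹ ∈ stabilizer H b := mem_stabilizer_iff.mpr hmb
      rw [hSb] at hmem
      exact mem_stabilizer_iff.mp (Subgroup.mem_inf.mp hmem).2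
    rcases D.fix_eq_of_two hm1 hab hma hmb hmgb with h | h
    · exact h
    · exfalso
      have h' : g • b = g • a := h.trans hga.symm
      exact hab (smul_left_cancel g h').symm
  have key := card_sol_ss D hx1 hab ha hb
  have hT : Nat.card ↥(stabilizer H a ⊓ stabilizer H b : Subgroup H) = q + 1 := by
    rw [← hSa]; exact card_stab_of_mem_s hF has
  rw [card_pairStab D hx1 hab ha hb hswap, hT,
    card_stab_of_mem_s hF has, card_stab_of_mem_s hF hbs] at key
  omega

end Cfsg.Agent.Lib.helper6.Sol2
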