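import Mathlib
import Cfsg.Agent.Lib.helper6.SolD

set_option autoImplicit false

namespace Cfsg.Agent.Lib.helper6.Sol3

open MulAction
open scoped commutatorElement
open Cfsg.Agent.Lib.helper6.Dickson Cfsg.Agent.Lib.helper6.PSL2Max
open Cfsg.Agent.Lib.helper6.Sol2

variable {H X : Type*} [Group H] [MulAction H X] {p : ℕ}

/-! ### general lemmas in any characteristic -/

/-- an element swapping two points is an involution -/
theorem sq_of_swap' (D : DAct H X p) {g : H} {c d : X} (hcd : c ≠ d) (h1 : g • c = d)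
    (h2 : g • d = c) : g * g = 1 := by
  obtain ⟨e, he⟩ := D.fix_exists g
  by_contra hne
  have hc : (g * g) • c = c := by rw [mul_smul, h1, h2]
  have hd : (g * g) • d = d := by rw [mul_smul, h2, h1]
  have hee : (g * g) • e = e := by rw [mul_smul, he, he]
  rcases D.fix_eq_of_two hne hcd hc hd hee with h | h
  · rw [h, h1] at he; exact hcd he.symm
  · rw [h, h2] at he; exact hcd he

/-- a swapping element inverts the elements fixing both points -/
theorem swap_inverts (D : DAct H X p) {g y : H} {c d : X} (hcd : c ≠ d) (h1 : g • c = d)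
    (h2 : g • d = c) (hyc : y • c = c) (hyd : y • d = d) : g * y * g⁻¹ = y⁻¹ := by
  have hg2 := sq_of_swap' D hcd h1 h2
  have hgy : (g * y) * (g * y) = 1 := by
    apply sq_of_swap' D hcd (c := c) (d := d)
    · rw [mul_smul, hyc, h1]
    · rw [mul_smul, hyd, h2]
  have hgi : g⁻¹ = g := inv_eq_of_mul_eq_one_left hg2
  rw [hgi]
  calc g * y * g = (g * y * (g * y)) * y⁻¹ := by group
    _ = y⁻¹ := by rw [hgy, one_mul]

/-- in a cyclic group there is at most one involution -/
theorem cyclic_invol_unique {C : Type*} [Group C] [IsCyclic C] [Finite C] {a b : C} (ha : a * a = 1)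
    (hb : b * b = 1) (ha1 : a ≠ 1) (hb1 : b ≠ 1) : a = b := by
  classical
  haveI : Fintype C := Fintype.ofFinite C
  have h := IsCyclic.card_pow_eq_one_le (α := C) (n := 2) (by norm_num)
  by_contra hab
  have hsub : ({1, a, b} : Finset C) ⊆ Finset.univ.filter (fun x : C => x ^ 2 = 1) := by
    intro x hx
    simp only [Finset.mem_insert, Finset.mem_singleton] at hx
    rw [Finset.mem_filter]
    refine ⟨Finset.mem_univ _, ?_⟩
    rcases hx with rfl | rfl | rfl
    · exact one_pow 2
    · rw [pow_two]; exact ha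
    · rw [pow_two]; exact hb
  have hc : ({1, a, b} : Finset C).card = 3 := by
    rw [Finset.card_insert_of_notMem, Finset.card_insert_of_notMem, Finset.card_singleton]
    · simpa using hab
    · simp only [Finset.mem_insert, Finset.mem_singleton, not_or]
      exact ⟨fun h => ha1 h.symm, fun h => hb1 h.symm⟩
  have := Finset.card_le_card hsub
  omega

/-- involutions fixing the same two points coincide -/
theorem invol_unique_of_two [Finite H] (D : DAct H X p) {a b : H} {c d : X} (hcd : c ≠ d)
    (ha : a * a = 1) (hb : b * b = 1) (ha1 : a ≠ 1) (hb1 : b ≠ 1) (hac : a • c = c)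
    (had : a • d = d) (hbc : b • c = c) (hbd : b • d = d) : a = b := by
  haveI := D.two_cyc c d hcd
  have hma : a ∈ (stabilizer H c ⊓ stabilizer H d : Subgroup H) :=
    Subgroup.mem_inf.mpr ⟨mem_stabilizer_iff.mpr hac, mem_stabilizer_iff.mpr had⟩
  have hmb : b ∈ (stabilizer H c ⊓ stabilizer H d : Subgroup H) :=
    Subgroup.mem_inf.mpr ⟨mem_stabilizer_iff.mpr hbc, mem_stabilizer_iff.mpr hbd⟩
  have := cyclic_invol_unique (C := ↥(stabilizer H c ⊓ stabilizer H d : Subgroup H))
    (a := ⟨a, hma⟩) (b := ⟨b, hmb⟩) (Subtype.ext ha) (Subtype.ext hb)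
    (fun h => ha1 (congrArg Subtype.val h)) (fun h => hb1 (congrArg Subtype.val h))
  exact congrArg Subtype.val this

/-- elements commuting with an element with two fixed points permute them -/
theorem perm_of_comm (D : DAct H X p) {n g : H} {c d : X} (hn1 : n ≠ 1) (hcd : c ≠ d)
    (hc : n • c = c) (hd : n • d = d) (hcomm : g * n = n * g) :
    (g • c = c ∧ g • d = d) ∨ (g • c = d ∧ g • d = c) := by
  have h1 : n • (g • c) = g • c := by rw [← mul_smul, ← hcomm, mul_smul, hc]
  have h2 : n • (g • d) = g • d := by rw [← mul_smul, ← hcomm, mul_smul, hd]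
  have h3 := D.fix_eq_of_two hn1 hcd hc hd h1
  have h4 := D.fix_eq_of_two hn1 hcd hc hd h2
  have hne : g • c ≠ g • d := fun h => hcd (smul_left_cancel g h)
  rcases h3 with h3 | h3 <;> rcases h4 with h4 | h4
  · exact absurd (h3.trans h4.symm) hne
  · exact Or.inl ⟨h3, h4⟩
  · exact Or.inr ⟨h3, h4⟩
  · exact absurd (h3.trans h4.symm) hne

/-! ### the trichotomy for solvable groups -/

/-- a normal Klein four-group of non-parabolic involutions -/
structure IsV4 {G : Type*} [Group G] [MulAction G X] (A : Subgroup G) (n m : G) (c d : X) :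
    Prop where
  hn1 : n ≠ 1
  hm1 : m ≠ 1
  hnm : n ≠ m
  hn2 : n * n = 1
  hm2 : m * m = 1
  hcomm : n * m = m * n
  hcd : c ≠ d
  hnc : n • c = c
  hnd : n • d = d
  hmc : m • c = d
  hmd : m • d = c
  hA : ∀ a : G, a ∈ A ↔ a = 1 ∨ a = n ∨ a = m ∨ a = n * m
  normal : A.Normal

theorem trichotomy {G : Type*} [Group G] [MulAction G X] [Finite G] (D : DAct G X p)
    [Group.IsSolvable G] [Nontrivial G] :
    (∃ c : X, ∀ g : G, g • c = c) ∨
      (∃ c d : X, c ≠ d ∧ ∀ g : G, (g • c = c ∧ g • d = d) ∨ (g • c = d ∧ g • d = c)) ∨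
      ∃ (A : Subgroup G) (n m : G) (c d : X), IsV4 A n m c d := by
  obtain ⟨A, hAn, hAne, hAc⟩ := Cfsg.Agent.Lib.Helper11.exists_abelian_normal (G := G)
  -- step 1: a parabolic element in A
  by_cases hpar : ∃ n ∈ A, ∃ c : X, IsPar c n
  · obtain ⟨n, hnA, c, hp⟩ := hpar
    left
    refine ⟨c, fun g => ?_⟩
    have hp' : IsPar (g • c) (g * n * g⁻¹) := hp.conj g
    have hcomm : n * (g * n * g⁻¹) = (g * n * g⁻¹) * n := hAc n hnA _ (hAn.conj_mem n hnA g)
    exact hp.2.2 _ (fix_of_comm_par hp' hcomm)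
  push Not at hpar
  have htwo : ∀ n ∈ A, n ≠ 1 → ∃ c d : X, c ≠ d ∧ n • c = c ∧ n • d = d := by
    intro n hnA hn1
    rcases par_or_two D hn1 with ⟨c, hc⟩ | h
    · exact absurd hc (hpar n hnA c)
    · exact h
  right
  -- step 2: an element of A which is not an involution
  by_cases hsq : ∃ n ∈ A, n * n ≠ 1
  · obtain ⟨n, hnA, hn2⟩ := hsq
    have hn1 : n ≠ 1 := by rintro rfl; exact hn2 (mul_one 1)
    obtain ⟨c, d, hcd, hc, hd⟩ := htwo n hnA hn1
    left
    refine ⟨c, d, hcd, fun g => ?_⟩
    -- all of A fixes c and d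
    have hAfix : ∀ a ∈ A, a • c = c ∧ a • d = d := by
      intro a haA
      rcases perm_of_comm D hn1 hcd hc hd (hAc a haA n hnA) with h | ⟨h1, h2⟩
      · exact h
      · exfalso
        have ha2 := sq_of_swap' D hcd h1 h2
        have han : (a * n) * (a * n) = 1 := by
          apply sq_of_swap' D hcd (c := c) (d := d)
          · rw [mul_smul, hc, h1]
          · rw [mul_smul, hd, h2]
        apply hn2
        have hcm : a * n = n * a := hAc a haA n hnA
        calc n * n = (a * a) * (n * n) := by rw [ha2, one_mul]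
          _ = a * (a * n) * n := by group
          _ = a * (n * a) * n := by rw [hcm]
          _ = (a * n) * (a * n) := by group
          _ = 1 := han
    set m := g * n * g⁻¹ with hm
    have hm1 : m ≠ 1 := conj_ne_one hn1 g
    have hmA : m ∈ A := hAn.conj_mem n hnA g
    have hmc : m • (g • c) = g • c := conj_smul_fix hc
    have hmd : m • (g • d) = g • d := conj_smul_fix hd
    have hgcd : g • c ≠ g • d := fun h => hcd (smul_left_cancel g h)
    obtain ⟨hfc, hfd⟩ := hAfix m hmA
    have h5 := D.fix_eq_of_two hm1 hgcd hmc hmd hfc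
    have h6 := D.fix_eq_of_two hm1 hgcd hmc hmd hfd
    rcases h5 with h5 | h5 <;> rcases h6 with h6 | h6
    · exact absurd (h5.trans h6.symm) hcd
    · exact Or.inl ⟨h5.symm, h6.symm⟩
    · exact Or.inr ⟨h6.symm, h5.symm⟩
    · exact absurd (h5.trans h6.symm) hcd
  push Not at hsq
  -- step 3: A is an elementary abelian 2-group
  obtain ⟨n, hnA, hn1⟩ : ∃ n ∈ A, n ≠ (1 : G) := by
    rcases A.bot_or_exists_ne_one with h | h
    · exact absurd h hAne
    · exact h
  obtain ⟨c, d, hcd, hc, hd⟩ := htwo n hnA hn1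
  by_cases hcen : ∀ g : G, g * n * g⁻¹ = n
  · left
    refine ⟨c, d, hcd, fun g => ?_⟩
    apply perm_of_comm D hn1 hcd hc hd
    have := hcen g
    calc g * n = (g * n * g⁻¹) * g := by group
      _ = n * g := by rw [this]
  push Not at hcen
  obtain ⟨g, hg⟩ := hcen
  right
  set m := g * n * g⁻¹ with hm
  have hm1 : m ≠ 1 := conj_ne_one hn1 g
  have hmA : m ∈ A := hAn.conj_mem n hnA g
  have hn2 : n * n = 1 := hsq n hnA
  have hm2 : m * m = 1 := hsq m hmA
  have hcm : n * m = m * n := hAc n hnA m hmA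
  -- m swaps c and d
  have hmswap : m • c = d ∧ m • d = c := by
    rcases perm_of_comm D hn1 hcd hc hd hcm.symm with ⟨h1, h2⟩ | h
    · exfalso
      exact hg (invol_unique_of_two D hcd hm2 hn2 hm1 hn1 h1 h2 hc hd)
    · exact h
  refine ⟨A, n, m, c, d, ⟨hn1, hm1, fun h => hg h.symm, hn2, hm2, hcm, hcd, hc, hd, hmswap.1, hmswap.2,
    ?_, hAn⟩⟩
  intro a
  constructor
  · intro haA
    by_cases ha1 : a = 1
    · exact Or.inl ha1
    have ha2 : a * a = 1 := hsq a haA
    rcases perm_of_comm D hn1 hcd hc hd (hAc a haA n hnA) with ⟨h1, h2⟩ | ⟨h1, h2⟩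
    · right; left
      exact invol_unique_of_two D hcd ha2 hn2 ha1 hn1 h1 h2 hc hd
    · -- a * m fixes c and d
      have hamA : a * m ∈ A := A.mul_mem haA hmA
      have h3 : (a * m) • c = c := by rw [mul_smul, hmswap.1, h2]
      have h4 : (a * m) • d = d := by rw [mul_smul, hmswap.2, h1]
      have ham2 : (a * m) * (a * m) = 1 := hsq _ hamA
      by_cases ham1 : a * m = 1
      · right; right; left
        calc a = (a * m) * m := by rw [mul_assoc, hm2, mul_one]
          _ = m := by rw [ham1, one_mul]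
      · right; right; right
        have := invol_unique_of_two D hcd ham2 hn2 ham1 hn1 h3 h4 hc hd
        calc a = (a * m) * m := by rw [mul_assoc, hm2, mul_one]
          _ = n * m := by rw [this]
  · rintro (rfl | rfl | rfl | rfl)
    · exact A.one_mem
    · exact hnA
    · exact hmA
    · exact A.mul_mem hnA hmA

end Cfsg.Agent.Lib.helper6.Sol3
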