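import Mathlib
import Cfsg.Agent.Lib.helper6.Sol3A

set_option autoImplicit false

namespace Cfsg.Agent.Lib.helper6.Sol3

open MulAction
open scoped commutatorElement
open Cfsg.Agent.Lib.helper6.Dickson Cfsg.Agent.Lib.helper6.PSL2Max
open Cfsg.Agent.Lib.helper6.Sol2

variable {X : Type*} {G : Type*} [Group G] [MulAction G X] {p : ℕ}
  {A : Subgroup G} {n m : G} {c d : X}

/-! ### the structure of a normal four-group -/

theorem IsV4.nm_sq (h : IsV4 A n m c d) : (n * m) * (n * m) = 1 := by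
  calc (n * m) * (n * m) = n * (m * n) * m := by group
    _ = n * (n * m) * m := by rw [h.hcomm]
    _ = (n * n) * (m * m) := by group
    _ = 1 := by rw [h.hn2, h.hm2, one_mul]

theorem IsV4.nm_ne_one (h : IsV4 A n m c d) : n * m ≠ 1 := by
  intro hc
  apply h.hnm
  calc n = n * (m * m) := by rw [h.hm2, mul_one]
    _ = (n * m) * m := by group
    _ = m := by rw [hc, one_mul]

theorem IsV4.n_mem (h : IsV4 A n m c d) : n ∈ A := (h.hA n).mpr (Or.inr (Or.inl rfl))
theorem IsV4.m_mem (h : IsV4 A n m c d) : m ∈ A := (h.hA m).mpr (Or.inr (Or.inr (Or.inl rfl)))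

theorem IsV4.sq_of_mem (h : IsV4 A n m c d) {a : G} (ha : a ∈ A) : a * a = 1 := by
  rcases (h.hA a).mp ha with rfl | rfl | rfl | rfl
  · exact mul_one 1
  · exact h.hn2
  · exact h.hm2
  · exact h.nm_sq

theorem IsV4.comm_of_mem (h : IsV4 A n m c d) {a b : G} (ha : a ∈ A) (hb : b ∈ A) :
    a * b = b * a := by
  have h1 := h.sq_of_mem ha
  have h2 := h.sq_of_mem hb
  have h3 := h.sq_of_mem (A.mul_mem ha hb)
  have hai : a⁻¹ = a := inv_eq_of_mul_eq_one_left h1
  have hbi : b⁻¹ = b := inv_eq_of_mul_eq_one_left h2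
  have h4 : (a * b)⁻¹ = a * b := inv_eq_of_mul_eq_one_left h3
  rw [mul_inv_rev, hai, hbi] at h4
  exact h4.symm

/-- the centralizer of the four-group is the four-group -/
theorem IsV4.mem_of_comm [Finite G] (D : DAct G X p) (h : IsV4 A n m c d) {g : G}
    (hgn : g * n = n * g) (hgm : g * m = m * g) : g ∈ A := by
  have key : ∀ g : G, g * n = n * g → g * m = m * g → g • c = c → g • d = d → g ∈ A := by
    intro g hgn hgm hc hd
    have h1 := swap_inverts D h.hcd h.hmc h.hmd hc hd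
    have h2 : m * g * m⁻¹ = g := by rw [← hgm]; group
    rw [h2] at h1
    have hg2 : g * g = 1 := by
      calc g * g = g * g⁻¹ := by rw [← h1]
        _ = 1 := mul_inv_cancel g
    by_cases hg1 : g = 1
    · rw [hg1]; exact A.one_mem
    · have := invol_unique_of_two D h.hcd hg2 h.hn2 hg1 h.hn1 hc hd h.hnc h.hnd
      rw [this]; exact h.n_mem
  rcases perm_of_comm D h.hn1 h.hcd h.hnc h.hnd hgn with ⟨h1, h2⟩ | ⟨h1, h2⟩
  · exact key g hgn hgm h1 h2
  · have h3 : (g * m) • c = c := by rw [mul_smul, h.hmc, h2]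
    have h4 : (g * m) • d = d := by rw [mul_smul, h.hmd, h1]
    have h5 : (g * m) * n = n * (g * m) := by
      rw [mul_assoc, ← h.hcomm, ← mul_assoc, hgn, mul_assoc]
    have h6 : (g * m) * m = m * (g * m) := by
      rw [← mul_assoc, ← hgm]
    have h7 := key (g * m) h5 h6 h3 h4
    have h8 := A.mul_mem h7 h.m_mem
    rwa [mul_assoc, h.hm2, mul_one] at h8

/-- the three involutions can be taken in any order: swap the first two -/
theorem IsV4.symm [Finite G] (D : DAct G X p) (h : IsV4 A n m c d) (hm : ∀ x : X, ¬ IsPar x m) :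
    ∃ c' d' : X, IsV4 A m n c' d' := by
  rcases par_or_two D h.hm1 with ⟨x, hx⟩ | ⟨c', d', hcd', hc', hd'⟩
  · exact absurd hx (hm x)
  · refine ⟨c', d', ?_⟩
    have hsw : n • c' = d' ∧ n • d' = c' := by
      rcases perm_of_comm D h.hm1 hcd' hc' hd' h.hcomm with ⟨h1, h2⟩ | h'
      · exact absurd (invol_unique_of_two D hcd' h.hn2 h.hm2 h.hn1 h.hm1 h1 h2 hc' hd') h.hnm
      · exact h'
    refine ⟨h.hm1, h.hn1, h.hnm.symm, h.hm2, h.hn2, h.hcomm.symm, hcd', hc', hd', hsw.1, hsw.2, ?_,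
      h.normal⟩
    intro a
    rw [h.hA a, ← h.hcomm]
    tauto

/-- the three involutions can be taken in any order: replace the second by the product -/
theorem IsV4.mul_right (h : IsV4 A n m c d) : IsV4 A n (n * m) c d := by
  refine ⟨h.hn1, h.nm_ne_one, ?_, h.hn2, h.nm_sq, ?_, h.hcd, h.hnc, h.hnd, ?_, ?_, ?_, h.normal⟩
  · intro hc
    apply h.hm1
    calc m = (n * n) * m := by rw [h.hn2, one_mul]
      _ = n * (n * m) := by group
      _ = n * n := by rw [← hc]
      _ = 1 := h.hn2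
  · rw [← mul_assoc, h.hn2, one_mul, h.hcomm, mul_assoc, h.hn2, mul_one]
  · rw [mul_smul, h.hmc, h.hnd]
  · rw [mul_smul, h.hmd, h.hnc]
  · intro a
    rw [h.hA a]
    have e : n * (n * m) = m := by rw [← mul_assoc, h.hn2, one_mul]
    rw [e]
    tauto

end Cfsg.Agent.Lib.helper6.Sol3
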