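import Mathlib
import Cfsg.Agent.Lib.helper6.Sol3B

set_option autoImplicit false

namespace Cfsg.Agent.Lib.helper6.Sol3

open MulAction
open scoped commutatorElement
open Cfsg.Agent.Lib.helper6.Dickson Cfsg.Agent.Lib.helper6.PSL2Max
open Cfsg.Agent.Lib.helper6.Sol2

variable {X : Type*} {G : Type*} [Group G] [MulAction G X] {p : ℕ}
  {A : Subgroup G} {n m : G} {c d : X}

/-- no elements of order four -/
def NoFour (G : Type*) [Group G] : Prop := ∀ y : G, (y * y) * (y * y) = 1 → y * y = 1

theorem NoFour.subgroup {H : Type*} [Group H] (h : NoFour H) (K : Subgroup H) : NoFour K := by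
  intro y hy
  apply Subtype.ext
  have := h (y : H) (by
    have := congrArg Subtype.val hy
    simpa using this)
  simpa using this

/-- an element of the group fixing the first involution fixes the second -/
theorem IsV4.fix_second [Finite G] (D : DAct G X p) (h : IsV4 A n m c d) (h4 : NoFour G) {y : G}
    (hyn : y * n * y⁻¹ = n) : y * m * y⁻¹ = m := by
  have hmem : y * m * y⁻¹ ∈ A := h.normal.conj_mem m h.m_mem y
  have hne1 : y * m * y⁻¹ ≠ 1 := conj_ne_one h.hm1 y
  have hnen : y * m * y⁻¹ ≠ n := by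
    intro hc
    apply h.hnm
    have : y * m * y⁻¹ = y * n * y⁻¹ := hc.trans hyn.symm
    have h2 : y⁻¹ * (y * m * y⁻¹) * y = y⁻¹ * (y * n * y⁻¹) * y := by rw [this]
    have e1 : y⁻¹ * (y * m * y⁻¹) * y = m := by group
    have e2 : y⁻¹ * (y * n * y⁻¹) * y = n := by group
    rw [e1, e2] at h2
    exact h2.symm
  rcases (h.hA _).mp hmem with h1 | h1 | h1 | h1
  · exact absurd h1 hne1
  · exact absurd h1 hnen
  · exact h1
  · exfalso
    -- the case of an element fixing c and d
    have key : ∀ y : G, y * n * y⁻¹ = n → y * m * y⁻¹ = n * m → y • c = c → y • d = d → False := by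
      intro y _ hym hc hd
      have h2 := swap_inverts D h.hcd h.hmc h.hmd hc hd
      have h3 : m * y⁻¹ * m⁻¹ = y := by
        have : m * y⁻¹ * m⁻¹ = (m * y * m⁻¹)⁻¹ := by group
        rw [this, h2, inv_inv]
      have h4' : y * y = n := by
        calc y * y = y * (m * y⁻¹ * m⁻¹) := by rw [h3]
          _ = (y * m * y⁻¹) * m⁻¹ := by group
          _ = n * m * m⁻¹ := by rw [hym]
          _ = n := by group
      have h5 := h4 y (by rw [h4']; exact h.hn2)
      rw [h4'] at h5
      exact h.hn1 h5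
    have hcomm : y * n = n * y := by
      calc y * n = (y * n * y⁻¹) * y := by group
        _ = n * y := by rw [hyn]
    rcases perm_of_comm D h.hn1 h.hcd h.hnc h.hnd hcomm with ⟨h2, h3⟩ | ⟨h2, h3⟩
    · exact key y hyn h1 h2 h3
    · apply key (y * m)
      · have hmi : m⁻¹ = m := inv_eq_of_mul_eq_one_left h.hm2
        calc y * m * n * (y * m)⁻¹ = y * (m * n * m⁻¹) * y⁻¹ := by group
          _ = y * (m * n * m) * y⁻¹ := by rw [hmi]
          _ = y * (n * m * m) * y⁻¹ := by rw [h.hcomm]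
          _ = y * n * y⁻¹ := by rw [mul_assoc n m m, h.hm2, mul_one]
          _ = n := hyn
      · calc y * m * m * (y * m)⁻¹ = y * m * y⁻¹ := by group
          _ = n * m := h1
      · rw [mul_smul, h.hmc, h3]
      · rw [mul_smul, h.hmd, h2]

theorem IsV4.mem_of_fix_first [Finite G] (D : DAct G X p) (h : IsV4 A n m c d) (h4 : NoFour G)
    {y : G} (hyn : y * n * y⁻¹ = n) : y ∈ A := by
  have hym := h.fix_second D h4 hyn
  apply h.mem_of_comm D
  · calc y * n = (y * n * y⁻¹) * y := by group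
      _ = n * y := by rw [hyn]
  · calc y * m = (y * m * y⁻¹) * y := by group
      _ = m * y := by rw [hym]

/-- involutions are not parabolic in odd characteristic -/
theorem not_par_of_invol (D : DAct G X p) (hp : Odd p) {a : G} (ha : a * a = 1) (x : X) :
    ¬ IsPar x a := by
  intro hx
  have h1 := D.par_pow x a hx
  obtain ⟨k, hk⟩ := hp
  rw [hk, pow_succ, pow_mul, pow_two, ha, one_pow, one_mul] at h1
  exact hx.1 h1

theorem IsV4.mem_of_fix_any [Finite G] (D : DAct G X p) (hp : Odd p) (h : IsV4 A n m c d)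
    (h4 : NoFour G) {y a : G} (ha : a ∈ A) (ha1 : a ≠ 1) (hya : y * a * y⁻¹ = a) : y ∈ A := by
  rcases (h.hA a).mp ha with rfl | rfl | rfl | rfl
  · exact absurd rfl ha1
  · exact h.mem_of_fix_first D h4 hya
  · obtain ⟨c', d', h'⟩ := h.symm D (not_par_of_invol D hp h.hm2)
    exact h'.mem_of_fix_first D h4 hya
  · obtain ⟨c', d', h'⟩ := h.mul_right.symm D (not_par_of_invol D hp h.nm_sq)
    exact h'.mem_of_fix_first D h4 hya

/-! ### consequences: the group acts on the four-group with image of order at most three -/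

theorem conj_mul_conj (y a b : G) : (y * a * y⁻¹) * (y * b * y⁻¹) = y * (a * b) * y⁻¹ := by group

theorem conj_inj {y a b : G} (h : y * a * y⁻¹ = y * b * y⁻¹) : a = b := by
  have h2 : y⁻¹ * (y * a * y⁻¹) * y = y⁻¹ * (y * b * y⁻¹) * y := by rw [h]
  have e1 : y⁻¹ * (y * a * y⁻¹) * y = a := by group
  have e2 : y⁻¹ * (y * b * y⁻¹) * y = b := by group
  rw [e1, e2] at h2
  exact h2

theorem IsV4.conj_cases (h : IsV4 A n m c d) (y : G) {a : G} (ha : a ∈ A) (ha1 : a ≠ 1) :
    y * a * y⁻¹ = n ∨ y * a * y⁻¹ = m ∨ y * a * y⁻¹ = n * m := by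
  have hmem : y * a * y⁻¹ ∈ A := h.normal.conj_mem a ha y
  rcases (h.hA _).mp hmem with h1 | h1 | h1 | h1
  · exact absurd h1 (conj_ne_one ha1 y)
  · exact Or.inl h1
  · exact Or.inr (Or.inl h1)
  · exact Or.inr (Or.inr h1)

theorem IsV4.nm_mem (h : IsV4 A n m c d) : n * m ∈ A := A.mul_mem h.n_mem h.m_mem

theorem IsV4.n_ne_nm (h : IsV4 A n m c d) : n ≠ n * m := by
  intro hc
  apply h.hm1
  calc m = (n * n) * m := by rw [h.hn2, one_mul]
    _ = n * (n * m) := by group
    _ = n * n := by rw [← hc]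
    _ = 1 := h.hn2

theorem IsV4.m_ne_nm (h : IsV4 A n m c d) : m ≠ n * m := by
  intro hc
  apply h.hn1
  calc n = n * (m * m) := by rw [h.hm2, mul_one]
    _ = (n * m) * m := by group
    _ = m * m := by rw [← hc]
    _ = 1 := h.hm2

/-- the cube of every element lies in the four-group -/
theorem IsV4.cube_mem [Finite G] (D : DAct G X p) (hp : Odd p) (h : IsV4 A n m c d)
    (h4 : NoFour G) (y : G) : y * y * y ∈ A := by
  have hfix := fun (a : G) (ha : a ∈ A) (ha1 : a ≠ 1) (hya : y * a * y⁻¹ = a) =>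
    h.mem_of_fix_any D hp h4 ha ha1 hya
  have hin : y ∈ A → y * y * y ∈ A := fun hy => A.mul_mem (A.mul_mem hy hy) hy
  have e3 : ∀ a : G, (y * y * y) * a * (y * y * y)⁻¹ = y * (y * (y * a * y⁻¹) * y⁻¹) * y⁻¹ := by
    intro a; group
  have hmn : m * (n * m) = n := by
    rw [← mul_assoc, ← h.hcomm, mul_assoc, h.hm2, mul_one]
  have hnmn : n * m * n = m := by
    rw [h.hcomm, mul_assoc, h.hn2, mul_one]
  rcases h.conj_cases y h.n_mem h.hn1 with h1 | h1 | h1
  · exact hin (hfix n h.n_mem h.hn1 h1)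
  · -- f n = m
    rcases h.conj_cases y h.m_mem h.hm1 with h2 | h2 | h2
    · -- f m = n : then f (n m) = n m
      have h3 : y * (n * m) * y⁻¹ = n * m := by
        rw [← conj_mul_conj, h1, h2, h.hcomm]
      have hy := hfix (n * m) h.nm_mem h.nm_ne_one h3
      exact hin hy
    · exact absurd (conj_inj (h2.trans h1.symm)) h.hnm.symm
    · -- f m = n m, f (n m) = n
      have h3 : y * (n * m) * y⁻¹ = n := by
        rw [← conj_mul_conj, h1, h2, hmn]
      apply h.mem_of_fix_first D h4
      rw [e3, h1, h2, h3]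
  · -- f n = n m
    rcases h.conj_cases y h.m_mem h.hm1 with h2 | h2 | h2
    · -- f m = n, f (n m) = m
      have h3 : y * (n * m) * y⁻¹ = m := by
        rw [← conj_mul_conj, h1, h2, hnmn]
      apply h.mem_of_fix_first D h4
      rw [e3, h1, h3, h2]
    · exact hin (hfix m h.m_mem h.hm1 h2)
    · exact absurd (conj_inj (h1.trans h2.symm)) h.hnm

/-- involutions of the group lie in the four-group -/
theorem IsV4.invol_mem [Finite G] (D : DAct G X p) (hp : Odd p) (h : IsV4 A n m c d)
    (h4 : NoFour G) {y : G} (hy : y * y = 1) : y ∈ A := by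
  have h3 := h.cube_mem D hp h4 y
  rwa [hy, one_mul] at h3

/-- an element outside the four-group permutes the three involutions cyclically -/
theorem IsV4.cycle [Finite G] (D : DAct G X p) (hp : Odd p) (h : IsV4 A n m c d)
    (h4 : NoFour G) {x : G} (hx : x ∉ A) :
    (x * n * x⁻¹ = m ∧ x * m * x⁻¹ = n * m) ∨ (x * n * x⁻¹ = n * m ∧ x * (n * m) * x⁻¹ = m) := by
  have hfix := fun (a : G) (ha : a ∈ A) (ha1 : a ≠ 1) (hya : x * a * x⁻¹ = a) =>
    hx (h.mem_of_fix_any D hp h4 ha ha1 hya)
  have hnmn : n * m * n = m := by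
    rw [h.hcomm, mul_assoc, h.hn2, mul_one]
  rcases h.conj_cases x h.n_mem h.hn1 with h1 | h1 | h1
  · exact absurd h1 (hfix n h.n_mem h.hn1)
  · left
    refine ⟨h1, ?_⟩
    rcases h.conj_cases x h.m_mem h.hm1 with h2 | h2 | h2
    · exfalso
      apply hfix (n * m) h.nm_mem h.nm_ne_one
      rw [← conj_mul_conj, h1, h2, h.hcomm]
    · exact absurd h2 (hfix m h.m_mem h.hm1)
    · exact h2
  · right
    refine ⟨h1, ?_⟩
    rcases h.conj_cases x h.nm_mem h.nm_ne_one with h2 | h2 | h2
    · exfalso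
      apply hfix m h.m_mem h.hm1
      have e : m = n * (n * m) := by rw [← mul_assoc, h.hn2, one_mul]
      have h3 : x * (n * (n * m)) * x⁻¹ = m := by
        rw [← conj_mul_conj, h1, h2, hnmn]
      rw [← e] at h3
      exact h3
    · exact h2
    · exact absurd h2 (hfix (n * m) h.nm_mem h.nm_ne_one)

/-- every element lies in a coset of the four-group by a power of an element of order three -/
theorem IsV4.coset [Finite G] (D : DAct G X p) (hp : Odd p) (h : IsV4 A n m c d)
    (h4 : NoFour G) {x : G} (hx : x ∉ A) (hx3 : x * x * x = 1) (y : G) :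
    ∃ a ∈ A, y = a ∨ y = a * x ∨ y = a * (x * x) := by
  have hxi : x⁻¹ = x * x := by
    apply inv_eq_of_mul_eq_one_left
    rw [← hx3]
  have hxxi : (x * x)⁻¹ = x := by
    rw [← hxi, inv_inv]
  have hmem : ∀ z : G, (y * z) * n * (y * z)⁻¹ = n → y * z ∈ A := fun z hz =>
    h.mem_of_fix_first D h4 hz
  have e1 : ∀ z a : G, (y * z) * a * (y * z)⁻¹ = y * (z * a * z⁻¹) * y⁻¹ := by
    intro z a; group
  -- the image of n under conjugation by y⁻¹
  have hg := h.conj_cases y⁻¹ h.n_mem h.hn1
  rw [inv_inv] at hg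
  have hback : ∀ a : G, y⁻¹ * n * y = a → y * a * y⁻¹ = n := by
    intro a ha
    rw [← ha]; group
  have hxx : ∀ a : G, (x * x) * a * (x * x)⁻¹ = x * (x * a * x⁻¹) * x⁻¹ := by
    intro a; group
  have out0 : y * 1 ∈ A → ∃ a ∈ A, y = a ∨ y = a * x ∨ y = a * (x * x) := by
    intro hy
    rw [mul_one] at hy
    exact ⟨y, hy, Or.inl rfl⟩
  have out1 : y * x ∈ A → ∃ a ∈ A, y = a ∨ y = a * x ∨ y = a * (x * x) := by
    intro hy
    refine ⟨y * x, hy, Or.inr (Or.inr ?_)⟩
    rw [← hxi]; group
  have out2 : y * (x * x) ∈ A → ∃ a ∈ A, y = a ∨ y = a * x ∨ y = a * (x * x) := by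
    intro hy
    refine ⟨y * (x * x), hy, Or.inr (Or.inl ?_)⟩
    calc y = y * (x * x * x) := by rw [hx3, mul_one]
      _ = y * (x * x) * x := by group
  rcases hg with hg | hg | hg
  · apply out0
    apply hmem 1
    rw [mul_one]
    exact hback n hg
  · rcases h.cycle D hp h4 hx with ⟨h1, h2⟩ | ⟨h1, h2⟩
    · apply out1
      apply hmem x
      rw [e1, h1]
      exact hback m hg
    · apply out2
      apply hmem (x * x)
      rw [e1, hxx, h1, h2]
      exact hback m hg
  · rcases h.cycle D hp h4 hx with ⟨h1, h2⟩ | ⟨h1, h2⟩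
    · apply out2
      apply hmem (x * x)
      rw [e1, hxx, h1, h2]
      exact hback (n * m) hg
    · apply out1
      apply hmem x
      rw [e1, h1]
      exact hback (n * m) hg

end Cfsg.Agent.Lib.helper6.Sol3
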