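import Mathlib
import Cfsg.Agent.Lib.helper6.PSL2Max
import Cfsg.Agent.Lib.helper6.PSL2MinA

set_option autoImplicit false

namespace Cfsg.Agent.Lib.helper6.Sol3

open scoped commutatorElement
open Cfsg.Agent.Lib.helper6.PSL2Max

variable {G : Type*} [Group G]

/-! ### a solvability criterion for subgroups generated by elements normalizing an abelian
subgroup and commuting modulo it -/

theorem comm_mem_of_closure (V : Subgroup G) (S : Set G)
    (hS : ∀ s ∈ S, s ∈ Subgroup.normalizer (V : Set G))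
    (hc : ∀ s ∈ S, ∀ t ∈ S, s * t * s⁻¹ * t⁻¹ ∈ V) :
    ∀ a ∈ Subgroup.closure S, ∀ b ∈ Subgroup.closure S, a * b * a⁻¹ * b⁻¹ ∈ V := by
  have hN : Subgroup.closure S ≤ Subgroup.normalizer (V : Set G) :=
    (Subgroup.closure_le _).mpr hS
  have hconj : ∀ g ∈ Subgroup.closure S, ∀ v ∈ V, g * v * g⁻¹ ∈ V := by
    intro g hg v hv
    exact (Subgroup.mem_set_normalizer_iff.mp (hN hg) v).mp hv
  have hconj' : ∀ g ∈ Subgroup.closure S, ∀ v ∈ V, g⁻¹ * v * g ∈ V := by
    intro g hg v hv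
    have := hconj g⁻¹ (Subgroup.inv_mem _ hg) v hv
    rwa [inv_inv] at this
  -- generators against arbitrary elements
  have hgen : ∀ s ∈ S, ∀ b ∈ Subgroup.closure S, s * b * s⁻¹ * b⁻¹ ∈ V := by
    intro s hs b hb
    induction hb using Subgroup.closure_induction with
    | mem t ht => exact hc s hs t ht
    | one => simp
    | mul b₁ b₂ hb₁ hb₂ ih₁ ih₂ =>
      have e : s * (b₁ * b₂) * s⁻¹ * (b₁ * b₂)⁻¹ =
          (s * b₁ * s⁻¹ * b₁⁻¹) * (b₁ * (s * b₂ * s⁻¹ * b₂⁻¹) * b₁⁻¹) := by group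
      rw [e]
      exact V.mul_mem ih₁ (hconj b₁ hb₁ _ ih₂)
    | inv b hb ih =>
      have e : s * b⁻¹ * s⁻¹ * b⁻¹⁻¹ = b⁻¹ * (s * b * s⁻¹ * b⁻¹)⁻¹ * b := by group
      rw [e]
      exact hconj' b hb _ (V.inv_mem ih)
  intro a ha
  induction ha using Subgroup.closure_induction with
  | mem s hs => exact hgen s hs
  | one => intro b _; simp
  | mul a₁ a₂ ha₁ ha₂ ih₁ ih₂ =>
    intro b hb
    have e : (a₁ * a₂) * b * (a₁ * a₂)⁻¹ * b⁻¹ =
        (a₁ * (a₂ * b * a₂⁻¹ * b⁻¹) * a₁⁻¹) * (a₁ * b * a₁⁻¹ * b⁻¹) := by group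
    rw [e]
    exact V.mul_mem (hconj a₁ ha₁ _ (ih₂ b hb)) (ih₁ b hb)
  | inv a ha ih =>
    intro b hb
    have e : a⁻¹ * b * a⁻¹⁻¹ * b⁻¹ = a⁻¹ * (a * b * a⁻¹ * b⁻¹)⁻¹ * a := by group
    rw [e]
    exact hconj' a ha _ (V.inv_mem (ih b hb))

theorem solvable_closure_of_comm (V : Subgroup G) (hV : ∀ a ∈ V, ∀ b ∈ V, a * b = b * a)
    (S : Set G) (hS : ∀ s ∈ S, s ∈ Subgroup.normalizer (V : Set G))
    (hc : ∀ s ∈ S, ∀ t ∈ S, s * t * s⁻¹ * t⁻¹ ∈ V) :
    Group.IsSolvable (Subgroup.closure S) := by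
  apply Cfsg.Agent.Lib.helper6.PSL2Min.Meta.isSolvable
  have key := comm_mem_of_closure V S hS hc
  have hcomm : ∀ a b : Subgroup.closure S, ((⁅a, b⁆ : Subgroup.closure S) : G) ∈ V := by
    intro a b
    have := key a a.2 b b.2
    rw [commutatorElement_def]
    simpa using this
  intro a b c d
  apply Subtype.ext
  have h1 := hV _ (hcomm a b) _ (hcomm c d)
  rw [commutatorElement_def]
  simp only [Subgroup.coe_mul, Subgroup.coe_inv, Subgroup.coe_one]
  rw [h1]
  group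

theorem mem_normalizer_closure (T : Set G) (g : G)
    (h1 : ∀ t ∈ T, g * t * g⁻¹ ∈ Subgroup.closure T)
    (h2 : ∀ t ∈ T, g⁻¹ * t * g ∈ Subgroup.closure T) :
    g ∈ Subgroup.normalizer ((Subgroup.closure T : Subgroup G) : Set G) := by
  have k1 : ∀ h ∈ Subgroup.closure T, g * h * g⁻¹ ∈ Subgroup.closure T := by
    intro h hh
    induction hh using Subgroup.closure_induction with
    | mem t ht => exact h1 t ht
    | one => simp
    | mul a b _ _ iha ihb =>
      have e : g * (a * b) * g⁻¹ = (g * a * g⁻¹) * (g * b * g⁻¹) := by group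
      rw [e]; exact Subgroup.mul_mem _ iha ihb
    | inv a _ iha =>
      have e : g * a⁻¹ * g⁻¹ = (g * a * g⁻¹)⁻¹ := by group
      rw [e]; exact Subgroup.inv_mem _ iha
  have k2 : ∀ h ∈ Subgroup.closure T, g⁻¹ * h * g ∈ Subgroup.closure T := by
    intro h hh
    induction hh using Subgroup.closure_induction with
    | mem t ht => exact h2 t ht
    | one => simp
    | mul a b _ _ iha ihb =>
      have e : g⁻¹ * (a * b) * g = (g⁻¹ * a * g) * (g⁻¹ * b * g) := by group
      rw [e]; exact Subgroup.mul_mem _ iha ihb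
    | inv a _ iha =>
      have e : g⁻¹ * a⁻¹ * g = (g⁻¹ * a * g)⁻¹ := by group
      rw [e]; exact Subgroup.inv_mem _ iha
  rw [Subgroup.mem_set_normalizer_iff]
  intro h
  constructor
  · exact k1 h
  · intro hh
    have := k2 _ hh
    have e : g⁻¹ * (g * h * g⁻¹) * g = h := by group
    rwa [e] at this

/-- a group generated by `x`, `n` with `x³ = n² = (x n)³ = 1` is solvable -/
theorem solvable_of_233 {x n : G} (hx : x * x * x = 1) (hn : n * n = 1)
    (hxn : (x * n) * (x * n) * (x * n) = 1) :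
    Group.IsSolvable (Subgroup.closure ({x, n} : Set G)) := by
  have hxi : x⁻¹ = x * x := by
    apply inv_eq_of_mul_eq_one_left
    rw [← hx]
  have hni : n⁻¹ = n := inv_eq_of_mul_eq_one_left hn
  set n₁ := x * n * x⁻¹ with hn₁
  set n₂ := x⁻¹ * n * x with hn₂
  have hn₁sq : n₁ * n₁ = 1 := by
    calc n₁ * n₁ = x * (n * n) * x⁻¹ := by rw [hn₁]; group
      _ = 1 := by rw [hn]; group
  have hn₁i : n₁⁻¹ = n₁ := inv_eq_of_mul_eq_one_left hn₁sq
  -- the basic relation
  have R1 : n₁ * n₂ * n = 1 := by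
    calc n₁ * n₂ * n = x * n * (x⁻¹ * x⁻¹) * n * x * n := by rw [hn₁, hn₂]; group
      _ = x * n * x * n * x * n := by
        have : x⁻¹ * x⁻¹ = x := by
          rw [hxi]
          calc x * x * (x * x) = (x * x * x) * x := by group
            _ = x := by rw [hx, one_mul]
        rw [this]
      _ = (x * n) * (x * n) * (x * n) := by group
      _ = 1 := hxn
  have c1 : x * n₁ * x⁻¹ = n₂ := by
    rw [hn₁, hn₂]
    calc x * (x * n * x⁻¹) * x⁻¹ = (x * x) * n * (x⁻¹ * x⁻¹) := by group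
      _ = x⁻¹ * n * (x⁻¹ * x⁻¹) := by rw [← hxi]
      _ = x⁻¹ * n * x := by
        have : x⁻¹ * x⁻¹ = x := by
          rw [hxi]
          calc x * x * (x * x) = (x * x * x) * x := by group
            _ = x := by rw [hx, one_mul]
        rw [this]
  have c2 : x * n₂ * x⁻¹ = n := by rw [hn₂]; group
  have R2 : n₂ * n * n₁ = 1 := by
    calc n₂ * n * n₁ = (x * n₁ * x⁻¹) * (x * n₂ * x⁻¹) * (x * n * x⁻¹) := by rw [c1, c2]
      _ = x * (n₁ * n₂ * n) * x⁻¹ := by group
      _ = 1 := by rw [R1]; group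
  have e1 : n₁ * n₂ = n := by
    calc n₁ * n₂ = (n₁ * n₂ * n) * n⁻¹ := by group
      _ = n := by rw [R1, one_mul, hni]
  have e2 : n₂ * n = n₁ := by
    calc n₂ * n = (n₂ * n * n₁) * n₁⁻¹ := by group
      _ = n₁ := by rw [R2, one_mul, hn₁i]
  have e3 : n₂ = n₁ * n := by
    calc n₂ = n₂ * (n * n) := by rw [hn, mul_one]
      _ = (n₂ * n) * n := by group
      _ = n₁ * n := by rw [e2]
  have hcomm : n * n₁ = n₁ * n := by
    have h5 : x * n₁ * x⁻¹ = n₁ * n := by rw [c1, e3]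
    have h6 : x * n₂ * x⁻¹ = n := c2
    rw [e3] at h6
    have h7 : x * (n₁ * n) * x⁻¹ = (x * n₁ * x⁻¹) * (x * n * x⁻¹) := by group
    rw [h6, h5] at h7
    calc n * n₁ = (n₁ * n * n₁) * n₁ := by rw [← h7]
      _ = n₁ * n * (n₁ * n₁) := by group
      _ = n₁ * n := by rw [hn₁sq, mul_one]
  set V := Subgroup.closure ({n, n₁} : Set G) with hV
  have hnV : n ∈ V := Subgroup.subset_closure (Set.mem_insert n {n₁})
  have hn₁V : n₁ ∈ V := Subgroup.subset_closure (Set.mem_insert_of_mem n rfl)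
  have hn₂V : n₂ ∈ V := by rw [e3]; exact V.mul_mem hn₁V hnV
  have hVcomm : ∀ a ∈ V, ∀ b ∈ V, a * b = b * a := by
    have hgen : ∀ s ∈ ({n, n₁} : Set G), ∀ t ∈ ({n, n₁} : Set G), s * t = t * s := by
      rintro s (rfl | rfl) t (rfl | rfl)
      · rfl
      · exact hcomm
      · exact hcomm.symm
      · rfl
    have hmc := Subgroup.isMulCommutative_closure hgen
    intro a ha b hb
    have := hmc.is_comm.comm (⟨a, ha⟩ : Subgroup.closure ({n, n₁} : Set G)) ⟨b, hb⟩
    exact congrArg Subtype.val this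
  have hxN : x ∈ Subgroup.normalizer (V : Set G) := by
    apply mem_normalizer_closure
    · rintro t (rfl | rfl)
      · exact hn₁V
      · rw [c1]; exact hn₂V
    · rintro t (rfl | rfl)
      · exact hn₂V
      · have : x⁻¹ * n₁ * x = n := by rw [hn₁]; group
        rw [this]; exact hnV
  have hnN : n ∈ Subgroup.normalizer (V : Set G) := Subgroup.le_normalizer hnV
  apply solvable_closure_of_comm V hVcomm
  · rintro s (rfl | rfl)
    · exact hxN
    · exact hnN
  · have k1 : x * n * x⁻¹ * n⁻¹ ∈ V := by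
      rw [hni]; exact V.mul_mem hn₁V hnV
    rintro s (rfl | rfl) t (rfl | rfl)
    · simp
    · exact k1
    · have e : s * t * s⁻¹ * t⁻¹ = (t * s * t⁻¹ * s⁻¹)⁻¹ := by group
      rw [e]; exact V.inv_mem k1
    · simp


end Cfsg.Agent.Lib.helper6.Sol3
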