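import Mathlib
import Cfsg.Agent.Lib.helper6.Sol3C
import Cfsg.Agent.Lib.helper6.Sol3D

set_option autoImplicit false

namespace Cfsg.Agent.Lib.helper6.Sol3

open MulAction
open scoped commutatorElement
open Cfsg.Agent.Lib.helper6.Dickson Cfsg.Agent.Lib.helper6.PSL2Max
open Cfsg.Agent.Lib.helper6.Sol2

variable {H X : Type*} [Group H] [MulAction H X] {p : ℕ} {D : DAct H X p} {q d : ℕ} {r s : X}

/-! ### orbit data of a full group, general `p` and `d` -/

theorem mem_orbit_r_of_Q' (hF : Full D q d r s) {t : X} (hQ : D.Q t ≠ ⊥) : t ∈ orbit H r := by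
  obtain ⟨u, hu1⟩ := (Subgroup.ne_bot_iff_exists_ne_one).mp hQ
  have hu1' : (u : H) ≠ 1 := fun h => hu1 (Subtype.ext h)
  rcases hF.cover t ⟨u, hu1', D.Q_fix u.2⟩ with h | h
  · exact h
  · exfalso
    obtain ⟨g, hg⟩ := h
    have hg' : g • s = t := hg
    have h1 := D.card_Q_smul g s
    rw [hg', hF.hQs, Subgroup.card_bot] at h1
    exact hQ (Subgroup.card_eq_one.mp h1)

theorem mem_orbit_r_of_par (hF : Full D q d r s) {t : X} {u : H} (hu : IsPar t u) :
    t ∈ orbit H r := by
  apply mem_orbit_r_of_Q' hF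
  intro h
  have hm : u ∈ D.Q t := Or.inr hu
  rw [h, Subgroup.mem_bot] at hm
  exact hu.1 hm

theorem card_stab_of_mem_r' (hF : Full D q d r s) {t : X} (ht : t ∈ orbit H r) :
    Nat.card (stabilizer H t) * d = q * (q - 1) := by
  obtain ⟨g, hg⟩ := ht
  have hg' : g • r = t := hg
  rw [← hg', DAct.card_stab_smul]
  exact hF.stabr

theorem card_Q_of_mem_r' (hF : Full D q d r s) {t : X} (ht : t ∈ orbit H r) :
    Nat.card (D.Q t) = q := by
  obtain ⟨g, hg⟩ := ht
  have hg' : g • r = t := hg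
  rw [← hg', D.card_Q_smul]
  exact hF.cardQ

theorem card_stab_of_mem_s' (hF : Full D q d r s) {t : X} (ht : t ∈ orbit H s) :
    Nat.card (stabilizer H t) * d = q + 1 := by
  obtain ⟨g, hg⟩ := ht
  have hg' : g • s = t := hg
  rw [← hg', DAct.card_stab_smul]
  exact hF.stabs

theorem Q_bot_of_mem_s' (hF : Full D q d r s) {t : X} (ht : t ∈ orbit H s) : D.Q t = ⊥ := by
  obtain ⟨g, hg⟩ := ht
  have hg' : g • s = t := hg
  have h1 := D.card_Q_smul g s
  rw [hg', hF.hQs, Subgroup.card_bot] at h1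
  exact Subgroup.card_eq_one.mp h1

theorem q_pos' [Finite H] (hF : Full D q d r s) : 0 < q := by
  rw [← hF.cardQ]; exact Nat.card_pos

theorem card_inf_of_mem_r' [Finite H] (hF : Full D q d r s) {x : H} (hx1 : x ≠ 1) {a b : X}
    (hab : a ≠ b) (ha : x • a = a) (hb : x • b = b) (har : a ∈ orbit H r) :
    Nat.card ↥(stabilizer H a ⊓ stabilizer H b : Subgroup H) * d = q - 1 := by
  have h1 := D.card_stab_eq hab hx1 ha hb
  have h2 := card_stab_of_mem_r' hF har
  rw [h1, card_Q_of_mem_r' hF har, mul_assoc] at h2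
  exact Nat.eq_of_mul_eq_mul_left (q_pos' hF) h2

theorem stab_eq_inf_of_mem_s' [Finite H] (hF : Full D q d r s) {x : H} (hx1 : x ≠ 1) {a b : X}
    (hab : a ≠ b) (ha : x • a = a) (hb : x • b = b) (has : a ∈ orbit H s) :
    stabilizer H a = stabilizer H a ⊓ stabilizer H b := by
  have hne : stabilizer H a ≠ ⊥ := by
    intro h
    have hmem : x ∈ stabilizer H a := mem_stabilizer_iff.mpr ha
    rw [h, Subgroup.mem_bot] at hmem
    exact hx1 hmem
  obtain ⟨y, hya, hy⟩ := D.stab_eq_inf_of_Q_bot (Q_bot_of_mem_s' hF has) hne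
  have hxy : x • y = y := by
    have hmem : x ∈ stabilizer H a := mem_stabilizer_iff.mpr ha
    rw [hy] at hmem
    exact mem_stabilizer_iff.mp (Subgroup.mem_inf.mp hmem).2
  rcases D.fix_eq_of_two hx1 hab ha hb hxy with h | h
  · exact absurd h hya
  · rw [← h]; exact hy

/-- elements of order `p` are parabolic -/
theorem isPar_of_pow (D : DAct H X p) {y : H} (h1 : y ≠ 1) (hp : y ^ p = 1) :
    ∃ x : X, IsPar x y := by
  rcases par_or_two D h1 with hx | ⟨a, b, hab, ha, hb⟩
  · exact hx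
  · exact absurd (D.two_coprime a b y hab ha hb hp) h1

theorem card_pairStab' [Finite H] [Fact p.Prime] (D : DAct H X p) {x : H} (hx1 : x ≠ 1) {a b : X}
    (hab : a ≠ b) (ha : x • a = a) (hb : x • b = b) (hswap : ∃ g : H, g • a = b ∧ g • b = a) :
    Nat.card (pairStab H a b) =
      2 * Nat.card ↥(stabilizer H a ⊓ stabilizer H b : Subgroup H) := by
  have hT : (stabilizer H a ⊓ stabilizer H b : Subgroup H) ≠ ⊥ := by
    intro h
    have hmem : x ∈ (stabilizer H a ⊓ stabilizer H b : Subgroup H) :=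
      Subgroup.mem_inf.mpr ⟨mem_stabilizer_iff.mpr ha, mem_stabilizer_iff.mpr hb⟩
    rw [h, Subgroup.mem_bot] at hmem
    exact hx1 hmem
  obtain ⟨e⟩ := D.pairStab_dihedral hab hT hswap
  rw [Nat.card_congr e.toEquiv, DihedralGroup.nat_card]

/-- a swap exists for a pair of points of the long orbit fixed by a common element -/
theorem exists_swap_s [Finite H] (hF : Full D q d r s) {x : H} (hx1 : x ≠ 1) {a b : X}
    (hab : a ≠ b) (ha : x • a = a) (hb : x • b = b) (has : a ∈ orbit H s) (hbs : b ∈ orbit H s) :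
    ∃ g : H, g • a = b ∧ g • b = a := by
  have hSb := stab_eq_inf_of_mem_s' hF hx1 hab.symm hb ha hbs
  obtain ⟨g1, hg1⟩ := has
  obtain ⟨g2, hg2⟩ := hbs
  have hg1' : g1 • s = a := hg1
  have hg2' : g2 • s = b := hg2
  set g := g2 * g1⁻¹ with hg
  have hga : g • a = b := by rw [hg, mul_smul, ← hg1', inv_smul_smul, hg2']
  refine ⟨g, hga, ?_⟩
  have hm1 : g * x * g⁻¹ ≠ 1 := conj_ne_one hx1 g
  have hmb : (g * x * g⁻¹) • b = b := by
    have := conj_smul_fix (g := g) ha
    rwa [hga] at this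
  have hmgb : (g * x * g⁻¹) • (g • b) = g • b := conj_smul_fix hb
  have hma : (g * x * g⁻¹) • a = a := by
    have hmem : g * x * g⁻¹ ∈ stabilizer H b := mem_stabilizer_iff.mpr hmb
    rw [hSb] at hmem
    exact mem_stabilizer_iff.mp (Subgroup.mem_inf.mp hmem).2
  rcases D.fix_eq_of_two hm1 hab hma hmb hmgb with h | h
  · exact h
  · exfalso
    have h' : g • b = g • a := h.trans hga.symm
    exact hab (smul_left_cancel g h').symm

end Cfsg.Agent.Lib.helper6.Sol3
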