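import Mathlib
import Cfsg.Agent.Lib.helper6.PSL2Struct
import Cfsg.Agent.Lib.helper6.DicksonV
import Cfsg.Agent.Lib.helper6.Sol3E
import Cfsg.Agent.Lib.helper6.DicksonR

set_option autoImplicit false

namespace Cfsg.Agent.Lib.helper6.P2Odd

open MulAction
open Cfsg.Agent.Lib.helper6.Dickson Cfsg.Agent.Lib.helper6.PSL2Max Cfsg.Agent.Lib.helper6.Sol3
open Cfsg.Agent.Lib.helper6.Sol2

variable {L X : Type*} [Group L] [MulAction L X] {p : ℕ} {D : DAct L X p} {q d : ℕ} {r s : X}

theorem coatom_eq {G : Type*} [Group G] {M H : Subgroup G} (hM : IsCoatom M) (hle : M ≤ H)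
    (hH : H ≠ ⊤) : M = H := by
  by_contra hne
  exact hH (hM.2 H (lt_of_le_of_ne hle hne))

/-- a nontrivial parabolic element at `r` -/
theorem exists_par (hF : Full D q d r s) : ∃ u : L, IsPar r u := by
  obtain ⟨u, hu1⟩ := (Subgroup.ne_bot_iff_exists_ne_one).mp hF.hQr
  have hu1' : (u : L) ≠ 1 := fun h => hu1 (Subtype.ext h)
  rcases u.2 with h | h
  · exact absurd h hu1'
  · exact ⟨u, h⟩

theorem stab_ne_top [Finite L] (hF : Full D q d r s) (x : X) : stabilizer L x ≠ ⊤ := by
  intro htop
  obtain ⟨u, hu⟩ := exists_par hF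
  have hux : u • x = x := by
    have : u ∈ stabilizer L x := by rw [htop]; exact Subgroup.mem_top _
    exact mem_stabilizer_iff.mp this
  have hxr : x = r := hu.2.2 x hux
  subst hxr
  have horb : orbit L x = {x} := by
    ext y
    constructor
    · rintro ⟨g, rfl⟩
      have : g ∈ stabilizer L x := by rw [htop]; exact Subgroup.mem_top _
      exact mem_stabilizer_iff.mp this
    · rintro rfl
      exact mem_orbit_self _
  have h1 := hF.orb
  rw [horb, Set.ncard_singleton] at h1
  have := q_pos' hF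
  omega

theorem pairStab_ne_top [Finite L] (hF : Full D q d r s) (hp2 : p ≠ 2) (hp : p.Prime) {x y : X}
    (hxy : x ≠ y) : pairStab L x y ≠ ⊤ := by
  intro htop
  obtain ⟨u, hu⟩ := exists_par hF
  have hmem : u ∈ pairStab L x y := by rw [htop]; exact Subgroup.mem_top _
  rcases hmem with ⟨h1, h2⟩ | ⟨h1, h2⟩
  · exact hxy ((hu.2.2 x h1).trans (hu.2.2 y h2).symm)
  · have hup : u ^ p = 1 := D.par_pow r u hu
    have hsq : (u * u) • x = x := by rw [mul_smul, h1, h2]
    have hsqy : (u * u) • y = y := by rw [mul_smul, h2, h1]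
    have huu : u * u = 1 := by
      rcases D.par_mul r u u hu hu with h | h
      · exact h
      · exfalso
        exact hxy ((h.2.2 x hsq).trans (h.2.2 y hsqy).symm)
    have hodd : Odd p := hp.odd_of_ne_two hp2
    obtain ⟨k, hk⟩ := hodd
    have : u = 1 := by
      have h3 : u ^ p = u := by
        rw [hk, pow_succ, pow_mul, pow_two, huu, one_pow, one_mul]
      rw [← h3, hup]
    exact hu.1 this

/-- the Borel case -/
theorem borel_case [Finite L] (hF : Full D q d r s) {M : Subgroup L} (hM : IsCoatom M) {x : X}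
    (hfix : ∀ h ∈ M, h • x = x) {u : L} (hu : IsPar x u) :
    Nat.card M * d = q * (q - 1) := by
  have hle : M ≤ stabilizer L x := fun h hh => mem_stabilizer_iff.mpr (hfix h hh)
  have heq := coatom_eq hM hle (stab_ne_top hF x)
  rw [heq]
  exact card_stab_of_mem_r' hF (mem_orbit_r_of_par hF hu)

theorem not_par_of_coprime (D : DAct L X p) {c : L} (hc1 : c ≠ 1)
    (hcop : (orderOf c).Coprime p) (x : X) : ¬ IsPar x c := by
  intro hpar
  have h1 := D.par_pow x c hpar
  have h2 := orderOf_dvd_of_pow_eq_one h1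
  have h3 : orderOf c ∣ 1 := by
    have := Nat.dvd_gcd (dvd_refl (orderOf c)) h2
    rwa [hcop] at this
  have h4 : orderOf c = 1 := Nat.dvd_one.mp h3
  exact hc1 (orderOf_eq_one_iff.mp h4)

/-- the cyclic case is impossible -/
theorem cyclic_case [Finite L] [Fact p.Prime] (hF : Full D q d r s) (hq2 : 2 ≤ q) (hp2 : p ≠ 2)
    {M : Subgroup L} (hM : IsCoatom M) (hcyc : IsCyclic M) (hcop : (Nat.card M).Coprime p) :
    False := by
  have hp : p.Prime := Fact.out
  obtain ⟨u, hu⟩ := exists_par hF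
  -- M is nontrivial
  have hMne : M ≠ ⊥ := by
    intro hb
    have h1 : (⊥ : Subgroup L) < stabilizer L r := by
      rw [bot_lt_iff_ne_bot]
      intro hbot
      have : u ∈ stabilizer L r := mem_stabilizer_iff.mpr hu.2.1
      rw [hbot, Subgroup.mem_bot] at this
      exact hu.1 this
    rw [hb] at hM
    exact stab_ne_top hF r (hM.2 _ h1)
  obtain ⟨c', hc'⟩ := hcyc.exists_generator
  have hc1 : (c' : L) ≠ 1 := by
    intro h
    apply hMne
    rw [Subgroup.eq_bot_iff_forall]
    intro y hy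
    obtain ⟨k, hk⟩ := Subgroup.mem_zpowers_iff.mp (hc' ⟨y, hy⟩)
    have : (c' : L) ^ k = y := by
      have := congrArg (fun z : M => (z : L)) hk
      simpa using this
    rw [← this, h, one_zpow]
  have hcop' : (orderOf (c' : L)).Coprime p := by
    rw [Subgroup.orderOf_coe]
    exact Nat.Coprime.coprime_dvd_left (orderOf_dvd_natCard c') hcop
  rcases par_or_two D hc1 with ⟨x, hx⟩ | ⟨a, b, hab, ha, hb⟩
  · exact not_par_of_coprime D hc1 hcop' x hx
  have hMle : M ≤ (stabilizer L a ⊓ stabilizer L b : Subgroup L) := by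
    intro y hy
    obtain ⟨k, hk⟩ := Subgroup.mem_zpowers_iff.mp (hc' ⟨y, hy⟩)
    have hk' : (c' : L) ^ k = y := by
      have := congrArg (fun z : M => (z : L)) hk
      simpa using this
    rw [← hk']
    exact Subgroup.zpow_mem _ (Subgroup.mem_inf.mpr
      ⟨mem_stabilizer_iff.mpr ha, mem_stabilizer_iff.mpr hb⟩) k
  have hMa : M = stabilizer L a := coatom_eq hM (hMle.trans inf_le_left) (stab_ne_top hF a)
  have hMb : M = stabilizer L b := coatom_eq hM (hMle.trans inf_le_right) (stab_ne_top hF b)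
  have hMT : M = (stabilizer L a ⊓ stabilizer L b : Subgroup L) := by
    apply le_antisymm hMle
    rw [← hMa]; exact inf_le_left
  have hcases : ∀ {a b : X}, a ≠ b → (c' : L) • a = a → (c' : L) • b = b →
      M = stabilizer L a → M = (stabilizer L a ⊓ stabilizer L b : Subgroup L) →
      a ∉ orbit L r := by
    intro a b hab ha hb hMa hMT har
    have h1 := D.card_stab_eq hab hc1 ha hb
    rw [← hMT, ← hMa, card_Q_of_mem_r' hF har] at h1
    have hpos : 0 < Nat.card M := Nat.card_pos
    have : q = 1 := by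
      have h2 : 1 * Nat.card M = q * Nat.card M := by rw [one_mul]; exact h1
      exact (Nat.eq_of_mul_eq_mul_right hpos h2).symm
    omega
  have har : a ∉ orbit L r := hcases hab ha hb hMa hMT
  have hbr : b ∉ orbit L r := hcases hab.symm hb ha hMb (by rw [inf_comm]; exact hMT)
  have has : a ∈ orbit L s := (hF.cover a ⟨c', hc1, ha⟩).resolve_left har
  have hbs : b ∈ orbit L s := (hF.cover b ⟨c', hc1, hb⟩).resolve_left hbr
  obtain ⟨g, hga, hgb⟩ := exists_swap_s hF hc1 hab ha hb has hbs
  have hgP : g ∈ pairStab L a b := Or.inr ⟨hga, hgb⟩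
  have hMP : M = pairStab L a b :=
    coatom_eq hM (hMle.trans (inf_le_pairStab a b)) (pairStab_ne_top hF hp2 hp hab)
  rw [← hMP, hMa] at hgP
  exact hab ((mem_stabilizer_iff.mp hgP).symm.trans hga)

theorem dih_conj_r_one (n : ℕ) (t : DihedralGroup n) :
    t * DihedralGroup.r 1 * t⁻¹ = DihedralGroup.r 1 ∨
      t * DihedralGroup.r 1 * t⁻¹ = (DihedralGroup.r 1)⁻¹ := by
  rcases t with i | i
  · left
    simp only [DihedralGroup.inv_r, DihedralGroup.r_mul_r]
    congr 1; ring
  · right
    simp only [DihedralGroup.inv_sr, DihedralGroup.inv_r, DihedralGroup.sr_mul_r,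
      DihedralGroup.sr_mul_sr]
    congr 1; ring

/-- the dihedral case -/
theorem dihedral_case [Finite L] [Fact p.Prime] (hF : Full D q d r s) (hq2 : 2 ≤ q) (hp2 : p ≠ 2)
    {M : Subgroup L} (hM : IsCoatom M) {n : ℕ} (e : M ≃* DihedralGroup n) (hn : n.Coprime p) :
    Nat.card M * d = 2 * (q - 1) ∨ Nat.card M * d = 2 * (q + 1) := by
  have hp : p.Prime := Fact.out
  have hcardM : Nat.card M = 2 * n := by
    rw [Nat.card_congr e.toEquiv, DihedralGroup.nat_card]
  have hcopM : (Nat.card M).Coprime p := by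
    rw [hcardM]
    apply Nat.Coprime.mul_left _ hn
    rw [Nat.coprime_comm, Nat.Prime.coprime_iff_not_dvd hp]
    intro h2
    exact hp2 ((Nat.prime_dvd_prime_iff_eq hp Nat.prime_two).mp h2)
  set c : L := ((e.symm (DihedralGroup.r 1) : M) : L) with hc
  have hordc : orderOf c = n := by
    rw [hc, Subgroup.orderOf_coe, MulEquiv.orderOf_eq, DihedralGroup.orderOf_r_one]
  by_cases hc1 : c = 1
  · exfalso
    have hn1 : n = 1 := by rw [← hordc, hc1, orderOf_one]
    have h2 : Nat.card M = 2 := by rw [hcardM, hn1]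
    haveI : Fact (Nat.Prime 2) := ⟨Nat.prime_two⟩
    exact cyclic_case hF hq2 hp2 hM (isCyclic_of_prime_card h2) hcopM
  have hcopc : (orderOf c).Coprime p := by rw [hordc]; exact hn
  rcases par_or_two D hc1 with ⟨x, hx⟩ | ⟨a, b, hab, ha, hb⟩
  · exact absurd hx (not_par_of_coprime D hc1 hcopc x)
  have hinv_a : c⁻¹ • a = a := by rw [inv_smul_eq_iff, ha]
  have hinv_b : c⁻¹ • b = b := by rw [inv_smul_eq_iff, hb]
  have hMle : M ≤ pairStab L a b := by
    intro t ht
    have h1 := dih_conj_r_one n (e ⟨t, ht⟩)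
    have h2 : t * c * t⁻¹ = c ∨ t * c * t⁻¹ = c⁻¹ := by
      have key : ∀ z : DihedralGroup n, e ⟨t, ht⟩ * DihedralGroup.r 1 * (e ⟨t, ht⟩)⁻¹ = z →
          t * c * t⁻¹ = ((e.symm z : M) : L) := by
        intro z hz
        have : (⟨t, ht⟩ : M) * e.symm (DihedralGroup.r 1) * (⟨t, ht⟩ : M)⁻¹ = e.symm z := by
          apply e.injective
          rw [map_mul, map_mul, map_inv, e.apply_symm_apply, e.apply_symm_apply, hz]
        rw [← this]
        rfl
      rcases h1 with h1 | h1
      · left; exact key _ h1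
      · right
        rw [key _ h1, map_inv]
        rfl
    rcases h2 with h2 | h2
    · exact D.mem_pairStab_of_conj hab hc1 ha hb (by rw [h2]; exact ha) (by rw [h2]; exact hb)
    · exact D.mem_pairStab_of_conj hab hc1 ha hb (by rw [h2]; exact hinv_a)
        (by rw [h2]; exact hinv_b)
  have hMP : M = pairStab L a b := coatom_eq hM hMle (pairStab_ne_top hF hp2 hp hab)
  by_cases hsw : ∃ g : L, g • a = b ∧ g • b = a
  · have h1 := card_pairStab' D hc1 hab ha hb hsw
    rw [← hMP] at h1
    rcases hF.cover a ⟨c, hc1, ha⟩ with har | has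
    · left
      have h2 := card_inf_of_mem_r' hF hc1 hab ha hb har
      rw [h1, mul_assoc, h2]
    · right
      have h2 := stab_eq_inf_of_mem_s' hF hc1 hab ha hb has
      have h3 := card_stab_of_mem_s' hF has
      rw [h1, mul_assoc, ← h2, h3]
  · exfalso
    have hle : M ≤ (stabilizer L a ⊓ stabilizer L b : Subgroup L) := by
      intro t ht
      rcases hMle ht with ⟨h1, h2⟩ | ⟨h1, h2⟩
      · exact Subgroup.mem_inf.mpr ⟨mem_stabilizer_iff.mpr h1, mem_stabilizer_iff.mpr h2⟩
      · exact absurd ⟨t, h1, h2⟩ hsw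
    have hMT : M = (stabilizer L a ⊓ stabilizer L b : Subgroup L) :=
      coatom_eq hM hle (fun htop => stab_ne_top hF a (by
        rw [eq_top_iff, ← htop]; exact inf_le_left))
    haveI := D.two_cyc a b hab
    have hcyc : IsCyclic M := by rw [hMT]; infer_instance
    exact cyclic_case hF hq2 hp2 hM hcyc hcopM

end Cfsg.Agent.Lib.helper6.P2Odd
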