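import Mathlib
import Cfsg.Agent.S0808

set_option autoImplicit false

namespace Cfsg.Agent.Lib.helper6.QAlg

open Matrix Cfsg.Agent.S0808 Cfsg.Agent.Lib.helper15

variable {F : Type*} [Field F]

/-- polarised Cayley–Hamilton for `2 × 2` matrices -/
theorem m2_polar (A B : Matrix (Fin 2) (Fin 2) F) :
    A * B + B * A = A.trace • B + B.trace • A + ((A * B).trace - A.trace * B.trace) • 1 := by
  ext i j
  fin_cases i <;> fin_cases j <;>
    simp [Matrix.mul_apply, Fin.sum_univ_two, Matrix.trace_fin_two] <;> ring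

/-- conjugation by a square root of `-1` of trace zero -/
theorem conj_sq_neg_one (W m : Matrix (Fin 2) (Fin 2) F) (hW : W * W = -1) (htW : W.trace = 0) :
    W * m * W = m - m.trace • 1 + (m * W).trace • W := by
  have h := m2_polar m W
  rw [htW, zero_smul, add_zero, mul_zero, sub_zero] at h
  have h2 : W * (m * W + W * m) = W * (m.trace • W + (m * W).trace • 1) := by rw [h]
  rw [mul_add, mul_add, ← mul_assoc, ← mul_assoc, hW, mul_smul_comm, mul_smul_comm, hW, mul_one,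
    neg_mul, one_mul] at h2
  have h3 : W * m * W = (W * m * W + -m) + m := by abel
  rw [h3, h2]
  simp only [smul_neg]
  abel

/-- the standing hypotheses: a quaternion pair in `SL₂`, odd characteristic -/
structure QS (X Y : Matrix (Fin 2) (Fin 2) F) : Prop where
  two : (2 : F) ≠ 0
  pair : QPair X Y
  detX : X.det = 1
  detY : Y.det = 1

namespace QS

variable {X Y : Matrix (Fin 2) (Fin 2) F}

theorem sqX (h : QS X Y) : X * X = -1 := h.pair.sqX
theorem sqY (h : QS X Y) : Y * Y = -1 := h.pair.sqY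
theorem anti (h : QS X Y) : Y * X = -(X * Y) := h.pair.anti
theorem trX (h : QS X Y) : X.trace = 0 := trace_zero_of_sq_neg_one X h.detX h.sqX
theorem trY (h : QS X Y) : Y.trace = 0 := trace_zero_of_sq_neg_one Y h.detY h.sqY
theorem trZ (h : QS X Y) : (X * Y).trace = 0 := h.pair.trace_mul h.two

theorem sqX' (h : QS X Y) (w : Matrix (Fin 2) (Fin 2) F) : X * (X * w) = -w := by
  rw [← mul_assoc, h.sqX, neg_mul, one_mul]
theorem sqY' (h : QS X Y) (w : Matrix (Fin 2) (Fin 2) F) : Y * (Y * w) = -w := by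
  rw [← mul_assoc, h.sqY, neg_mul, one_mul]
theorem anti' (h : QS X Y) (w : Matrix (Fin 2) (Fin 2) F) : Y * (X * w) = -(X * (Y * w)) := by
  rw [← mul_assoc, h.anti, neg_mul, mul_assoc]

theorem sqZ (h : QS X Y) : (X * Y) * (X * Y) = -1 := by
  simp only [mul_assoc, h.anti', h.sqX', h.sqY, mul_neg, neg_neg]

theorem detZ (h : QS X Y) : (X * Y).det = 1 := by rw [det_mul, h.detX, h.detY, one_mul]

theorem swap (h : QS X Y) : QS Y X where
  two := h.two
  pair := ⟨h.sqY, h.sqX, by rw [h.anti, neg_neg]⟩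
  detX := h.detY
  detY := h.detX

/-- the averaging operator over the quaternion group -/
theorem avg_comm_X (h : QS X Y) (m : Matrix (Fin 2) (Fin 2) F) :
    (m - X * m * X - Y * m * Y - (X * Y) * m * (X * Y)) * X =
      X * (m - X * m * X - Y * m * Y - (X * Y) * m * (X * Y)) := by
  simp only [mul_sub, sub_mul, mul_assoc, h.anti', h.sqX', h.sqY', h.sqX, h.sqY, h.anti, mul_neg,
    neg_mul, neg_neg, mul_one]
  abel

theorem avg_comm_Y (h : QS X Y) (m : Matrix (Fin 2) (Fin 2) F) :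
    (m - X * m * X - Y * m * Y - (X * Y) * m * (X * Y)) * Y =
      Y * (m - X * m * X - Y * m * Y - (X * Y) * m * (X * Y)) := by
  simp only [mul_sub, sub_mul, mul_assoc, h.anti', h.sqX', h.sqY', h.sqX, h.sqY, h.anti, mul_neg,
    neg_mul, neg_neg, mul_one]
  abel

theorem avg (h : QS X Y) (m : Matrix (Fin 2) (Fin 2) F) :
    m - X * m * X - Y * m * Y - (X * Y) * m * (X * Y) = (2 * m.trace) • 1 := by
  obtain ⟨α, hα⟩ := h.pair.scalar_of_commute h.two h.detX h.detY _ (h.avg_comm_X m)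
    (h.avg_comm_Y m)
  have ht : (m - X * m * X - Y * m * Y - (X * Y) * m * (X * Y)).trace = 4 * m.trace := by
    rw [trace_sub, trace_sub, trace_sub, trace_mul_comm (X * m) X, ← mul_assoc, h.sqX,
      trace_mul_comm (Y * m) Y, ← mul_assoc, h.sqY, trace_mul_comm (X * Y * m) (X * Y),
      ← mul_assoc, h.sqZ]
    simp only [neg_mul, one_mul, trace_neg]
    ring
  rw [hα, trace_smul, trace_one, Fintype.card_fin] at ht
  simp only [smul_eq_mul, Nat.cast_ofNat] at ht
  have hα2 : α = 2 * m.trace := by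
    have : 2 * α = 2 * (2 * m.trace) := by linear_combination ht
    exact mul_left_cancel₀ h.two this
  rw [hα, hα2]

/-- expansion of a matrix in the quaternion basis -/
theorem expand (h : QS X Y) (m : Matrix (Fin 2) (Fin 2) F) :
    (2 : F) • m = m.trace • 1 - (m * X).trace • X - (m * Y).trace • Y
      - (m * (X * Y)).trace • (X * Y) := by
  have h1 := conj_sq_neg_one X m h.sqX h.trX
  have h2 := conj_sq_neg_one Y m h.sqY h.trY
  have h3 := conj_sq_neg_one (X * Y) m h.sqZ h.trZ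
  have h4 := h.avg m
  rw [h1, h2, h3] at h4
  have h5 : (2 : F) • m = m.trace • 1 - (m * X).trace • X - (m * Y).trace • Y
      - (m * (X * Y)).trace • (X * Y) +
      ((2 * m.trace) • (1 : Matrix (Fin 2) (Fin 2) F) -
        (m - (m - m.trace • 1 + (m * X).trace • X) - (m - m.trace • 1 + (m * Y).trace • Y) -
          (m - m.trace • 1 + (m * (X * Y)).trace • (X * Y)))) := by
    module
  rw [h5, h4, sub_self, add_zero]

end QS

/-- the quaternion combination `a + bX + cY + dXY` -/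
def qm (X Y : Matrix (Fin 2) (Fin 2) F) (a b c d : F) : Matrix (Fin 2) (Fin 2) F :=
  a • 1 + b • X + c • Y + d • (X * Y)

variable {X Y : Matrix (Fin 2) (Fin 2) F}

theorem qm_mul (h : QS X Y) (a b c d a' b' c' d' : F) :
    qm X Y a b c d * qm X Y a' b' c' d' =
      qm X Y (a * a' - b * b' - c * c' - d * d') (a * b' + b * a' + c * d' - d * c')
        (a * c' - b * d' + c * a' + d * b') (a * d' + b * c' - c * b' + d * a') := by
  unfold qm
  simp only [mul_add, add_mul, smul_mul_assoc, mul_smul_comm, mul_assoc, h.anti', h.sqX', h.sqY',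
    h.sqX, h.sqY, h.anti, mul_neg, neg_mul, neg_neg, mul_one, one_mul, smul_neg, smul_smul]
  module

theorem trace_qm (h : QS X Y) (a b c d : F) : (qm X Y a b c d).trace = 2 * a := by
  unfold qm
  rw [trace_add, trace_add, trace_add, trace_smul, trace_smul, trace_smul, trace_smul, h.trX,
    h.trY, h.trZ, trace_one, Fintype.card_fin]
  simp only [smul_eq_mul, mul_zero, add_zero, Nat.cast_ofNat]
  ring

theorem qm_one : qm X Y 1 0 0 0 = 1 := by simp [qm]
theorem qm_X : qm X Y 0 1 0 0 = X := by simp [qm]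
theorem qm_Y : qm X Y 0 0 1 0 = Y := by simp [qm]
theorem qm_Z : qm X Y 0 0 0 1 = X * Y := by simp [qm]
theorem qm_scalar (a : F) : qm X Y a 0 0 0 = a • 1 := by simp [qm]

theorem qm_add (a b c d a' b' c' d' : F) :
    qm X Y a b c d + qm X Y a' b' c' d' = qm X Y (a + a') (b + b') (c + c') (d + d') := by
  unfold qm; module

theorem qm_neg (a b c d : F) : -qm X Y a b c d = qm X Y (-a) (-b) (-c) (-d) := by
  unfold qm; module

theorem qm_smul (k a b c d : F) : k • qm X Y a b c d = qm X Y (k * a) (k * b) (k * c) (k * d) := by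
  unfold qm; module

/-- every matrix is a quaternion combination, with explicit coefficients -/
theorem eq_qm (h : QS X Y) (m : Matrix (Fin 2) (Fin 2) F) :
    m = qm X Y (m.trace / 2) (-(m * X).trace / 2) (-(m * Y).trace / 2)
      (-(m * (X * Y)).trace / 2) := by
  have h1 := h.expand m
  have h2 : m = (2 : F)⁻¹ • ((2 : F) • m) := by rw [smul_smul, inv_mul_cancel₀ h.two, one_smul]
  calc m = (2 : F)⁻¹ • ((2 : F) • m) := h2
    _ = (2 : F)⁻¹ • (m.trace • 1 - (m * X).trace • X - (m * Y).trace • Y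
      - (m * (X * Y)).trace • (X * Y)) := by rw [h1]
    _ = _ := by unfold qm; module

/-- the quaternion algebra over a subfield -/
def AK (K : Subfield F) (X Y : Matrix (Fin 2) (Fin 2) F) : Set (Matrix (Fin 2) (Fin 2) F) :=
  {m | ∃ a ∈ K, ∃ b ∈ K, ∃ c ∈ K, ∃ d ∈ K, m = qm X Y a b c d}

namespace AK

variable {K : Subfield F}

theorem one_mem : (1 : Matrix (Fin 2) (Fin 2) F) ∈ AK K X Y :=
  ⟨1, K.one_mem, 0, K.zero_mem, 0, K.zero_mem, 0, K.zero_mem, qm_one.symm⟩
theorem X_mem : X ∈ AK K X Y :=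
  ⟨0, K.zero_mem, 1, K.one_mem, 0, K.zero_mem, 0, K.zero_mem, qm_X.symm⟩
theorem Y_mem : Y ∈ AK K X Y :=
  ⟨0, K.zero_mem, 0, K.zero_mem, 1, K.one_mem, 0, K.zero_mem, qm_Y.symm⟩
theorem Z_mem : X * Y ∈ AK K X Y :=
  ⟨0, K.zero_mem, 0, K.zero_mem, 0, K.zero_mem, 1, K.one_mem, qm_Z.symm⟩
theorem scalar_mem {a : F} (ha : a ∈ K) : a • (1 : Matrix (Fin 2) (Fin 2) F) ∈ AK K X Y :=
  ⟨a, ha, 0, K.zero_mem, 0, K.zero_mem, 0, K.zero_mem, (qm_scalar a).symm⟩

theorem add_mem {m n : Matrix (Fin 2) (Fin 2) F} (hm : m ∈ AK K X Y) (hn : n ∈ AK K X Y) :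
    m + n ∈ AK K X Y := by
  obtain ⟨a, ha, b, hb, c, hc, d, hd, rfl⟩ := hm
  obtain ⟨a', ha', b', hb', c', hc', d', hd', rfl⟩ := hn
  exact ⟨_, K.add_mem ha ha', _, K.add_mem hb hb', _, K.add_mem hc hc', _, K.add_mem hd hd',
    qm_add ..⟩

theorem neg_mem {m : Matrix (Fin 2) (Fin 2) F} (hm : m ∈ AK K X Y) : -m ∈ AK K X Y := by
  obtain ⟨a, ha, b, hb, c, hc, d, hd, rfl⟩ := hm
  exact ⟨_, K.neg_mem ha, _, K.neg_mem hb, _, K.neg_mem hc, _, K.neg_mem hd, qm_neg ..⟩

theorem sub_mem {m n : Matrix (Fin 2) (Fin 2) F} (hm : m ∈ AK K X Y) (hn : n ∈ AK K X Y) :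
    m - n ∈ AK K X Y := by
  rw [sub_eq_add_neg]; exact add_mem hm (neg_mem hn)

theorem smul_mem {k : F} (hk : k ∈ K) {m : Matrix (Fin 2) (Fin 2) F} (hm : m ∈ AK K X Y) :
    k • m ∈ AK K X Y := by
  obtain ⟨a, ha, b, hb, c, hc, d, hd, rfl⟩ := hm
  exact ⟨_, K.mul_mem hk ha, _, K.mul_mem hk hb, _, K.mul_mem hk hc, _, K.mul_mem hk hd,
    qm_smul ..⟩

theorem mul_mem (h : QS X Y) {m n : Matrix (Fin 2) (Fin 2) F} (hm : m ∈ AK K X Y)
    (hn : n ∈ AK K X Y) : m * n ∈ AK K X Y := by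
  obtain ⟨a, ha, b, hb, c, hc, d, hd, rfl⟩ := hm
  obtain ⟨a', ha', b', hb', c', hc', d', hd', rfl⟩ := hn
  refine ⟨_, ?_, _, ?_, _, ?_, _, ?_, qm_mul h ..⟩
  · exact K.sub_mem (K.sub_mem (K.sub_mem (K.mul_mem ha ha') (K.mul_mem hb hb'))
      (K.mul_mem hc hc')) (K.mul_mem hd hd')
  · exact K.sub_mem (K.add_mem (K.add_mem (K.mul_mem ha hb') (K.mul_mem hb ha'))
      (K.mul_mem hc hd')) (K.mul_mem hd hc')
  · exact K.add_mem (K.add_mem (K.sub_mem (K.mul_mem ha hc') (K.mul_mem hb hd'))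
      (K.mul_mem hc ha')) (K.mul_mem hd hb')
  · exact K.add_mem (K.sub_mem (K.add_mem (K.mul_mem ha hd') (K.mul_mem hb hc'))
      (K.mul_mem hc hb')) (K.mul_mem hd ha')

theorem trace_mem (h : QS X Y) {m : Matrix (Fin 2) (Fin 2) F} (hm : m ∈ AK K X Y) :
    m.trace ∈ K := by
  obtain ⟨a, ha, b, hb, c, hc, d, hd, rfl⟩ := hm
  rw [trace_qm h]
  exact K.mul_mem (ofNat_mem K 2) ha

theorem two_inv_mem (K : Subfield F) : (2 : F)⁻¹ ∈ K :=
  K.inv_mem (ofNat_mem K 2)

/-- the trace criterion -/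
theorem of_traces (h : QS X Y) {m : Matrix (Fin 2) (Fin 2) F} (h1 : m.trace ∈ K)
    (hX : (m * X).trace ∈ K) (hY : (m * Y).trace ∈ K) (hZ : (m * (X * Y)).trace ∈ K) :
    m ∈ AK K X Y := by
  refine ⟨_, ?_, _, ?_, _, ?_, _, ?_, eq_qm h m⟩
  · rw [div_eq_mul_inv]; exact K.mul_mem h1 (two_inv_mem K)
  · rw [div_eq_mul_inv]; exact K.mul_mem (K.neg_mem hX) (two_inv_mem K)
  · rw [div_eq_mul_inv]; exact K.mul_mem (K.neg_mem hY) (two_inv_mem K)
  · rw [div_eq_mul_inv]; exact K.mul_mem (K.neg_mem hZ) (two_inv_mem K)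

theorem mono {K K' : Subfield F} (hKK : K ≤ K') : AK K X Y ⊆ AK K' X Y := by
  rintro m ⟨a, ha, b, hb, c, hc, d, hd, rfl⟩
  exact ⟨a, hKK ha, b, hKK hb, c, hKK hc, d, hKK hd, rfl⟩

/-- the adjugate `tr(m) - m` stays in the algebra -/
theorem adj_mem (h : QS X Y) {m : Matrix (Fin 2) (Fin 2) F} (hm : m ∈ AK K X Y) :
    m.trace • (1 : Matrix (Fin 2) (Fin 2) F) - m ∈ AK K X Y :=
  sub_mem (scalar_mem (trace_mem h hm)) hm

theorem mul_adj (m : Matrix (Fin 2) (Fin 2) F) :
    m * (m.trace • (1 : Matrix (Fin 2) (Fin 2) F) - m) = m.det • 1 := by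
  rw [mul_sub, mul_smul_comm, mul_one, m2_cayley]
  abel

theorem det_mem (h : QS X Y) {m : Matrix (Fin 2) (Fin 2) F} (hm : m ∈ AK K X Y) :
    m.det ∈ K := by
  have h1 := trace_mem h (mul_mem h hm (adj_mem h hm))
  rw [mul_adj, trace_smul, trace_one, Fintype.card_fin] at h1
  simp only [smul_eq_mul, Nat.cast_ofNat] at h1
  have h2 : m.det = (m.det * 2) * (2 : F)⁻¹ := by
    rw [mul_assoc, mul_inv_cancel₀ h.two, mul_one]
  rw [h2]
  exact K.mul_mem h1 (two_inv_mem K)

end AK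

variable {K : Subfield F}

/-- Skolem–Noether step: a conjugating matrix is a scalar multiple of an element of the algebra -/
theorem sn_aux (h : QS X Y) (g gi : Matrix (Fin 2) (Fin 2) F) (hg : g * gi = 1)
    (hX : g * X * gi ∈ AK K X Y) (hY : g * Y * gi ∈ AK K X Y)
    {c : Matrix (Fin 2) (Fin 2) F} (hc : c ∈ AK K X Y) :
    (2 * (gi * c).trace) • g ∈ AK K X Y := by
  have hig : gi * g = 1 := mul_eq_one_comm.mp hg
  have hZ : g * (X * Y) * gi ∈ AK K X Y := by
    have : g * (X * Y) * gi = (g * X * gi) * (g * Y * gi) := by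
      calc g * (X * Y) * gi = g * X * ((gi * g) * (Y * gi)) := by
            rw [hig, one_mul]; simp only [mul_assoc]
        _ = _ := by simp only [mul_assoc]
    rw [this]
    exact AK.mul_mem h hX hY
  have h1 := h.avg (gi * c)
  have h2 : (2 * (gi * c).trace) • g =
      c - (g * X * gi) * c * X - (g * Y * gi) * c * Y - (g * (X * Y) * gi) * c * (X * Y) := by
    calc (2 * (gi * c).trace) • g = g * ((2 * (gi * c).trace) • 1) := by
          rw [mul_smul_comm, mul_one]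
      _ = g * (gi * c - X * (gi * c) * X - Y * (gi * c) * Y - X * Y * (gi * c) * (X * Y)) := by
          rw [h1]
      _ = (g * gi) * c - (g * X * gi) * c * X - (g * Y * gi) * c * Y
            - (g * (X * Y) * gi) * c * (X * Y) := by
          simp only [mul_sub, mul_assoc]
      _ = _ := by rw [hg, one_mul]
  rw [h2]
  exact AK.sub_mem (AK.sub_mem (AK.sub_mem hc (AK.mul_mem h (AK.mul_mem h hX hc) AK.X_mem))
    (AK.mul_mem h (AK.mul_mem h hY hc) AK.Y_mem)) (AK.mul_mem h (AK.mul_mem h hZ hc) AK.Z_mem)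

theorem sn (h : QS X Y) (g gi : Matrix (Fin 2) (Fin 2) F) (hg : g * gi = 1)
    (hX : g * X * gi ∈ AK K X Y) (hY : g * Y * gi ∈ AK K X Y) :
    ∃ μ : F, μ ≠ 0 ∧ μ • g ∈ AK K X Y := by
  by_contra hcon
  push Not at hcon
  have key : ∀ c ∈ AK K X Y, (gi * c).trace = 0 := by
    intro c hc
    by_contra hne
    exact hcon _ (mul_ne_zero h.two hne) (sn_aux h g gi hg hX hY hc)
  have h1 := key 1 AK.one_mem
  have h2 := key X AK.X_mem
  have h3 := key Y AK.Y_mem
  have h4 := key (X * Y) AK.Z_mem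
  rw [mul_one] at h1
  have h5 := h.expand gi
  rw [h1, h2, h3, h4] at h5
  simp only [zero_smul, sub_zero] at h5
  have h6 : gi = 0 := by
    rcases smul_eq_zero.mp h5 with h7 | h7
    · exact absurd h7 h.two
    · exact h7
  rw [h6, mul_zero] at hg
  exact zero_ne_one hg

end Cfsg.Agent.Lib.helper6.QAlg
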