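import Mathlib
import Cfsg.Agent.Lib.helper6.QAlgA

set_option autoImplicit false

namespace Cfsg.Agent.Lib.helper6.QAlg

open Cfsg.Agent.S0808 Cfsg.Agent.Lib.helper15

variable {F : Type*} [Field F]

theorem adj_eq (A : Matrix (Fin 2) (Fin 2) F) :
    Matrix.adjugate A = A.trace • (1 : Matrix (Fin 2) (Fin 2) F) - A := by
  rw [Matrix.adjugate_fin_two]
  ext i j
  fin_cases i <;> fin_cases j <;> simp [Matrix.trace_fin_two]

theorem coe_inv_eq (g : Matrix.SpecialLinearGroup (Fin 2) F) :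
    ((g⁻¹ : Matrix.SpecialLinearGroup (Fin 2) F) : Matrix (Fin 2) (Fin 2) F) =
      (g : Matrix (Fin 2) (Fin 2) F).trace • (1 : Matrix (Fin 2) (Fin 2) F) - g := by
  rw [Matrix.SpecialLinearGroup.coe_inv, adj_eq]

theorem trace_inv (g : Matrix.SpecialLinearGroup (Fin 2) F) :
    ((g⁻¹ : Matrix.SpecialLinearGroup (Fin 2) F) : Matrix (Fin 2) (Fin 2) F).trace =
      (g : Matrix (Fin 2) (Fin 2) F).trace := by
  rw [coe_inv_eq, Matrix.trace_sub, Matrix.trace_smul, Matrix.trace_one, Fintype.card_fin]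
  simp only [smul_eq_mul, Nat.cast_ofNat]
  ring

variable {X Y : Matrix (Fin 2) (Fin 2) F}

/-- elements of `SL₂(F)` lying in the quaternion algebra over `K` -/
def G1 (h : QS X Y) (K : Subfield F) : Subgroup (Matrix.SpecialLinearGroup (Fin 2) F) where
  carrier := {g | (g : Matrix (Fin 2) (Fin 2) F) ∈ AK K X Y}
  one_mem' := by
    show ((1 : Matrix.SpecialLinearGroup (Fin 2) F) : Matrix (Fin 2) (Fin 2) F) ∈ AK K X Y
    rw [Matrix.SpecialLinearGroup.coe_one]; exact AK.one_mem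
  mul_mem' := by
    intro a b ha hb
    show ((a * b : Matrix.SpecialLinearGroup (Fin 2) F) : Matrix (Fin 2) (Fin 2) F) ∈ AK K X Y
    rw [Matrix.SpecialLinearGroup.coe_mul]; exact AK.mul_mem h ha hb
  inv_mem' := by
    intro a ha
    show ((a⁻¹ : Matrix.SpecialLinearGroup (Fin 2) F) : Matrix (Fin 2) (Fin 2) F) ∈ AK K X Y
    rw [coe_inv_eq]; exact AK.adj_mem h ha

/-- elements of `SL₂(F)` that are scalar multiples of elements of the quaternion algebra -/
def G1' (h : QS X Y) (K : Subfield F) : Subgroup (Matrix.SpecialLinearGroup (Fin 2) F) where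
  carrier := {g | ∃ μ : F, μ ≠ 0 ∧ μ • (g : Matrix (Fin 2) (Fin 2) F) ∈ AK K X Y}
  one_mem' := ⟨1, one_ne_zero, by rw [one_smul, Matrix.SpecialLinearGroup.coe_one]; exact AK.one_mem⟩
  mul_mem' := by
    rintro a b ⟨μ, hμ, ha⟩ ⟨ν, hν, hb⟩
    refine ⟨μ * ν, mul_ne_zero hμ hν, ?_⟩
    have : (μ * ν) • ((a * b : Matrix.SpecialLinearGroup (Fin 2) F) : Matrix (Fin 2) (Fin 2) F) =
        (μ • (a : Matrix (Fin 2) (Fin 2) F)) * (ν • (b : Matrix (Fin 2) (Fin 2) F)) := by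
      rw [Matrix.SpecialLinearGroup.coe_mul, smul_mul_assoc, mul_smul_comm, smul_smul]
    rw [this]; exact AK.mul_mem h ha hb
  inv_mem' := by
    rintro a ⟨μ, hμ, ha⟩
    refine ⟨μ, hμ, ?_⟩
    have := AK.adj_mem h ha
    rw [Matrix.trace_smul, smul_eq_mul, mul_smul, ← smul_sub] at this
    rw [coe_inv_eq]; exact this

theorem mem_G1 (h : QS X Y) (K : Subfield F) (g : Matrix.SpecialLinearGroup (Fin 2) F) :
    g ∈ G1 h K ↔ (g : Matrix (Fin 2) (Fin 2) F) ∈ AK K X Y := Iff.rfl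

theorem mem_G1' (h : QS X Y) (K : Subfield F) (g : Matrix.SpecialLinearGroup (Fin 2) F) :
    g ∈ G1' h K ↔ ∃ μ : F, μ ≠ 0 ∧ μ • (g : Matrix (Fin 2) (Fin 2) F) ∈ AK K X Y := Iff.rfl

theorem G1_le_G1' (h : QS X Y) (K : Subfield F) : G1 h K ≤ G1' h K := by
  intro g hg
  exact ⟨1, one_ne_zero, by rw [one_smul]; exact hg⟩

theorem G1_mono (h : QS X Y) {K K' : Subfield F} (hKK : K ≤ K') : G1 h K ≤ G1 h K' :=
  fun _ hg => AK.mono hKK hg

theorem G1'_mono (h : QS X Y) {K K' : Subfield F} (hKK : K ≤ K') : G1' h K ≤ G1' h K' := by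
  rintro g ⟨μ, hμ, hg⟩
  exact ⟨μ, hμ, AK.mono hKK hg⟩

theorem trace_mem_of_G1 (h : QS X Y) {K : Subfield F} {g : Matrix.SpecialLinearGroup (Fin 2) F}
    (hg : g ∈ G1 h K) : (g : Matrix (Fin 2) (Fin 2) F).trace ∈ K := AK.trace_mem h hg

theorem trace_sq_mem_of_G1' (h : QS X Y) {K : Subfield F} {g : Matrix.SpecialLinearGroup (Fin 2) F}
    (hg : g ∈ G1' h K) : (g : Matrix (Fin 2) (Fin 2) F).trace ^ 2 ∈ K := by
  obtain ⟨μ, hμ, hg⟩ := hg
  have h1 := AK.trace_mem h hg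
  have h2 := AK.det_mem h hg
  rw [Matrix.trace_smul, smul_eq_mul] at h1
  rw [Matrix.det_smul, Fintype.card_fin, g.2, mul_one] at h2
  have h3 : (g : Matrix (Fin 2) (Fin 2) F).trace ^ 2 =
      (μ * (g : Matrix (Fin 2) (Fin 2) F).trace) ^ 2 * (μ ^ 2)⁻¹ := by
    field_simp
  rw [h3]
  exact K.mul_mem (K.pow_mem h1 2) (K.inv_mem h2)

/-- a matrix of `SL₂(F)` with a given trace -/
def trMat (t : F) : Matrix.SpecialLinearGroup (Fin 2) F :=
  ⟨!![t, -1; 1, 0], by simp [Matrix.det_fin_two]⟩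

theorem trace_trMat (t : F) : (trMat t : Matrix (Fin 2) (Fin 2) F).trace = t := by
  simp [trMat, Matrix.trace_fin_two]

theorem G1_ne_top (h : QS X Y) {K : Subfield F} (hK : K ≠ ⊤) : G1 h K ≠ ⊤ := by
  intro htop
  apply hK
  rw [eq_top_iff]
  intro t _
  have h1 : trMat t ∈ G1 h K := by rw [htop]; exact Subgroup.mem_top _
  have := trace_mem_of_G1 h h1
  rwa [trace_trMat] at this

theorem exists_sq_not_mem (h2 : (2 : F) ≠ 0) {K : Subfield F} (hK : K ≠ ⊤) :
    ∃ t : F, t ^ 2 ∉ K := by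
  by_contra hcon
  push Not at hcon
  apply hK
  rw [eq_top_iff]
  intro t _
  have h1 := hcon t
  have h3 := hcon (t + 1)
  have h4 : t = ((t + 1) ^ 2 - t ^ 2 - 1) * (2 : F)⁻¹ := by
    field_simp; ring
  rw [h4]
  exact K.mul_mem (K.sub_mem (K.sub_mem h3 h1) K.one_mem) (AK.two_inv_mem K)

theorem G1'_ne_top (h : QS X Y) {K : Subfield F} (hK : K ≠ ⊤) : G1' h K ≠ ⊤ := by
  intro htop
  obtain ⟨t, ht⟩ := exists_sq_not_mem h.two hK
  have h1 : trMat t ∈ G1' h K := by rw [htop]; exact Subgroup.mem_top _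
  have := trace_sq_mem_of_G1' h h1
  rw [trace_trMat] at this
  exact ht this

theorem det_qm (h : QS X Y) (a b c d : F) :
    (qm X Y a b c d).det = a ^ 2 + b ^ 2 + c ^ 2 + d ^ 2 := by
  have h1 := AK.mul_adj (qm X Y a b c d)
  rw [trace_qm h] at h1
  have h2 : (2 * a) • (1 : Matrix (Fin 2) (Fin 2) F) - qm X Y a b c d = qm X Y a (-b) (-c) (-d) := by
    unfold qm; module
  rw [h2, qm_mul h] at h1
  have h3 : qm X Y (a * a - b * -b - c * -c - d * -d) (a * -b + b * a + c * -d - d * -c)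
      (a * -c - b * -d + c * a + d * -b) (a * -d + b * -c - c * -b + d * a) =
      (a ^ 2 + b ^ 2 + c ^ 2 + d ^ 2) • (1 : Matrix (Fin 2) (Fin 2) F) := by
    rw [← qm_scalar (X := X) (Y := Y)]
    congr 1 <;> ring
  rw [h3] at h1
  have h4 := congrFun (congrFun h1 0) 0
  simp only [Matrix.smul_apply, Matrix.one_apply_eq, smul_eq_mul, mul_one] at h4
  exact h4.symm

/-- in a finite field of odd characteristic every element of a subfield is a sum of two squares
of the subfield -/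
theorem exists_sq_add_sq [Finite F] (h2 : (2 : F) ≠ 0) (K : Subfield F) {ν : F} (hν : ν ∈ K) :
    ∃ b ∈ K, ∃ c ∈ K, b ^ 2 + c ^ 2 = ν := by
  classical
  haveI : Fintype K := Fintype.ofFinite K
  have hodd : Fintype.card K % 2 = 1 := by
    apply FiniteField.odd_card_of_char_ne_two
    intro hc
    have h3 : ((ringChar K : ℕ) : K) = 0 := ringChar.Nat.cast_ringChar
    rw [hc] at h3
    apply h2
    have h4 : (((2 : ℕ) : K) : F) = ((0 : K) : F) := by rw [h3]
    push_cast at h4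
    exact h4
  open Polynomial in
  obtain ⟨a, b, hab⟩ : ∃ a b : K, (X ^ 2 : K[X]).eval a + (X ^ 2 - C (⟨ν, hν⟩ : K)).eval b = 0 :=
    FiniteField.exists_root_sum_quadratic (degree_X_pow 2) (degree_X_pow_sub_C (by decide) _) hodd
  refine ⟨a, a.2, b, b.2, ?_⟩
  simp only [Polynomial.eval_pow, Polynomial.eval_X, Polynomial.eval_sub, Polynomial.eval_C] at hab
  have h4 := congrArg (fun x : K => (x : F)) hab
  simp only [Subfield.coe_add, Subfield.coe_sub, SubmonoidClass.coe_pow,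
    ZeroMemClass.coe_zero] at h4
  linear_combination h4

/-- `G1` contains an element of every trace in `K` -/
theorem exists_trace_G1 [Finite F] (h : QS X Y) (K : Subfield F) {τ : F} (hτ : τ ∈ K) :
    ∃ g ∈ G1 h K, (g : Matrix (Fin 2) (Fin 2) F).trace = τ := by
  have hν : 1 - (τ / 2) ^ 2 ∈ K := by
    apply K.sub_mem K.one_mem
    apply K.pow_mem
    rw [div_eq_mul_inv]
    exact K.mul_mem hτ (AK.two_inv_mem K)
  obtain ⟨b, hb, c, hc, hbc⟩ := exists_sq_add_sq h.two K hν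
  have hdet : (qm X Y (τ / 2) b c 0).det = 1 := by
    rw [det_qm h]; linear_combination hbc
  refine ⟨⟨qm X Y (τ / 2) b c 0, hdet⟩, ?_, ?_⟩
  · refine ⟨τ / 2, ?_, b, hb, c, hc, 0, K.zero_mem, rfl⟩
    rw [div_eq_mul_inv]
    exact K.mul_mem hτ (AK.two_inv_mem K)
  · show (qm X Y (τ / 2) b c 0).trace = τ
    rw [trace_qm h]
    have := h.two
    field_simp

end Cfsg.Agent.Lib.helper6.QAlg
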