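import Mathlib
import Cfsg.Agent.Lib.helper6.QAlgB

set_option autoImplicit false

namespace Cfsg.Agent.Lib.helper6.QAlg

open Cfsg.Agent.S0808 Cfsg.Agent.Lib.helper15

variable {F : Type*} [Field F]

/-- Frobenius and traces in `SL₂` -/
theorem trace_pow_char_pow (p : ℕ) [Fact p.Prime] [CharP F p] (n : ℕ)
    (g : Matrix (Fin 2) (Fin 2) F) (hg : g.det = 1) :
    (g ^ p ^ n).trace = g.trace ^ p ^ n := by
  set gi := g.trace • (1 : Matrix (Fin 2) (Fin 2) F) - g with hgi
  have h1 : g * gi = 1 := by rw [hgi, AK.mul_adj, hg, one_smul]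
  have hcomm : Commute g gi := by
    rw [hgi]
    exact (Commute.smul_right (Commute.one_right g) _).sub_right (Commute.refl g)
  have h2 : (g + gi) ^ p ^ n = g ^ p ^ n + gi ^ p ^ n := add_pow_char_pow_of_commute (p := p) (n := n) hcomm
  have h3 : g + gi = g.trace • (1 : Matrix (Fin 2) (Fin 2) F) := by rw [hgi]; abel
  rw [h3, smul_pow, one_pow] at h2
  have hd : (g ^ p ^ n).det = 1 := by rw [Matrix.det_pow, hg, one_pow]
  have h4 : g ^ p ^ n * gi ^ p ^ n = 1 := by rw [← hcomm.mul_pow, h1, one_pow]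
  have h5 : g ^ p ^ n * ((g ^ p ^ n).trace • (1 : Matrix (Fin 2) (Fin 2) F) - g ^ p ^ n) = 1 := by
    rw [AK.mul_adj, hd, one_smul]
  have h6 : gi ^ p ^ n = (g ^ p ^ n).trace • (1 : Matrix (Fin 2) (Fin 2) F) - g ^ p ^ n := by
    have hu : IsUnit (g ^ p ^ n).det := by rw [hd]; exact isUnit_one
    calc gi ^ p ^ n = (g ^ p ^ n)⁻¹ * (g ^ p ^ n * gi ^ p ^ n) := by
          rw [← mul_assoc, Matrix.nonsing_inv_mul _ hu, one_mul]
      _ = (g ^ p ^ n)⁻¹ * (g ^ p ^ n * ((g ^ p ^ n).trace • (1 : Matrix (Fin 2) (Fin 2) F)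
            - g ^ p ^ n)) := by rw [h4, h5]
      _ = _ := by rw [← mul_assoc, Matrix.nonsing_inv_mul _ hu, one_mul]
  rw [h6] at h2
  have h7 : (g.trace ^ p ^ n) • (1 : Matrix (Fin 2) (Fin 2) F) =
      (g ^ p ^ n).trace • (1 : Matrix (Fin 2) (Fin 2) F) := by rw [h2]; abel
  have h8 := congrFun (congrFun h7 0) 0
  simp only [Matrix.smul_apply, Matrix.one_apply_eq, smul_eq_mul, mul_one] at h8
  exact h8.symm

/-! ### the centre of `SL₂` -/

theorem sl_center_iff (g : Matrix.SpecialLinearGroup (Fin 2) F) :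
    g ∈ Subgroup.center (Matrix.SpecialLinearGroup (Fin 2) F) ↔ g = 1 ∨ g = -1 := by
  rw [Matrix.SpecialLinearGroup.mem_center_iff]
  simp only [Fintype.card_fin]
  constructor
  · rintro ⟨r, hr, h⟩
    have hr' : r = 1 ∨ r = -1 := by
      have : (r - 1) * (r + 1) = 0 := by linear_combination hr
      rcases mul_eq_zero.mp this with h1 | h1
      · left; linear_combination h1
      · right; linear_combination h1
    rcases hr' with rfl | rfl
    · left
      apply Subtype.ext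
      rw [← h]; simp
    · right
      apply Subtype.ext
      rw [← h, Matrix.SpecialLinearGroup.coe_neg, Matrix.SpecialLinearGroup.coe_one]
      ext i j
      fin_cases i <;> fin_cases j <;> simp
  · rintro (rfl | rfl)
    · exact ⟨1, by ring, by simp⟩
    · refine ⟨-1, by ring, ?_⟩
      rw [Matrix.SpecialLinearGroup.coe_neg, Matrix.SpecialLinearGroup.coe_one]
      ext i j
      fin_cases i <;> fin_cases j <;> simp

theorem neg_one_mem_center :
    (-1 : Matrix.SpecialLinearGroup (Fin 2) F) ∈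
      Subgroup.center (Matrix.SpecialLinearGroup (Fin 2) F) :=
  (sl_center_iff _).mpr (Or.inr rfl)

/-- the trace of an element of `SL₂` -/
def tr (g : Matrix.SpecialLinearGroup (Fin 2) F) : F := (g : Matrix (Fin 2) (Fin 2) F).trace

theorem tr_inv (g : Matrix.SpecialLinearGroup (Fin 2) F) : tr g⁻¹ = tr g := trace_inv g

theorem tr_neg (g : Matrix.SpecialLinearGroup (Fin 2) F) : tr (-g) = -tr g := by
  unfold tr
  rw [Matrix.SpecialLinearGroup.coe_neg, Matrix.trace_neg]

theorem tr_one : tr (1 : Matrix.SpecialLinearGroup (Fin 2) F) = 2 := by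
  unfold tr
  rw [Matrix.SpecialLinearGroup.coe_one, Matrix.trace_one, Fintype.card_fin]
  norm_num

theorem tr_pow_char_pow (p : ℕ) [Fact p.Prime] [CharP F p] (n : ℕ)
    (g : Matrix.SpecialLinearGroup (Fin 2) F) : tr (g ^ p ^ n) = tr g ^ p ^ n := by
  unfold tr
  rw [Matrix.SpecialLinearGroup.coe_pow]
  exact trace_pow_char_pow p n _ g.2

/-- the four ways the Frobenius power of `g` can be `± g^{±1}` -/
theorem tr_pow_of_eq (p : ℕ) [Fact p.Prime] [CharP F p] (n : ℕ)
    (g : Matrix.SpecialLinearGroup (Fin 2) F)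
    (h : g ^ p ^ n = g ∨ g ^ p ^ n = g⁻¹) : tr g ^ p ^ n = tr g := by
  rw [← tr_pow_char_pow]
  rcases h with h | h <;> rw [h]
  exact tr_inv g

theorem tr_pow_of_eq_neg (p : ℕ) [Fact p.Prime] [CharP F p] (n : ℕ)
    (g : Matrix.SpecialLinearGroup (Fin 2) F)
    (h : g ^ p ^ n = -g ∨ g ^ p ^ n = -g⁻¹) : tr g ^ p ^ n = -tr g := by
  rw [← tr_pow_char_pow]
  rcases h with h | h <;> rw [h, tr_neg]
  rw [tr_inv]

/-- lifts of `p`-elements have trace `± 2` -/
theorem tr_of_pow_char (p : ℕ) [Fact p.Prime] [CharP F p]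
    (g : Matrix.SpecialLinearGroup (Fin 2) F) (h : g ^ p = 1 ∨ g ^ p = -1) :
    tr g = 2 ∨ tr g = -2 := by
  have h1 := tr_pow_char_pow p 1 g
  rw [pow_one] at h1
  have h2 : ((2 : ℕ) : F) ^ p = ((2 : ℕ) : F) := by
    have := map_natCast (frobenius F p) 2
    rwa [frobenius_def] at this
  push_cast at h2
  rcases h with h | h
  · left
    rw [h, tr_one] at h1
    have h3 : (tr g - 2) ^ p = 0 := by rw [sub_pow_char, ← h1, h2, sub_self]
    have := pow_eq_zero_iff (Fact.out : p.Prime).ne_zero |>.mp h3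
    linear_combination this
  · right
    rw [h, tr_neg, tr_one] at h1
    have h3 : (tr g + 2) ^ p = 0 := by rw [add_pow_char, ← h1, h2]; ring
    have := pow_eq_zero_iff (Fact.out : p.Prime).ne_zero |>.mp h3
    linear_combination this

/-! ### traces of elements of small projective order -/

theorem pow_step (g : Matrix (Fin 2) (Fin 2) F) (hg : g.det = 1) (n : ℕ) (a b : F)
    (h : g ^ n = a • g + b • (1 : Matrix (Fin 2) (Fin 2) F)) :
    g ^ (n + 1) = (a * g.trace + b) • g + (-a) • (1 : Matrix (Fin 2) (Fin 2) F) := by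
  rw [pow_succ, h, add_mul, smul_mul_assoc, smul_mul_assoc, one_mul, m2_sq g hg]
  module

theorem not_scalar_of_not_center (g : Matrix.SpecialLinearGroup (Fin 2) F)
    (hg : g ∉ Subgroup.center (Matrix.SpecialLinearGroup (Fin 2) F)) (c : F) :
    (g : Matrix (Fin 2) (Fin 2) F) ≠ c • (1 : Matrix (Fin 2) (Fin 2) F) := by
  intro h
  apply hg
  rw [Matrix.SpecialLinearGroup.mem_center_iff]
  refine ⟨c, ?_, ?_⟩
  · have hd := g.2
    rw [h, Matrix.det_smul, Matrix.det_one, Fintype.card_fin, mul_one] at hd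
    simpa using hd
  · rw [h, Matrix.scalar_apply, Matrix.smul_one_eq_diagonal]

theorem coeff_zero_of_not_center (g : Matrix.SpecialLinearGroup (Fin 2) F)
    (hg : g ∉ Subgroup.center (Matrix.SpecialLinearGroup (Fin 2) F)) (a b : F)
    (h : a • (g : Matrix (Fin 2) (Fin 2) F) = b • (1 : Matrix (Fin 2) (Fin 2) F)) : a = 0 := by
  by_contra ha
  apply not_scalar_of_not_center g hg (a⁻¹ * b)
  calc (g : Matrix (Fin 2) (Fin 2) F) = a⁻¹ • (a • (g : Matrix (Fin 2) (Fin 2) F)) := by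
        rw [smul_smul, inv_mul_cancel₀ ha, one_smul]
    _ = _ := by rw [h, smul_smul]

theorem coe_of_mem_center (g : Matrix.SpecialLinearGroup (Fin 2) F)
    (hg : g ∈ Subgroup.center (Matrix.SpecialLinearGroup (Fin 2) F)) :
    ∃ c : F, (g : Matrix (Fin 2) (Fin 2) F) = c • (1 : Matrix (Fin 2) (Fin 2) F) := by
  rcases (sl_center_iff g).mp hg with rfl | rfl
  · exact ⟨1, by simp⟩
  · exact ⟨-1, by rw [Matrix.SpecialLinearGroup.coe_neg, Matrix.SpecialLinearGroup.coe_one]; simp⟩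

theorem tr_of_order_two (g : Matrix.SpecialLinearGroup (Fin 2) F)
    (hg : g ∉ Subgroup.center (Matrix.SpecialLinearGroup (Fin 2) F))
    (h : g ^ 2 ∈ Subgroup.center (Matrix.SpecialLinearGroup (Fin 2) F)) : tr g = 0 := by
  obtain ⟨c, hc⟩ := coe_of_mem_center _ h
  rw [Matrix.SpecialLinearGroup.coe_pow] at hc
  have h1 : (g : Matrix (Fin 2) (Fin 2) F) ^ 1 = (1 : F) • (g : Matrix (Fin 2) (Fin 2) F) +
      (0 : F) • (1 : Matrix (Fin 2) (Fin 2) F) := by simp
  have h2 := pow_step _ g.2 1 _ _ h1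
  rw [show 1 + 1 = 2 from rfl, hc] at h2
  have h3 : (1 * (g : Matrix (Fin 2) (Fin 2) F).trace + 0) • (g : Matrix (Fin 2) (Fin 2) F) =
      (c + 1) • (1 : Matrix (Fin 2) (Fin 2) F) := by
    linear_combination (norm := module) -h2
  have := coeff_zero_of_not_center g hg _ _ h3
  unfold tr
  linear_combination this

theorem tr_of_order_three (g : Matrix.SpecialLinearGroup (Fin 2) F)
    (hg : g ∉ Subgroup.center (Matrix.SpecialLinearGroup (Fin 2) F))
    (h : g ^ 3 ∈ Subgroup.center (Matrix.SpecialLinearGroup (Fin 2) F)) : tr g ^ 2 = 1 := by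
  obtain ⟨c, hc⟩ := coe_of_mem_center _ h
  rw [Matrix.SpecialLinearGroup.coe_pow] at hc
  have h1 : (g : Matrix (Fin 2) (Fin 2) F) ^ 1 = (1 : F) • (g : Matrix (Fin 2) (Fin 2) F) +
      (0 : F) • (1 : Matrix (Fin 2) (Fin 2) F) := by simp
  have h2 := pow_step _ g.2 1 _ _ h1
  have h3 := pow_step _ g.2 2 _ _ h2
  rw [show 2 + 1 = 3 from rfl, hc] at h3
  have h4 : ((1 * (g : Matrix (Fin 2) (Fin 2) F).trace + 0) * (g : Matrix (Fin 2) (Fin 2) F).trace
      + -1) • (g : Matrix (Fin 2) (Fin 2) F) =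
      (c + (1 * (g : Matrix (Fin 2) (Fin 2) F).trace + 0)) • (1 : Matrix (Fin 2) (Fin 2) F) := by
    linear_combination (norm := module) -h3
  have := coeff_zero_of_not_center g hg _ _ h4
  unfold tr
  linear_combination this

theorem tr_of_order_five (g : Matrix.SpecialLinearGroup (Fin 2) F)
    (hg : g ∉ Subgroup.center (Matrix.SpecialLinearGroup (Fin 2) F))
    (h : g ^ 5 ∈ Subgroup.center (Matrix.SpecialLinearGroup (Fin 2) F)) :
    tr g ^ 4 - 3 * tr g ^ 2 + 1 = 0 := by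
  obtain ⟨c, hc⟩ := coe_of_mem_center _ h
  rw [Matrix.SpecialLinearGroup.coe_pow] at hc
  have h1 : (g : Matrix (Fin 2) (Fin 2) F) ^ 1 = (1 : F) • (g : Matrix (Fin 2) (Fin 2) F) +
      (0 : F) • (1 : Matrix (Fin 2) (Fin 2) F) := by simp
  have h2 := pow_step _ g.2 1 _ _ h1
  have h3 := pow_step _ g.2 2 _ _ h2
  have h4 := pow_step _ g.2 3 _ _ h3
  have h5 := pow_step _ g.2 4 _ _ h4
  rw [show 4 + 1 = 5 from rfl, hc] at h5
  obtain ⟨t, ht⟩ : ∃ t, t = (g : Matrix (Fin 2) (Fin 2) F).trace := ⟨_, rfl⟩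
  rw [← ht] at h5
  have h6 : (t ^ 4 - 3 * t ^ 2 + 1) • (g : Matrix (Fin 2) (Fin 2) F) =
      (c + (t ^ 3 - 2 * t)) • (1 : Matrix (Fin 2) (Fin 2) F) := by
    linear_combination (norm := module) -h5
  have := coeff_zero_of_not_center g hg _ _ h6
  unfold tr
  rw [← ht]
  exact this

end Cfsg.Agent.Lib.helper6.QAlg
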