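import Mathlib
import Cfsg.Agent.Lib.helper6.QAlgC

set_option autoImplicit false

namespace Cfsg.Agent.Lib.helper6.QAlg

open Cfsg.Agent.S0808 Cfsg.Agent.Lib.helper15

variable {F : Type*} [Field F]

/-! ### fixed fields of Frobenius powers -/

/-- the fixed field of the `n`-th power of Frobenius -/
def fixF (F : Type*) [Field F] (p : ℕ) [Fact p.Prime] [CharP F p] (n : ℕ) : Subfield F :=
  (iterateFrobenius F p n).eqLocusField (RingHom.id F)

section Fix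

variable (p : ℕ) [Fact p.Prime] [CharP F p]

theorem mem_fixF {n : ℕ} {x : F} : x ∈ fixF F p n ↔ x ^ p ^ n = x := by
  unfold fixF
  rw [RingHom.mem_eqLocusField]
  rfl

theorem fixF_mono {n m : ℕ} (h : n ∣ m) : fixF F p n ≤ fixF F p m := by
  obtain ⟨c, rfl⟩ := h
  intro x hx
  rw [mem_fixF] at hx ⊢
  induction c with
  | zero => simp
  | succ c ih =>
    rw [Nat.mul_succ, pow_add, pow_mul, ih, hx]

theorem fixF_ne_top [Fintype F] {n : ℕ} (hn : n ≠ 0) (h : p ^ n < Fintype.card F) :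
    fixF F p n ≠ ⊤ := by
  classical
  intro htop
  have hall : ∀ x : F, x ^ p ^ n = x := by
    intro x
    rw [← mem_fixF, htop]; exact Subfield.mem_top x
  have hp1 : 1 < p ^ n := by
    calc 1 < p := (Fact.out : p.Prime).one_lt
      _ = p ^ 1 := (pow_one p).symm
      _ ≤ p ^ n := Nat.pow_le_pow_right (Fact.out : p.Prime).pos (by omega)
  open Polynomial in
  have hpoly : (X ^ p ^ n - X : F[X]) = 0 := by
    apply Polynomial.eq_zero_of_natDegree_lt_card_of_eval_eq_zero' _ Finset.univ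
    · intro x _
      simp [hall x]
    · rw [Finset.card_univ]
      refine lt_of_le_of_lt ?_ h
      apply (Polynomial.natDegree_sub_le _ _).trans
      simp
      omega
  open Polynomial in
  have := congrArg (fun f : F[X] => f.coeff (p ^ n)) hpoly
  simp only [Polynomial.coeff_sub, Polynomial.coeff_X_pow, Polynomial.coeff_X, if_true,
    Polynomial.coeff_zero] at this
  rw [if_neg (by omega)] at this
  simp at this

theorem exists_orderOf [Fintype F] {d : ℕ} (hd : d ∣ Fintype.card F - 1) :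
    ∃ x : F, x ≠ 0 ∧ orderOf x = d := by
  classical
  have hq : 1 < Fintype.card F := Fintype.one_lt_card
  have hcard : Nat.card Fˣ = Fintype.card F - 1 := by
    rw [Nat.card_eq_fintype_card, Fintype.card_units]
  obtain ⟨g, hg⟩ := IsCyclic.exists_ofOrder_eq_natCard (α := Fˣ)
  rw [hcard] at hg
  have hd0 : d ≠ 0 := by
    rintro rfl
    rw [zero_dvd_iff] at hd
    omega
  obtain ⟨e, he⟩ := hd
  have he0 : e ≠ 0 := by
    rintro rfl
    rw [mul_zero] at he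
    omega
  refine ⟨((g ^ e : Fˣ) : F), Units.ne_zero _, ?_⟩
  rw [orderOf_units, orderOf_pow_of_dvd he0 (by rw [hg, he]; exact Dvd.intro_left _ rfl), hg, he]
  exact Nat.mul_div_cancel _ (Nat.pos_of_ne_zero he0)

theorem mem_fixF_of_orderOf {n : ℕ} {x : F} (hx : orderOf x = p ^ n - 1) : x ∈ fixF F p n := by
  rw [mem_fixF]
  have h1 : 1 ≤ p ^ n := Nat.one_le_pow _ _ (Fact.out : p.Prime).pos
  have h2 : p ^ n = (p ^ n - 1) + 1 := by omega
  rw [h2, pow_succ, ← hx, pow_orderOf_eq_one, one_mul]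

theorem pow_pred_of_mem_fixF {n : ℕ} {x : F} (hx0 : x ≠ 0) (hx : x ∈ fixF F p n) :
    x ^ (p ^ n - 1) = 1 := by
  rw [mem_fixF] at hx
  have h1 : 1 ≤ p ^ n := Nat.one_le_pow _ _ (Fact.out : p.Prime).pos
  have h2 : p ^ n = (p ^ n - 1) + 1 := by omega
  rw [h2, pow_succ] at hx
  have h3 : x ^ (p ^ n - 1) * x = 1 * x := by rw [hx, one_mul]
  exact mul_right_cancel₀ hx0 h3

/-- an element of a bigger fixed field outside a smaller one -/
theorem exists_mem_not_mem [Fintype F] {k n n' : ℕ} (hF : Fintype.card F = p ^ k) (hn : n ≠ 0)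
    (hnn : n < n') (hk : n' ∣ k) : ∃ x : F, x ∈ fixF F p n' ∧ x ∉ fixF F p n := by
  have hp := (Fact.out : p.Prime)
  have hdvd : p ^ n' - 1 ∣ Fintype.card F - 1 := by
    rw [hF]
    exact Nat.pow_sub_one_dvd_pow_sub_one p hk
  obtain ⟨x, hx0, hx⟩ := exists_orderOf hdvd
  refine ⟨x, mem_fixF_of_orderOf p hx, fun hmem => ?_⟩
  have h1 := pow_pred_of_mem_fixF p hx0 hmem
  have h2 := orderOf_dvd_of_pow_eq_one h1
  rw [hx] at h2
  have h3 : p ^ n < p ^ n' := Nat.pow_lt_pow_right hp.one_lt hnn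
  have h4 : 1 < p ^ n := by
    calc 1 < p := hp.one_lt
      _ = p ^ 1 := (pow_one p).symm
      _ ≤ p ^ n := Nat.pow_le_pow_right hp.pos (by omega)
  have := Nat.le_of_dvd (by omega) h2
  omega

omit [Fact p.Prime] [CharP F p] in
/-- a relative version of `exists_sq_not_mem` -/
theorem exists_sq_not_mem_rel (h2 : (2 : F) ≠ 0) {K K' : Subfield F} {x : F} (hx' : x ∈ K')
    (hx : x ∉ K) : ∃ t ∈ K', t ^ 2 ∉ K := by
  by_contra hcon
  push Not at hcon
  have h1 := hcon x hx'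
  have h3 := hcon (x + 1) (K'.add_mem hx' K'.one_mem)
  apply hx
  have h4 : x = ((x + 1) ^ 2 - x ^ 2 - 1) * (2 : F)⁻¹ := by
    field_simp; ring
  rw [h4]
  exact K.mul_mem (K.sub_mem (K.sub_mem h3 h1) K.one_mem) (AK.two_inv_mem K)

end Fix

/-! ### special elements of the groups `G1`, `G1'` -/

section Elements

variable {X Y : Matrix (Fin 2) (Fin 2) F}

/-- a unipotent element lying in every `G1 h K` -/
theorem exists_unipotent (p : ℕ) [Fact p.Prime] [CharP F p] (h : QS X Y) :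
    ∃ u : Matrix.SpecialLinearGroup (Fin 2) F, (∀ K : Subfield F, u ∈ G1 h K) ∧ u ^ p = 1 ∧
      u ∉ Subgroup.center (Matrix.SpecialLinearGroup (Fin 2) F) := by
  have hp := (Fact.out : p.Prime)
  haveI : NeZero p := ⟨hp.ne_zero⟩
  obtain ⟨a, b, hab⟩ := CharP.sq_add_sq F p (-1)
  push_cast at hab
  have hN : qm X Y 0 1 a b * qm X Y 0 1 a b = 0 := by
    rw [qm_mul h]
    have e1 : (0 * 0 - 1 * 1 - (a : F) * a - (b : F) * b) = 0 := by linear_combination -hab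
    have e2 : (0 * 1 + 1 * 0 + (a : F) * b - (b : F) * a) = 0 := by ring
    have e3 : (0 * (a : F) - 1 * b + a * 0 + b * 1) = 0 := by ring
    have e4 : (0 * (b : F) + 1 * a - a * 1 + b * 0) = 0 := by ring
    rw [e1, e2, e3, e4]
    simp [qm]
  have hdet : (qm X Y 1 1 a b).det = 1 := by
    rw [det_qm h]; linear_combination hab
  have hu1 : qm X Y 1 1 a b = 1 + qm X Y 0 1 a b := by unfold qm; module
  obtain ⟨u, hu⟩ : ∃ u : Matrix.SpecialLinearGroup (Fin 2) F,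
      (u : Matrix (Fin 2) (Fin 2) F) = qm X Y 1 1 a b := ⟨⟨_, hdet⟩, rfl⟩
  refine ⟨u, ?_, ?_, ?_⟩
  · intro K
    rw [mem_G1, hu]
    exact ⟨1, K.one_mem, 1, K.one_mem, a, natCast_mem K a, b, natCast_mem K b, rfl⟩
  · apply Subtype.ext
    rw [Matrix.SpecialLinearGroup.coe_pow, Matrix.SpecialLinearGroup.coe_one, hu]
    rw [hu1, add_pow_char_of_commute (p := p) (Commute.one_left _), one_pow]
    have : (qm X Y 0 1 (a : F) b) ^ p = 0 := by
      have h2 : p = 2 + (p - 2) := by have := hp.two_le; omega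
      rw [h2, pow_add, pow_two, hN, zero_mul]
    rw [this, add_zero]
  · intro hc
    obtain ⟨c, hc⟩ := coe_of_mem_center _ hc
    rw [hu] at hc
    have h1 : (qm X Y 1 1 a b * X).trace = -2 := by
      have : (qm X Y 1 1 a b * X) = qm X Y 1 1 a b * qm X Y 0 1 0 0 := by rw [qm_X]
      rw [this, qm_mul h, trace_qm h]; ring
    rw [hc, smul_mul_assoc, one_mul, Matrix.trace_smul, h.trX, smul_zero] at h1
    have : (2 : F) = 0 := by linear_combination h1
    exact h.two this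

/-- if `2` is a square there is an element of every `G1' h K` whose square is `X` -/
theorem exists_sqrt_X (h : QS X Y) (h2sq : IsSquare (2 : F)) :
    ∃ g : Matrix.SpecialLinearGroup (Fin 2) F, (∀ K : Subfield F, g ∈ G1' h K) ∧
      (g : Matrix (Fin 2) (Fin 2) F) * g = X ∧
      (g : Matrix (Fin 2) (Fin 2) F) * X = X * g ∧
      (g : Matrix (Fin 2) (Fin 2) F) * Y = (X * Y) * g := by
  obtain ⟨r, hr⟩ := h2sq
  have hr0 : r ≠ 0 := by
    rintro rfl
    rw [mul_zero] at hr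
    exact h.two hr
  have hdet : (qm X Y r⁻¹ r⁻¹ 0 0).det = 1 := by
    rw [det_qm h]
    field_simp
    linear_combination hr
  obtain ⟨g, hg⟩ : ∃ g : Matrix.SpecialLinearGroup (Fin 2) F,
      (g : Matrix (Fin 2) (Fin 2) F) = qm X Y r⁻¹ r⁻¹ 0 0 := ⟨⟨_, hdet⟩, rfl⟩
  have hX : X = qm X Y 0 1 0 0 := qm_X.symm
  have hY : Y = qm X Y 0 0 1 0 := qm_Y.symm
  have hZ : X * Y = qm X Y 0 0 0 1 := qm_Z.symm
  refine ⟨g, ?_, ?_, ?_, ?_⟩
  · intro K
    refine ⟨r, hr0, ?_⟩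
    rw [hg, qm_smul, mul_inv_cancel₀ hr0, mul_zero]
    exact ⟨1, K.one_mem, 1, K.one_mem, 0, K.zero_mem, 0, K.zero_mem, rfl⟩
  · rw [hg, qm_mul h]
    have e1 : (r⁻¹ * r⁻¹ - r⁻¹ * r⁻¹ - 0 * 0 - 0 * 0 : F) = 0 := by ring
    have e2 : (r⁻¹ * r⁻¹ + r⁻¹ * r⁻¹ + 0 * 0 - 0 * 0 : F) = 1 := by
      field_simp
      linear_combination hr
    have e3 : (r⁻¹ * 0 - r⁻¹ * 0 + 0 * r⁻¹ + 0 * r⁻¹ : F) = 0 := by ring
    have e4 : (r⁻¹ * 0 + r⁻¹ * 0 - 0 * r⁻¹ + 0 * r⁻¹ : F) = 0 := by ring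
    rw [e1, e2, e3, e4]
    exact qm_X (X := X) (Y := Y)
  · rw [hg]
    calc qm X Y r⁻¹ r⁻¹ 0 0 * X = qm X Y r⁻¹ r⁻¹ 0 0 * qm X Y 0 1 0 0 := by rw [← hX]
      _ = qm X Y 0 1 0 0 * qm X Y r⁻¹ r⁻¹ 0 0 := by
          rw [qm_mul h, qm_mul h]; congr 1 <;> ring
      _ = X * qm X Y r⁻¹ r⁻¹ 0 0 := by rw [← hX]
  · rw [hg]
    calc qm X Y r⁻¹ r⁻¹ 0 0 * Y = qm X Y r⁻¹ r⁻¹ 0 0 * qm X Y 0 0 1 0 := by rw [← hY]
      _ = qm X Y 0 0 0 1 * qm X Y r⁻¹ r⁻¹ 0 0 := by
          rw [qm_mul h, qm_mul h]; congr 1 <;> ring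
      _ = (X * Y) * qm X Y r⁻¹ r⁻¹ 0 0 := by rw [← hZ]

/-- `G1'` is strictly bigger than `G1` when `K` has a square root outside -/
theorem exists_G1'_not_G1 [Finite F] (h : QS X Y) (K : Subfield F) (μ : F) (hμ0 : μ ≠ 0)
    (hμ2 : μ ^ 2 ∈ K) (hμ : μ ∉ K) :
    ∃ g : Matrix.SpecialLinearGroup (Fin 2) F, g ∈ G1' h K ∧ g ∉ G1 h K := by
  obtain ⟨a, ha, b, hb, hab⟩ := exists_sq_add_sq h.two K (K.inv_mem hμ2)
  have hdet : (qm X Y (μ * a) (μ * b) 0 0).det = 1 := by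
    rw [det_qm h]
    have : (μ * a) ^ 2 + (μ * b) ^ 2 + 0 ^ 2 + 0 ^ 2 = μ ^ 2 * (a ^ 2 + b ^ 2) := by ring
    rw [this, hab, mul_inv_cancel₀ (pow_ne_zero 2 hμ0)]
  obtain ⟨g, hg⟩ : ∃ g : Matrix.SpecialLinearGroup (Fin 2) F,
      (g : Matrix (Fin 2) (Fin 2) F) = qm X Y (μ * a) (μ * b) 0 0 := ⟨⟨_, hdet⟩, rfl⟩
  refine ⟨g, ?_, ?_⟩
  · refine ⟨μ⁻¹, inv_ne_zero hμ0, ?_⟩
    rw [hg, qm_smul, ← mul_assoc, ← mul_assoc, inv_mul_cancel₀ hμ0, one_mul, one_mul, mul_zero]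
    exact ⟨a, ha, b, hb, 0, K.zero_mem, 0, K.zero_mem, rfl⟩
  · intro hmem
    rw [mem_G1] at hmem
    have h1 := AK.trace_mem h hmem
    have h2 := AK.trace_mem h (AK.mul_mem h hmem AK.X_mem)
    rw [hg] at h1 h2
    rw [trace_qm h] at h1
    have e : qm X Y (μ * a) (μ * b) 0 0 * X = qm X Y (μ * a) (μ * b) 0 0 * qm X Y 0 1 0 0 := by
      rw [qm_X]
    rw [e, qm_mul h, trace_qm h] at h2
    have hab0 : a ≠ 0 ∨ b ≠ 0 := by
      by_contra hcon
      push Not at hcon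
      rw [hcon.1, hcon.2] at hab
      have : (μ ^ 2)⁻¹ = 0 := by rw [← hab]; ring
      exact inv_ne_zero (pow_ne_zero 2 hμ0) this
    apply hμ
    rcases hab0 with h0 | h0
    · have : μ = (2 * (μ * a)) * (2 : F)⁻¹ * a⁻¹ := by
        have := h.two
        field_simp
      rw [this]
      exact K.mul_mem (K.mul_mem h1 (AK.two_inv_mem K)) (K.inv_mem ha)
    · have : μ = -(2 * (μ * a * 0 - μ * b * 1 - 0 * 0 - 0 * 0)) * (2 : F)⁻¹ * b⁻¹ := by
        have := h.two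
        field_simp
        ring
      rw [this]
      exact K.mul_mem (K.mul_mem (K.neg_mem h2) (AK.two_inv_mem K)) (K.inv_mem hb)

end Elements

end Cfsg.Agent.Lib.helper6.QAlg
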