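import Mathlib
import Cfsg.Agent.Lib.helper6.QAlgD
import Cfsg.Agent.Lib.helper6.P2OddA

set_option autoImplicit false

namespace Cfsg.Agent.Lib.helper6.P2Odd

open Cfsg.Agent.Lib.helper6.QAlg Cfsg.Agent.S0808 Cfsg.Agent.S0807

variable {F : Type*} [Field F]

/-- the projection `SL₂ → PSL₂` -/
abbrev pmk (F : Type*) [Field F] :
    Matrix.SpecialLinearGroup (Fin 2) F →* Matrix.ProjectiveSpecialLinearGroup (Fin 2) F :=
  QuotientGroup.mk' (Subgroup.center (Matrix.SpecialLinearGroup (Fin 2) F))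

/-- the full preimage in `SL₂` of a subgroup of `PSL₂` -/
def lift (M : Subgroup (Matrix.ProjectiveSpecialLinearGroup (Fin 2) F)) :
    Subgroup (Matrix.SpecialLinearGroup (Fin 2) F) := M.comap (pmk F)

theorem mem_lift {M : Subgroup (Matrix.ProjectiveSpecialLinearGroup (Fin 2) F)}
    {g : Matrix.SpecialLinearGroup (Fin 2) F} :
    g ∈ lift M ↔ (QuotientGroup.mk g : Matrix.ProjectiveSpecialLinearGroup (Fin 2) F) ∈ M :=
  Iff.rfl

theorem center_le_lift (M : Subgroup (Matrix.ProjectiveSpecialLinearGroup (Fin 2) F)) :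
    Subgroup.center (Matrix.SpecialLinearGroup (Fin 2) F) ≤ lift M := by
  intro g hg
  rw [mem_lift]
  have : (QuotientGroup.mk g : Matrix.ProjectiveSpecialLinearGroup (Fin 2) F) = 1 :=
    (QuotientGroup.eq_one_iff g).mpr hg
  rw [this]; exact M.one_mem

theorem lift_coatom {M : Subgroup (Matrix.ProjectiveSpecialLinearGroup (Fin 2) F)}
    (hM : IsCoatom M) : IsCoatom (lift M) := by
  constructor
  · intro htop
    apply hM.1
    rw [eq_top_iff]
    intro t _
    obtain ⟨g, rfl⟩ := QuotientGroup.mk_surjective t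
    have : g ∈ lift M := by rw [htop]; exact Subgroup.mem_top _
    exact this
  · intro H hlt
    have hle : M ≤ H.map (pmk F) := by
      intro t ht
      obtain ⟨g, rfl⟩ := QuotientGroup.mk_surjective t
      exact ⟨g, hlt.le ht, rfl⟩
    have hne : M ≠ H.map (pmk F) := by
      intro heq
      apply hlt.not_ge
      intro g hg
      rw [mem_lift, heq]
      exact ⟨g, hg, rfl⟩
    have htop := hM.2 _ (lt_of_le_of_ne hle hne)
    rw [eq_top_iff]
    intro g _
    have : (QuotientGroup.mk g : Matrix.ProjectiveSpecialLinearGroup (Fin 2) F) ∈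
        H.map (pmk F) := by rw [htop]; exact Subgroup.mem_top _
    obtain ⟨h, hh, hhg⟩ := this
    have h1 : h⁻¹ * g ∈ Subgroup.center (Matrix.SpecialLinearGroup (Fin 2) F) := by
      rw [← QuotientGroup.eq]
      exact hhg
    have h2 : h⁻¹ * g ∈ H := hlt.le (center_le_lift M h1)
    have : g = h * (h⁻¹ * g) := by group
    rw [this]
    exact H.mul_mem hh h2

/-! ### overgroups from trace conditions -/

section Over

variable {M : Subgroup (Matrix.ProjectiveSpecialLinearGroup (Fin 2) F)}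
  {X Y : Matrix.SpecialLinearGroup (Fin 2) F}

theorem le_G1_of_traces
    (h : QS (X : Matrix (Fin 2) (Fin 2) F) (Y : Matrix (Fin 2) (Fin 2) F))
    (hX : X ∈ lift M) (hY : Y ∈ lift M) (K : Subfield F)
    (htr : ∀ g ∈ lift M, tr g ∈ K) : lift M ≤ G1 h K := by
  intro g hg
  rw [mem_G1]
  apply AK.of_traces h
  · exact htr g hg
  · have := htr (g * X) ((lift M).mul_mem hg hX)
    unfold tr at this
    rwa [Matrix.SpecialLinearGroup.coe_mul] at this
  · have := htr (g * Y) ((lift M).mul_mem hg hY)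
    unfold tr at this
    rwa [Matrix.SpecialLinearGroup.coe_mul] at this
  · have := htr (g * (X * Y)) ((lift M).mul_mem hg ((lift M).mul_mem hX hY))
    unfold tr at this
    rwa [Matrix.SpecialLinearGroup.coe_mul, Matrix.SpecialLinearGroup.coe_mul] at this

theorem le_G1'_of_normalizes
    (h : QS (X : Matrix (Fin 2) (Fin 2) F) (Y : Matrix (Fin 2) (Fin 2) F)) (K : Subfield F)
    (hn : ∀ g ∈ lift M,
      ((g * X * g⁻¹ : Matrix.SpecialLinearGroup (Fin 2) F) : Matrix (Fin 2) (Fin 2) F) ∈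
        AK K (X : Matrix (Fin 2) (Fin 2) F) (Y : Matrix (Fin 2) (Fin 2) F) ∧
      ((g * Y * g⁻¹ : Matrix.SpecialLinearGroup (Fin 2) F) : Matrix (Fin 2) (Fin 2) F) ∈
        AK K (X : Matrix (Fin 2) (Fin 2) F) (Y : Matrix (Fin 2) (Fin 2) F)) :
    lift M ≤ G1' h K := by
  intro g hg
  obtain ⟨h1, h2⟩ := hn g hg
  rw [Matrix.SpecialLinearGroup.coe_mul, Matrix.SpecialLinearGroup.coe_mul] at h1 h2
  have hgi : (g : Matrix (Fin 2) (Fin 2) F) *
      ((g⁻¹ : Matrix.SpecialLinearGroup (Fin 2) F) : Matrix (Fin 2) (Fin 2) F) = 1 := by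
    rw [← Matrix.SpecialLinearGroup.coe_mul, mul_inv_cancel, Matrix.SpecialLinearGroup.coe_one]
  exact sn h _ _ hgi h1 h2

end Over

/-! ### powers in `PSL₂` and `SL₂` -/

theorem pow_mem_center_of_mk_pow {g : Matrix.SpecialLinearGroup (Fin 2) F} {n : ℕ}
    (h : (QuotientGroup.mk g : Matrix.ProjectiveSpecialLinearGroup (Fin 2) F) ^ n = 1) :
    g ^ n = 1 ∨ g ^ n = -1 := by
  rw [← QuotientGroup.mk_pow, QuotientGroup.eq_one_iff] at h
  exact (sl_center_iff _).mp h

theorem neg_one_sq : (-1 : Matrix.SpecialLinearGroup (Fin 2) F) * (-1) = 1 := by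
  apply Subtype.ext
  rw [Matrix.SpecialLinearGroup.coe_mul, Matrix.SpecialLinearGroup.coe_neg,
    Matrix.SpecialLinearGroup.coe_one]
  simp

theorem pow_two_mul_of_mk_pow {g : Matrix.SpecialLinearGroup (Fin 2) F} {n : ℕ}
    (h : (QuotientGroup.mk g : Matrix.ProjectiveSpecialLinearGroup (Fin 2) F) ^ n = 1) :
    g ^ (2 * n) = 1 := by
  rw [mul_comm, pow_mul, pow_two]
  rcases pow_mem_center_of_mk_pow h with h1 | h1 <;> rw [h1]
  · exact one_mul 1
  · exact neg_one_sq

theorem mk_ne_one_of_not_center {g : Matrix.SpecialLinearGroup (Fin 2) F}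
    (h : g ∉ Subgroup.center (Matrix.SpecialLinearGroup (Fin 2) F)) :
    (QuotientGroup.mk g : Matrix.ProjectiveSpecialLinearGroup (Fin 2) F) ≠ 1 := by
  intro hc
  exact h ((QuotientGroup.eq_one_iff g).mp hc)

end Cfsg.Agent.Lib.helper6.P2Odd
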