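import Mathlib
import Cfsg.Agent.Lib.helper6.P2OddB

set_option autoImplicit false

namespace Cfsg.Agent.Lib.helper6.P2Odd

open MulAction
open Cfsg.Agent.Lib.helper6.QAlg Cfsg.Agent.S0808 Cfsg.Agent.S0807
open Cfsg.Agent.Lib.helper6.Dickson Cfsg.Agent.Lib.helper6.Sol2

/-- in a Dickson action every element is a `p`-element or has order prime to `p` -/
theorem pow_p_or_coprime {L X : Type*} [Group L] [Finite L] [MulAction L X] {p : ℕ}
    [Fact p.Prime] (D : DAct L X p) (t : L) : t ^ p = 1 ∨ (orderOf t).Coprime p := by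
  by_cases ht1 : t = 1
  · left; rw [ht1, one_pow]
  rcases par_or_two D ht1 with ⟨x, hx⟩ | ⟨a, b, hab, ha, hb⟩
  · left; exact D.par_pow x t hx
  · right
    have hmem : t ∈ (stabilizer L a ⊓ stabilizer L b : Subgroup L) :=
      Subgroup.mem_inf.mpr ⟨mem_stabilizer_iff.mpr ha, mem_stabilizer_iff.mpr hb⟩
    have h1 : orderOf t ∣ Nat.card ↥(stabilizer L a ⊓ stabilizer L b : Subgroup L) := by
      have := orderOf_dvd_natCard (⟨t, hmem⟩ : ↥(stabilizer L a ⊓ stabilizer L b : Subgroup L))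
      rwa [Subgroup.orderOf_mk] at this
    exact Nat.Coprime.coprime_dvd_left h1 (D.coprime_inf hab)

variable {F : Type*} [Field F] (p : ℕ) [Fact p.Prime] [CharP F p]

/-- traces of lifts of `p`-elements lie in every subfield -/
theorem tr_mem_of_mk_pow_char {g : Matrix.SpecialLinearGroup (Fin 2) F}
    (h : (QuotientGroup.mk g : Matrix.ProjectiveSpecialLinearGroup (Fin 2) F) ^ p = 1)
    (K : Subfield F) : tr g ∈ K := by
  rcases tr_of_pow_char p g (pow_mem_center_of_mk_pow h) with h1 | h1 <;> rw [h1]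
  · exact ofNat_mem K 2
  · exact K.neg_mem (ofNat_mem K 2)

/-- elements of order dividing `(s - 1)/2` or `(s + 1)/2` have traces in the field of order
`s = p ^ a` -/
theorem tr_mem_fixF_of_dvd {a c m : ℕ} (hc : 2 * c + 1 = p ^ a) (hm : 2 * m = p ^ a + 1)
    {g : Matrix.SpecialLinearGroup (Fin 2) F}
    (h : orderOf (QuotientGroup.mk g : Matrix.ProjectiveSpecialLinearGroup (Fin 2) F) ∣ c ∨
      orderOf (QuotientGroup.mk g : Matrix.ProjectiveSpecialLinearGroup (Fin 2) F) ∣ m) :
    tr g ∈ fixF F p a := by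
  rw [mem_fixF]
  apply tr_pow_of_eq
  rcases h with h | h
  · left
    have h1 := pow_two_mul_of_mk_pow (orderOf_dvd_iff_pow_eq_one.mp h)
    rw [← hc, pow_succ, h1, one_mul]
  · right
    have h1 := pow_two_mul_of_mk_pow (orderOf_dvd_iff_pow_eq_one.mp h)
    rw [hm, pow_succ] at h1
    exact eq_inv_of_mul_eq_one_left h1

theorem neg_one_mul_self_sl (g : Matrix.SpecialLinearGroup (Fin 2) F) : -1 * g = -g := by
  apply Subtype.ext
  rw [Matrix.SpecialLinearGroup.coe_mul, Matrix.SpecialLinearGroup.coe_neg,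
    Matrix.SpecialLinearGroup.coe_neg, Matrix.SpecialLinearGroup.coe_one]
  simp

/-- elements of order dividing `s - 1` or `s + 1` have traces with `τ ^ s = ± τ` -/
theorem tr_pow_of_dvd_pgl {a : ℕ}
    {g : Matrix.SpecialLinearGroup (Fin 2) F}
    (h : orderOf (QuotientGroup.mk g : Matrix.ProjectiveSpecialLinearGroup (Fin 2) F) ∣ p ^ a - 1 ∨
      orderOf (QuotientGroup.mk g : Matrix.ProjectiveSpecialLinearGroup (Fin 2) F) ∣ p ^ a + 1) :
    tr g ^ p ^ a = tr g ∨ tr g ^ p ^ a = -tr g := by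
  have h1 : 1 ≤ p ^ a := Nat.one_le_pow _ _ (Fact.out : p.Prime).pos
  rcases h with h | h
  · have h2 := pow_mem_center_of_mk_pow (orderOf_dvd_iff_pow_eq_one.mp h)
    have h3 : g ^ p ^ a = g ^ (p ^ a - 1) * g := by rw [← pow_succ]; congr 1; omega
    rcases h2 with h2 | h2
    · left
      apply tr_pow_of_eq
      left
      rw [h3, h2, one_mul]
    · right
      apply tr_pow_of_eq_neg
      left
      rw [h3, h2, neg_one_mul_self_sl]
  · have h2 := pow_mem_center_of_mk_pow (orderOf_dvd_iff_pow_eq_one.mp h)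
    rw [pow_succ] at h2
    rcases h2 with h2 | h2
    · left
      apply tr_pow_of_eq
      right
      exact eq_inv_of_mul_eq_one_left h2
    · right
      apply tr_pow_of_eq_neg
      right
      have h4 : g ^ p ^ a = -1 * g⁻¹ := by rw [← h2, mul_inv_cancel_right]
      rw [h4, neg_one_mul_self_sl]

theorem mem_fixF_two_mul {a : ℕ} (hp2 : p ≠ 2) {τ : F}
    (h : τ ^ p ^ a = τ ∨ τ ^ p ^ a = -τ) : τ ∈ fixF F p (2 * a) := by
  rw [mem_fixF]
  have e : p ^ (2 * a) = p ^ a * p ^ a := by rw [two_mul, pow_add]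
  rw [e, pow_mul]
  rcases h with h | h
  · rw [h, h]
  · rw [h]
    have hodd : Odd (p ^ a) := ((Fact.out : p.Prime).odd_of_ne_two hp2).pow
    rw [hodd.neg_pow, h, neg_neg]

end Cfsg.Agent.Lib.helper6.P2Odd
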