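import Mathlib
import Cfsg.Agent.Lib.helper6.P2OddC
import Cfsg.Agent.Lib.Helper28.P2Card
import Cfsg.Agent.Lib.Helper28.P2Arith

set_option autoImplicit false

namespace Cfsg.Agent.Lib.helper6.P2Odd

open MulAction
open Cfsg.Agent.Lib.helper6.QAlg Cfsg.Agent.S0808 Cfsg.Agent.S0807
open Cfsg.Agent.Lib.helper6.Dickson

/-! ### transporting pairs -/

theorem isPair_map {G H : Type*} [Group G] [Group H] (f : G →* H) (hf : Function.Injective f)
    {a b : G} (hp : IsPair (a, b)) : IsPair (f a, f b) := by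
  obtain ⟨h1, h2, h3, h4⟩ := hp
  refine ⟨?_, ?_, ?_, ?_⟩
  · show orderOf (f a) = 2
    rw [orderOf_injective f hf]; exact h1
  · show orderOf (f b) = 2
    rw [orderOf_injective f hf]; exact h2
  · exact fun h => h3 (hf h)
  · show f a * f b = f b * f a
    rw [← map_mul, ← map_mul]
    exact congrArg f h4

theorem exists_isPair_psl2 (K : Type*) [Field K] [Fintype K] (hodd : Odd (Fintype.card K)) :
    ∃ a b : Matrix.ProjectiveSpecialLinearGroup (Fin 2) K, IsPair (a, b) := by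
  have h1 := Cfsg.Agent.S0807.result (F := K) rfl hodd
  have hpos : 0 < Nat.card (Matrix.ProjectiveSpecialLinearGroup (Fin 2) K) := Nat.card_pos
  have h2 : 0 < Nat.card {V : Subgroup (Matrix.ProjectiveSpecialLinearGroup (Fin 2) K) //
      IsKleinFour V} := by
    by_contra hc
    push Not at hc
    have : Nat.card {V : Subgroup (Matrix.ProjectiveSpecialLinearGroup (Fin 2) K) //
      IsKleinFour V} = 0 := by omega
    rw [this, mul_zero] at h1
    omega
  obtain ⟨⟨V, hV⟩⟩ := (Nat.card_pos_iff.mp h2).1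
  obtain ⟨a, b, hp, -⟩ := klein_has_pair V hV
  exact ⟨a, b, hp⟩

variable {F : Type*} [Field F] [Fintype F]

/-- lifting a pair of a subgroup of `PSL₂` to a quaternion pair of `SL₂` -/
theorem exists_QS_of_pair (h2 : (2 : F) ≠ 0)
    {M : Subgroup (Matrix.ProjectiveSpecialLinearGroup (Fin 2) F)}
    {x y : Matrix.ProjectiveSpecialLinearGroup (Fin 2) F} (hp : IsPair (x, y)) (hx : x ∈ M)
    (hy : y ∈ M) :
    ∃ X Y : Matrix.SpecialLinearGroup (Fin 2) F,
      QS (X : Matrix (Fin 2) (Fin 2) F) (Y : Matrix (Fin 2) (Fin 2) F) ∧ X ∈ lift M ∧ Y ∈ lift M ∧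
      (QuotientGroup.mk X : Matrix.ProjectiveSpecialLinearGroup (Fin 2) F) = x ∧
      (QuotientGroup.mk Y : Matrix.ProjectiveSpecialLinearGroup (Fin 2) F) = y := by
  obtain ⟨X, Y, hX, hY, hQ⟩ := exists_anti_of_pair h2 (x, y) hp
  refine ⟨X, Y, ⟨h2, hQ, X.2, Y.2⟩, ?_, ?_, hX, hY⟩
  · rw [mem_lift, hX]; exact hx
  · rw [mem_lift, hY]; exact hy

/-- a pair inside a subgroup isomorphic to a group having a pair -/
theorem exists_QS_of_equiv (h2 : (2 : F) ≠ 0)
    {M : Subgroup (Matrix.ProjectiveSpecialLinearGroup (Fin 2) F)} {A : Type*} [Group A]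
    (e : M ≃* A) {a b : A} (hp : IsPair (a, b)) :
    ∃ X Y : Matrix.SpecialLinearGroup (Fin 2) F,
      QS (X : Matrix (Fin 2) (Fin 2) F) (Y : Matrix (Fin 2) (Fin 2) F) ∧ X ∈ lift M ∧ Y ∈ lift M ∧
      (QuotientGroup.mk X : Matrix.ProjectiveSpecialLinearGroup (Fin 2) F) = (e.symm a : M) ∧
      (QuotientGroup.mk Y : Matrix.ProjectiveSpecialLinearGroup (Fin 2) F) = (e.symm b : M) := by
  have hp' : IsPair (((e.symm a : M) : Matrix.ProjectiveSpecialLinearGroup (Fin 2) F),
      ((e.symm b : M) : Matrix.ProjectiveSpecialLinearGroup (Fin 2) F)) :=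
    isPair_map (M.subtype.comp e.symm.toMonoidHom)
      (M.subtype_injective.comp e.symm.injective) hp
  exact exists_QS_of_pair h2 hp' (e.symm a).2 (e.symm b).2

/-! ### arithmetic of the orders -/

theorem two_ne_zero_of_char (p : ℕ) [Fact p.Prime] [CharP F p] (hp2 : p ≠ 2) : (2 : F) ≠ 0 := by
  intro h
  have h1 : ((2 : ℕ) : F) = 0 := by exact_mod_cast h
  rw [CharP.cast_eq_zero_iff F p] at h1
  have := (Nat.prime_dvd_prime_iff_eq (Fact.out : p.Prime) Nat.prime_two).mp h1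
  exact hp2 this

theorem two_mul_card_psl2 (hodd : Odd (Fintype.card F)) :
    2 * Nat.card (Matrix.ProjectiveSpecialLinearGroup (Fin 2) F) =
      Fintype.card F * (Fintype.card F ^ 2 - 1) := by
  have h := Cfsg.Agent.Lib.Helper28.P2.card_psl2 (F := F)
  have hg : Nat.gcd 2 (Fintype.card F - 1) = 2 := by
    obtain ⟨t, ht⟩ := hodd
    rw [ht, Nat.add_sub_cancel]
    exact Nat.gcd_eq_left (Dvd.intro _ rfl)
  rwa [hg] at h

/-- an element with `μ ^ s = - μ` when the field contains the quadratic extension of the field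
of order `s = p ^ a` -/
theorem exists_neg_frob (p : ℕ) [Fact p.Prime] [CharP F p] (hp2 : p ≠ 2) {k a : ℕ}
    (hk : Fintype.card F = p ^ k) (ha : a ≠ 0) (h2a : 2 * a ∣ k) :
    ∃ μ : F, μ ≠ 0 ∧ μ ^ p ^ a = -μ := by
  have hp : p.Prime := Fact.out
  have hodd : Odd (p ^ a) := (hp.odd_of_ne_two hp2).pow
  obtain ⟨j, hj⟩ := hodd
  have hdvd : p ^ (2 * a) - 1 ∣ Fintype.card F - 1 := by
    rw [hk]; exact Nat.pow_sub_one_dvd_pow_sub_one p h2a
  obtain ⟨x, hx0, hx⟩ := exists_orderOf hdvd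
  have e1 : p ^ (2 * a) = (2 * j + 1) * (2 * j + 1) := by
    rw [two_mul, pow_add, hj]
  have e2 : p ^ (2 * a) - 1 = 2 * (2 * j * (j + 1)) := by
    rw [e1]
    have : (2 * j + 1) * (2 * j + 1) = 2 * (2 * j * (j + 1)) + 1 := by ring
    omega
  have hj0 : 0 < j := by
    have h3 : 3 ≤ p := by
      have := hp.two_le
      omega
    have h4 : p ^ 1 ≤ p ^ a := Nat.pow_le_pow_right hp.pos (by omega)
    rw [pow_one] at h4
    omega
  have hsq : (x ^ (2 * j * (j + 1))) ^ 2 = 1 := by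
    rw [← pow_mul, mul_comm _ 2, ← e2, ← hx, pow_orderOf_eq_one]
  have hne1 : x ^ (2 * j * (j + 1)) ≠ 1 := by
    apply pow_ne_one_of_lt_orderOf
    · have : 0 < 2 * j * (j + 1) := by positivity
      omega
    · rw [hx, e2]
      have : 0 < 2 * j * (j + 1) := by positivity
      omega
  have hneg : x ^ (2 * j * (j + 1)) = -1 := by
    have h3 : (x ^ (2 * j * (j + 1)) - 1) * (x ^ (2 * j * (j + 1)) + 1) = 0 := by
      linear_combination hsq
    rcases mul_eq_zero.mp h3 with h4 | h4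
    · exact absurd (by linear_combination h4) hne1
    · linear_combination h4
  refine ⟨x ^ (j + 1), pow_ne_zero _ hx0, ?_⟩
  rw [hj, pow_succ, ← pow_mul, show (j + 1) * (2 * j) = 2 * j * (j + 1) by ring, hneg]
  ring

end Cfsg.Agent.Lib.helper6.P2Odd
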