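import Mathlib

set_option autoImplicit false

namespace Cfsg.Agent.Lib.helper6.Witt

variable {F V : Type*} [Field F] [AddCommGroup V] [Module F V]

theorem exists_hyperplane (X : Submodule F V) (hX : X ≠ ⊥) :
    ∃ (H : Submodule F V) (x : V), H ≤ X ∧ x ∈ X ∧ x ∉ H ∧ H ⊔ Submodule.span F {x} = X := by
  obtain ⟨x, hxX, hx0⟩ := Submodule.exists_mem_ne_zero_of_ne_bot hX
  obtain ⟨C, hC⟩ := Submodule.exists_isCompl (Submodule.span F {x})
  have hle : Submodule.span F {x} ≤ X := by
    rw [Submodule.span_singleton_le_iff_mem]; exact hxX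
  refine ⟨C ⊓ X, x, inf_le_right, hxX, ?_, ?_⟩
  · intro hx
    have : x ∈ Submodule.span F {x} ⊓ C := ⟨Submodule.mem_span_singleton_self x, hx.1⟩
    rw [hC.inf_eq_bot, Submodule.mem_bot] at this
    exact hx0 this
  · rw [sup_comm, ← sup_inf_assoc_of_le C hle, hC.sup_eq_top, top_inf_eq]

theorem skeleton [FiniteDimensional F V] (Iso : Subgroup (V ≃ₗ[F] V))
    (P : Submodule F V → (V →ₗ[F] V) → Prop)
    (P_mono : ∀ (X Y : Submodule F V) (f : V →ₗ[F] V), Y ≤ X → P X f → P Y f)
    (P_comp : ∀ (X : Submodule F V) (f : V →ₗ[F] V) (g : V ≃ₗ[F] V), g ∈ Iso → P X f →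
      P X ((g : V →ₗ[F] V) ∘ₗ f))
    (step : ∀ (H : Submodule F V) (x : V) (f : V →ₗ[F] V), x ∉ H →
      P (H ⊔ Submodule.span F {x}) f → (∀ h ∈ H, f h = h) →
      ∃ g ∈ Iso, (∀ h ∈ H, g h = h) ∧ g x = f x)
    (X : Submodule F V) (f : V →ₗ[F] V) (hP : P X f) :
    ∃ g ∈ Iso, ∀ x ∈ X, g x = f x := by
  induction hn : Module.finrank F X using Nat.strong_induction_on generalizing X f with
  | _ n ih =>
    by_cases hX : X = ⊥
    · refine ⟨1, Iso.one_mem, ?_⟩
      intro x hx
      rw [hX, Submodule.mem_bot] at hx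
      subst hx
      simp
    · obtain ⟨H, x, hHX, hxX, hxH, hsup⟩ := exists_hyperplane X hX
      have hlt : H < X := lt_of_le_of_ne hHX (fun h => hxH (h ▸ hxX))
      have hfr : Module.finrank F H < n := hn ▸ Submodule.finrank_lt_finrank_of_lt hlt
      obtain ⟨g₁, hg₁, hg₁f⟩ := ih _ hfr H f (P_mono X H f hHX hP) rfl
      have hP' : P X (((g₁⁻¹ : V ≃ₗ[F] V) : V →ₗ[F] V) ∘ₗ f) := P_comp X f _ (Iso.inv_mem hg₁) hP
      have hid : ∀ h ∈ H, (((g₁⁻¹ : V ≃ₗ[F] V) : V →ₗ[F] V) ∘ₗ f) h = h := by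
        intro h hh
        rw [LinearMap.comp_apply, ← hg₁f h hh]
        show g₁⁻¹ (g₁ h) = h
        rw [← LinearEquiv.mul_apply, inv_mul_cancel]; rfl
      rw [← hsup] at hP'
      obtain ⟨g₂, hg₂, hg₂H, hg₂x⟩ := step H x _ hxH hP' hid
      refine ⟨g₁ * g₂, Iso.mul_mem hg₁ hg₂, ?_⟩
      intro z hz
      rw [← hsup] at hz
      obtain ⟨h, hh, w, hw, rfl⟩ := Submodule.mem_sup.mp hz
      obtain ⟨c, rfl⟩ := Submodule.mem_span_singleton.mp hw
      rw [LinearEquiv.mul_apply, map_add, map_add, map_add, map_smul, map_smul, map_smul, hg₂H h hh,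
        hg₁f h hh, hg₂x, LinearMap.comp_apply]
      congr 2
      show g₁ (g₁⁻¹ (f x)) = f x
      rw [← LinearEquiv.mul_apply, mul_inv_cancel]; rfl


theorem surj_of_sepRight [FiniteDimensional F V] {σ : F →+* F} [RingHomSurjective σ]
    (B : V →ₛₗ[σ] V →ₗ[F] F) (hB : B.SeparatingRight) (φ : Module.Dual F V) : ∃ u, B u = φ := by
  let W : Subspace F (Module.Dual F V) := LinearMap.range B
  have h1 : W.dualCoannihilator = ⊥ := by
    rw [eq_bot_iff]
    intro v hv
    rw [Submodule.mem_dualCoannihilator] at hv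
    rw [Submodule.mem_bot]
    apply hB
    intro u
    exact hv (B u) ⟨u, rfl⟩
  have h2 : W = ⊤ := by
    have := Subspace.dualCoannihilator_dualAnnihilator_eq (W := W)
    rw [h1, Submodule.dualAnnihilator_bot] at this
    exact this.symm
  have : φ ∈ W := by rw [h2]; trivial
  exact this

theorem exists_perp [FiniteDimensional F V] {σ : F →+* F} [RingHomSurjective σ]
    (B : V →ₛₗ[σ] V →ₗ[F] F) (hB : B.SeparatingRight) (S : Submodule F V) (x : V) (hx : x ∉ S)
    (c : F) : ∃ u, (∀ s ∈ S, B u s = 0) ∧ B u x = c := by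
  obtain ⟨f, hfx, hSf⟩ := Submodule.exists_le_ker_of_notMem hx
  obtain ⟨u, hu⟩ := surj_of_sepRight B hB ((c * (f x)⁻¹) • f)
  refine ⟨u, ?_, ?_⟩
  · intro s hs
    rw [hu, LinearMap.smul_apply, LinearMap.mem_ker.mp (hSf hs), smul_zero]
  · rw [hu, LinearMap.smul_apply, smul_eq_mul, mul_assoc, inv_mul_cancel₀ hfx, mul_one]


structure EpsHerm (σ : F →+* F) (ε : F) (B : V →ₛₗ[σ] V →ₗ[F] F) : Prop where
  inv : ∀ a, σ (σ a) = a
  eps_sq : ε * ε = 1
  eps_fix : σ ε = ε
  symm : ∀ x y, σ (B x y) = ε * B y x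
  trace : ∀ x, ∃ c, B x x = c + ε * σ c
  sepR : B.SeparatingRight

variable {σ : F →+* F} {ε : F} {B : V →ₛₗ[σ] V →ₗ[F] F}

theorem EpsHerm.swap (h : EpsHerm σ ε B) (x y : V) : B y x = ε * σ (B x y) := by
  rw [h.symm, ← mul_assoc, h.eps_sq, one_mul]

theorem EpsHerm.zero_swap (h : EpsHerm σ ε B) {x y : V} (hxy : B x y = 0) : B y x = 0 := by
  rw [h.swap, hxy, map_zero, mul_zero]

def isoGroup (B : V →ₛₗ[σ] V →ₗ[F] F) : Subgroup (V ≃ₗ[F] V) where
  carrier := {g | ∀ u v, B (g u) (g v) = B u v}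
  mul_mem' := by
    intro g h hg hh u v
    rw [LinearEquiv.mul_apply, LinearEquiv.mul_apply, hg, hh]
  one_mem' := by intro u v; rfl
  inv_mem' := by
    intro g hg u v
    have := hg (g⁻¹ u) (g⁻¹ v)
    have e1 : g (g⁻¹ u) = u := by rw [← LinearEquiv.mul_apply, mul_inv_cancel]; rfl
    have e2 : g (g⁻¹ v) = v := by rw [← LinearEquiv.mul_apply, mul_inv_cancel]; rfl
    rw [e1, e2] at this
    exact this.symm

theorem mem_isoGroup (g : V ≃ₗ[F] V) : g ∈ isoGroup B ↔ ∀ u v, B (g u) (g v) = B u v := Iff.rfl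

theorem exists_iso_of_endo [FiniteDimensional F V] (h : EpsHerm σ ε B) (g : V →ₗ[F] V)
    (hg : ∀ u v, B (g u) (g v) = B u v) : ∃ e ∈ isoGroup B, ∀ v, e v = g v := by
  have hinj : Function.Injective g := by
    rw [injective_iff_map_eq_zero]
    intro v hv
    apply h.sepR
    intro u
    rw [← hg, hv, map_zero]
  refine ⟨LinearEquiv.ofInjectiveEndo g hinj, ?_, ?_⟩
  · intro u v
    rw [LinearEquiv.coe_ofInjectiveEndo]
    exact hg u v
  · intro v
    rw [LinearEquiv.coe_ofInjectiveEndo]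

/-- Type A: quasi-reflection along `d`. -/
def mapA (B : V →ₛₗ[σ] V →ₗ[F] F) (d : V) (a : F) : V →ₗ[F] V :=
  LinearMap.id - (a⁻¹ • B d).smulRight d

theorem mapA_apply (d : V) (a : F) (v : V) : mapA B d a v = v - (a⁻¹ * B d v) • d := by
  simp [mapA]

theorem caseA (h : EpsHerm σ ε B) (d : V) (a : F) (ha : a ≠ 0) (hdd : B d d = a + ε * σ a) :
    ∀ u v, B (mapA B d a u) (mapA B d a v) = B u v := by
  intro u v
  have hsa : σ a ≠ 0 := (map_ne_zero σ).mpr ha
  simp only [mapA_apply, LinearMap.sub_apply, smul_eq_mul, map_sub, map_smulₛₗ, map_mul, map_inv₀,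
    RingHom.id_apply, LinearMap.smul_apply]
  rw [h.swap d u, hdd]
  field_simp
  ring

/-- Type B1: Eichler-type transformation. -/
def mapE (B : V →ₛₗ[σ] V →ₗ[F] F) (ε : F) (d u : V) (c : F) : V →ₗ[F] V :=
  LinearMap.id + (B u + c • B d).smulRight d - (ε • B d).smulRight u

theorem mapE_apply (d u : V) (c : F) (v : V) :
    mapE B ε d u c v = v + (B u v + c * B d v) • d - (ε * B d v) • u := by
  simp [mapE]

theorem caseE (h : EpsHerm σ ε B) (d u : V) (c : F) (hdd : B d d = 0) (hud : B u d = 0)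
    (huu : B u u + ε * c + σ c = 0) :
    ∀ v w, B (mapE B ε d u c v) (mapE B ε d u c w) = B v w := by
  intro v w
  have hdu : B d u = 0 := h.zero_swap hud
  simp only [mapE_apply, LinearMap.sub_apply, LinearMap.add_apply, smul_eq_mul, map_sub, map_add,
    map_smulₛₗ, map_mul, RingHom.id_apply, LinearMap.smul_apply, h.eps_fix]
  rw [h.swap d v, h.swap u v, hdd, hud, hdu]
  have e2 := h.eps_sq
  linear_combination (σ (B d v) * B d w) * huu + (-(σ (B u v) * B d w) + σ (B d v) * B d w * B u u) * e2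

/-- Type B2: hyperbolic dilation. -/
def mapD (B : V →ₛₗ[σ] V →ₗ[F] F) (ε : F) (d e : V) (μ : F) : V →ₗ[F] V :=
  LinearMap.id + ((μ - 1) • B e).smulRight d + ((((σ μ)⁻¹ - 1) * ε) • B d).smulRight e

theorem mapD_apply (d e : V) (μ : F) (v : V) :
    mapD B ε d e μ v = v + ((μ - 1) * B e v) • d + ((((σ μ)⁻¹ - 1) * ε) * B d v) • e := by
  simp [mapD]

theorem caseD (h : EpsHerm σ ε B) (d e : V) (μ : F) (hμ : μ ≠ 0) (hdd : B d d = 0) (hee : B e e = 0)
    (hed : B e d = 1) :
    ∀ v w, B (mapD B ε d e μ v) (mapD B ε d e μ w) = B v w := by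
  intro v w
  have hde : B d e = ε := by rw [h.swap, hed, map_one, mul_one]
  have hsμ : σ μ ≠ 0 := (map_ne_zero σ).mpr hμ
  simp only [mapD_apply, LinearMap.add_apply, smul_eq_mul, map_sub, map_add, map_one,
    map_smulₛₗ, map_mul, map_inv₀, RingHom.id_apply, LinearMap.smul_apply, h.eps_fix, h.inv]
  rw [h.swap d v, h.swap e v, hdd, hee, hed, hde]
  have e2 := h.eps_sq
  field_simp
  linear_combination (σ (B e v) * B d w * σ μ * μ * (1 - σ μ)) * e2

theorem step_core [FiniteDimensional F V] (h : EpsHerm σ ε B) (H : Submodule F V) (x y : V)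
    (hx : x ∉ H) (hy : y ∉ H) (hHy : ∀ z ∈ H, B z y = B z x) (hyy : B y y = B x x) :
    ∃ g ∈ isoGroup B, (∀ z ∈ H, g z = z) ∧ g x = y := by
  have : RingHomSurjective σ := ⟨fun a => ⟨σ a, h.inv a⟩⟩
  by_cases hd0 : x - y = 0
  · refine ⟨1, (isoGroup B).one_mem, fun z _ => rfl, ?_⟩
    show x = y
    exact sub_eq_zero.mp hd0
  set d := x - y with hd
  have hHd : ∀ z ∈ H, B z d = 0 := by
    intro z hz
    rw [hd, map_sub, hHy z hz, sub_self]
  have hdH : ∀ z ∈ H, B d z = 0 := fun z hz => h.zero_swap (hHd z hz)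
  have hxy : x - d = y := by rw [hd]; abel
  have key : B d d = B d x + B x d := by
    have e1 : B d d = B d x - B d y := by rw [← map_sub, ← hd]
    have e2 : B d y = B x y - B y y := by rw [hd, map_sub, LinearMap.sub_apply]
    have e3 : B x d = B x x - B x y := by rw [hd, map_sub]
    rw [e1, e2, e3, hyy]; ring
  by_cases ha : B d x = 0
  · -- case B
    have hxd : B x d = 0 := h.zero_swap ha
    have hdd : B d d = 0 := by rw [key, ha, hxd, add_zero]
    by_cases hxS : x ∈ H ⊔ Submodule.span F {d}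
    · -- B2
      obtain ⟨h₀, hh₀, w, hw, hsum⟩ := Submodule.mem_sup.mp hxS
      obtain ⟨c, rfl⟩ := Submodule.mem_span_singleton.mp hw
      have hc0 : c ≠ 0 := by
        rintro rfl
        rw [zero_smul, add_zero] at hsum
        exact hx (hsum ▸ hh₀)
      have hc1 : c ≠ 1 := by
        rintro rfl
        rw [one_smul] at hsum
        apply hy
        rw [← hxy, ← hsum, add_sub_cancel_right]
        exact hh₀
      have hdnot : d ∉ H := by
        intro hdH'
        apply hx
        rw [← hsum]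
        exact H.add_mem hh₀ (H.smul_mem c hdH')
      obtain ⟨e₀, he₀H, he₀d⟩ := exists_perp B h.sepR H d hdnot 1
      obtain ⟨c', hc'⟩ := h.trace e₀
      have hde₀ : B d e₀ = ε := by rw [h.swap, he₀d, map_one, mul_one]
      set e := e₀ - c' • d with he
      have hee : B e e = 0 := by
        rw [he]
        simp only [map_sub, map_smulₛₗ, LinearMap.sub_apply, LinearMap.smul_apply,
          smul_eq_mul, hc', he₀d, hde₀, hdd, RingHom.id_apply]
        ring
      have hed : B e d = 1 := by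
        rw [he]
        simp only [map_sub, map_smulₛₗ, LinearMap.sub_apply, LinearMap.smul_apply, smul_eq_mul,
          he₀d, hdd]
        ring
      have heH : ∀ z ∈ H, B e z = 0 := by
        intro z hz
        rw [he]
        simp only [map_sub, map_smulₛₗ, LinearMap.sub_apply, LinearMap.smul_apply, smul_eq_mul,
          he₀H z hz, hdH z hz]
        ring
      have hμ : (c - 1) / c ≠ 0 := div_ne_zero (sub_ne_zero.mpr hc1) hc0
      obtain ⟨g, hg, hgv⟩ := exists_iso_of_endo h (mapD B ε d e ((c - 1) / c))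
        (caseD h d e _ hμ hdd hee hed)
      refine ⟨g, hg, ?_, ?_⟩
      · intro z hz
        rw [hgv, mapD_apply, heH z hz, hdH z hz]
        simp
      · have hex : B e x = c := by
          rw [← hsum, map_add, map_smul, heH h₀ hh₀, hed]
          simp
        rw [hgv, mapD_apply, ha, hex, ← hxy]
        have : ((c - 1) / c - 1) * c = -1 := by field_simp; ring
        rw [this]
        simp
        abel
    · -- B1
      obtain ⟨u, huS, hux⟩ := exists_perp B h.sepR _ x hxS (-1)
      have huH : ∀ z ∈ H, B u z = 0 := fun z hz => huS z (Submodule.mem_sup_left hz)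
      have hud : B u d = 0 :=
        huS d (Submodule.mem_sup_right (Submodule.mem_span_singleton_self d))
      obtain ⟨c', hc'⟩ := h.trace u
      have huu : B u u + ε * (-σ c') + σ (-σ c') = 0 := by
        rw [hc', map_neg, h.inv]; ring
      obtain ⟨g, hg, hgv⟩ := exists_iso_of_endo h (mapE B ε d u (-σ c'))
        (caseE h d u _ hdd hud huu)
      refine ⟨g, hg, ?_, ?_⟩
      · intro z hz
        rw [hgv, mapE_apply, huH z hz, hdH z hz]
        simp
      · rw [hgv, mapE_apply, ha, hux, ← hxy]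
        simp
        abel
  · -- case A
    have hdd : B d d = B d x + ε * σ (B d x) := by rw [key, h.swap d x]
    obtain ⟨g, hg, hgv⟩ := exists_iso_of_endo h (mapA B d (B d x)) (caseA h d _ ha hdd)
    refine ⟨g, hg, ?_, ?_⟩
    · intro z hz
      rw [hgv, mapA_apply, hdH z hz]
      simp
    · rw [hgv, mapA_apply, inv_mul_cancel₀ ha, one_smul, hxy]

theorem witt_sesq [FiniteDimensional F V] (h : EpsHerm σ ε B) (X Y : Submodule F V) (φ : X ≃ₗ[F] Y)
    (hφ : ∀ x x' : X, B (φ x : V) (φ x' : V) = B (x : V) (x' : V)) :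
    ∃ g : V ≃ₗ[F] V, (∀ u v : V, B (g u) (g v) = B u v) ∧ ∀ x : X, g (x : V) = (φ x : V) := by
  obtain ⟨f, hf⟩ := LinearMap.exists_extend (Y.subtype ∘ₗ (φ : X →ₗ[F] Y))
  have hfx : ∀ x : X, f (x : V) = (φ x : V) := by
    intro x
    have := congrArg (fun l => l x) hf
    simpa using this
  let P : Submodule F V → (V →ₗ[F] V) → Prop := fun X f =>
    (∀ x ∈ X, ∀ x' ∈ X, B (f x) (f x') = B x x') ∧ Set.InjOn f X
  have hP : P X f := by
    constructor
    · intro x hx x' hx'
      have := hφ ⟨x, hx⟩ ⟨x', hx'⟩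
      rw [← hfx, ← hfx] at this
      exact this
    · intro x hx x' hx' hxx'
      have e1 := hfx ⟨x, hx⟩
      have e2 := hfx ⟨x', hx'⟩
      simp only at e1 e2
      rw [hxx', e2] at e1
      have := φ.injective (Subtype.ext e1)
      exact (congrArg Subtype.val this).symm
  obtain ⟨g, hg, hgX⟩ := skeleton (isoGroup B) P
    (by
      intro X Y f hYX hPX
      exact ⟨fun x hx x' hx' => hPX.1 x (hYX hx) x' (hYX hx'), hPX.2.mono hYX⟩)
    (by
      intro X f g hg hPX
      constructor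
      · intro x hx x' hx'
        simp only [LinearMap.comp_apply, LinearEquiv.coe_coe]
        rw [hg, hPX.1 x hx x' hx']
      · intro x hx x' hx' hxx'
        simp only [LinearMap.comp_apply, LinearEquiv.coe_coe] at hxx'
        exact hPX.2 hx hx' (g.injective hxx'))
    (by
      intro H x f hxH hPX hfH
      have hxX : x ∈ H ⊔ Submodule.span F {x} :=
        Submodule.mem_sup_right (Submodule.mem_span_singleton_self x)
      have hHX : H ≤ H ⊔ Submodule.span F {x} := le_sup_left
      apply step_core h H x (f x) hxH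
      · intro hfxH
        have e1 : f (f x) = f x := hfH _ hfxH
        have := hPX.2 (hHX hfxH) hxX e1
        exact hxH (this ▸ hfxH)
      · intro z hz
        have := hPX.1 z (hHX hz) x hxX
        rw [hfH z hz] at this
        exact this
      · exact hPX.1 x hxX x hxX)
    X f hP
  exact ⟨g, hg, fun x => (hgX x x.2).trans (hfx x)⟩

end Cfsg.Agent.Lib.helper6.Witt
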