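import Mathlib
import Cfsg.Prelude.Def_LieClassical
import Cfsg.Prelude.Def_ClassicalGeometry
import Cfsg.Agent.Lib.Lead.HermIso
import Cfsg.Agent.S0751

set_option autoImplicit false

/-! Isotropic frames in the standard unitary space and the action of `GU`. -/

namespace Cfsg.Agent.Lib.helper6.HF

open Cfsg.Agent.Lib.Lead Cfsg.Agent.Lib.Lead.HI Matrix

section form
variable {F : Type*} [Field F] {q n : ℕ}

local notation "H" => Cfsg.hermForm n F q

/-- the Hermitian form as a sesquilinear map: `hB σ u v = H v u` -/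
noncomputable def hB (n : ℕ) (σ : F →+* F) : (Fin n → F) →ₛₗ[σ] (Fin n → F) →ₗ[F] F :=
  LinearMap.mk₂'ₛₗ σ (RingHom.id F) (fun u v => ∑ i, v i * σ (u i))
    (by intro a b c; simp only [Pi.add_apply, map_add, mul_add, Finset.sum_add_distrib])
    (by
      intro c a b
      simp only [Pi.smul_apply, smul_eq_mul, map_mul, Finset.mul_sum]
      exact Finset.sum_congr rfl (fun i _ => by ring))
    (by intro a b c; simp only [Pi.add_apply, add_mul, Finset.sum_add_distrib])
    (by
      intro c a b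
      simp only [Pi.smul_apply, smul_eq_mul, RingHom.id_apply, Finset.mul_sum]
      exact Finset.sum_congr rfl (fun i _ => by ring))

theorem hB_apply (σ : F →+* F) (hσ : ∀ x, σ x = x ^ q) (u v : Fin n → F) :
    hB n σ u v = H v u := by
  simp only [hB, LinearMap.mk₂'ₛₗ_apply, Cfsg.hermForm, hσ]

theorem hB_symm (σ : F →+* F) (hσ : ∀ x, σ x = x ^ q) (hσσ : ∀ x, σ (σ x) = x) :
    (hB n σ).IsSymm := by
  constructor
  intro x y
  rw [hB_apply σ hσ, hB_apply σ hσ, ← herm_symm σ hσ hσσ]

theorem herm_single_right (σ : F →+* F) (hσ : ∀ x, σ x = x ^ q) (u : Fin n → F) (j : Fin n) :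
    H u (Pi.single j 1) = u j := by
  classical
  simp only [Cfsg.hermForm]
  rw [Finset.sum_eq_single j]
  · rw [Pi.single_eq_same, one_pow, mul_one]
  · intro i _ hij
    rw [Pi.single_eq_of_ne hij, ← hσ, map_zero, mul_zero]
  · intro h; exact absurd (Finset.mem_univ j) h

theorem hB_nondeg (σ : F →+* F) (hσ : ∀ x, σ x = x ^ q) (hσσ : ∀ x, σ (σ x) = x) :
    (hB n σ).Nondegenerate := by
  constructor
  · intro x hx
    funext j
    have := hx (Pi.single j 1)
    rw [hB_apply σ hσ, herm_symm σ hσ hσσ, herm_single_right σ hσ] at this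
    have h2 : σ (σ (x j)) = σ 0 := by rw [this, map_zero]
    rw [hσσ, map_zero] at h2
    exact h2
  · intro y hy
    funext j
    have := hy (Pi.single j 1)
    rw [hB_apply σ hσ, herm_single_right σ hσ] at this
    exact this

end form

section witt
variable {F : Type*} [Field F] [Fintype F] {q n : ℕ}

local notation "H" => Cfsg.hermForm n F q

theorem frob_ne_id (hF : Fintype.card F = q ^ 2) (σ : F →+* F) (hσ : ∀ x, σ x = x ^ q) :
    σ ≠ RingHom.id F := by
  intro h
  obtain ⟨δ, hδ⟩ := exists_not_fixed hF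
  apply hδ
  rw [← hσ, h, RingHom.id_apply]

/-- a linear isometry is given by an element of `GU` -/
theorem exists_gu_of_linearEquiv (d : (Fin n → F) ≃ₗ[F] (Fin n → F))
    (hd : ∀ x y, H (d x) (d y) = H x y) :
    ∃ D : Matrix.GeneralLinearGroup (Fin n) F, D ∈ Cfsg.GU n F q ∧ ∀ x,
      (D : Matrix (Fin n) (Fin n) F) *ᵥ x = d x := by
  let M : Matrix (Fin n) (Fin n) F :=
    LinearMap.toMatrix' (d : (Fin n → F) →ₗ[F] (Fin n → F))
  let M' : Matrix (Fin n) (Fin n) F :=
    LinearMap.toMatrix' (d.symm : (Fin n → F) →ₗ[F] (Fin n → F))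
  have hMv : ∀ v, M *ᵥ v = d v := fun v => by
    show (LinearMap.toMatrix' _) *ᵥ v = _
    rw [LinearMap.toMatrix'_mulVec]; rfl
  have h1 : M * M' = 1 := by
    show LinearMap.toMatrix' _ * LinearMap.toMatrix' _ = 1
    rw [← LinearMap.toMatrix'_comp, LinearEquiv.comp_coe, LinearEquiv.symm_trans_self,
      LinearEquiv.refl_toLinearMap, LinearMap.toMatrix'_id]
  have h2 : M' * M = 1 := by
    show LinearMap.toMatrix' _ * LinearMap.toMatrix' _ = 1
    rw [← LinearMap.toMatrix'_comp, LinearEquiv.comp_coe, LinearEquiv.self_trans_symm,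
      LinearEquiv.refl_toLinearMap, LinearMap.toMatrix'_id]
  refine ⟨⟨M, M', h1, h2⟩, ?_, hMv⟩
  intro u v
  show H (M *ᵥ u) (M *ᵥ v) = H u v
  rw [hMv, hMv, hd]

/-- the form vanishes on the span of an isotropic family -/
theorem iso_span (σ : F →+* F) (hσ : ∀ x, σ x = x ^ q) {k : ℕ} (f : Fin k → (Fin n → F))
    (hf : ∀ i j, H (f i) (f j) = 0) :
    ∀ x ∈ Submodule.span F (Set.range f), ∀ y ∈ Submodule.span F (Set.range f), H x y = 0 := by
  have hq : q ≠ 0 := by
    rintro rfl
    have := hσ 0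
    simp at this
  intro x hx y hy
  induction hx using Submodule.span_induction with
  | mem x hx =>
    obtain ⟨i, rfl⟩ := hx
    induction hy using Submodule.span_induction with
    | mem y hy =>
      obtain ⟨j, rfl⟩ := hy
      exact hf i j
    | zero => exact herm_zero_right _ (Nat.pos_of_ne_zero hq)
    | add a b _ _ ha hb => rw [herm_add_right σ hσ, ha, hb, add_zero]
    | smul c a _ ha => rw [herm_smul_right, ha, mul_zero]
  | zero => simp [Cfsg.hermForm]
  | add a b _ _ ha hb => rw [herm_add_left, ha, hb, add_zero]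
  | smul c a _ ha => rw [herm_smul_left, ha, mul_zero]

/-- Witt: `GU` is transitive on isotropic frames -/
theorem witt_tuple (hF : Fintype.card F = q ^ 2) {k : ℕ} (f f' : Fin k → (Fin n → F))
    (hli : LinearIndependent F f) (hli' : LinearIndependent F f')
    (hf : ∀ i j, H (f i) (f j) = 0) (hf' : ∀ i j, H (f' i) (f' j) = 0) :
    ∃ g : Matrix.GeneralLinearGroup (Fin n) F, g ∈ Cfsg.GU n F q ∧ ∀ i,
      (g : Matrix (Fin n) (Fin n) F) *ᵥ f i = f' i := by
  obtain ⟨σ, hσ⟩ := exists_frob hF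
  have hσσ := frob_frob hF σ hσ
  let bX := Module.Basis.span hli
  let bY := Module.Basis.span hli'
  let φ := bX.equiv bY (Equiv.refl _)
  have hφ : ∀ x x' : Submodule.span F (Set.range f),
      hB n σ (φ x : Fin n → F) (φ x' : Fin n → F) =
        hB n σ (x : Fin n → F) (x' : Fin n → F) := by
    intro x x'
    rw [hB_apply σ hσ, hB_apply σ hσ, iso_span σ hσ f hf _ x'.2 _ x.2,
      iso_span σ hσ f' hf' _ (φ x').2 _ (φ x).2]
  obtain ⟨d, hd, hdX⟩ := Cfsg.Agent.S0751.result σ (frob_ne_id hF σ hσ) hσσ (hB n σ)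
    (hB_symm σ hσ hσσ) (hB_nondeg σ hσ hσσ) _ _ φ hφ
  obtain ⟨D, hDU, hD⟩ := exists_gu_of_linearEquiv (q := q) d (fun x y => by
    have := hd y x
    rwa [hB_apply σ hσ, hB_apply σ hσ] at this)
  refine ⟨D, hDU, fun i => ?_⟩
  rw [hD]
  have h1 := hdX (bX i)
  have h2 : ((bX i : Submodule.span F (Set.range f)) : Fin n → F) = f i := by
    rw [Module.Basis.span_apply]
  rw [h2] at h1
  rw [h1, Module.Basis.equiv_apply, Equiv.refl_apply, Module.Basis.span_apply]

end witt


section act
variable {F : Type*} [Field F] {q n : ℕ}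

local notation "H" => Cfsg.hermForm n F q

/-- the action of the general linear group on tuples of vectors -/
instance tupAct (k : ℕ) :
    MulAction (Matrix.GeneralLinearGroup (Fin n) F) (Fin k → (Fin n → F)) where
  smul g f := fun i => (g : Matrix (Fin n) (Fin n) F) *ᵥ f i
  one_smul f := by
    funext i
    show ((1 : Matrix.GeneralLinearGroup (Fin n) F) : Matrix (Fin n) (Fin n) F) *ᵥ f i = f i
    rw [Units.val_one, Matrix.one_mulVec]
  mul_smul g h f := by
    funext i
    show ((g * h : Matrix.GeneralLinearGroup (Fin n) F) : Matrix (Fin n) (Fin n) F) *ᵥ f i =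
      (g : Matrix (Fin n) (Fin n) F) *ᵥ ((h : Matrix (Fin n) (Fin n) F) *ᵥ f i)
    rw [Matrix.mulVec_mulVec, Units.val_mul]

theorem tup_smul_apply {k : ℕ} (g : Matrix.GeneralLinearGroup (Fin n) F)
    (f : Fin k → (Fin n → F)) (i : Fin k) :
    (g • f) i = (g : Matrix (Fin n) (Fin n) F) *ᵥ f i := rfl

theorem gl_inv_mulVec (g : Matrix.GeneralLinearGroup (Fin n) F) (v : Fin n → F) :
    ((g⁻¹ : Matrix.GeneralLinearGroup (Fin n) F) : Matrix (Fin n) (Fin n) F) *ᵥ
      ((g : Matrix (Fin n) (Fin n) F) *ᵥ v) = v := by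
  rw [Matrix.mulVec_mulVec, ← Units.val_mul, inv_mul_cancel, Units.val_one, Matrix.one_mulVec]

theorem gl_mulVec_inv (g : Matrix.GeneralLinearGroup (Fin n) F) (v : Fin n → F) :
    (g : Matrix (Fin n) (Fin n) F) *ᵥ
      (((g⁻¹ : Matrix.GeneralLinearGroup (Fin n) F) : Matrix (Fin n) (Fin n) F) *ᵥ v) = v := by
  rw [Matrix.mulVec_mulVec, ← Units.val_mul, mul_inv_cancel, Units.val_one, Matrix.one_mulVec]

theorem gl_mulVec_injective (g : Matrix.GeneralLinearGroup (Fin n) F) :
    Function.Injective (fun v => (g : Matrix (Fin n) (Fin n) F) *ᵥ v) := by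
  intro v w h
  have := congrArg (fun x => ((g⁻¹ : Matrix.GeneralLinearGroup (Fin n) F) :
    Matrix (Fin n) (Fin n) F) *ᵥ x) h
  simpa only [gl_inv_mulVec] using this

theorem li_smul {k : ℕ} (g : Matrix.GeneralLinearGroup (Fin n) F) (f : Fin k → (Fin n → F))
    (hli : LinearIndependent F f) : LinearIndependent F (g • f) := by
  have : (g • f) = (Matrix.mulVecLin (g : Matrix (Fin n) (Fin n) F)) ∘ f := by
    funext i
    rfl
  rw [this]
  apply hli.map'
  rw [LinearMap.ker_eq_bot]
  exact gl_mulVec_injective g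

theorem maps_span {k : ℕ} (g : Matrix.GeneralLinearGroup (Fin n) F)
    (f f' : Fin k → (Fin n → F))
    (h : ∀ i, (g : Matrix (Fin n) (Fin n) F) *ᵥ f i = f' i) :
    ∀ v ∈ Submodule.span F (Set.range f),
      (g : Matrix (Fin n) (Fin n) F) *ᵥ v ∈ Submodule.span F (Set.range f') := by
  intro v hv
  induction hv using Submodule.span_induction with
  | mem x hx =>
    obtain ⟨i, rfl⟩ := hx
    rw [h]
    exact Submodule.subset_span ⟨i, rfl⟩
  | zero => rw [Matrix.mulVec_zero]; exact Submodule.zero_mem _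
  | add a b _ _ ha hb => rw [Matrix.mulVec_add]; exact Submodule.add_mem _ ha hb
  | smul c a _ ha => rw [Matrix.mulVec_smul]; exact Submodule.smul_mem _ c ha

/-- isotropic frames -/
def IsoFr (n : ℕ) (F : Type*) [Field F] (q k : ℕ) : Set (Fin k → (Fin n → F)) :=
  {f | LinearIndependent F f ∧ ∀ i j, Cfsg.hermForm n F q (f i) (f j) = 0}

/-- the stabiliser of a subspace in the general unitary group -/
def PGU (n : ℕ) (F : Type*) [Field F] (q : ℕ) (W : Submodule F (Fin n → F)) :
    Subgroup (Matrix.GeneralLinearGroup (Fin n) F) :=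
  Cfsg.GU n F q ⊓ Cfsg.stabilizing (Units.coeHom (Matrix (Fin n) (Fin n) F)) (W : Set (Fin n → F))

theorem mem_PGU (W : Submodule F (Fin n → F)) (g : Matrix.GeneralLinearGroup (Fin n) F) :
    g ∈ PGU n F q W ↔ g ∈ Cfsg.GU n F q ∧
      ∀ v, v ∈ W ↔ (g : Matrix (Fin n) (Fin n) F) *ᵥ v ∈ W := Iff.rfl

theorem mem_GU (g : Matrix.GeneralLinearGroup (Fin n) F) :
    g ∈ Cfsg.GU n F q ↔ ∀ u v, H ((g : Matrix (Fin n) (Fin n) F) *ᵥ u)
      ((g : Matrix (Fin n) (Fin n) F) *ᵥ v) = H u v := Iff.rfl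

theorem orbit_stab_card {G X : Type*} [Group G] [MulAction G X] (x : X) :
    Nat.card G = Nat.card (MulAction.stabilizer G x) * (MulAction.orbit G x).ncard := by
  rw [← MulAction.index_stabilizer, Subgroup.card_mul_index]

end act

section orbits
variable {F : Type*} [Field F] [Fintype F] {q n : ℕ}

local notation "H" => Cfsg.hermForm n F q

theorem orbit_eq_IsoFr (hF : Fintype.card F = q ^ 2) {k : ℕ} (f₀ : Fin k → (Fin n → F))
    (hf₀ : f₀ ∈ IsoFr n F q k) :
    MulAction.orbit (Cfsg.GU n F q) f₀ = IsoFr n F q k := by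
  ext f
  constructor
  · rintro ⟨g, rfl⟩
    refine ⟨li_smul g.1 f₀ hf₀.1, fun i j => ?_⟩
    show H ((g.1 : Matrix (Fin n) (Fin n) F) *ᵥ f₀ i) ((g.1 : Matrix (Fin n) (Fin n) F) *ᵥ f₀ j) = 0
    rw [(mem_GU g.1).mp g.2, hf₀.2]
  · intro hf
    obtain ⟨g, hgU, hg⟩ := witt_tuple hF f₀ f hf₀.1 hf.1 hf₀.2 hf.2
    exact ⟨⟨g, hgU⟩, funext hg⟩

theorem stab_le_P {k : ℕ} (W : Submodule F (Fin n → F)) (f₀ : Fin k → (Fin n → F))
    (hspan : Submodule.span F (Set.range f₀) = W) (g : Matrix.GeneralLinearGroup (Fin n) F)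
    (hgU : g ∈ Cfsg.GU n F q) (hg : g • f₀ = f₀) : g ∈ PGU n F q W := by
  have hfix : ∀ v ∈ W, (g : Matrix (Fin n) (Fin n) F) *ᵥ v = v := by
    intro v hv
    rw [← hspan] at hv
    induction hv using Submodule.span_induction with
    | mem x hx =>
      obtain ⟨i, rfl⟩ := hx
      exact congrFun hg i
    | zero => rw [Matrix.mulVec_zero]
    | add a b _ _ ha hb => rw [Matrix.mulVec_add, ha, hb]
    | smul c a _ ha => rw [Matrix.mulVec_smul, ha]
  rw [mem_PGU]
  refine ⟨hgU, fun v => ?_⟩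
  constructor
  · intro hv
    rw [hfix v hv]; exact hv
  · intro hv
    have h1 := hfix _ hv
    have h2 : (g : Matrix (Fin n) (Fin n) F) *ᵥ v = v := gl_mulVec_injective g h1
    rw [← h2]; exact hv

theorem orbit_P (hF : Fintype.card F = q ^ 2) {k : ℕ} (W : Submodule F (Fin n → F))
    (hW : ∀ u ∈ W, ∀ v ∈ W, H u v = 0)
    (f₀ : Fin k → (Fin n → F)) (hli : LinearIndependent F f₀)
    (hspan : Submodule.span F (Set.range f₀) = W) :
    MulAction.orbit (PGU n F q W) f₀ =
      {f | LinearIndependent F f ∧ Submodule.span F (Set.range f) = W} := by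
  ext f
  constructor
  · rintro ⟨⟨g, hg⟩, rfl⟩
    refine ⟨li_smul g f₀ hli, ?_⟩
    show Submodule.span F (Set.range (g • f₀)) = W
    rw [mem_PGU] at hg
    obtain ⟨-, hg⟩ := hg
    apply le_antisymm
    · rw [Submodule.span_le]
      rintro _ ⟨i, rfl⟩
      rw [tup_smul_apply]
      apply (hg _).mp
      rw [← hspan]
      exact Submodule.subset_span ⟨i, rfl⟩
    · intro w hw
      have h1 : ((g⁻¹ : Matrix.GeneralLinearGroup (Fin n) F) :
          Matrix (Fin n) (Fin n) F) *ᵥ w ∈ W := by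
        apply (hg _).mpr
        rw [gl_mulVec_inv]; exact hw
      rw [← hspan] at h1
      have h2 := maps_span g f₀ (g • f₀) (fun i => rfl) _ h1
      rwa [gl_mulVec_inv] at h2
  · rintro ⟨hfli, hfspan⟩
    have hiso : ∀ (f : Fin k → (Fin n → F)), Submodule.span F (Set.range f) = W →
        ∀ i j, H (f i) (f j) = 0 := by
      intro f hf i j
      apply hW
      · rw [← hf]; exact Submodule.subset_span ⟨i, rfl⟩
      · rw [← hf]; exact Submodule.subset_span ⟨j, rfl⟩
    obtain ⟨g, hgU, hg⟩ := witt_tuple hF f₀ f hli hfli (hiso f₀ hspan) (hiso f hfspan)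
    have hgP : g ∈ PGU n F q W := by
      rw [mem_PGU]
      refine ⟨hgU, fun v => ?_⟩
      constructor
      · intro hv
        rw [← hspan] at hv
        have := maps_span g f₀ f hg v hv
        rwa [hfspan] at this
      · intro hv
        rw [← hfspan] at hv
        have h1 : ∀ i, ((g⁻¹ : Matrix.GeneralLinearGroup (Fin n) F) :
            Matrix (Fin n) (Fin n) F) *ᵥ f i = f₀ i := by
          intro i
          rw [← hg i, gl_inv_mulVec]
        have := maps_span g⁻¹ f f₀ h1 _ hv
        rwa [gl_inv_mulVec, hspan] at this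
    exact ⟨⟨g, hgP⟩, funext hg⟩

theorem card_frames {k : ℕ} (W : Submodule F (Fin n → F))
    (hWk : Module.finrank F W = k) :
    ({f : Fin k → (Fin n → F) | LinearIndependent F f ∧
        Submodule.span F (Set.range f) = W}).ncard =
      ∏ i : Fin k, (Fintype.card F ^ k - Fintype.card F ^ (i : ℕ)) := by
  have h1 := card_linearIndependent (K := F) (V := W) (k := k) (by rw [hWk])
  rw [hWk] at h1
  rw [← h1, ← Nat.card_coe_set_eq]
  apply Nat.card_congr
  refine
    { toFun := fun f => ⟨fun i => ⟨f.1 i, by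
          have h0 : Submodule.span F (Set.range f.1) ≤ W := le_of_eq f.2.2
          exact h0 (Submodule.subset_span ⟨i, rfl⟩)⟩, ?_⟩
      invFun := fun s => ⟨fun i => (s.1 i : Fin n → F), ?_, ?_⟩
      left_inv := fun f => rfl
      right_inv := fun s => rfl }
  · apply LinearIndependent.of_comp W.subtype
    exact f.2.1
  · exact s.2.map' W.subtype (Submodule.ker_subtype W)
  · have h2 : Submodule.span F (Set.range s.1) = ⊤ := by
      apply LinearIndependent.span_eq_top_of_card_eq_finrank' s.2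
      rw [Fintype.card_fin, hWk]
    have h3 : Set.range (fun i => (s.1 i : Fin n → F)) = W.subtype '' Set.range s.1 := by
      rw [← Set.range_comp]; rfl
    rw [h3, Submodule.span_image, h2, Submodule.map_subtype_top]

/-- `|P| = |GL_k| * |Stab(f₀)|` and `|GU| = |IsoFr| * |Stab(f₀)|` -/
theorem card_PGU_mul (hF : Fintype.card F = q ^ 2) {k : ℕ} (W : Submodule F (Fin n → F))
    (hWk : Module.finrank F W = k) (hW : ∀ u ∈ W, ∀ v ∈ W, H u v = 0) :
    Nat.card (PGU n F q W) * (IsoFr n F q k).ncard =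
      Nat.card (Cfsg.GU n F q) * ∏ i : Fin k, ((q ^ 2) ^ k - (q ^ 2) ^ (i : ℕ)) := by
  classical
  let b := Module.finBasisOfFinrankEq F W hWk
  let f₀ : Fin k → (Fin n → F) := fun i => (b i : Fin n → F)
  have hli : LinearIndependent F f₀ := b.linearIndependent.map' W.subtype (Submodule.ker_subtype W)
  have hspan : Submodule.span F (Set.range f₀) = W := by
    have h3 : Set.range f₀ = W.subtype '' Set.range b := by
      rw [← Set.range_comp]; rfl
    rw [h3, Submodule.span_image, b.span_eq, Submodule.map_subtype_top]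
  have hiso : f₀ ∈ IsoFr n F q k := ⟨hli, fun i j => hW _ (b i).2 _ (b j).2⟩
  have h1 := orbit_stab_card (G := Cfsg.GU n F q) f₀
  rw [orbit_eq_IsoFr hF f₀ hiso] at h1
  have h2 := orbit_stab_card (G := PGU n F q W) f₀
  rw [orbit_P hF W hW f₀ hli hspan, card_frames W hWk, hF] at h2
  have h3 : Nat.card (MulAction.stabilizer (PGU n F q W) f₀) =
      Nat.card (MulAction.stabilizer (Cfsg.GU n F q) f₀) := by
    apply Nat.card_congr
    exact
      { toFun := fun g => ⟨⟨g.1.1, g.1.2.1⟩, g.2⟩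
        invFun := fun g => ⟨⟨g.1.1, stab_le_P W f₀ hspan g.1.1 g.1.2 g.2⟩, g.2⟩
        left_inv := fun g => rfl
        right_inv := fun g => rfl }
  rw [h3] at h2
  rw [h1, h2]
  ring

end orbits

end Cfsg.Agent.Lib.helper6.HF
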