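import Mathlib
import Cfsg.Agent.Lib.helper6.HermFrames
import Cfsg.Agent.S0755

set_option autoImplicit false

/-! Witt's theorem for frames with equal Gram matrices, orthonormal bases of non-degenerate
subspaces of the standard unitary space. -/

namespace Cfsg.Agent.Lib.helper6.HF

open Cfsg.Agent.Lib.Lead Cfsg.Agent.Lib.Lead.HI Matrix

section gram
variable {F : Type*} [Field F] [Fintype F] {q n : ℕ}

local notation "H" => Cfsg.hermForm n F q

/-- Witt: `GU` maps a frame to any frame with the same Gram matrix -/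
theorem witt_tuple_gram (hF : Fintype.card F = q ^ 2) {k : ℕ} (f f' : Fin k → (Fin n → F))
    (hli : LinearIndependent F f) (hli' : LinearIndependent F f')
    (hgram : ∀ i j, H (f i) (f j) = H (f' i) (f' j)) :
    ∃ g : Matrix.GeneralLinearGroup (Fin n) F, g ∈ Cfsg.GU n F q ∧ ∀ i,
      (g : Matrix (Fin n) (Fin n) F) *ᵥ f i = f' i := by
  obtain ⟨σ, hσ⟩ := exists_frob hF
  have hσσ := frob_frob hF σ hσ
  let bX := Module.Basis.span hli
  let bY := Module.Basis.span hli'
  let φ := bX.equiv bY (Equiv.refl _)
  have hcoe : ∀ x : Submodule.span F (Set.range f),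
      (x : Fin n → F) = ∑ i, bX.repr x i • f i := by
    intro x
    conv_lhs => rw [← bX.sum_repr x]
    rw [Submodule.coe_sum]
    refine Finset.sum_congr rfl (fun i _ => ?_)
    rw [Submodule.coe_smul, Module.Basis.span_apply]
  have hcoe' : ∀ x : Submodule.span F (Set.range f),
      (φ x : Fin n → F) = ∑ i, bX.repr x i • f' i := by
    intro x
    have h1 : φ x = ∑ i, bX.repr x i • bY i := by
      conv_lhs => rw [← bX.sum_repr x]
      rw [map_sum]
      refine Finset.sum_congr rfl (fun i _ => ?_)
      rw [map_smul, Module.Basis.equiv_apply, Equiv.refl_apply]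
    rw [h1, Submodule.coe_sum]
    refine Finset.sum_congr rfl (fun i _ => ?_)
    rw [Submodule.coe_smul, Module.Basis.span_apply]
  have hφ : ∀ x x' : Submodule.span F (Set.range f),
      hB n σ (φ x : Fin n → F) (φ x' : Fin n → F) =
        hB n σ (x : Fin n → F) (x' : Fin n → F) := by
    intro x x'
    rw [hcoe x, hcoe x', hcoe' x, hcoe' x']
    simp only [map_sum, LinearMap.sum_apply, LinearMap.map_smulₛₗ, LinearMap.smul_apply,
      map_smul, hB_apply σ hσ, hgram]
  obtain ⟨d, hd, hdX⟩ := Cfsg.Agent.S0751.result σ (frob_ne_id hF σ hσ) hσσ (hB n σ)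
    (hB_symm σ hσ hσσ) (hB_nondeg σ hσ hσσ) _ _ φ hφ
  obtain ⟨D, hDU, hD⟩ := exists_gu_of_linearEquiv (q := q) d (fun x y => by
    have := hd y x
    rwa [hB_apply σ hσ, hB_apply σ hσ] at this)
  refine ⟨D, hDU, fun i => ?_⟩
  rw [hD]
  have h1 := hdX (bX i)
  have h2 : ((bX i : Submodule.span F (Set.range f)) : Fin n → F) = f i := by
    rw [Module.Basis.span_apply]
  rw [h2] at h1
  rw [h1, Module.Basis.equiv_apply, Equiv.refl_apply, Module.Basis.span_apply]

/-- an orthonormal basis of a non-degenerate subspace -/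
theorem exists_orthonormal (hF : Fintype.card F = q ^ 2) (W : Submodule F (Fin n → F))
    (hW : ∀ u ∈ W, (∀ v ∈ W, H u v = 0) → u = 0) :
    ∃ b : Fin (Module.finrank F W) → (Fin n → F), LinearIndependent F b ∧
      Submodule.span F (Set.range b) = W ∧ ∀ i j, H (b i) (b j) = if i = j then 1 else 0 := by
  obtain ⟨σ, hσ⟩ := exists_frob hF
  have hσσ := frob_frob hF σ hσ
  let BW : W →ₛₗ[σ] W →ₗ[F] F := (hB n σ).domRestrict₁₂ W W
  have hBW : ∀ x y : W, BW x y = H (y : Fin n → F) (x : Fin n → F) := by
    intro x y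
    rw [LinearMap.domRestrict₁₂_apply, hB_apply σ hσ]
  have hS : BW.IsSymm := by
    constructor
    intro x y
    rw [hBW, hBW, ← herm_symm σ hσ hσσ]
  have hND : BW.Nondegenerate := by
    constructor
    · intro x hx
      apply Subtype.ext
      apply hW x.1 x.2
      intro v hv
      have := hx ⟨v, hv⟩
      rw [hBW] at this
      rw [herm_symm σ hσ hσσ, this, map_zero]
    · intro y hy
      apply Subtype.ext
      apply hW y.1 y.2
      intro v hv
      have := hy ⟨v, hv⟩
      rw [hBW] at this
      exact this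
  obtain ⟨b, hb⟩ := Cfsg.Agent.S0755.result σ (frob_ne_id hF σ hσ) hσσ BW hS hND
  refine ⟨fun i => (b i : Fin n → F), ?_, ?_, ?_⟩
  · exact b.linearIndependent.map' W.subtype (Submodule.ker_subtype W)
  · have h3 : Set.range (fun i => (b i : Fin n → F)) = W.subtype '' Set.range b := by
      rw [← Set.range_comp]; rfl
    rw [h3, Submodule.span_image, b.span_eq, Submodule.map_subtype_top]
  · intro i j
    have := hb j i
    rw [hBW] at this
    rw [this]
    simp only [eq_comm]

end gram

end Cfsg.Agent.Lib.helper6.HF
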