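import Mathlib
import Cfsg.Agent.Lib.helper6.HermFrames

set_option autoImplicit false

/-! Counting isotropic frames in the standard unitary space. -/

namespace Cfsg.Agent.Lib.helper6.HF

open Cfsg.Agent.Lib.Lead Cfsg.Agent.Lib.Lead.HI Matrix Finset

section lin
variable {F : Type*} [Field F] {q n : ℕ}

local notation "H" => Cfsg.hermForm n F q

/-- the linear map `w ↦ (H w (s i))_i` -/
noncomputable def Lmap (σ : F →+* F) {k : ℕ} (s : Fin k → (Fin n → F)) :
    (Fin n → F) →ₗ[F] (Fin k → F) :=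
  LinearMap.pi (fun i => hB n σ (s i))

theorem Lmap_apply (σ : F →+* F) (hσ : ∀ x, σ x = x ^ q) {k : ℕ} (s : Fin k → (Fin n → F))
    (w : Fin n → F) (i : Fin k) : Lmap σ s w i = H w (s i) := by
  simp only [Lmap, LinearMap.pi_apply, hB_apply σ hσ]

theorem Lmap_surj (σ : F →+* F) (hσ : ∀ x, σ x = x ^ q) (hσσ : ∀ x, σ (σ x) = x) {k : ℕ}
    (s : Fin k → (Fin n → F)) (hli : LinearIndependent F s) :
    Function.Surjective (Lmap σ s) := by
  classical
  rw [← LinearMap.range_eq_top]
  by_contra hne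
  obtain ⟨φ, hφ0, hφ⟩ := Submodule.exists_le_ker_of_lt_top _ (lt_top_iff_ne_top.mpr hne)
  apply hφ0
  have hvan : ∀ w, φ (Lmap σ s w) = 0 := fun w => hφ (LinearMap.mem_range_self _ w)
  -- coefficients
  have hsum : ∀ x : Fin k → F, φ x = ∑ j, x j * φ (Pi.single j 1) := by
    intro x
    conv_lhs => rw [LinearMap.pi_apply_eq_sum_univ φ x]
    refine Finset.sum_congr rfl (fun j _ => ?_)
    rw [smul_eq_mul]
    congr 2
    funext i
    rw [Pi.single_apply]
    simp only [eq_comm]
  have hu : ∑ j, σ (φ (Pi.single j 1)) • s j = 0 := by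
    apply (hB_nondeg σ hσ hσσ).1
    intro w
    rw [map_sum, LinearMap.sum_apply]
    have := hvan w
    rw [hsum] at this
    rw [← this]
    refine Finset.sum_congr rfl (fun j _ => ?_)
    rw [LinearMap.map_smulₛₗ, LinearMap.smul_apply, hσσ, smul_eq_mul, Lmap, LinearMap.pi_apply,
      mul_comm]
  have hcoef := Fintype.linearIndependent_iff.mp hli _ hu
  apply LinearMap.ext
  intro x
  rw [hsum, LinearMap.zero_apply]
  apply Finset.sum_eq_zero
  intro j _
  have h1 := hcoef j
  have h2 : σ (σ (φ (Pi.single j 1))) = σ 0 := by rw [h1]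
  rw [hσσ, map_zero] at h2
  rw [h2, mul_zero]

end lin

section count
variable {F : Type*} [Field F] [Fintype F] [DecidableEq F] {q n : ℕ}

local notation "H" => Cfsg.hermForm n F q

/-- fibres of `Lmap` -/
theorem card_fiber (hF : Fintype.card F = q ^ 2) {k : ℕ} (s : Fin k → (Fin n → F))
    (hli : LinearIndependent F s) (c : Fin k → F) :
    (univ.filter (fun w : Fin n → F => ∀ i, H w (s i) = c i)).card * q ^ (2 * k) =
      q ^ (2 * n) := by
  obtain ⟨σ, hσ⟩ := exists_frob hF
  have hσσ := frob_frob hF σ hσ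
  have h := card_fiber_mul_card (Lmap σ s).toAddMonoidHom (Lmap_surj σ hσ hσσ s hli) c
  rw [Fintype.card_fun, Fintype.card_fun, Fintype.card_fin, Fintype.card_fin, hF, ← pow_mul,
    ← pow_mul] at h
  rw [← h]
  congr 2
  ext w
  simp only [Finset.mem_filter, Finset.mem_univ, true_and]
  rw [funext_iff]
  refine forall_congr' (fun i => ?_)
  show _ ↔ Lmap σ s w i = c i
  rw [Lmap_apply σ hσ]


omit [DecidableEq F] in
theorem shift_props (hF : Fintype.card F = q ^ 2) {k : ℕ} (s : Fin k → (Fin n → F))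
    (u w : Fin n → F) (huu : H u u = 0) (hus : ∀ i, H u (s i) = 0)
    (hw : ∀ i, H w (s i) = 0) (hwu : H w u = 1) (c : F) :
    (∀ i, H (w + c • u) (s i) = 0) ∧ H (w + c • u) u = 1 ∧
      H (w + c • u) (w + c • u) = H w w + (c + c ^ q) := by
  obtain ⟨σ, hσ⟩ := exists_frob hF
  have hσσ := frob_frob hF σ hσ
  have huw : H u w = 1 := by
    rw [herm_symm σ hσ hσσ, hwu, map_one]
  refine ⟨fun i => ?_, ?_, ?_⟩
  · rw [herm_add_left, herm_smul_left, hw, hus, mul_zero, add_zero]
  · rw [herm_add_left, herm_smul_left, hwu, huu, mul_zero, add_zero]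
  · rw [herm_add_right σ hσ, herm_add_left, herm_add_left, herm_smul_right, herm_smul_right,
      herm_smul_left, herm_smul_left, huu, huw, hwu]
    ring

/-- isotropic vectors at value one: `M * q = |A|`. -/
theorem card_M1_mul (hF : Fintype.card F = q ^ 2) {k : ℕ} (s : Fin k → (Fin n → F))
    (u : Fin n → F) (huu : H u u = 0) (hus : ∀ i, H u (s i) = 0) :
    (univ.filter (fun w : Fin n → F => (∀ i, H w (s i) = 0) ∧ H w u = 1 ∧ H w w = 0)).card * q =
      (univ.filter (fun w : Fin n → F => (∀ i, H w (s i) = 0) ∧ H w u = 1)).card := by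
  obtain ⟨σ, hσ⟩ := exists_frob hF
  have hmaps : ∀ w ∈ univ.filter (fun w : Fin n → F => (∀ i, H w (s i) = 0) ∧ H w u = 1),
      H w w ∈ univ.filter (fun t : F => t ^ q = t) := by
    intro w _
    simp only [Finset.mem_filter, Finset.mem_univ, true_and]
    exact herm_self_fixed hF n w
  rw [Finset.card_eq_sum_card_fiberwise hmaps]
  have hfib : ∀ t ∈ univ.filter (fun t : F => t ^ q = t),
      ((univ.filter (fun w : Fin n → F => (∀ i, H w (s i) = 0) ∧ H w u = 1)).filter
        (fun w => H w w = t)).card =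
      (univ.filter (fun w : Fin n → F => (∀ i, H w (s i) = 0) ∧ H w u = 1 ∧ H w w = 0)).card := by
    intro t ht
    simp only [Finset.mem_filter, Finset.mem_univ, true_and] at ht
    obtain ⟨c, hc⟩ := trace_surj hF t ht
    symm
    refine Finset.card_nbij' (fun w => w + c • u) (fun w => w + (-c) • u) ?_ ?_ ?_ ?_
    · intro w hw
      have hw' := (Finset.mem_filter.mp (Finset.mem_coe.mp hw)).2
      have := shift_props hF s u w huu hus hw'.1 hw'.2.1 c
      refine Finset.mem_coe.mpr (Finset.mem_filter.mpr ⟨?_, ?_⟩)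
      · exact Finset.mem_filter.mpr ⟨Finset.mem_univ _, this.1, this.2.1⟩
      · rw [this.2.2, hw'.2.2, zero_add, hc]
    · intro w hw
      have hw' := Finset.mem_filter.mp (Finset.mem_coe.mp hw)
      have hw1 := (Finset.mem_filter.mp hw'.1).2
      have := shift_props hF s u w huu hus hw1.1 hw1.2 (-c)
      refine Finset.mem_coe.mpr (Finset.mem_filter.mpr ⟨Finset.mem_univ _, this.1, this.2.1, ?_⟩)
      rw [this.2.2, hw'.2, ← hσ, map_neg, hσ, ← hc]
      ring
    · intro w _
      simp only [neg_smul]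
      abel
    · intro w _
      simp only [neg_smul]
      abel
  rw [Finset.sum_congr rfl hfib, Finset.sum_const, smul_eq_mul, card_fixed hF, mul_comm]

/-- scaling the value -/
theorem card_scale (hF : Fintype.card F = q ^ 2) {k : ℕ} (s : Fin k → (Fin n → F))
    (u : Fin n → F) (t : F) (ht : t ≠ 0) :
    (univ.filter (fun w : Fin n → F => (∀ i, H w (s i) = 0) ∧ H w u = t ∧ H w w = 0)).card =
    (univ.filter (fun w : Fin n → F => (∀ i, H w (s i) = 0) ∧ H w u = 1 ∧ H w w = 0)).card := by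
  symm
  refine Finset.card_nbij' (fun w => t • w) (fun w => t⁻¹ • w) ?_ ?_ ?_ ?_
  · intro w hw
    have hw' := (Finset.mem_filter.mp (Finset.mem_coe.mp hw)).2
    refine Finset.mem_coe.mpr (Finset.mem_filter.mpr ⟨Finset.mem_univ _, fun i => ?_, ?_, ?_⟩)
    · rw [herm_smul_left, hw'.1, mul_zero]
    · rw [herm_smul_left, hw'.2.1, mul_one]
    · rw [hermForm_smul, hw'.2.2, mul_zero]
  · intro w hw
    have hw' := (Finset.mem_filter.mp (Finset.mem_coe.mp hw)).2
    refine Finset.mem_coe.mpr (Finset.mem_filter.mpr ⟨Finset.mem_univ _, fun i => ?_, ?_, ?_⟩)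
    · rw [herm_smul_left, hw'.1, mul_zero]
    · rw [herm_smul_left, hw'.2.1, inv_mul_cancel₀ ht]
    · rw [hermForm_smul, hw'.2.2, mul_zero]
  · intro w _
    simp only [smul_smul, inv_mul_cancel₀ ht, one_smul]
  · intro w _
    simp only [smul_smul, mul_inv_cancel₀ ht, one_smul]

/-- isotropic vectors orthogonal to a tuple -/
def Zs (n : ℕ) (q : ℕ) {F : Type*} [Field F] [Fintype F] [DecidableEq F] {k : ℕ}
    (s : Fin k → (Fin n → F)) : Finset (Fin n → F) :=
  univ.filter (fun w : Fin n → F => (∀ i, Cfsg.hermForm n F q w (s i) = 0) ∧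
    Cfsg.hermForm n F q w w = 0)

/-- the recursion for the number of isotropic vectors orthogonal to an isotropic frame -/
theorem Zs_rec (hF : Fintype.card F = q ^ 2) {k : ℕ} (s : Fin k → (Fin n → F))
    (u : Fin n → F) (huu : H u u = 0) (hus : ∀ i, H u (s i) = 0)
    (hli : LinearIndependent F (Fin.cons u s : Fin (k + 1) → (Fin n → F))) :
    ∃ M : ℕ, (Zs n q s).card = (Zs n q (Fin.cons u s : Fin (k + 1) → (Fin n → F))).card
      + (q ^ 2 - 1) * M ∧ M * q ^ (2 * k + 3) = q ^ (2 * n) := by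
  refine ⟨(univ.filter (fun w : Fin n → F =>
    (∀ i, H w (s i) = 0) ∧ H w u = 1 ∧ H w w = 0)).card, ?_, ?_⟩
  · have hsplit : (Zs n q s).card =
        ∑ t : F, (univ.filter (fun w : Fin n → F =>
          (∀ i, H w (s i) = 0) ∧ H w u = t ∧ H w w = 0)).card := by
      unfold Zs
      rw [Finset.card_eq_sum_card_fiberwise (f := fun w => H w u) (t := univ)
        (fun _ _ => Finset.mem_univ _)]
      refine Finset.sum_congr rfl (fun t _ => ?_)
      rw [Finset.filter_filter]
      refine congrArg Finset.card (Finset.filter_congr (fun w _ => ?_))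
      tauto
    rw [hsplit, ← Finset.add_sum_erase univ _ (Finset.mem_univ (0 : F))]
    congr 1
    · unfold Zs
      refine congrArg Finset.card (Finset.filter_congr (fun w _ => ?_))
      rw [Fin.forall_fin_succ]
      simp only [Fin.cons_zero, Fin.cons_succ]
      tauto
    · rw [Finset.sum_congr rfl (fun t ht => card_scale hF s u t (Finset.ne_of_mem_erase ht)),
        Finset.sum_const, smul_eq_mul, Finset.card_erase_of_mem (Finset.mem_univ _),
        Finset.card_univ, hF]
  · rw [show 2 * k + 3 = 1 + 2 * (k + 1) by ring, pow_add, pow_one, ← mul_assoc,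
      card_M1_mul hF s u huu hus]
    rw [← card_fiber hF (Fin.cons u s : Fin (k + 1) → (Fin n → F)) hli
      (Fin.cons 1 (fun _ => 0))]
    congr 2
    refine Finset.filter_congr (fun w _ => ?_)
    rw [Fin.forall_fin_succ]
    simp only [Fin.cons_zero, Fin.cons_succ]
    tauto


/-- vectors extending an isotropic frame -/
def ExtSet (n q : ℕ) {F : Type*} [Field F] {k : ℕ} (s : Fin k → (Fin n → F)) : Set (Fin n → F) :=
  {w | (∀ i, Cfsg.hermForm n F q w (s i) = 0) ∧ Cfsg.hermForm n F q w w = 0 ∧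
    w ∉ Submodule.span F (Set.range s)}

omit [Fintype F] [DecidableEq F] in
theorem cons_iso (σ : F →+* F) (hσ : ∀ x, σ x = x ^ q) (hσσ : ∀ x, σ (σ x) = x) {k : ℕ}
    (s : Fin k → (Fin n → F)) (hs : ∀ i j, H (s i) (s j) = 0) (w : Fin n → F)
    (hw : ∀ i, H w (s i) = 0) (hww : H w w = 0) :
    ∀ i j, H ((Fin.cons w s : Fin (k + 1) → (Fin n → F)) i)
      ((Fin.cons w s : Fin (k + 1) → (Fin n → F)) j) = 0 := by
  intro i j
  refine Fin.cases ?_ (fun i' => ?_) i <;> refine Fin.cases ?_ (fun j' => ?_) j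
  · simp only [Fin.cons_zero]; exact hww
  · simp only [Fin.cons_zero, Fin.cons_succ]
    exact hw j'
  · simp only [Fin.cons_zero, Fin.cons_succ]
    rw [herm_symm σ hσ hσσ, hw i', map_zero]
  · simp only [Fin.cons_succ]
    exact hs i' j'

/-- frames of length `k+1` are frames of length `k` with an extension vector -/
def isoFrEquiv (σ : F →+* F) (hσ : ∀ x, σ x = x ^ q) (hσσ : ∀ x, σ (σ x) = x) (k : ℕ) :
    ↥(IsoFr n F q (k + 1)) ≃ Σ s : ↥(IsoFr n F q k), ↥(ExtSet n q (s : Fin k → (Fin n → F))) where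
  toFun f := ⟨⟨Fin.tail f.1, (linearIndependent_finSucc.mp f.2.1).1, fun i j => f.2.2 _ _⟩,
    ⟨f.1 0, fun i => f.2.2 _ _, f.2.2 _ _, (linearIndependent_finSucc.mp f.2.1).2⟩⟩
  invFun x := ⟨Fin.cons x.2.1 x.1.1, linearIndependent_finCons.mpr ⟨x.1.2.1, x.2.2.2.2⟩,
    cons_iso σ hσ hσσ x.1.1 x.1.2.2 x.2.1 x.2.2.1 x.2.2.2.1⟩
  left_inv f := by
    apply Subtype.ext
    simp only [Fin.cons_self_tail]
  right_inv := fun ⟨_, _⟩ => rfl

theorem card_ExtSet (hF : Fintype.card F = q ^ 2) {k : ℕ} (s : Fin k → (Fin n → F))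
    (hs : s ∈ IsoFr n F q k) :
    (ExtSet n q s).ncard = (Zs n q s).card - q ^ (2 * k) := by
  classical
  obtain ⟨σ, hσ⟩ := exists_frob hF
  have hU : Module.finrank F (Submodule.span F (Set.range s)) = k := by
    rw [finrank_span_eq_card hs.1, Fintype.card_fin]
  have hle : (Submodule.span F (Set.range s) : Set (Fin n → F)) ⊆ ↑(Zs n q s) := by
    intro x hx
    simp only [Zs, Finset.coe_filter, Finset.mem_univ, true_and, Set.mem_ofPred_eq]
    refine ⟨fun i => ?_, ?_⟩
    · exact iso_span σ hσ s hs.2 x hx _ (Submodule.subset_span ⟨i, rfl⟩)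
    · exact iso_span σ hσ s hs.2 x hx x hx
  have hset : ExtSet n q s = (↑(Zs n q s) : Set (Fin n → F)) \
      (Submodule.span F (Set.range s) : Set (Fin n → F)) := by
    ext w
    simp only [ExtSet, Zs, Set.mem_ofPred_eq, Set.mem_sdiff, SetLike.mem_coe, Finset.coe_filter,
      Finset.mem_univ, true_and]
    tauto
  rw [hset, Set.ncard_sdiff hle (Set.toFinite _), Set.ncard_coe_finset, ← Nat.card_coe_set_eq]
  congr 1
  show Nat.card ↥(Submodule.span F (Set.range s)) = _
  rw [Nat.card_eq_fintype_card, Module.card_eq_pow_finrank (K := F), hU, hF, ← pow_mul]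

/-- recursion for the number of isotropic vectors -/
theorem hermA_rec (q : ℕ) (hq : 2 ≤ q) (m : ℕ) :
    (hermAB q (m + 2)).1 = q ^ 2 * (hermAB q m).1 + (q ^ 2 - 1) * q ^ (2 * m + 1) := by
  obtain ⟨H1, -⟩ := hermAB_closed q hq m
  obtain ⟨H2, -⟩ := hermAB_closed q hq (m + 2)
  have h1 : 1 ≤ q ^ 2 := Nat.one_le_pow _ _ (by omega)
  have hq0 : (q : ℤ) ≠ 0 := by exact_mod_cast (by omega : q ≠ 0)
  have : ((hermAB q (m + 2)).1 : ℤ) =
      (q : ℤ) ^ 2 * (hermAB q m).1 + ((q : ℤ) ^ 2 - 1) * (q : ℤ) ^ (2 * m + 1) := by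
    apply mul_left_cancel₀ hq0
    rw [H2]
    have e : (q : ℤ) * ((q : ℤ) ^ 2 * (hermAB q m).1 + ((q : ℤ) ^ 2 - 1) * (q : ℤ) ^ (2 * m + 1)) =
        (q : ℤ) ^ 2 * ((q : ℤ) * (hermAB q m).1) +
          ((q : ℤ) ^ 2 - 1) * (q : ℤ) ^ (2 * m + 1) * q := by ring
    rw [e, H1]
    ring
  have h2 : ((hermAB q (m + 2)).1 : ℤ) =
      ((q ^ 2 * (hermAB q m).1 + (q ^ 2 - 1) * q ^ (2 * m + 1) : ℕ) : ℤ) := by
    rw [this]
    push_cast [Nat.cast_sub h1]
    ring
  exact_mod_cast h2

theorem Zs_closed (hF : Fintype.card F = q ^ 2) :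
    ∀ (k : ℕ) (s : Fin k → (Fin n → F)), s ∈ IsoFr n F q k → 2 * k ≤ n →
      (Zs n q s).card = q ^ (2 * k) * (hermAB q (n - 2 * k)).1 := by
  have hq := two_le_q hF
  intro k
  induction k with
  | zero =>
    intro s _ _
    have hA := card_herm hF n (0 : F) (zero_pow (by omega))
    rw [if_pos rfl] at hA
    rw [Nat.mul_zero, pow_zero, one_mul, Nat.sub_zero, ← hA]
    unfold Zs
    refine congrArg Finset.card (Finset.filter_congr (fun w _ => ?_))
    constructor
    · intro h; exact h.2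
    · intro h; exact ⟨fun i => Fin.elim0 i, h⟩
  | succ k ih =>
    intro s hs hk
    have hcons : (Fin.cons (s 0) (Fin.tail s) : Fin (k + 1) → (Fin n → F)) = s :=
      Fin.cons_self_tail s
    have htail : Fin.tail s ∈ IsoFr n F q k :=
      ⟨(linearIndependent_finSucc.mp hs.1).1, fun i j => hs.2 _ _⟩
    obtain ⟨M, hM1, hM2⟩ := Zs_rec hF (Fin.tail s) (s 0) (hs.2 0 0) (fun i => hs.2 _ _)
      (by rw [hcons]; exact hs.1)
    rw [hcons, ih (Fin.tail s) htail (by omega)] at hM1
    obtain ⟨m, hm⟩ : ∃ m, n = m + 2 * k + 2 := ⟨n - 2 * k - 2, by omega⟩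
    have e1 : n - 2 * k = m + 2 := by omega
    have e2 : n - 2 * (k + 1) = m := by omega
    rw [e1, hermA_rec q hq m] at hM1
    rw [e2]
    have hMval : M = q ^ (2 * k) * q ^ (2 * m + 1) := by
      have : M * q ^ (2 * k + 3) = (q ^ (2 * k) * q ^ (2 * m + 1)) * q ^ (2 * k + 3) := by
        rw [hM2, ← pow_add, ← pow_add]
        congr 1
        omega
      exact Nat.eq_of_mul_eq_mul_right (by positivity) this
    rw [hMval] at hM1
    have e3 : q ^ (2 * k) * (q ^ 2 * (hermAB q m).1 + (q ^ 2 - 1) * q ^ (2 * m + 1)) =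
        q ^ (2 * (k + 1)) * (hermAB q m).1 + (q ^ 2 - 1) * (q ^ (2 * k) * q ^ (2 * m + 1)) := by
      rw [show 2 * (k + 1) = 2 * k + 2 by ring, pow_add]
      ring
    rw [e3] at hM1
    exact (Nat.add_right_cancel hM1).symm

theorem card_IsoFr (hF : Fintype.card F = q ^ 2) (k : ℕ) (hk : 2 * k ≤ n) :
    (IsoFr n F q k).ncard =
      ∏ i ∈ Finset.range k, (q ^ (2 * i) * (hermAB q (n - 2 * i)).1 - q ^ (2 * i)) := by
  classical
  obtain ⟨σ, hσ⟩ := exists_frob hF
  have hσσ := frob_frob hF σ hσ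
  induction k with
  | zero =>
    rw [Finset.prod_range_zero]
    have : IsoFr n F q 0 = {fun i => Fin.elim0 i} := by
      ext f
      simp only [IsoFr, Set.mem_ofPred_eq, Set.mem_singleton_iff]
      constructor
      · intro _; funext i; exact Fin.elim0 i
      · intro _
        exact ⟨linearIndependent_empty_type, fun i => Fin.elim0 i⟩
    rw [this, Set.ncard_singleton]
  | succ k ih =>
    rw [Finset.prod_range_succ, ← ih (by omega), ← Nat.card_coe_set_eq,
      Nat.card_congr (isoFrEquiv σ hσ hσσ k), Nat.card_sigma]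
    have : ∀ s : ↥(IsoFr n F q k), Nat.card ↥(ExtSet n q (s : Fin k → (Fin n → F))) =
        q ^ (2 * k) * (hermAB q (n - 2 * k)).1 - q ^ (2 * k) := by
      intro s
      rw [Nat.card_coe_set_eq, card_ExtSet hF _ s.2, Zs_closed hF k s.1 s.2 (by omega)]
    simp only [this]
    rw [Finset.sum_const, smul_eq_mul, Finset.card_univ, ← Nat.card_eq_fintype_card,
      Nat.card_coe_set_eq]

end count

end Cfsg.Agent.Lib.helper6.HF
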