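import Mathlib
import Cfsg.Agent.Lib.helper6.Witt

set_option autoImplicit false

namespace Cfsg.Agent.Lib.helper6.Witt

variable {F V : Type*} [Field F] [AddCommGroup V] [Module F V]

theorem Q_add (Q : QuadraticForm F V) (a b : V) : Q (a + b) = Q a + Q b + QuadraticMap.polar Q a b := by
  unfold QuadraticMap.polar; ring

def isoQ (Q : QuadraticForm F V) : Subgroup (V ≃ₗ[F] V) where
  carrier := {g | ∀ v, Q (g v) = Q v}
  mul_mem' := by
    intro g h hg hh v
    rw [LinearEquiv.mul_apply, hg, hh]
  one_mem' := by intro v; rfl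
  inv_mem' := by
    intro g hg v
    have := hg (g⁻¹ v)
    have e1 : g (g⁻¹ v) = v := by rw [← LinearEquiv.mul_apply, mul_inv_cancel]; rfl
    rw [e1] at this
    exact this.symm

theorem polar_of_iso (Q : QuadraticForm F V) (g : V →ₗ[F] V) (hg : ∀ v, Q (g v) = Q v) (u v : V) :
    QuadraticMap.polar Q (g u) (g v) = QuadraticMap.polar Q u v := by
  unfold QuadraticMap.polar
  rw [← map_add, hg, hg, hg]

theorem exists_isoQ_of_endo [FiniteDimensional F V] (Q : QuadraticForm F V)
    (hQ : (QuadraticMap.polarBilin Q).Nondegenerate) (g : V →ₗ[F] V)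
    (hg : ∀ v, Q (g v) = Q v) : ∃ e ∈ isoQ Q, ∀ v, e v = g v := by
  have hinj : Function.Injective g := by
    rw [injective_iff_map_eq_zero]
    intro v hv
    apply hQ.2
    intro u
    show QuadraticMap.polar Q u v = 0
    rw [← polar_of_iso Q g hg, hv, QuadraticMap.polar_zero_right]
  refine ⟨LinearEquiv.ofInjectiveEndo g hinj, ?_, ?_⟩
  · intro v
    rw [LinearEquiv.coe_ofInjectiveEndo]
    exact hg v
  · intro v
    rw [LinearEquiv.coe_ofInjectiveEndo]

def qmapA (Q : QuadraticForm F V) (d : V) : V →ₗ[F] V :=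
  LinearMap.id - ((Q d)⁻¹ • QuadraticMap.polarBilin Q d).smulRight d

theorem qmapA_apply (Q : QuadraticForm F V) (d v : V) :
    qmapA Q d v = v - ((Q d)⁻¹ * QuadraticMap.polar Q d v) • d := by
  simp [qmapA]

theorem qcaseA (Q : QuadraticForm F V) (d : V) (hd : Q d ≠ 0) : ∀ v, Q (qmapA Q d v) = Q v := by
  intro v
  rw [qmapA_apply, sub_eq_add_neg, ← neg_smul, Q_add, QuadraticMap.map_smul, QuadraticMap.polar_smul_right,
    QuadraticMap.polar_comm Q v d]
  simp only [smul_eq_mul]
  field_simp
  ring

def qmapE (Q : QuadraticForm F V) (d u : V) : V →ₗ[F] V :=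
  LinearMap.id + (QuadraticMap.polarBilin Q u - Q u • QuadraticMap.polarBilin Q d).smulRight d
    - (QuadraticMap.polarBilin Q d).smulRight u

theorem qmapE_apply (Q : QuadraticForm F V) (d u v : V) :
    qmapE Q d u v = v + (QuadraticMap.polar Q u v - Q u * QuadraticMap.polar Q d v) • d
      - (QuadraticMap.polar Q d v) • u := by
  simp [qmapE]

theorem qcaseE (Q : QuadraticForm F V) (d u : V) (hd : Q d = 0) (hud : QuadraticMap.polar Q u d = 0) :
    ∀ v, Q (qmapE Q d u v) = Q v := by
  intro v
  have hdu : QuadraticMap.polar Q d u = 0 := by rw [QuadraticMap.polar_comm]; exact hud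
  rw [qmapE_apply, sub_eq_add_neg, ← neg_smul, Q_add, Q_add, QuadraticMap.map_smul, QuadraticMap.map_smul,
    QuadraticMap.polar_smul_right, QuadraticMap.polar_smul_right, QuadraticMap.polar_add_left,
    QuadraticMap.polar_smul_left, QuadraticMap.polar_comm Q v d, QuadraticMap.polar_comm Q v u, hd, hdu]
  simp only [smul_eq_mul]
  ring

def qmapD (Q : QuadraticForm F V) (d e : V) (μ : F) : V →ₗ[F] V :=
  LinearMap.id + ((μ - 1) • QuadraticMap.polarBilin Q e).smulRight d
    + ((μ⁻¹ - 1) • QuadraticMap.polarBilin Q d).smulRight e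

theorem qmapD_apply (Q : QuadraticForm F V) (d e : V) (μ : F) (v : V) :
    qmapD Q d e μ v = v + ((μ - 1) * QuadraticMap.polar Q e v) • d
      + ((μ⁻¹ - 1) * QuadraticMap.polar Q d v) • e := by
  simp [qmapD]

theorem qcaseD (Q : QuadraticForm F V) (d e : V) (μ : F) (hμ : μ ≠ 0) (hd : Q d = 0) (he : Q e = 0)
    (hed : QuadraticMap.polar Q e d = 1) : ∀ v, Q (qmapD Q d e μ v) = Q v := by
  intro v
  have hde : QuadraticMap.polar Q d e = 1 := by rw [QuadraticMap.polar_comm]; exact hed
  rw [qmapD_apply, Q_add, Q_add, QuadraticMap.map_smul, QuadraticMap.map_smul,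
    QuadraticMap.polar_smul_right, QuadraticMap.polar_smul_right, QuadraticMap.polar_add_left,
    QuadraticMap.polar_smul_left, QuadraticMap.polar_comm Q v d, QuadraticMap.polar_comm Q v e, hd, he, hde]
  simp only [smul_eq_mul]
  field_simp
  ring

theorem qstep_core [FiniteDimensional F V] (Q : QuadraticForm F V)
    (hQ : (QuadraticMap.polarBilin Q).Nondegenerate) (H : Submodule F V) (x y : V)
    (hx : x ∉ H) (hy : y ∉ H) (hHy : ∀ z ∈ H, QuadraticMap.polar Q z y = QuadraticMap.polar Q z x)
    (hyy : Q y = Q x) :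
    ∃ g ∈ isoQ Q, (∀ z ∈ H, g z = z) ∧ g x = y := by
  by_cases hd0 : x - y = 0
  · refine ⟨1, (isoQ Q).one_mem, fun z _ => rfl, ?_⟩
    show x = y
    exact sub_eq_zero.mp hd0
  set d := x - y with hd
  have hHd : ∀ z ∈ H, QuadraticMap.polar Q z d = 0 := by
    intro z hz
    rw [hd, QuadraticMap.polar_sub_right, hHy z hz, sub_self]
  have hdH : ∀ z ∈ H, QuadraticMap.polar Q d z = 0 := fun z hz => by
    rw [QuadraticMap.polar_comm]; exact hHd z hz
  have hxy : x - d = y := by rw [hd]; abel
  have key : Q d = QuadraticMap.polar Q d x := by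
    have e1 : Q y = Q x + Q d - QuadraticMap.polar Q x d := by
      rw [← hxy, sub_eq_add_neg, Q_add, QuadraticMap.map_neg, QuadraticMap.polar_neg_right]; ring
    rw [QuadraticMap.polar_comm]
    linear_combination hyy - e1
  by_cases ha : Q d = 0
  · -- case B
    have hdx : QuadraticMap.polar Q d x = 0 := by rw [← key, ha]
    by_cases hxS : x ∈ H ⊔ Submodule.span F {d}
    · -- B2
      obtain ⟨h₀, hh₀, w, hw, hsum⟩ := Submodule.mem_sup.mp hxS
      obtain ⟨c, rfl⟩ := Submodule.mem_span_singleton.mp hw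
      have hc0 : c ≠ 0 := by
        rintro rfl
        rw [zero_smul, add_zero] at hsum
        exact hx (hsum ▸ hh₀)
      have hc1 : c ≠ 1 := by
        rintro rfl
        rw [one_smul] at hsum
        apply hy
        rw [← hxy, ← hsum, add_sub_cancel_right]
        exact hh₀
      have hdnot : d ∉ H := by
        intro hdH'
        apply hx
        rw [← hsum]
        exact H.add_mem hh₀ (H.smul_mem c hdH')
      obtain ⟨e₀, he₀H, he₀d⟩ := exists_perp (QuadraticMap.polarBilin Q) hQ.2 H d hdnot 1
      have he₀H' : ∀ z ∈ H, QuadraticMap.polar Q e₀ z = 0 := he₀H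
      have he₀d' : QuadraticMap.polar Q e₀ d = 1 := he₀d
      set e := e₀ - Q e₀ • d with he
      have hee : Q e = 0 := by
        rw [he, sub_eq_add_neg, ← neg_smul, Q_add, QuadraticMap.map_smul, QuadraticMap.polar_smul_right,
          he₀d', ha]
        simp
      have hed : QuadraticMap.polar Q e d = 1 := by
        rw [he, QuadraticMap.polar_sub_left, QuadraticMap.polar_smul_left, he₀d', QuadraticMap.polar_self,
          ha]
        simp
      have heH : ∀ z ∈ H, QuadraticMap.polar Q e z = 0 := by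
        intro z hz
        rw [he, QuadraticMap.polar_sub_left, QuadraticMap.polar_smul_left, he₀H' z hz, hdH z hz]
        simp
      have hμ : (c - 1) / c ≠ 0 := div_ne_zero (sub_ne_zero.mpr hc1) hc0
      obtain ⟨g, hg, hgv⟩ := exists_isoQ_of_endo Q hQ (qmapD Q d e ((c - 1) / c))
        (qcaseD Q d e _ hμ ha hee hed)
      refine ⟨g, hg, ?_, ?_⟩
      · intro z hz
        rw [hgv, qmapD_apply, heH z hz, hdH z hz]
        simp
      · have hex : QuadraticMap.polar Q e x = c := by
          rw [← hsum, QuadraticMap.polar_add_right, QuadraticMap.polar_smul_right, heH h₀ hh₀, hed]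
          simp
        rw [hgv, qmapD_apply, hdx, hex, ← hxy]
        have : ((c - 1) / c - 1) * c = -1 := by field_simp; ring
        rw [this]
        simp
        abel
    · -- B1
      obtain ⟨u, huS, hux⟩ := exists_perp (QuadraticMap.polarBilin Q) hQ.2 _ x hxS (-1)
      have huH : ∀ z ∈ H, QuadraticMap.polar Q u z = 0 := fun z hz => huS z (Submodule.mem_sup_left hz)
      have hud : QuadraticMap.polar Q u d = 0 :=
        huS d (Submodule.mem_sup_right (Submodule.mem_span_singleton_self d))
      have hux' : QuadraticMap.polar Q u x = -1 := hux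
      obtain ⟨g, hg, hgv⟩ := exists_isoQ_of_endo Q hQ (qmapE Q d u) (qcaseE Q d u ha hud)
      refine ⟨g, hg, ?_, ?_⟩
      · intro z hz
        rw [hgv, qmapE_apply, huH z hz, hdH z hz]
        simp
      · rw [hgv, qmapE_apply, hdx, hux', ← hxy]
        simp
        abel
  · -- case A
    obtain ⟨g, hg, hgv⟩ := exists_isoQ_of_endo Q hQ (qmapA Q d) (qcaseA Q d ha)
    refine ⟨g, hg, ?_, ?_⟩
    · intro z hz
      rw [hgv, qmapA_apply, hdH z hz]
      simp
    · rw [hgv, qmapA_apply, ← key, inv_mul_cancel₀ ha, one_smul, hxy]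

theorem witt_quad [FiniteDimensional F V] (Q : QuadraticForm F V)
    (hQ : (QuadraticMap.polarBilin Q).Nondegenerate) (X Y : Submodule F V) (φ : X ≃ₗ[F] Y)
    (hφ : ∀ x : X, Q (φ x : V) = Q (x : V)) :
    ∃ g : V ≃ₗ[F] V, (∀ v : V, Q (g v) = Q v) ∧ ∀ x : X, g (x : V) = (φ x : V) := by
  obtain ⟨f, hf⟩ := LinearMap.exists_extend (Y.subtype ∘ₗ (φ : X →ₗ[F] Y))
  have hfx : ∀ x : X, f (x : V) = (φ x : V) := by
    intro x
    have := congrArg (fun l => l x) hf
    simpa using this
  let P : Submodule F V → (V →ₗ[F] V) → Prop := fun X f =>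
    (∀ x ∈ X, Q (f x) = Q x) ∧ Set.InjOn f X
  have hP : P X f := by
    constructor
    · intro x hx
      have := hφ ⟨x, hx⟩
      rw [← hfx] at this
      exact this
    · intro x hx x' hx' hxx'
      have e1 := hfx ⟨x, hx⟩
      have e2 := hfx ⟨x', hx'⟩
      simp only at e1 e2
      rw [hxx', e2] at e1
      have := φ.injective (Subtype.ext e1)
      exact (congrArg Subtype.val this).symm
  obtain ⟨g, hg, hgX⟩ := skeleton (isoQ Q) P
    (by
      intro X Y f hYX hPX
      exact ⟨fun x hx => hPX.1 x (hYX hx), hPX.2.mono hYX⟩)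
    (by
      intro X f g hg hPX
      constructor
      · intro x hx
        simp only [LinearMap.comp_apply, LinearEquiv.coe_coe]
        rw [hg, hPX.1 x hx]
      · intro x hx x' hx' hxx'
        simp only [LinearMap.comp_apply, LinearEquiv.coe_coe] at hxx'
        exact hPX.2 hx hx' (g.injective hxx'))
    (by
      intro H x f hxH hPX hfH
      have hxX : x ∈ H ⊔ Submodule.span F {x} :=
        Submodule.mem_sup_right (Submodule.mem_span_singleton_self x)
      have hHX : H ≤ H ⊔ Submodule.span F {x} := le_sup_left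
      have hxx : Q (f x) = Q x := hPX.1 x hxX
      apply qstep_core Q hQ H x (f x) hxH
      · intro hfxH
        have e1 : f (f x) = f x := hfH _ hfxH
        have := hPX.2 (hHX hfxH) hxX e1
        exact hxH (this ▸ hfxH)
      · intro z hz
        have h1 := hPX.1 (z + x) (Submodule.add_mem _ (hHX hz) hxX)
        rw [map_add, hfH z hz, Q_add, Q_add, hxx] at h1
        linear_combination h1
      · exact hxx)
    X f hP
  exact ⟨g, hg, fun x => (hgX x x.2).trans (hfx x)⟩

end Cfsg.Agent.Lib.helper6.Witt
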