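import Mathlib
import Cfsg.Agent.Lib.Helper19.SO8.Defs
import Cfsg.Agent.Lib.helper14.Singer
import Cfsg.Agent.Lib.Helper21.OTSTYFPF
import Cfsg.Agent.Lib.Helper21.OTSTYCLASS
import Cfsg.Agent.Lib.Helper21.OTSISOSTD
import Cfsg.Agent.Lib.helper15.OTSSTDCTX
import Cfsg.Agent.Lib.helper4.OTSSTDP
import Cfsg.Agent.Lib.Helper25.BCGX4
import Cfsg.Agent.Lib.Helper16.OTSTYTOP
import Cfsg.Agent.Lib.helper15.SO8XFER

set_option autoImplicit false

/-!
# Project SO8, row SMINUS (helper6): `oreal_sminus`, verbatim from `Helper19/SO8/Skel.lean.txt`.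
The field model: `K` of degree `2n` over `F` (characteristic 2), `Q x = Tr(γ x^(q^n+1))`, `γ` of order `q^n + 1`.
-/

namespace Cfsg.Agent.Lib.Helper19.SO8

open Polynomial Module Cfsg.Agent.Lib.Helper13.OTS Cfsg.Agent.Lib.Helper13.S5955
  Cfsg.Agent.Lib.helper15.S5972 Cfsg.Agent.Lib.helper14.Singer

section model

variable {F : Type*} [Field F] [Fintype F] (K : Type*) [Field K] [Finite K] [Algebra F K]

/-- the bilinear form `(x, y) ↦ Tr(θ x y^(q^e))` -/
noncomputable def so8sminus_B (e : ℕ) (θ : K) : LinearMap.BilinForm F K :=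
  (twForm (F := F) K e).comp (LinearMap.mulLeft F θ) LinearMap.id

theorem so8sminus_B_apply (e : ℕ) (θ x y : K) :
    so8sminus_B (F := F) K e θ x y = twForm (F := F) K e (θ * x) y := rfl

/-- the quadratic form `x ↦ Tr(θ x^(q^e+1))` -/
noncomputable def so8sminus_Q (e : ℕ) (θ : K) : QuadraticForm F K :=
  LinearMap.BilinMap.toQuadraticMap (so8sminus_B (F := F) K e θ)

theorem so8sminus_Q_apply (e : ℕ) (θ x : K) :
    so8sminus_Q (F := F) K e θ x = twForm (F := F) K e (θ * x) x := rfl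

theorem so8sminus_polar (e : ℕ) (θ x y : K) :
    QuadraticMap.polar (so8sminus_Q (F := F) K e θ) x y =
      twForm (F := F) K e (θ * x) y + twForm (F := F) K e (θ * y) x := by
  unfold so8sminus_Q
  rw [LinearMap.BilinMap.polar_toQuadraticMap]
  rfl

/-- `Tr (w^(q^e)) = Tr w` -/
theorem so8sminus_trace_frob (e : ℕ) (w : K) :
    Algebra.trace F K (w ^ (Fintype.card F ^ e)) = Algebra.trace F K w := by
  rw [← frobE_apply (F := F) K e w]
  exact Algebra.trace_eq_of_algEquiv (frobE (F := F) K e) w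

/-- the polar form when `x ↦ x^(q^e)` is an involution: `Tr((θ + θ^(q^e)) x y^(q^e))` -/
theorem so8sminus_polar' (e : ℕ) (hinv : ∀ x : K, (x ^ (Fintype.card F ^ e)) ^ (Fintype.card F ^ e) = x)
    (θ x y : K) :
    QuadraticMap.polar (so8sminus_Q (F := F) K e θ) x y =
      twForm (F := F) K e ((θ + θ ^ (Fintype.card F ^ e)) * x) y := by
  rw [so8sminus_polar, twForm_apply, twForm_apply, twForm_apply]
  have h1 : Algebra.trace F K (θ * y * x ^ (Fintype.card F ^ e)) =
      Algebra.trace F K (θ ^ (Fintype.card F ^ e) * x * y ^ (Fintype.card F ^ e)) := by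
    rw [← so8sminus_trace_frob K e (θ * y * x ^ (Fintype.card F ^ e)), mul_pow, mul_pow, hinv]
    congr 1
    ring
  rw [h1, ← map_add]
  congr 1
  ring


/-- multiplication by `y` of norm one preserves `Q` -/
theorem so8sminus_pres (e : ℕ) (θ y : K) (hyN : y * y ^ (Fintype.card F ^ e) = 1) (v : K) :
    so8sminus_Q (F := F) K e θ (Algebra.lmul F K y v) = so8sminus_Q (F := F) K e θ v := by
  rw [so8sminus_Q_apply, so8sminus_Q_apply]
  have h := twForm_invariant (F := F) K e y hyN
  have h1 := LinearMap.congr_fun (LinearMap.congr_fun h (θ * v)) v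
  rw [LinearMap.BilinForm.comp_apply] at h1
  rw [← h1]
  show twForm (F := F) K e (θ * (y * v)) (y * v) = twForm (F := F) K e (y * (θ * v)) (y * v)
  congr 2
  ring

/-- powers of a multiplication map -/
theorem so8sminus_lmul_pow (y : K) (j : ℕ) :
    (Algebra.lmul F K y : Module.End F K) ^ j = Algebra.lmul F K (y ^ j) := by
  rw [map_pow]

theorem so8sminus_lmul_eq_one (y : K) : (Algebra.lmul F K y : Module.End F K) = 1 ↔ y = 1 := by
  constructor
  · intro h
    have h1 := LinearMap.congr_fun h 1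
    simpa using h1
  · intro h
    rw [h, map_one]


/-- an element of order `q^n+1` in the field with `q^(2n)` elements -/
theorem so8sminus_gamma (n : ℕ) (hn : 1 ≤ n) (hfr : finrank F K = 2 * n) :
    ∃ γ : Kˣ, orderOf γ = Fintype.card F ^ n + 1 := by
  obtain ⟨ζ, hζ⟩ := Cfsg.Agent.Lib.helper15.Spec3.exists_gen_ext (F := F) (K := K) (2 * n) hfr
  have h2 : 2 ≤ Fintype.card F := Fintype.one_lt_card
  have hQ2 : 2 ≤ Fintype.card F ^ n := by
    have h3 : 2 ^ n ≤ Fintype.card F ^ n := Nat.pow_le_pow_left h2 n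
    have h4 : 2 ^ 1 ≤ 2 ^ n := Nat.pow_le_pow_right (by norm_num) hn
    omega
  have hfac : Fintype.card F ^ (2 * n) - 1 =
      (Fintype.card F ^ n + 1) * (Fintype.card F ^ n - 1) := by
    rw [mul_comm 2 n, pow_mul, sq_sub_one_factor _ (by omega)]
  refine ⟨ζ ^ (Fintype.card F ^ n - 1), ?_⟩
  rw [orderOf_pow_of_dvd (by omega) (by rw [hζ, hfac]; exact dvd_mul_left _ _), hζ, hfac]
  exact Nat.mul_div_cancel _ (by omega)

/-- `x ↦ x^(q^n)` is an involution of the field with `q^(2n)` elements -/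
theorem so8sminus_hinv (n : ℕ) (hfr : finrank F K = 2 * n) (x : K) :
    (x ^ (Fintype.card F ^ n)) ^ (Fintype.card F ^ n) = x := by
  haveI : Fintype K := Fintype.ofFinite K
  have hc : Fintype.card K = Fintype.card F ^ (2 * n) := by
    rw [← hfr, ← Nat.card_eq_fintype_card, ← Nat.card_eq_fintype_card]
    exact Module.natCard_eq_pow_finrank (K := F) (V := K)
  rw [← pow_mul, ← pow_add, ← two_mul, ← hc]
  exact FiniteField.pow_card x

end model

section main

variable {F : Type*} [Field F] [Fintype F] [CharP F 2] (K : Type*) [Field K] [Finite K] [Algebra F K]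

/-- the field model of the elliptic space of dimension `2n` with its isometry of order `q^n+1` -/
theorem so8sminus_model (n : ℕ) (hn : 1 ≤ n) (hfr : finrank F K = 2 * n) :
    ∃ (Q : QuadraticForm F K) (x : Module.End F K),
      (∀ u, (∀ v, QuadraticMap.polar Q u v = 0) → u = 0) ∧ (∀ v, Q (x v) = Q v) ∧
      (∀ k, x ^ k = 1 ↔ (Fintype.card F ^ n + 1) ∣ k) ∧ QTy Q ⊤ (-1) := by
  classical
  obtain ⟨γ, hγ⟩ := so8sminus_gamma (F := F) K n hn hfr
  have hinv := so8sminus_hinv (F := F) K n hfr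
  haveI : CharP K 2 := charP_of_injective_algebraMap (algebraMap F K).injective 2
  have h2 : 2 ≤ Fintype.card F := Fintype.one_lt_card
  have hQ2 : 2 ≤ Fintype.card F ^ n := by
    have h3 : 2 ^ n ≤ Fintype.card F ^ n := Nat.pow_le_pow_left h2 n
    have h4 : 2 ^ 1 ≤ 2 ^ n := Nat.pow_le_pow_right (by norm_num) hn
    omega
  have hqe : Even (Fintype.card F) := by
    rw [Nat.even_iff]
    exact FiniteField.even_card_of_char_two (ringChar.eq F 2)
  have hNodd : ¬ 2 ∣ Fintype.card F ^ n + 1 := by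
    have h1 : Even (Fintype.card F ^ n) := Nat.even_pow.mpr ⟨hqe, by omega⟩
    obtain ⟨t, ht⟩ := h1
    omega
  have hγpow : γ ^ (Fintype.card F ^ n + 1) = 1 := by rw [← hγ]; exact pow_orderOf_eq_one γ
  have hγN : (γ : K) * (γ : K) ^ (Fintype.card F ^ n) = 1 := by
    rw [← pow_succ', ← Units.val_pow_eq_pow_val, hγpow, Units.val_one]
  have hκ : (γ : K) + (γ : K) ^ (Fintype.card F ^ n) ≠ 0 := by
    intro h0
    have h1 : (γ : K) = (γ : K) ^ (Fintype.card F ^ n) := CharTwo.add_eq_zero.mp h0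
    rw [← h1] at hγN
    have h2' : γ ^ 2 = 1 := Units.ext (by rw [Units.val_pow_eq_pow_val, pow_two]; exact hγN)
    have h3 := orderOf_dvd_of_pow_eq_one h2'
    rw [hγ] at h3
    have := Nat.le_of_dvd (by norm_num) h3
    omega
  have hnd : ∀ u, (∀ v, QuadraticMap.polar (so8sminus_Q (F := F) K n (γ : K)) u v = 0) → u = 0 := by
    intro u hu
    have h1 : ((γ : K) + (γ : K) ^ (Fintype.card F ^ n)) * u = 0 := by
      apply (twForm_nondegenerate (F := F) K n).1
      intro v
      rw [← so8sminus_polar' K n hinv]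
      exact hu v
    exact (mul_eq_zero.mp h1).resolve_left hκ
  refine ⟨so8sminus_Q (F := F) K n (γ : K), Algebra.lmul F K (γ : K), hnd,
    so8sminus_pres K n (γ : K) (γ : K) hγN, ?_, ?_⟩
  · intro k
    rw [so8sminus_lmul_pow, so8sminus_lmul_eq_one, ← hγ, orderOf_dvd_iff_pow_eq_one,
      ← Units.val_pow_eq_pow_val, Units.val_eq_one]
  · have hSND : SND (qB (so8sminus_Q (F := F) K n (γ : K))) ⊤ := by
      intro u _ hu
      apply hnd u
      intro v
      have := hu v Submodule.mem_top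
      rwa [QuadraticMap.polarBilin_apply_apply] at this
    have hft : finrank F (⊤ : Submodule F K) = 2 * n := by rw [finrank_top, hfr]
    have hev : Even (finrank F (⊤ : Submodule F K)) := by rw [hft]; exact even_two_mul n
    rcases q_ty_class (so8sminus_Q (F := F) K n (γ : K)) ⊤ hSND hev with ⟨_, h1⟩ | ⟨_, hm, _⟩
    · exfalso
      obtain ⟨r, hr, hrN⟩ := Nat.exists_prime_and_dvd (n := Fintype.card F ^ n + 1) (by omega)
      haveI : Fact r.Prime := ⟨hr⟩
      have hr2 : r ≠ 2 := by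
        rintro rfl
        exact hNodd hrN
      obtain ⟨t, ht⟩ := hrN
      have ht0 : t ≠ 0 := by
        rintro rfl
        omega
      have hζord : orderOf (γ ^ t) = r := by
        rw [orderOf_pow_of_dvd ht0 (by rw [hγ, ht]; exact dvd_mul_left _ _), hγ, ht]
        exact Nat.mul_div_cancel _ (Nat.pos_of_ne_zero ht0)
      have hζr : ((γ ^ t : Kˣ) : K) ^ r = 1 := by
        rw [← Units.val_pow_eq_pow_val, ← hζord, pow_orderOf_eq_one, Units.val_one]
      have hζ1 : ((γ ^ t : Kˣ) : K) ≠ 1 := by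
        intro h
        have h1' : γ ^ t = 1 := Units.ext (by rw [h, Units.val_one])
        rw [h1', orderOf_one] at hζord
        exact hr.one_lt.ne hζord
      have hζN : ((γ ^ t : Kˣ) : K) * ((γ ^ t : Kˣ) : K) ^ (Fintype.card F ^ n) = 1 := by
        rw [← pow_succ', ← Units.val_pow_eq_pow_val, ← pow_mul, mul_comm, pow_mul, hγpow, one_pow,
          Units.val_one]
      have hctx : QCtx r (so8sminus_Q (F := F) K n (γ : K)) (Algebra.lmul F K ((γ ^ t : Kˣ) : K)) := by
        refine ⟨hnd, so8sminus_pres K n (γ : K) _ hζN, ?_⟩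
        rw [so8sminus_lmul_pow, hζr, map_one]
      have hSInv : SInv (Algebra.lmul F K ((γ ^ t : Kˣ) : K) : Module.End F K) ⊤ :=
        fun w _ => Submodule.mem_top
      have hcyc : (⊤ : Submodule F K) ≤ cycS r (Algebra.lmul F K ((γ ^ t : Kˣ) : K) : Module.End F K) := by
        intro v _
        unfold cycS
        rw [LinearMap.mem_ker, Polynomial.aeval_algHom_apply]
        have h0 : aeval ((γ ^ t : Kˣ) : K) (cyclotomic r F) = 0 := by
          rw [cyclotomic_prime, map_sum]
          simp only [map_pow, aeval_X]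
          have h3 := geom_sum_mul ((γ ^ t : Kˣ) : K) r
          rw [hζr, sub_self] at h3
          exact (mul_eq_zero.mp h3).resolve_right (sub_ne_zero.mpr hζ1)
        rw [h0, map_zero]
        rfl
      have hM0 : (⊤ : Submodule F K) ≠ ⊥ := by
        intro h
        rw [h, finrank_bot] at hft
        omega
      have h5 := q_ty_fpf (p := 2) hr2 hctx ⊤ hSInv hSND hcyc hM0 hev 1 h1
      rw [hft, Nat.mul_div_cancel_left n (by norm_num)] at h5
      have h6 : ((Fintype.card F ^ n + 1 : ℕ) : ZMod r) = 0 := by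
        rw [ZMod.natCast_eq_zero_iff, ht]
        exact dvd_mul_right _ _
      rw [Nat.cast_add, Nat.cast_pow, h5] at h6
      have h7 : ((2 : ℕ) : ZMod r) = 0 := by
        rw [← h6]
        push_cast
        norm_num
      rw [ZMod.natCast_eq_zero_iff] at h7
      exact hr2 ((Nat.prime_dvd_prime_iff_eq hr Nat.prime_two).mp h7)
    · exact hm

end main

/-- an isometry of an abstract quadratic space, whose powers are known, is realised on every standard space of the same
dimension and type -/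
theorem so8sminus_transport {F : Type*} [Field F] [Fintype F] {ι : Type} [Fintype ι] [DecidableEq ι]
    (Qs : QuadraticForm F (ι → F)) (d : ℕ) (s : ℤ) (hs : QStd Qs d s)
    {V : Type*} [AddCommGroup V] [Module F V] [FiniteDimensional F V] (Q : QuadraticForm F V)
    (hnd : ∀ u, (∀ v, QuadraticMap.polar Q u v = 0) → u = 0) (hV : finrank F V = 2 * d)
    (hty : QTy Q ⊤ s) (x : Module.End F V) (hx : ∀ v, Q (x v) = Q v) (N : ℕ)
    (hN : ∀ k, x ^ k = 1 ↔ N ∣ k) :
    ∃ g : ↥(Cfsg.isometryGroup F (⇑Qs)), orderOf g = N := by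
  obtain ⟨ψ, hψ⟩ := q_iso_std Qs d s hs Q hnd hV hty
  obtain ⟨hnd0, hV0, hnd1⟩ := q_ty_top Qs d s hs
  have hctx : QCtx N Qs (ψ.symm.toLinearMap ∘ₗ x ∘ₗ ψ.toLinearMap) := by
    refine ⟨hnd1, ?_, ?_⟩
    · intro v
      rw [← hψ]
      simp only [LinearMap.coe_comp, LinearEquiv.coe_coe, Function.comp_apply,
        LinearEquiv.apply_symm_apply]
      rw [hx, hψ]
    · rw [so8xfer_conj_pow, (hN N).mpr dvd_rfl]
      exact (so8xfer_conj_eq_one ψ 1).mpr rfl
  obtain ⟨g, hg, hgy, hgN⟩ := q_realize Qs N _ hctx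
  refine ⟨⟨g, hg⟩, ?_⟩
  have key : ∀ k, (⟨g, hg⟩ : ↥(Cfsg.isometryGroup F (⇑Qs))) ^ k = 1 ↔ N ∣ k := by
    intro k
    have e1 : (⟨g, hg⟩ : ↥(Cfsg.isometryGroup F (⇑Qs))) ^ k = 1 ↔ g ^ k = 1 := by
      constructor
      · intro h1
        have h2 := congrArg (Subtype.val) h1
        simpa using h2
      · intro h1
        apply Subtype.ext
        simpa using h1
    rw [e1, Cfsg.Agent.Lib.Lead.BCG.gl_same, hgy, so8xfer_conj_pow, so8xfer_conj_eq_one, hN]
  exact Nat.dvd_antisymm (orderOf_dvd_of_pow_eq_one ((key N).mpr dvd_rfl))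
    ((key _).mp (pow_orderOf_eq_one _))

theorem oreal_sminus {F : Type*} [Field F] [Fintype F] [CharP F 2] (n : ℕ) (hn : 1 ≤ n) (c : F)
    (hc : ∀ z₁ z₂ : F, z₁ ^ 2 + 1 * z₁ * z₂ + c * z₂ ^ 2 = 0 → z₁ = 0 ∧ z₂ = 0) :
    OReal F n (-1) (Fintype.card F ^ n + 1) := by
  haveI : NeZero (2 * n) := ⟨by omega⟩
  have hfr : finrank F (FiniteField.Extension F 2 (2 * n)) = 2 * n :=
    FiniteField.finrank_extension F 2 (2 * n)
  obtain ⟨Q, x, hnd, hx, hpow, hty⟩ :=
    so8sminus_model (F := F) (FiniteField.Extension F 2 (2 * n)) n hn hfr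
  have hs := q_std_minus n hn 1 c hc
  obtain ⟨g, hg⟩ := so8sminus_transport (Cfsg.Agent.Lib.Helper16.qfMinus (n - 1) F 1 c) n (-1) hs Q
    hnd hfr hty x hx _ hpow
  exact ⟨_, inferInstance, inferInstance, Cfsg.Agent.Lib.Helper16.qfMinus (n - 1) F 1 c, hs, g, hg⟩

end Cfsg.Agent.Lib.Helper19.SO8
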