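import Mathlib
import Cfsg.Agent.Lib.Helper1.O9L.Defs
import Cfsg.Agent.Lib.Helper16.OHelp
import Cfsg.Agent.Lib.Helper16.SpinG2
import Cfsg.Agent.Lib.helper4.OTSSTDP

set_option autoImplicit false
set_option linter.unusedVariables false
set_option linter.unusedSectionVars false

/-!
# Project O9L, row ASMC (helper6): CORE on the statements of UNIPV (`omv_unip`), SQ (`omr_sq`), SUMV (`omv_sum`), PIECES (`omn_plus`, `omn_minus`).
-/

namespace Cfsg.Agent.Lib.Helper1.O9L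

open Matrix Module Polynomial Cfsg.Agent.Lib.Helper13.OTS Cfsg.Agent.Lib.Helper16 Cfsg.Agent.Lib.Helper19.O9U

/-- halving: `X ∈ {q²+1, q²-1, q-1, q+1}` is `2 m` with `p ∤ m` (`p ∣ q`, `q` odd) -/
theorem o9lasmc_arith (p q : ℕ) (hp : p.Prime) (hpq : p ∣ q) (hq : Odd q) (X : ℕ)
    (hX : X = q ^ 2 + 1 ∨ X = q ^ 2 - 1 ∨ X = q - 1 ∨ X = q + 1) : ∃ m, 2 * m = X ∧ ¬ p ∣ m := by
  obtain ⟨j, hj⟩ := hq
  have hq2 : q ^ 2 = 4 * j ^ 2 + 4 * j + 1 := by rw [hj]; ring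
  have hpq2 : p ∣ q ^ 2 := dvd_pow hpq (by norm_num)
  have hp1 : ¬ p ∣ 1 := by
    intro h
    exact hp.one_lt.ne' (Nat.dvd_one.mp h)
  have key : ∀ Y : ℕ, p ∣ Y → ∀ m, 2 * m = X → (X = Y + 1 ∨ X + 1 = Y) → ¬ p ∣ m := by
    intro Y hY m hm hXY hpm
    have hpX : p ∣ X := by rw [← hm]; exact Dvd.dvd.mul_left hpm 2
    rcases hXY with h | h
    · rw [h] at hpX
      exact hp1 ((Nat.dvd_add_right hY).mp hpX)
    · have : p ∣ X + 1 := by rw [h]; exact hY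
      exact hp1 ((Nat.dvd_add_right hpX).mp this)
  rcases hX with h | h | h | h
  · refine ⟨2 * j ^ 2 + 2 * j + 1, by rw [h, hq2]; ring, ?_⟩
    exact key (q ^ 2) hpq2 _ (by rw [h, hq2]; ring) (Or.inl h)
  · have hX' : X = 4 * j ^ 2 + 4 * j := by rw [h, hq2]; omega
    refine ⟨2 * j ^ 2 + 2 * j, by rw [hX']; ring, ?_⟩
    exact key (q ^ 2) hpq2 _ (by rw [hX']; ring) (Or.inr (by rw [hX', hq2]))
  · have hX' : X = 2 * j := by rw [h, hj]; omega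
    refine ⟨j, hX'.symm, ?_⟩
    exact key q hpq _ hX'.symm (Or.inr (by rw [hX', hj]))
  · have hX' : X = 2 * (j + 1) := by rw [h, hj]; ring
    refine ⟨j + 1, hX'.symm, ?_⟩
    exact key q hpq _ hX'.symm (Or.inl h)

/-- one gluing step: `u_p ⊕ (σ)²` -/
theorem o9lasmc_comb {F : Type*} [Field F] [Fintype F] (p : ℕ) [Fact p.Prime] [CharP F p]
    (hSQ : ∀ (d : ℕ) (s : ℤ) (M : ℕ), OmN F d s (2 * M) → OmR F d s M)
    (hSV : ∀ (d₁ d₂ : ℕ), 1 ≤ d₁ → ∀ (s₁ s₂ : ℤ) (N₁ N₂ : ℕ), OmV F d₁ s₁ N₁ → OmR F d₂ s₂ N₂ →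
      ((Nat.lcm N₁ N₂ / N₁ : ℕ) : F) ≠ 0 → OmV F (d₁ + d₂) (s₁ * s₂) (Nat.lcm N₁ N₂))
    (d k : ℕ) (hd : 1 ≤ d) (s' s : ℤ) (X m : ℕ) (hV : OmV F d s' p) (hN : OmN F k s X) (hm : 2 * m = X)
    (hpm : ¬ p ∣ m) : OmV F (d + k) (s' * s) (p * m) := by
  have hp : p.Prime := Fact.out
  rw [← hm] at hN
  have hR := hSQ k s m hN
  have hcop : Nat.Coprime p m := (Nat.Prime.coprime_iff_not_dvd hp).mpr hpm
  have hl : Nat.lcm p m = p * m := hcop.lcm_eq_mul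
  have h := hSV d k hd s' s p m hV hR (by
    rw [hl, Nat.mul_div_cancel_left m hp.pos]
    exact cast_ne_zero_of_not_dvd p m hpm)
  rwa [hl] at h

/-- ASMC, core -/
theorem o9lasmc_core {F : Type*} [Field F] [Fintype F] (p : ℕ) [Fact p.Prime] [CharP F p] (hF : Odd (Fintype.card F)) (a b : F)
    (hab : Aniso a b)
    (hU : ∀ {ι : Type} [Fintype ι] [DecidableEq ι] (Qs : QuadraticForm F (ι → F)) (d : ℕ) (s : ℤ), QStd Qs d s →
      2 * d = p + 1 → OmV F d s p)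
    (hSQ : ∀ (d : ℕ) (s : ℤ) (M : ℕ), OmN F d s (2 * M) → OmR F d s M)
    (hSV : ∀ (d₁ d₂ : ℕ), 1 ≤ d₁ → ∀ (s₁ s₂ : ℤ) (N₁ N₂ : ℕ), OmV F d₁ s₁ N₁ → OmR F d₂ s₂ N₂ →
      ((Nat.lcm N₁ N₂ / N₁ : ℕ) : F) ≠ 0 → OmV F (d₁ + d₂) (s₁ * s₂) (Nat.lcm N₁ N₂))
    (hP : ∀ k : ℕ, 1 ≤ k → OmN F k 1 (Fintype.card F ^ k - 1))
    (hM : ∀ k : ℕ, 1 ≤ k → OmN F k (-1) (Fintype.card F ^ k + 1))
    (n : ℕ)
    (hn : (p = 3 ∧ (2 * n = 3 * (Fintype.card F ^ 2 + 1) ∨ 2 * n = 3 * (Fintype.card F ^ 2 - 1))) ∨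
      (p = 5 ∧ (2 * n = 5 * (Fintype.card F - 1) ∨ 2 * n = 5 * (Fintype.card F + 1))) ∨ (p = 7 ∧ n = 7)) :
    OmV F 4 (-1) n := by
  have hp : p.Prime := Fact.out
  have hpq : p ∣ Fintype.card F := char_dvd_card p
  have e1 : (1 : ℤ) * (-1) = -1 := by norm_num
  have e2 : (-1 : ℤ) * 1 = -1 := by norm_num
  rcases hn with ⟨hp3, hn⟩ | ⟨hp5, hn⟩ | ⟨hp7, hn⟩
  · rcases hn with hn | hn
    · obtain ⟨m, hm, hpm⟩ := o9lasmc_arith p _ hp hpq hF (Fintype.card F ^ 2 + 1) (Or.inl rfl)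
      have hV : OmV F 2 1 p := hU (qfPlus 2 F) 2 1 (q_std_plus 2) (by rw [hp3])
      have h := o9lasmc_comb p hSQ hSV 2 2 (by norm_num) 1 (-1) _ m hV (hM 2 (by norm_num)) hm hpm
      rw [e1] at h
      have hnm : n = p * m := by rw [hp3]; omega
      rw [hnm]
      exact h
    · obtain ⟨m, hm, hpm⟩ := o9lasmc_arith p _ hp hpq hF (Fintype.card F ^ 2 - 1) (Or.inr (Or.inl rfl))
      have hV : OmV F 2 (-1) p := hU (qfMinus (2 - 1) F a b) 2 (-1) (q_std_minus 2 (by norm_num) a b hab) (by rw [hp3])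
      have h := o9lasmc_comb p hSQ hSV 2 2 (by norm_num) (-1) 1 _ m hV (hP 2 (by norm_num)) hm hpm
      rw [e2] at h
      have hnm : n = p * m := by rw [hp3]; omega
      rw [hnm]
      exact h
  · rcases hn with hn | hn
    · obtain ⟨m, hm, hpm⟩ := o9lasmc_arith p _ hp hpq hF (Fintype.card F - 1) (Or.inr (Or.inr (Or.inl rfl)))
      have hV : OmV F 3 (-1) p := hU (qfMinus (3 - 1) F a b) 3 (-1) (q_std_minus 3 (by norm_num) a b hab) (by rw [hp5])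
      have hN1 : OmN F 1 1 (Fintype.card F - 1) := by
        have := hP 1 le_rfl
        rwa [pow_one] at this
      have h := o9lasmc_comb p hSQ hSV 3 1 (by norm_num) (-1) 1 _ m hV hN1 hm hpm
      rw [e2] at h
      have hnm : n = p * m := by rw [hp5]; omega
      rw [hnm]
      exact h
    · obtain ⟨m, hm, hpm⟩ := o9lasmc_arith p _ hp hpq hF (Fintype.card F + 1) (Or.inr (Or.inr (Or.inr rfl)))
      have hV : OmV F 3 1 p := hU (qfPlus 3 F) 3 1 (q_std_plus 3) (by rw [hp5])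
      have hN1 : OmN F 1 (-1) (Fintype.card F + 1) := by
        have := hM 1 le_rfl
        rwa [pow_one] at this
      have h := o9lasmc_comb p hSQ hSV 3 1 (by norm_num) 1 (-1) _ m hV hN1 hm hpm
      rw [e1] at h
      have hnm : n = p * m := by rw [hp5]; omega
      rw [hnm]
      exact h
  · have hV : OmV F 4 (-1) p := hU (qfMinus (4 - 1) F a b) 4 (-1) (q_std_minus 4 (by norm_num) a b hab) (by rw [hp7])
    rw [hn, ← hp7]
    exact hV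

end Cfsg.Agent.Lib.Helper1.O9L
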