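import Mathlib
import Cfsg.Agent.Lib.helper17.OMP.Defs
import Cfsg.Agent.Lib.Lead.STDB1
import Cfsg.Agent.Lib.helper6.STDW14
import Cfsg.Agent.Lib.Helper16.STDH3
import Cfsg.Agent.Lib.Helper16.STDW13

/-!
# Project OMP (designer helper17, gluing block of S2295), rows M2 (`model_blk`, `model_L`) and M3 (`model_r1`) (helper6), VERBATIM vs `OMP/Skel`.
Extras: `ompm2_comm_w` (an element commuting with `x a b u`, `x b a u` commutes with `w a b t`), `ompm2_x01_P` / `ompm2_x10_P` / `ompm2_x01_N` / `ompm2_x10_N` (the four commutations of the `SL₂` on `o0 o1` with the root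
groups of `e₀ + e₁`), `ompm3_phi_wE`, `ompm3_phi_hE` (own-name EXACT copies of M1), `ompm3_w_comm`, `ompm3_y4`.
-/

set_option autoImplicit false

namespace Cfsg.Agent.Lib.helper17.OMP

open Matrix Cfsg.Agent.Lib.helper14.CTE Cfsg.Agent.Lib.helper14.CTA Cfsg.Agent.Lib.helper17.SLN Cfsg.Agent.Lib.Helper28.CTD
  Cfsg.Agent.Lib.helper3.STC Cfsg.Agent.Lib.Lead.STD Cfsg.Agent.Lib.helper15.St2

universe u v w

section M

variable {K : Type u} [Field K] {G : Type v} [Group G] {ι : Type w} [Fintype ι] [DecidableEq ι]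

omit [Fintype ι] [DecidableEq ι] in
/-- an element commuting with the two root groups commutes with the Weyl element -/
theorem ompm2_comm_w (S : SysD K ι G) (a b : ι ⊕ ι) (g : G) (h1 : ∀ u : K, Commute (S.x a b u) g) (h2 : ∀ u : K, Commute (S.x b a u) g)
    (t : K) : Commute (S.w a b t) g := by
  unfold SysD.w
  exact ((h1 t).mul_left (h2 _)).mul_left (h1 t)

omit [Fintype ι] [DecidableEq ι] in
theorem ompm2_x01_P (S : SysD K ι G) (p : Pts ι) (t u : K) :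
    Commute (S.x (Sum.inl p.o0) (Sum.inr p.o1) u) (S.x (Sum.inl p.o0) (Sum.inl p.o1) t) := by
  have h01 : (Sum.inl p.o0 : ι ⊕ ι) ≠ Sum.inl p.o1 := fun h => p.h01 (Sum.inl.inj h)
  have h01' : (Sum.inl p.o0 : ι ⊕ ι) ≠ ng (Sum.inl p.o1) := by simp [ng]
  have h10 : (Sum.inl p.o1 : ι ⊕ ι) ≠ Sum.inl p.o0 := fun h => p.h01 (Sum.inl.inj h).symm
  have h10' : (Sum.inl p.o1 : ι ⊕ ι) ≠ ng (Sum.inl p.o0) := by simp [ng]
  -- `sso` with `a = inl o1`, `b = inl o0`: `x (inl o1) (inl o0)` commutes with `x (inl o0) (inr o1)`; here we need `a = inl o0`, `b = inl o1`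
  have e : S.x (Sum.inl p.o0) (Sum.inr p.o1) u = S.x (Sum.inl p.o1) (Sum.inr p.o0) (-u) := by
    have h := S.sym (Sum.inl p.o0) (Sum.inr p.o1) (by simp) (by simpa [ng] using p.h01) u
    simpa [ng] using h
  rw [e]
  exact (S.sso (Sum.inl p.o0) (Sum.inl p.o1) h01 h01' t (-u)).symm

omit [Fintype ι] [DecidableEq ι] in
theorem ompm2_x10_P (S : SysD K ι G) (p : Pts ι) (t u : K) :
    Commute (S.x (Sum.inl p.o0) (Sum.inr p.o1) u) (S.x (Sum.inl p.o1) (Sum.inl p.o0) t) := by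
  have h10 : (Sum.inl p.o1 : ι ⊕ ι) ≠ Sum.inl p.o0 := fun h => p.h01 (Sum.inl.inj h).symm
  have h10' : (Sum.inl p.o1 : ι ⊕ ι) ≠ ng (Sum.inl p.o0) := by simp [ng]
  have h := S.sso (Sum.inl p.o1) (Sum.inl p.o0) h10 h10' t u
  exact h.symm

omit [Fintype ι] [DecidableEq ι] in
theorem ompm2_x01_N (S : SysD K ι G) (p : Pts ι) (t u : K) :
    Commute (S.x (Sum.inr p.o1) (Sum.inl p.o0) u) (S.x (Sum.inl p.o0) (Sum.inl p.o1) t) := by
  have h1 : (Sum.inr p.o1 : ι ⊕ ι) ≠ Sum.inl p.o0 := by simp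
  have h1' : (Sum.inr p.o1 : ι ⊕ ι) ≠ ng (Sum.inl p.o0) := by
    simp only [ng, Sum.swap_inl, ne_eq, Sum.inr.injEq]; exact fun h => p.h01 h.symm
  exact S.sso (Sum.inr p.o1) (Sum.inl p.o0) h1 h1' u t

omit [Fintype ι] [DecidableEq ι] in
theorem ompm2_x10_N (S : SysD K ι G) (p : Pts ι) (t u : K) :
    Commute (S.x (Sum.inr p.o1) (Sum.inl p.o0) u) (S.x (Sum.inl p.o1) (Sum.inl p.o0) t) := by
  have e : S.x (Sum.inr p.o1) (Sum.inl p.o0) u = S.x (Sum.inr p.o0) (Sum.inl p.o1) (-u) := by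
    have h := S.sym (Sum.inr p.o1) (Sum.inl p.o0) (by simp)
      (by simp only [ng, Sum.swap_inl, ne_eq, Sum.inr.injEq]; exact fun h => p.h01 h.symm) u
    simpa [ng] using h
  rw [e]
  have h1 : (Sum.inr p.o0 : ι ⊕ ι) ≠ Sum.inl p.o1 := by simp
  have h1' : (Sum.inr p.o0 : ι ⊕ ι) ≠ ng (Sum.inl p.o1) := by
    simp only [ng, Sum.swap_inl, ne_eq, Sum.inr.injEq]; exact p.h01
  exact S.sso (Sum.inr p.o0) (Sum.inl p.o1) h1 h1' (-u) t

omit [Fintype ι] [DecidableEq ι] in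
/-- M2 `model_blk` without the instances -/
theorem ompm2_blk (S : SysD K ι G) (p : Pts ι) (i j : ι) (hij : i ≠ j) (hi0 : i ≠ p.o0) (hi1 : i ≠ p.o1) (hj0 : j ≠ p.o0) (hj1 : j ≠ p.o1)
    (t : K) : Commute (S.w (Sum.inl p.o0) (Sum.inr p.o1) 1) (S.x (Sum.inl i) (Sum.inl j) t) := by
  apply ompm2_comm_w
  · intro u
    refine S.comm (Sum.inl p.o0) (Sum.inr p.o1) (Sum.inl i) (Sum.inl j) (by simp) ?_ ?_ (by simp [ng]) (by simp) ?_ ?_ (by simp [ng]) u t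
    · simp only [ng, Sum.swap_inr, ne_eq, Sum.inl.injEq]; exact p.h01
    · simp only [ne_eq, Sum.inl.injEq]; exact hij
    · simp only [ne_eq, Sum.inl.injEq]; exact fun h => hj0 h.symm
    · simp only [ng, Sum.swap_inl, ne_eq, Sum.inr.injEq]; exact fun h => hj1 h.symm
  · intro u
    refine S.comm (Sum.inr p.o1) (Sum.inl p.o0) (Sum.inl i) (Sum.inl j) (by simp) ?_ ?_ (by simp [ng]) ?_ (by simp) (by simp [ng]) ?_ u t
    · simp only [ng, Sum.swap_inl, ne_eq, Sum.inr.injEq]; exact fun h => p.h01 h.symm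
    · simp only [ne_eq, Sum.inl.injEq]; exact hij
    · simp only [ne_eq, Sum.inl.injEq]; exact fun h => hi0 h.symm
    · simp only [ng, Sum.swap_inl, ne_eq, Sum.inr.injEq]; exact fun h => hi1 h.symm

omit [Fintype ι] [DecidableEq ι] in
/-- M2 `model_L` without the instances -/
theorem ompm2_L (S : SysD K ι G) (p : Pts ι) (t : K) :
    Commute (S.w (Sum.inl p.o0) (Sum.inr p.o1) 1) (S.x (Sum.inl p.o0) (Sum.inl p.o1) t) ∧
      Commute (S.w (Sum.inl p.o0) (Sum.inr p.o1) 1) (S.x (Sum.inl p.o1) (Sum.inl p.o0) t) :=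
  ⟨ompm2_comm_w S _ _ _ (fun u => ompm2_x01_P S p t u) (fun u => ompm2_x01_N S p t u) 1,
   ompm2_comm_w S _ _ _ (fun u => ompm2_x10_P S p t u) (fun u => ompm2_x10_N S p t u) 1⟩

/-- M2 [S-M] (two statements, one file)  `y₀ = S.w (inl 0) (inr 1) 1` is a product of `x (inl 0) (inr 1) _`, `x (inr 1) (inl 0) _`.  Block: `S.comm` (indices disjoint).  The `SL₂` on `0, 1`: `S.sso` and `S.sym`
(`x (inl 0) (inl 1) t` commutes with `x (inl 1) (inr 0) u = x (inl 0) (inr 1) (-u)`; `x (inr 1) (inl 0) t` commutes with `x (inl 0) (inl 1) u`; the other two by `S.sym`: `x (inl 1) (inl 0) t = x (inr 0) (inr 1) (-t)`). -/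
theorem model_blk (S : SysD K ι G) (p : Pts ι) (i j : ι) (hij : i ≠ j) (hi0 : i ≠ p.o0) (hi1 : i ≠ p.o1) (hj0 : j ≠ p.o0) (hj1 : j ≠ p.o1)
    (t : K) : Commute (S.w (Sum.inl p.o0) (Sum.inr p.o1) 1) (S.x (Sum.inl i) (Sum.inl j) t) :=
  ompm2_blk S p i j hij hi0 hi1 hj0 hj1 t

theorem model_L (S : SysD K ι G) (p : Pts ι) (t : K) :
    Commute (S.w (Sum.inl p.o0) (Sum.inr p.o1) 1) (S.x (Sum.inl p.o0) (Sum.inl p.o1) t) ∧
      Commute (S.w (Sum.inl p.o0) (Sum.inr p.o1) 1) (S.x (Sum.inl p.o1) (Sum.inl p.o0) t) :=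
  ompm2_L S p t

/-! ## M3 -/

/-- own-name EXACT copy of M1 `phi_wE` -/
theorem ompm3_phi_wE (S : SysD K ι G) (φ : Matrix.SpecialLinearGroup ι K →* G)
    (hφ : ∀ i j t, φ (tv i j t) = S.x (Sum.inl i) (Sum.inl j) t) (i j : ι) : φ (wE i j) = S.w (Sum.inl i) (Sum.inl j) 1 := by
  unfold wE SysD.w
  rw [map_mul, map_mul, hφ, hφ, inv_one]

/-- own-name EXACT copy of M1 `phi_hE` -/
theorem ompm3_phi_hE (S : SysD K ι G) (φ : Matrix.SpecialLinearGroup ι K →* G)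
    (hφ : ∀ i j t, φ (tv i j t) = S.x (Sum.inl i) (Sum.inl j) t) (i j : ι) (s : K) :
    φ (hE i j s) = S.h (Sum.inl i) (Sum.inl j) s := by
  unfold hE SysD.h SysD.w
  simp only [map_mul, hφ]
  have e : (-(-1 : K)⁻¹) = 1 := by rw [inv_neg, inv_one, neg_neg]
  rw [e]

omit [Fintype ι] [DecidableEq ι] in
/-- the Weyl elements of the two `SL₂`s commute with `y₀` -/
theorem ompm3_w_comm (S : SysD K ι G) (p : Pts ι) :
    Commute (S.w (Sum.inl p.o0) (Sum.inr p.o1) 1) (S.w (Sum.inl p.o0) (Sum.inl p.o1) 1) ∧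
      Commute (S.w (Sum.inl p.o0) (Sum.inr p.o1) 1) (S.w (Sum.inl p.o2) (Sum.inl p.o3) 1) := by
  constructor
  · exact (ompm2_comm_w S _ _ _ (fun u => ((ompm2_L S p u).1).symm) (fun u => ((ompm2_L S p u).2).symm) 1).symm
  · exact (ompm2_comm_w S _ _ _
      (fun u => (ompm2_blk S p p.o2 p.o3 p.h23 p.h02.symm p.h12.symm p.h03.symm p.h13.symm u).symm)
      (fun u => (ompm2_blk S p p.o3 p.o2 p.h23.symm p.h03.symm p.h13.symm p.h02.symm p.h12.symm u).symm) 1).symm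

omit [Fintype ι] in
/-- `h_{12}(-1)` inverts `y₀` -/
theorem ompm3_h_cj [Finite K] (S : SysD K ι G) (p : Pts ι) :
    cj (S.h (Sum.inl p.o1) (Sum.inl p.o2) (-1)) (S.w (Sum.inl p.o0) (Sum.inr p.o1) 1) = (S.w (Sum.inl p.o0) (Sum.inr p.o1) 1)⁻¹ := by
  have h12 : (Sum.inl p.o1 : ι ⊕ ι) ≠ Sum.inl p.o2 := fun h => p.h12 (Sum.inl.inj h)
  have h12' : (Sum.inl p.o1 : ι ⊕ ι) ≠ ng (Sum.inl p.o2) := by simp [ng]
  have hm := S.isMon_h h12 h12' (-1) (by simp)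
  rw [hm.cj_w S (a := Sum.inl p.o0) (b := Sum.inr p.o1) (by simp) 1 one_ne_zero]
  have d0 : dhs (Sum.inl p.o1) (Sum.inl p.o2) (-1 : K) (Sum.inl p.o0) = 1 := by
    unfold dhs
    have e1 : ¬ ((Sum.inl p.o0 : ι ⊕ ι) = Sum.inl p.o1 ∨ (Sum.inl p.o0 : ι ⊕ ι) = ng (Sum.inl p.o2)) := by
      simp only [ng, Sum.swap_inl, Sum.inl.injEq, reduceCtorEq, or_false]; exact p.h01
    have e2 : ¬ ((Sum.inl p.o0 : ι ⊕ ι) = Sum.inl p.o2 ∨ (Sum.inl p.o0 : ι ⊕ ι) = ng (Sum.inl p.o1)) := by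
      simp only [ng, Sum.swap_inl, Sum.inl.injEq, reduceCtorEq, or_false]; exact p.h02
    rw [if_neg e1, if_neg e2]
  have d1 : dhs (Sum.inl p.o1) (Sum.inl p.o2) (-1 : K) (Sum.inr p.o1) = -1 := by
    unfold dhs
    have e1 : ¬ ((Sum.inr p.o1 : ι ⊕ ι) = Sum.inl p.o1 ∨ (Sum.inr p.o1 : ι ⊕ ι) = ng (Sum.inl p.o2)) := by
      simp only [ng, Sum.swap_inl, Sum.inr.injEq, reduceCtorEq, false_or]; exact p.h12
    have e2 : ((Sum.inr p.o1 : ι ⊕ ι) = Sum.inl p.o2 ∨ (Sum.inr p.o1 : ι ⊕ ι) = ng (Sum.inl p.o1)) := by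
      right; simp [ng]
    rw [if_neg e1, if_pos e2, inv_neg, inv_one]
  rw [d0, d1]
  have e : (1 : K) * (-1)⁻¹ * 1 = -1 := by rw [inv_neg, inv_one]; ring
  rw [e, S.w_neg]
  rfl

omit [Fintype ι] [DecidableEq ι] in
/-- `y₀⁻¹ = y₀ * h_{01}(-1)` (from the spin relation) -/
theorem ompm3_y4 [Finite K] (S : SysD K ι G) (hS : S.Spin) (p : Pts ι) :
    (S.w (Sum.inl p.o0) (Sum.inr p.o1) 1)⁻¹ = S.w (Sum.inl p.o0) (Sum.inr p.o1) 1 * S.h (Sum.inl p.o0) (Sum.inl p.o1) (-1) := by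
  have hab : (Sum.inl p.o0 : ι ⊕ ι) ≠ Sum.inr p.o1 := by simp
  have hab' : (Sum.inl p.o0 : ι ⊕ ι) ≠ ng (Sum.inr p.o1) := by
    simp only [ng, Sum.swap_inr, ne_eq, Sum.inl.injEq]; exact p.h01
  have h01 : (Sum.inl p.o0 : ι ⊕ ι) ≠ Sum.inl p.o1 := fun h => p.h01 (Sum.inl.inj h)
  have h01' : (Sum.inl p.o0 : ι ⊕ ι) ≠ ng (Sum.inl p.o1) := by simp [ng]
  have hs := hS (Sum.inl p.o0) (Sum.inr p.o1) hab hab'
  have e1 : ng (Sum.inr p.o1 : ι ⊕ ι) = Sum.inl p.o1 := rfl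
  rw [e1] at hs
  set y := S.w (Sum.inl p.o0) (Sum.inr p.o1) 1 with hy
  set H := S.h (Sum.inl p.o0) (Sum.inl p.o1) (-1) with hH
  have e2 : S.h (Sum.inl p.o0) (Sum.inr p.o1) (-1) = y⁻¹ * y⁻¹ := by
    show S.w _ _ (-1) * S.w _ _ (-1) = _
    rw [S.w_neg]
  rw [e2] at hs
  have hHH : H * H = 1 := by
    rw [hH, S.h_mul h01 h01' (-1) (-1) (by simp) (by simp)]
    have : ((-1 : K) * -1) = 1 := by ring
    rw [this, S.h_one]
  -- `H = y * y`, `H * H = 1`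
  have e3 : H = y * y := by
    have := congrArg (fun z => y * y * z) hs
    simp only [mul_one] at this
    rw [← this]; group
  rw [e3] at hHH ⊢
  have : y * (y * y) * y = 1 := by rw [← hHH]; group
  calc y⁻¹ = y⁻¹ * (y * (y * y) * y) := by rw [this, mul_one]
    _ = y * (y * y) := by group

/-- M3, proof -/
theorem ompm3_r1 [Finite K] (S : SysD K ι G) (hS : S.Spin) (p : Pts ι) (φ : Matrix.SpecialLinearGroup ι K →* G)
    (hφ : ∀ i j t, φ (tv i j t) = S.x (Sum.inl i) (Sum.inl j) t) :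
    φ (nu0 p) * S.w (Sum.inl p.o0) (Sum.inr p.o1) 1 * (φ (nu0 p))⁻¹ = S.w (Sum.inl p.o0) (Sum.inr p.o1) 1 * φ (hm p.o0 p.o1) := by
  have e0 : φ (nu0 p) = S.w (Sum.inl p.o0) (Sum.inl p.o1) 1 * S.w (Sum.inl p.o2) (Sum.inl p.o3) 1 * S.h (Sum.inl p.o1) (Sum.inl p.o2) (-1) := by
    unfold nu0 hm
    rw [map_mul, map_mul, ompm3_phi_wE S φ hφ, ompm3_phi_wE S φ hφ, ompm3_phi_hE S φ hφ]
  have e1 : φ (hm p.o0 p.o1) = S.h (Sum.inl p.o0) (Sum.inl p.o1) (-1) := by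
    unfold hm; rw [ompm3_phi_hE S φ hφ]
  rw [e0, e1, ← ompm3_y4 S hS p]
  obtain ⟨c1, c2⟩ := ompm3_w_comm S p
  have hh := ompm3_h_cj S p
  unfold cj at hh
  set y := S.w (Sum.inl p.o0) (Sum.inr p.o1) 1 with hy
  set w1 := S.w (Sum.inl p.o0) (Sum.inl p.o1) 1
  set w2 := S.w (Sum.inl p.o2) (Sum.inl p.o3) 1
  set hh12 := S.h (Sum.inl p.o1) (Sum.inl p.o2) (-1)
  have c1' : w1 * y⁻¹ = y⁻¹ * w1 := (c1.symm.inv_right).eq
  have c2' : w2 * y⁻¹ = y⁻¹ * w2 := (c2.symm.inv_right).eq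
  calc w1 * w2 * hh12 * y * (w1 * w2 * hh12)⁻¹ = w1 * w2 * (hh12 * y * hh12⁻¹) * w2⁻¹ * w1⁻¹ := by group
    _ = w1 * (w2 * y⁻¹) * w2⁻¹ * w1⁻¹ := by rw [hh]; group
    _ = w1 * y⁻¹ * w1⁻¹ := by rw [c2']; group
    _ = y⁻¹ := by rw [c1']; group

/-- M3 [M]  **`r1` in the model.**  `φ (nu0 p) = w w' h` with `w = S.w (inl 0) (inl 1) 1`, `w' = S.w (inl 2) (inl 3) 1` (M1) commuting with `y₀` (M2, products), `h = S.h (inl 1) (inl 2) (-1)` (M1) acting diagonally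
(`isMon_h` of `Helper16.STDH3`, coefficients `dhs`: `-1` at `inl 1, inl 2, inr 1, inr 2`): `cj h (x (inl 0) (inr 1) t) = x _ _ (-t)`, `cj h (x (inr 1) (inl 0) t) = x _ _ (-t)`, so `cj h y₀ = S.w _ _ (-1) = y₀⁻¹`
(`w_neg` of `Lead.STDB1`).  `y₀⁻¹ = y₀ * φ (hm 0 1)`: `hS (inl 0) (inr 1)` reads `S.h (inl 0) (inr 1) (-1) * S.h (inl 0) (inl 1) (-1) = 1` and `S.h a b (-1) = S.w a b (-1) * S.w a b (-1) = y₀⁻¹ * y₀⁻¹`. -/
theorem model_r1 [Finite K] (S : SysD K ι G) (hS : S.Spin) (p : Pts ι) (φ : Matrix.SpecialLinearGroup ι K →* G)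
    (hφ : ∀ i j t, φ (tv i j t) = S.x (Sum.inl i) (Sum.inl j) t) :
    φ (nu0 p) * S.w (Sum.inl p.o0) (Sum.inr p.o1) 1 * (φ (nu0 p))⁻¹ = S.w (Sum.inl p.o0) (Sum.inr p.o1) 1 * φ (hm p.o0 p.o1) :=
  ompm3_r1 S hS p φ hφ

end M

end Cfsg.Agent.Lib.helper17.OMP
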