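import Mathlib
import Cfsg.Agent.Lib.helper17.OMP.Defs
import Cfsg.Agent.Lib.Lead.STDB1
import Cfsg.Agent.Lib.helper6.STDW14
import Cfsg.Agent.Lib.Helper16.STDW13
import Cfsg.Agent.Lib.Helper16.STDX2
import Cfsg.Agent.Lib.helper6.OMPM2
import Cfsg.Agent.Lib.helper15.OMPM4
import Cfsg.Agent.Lib.helper15.OMPM5

/-!
# Project OMP (designer helper17, gluing block of S2295), rows M6 (`model_P01`, `model_N01`) and M7 (`model_rel`) (helper6), VERBATIM vs `OMP/Skel`.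
Extras: `ompm6_cj_x` (conjugation of a root element by `S.w a b 1`), `ompm7_hE_comm`, `ompm7_r3`.
-/

set_option autoImplicit false

namespace Cfsg.Agent.Lib.helper17.OMP

open Matrix Cfsg.Agent.Lib.helper14.CTE Cfsg.Agent.Lib.helper14.CTA Cfsg.Agent.Lib.helper17.SLN Cfsg.Agent.Lib.Helper28.CTD
  Cfsg.Agent.Lib.helper3.STC Cfsg.Agent.Lib.Lead.STD Cfsg.Agent.Lib.helper15.St2

universe u v w

section M

variable {K : Type u} [Field K] {G : Type v} [Group G] {ι : Type w} [Fintype ι] [DecidableEq ι]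

omit [Fintype ι] in
/-- conjugation of `S.x c d t` by `S.w a b 1` -/
theorem ompm6_cj_x [Finite K] (S : SysD K ι G) {a b : ι ⊕ ι} (hab : a ≠ b) (hab' : a ≠ ng b) {c d : ι ⊕ ι} (hcd : c ≠ d) (t : K) :
    S.w a b 1 * S.x c d t * (S.w a b 1)⁻¹ =
      S.x (sws a b c) (sws a b d) (dwd a b (1 : K) c * (dwd a b (1 : K) d)⁻¹ * t) :=
  (S.isMon_w hab hab' (1 : K) one_ne_zero).2 c d hcd t

/-- M6 [M] (two statements, one file)  **`P01`, `N01` in the model**: M4 and `isMon_w` for `S.w (inl 1) (inr 2) 1` (`sws` maps `inl 2 ↦ inr 1`; `dwd`: `inl 2 = ng b ↦ 1`, `inl 0 ↦ 1`). -/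
theorem model_P01 [Finite K] (S : SysD K ι G) (p : Pts ι) (φ : Matrix.SpecialLinearGroup ι K →* G)
    (hφ : ∀ i j t, φ (tv i j t) = S.x (Sum.inl i) (Sum.inl j) t) :
    P01 p φ (S.w (Sum.inl p.o0) (Sum.inr p.o1) 1) = S.x (Sum.inl p.o0) (Sum.inr p.o1) 1 := by
  unfold P01
  rw [model_Y12 S p φ hφ, hφ]
  have hab : (Sum.inl p.o1 : ι ⊕ ι) ≠ Sum.inr p.o2 := fun h => by cases h
  have hab' : (Sum.inl p.o1 : ι ⊕ ι) ≠ ng (Sum.inr p.o2) := fun h => p.h12 (Sum.inl.inj h)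
  have hcd : (Sum.inl p.o0 : ι ⊕ ι) ≠ Sum.inl p.o2 := fun h => p.h02 (Sum.inl.inj h)
  rw [ompm6_cj_x S hab hab' hcd]
  have e1 : sws (Sum.inl p.o1 : ι ⊕ ι) (Sum.inr p.o2) (Sum.inl p.o0) = Sum.inl p.o0 :=
    SysD.sws_of_ne (fun h => p.h01 (Sum.inl.inj h)) (fun h => by cases h)
      (fun h => by cases h) (fun h => p.h02 (Sum.inl.inj h))
  have e2 : sws (Sum.inl p.o1 : ι ⊕ ι) (Sum.inr p.o2) (Sum.inl p.o2) = Sum.inr p.o1 :=
    SysD.stdx2_sws_nright hab'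
  have e3 : dwd (Sum.inl p.o1 : ι ⊕ ι) (Sum.inr p.o2) (1 : K) (Sum.inl p.o0) = 1 :=
    stdw14_dwd_of_ne (fun h => p.h01 (Sum.inl.inj h)) (fun h => by cases h)
      (fun h => by cases h) (fun h => p.h02 (Sum.inl.inj h)) 1
  have e4 : dwd (Sum.inl p.o1 : ι ⊕ ι) (Sum.inr p.o2) (1 : K) (Sum.inl p.o2) = 1 := by
    have := stdw14_dwd_nb hab' (1 : K)
    rw [inv_one] at this
    exact this
  rw [e1, e2, e3, e4, inv_one, mul_one, mul_one]

theorem model_N01 [Finite K] (S : SysD K ι G) (p : Pts ι) (φ : Matrix.SpecialLinearGroup ι K →* G)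
    (hφ : ∀ i j t, φ (tv i j t) = S.x (Sum.inl i) (Sum.inl j) t) :
    N01 p φ (S.w (Sum.inl p.o0) (Sum.inr p.o1) 1) = S.x (Sum.inr p.o1) (Sum.inl p.o0) 1 := by
  unfold N01
  rw [model_Y12 S p φ hφ, hφ]
  have hab : (Sum.inl p.o1 : ι ⊕ ι) ≠ Sum.inr p.o2 := fun h => by cases h
  have hab' : (Sum.inl p.o1 : ι ⊕ ι) ≠ ng (Sum.inr p.o2) := fun h => p.h12 (Sum.inl.inj h)
  have hcd : (Sum.inl p.o2 : ι ⊕ ι) ≠ Sum.inl p.o0 := fun h => p.h02 (Sum.inl.inj h).symm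
  rw [ompm6_cj_x S hab hab' hcd]
  have e1 : sws (Sum.inl p.o1 : ι ⊕ ι) (Sum.inr p.o2) (Sum.inl p.o0) = Sum.inl p.o0 :=
    SysD.sws_of_ne (fun h => p.h01 (Sum.inl.inj h)) (fun h => by cases h)
      (fun h => by cases h) (fun h => p.h02 (Sum.inl.inj h))
  have e2 : sws (Sum.inl p.o1 : ι ⊕ ι) (Sum.inr p.o2) (Sum.inl p.o2) = Sum.inr p.o1 :=
    SysD.stdx2_sws_nright hab'
  have e3 : dwd (Sum.inl p.o1 : ι ⊕ ι) (Sum.inr p.o2) (1 : K) (Sum.inl p.o0) = 1 :=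
    stdw14_dwd_of_ne (fun h => p.h01 (Sum.inl.inj h)) (fun h => by cases h)
      (fun h => by cases h) (fun h => p.h02 (Sum.inl.inj h)) 1
  have e4 : dwd (Sum.inl p.o1 : ι ⊕ ι) (Sum.inr p.o2) (1 : K) (Sum.inl p.o2) = 1 := by
    have := stdw14_dwd_nb hab' (1 : K)
    rw [inv_one] at this
    exact this
  rw [e1, e2, e3, e4, inv_one, mul_one, mul_one]

/-! ## M7 -/

omit [Fintype ι] [DecidableEq ι] in
/-- `y₀` commutes with the torus elements of the `SL₂` on `o0 o1` -/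
theorem ompm7_h01_comm (S : SysD K ι G) (p : Pts ι) (s : K) :
    Commute (S.w (Sum.inl p.o0) (Sum.inr p.o1) 1) (S.h (Sum.inl p.o0) (Sum.inl p.o1) s) := by
  have hw : ∀ t : K, Commute (S.w (Sum.inl p.o0) (Sum.inr p.o1) 1) (S.w (Sum.inl p.o0) (Sum.inl p.o1) t) := fun t =>
    (ompm2_comm_w S _ _ _ (fun u => ((ompm2_L S p u).1).symm) (fun u => ((ompm2_L S p u).2).symm) t).symm
  unfold SysD.h
  exact (hw s).mul_right (hw (-1))

omit [Fintype ι] [DecidableEq ι] in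
/-- `y₀` commutes with the torus elements of the block -/
theorem ompm7_hblk_comm (S : SysD K ι G) (p : Pts ι) (i j : ι) (hij : i ≠ j) (hi0 : i ≠ p.o0) (hi1 : i ≠ p.o1) (hj0 : j ≠ p.o0)
    (hj1 : j ≠ p.o1) (s : K) :
    Commute (S.w (Sum.inl p.o0) (Sum.inr p.o1) 1) (S.h (Sum.inl i) (Sum.inl j) s) := by
  have hw : ∀ t : K, Commute (S.w (Sum.inl p.o0) (Sum.inr p.o1) 1) (S.w (Sum.inl i) (Sum.inl j) t) := fun t =>
    (ompm2_comm_w S _ _ _ (fun u => (ompm2_blk S p i j hij hi0 hi1 hj0 hj1 u).symm)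
      (fun u => (ompm2_blk S p j i hij.symm hj0 hj1 hi0 hi1 u).symm) t).symm
  unfold SysD.h
  exact (hw s).mul_right (hw (-1))

/-- `r3` in the model -/
theorem ompm7_r3 (S : SysD K ι G) (p : Pts ι) (c : Matrix.SpecialLinearGroup ι K)
    (hc : c ∈ Subgroup.closure {x : Matrix.SpecialLinearGroup ι K |
      ∃ (i j : ι) (t : K), i ≠ j ∧ i ≠ p.o0 ∧ i ≠ p.o1 ∧ j ≠ p.o0 ∧ j ≠ p.o1 ∧ x = tv i j t})
    (φ : Matrix.SpecialLinearGroup ι K →* G) (hφ : ∀ i j t, φ (tv i j t) = S.x (Sum.inl i) (Sum.inl j) t) :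
    Commute (S.w (Sum.inl p.o0) (Sum.inr p.o1) 1) (φ c) := by
  induction hc using Subgroup.closure_induction with
  | mem x hx =>
    obtain ⟨i, j, t, hij, hi0, hi1, hj0, hj1, rfl⟩ := hx
    rw [hφ]
    exact ompm2_blk S p i j hij hi0 hi1 hj0 hj1 t
  | one => rw [map_one]; exact Commute.one_right _
  | mul x y _ _ hx hy => rw [map_mul]; exact hx.mul_right hy
  | inv x _ hx => rw [map_inv]; exact hx.inv_right

/-- M7, proof -/
theorem ompm7_rel [Finite K] (S : SysD K ι G) (hS : S.Spin) (p : Pts ι) (ζ : K) (c : Matrix.SpecialLinearGroup ι K)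
    (hc : c ∈ Subgroup.closure {x : Matrix.SpecialLinearGroup ι K |
      ∃ (i j : ι) (t : K), i ≠ j ∧ i ≠ p.o0 ∧ i ≠ p.o1 ∧ j ≠ p.o0 ∧ j ≠ p.o1 ∧ x = tv i j t})
    (φ : Matrix.SpecialLinearGroup ι K →* G) (hφ : ∀ i j t, φ (tv i j t) = S.x (Sum.inl i) (Sum.inl j) t) :
    ORel p ζ c φ (S.w (Sum.inl p.o0) (Sum.inr p.o1) 1) := by
  refine ⟨ompm3_r1 S hS p φ hφ, ?_, ?_, ompm7_r3 S p c hc φ hφ, model_r5 S p φ hφ, ?_, ?_⟩
  · rw [map_mul, hφ, ompm3_phi_hE S φ hφ]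
    exact ((ompm2_L S p 1).1).mul_right
      (ompm7_hblk_comm S p p.o2 p.o3 p.h23 p.h02.symm p.h12.symm p.h03.symm p.h13.symm ζ)
  · rw [map_mul, hφ, ompm3_phi_hE S φ hφ]
    exact (ompm2_blk S p p.o2 p.o3 p.h23 p.h02.symm p.h12.symm p.h03.symm p.h13.symm 1).mul_right
      (ompm7_h01_comm S p ζ)
  · rw [model_P01 S p φ hφ, hφ]
    exact (ompm2_x01_P S p 1 1).symm
  · intro _
    rw [model_P01 S p φ hφ, model_N01 S p φ hφ, hφ]
    constructor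
    · refine S.comm (Sum.inl p.o2) (Sum.inl p.o3) (Sum.inl p.o0) (Sum.inr p.o1) ?_ (by simp [ng]) (by simp) ?_ ?_ (by simp) ?_ (by simp [ng]) 1 1
      · simp only [ne_eq, Sum.inl.injEq]; exact p.h23
      · simp only [ng, Sum.swap_inr, ne_eq, Sum.inl.injEq]; exact p.h01
      · simp only [ne_eq, Sum.inl.injEq]; exact p.h03.symm
      · simp only [ng, Sum.swap_inr, ne_eq, Sum.inl.injEq]; exact p.h13.symm
    · refine S.comm (Sum.inl p.o2) (Sum.inl p.o3) (Sum.inr p.o1) (Sum.inl p.o0) ?_ (by simp [ng]) (by simp) ?_ (by simp) ?_ (by simp [ng]) ?_ 1 1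
      · simp only [ne_eq, Sum.inl.injEq]; exact p.h23
      · simp only [ng, Sum.swap_inl, ne_eq, Sum.inr.injEq]; exact p.h01.symm
      · simp only [ne_eq, Sum.inl.injEq]; exact p.h02.symm
      · simp only [ng, Sum.swap_inr, ne_eq, Sum.inl.injEq]; exact p.h12.symm

/-- M7 [M]  **all the relators hold in the model.**  `r1`: M3.  `ra rb r3`: M2 + M1 (products; `hc`: `c` is a product of block transvections, closure induction).  `r5`: M5.  `r7`: M6 and `S.sso (inl 0) (inl 1)`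
(`x (inl 0) (inl 1) 1` commutes with `x (inl 1) (inr 0) u = x (inl 0) (inr 1) (-u)`).  `r8`: M6 and `S.comm`. -/
theorem model_rel [Finite K] (S : SysD K ι G) (hS : S.Spin) (p : Pts ι) (ζ : K) (c : Matrix.SpecialLinearGroup ι K)
    (hc : c ∈ Subgroup.closure {x : Matrix.SpecialLinearGroup ι K |
      ∃ (i j : ι) (t : K), i ≠ j ∧ i ≠ p.o0 ∧ i ≠ p.o1 ∧ j ≠ p.o0 ∧ j ≠ p.o1 ∧ x = tv i j t})
    (φ : Matrix.SpecialLinearGroup ι K →* G) (hφ : ∀ i j t, φ (tv i j t) = S.x (Sum.inl i) (Sum.inl j) t) :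
    ORel p ζ c φ (S.w (Sum.inl p.o0) (Sum.inr p.o1) 1) :=
  ompm7_rel S hS p ζ c hc φ hφ

end M

end Cfsg.Agent.Lib.helper17.OMP
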