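import Mathlib
import Cfsg.Agent.Lib.helper17.OMP.Defs
import Cfsg.Agent.Lib.Lead.STDB1
import Cfsg.Agent.Lib.helper6.STDW14
import Cfsg.Agent.Lib.Helper16.STDW13
import Cfsg.Agent.Lib.Helper16.STDX2

/-!
# Project OMP (designer helper17, gluing block of S2295), row M9 (`xq_gen`) (helper6), VERBATIM vs `OMP/Skel`.
Extras: `ompm9_sws_inl` / `ompm9_sws_inr` (the permutation of a type `A` Weyl element on signed indices), `ompm9_dwd_pm` (`dwd a b 1 k = 1 ∨ = -1`),
`ompm9_step` (a type `A` Weyl element moves `w (inl c) (inr d) 1` to `w (inl (swap i j c)) (inr (swap i j d)) 1` inside a subgroup), `ompm9_w_mem`, `ompm9_xP_mem`, `ompm9_xN_mem`,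
`ompm9_exists_third`.
-/

set_option autoImplicit false

namespace Cfsg.Agent.Lib.helper17.OMP

open Matrix Cfsg.Agent.Lib.helper14.CTE Cfsg.Agent.Lib.helper14.CTA Cfsg.Agent.Lib.helper17.SLN Cfsg.Agent.Lib.Helper28.CTD
  Cfsg.Agent.Lib.helper3.STC Cfsg.Agent.Lib.Lead.STD Cfsg.Agent.Lib.helper15.St2

universe u v w

section M

variable {K : Type u} [Field K] {G : Type v} [Group G] {ι : Type w} [Fintype ι] [DecidableEq ι]

omit [Fintype ι] in
theorem ompm9_sws_inl (i j c : ι) : sws (Sum.inl i : ι ⊕ ι) (Sum.inl j) (Sum.inl c) = Sum.inl (Equiv.swap i j c) := by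
  unfold sws
  rw [Equiv.Perm.mul_apply]
  have e1 : Equiv.swap (ng (Sum.inl i : ι ⊕ ι)) (ng (Sum.inl j)) (Sum.inl c) = Sum.inl c :=
    Equiv.swap_apply_of_ne_of_ne (fun h => by cases h) (fun h => by cases h)
  rw [e1]
  by_cases hci : c = i
  · subst hci; rw [Equiv.swap_apply_left, Equiv.swap_apply_left]
  by_cases hcj : c = j
  · subst hcj; rw [Equiv.swap_apply_right, Equiv.swap_apply_right]
  rw [Equiv.swap_apply_of_ne_of_ne hci hcj,
    Equiv.swap_apply_of_ne_of_ne (fun h => hci (Sum.inl.inj h)) (fun h => hcj (Sum.inl.inj h))]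

omit [Fintype ι] in
theorem ompm9_sws_inr (i j c : ι) : sws (Sum.inl i : ι ⊕ ι) (Sum.inl j) (Sum.inr c) = Sum.inr (Equiv.swap i j c) := by
  unfold sws
  rw [Equiv.Perm.mul_apply]
  have e0 : ∀ d : ι, Equiv.swap (Sum.inl i : ι ⊕ ι) (Sum.inl j) (Sum.inr d) = Sum.inr d := fun d =>
    Equiv.swap_apply_of_ne_of_ne (fun h => by cases h) (fun h => by cases h)
  have e1 : Equiv.swap (ng (Sum.inl i : ι ⊕ ι)) (ng (Sum.inl j)) (Sum.inr c) = Sum.inr (Equiv.swap i j c) := by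
    show Equiv.swap (Sum.inr i : ι ⊕ ι) (Sum.inr j) (Sum.inr c) = Sum.inr (Equiv.swap i j c)
    by_cases hci : c = i
    · subst hci; rw [Equiv.swap_apply_left, Equiv.swap_apply_left]
    by_cases hcj : c = j
    · subst hcj; rw [Equiv.swap_apply_right, Equiv.swap_apply_right]
    rw [Equiv.swap_apply_of_ne_of_ne hci hcj,
      Equiv.swap_apply_of_ne_of_ne (fun h => hci (Sum.inr.inj h)) (fun h => hcj (Sum.inr.inj h))]
  rw [e1, e0]

omit [Fintype ι] in
theorem ompm9_dwd_pm (a b k : ι ⊕ ι) : dwd a b (1 : K) k = 1 ∨ dwd a b (1 : K) k = -1 := by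
  unfold dwd
  split_ifs <;> simp

omit [Fintype ι] in
/-- a subgroup containing the type `A` root elements is stable under the move of `w (inl c) (inr d) 1` by a transposition -/
theorem ompm9_step [Finite K] (S : SysD K ι G) (C : Subgroup G) (hA : ∀ (i j : ι) (t : K), S.x (Sum.inl i) (Sum.inl j) t ∈ C)
    (c d i j : ι) (hij : i ≠ j) (h : S.w (Sum.inl c) (Sum.inr d) 1 ∈ C) :
    S.w (Sum.inl (Equiv.swap i j c)) (Sum.inr (Equiv.swap i j d)) 1 ∈ C := by
  have hab : (Sum.inl i : ι ⊕ ι) ≠ Sum.inl j := fun h => hij (Sum.inl.inj h)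
  have hab' : (Sum.inl i : ι ⊕ ι) ≠ ng (Sum.inl j) := fun h => by cases h
  have hg : S.w (Sum.inl i) (Sum.inl j) 1 ∈ C := by
    unfold SysD.w
    exact C.mul_mem (C.mul_mem (hA _ _ _) (hA _ _ _)) (hA _ _ _)
  have hM := S.isMon_w hab hab' (1 : K) one_ne_zero
  have hcd : (Sum.inl c : ι ⊕ ι) ≠ Sum.inr d := fun h => by cases h
  have e := SysD.IsMon.cj_w S hM hcd (1 : K) one_ne_zero
  rw [ompm9_sws_inl, ompm9_sws_inr, mul_one] at e
  have hmem : cj (S.w (Sum.inl i) (Sum.inl j) 1) (S.w (Sum.inl c) (Sum.inr d) 1) ∈ C := by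
    unfold cj
    exact C.mul_mem (C.mul_mem hg h) (C.inv_mem hg)
  rw [e] at hmem
  rcases ompm9_dwd_pm (K := K) (Sum.inl i) (Sum.inl j) (Sum.inl c) with h1 | h1 <;>
    rcases ompm9_dwd_pm (K := K) (Sum.inl i) (Sum.inl j) (Sum.inr d) with h2 | h2
  · rw [h1, h2, inv_one, mul_one] at hmem; exact hmem
  · rw [h1, h2, inv_neg, inv_one, one_mul, S.w_neg] at hmem
    exact (C.inv_mem_iff).mp hmem
  · rw [h1, h2, inv_one, mul_one, S.w_neg] at hmem
    exact (C.inv_mem_iff).mp hmem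
  · rw [h1, h2, inv_neg, inv_one, neg_mul_neg, mul_one] at hmem; exact hmem

omit [Fintype ι] in
/-- all the `w (inl a) (inr b) 1`, `a ≠ b`, lie in a subgroup containing the type `A` root elements and `y₀` -/
theorem ompm9_w_mem [Finite K] (S : SysD K ι G) (p : Pts ι) (C : Subgroup G)
    (hA : ∀ (i j : ι) (t : K), S.x (Sum.inl i) (Sum.inl j) t ∈ C) (hy : S.w (Sum.inl p.o0) (Sum.inr p.o1) 1 ∈ C)
    (a b : ι) (hab : a ≠ b) : S.w (Sum.inl a) (Sum.inr b) 1 ∈ C := by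
  -- first move `o0` to `a`
  have h1 : ∃ b', b' ≠ a ∧ S.w (Sum.inl a) (Sum.inr b') 1 ∈ C := by
    by_cases h0 : p.o0 = a
    · exact ⟨p.o1, fun h => p.h01 (h0.trans h.symm), h0 ▸ hy⟩
    · refine ⟨Equiv.swap p.o0 a p.o1, ?_, ?_⟩
      · intro h
        have : Equiv.swap p.o0 a p.o1 = Equiv.swap p.o0 a p.o0 := by rw [h, Equiv.swap_apply_left]
        exact p.h01 ((Equiv.swap p.o0 a).injective this).symm
      · have := ompm9_step S C hA p.o0 p.o1 p.o0 a h0 hy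
        rw [Equiv.swap_apply_left] at this
        exact this
  obtain ⟨b', hb', hw⟩ := h1
  by_cases hbb : b' = b
  · exact hbb ▸ hw
  · have := ompm9_step S C hA a b' b' b hbb hw
    rw [Equiv.swap_apply_left, Equiv.swap_apply_of_ne_of_ne hb'.symm hab] at this
    exact this

omit [Fintype ι] in
/-- `x (inl a) (inr b) t` is a conjugate of `x (inl a) (inl k) t` -/
theorem ompm9_xP_mem [Finite K] (S : SysD K ι G) (C : Subgroup G) (hA : ∀ (i j : ι) (t : K), S.x (Sum.inl i) (Sum.inl j) t ∈ C)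
    (a b k : ι) (hab : a ≠ b) (hak : a ≠ k) (hbk : b ≠ k) (hw : S.w (Sum.inl b) (Sum.inr k) 1 ∈ C) (t : K) :
    S.x (Sum.inl a) (Sum.inr b) t ∈ C := by
  have h1 : (Sum.inl b : ι ⊕ ι) ≠ Sum.inr k := fun h => by cases h
  have h1' : (Sum.inl b : ι ⊕ ι) ≠ ng (Sum.inr k) := fun h => hbk (Sum.inl.inj h)
  have hM := S.isMon_w h1 h1' (1 : K) one_ne_zero
  have hcd : (Sum.inl a : ι ⊕ ι) ≠ Sum.inl k := fun h => hak (Sum.inl.inj h)
  have e := hM.2 (Sum.inl a) (Sum.inl k) hcd t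
  have e1 : sws (Sum.inl b : ι ⊕ ι) (Sum.inr k) (Sum.inl a) = Sum.inl a :=
    SysD.sws_of_ne (fun h => hab (Sum.inl.inj h)) (fun h => by cases h) (fun h => by cases h) (fun h => hak (Sum.inl.inj h))
  have e2 : sws (Sum.inl b : ι ⊕ ι) (Sum.inr k) (Sum.inl k) = Sum.inr b := SysD.stdx2_sws_nright h1'
  have e3 : dwd (Sum.inl b : ι ⊕ ι) (Sum.inr k) (1 : K) (Sum.inl a) = 1 :=
    stdw14_dwd_of_ne (fun h => hab (Sum.inl.inj h)) (fun h => by cases h) (fun h => by cases h) (fun h => hak (Sum.inl.inj h)) 1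
  have e4 : dwd (Sum.inl b : ι ⊕ ι) (Sum.inr k) (1 : K) (Sum.inl k) = 1 := by
    have := stdw14_dwd_nb h1' (1 : K)
    rw [inv_one] at this
    exact this
  rw [e1, e2, e3, e4, inv_one, mul_one, one_mul] at e
  rw [← e]
  unfold cj
  exact C.mul_mem (C.mul_mem hw (hA _ _ _)) (C.inv_mem hw)

omit [Fintype ι] in
/-- `x (inr b) (inl a) t` is a conjugate of `x (inl k) (inl a) t` -/
theorem ompm9_xN_mem [Finite K] (S : SysD K ι G) (C : Subgroup G) (hA : ∀ (i j : ι) (t : K), S.x (Sum.inl i) (Sum.inl j) t ∈ C)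
    (a b k : ι) (hab : a ≠ b) (hak : a ≠ k) (hbk : b ≠ k) (hw : S.w (Sum.inl b) (Sum.inr k) 1 ∈ C) (t : K) :
    S.x (Sum.inr b) (Sum.inl a) t ∈ C := by
  have h1 : (Sum.inl b : ι ⊕ ι) ≠ Sum.inr k := fun h => by cases h
  have h1' : (Sum.inl b : ι ⊕ ι) ≠ ng (Sum.inr k) := fun h => hbk (Sum.inl.inj h)
  have hM := S.isMon_w h1 h1' (1 : K) one_ne_zero
  have hcd : (Sum.inl k : ι ⊕ ι) ≠ Sum.inl a := fun h => hak (Sum.inl.inj h).symm
  have e := hM.2 (Sum.inl k) (Sum.inl a) hcd t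
  have e1 : sws (Sum.inl b : ι ⊕ ι) (Sum.inr k) (Sum.inl a) = Sum.inl a :=
    SysD.sws_of_ne (fun h => hab (Sum.inl.inj h)) (fun h => by cases h) (fun h => by cases h) (fun h => hak (Sum.inl.inj h))
  have e2 : sws (Sum.inl b : ι ⊕ ι) (Sum.inr k) (Sum.inl k) = Sum.inr b := SysD.stdx2_sws_nright h1'
  have e3 : dwd (Sum.inl b : ι ⊕ ι) (Sum.inr k) (1 : K) (Sum.inl a) = 1 :=
    stdw14_dwd_of_ne (fun h => hab (Sum.inl.inj h)) (fun h => by cases h) (fun h => by cases h) (fun h => hak (Sum.inl.inj h)) 1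
  have e4 : dwd (Sum.inl b : ι ⊕ ι) (Sum.inr k) (1 : K) (Sum.inl k) = 1 := by
    have := stdw14_dwd_nb h1' (1 : K)
    rw [inv_one] at this
    exact this
  rw [e1, e2, e3, e4, inv_one, mul_one, one_mul] at e
  rw [← e]
  unfold cj
  exact C.mul_mem (C.mul_mem hw (hA _ _ _)) (C.inv_mem hw)

omit [DecidableEq ι] in
theorem ompm9_exists_third (h3 : 3 ≤ Fintype.card ι) (a b : ι) : ∃ k, a ≠ k ∧ b ≠ k := by
  classical
  by_contra hcon
  push Not at hcon
  have hsub : (Finset.univ : Finset ι) ⊆ {a, b} := by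
    intro k _
    by_cases hka : a = k
    · simp [hka]
    · simp [(hcon k hka).symm]
  have h1 := Finset.card_le_card hsub
  have h2 : ({a, b} : Finset ι).card ≤ 2 := Finset.card_le_two
  rw [Finset.card_univ] at h1
  omega

/-- M9, proof -/
theorem ompm9_xq_gen [Finite K] (h3 : 3 ≤ Fintype.card ι) (S : SysD K ι G) (p : Pts ι) :
    S.XQ (fun _ _ => True) ≤ Subgroup.closure ({g | ∃ (i j : ι) (t : K), g = S.x (Sum.inl i) (Sum.inl j) t} ∪
      {S.w (Sum.inl p.o0) (Sum.inr p.o1) 1}) := by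
  set C := Subgroup.closure ({g | ∃ (i j : ι) (t : K), g = S.x (Sum.inl i) (Sum.inl j) t} ∪
      {S.w (Sum.inl p.o0) (Sum.inr p.o1) 1}) with hC
  have hA : ∀ (i j : ι) (t : K), S.x (Sum.inl i) (Sum.inl j) t ∈ C := fun i j t =>
    Subgroup.subset_closure (Or.inl ⟨i, j, t, rfl⟩)
  have hy : S.w (Sum.inl p.o0) (Sum.inr p.o1) 1 ∈ C := Subgroup.subset_closure (Or.inr rfl)
  have hw := ompm9_w_mem S p C hA hy
  unfold SysD.XQ
  rw [Subgroup.closure_le]
  rintro g ⟨a, b, t, hab, hab', -, rfl⟩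
  rcases a with a | a <;> rcases b with b | b
  · exact hA a b t
  · have hne : a ≠ b := fun h => hab' (by rw [h]; rfl)
    obtain ⟨k, hak, hbk⟩ := ompm9_exists_third h3 a b
    exact ompm9_xP_mem S C hA a b k hne hak hbk (hw b k hbk) t
  · have hne : b ≠ a := fun h => hab' (by rw [h]; rfl)
    obtain ⟨k, hbk, hak⟩ := ompm9_exists_third h3 b a
    exact ompm9_xN_mem S C hA b a k hne hbk hak (hw a k hak) t
  · have hne : a ≠ b := fun h => hab (by rw [h])
    have e := S.sym (Sum.inr a) (Sum.inr b) hab hab' t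
    rw [e]
    exact hA b a (-t)

/-- M9 [M]  **generation**: in every `SysD` the root elements lie in the group generated by the type `A` root elements and `y₀`.  `w (inl a) (inr b) ±1` are conjugates of `y₀` by type `A` Weyl elements (`IsMon.cj_w`), and
`x (inl a) (inr b) t` is the conjugate of `x (inl a) (inl k) (±t)` by `w (inl b) (inr k) 1` (`isMon_w`), `k` a third index; `x (inr b) (inl a) t` likewise; `x (inr a) (inr b) t = x (inl b) (inl a) (-t)` (`S.sym`). -/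
theorem xq_gen [Finite K] (h3 : 3 ≤ Fintype.card ι) (S : SysD K ι G) (p : Pts ι) :
    S.XQ (fun _ _ => True) ≤ Subgroup.closure ({g | ∃ (i j : ι) (t : K), g = S.x (Sum.inl i) (Sum.inl j) t} ∪
      {S.w (Sum.inl p.o0) (Sum.inr p.o1) 1}) :=
  ompm9_xq_gen h3 S p

end M

end Cfsg.Agent.Lib.helper17.OMP
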