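import Mathlib
import Cfsg.Agent.Lib.Helper1.SLN.Defs
import Cfsg.Agent.Lib.Helper1.SLN.Defs2

/-!
Project SL7 (designer helper1), skeleton 2, row Q0 (`span_pow_top`), by helper6.
-/

set_option autoImplicit false

namespace Cfsg.Agent.Lib.Helper1.SLN

open Matrix Equiv

universe u v w

section Q

variable {F : Type u} [Field F]

/-- a finite set of a field closed under `+`, `*`, containing `1`, and a point outside it: `|T|² ≤ |F|` -/
theorem sl7q0_sq_le [Fintype F] [DecidableEq F] (T : Finset F)
    (hsub : ∀ a ∈ T, ∀ b ∈ T, a - b ∈ T) (hmul : ∀ a ∈ T, ∀ b ∈ T, a * b ∈ T)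
    (hinv : ∀ a ∈ T, a ≠ 0 → a⁻¹ ∈ T) (x : F) (hx : x ∉ T) :
    T.card ^ 2 ≤ Fintype.card F := by
  have hinj : Set.InjOn (fun p : F × F => p.1 + p.2 * x) (T ×ˢ T : Finset (F × F)) := by
    rintro ⟨a, b⟩ hab ⟨a', b'⟩ hab' h
    simp only [Finset.coe_product, Set.mem_prod, Finset.mem_coe] at hab hab'
    simp only at h
    by_cases hb : b = b'
    · subst hb
      have : a = a' := by linear_combination h
      rw [this]
    · exfalso
      have hbb : b' - b ≠ 0 := sub_ne_zero.mpr (Ne.symm hb)
      have hxeq : x = (a - a') * (b' - b)⁻¹ := by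
        field_simp
        linear_combination -h
      apply hx
      rw [hxeq]
      exact hmul _ (hsub _ hab.1 _ hab'.1) _ (hinv _ (hsub _ hab'.2 _ hab.2) hbb)
  have hc := Finset.card_le_card_of_injOn (fun p : F × F => p.1 + p.2 * x)
    (s := T ×ˢ T) (t := Finset.univ) (fun _ _ => Finset.mem_univ _) hinj
  rw [Finset.card_product, Finset.card_univ] at hc
  rw [sq]
  exact hc

/-- Q0 [M] -/
theorem span_pow_top [Fintype F] (ζ : Fˣ) (hζ : ∀ y : Fˣ, y ∈ Subgroup.zpowers ζ) (k : ℕ)
    (hk : Fintype.card F < ((Fintype.card F - 1) / Nat.gcd k (Fintype.card F - 1) + 1) ^ 2)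
    (S : AddSubgroup F) (h1 : (1 : F) ∈ S) (hS : ∀ t ∈ S, ((ζ ^ k : Fˣ) : F) * t ∈ S) : S = ⊤ := by
  classical
  set q := Fintype.card F with hq
  -- the multiplier set
  let T : Finset F := Finset.univ.filter (fun e => ∀ t ∈ S, e * t ∈ S)
  have hT : ∀ e, e ∈ T ↔ ∀ t ∈ S, e * t ∈ S := by
    intro e
    simp [T]
  have hT1 : (1 : F) ∈ T := by
    rw [hT]; intro t ht; rwa [one_mul]
  have hTsub : ∀ a ∈ T, ∀ b ∈ T, a - b ∈ T := by
    intro a ha b hb
    rw [hT] at ha hb ⊢
    intro t ht
    rw [sub_mul]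
    exact S.sub_mem (ha t ht) (hb t ht)
  have hTmul : ∀ a ∈ T, ∀ b ∈ T, a * b ∈ T := by
    intro a ha b hb
    rw [hT] at ha hb ⊢
    intro t ht
    rw [mul_assoc]
    exact ha _ (hb t ht)
  have hTpow : ∀ a ∈ T, ∀ n : ℕ, a ^ n ∈ T := by
    intro a ha n
    induction n with
    | zero => rw [pow_zero]; exact hT1
    | succ n ih => rw [pow_succ]; exact hTmul _ ih _ ha
  have hTinv : ∀ a ∈ T, a ≠ 0 → a⁻¹ ∈ T := by
    intro a ha ha0
    have hq2 : 2 ≤ q := Fintype.one_lt_card
    have h := FiniteField.pow_card_sub_one_eq_one a ha0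
    have : a⁻¹ = a ^ (q - 2) := by
      have h' : a ^ (q - 2) * a = 1 := by
        rw [← pow_succ]
        have : q - 2 + 1 = q - 1 := by omega
        rw [this]; exact h
      exact (eq_inv_of_mul_eq_one_left h').symm
    rw [this]
    exact hTpow a ha _
  have hzT : ((ζ ^ k : Fˣ) : F) ∈ T := by
    rw [hT]; exact hS
  -- the powers of `ζ ^ k` and `0` lie in `T`
  set z : Fˣ := ζ ^ k with hz
  have hordζ : orderOf ζ = q - 1 := by
    rw [orderOf_eq_card_of_forall_mem_zpowers hζ, Nat.card_eq_fintype_card, Fintype.card_units]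
  have hordz : orderOf z = (q - 1) / Nat.gcd k (q - 1) := by
    rw [hz, orderOf_pow, hordζ, Nat.gcd_comm]
  have hcard : orderOf z + 1 ≤ T.card := by
    let f : Option (Fin (orderOf z)) → F := fun o =>
      match o with
      | none => 0
      | some j => ((z ^ (j : ℕ) : Fˣ) : F)
    have hf : Function.Injective f := by
      intro a b hab
      match a, b with
      | none, none => rfl
      | none, some j => exact absurd hab.symm (Units.ne_zero _)
      | some j, none => exact absurd hab (Units.ne_zero _)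
      | some i, some j =>
        have h2 : z ^ (i : ℕ) = z ^ (j : ℕ) := Units.ext hab
        have := pow_injOn_Iio_orderOf (x := z) (Set.mem_Iio.mpr i.isLt) (Set.mem_Iio.mpr j.isLt) h2
        rw [Fin.ext this]
    have himg : ∀ o, f o ∈ T := by
      intro o
      match o with
      | none =>
        show (0 : F) ∈ T
        have := hTsub 1 hT1 1 hT1
        rwa [sub_self] at this
      | some j =>
        show ((z ^ (j : ℕ) : Fˣ) : F) ∈ T
        rw [Units.val_pow_eq_pow_val]
        exact hTpow _ hzT _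
    have hc := Finset.card_le_card_of_injOn f (s := Finset.univ) (t := T)
      (fun o _ => himg o) (fun a _ b _ h => hf h)
    rw [Finset.card_univ, Fintype.card_option, Fintype.card_fin] at hc
    exact hc
  -- `T` is everything
  have hTtop : ∀ x : F, x ∈ T := by
    intro x
    by_contra hx
    have h2 := sl7q0_sq_le T hTsub hTmul hTinv x hx
    have h3 : (orderOf z + 1) ^ 2 ≤ T.card ^ 2 := Nat.pow_le_pow_left hcard 2
    rw [hordz] at h3
    omega
  rw [eq_top_iff]
  intro x _
  have := (hT x).mp (hTtop x) 1 h1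
  rwa [mul_one] at this

end Q

end Cfsg.Agent.Lib.Helper1.SLN
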