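import Mathlib
import Cfsg.Agent.Lib.helper17.SLP.Defs

set_option autoImplicit false

namespace Cfsg.Agent.Lib.helper17.SLP

open Polynomial

universe u v

section M

variable {F : Type u} [Field F]

theorem slpm3_coe_xM (t : F) : (xM t : Matrix (Fin 2) (Fin 2) F) = !![1, t; 0, 1] := rfl

theorem slpm3_coe_wM :
    ((wM : Matrix.SpecialLinearGroup (Fin 2) F) : Matrix (Fin 2) (Fin 2) F) = !![0, 1; -1, 0] := rfl

theorem slpm3_coe_hM (s : Fˣ) :
    (hM s : Matrix (Fin 2) (Fin 2) F) = !![(s : F), 0; 0, ((s⁻¹ : Fˣ) : F)] := rfl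

theorem slpm3_coe_wM_inv :
    ((wM⁻¹ : Matrix.SpecialLinearGroup (Fin 2) F) : Matrix (Fin 2) (Fin 2) F) = !![0, -1; 1, 0] := by
  rw [Matrix.SpecialLinearGroup.coe_inv, slpm3_coe_wM, Matrix.adjugate_fin_two_of]
  simp

theorem slpm3_coe_hM_inv (s : Fˣ) :
    (((hM s)⁻¹ : Matrix.SpecialLinearGroup (Fin 2) F) : Matrix (Fin 2) (Fin 2) F) =
      !![((s⁻¹ : Fˣ) : F), 0; 0, (s : F)] := by
  rw [Matrix.SpecialLinearGroup.coe_inv, slpm3_coe_hM, Matrix.adjugate_fin_two_of]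
  simp

/-- M3 [S-M]  2×2 matrix identities. -/
theorem relK1_M : relK1 (xM (1 : F)) wM = 1 := by
  apply Subtype.ext
  simp only [relK1, Matrix.SpecialLinearGroup.coe_mul, slpm3_coe_xM, slpm3_coe_wM, slpm3_coe_wM_inv,
    Matrix.SpecialLinearGroup.coe_one]
  ext i j
  fin_cases i <;> fin_cases j <;> simp [Matrix.mul_apply, Fin.sum_univ_two]

theorem relK2_M (s : Fˣ) : relK2 (xM (s : F)) (hM s) wM = 1 := by
  apply Subtype.ext
  simp only [relK2, Matrix.SpecialLinearGroup.coe_mul, slpm3_coe_xM, slpm3_coe_wM, slpm3_coe_wM_inv,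
    slpm3_coe_hM, slpm3_coe_hM_inv, Matrix.SpecialLinearGroup.coe_one]
  ext i j
  fin_cases i <;> fin_cases j <;> simp [Matrix.mul_apply, Fin.sum_univ_two]

end M

end Cfsg.Agent.Lib.helper17.SLP
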