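import Mathlib
import Cfsg.Agent.Lib.helper17.SLP.Defs
import Cfsg.Agent.Lib.helper6.SLPM3

set_option autoImplicit false

namespace Cfsg.Agent.Lib.helper17.SLP

open Polynomial

universe u v

section M

variable {F : Type u} [Field F]

theorem slpm4_hM_mul (s t : Fˣ) : hM s * hM t = hM (s * t) := by
  apply Subtype.ext
  simp only [Matrix.SpecialLinearGroup.coe_mul, slpm3_coe_hM]
  ext i j
  fin_cases i <;> fin_cases j <;> simp [Matrix.mul_apply, Fin.sum_univ_two, mul_comm]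

/-- `hM` as a monoid homomorphism. -/
def slpm4_hMHom : Fˣ →* Matrix.SpecialLinearGroup (Fin 2) F :=
  MonoidHom.mk' hM (fun a b => (slpm4_hM_mul a b).symm)

theorem slpm4_hMHom_apply (s : Fˣ) : slpm4_hMHom s = hM s := rfl

theorem slpm4_hM_xM (a : Fˣ) : hM a * xM (1 : F) = xM ((a : F) * (a : F)) * hM a := by
  apply Subtype.ext
  simp only [Matrix.SpecialLinearGroup.coe_mul, slpm3_coe_hM, slpm3_coe_xM]
  ext i j
  fin_cases i <;> fin_cases j <;> simp [Matrix.mul_apply, Fin.sum_univ_two]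

theorem slpm4_xM_mul (s t : F) : xM s * xM t = xM (s + t) := by
  apply Subtype.ext
  simp only [Matrix.SpecialLinearGroup.coe_mul, slpm3_coe_xM]
  ext i j
  fin_cases i <;> fin_cases j <;> simp [Matrix.mul_apply, Fin.sum_univ_two, add_comm]

theorem slpm4_xM_zero : xM (0 : F) = 1 := by
  apply Subtype.ext
  simp only [slpm3_coe_xM, Matrix.SpecialLinearGroup.coe_one]
  ext i j
  fin_cases i <;> fin_cases j <;> simp

theorem slpm4_two_sq [Fintype F] (t : F) : ∃ a b : F, t = a * a + b * b := by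
  by_cases h2 : ringChar F = 2
  · obtain ⟨r, hr⟩ := FiniteField.isSquare_of_char_two h2 t
    exact ⟨r, 0, by simp [hr]⟩
  · have hodd := FiniteField.odd_card_of_char_ne_two h2
    obtain ⟨a, b, hab⟩ := FiniteField.exists_root_sum_quadratic (R := F)
      (f := X ^ 2) (g := X ^ 2 - C t) (degree_X_pow 2) (degree_X_pow_sub_C (by norm_num) t) hodd
    refine ⟨a, b, ?_⟩
    simp only [eval_pow, eval_X, eval_sub, eval_C] at hab
    linear_combination -hab

theorem slpm4_bruhat0 (g : Matrix.SpecialLinearGroup (Fin 2) F) (a : Fˣ) (ha : (a : F) = g.1 0 0)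
    (hc : g.1 1 0 = 0) : g = hM a * xM (g.1 0 1 / (a : F)) := by
  have hdet := g.2
  rw [Matrix.det_fin_two, hc, mul_zero, sub_zero, ← ha] at hdet
  have ha0 : (a : F) ≠ 0 := a.ne_zero
  have hd : g.1 1 1 = ((a⁻¹ : Fˣ) : F) := by
    rw [Units.val_inv_eq_inv_val]
    field_simp
    linear_combination hdet
  apply Subtype.ext
  simp only [Matrix.SpecialLinearGroup.coe_mul, slpm3_coe_hM, slpm3_coe_xM]
  ext i j
  fin_cases i <;> fin_cases j
  · simp [Matrix.mul_apply, Fin.sum_univ_two, ha]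
  · simp [Matrix.mul_apply, Fin.sum_univ_two]
    field_simp
  · simp [Matrix.mul_apply, Fin.sum_univ_two, hc]
  · simp [Matrix.mul_apply, Fin.sum_univ_two, hd]

theorem slpm4_bruhat1 (g : Matrix.SpecialLinearGroup (Fin 2) F) (s : Fˣ)
    (hs : (s : F) = -(g.1 1 0)⁻¹) (hc : g.1 1 0 ≠ 0) :
    g = xM (g.1 0 0 / g.1 1 0) * (hM s * wM) * xM (g.1 1 1 / g.1 1 0) := by
  have hdet := g.2
  rw [Matrix.det_fin_two] at hdet
  have hsi : ((s⁻¹ : Fˣ) : F) = -(g.1 1 0) := by
    rw [Units.val_inv_eq_inv_val, hs]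
    field_simp
  apply Subtype.ext
  simp only [Matrix.SpecialLinearGroup.coe_mul, slpm3_coe_hM, slpm3_coe_xM, slpm3_coe_wM, hsi, hs]
  ext i j
  fin_cases i <;> fin_cases j
  · simp [Matrix.mul_apply, Fin.sum_univ_two]
    field_simp
  · simp [Matrix.mul_apply, Fin.sum_univ_two]
    field_simp
    linear_combination -hdet
  · simp [Matrix.mul_apply, Fin.sum_univ_two]
  · simp [Matrix.mul_apply, Fin.sum_univ_two]
    field_simp

/-- M4 [M-L] -/
theorem closure_M [Fintype F] (ζ : Fˣ) (hζ : ∀ y : Fˣ, y ∈ Subgroup.zpowers ζ) :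
    Subgroup.closure {xM (1 : F), hM ζ, wM} = ⊤ := by
  set K : Subgroup (Matrix.SpecialLinearGroup (Fin 2) F) :=
    Subgroup.closure {xM (1 : F), hM ζ, wM} with hK
  have hx1 : xM (1 : F) ∈ K := Subgroup.subset_closure (by simp)
  have hhζ : hM ζ ∈ K := Subgroup.subset_closure (by simp)
  have hw : (wM : Matrix.SpecialLinearGroup (Fin 2) F) ∈ K := Subgroup.subset_closure (by simp)
  have hh : ∀ s : Fˣ, hM s ∈ K := by
    intro s
    obtain ⟨i, hi⟩ := Subgroup.mem_zpowers_iff.mp (hζ s)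
    have : hM s = (hM ζ) ^ i := by
      rw [← hi, ← slpm4_hMHom_apply, map_zpow, slpm4_hMHom_apply]
    rw [this]
    exact K.zpow_mem hhζ i
  have hsq : ∀ a : F, xM (a * a) ∈ K := by
    intro a
    by_cases ha : a = 0
    · subst ha
      rw [mul_zero, slpm4_xM_zero]
      exact K.one_mem
    · have e := slpm4_hM_xM (Units.mk0 a ha)
      rw [Units.val_mk0] at e
      have : xM (a * a) = hM (Units.mk0 a ha) * xM (1 : F) * (hM (Units.mk0 a ha))⁻¹ :=
        eq_mul_inv_of_mul_eq e.symm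
      rw [this]
      exact K.mul_mem (K.mul_mem (hh _) hx1) (K.inv_mem (hh _))
  have hx : ∀ t : F, xM t ∈ K := by
    intro t
    obtain ⟨a, b, rfl⟩ := slpm4_two_sq t
    rw [← slpm4_xM_mul]
    exact K.mul_mem (hsq a) (hsq b)
  rw [eq_top_iff]
  intro g _
  by_cases hc : g.1 1 0 = 0
  · have hdet := g.2
    rw [Matrix.det_fin_two, hc, mul_zero, sub_zero] at hdet
    have ha0 : g.1 0 0 ≠ 0 := by
      intro h0
      rw [h0, zero_mul] at hdet
      exact zero_ne_one hdet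
    rw [slpm4_bruhat0 g (Units.mk0 _ ha0) (Units.val_mk0 ha0) hc]
    exact K.mul_mem (hh _) (hx _)
  · have hs0 : -(g.1 1 0)⁻¹ ≠ 0 := neg_ne_zero.mpr (inv_ne_zero hc)
    rw [slpm4_bruhat1 g (Units.mk0 _ hs0) (Units.val_mk0 hs0) hc]
    exact K.mul_mem (K.mul_mem (hx _) (K.mul_mem (hh _) hw)) (hx _)

end M

end Cfsg.Agent.Lib.helper17.SLP
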