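import Mathlib
import Cfsg.Agent.Lib.helper6.PermChar
import Cfsg.Agent.Lib.helper2.CharInt
import Cfsg.Agent.Lib.Helper25.CharLinear

set_option autoImplicit false

namespace Cfsg.Agent.Lib.helper6.PermChar

open Module LinearMap Polynomial
open scoped ComplexConjugate

section Main
variable {G : Type*} [Group G] [Fintype G] {Ω : Type*} [Fintype Ω] [DecidableEq Ω] [MulAction G Ω]

/-- `c(g) = tr(B P_g)` -/
noncomputable def cfun (a b : Ω) (g : G) : ℂ := (Bm G a b * Pm g).trace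

/-- `a_χ` -/
noncomputable def aχ (a b : Ω) (χ : G → ℂ) : ℂ :=
  ((Fintype.card G : ℂ))⁻¹ * ∑ g : G, cfun a b g * χ g⁻¹

theorem linHom_eq_sandwich {S : Type*} [AddCommGroup S] [Module ℂ S] (ρ : Representation ℂ G S)
    (g : G) : Representation.linHom ρ (Cfsg.permRep ℂ G Ω) g
      = sandwich (Cfsg.permRep ℂ G Ω g) (ρ g⁻¹) := by
  apply LinearMap.ext
  intro φ
  rw [Representation.linHom_apply]
  rfl

theorem trace_permRep (g : G) :
    LinearMap.trace ℂ (Ω → ℂ) (Cfsg.permRep ℂ G Ω g) = (Pm g : Matrix Ω Ω ℂ).trace := by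
  rw [permRep_eq_toLin', Matrix.trace_toLin'_eq]

theorem key {S : Type*} [AddCommGroup S] [Module ℂ S] [FiniteDimensional ℂ S]
    (ρ : Representation ℂ G S) (a b : Ω) :
    IsIntegral ℤ (aχ a b ρ.character) ∧
      ((∑ g : G, (Pm g : Matrix Ω Ω ℂ).trace * ρ.character g⁻¹ = 0) → aχ a b ρ.character = 0) := by
  set σ := Cfsg.permRep ℂ G Ω with hσ
  set τ := Representation.linHom ρ σ with hτ
  set B : Module.End ℂ (Ω → ℂ) := Matrix.toLin' (Bm G a b) with hB
  set A : Module.End ℂ (S →ₗ[ℂ] (Ω → ℂ)) := sandwich B 1 with hA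
  have hBσ : ∀ g, B * σ g = σ g * B := by
    intro g
    rw [hB, hσ, permRep_eq_toLin']
    show Matrix.toLin' (Bm G a b) ∘ₗ Matrix.toLin' (Pm g) = Matrix.toLin' (Pm g) ∘ₗ Matrix.toLin' (Bm G a b)
    rw [← Matrix.toLin'_mul, ← Matrix.toLin'_mul, Pm_mul_Bm]
  have hAτ : ∀ g, A * τ g = sandwich (B * σ g) (ρ g⁻¹) := by
    intro g
    rw [hτ, linHom_eq_sandwich, hA, sandwich_mul, mul_one]
  have hτA : ∀ g, τ g * A = sandwich (B * σ g) (ρ g⁻¹) := by
    intro g
    rw [hτ, linHom_eq_sandwich, hA, sandwich_mul, one_mul, hBσ]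
  have hcomm : ∀ g, A * τ g = τ g * A := fun g => (hAτ g).trans (hτA g).symm
  have htr : ∀ g, LinearMap.trace ℂ _ (A * τ g) = cfun a b g * ρ.character g⁻¹ := by
    intro g
    rw [hAτ, trace_sandwich]
    congr 1
    rw [hB, hσ, permRep_eq_toLin']
    show LinearMap.trace ℂ _ (Matrix.toLin' (Bm G a b) ∘ₗ Matrix.toLin' (Pm g)) = _
    rw [← Matrix.toLin'_mul, Matrix.trace_toLin'_eq]
    rfl
  have htr' : ∀ g, LinearMap.trace ℂ _ (τ g) = (Pm g : Matrix Ω Ω ℂ).trace * ρ.character g⁻¹ := by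
    intro g
    rw [hτ, linHom_eq_sandwich, trace_sandwich, trace_permRep]
    rfl
  have haχ : aχ a b ρ.character = LinearMap.trace ℂ _ (A * avg τ) := by
    rw [trace_mul_avg]
    unfold aχ
    congr 1
    exact Finset.sum_congr rfl (fun g _ => (htr g).symm)
  have hAint : IsIntegral ℤ A := by
    have h1 : IsIntegral ℤ B := by
      have := isIntegral_Bm (G := G) a b
      exact IsIntegral.map (Matrix.toLinAlgEquiv' (R := ℂ) (n := Ω)).toAlgHom.toRingHom.toIntAlgHom this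
    exact IsIntegral.map (RingHom.toIntAlgHom (R := Module.End ℂ (Ω → ℂ))
      (S := Module.End ℂ (S →ₗ[ℂ] (Ω → ℂ))) (sandwichHom ℂ S (Ω → ℂ))) h1
  constructor
  · rw [haχ]
    exact isIntegral_trace_mul_proj A (avg τ) hAint (comm_avg τ A hcomm) (avg_mul_avg τ)
  · intro h0
    rw [haχ, avg_eq_zero τ, mul_zero, map_zero]
    rw [← h0]
    exact Finset.sum_congr rfl (fun g _ => htr' g)

theorem Pm_trace (g : G) :
    (Pm g : Matrix Ω Ω ℂ).trace = (Nat.card (MulAction.fixedBy Ω g) : ℂ) := by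
  rw [Matrix.trace]
  simp only [Matrix.diag_apply, Pm]
  rw [Finset.sum_boole, Nat.card_eq_fintype_card, ← Fintype.card_subtype]
  rfl

theorem regular_indicator [Fintype (Cfsg.IrrCharacter G)] [DecidableEq G] (g : G) :
    ∑ χ : Cfsg.IrrCharacter G, (χ : G → ℂ) g * (χ : G → ℂ) 1 =
      if g = 1 then (Fintype.card G : ℂ) else 0 := by
  classical
  have h := Cfsg.Agent.Lib.Helper25.irr_column_orthogonality g (1 : G)
  have hc1 : ∀ χ : Cfsg.IrrCharacter G, conj ((χ : G → ℂ) 1) = (χ : G → ℂ) 1 := by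
    intro χ
    obtain ⟨n, hn, h1⟩ := Cfsg.Agent.Lib.Helper25.irr_one_eq_finrank χ
    rw [h1]; simp
  simp_rw [hc1] at h
  rw [h]
  by_cases hg : g = 1
  · rw [if_pos hg, if_pos (by rw [hg])]
    have : Subgroup.centralizer ({1} : Set G) = ⊤ := by
      ext y
      simp [Subgroup.mem_centralizer_iff]
    rw [this, Nat.card_congr (Subgroup.topEquiv (G := G)).toEquiv, Nat.card_eq_fintype_card]
  · rw [if_neg hg, if_neg]
    intro hc
    apply hg
    obtain ⟨c, hc⟩ := isConj_iff.mp hc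
    rw [← hc]; group

theorem dvd_subdegree [MulAction.IsPretransitive G Ω] (f : ℕ)
    (hf : ∀ χ : G → ℂ, Cfsg.IsIrrCharacter G χ → χ ≠ (fun _ => 1) →
      Cfsg.classInner (fun g : G => (Nat.card (MulAction.fixedBy Ω g) : ℂ)) χ ≠ 0 →
      ∃ m : ℕ, χ 1 = (f : ℂ) * m) (a b : Ω) (hab : b ≠ a) :
    f ∣ Nat.card (MulAction.orbit (MulAction.stabilizer G a) b) := by
  classical
  haveI : Fintype (Cfsg.IrrCharacter G) := Fintype.ofFinite _
  set nΔ := Nat.card (MulAction.orbit (MulAction.stabilizer G a) b) with hnΔ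
  set π : G → ℂ := fun g : G => (Nat.card (MulAction.fixedBy Ω g) : ℂ) with hπ
  have hcard : (Fintype.card G : ℂ) ≠ 0 := card_ne_zero'
  have hint : ∀ χ : Cfsg.IrrCharacter G, IsIntegral ℤ (aχ a b (χ : G → ℂ)) ∧
      (Cfsg.classInner π (χ : G → ℂ) = 0 → aχ a b (χ : G → ℂ) = 0) := by
    intro χ
    obtain ⟨d, ρ, hirr, hχ⟩ := χ.2
    have hk := key (Ω := Ω) ρ a b
    rw [hχ] at hk
    refine ⟨hk.1, fun h0 => hk.2 ?_⟩
    have h1 : ∑ g : G, (Pm g : Matrix Ω Ω ℂ).trace * (χ : G → ℂ) g⁻¹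
        = (Nat.card G : ℂ) * Cfsg.classInner π (χ : G → ℂ) := by
      unfold Cfsg.classInner
      rw [← mul_assoc, mul_inv_cancel₀ (by rw [Nat.card_eq_fintype_card]; exact hcard), one_mul]
      apply Finset.sum_congr rfl
      intro g _
      rw [Pm_trace, ← hχ, Cfsg.Agent.Lib.Helper25.char_inv]
    rw [h1, h0, mul_zero]
  -- K3
  have hK3 : ∑ χ : Cfsg.IrrCharacter G, (χ : G → ℂ) 1 * aχ a b (χ : G → ℂ) = 0 := by
    unfold aχ
    have h1 : ∀ χ : Cfsg.IrrCharacter G,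
        (χ : G → ℂ) 1 * ((Fintype.card G : ℂ)⁻¹ * ∑ g : G, cfun a b g * (χ : G → ℂ) g⁻¹)
        = (Fintype.card G : ℂ)⁻¹ * ∑ g : G, cfun a b g * ((χ : G → ℂ) g⁻¹ * (χ : G → ℂ) 1) := by
      intro χ
      rw [mul_left_comm, Finset.mul_sum]
      congr 1
      apply Finset.sum_congr rfl
      intro g _
      ring
    rw [Finset.sum_congr rfl (fun χ _ => h1 χ), ← Finset.mul_sum, Finset.sum_comm]
    have h2 : ∀ g : G, ∑ χ : Cfsg.IrrCharacter G,
        cfun a b g * ((χ : G → ℂ) g⁻¹ * (χ : G → ℂ) 1)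
        = cfun a b g * (if g = 1 then (Fintype.card G : ℂ) else 0) := by
      intro g
      rw [← Finset.mul_sum, regular_indicator]
      congr 1
      simp only [inv_eq_one]
    rw [Finset.sum_congr rfl (fun g _ => h2 g)]
    rw [Finset.sum_eq_single (1 : G)]
    · rw [if_pos rfl]
      have : cfun a b (1 : G) = 0 := by
        unfold cfun
        rw [Pm_one, mul_one, trace_Bm a b hab]
      rw [this, zero_mul, mul_zero]
    · intro g _ hg
      rw [if_neg hg, mul_zero]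
    · intro h; exact absurd (Finset.mem_univ _) h
  -- K4
  have hK4 : aχ a b (fun _ : G => (1 : ℂ)) = (nΔ : ℂ) := by
    unfold aχ cfun
    simp only [mul_one]
    have h1 : ∑ g : G, (Bm G a b * Pm g : Matrix Ω Ω ℂ).trace
        = ((Fintype.card G * nΔ : ℕ) : ℂ) := by
      rw [← sum_card_orbRel a b, Nat.cast_sum]
      apply Finset.sum_congr rfl
      intro g _
      rw [trace_Bm_mul_Pm]
    rw [h1, Nat.cast_mul, ← mul_assoc, inv_mul_cancel₀ hcard, one_mul]
  -- split off the trivial character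
  set t : Cfsg.IrrCharacter G := Cfsg.Agent.Lib.Helper25.trivIrr G with ht
  have htf : (t : G → ℂ) = fun _ => 1 := rfl
  rw [← Finset.add_sum_erase _ _ (Finset.mem_univ t)] at hK3
  rw [htf, hK4, one_mul] at hK3
  -- the rest is f * integral
  have hrest : ∃ Z : ℂ, IsIntegral ℤ Z ∧
      ∑ χ ∈ Finset.univ.erase t, (χ : G → ℂ) 1 * aχ a b (χ : G → ℂ) = (f : ℂ) * Z := by
    have hterm : ∀ χ ∈ Finset.univ.erase t, ∃ z : ℂ, IsIntegral ℤ z ∧
        (χ : G → ℂ) 1 * aχ a b (χ : G → ℂ) = (f : ℂ) * z := by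
      intro χ hχ
      have hne : (χ : G → ℂ) ≠ fun _ => 1 := by
        intro h
        apply (Finset.mem_erase.mp hχ).1
        exact Subtype.ext h
      by_cases h0 : Cfsg.classInner π (χ : G → ℂ) = 0
      · refine ⟨0, isIntegral_zero, ?_⟩
        rw [(hint χ).2 h0, mul_zero, mul_zero]
      · obtain ⟨m, hm⟩ := hf (χ : G → ℂ) χ.2 hne h0
        refine ⟨(m : ℂ) * aχ a b (χ : G → ℂ), ?_, ?_⟩
        · exact IsIntegral.mul (isIntegral_algebraMap (R := ℤ) (A := ℂ) (x := (m : ℤ)) |> fun h => by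
            simpa using h) (hint χ).1
        · rw [hm]; ring
    choose! z hz using hterm
    refine ⟨∑ χ ∈ Finset.univ.erase t, z χ, IsIntegral.sum _ (fun χ hχ => (hz χ hχ).1), ?_⟩
    rw [Finset.mul_sum]
    exact Finset.sum_congr rfl (fun χ hχ => (hz χ hχ).2)
  obtain ⟨Z, hZ, hZeq⟩ := hrest
  rw [hZeq] at hK3
  by_cases hf0 : f = 0
  · subst hf0
    simp only [Nat.cast_zero, zero_mul, add_zero] at hK3
    have : nΔ = 0 := by exact_mod_cast hK3
    rw [this]
  · apply Cfsg.Agent.Lib.helper2.nat_dvd_of_isIntegral_div nΔ f hf0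
    have hfc : (f : ℂ) ≠ 0 := by exact_mod_cast hf0
    have : (nΔ : ℂ) / (f : ℂ) = -Z := by
      rw [div_eq_iff hfc]
      linear_combination hK3
    rw [this]
    exact hZ.neg

end Main
end Cfsg.Agent.Lib.helper6.PermChar
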