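import Mathlib
import Cfsg.Agent.Lib.helper6.PermChar2
import Cfsg.Agent.Lib.helper2.CharNat
import Cfsg.Agent.Lib.Helper25.CharAbelian

set_option autoImplicit false

namespace Cfsg.Agent.Lib.helper6.PermChar

open Module LinearMap Polynomial MulAction
open scoped ComplexConjugate

section Rank
variable {G : Type*} [Group G] [Fintype G] {Ω : Type*} [Fintype Ω] [DecidableEq Ω] [MulAction G Ω]

/-- number of fixed points -/
noncomputable def fx (g : G) : ℕ := Nat.card (fixedBy Ω g)

theorem fx_eq_card_filter (g : G) : fx (Ω := Ω) g = (Finset.univ.filter (fun x : Ω => g • x = x)).card := by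
  unfold fx
  rw [Nat.card_eq_fintype_card, ← Fintype.card_subtype]
  rfl

theorem fx_conj (k g : G) : fx (Ω := Ω) (k * g * k⁻¹) = fx (Ω := Ω) g := by
  rw [fx_eq_card_filter, fx_eq_card_filter]
  symm
  apply Finset.card_bij (fun x _ => k • x)
  · intro x hx
    rw [Finset.mem_filter] at hx ⊢
    refine ⟨Finset.mem_univ _, ?_⟩
    rw [mul_smul, mul_smul, inv_smul_smul, hx.2]
  · intro x _ y _ h
    exact MulAction.injective k h
  · intro y hy
    rw [Finset.mem_filter] at hy
    refine ⟨k⁻¹ • y, ?_, smul_inv_smul k y⟩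
    rw [Finset.mem_filter]
    refine ⟨Finset.mem_univ _, ?_⟩
    have := hy.2
    rw [mul_smul, mul_smul] at this
    calc g • k⁻¹ • y = k⁻¹ • (k • g • k⁻¹ • y) := by rw [inv_smul_smul]
      _ = k⁻¹ • y := by rw [this]

open Classical in
/-- Burnside for the stabilizer of `x` -/
theorem sum_stab (x : Ω) :
    ∑ g ∈ Finset.univ.filter (fun g : G => g • x = x), fx (Ω := Ω) g
      = Nat.card (orbitRel.Quotient (stabilizer G x) Ω) * Nat.card (stabilizer G x) := by
  have hB := MulAction.sum_card_fixedBy_eq_card_orbits_mul_card_group (stabilizer G x) Ω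
  rw [Nat.card_eq_fintype_card, Nat.card_eq_fintype_card]
  unfold orbitRel.Quotient
  rw [← hB]
  rw [Finset.sum_subtype (Finset.univ.filter (fun g : G => g • x = x))
    (p := fun g => g ∈ stabilizer G x) (by intro g; simp [mem_stabilizer_iff]) (fun g => fx (Ω := Ω) g)]
  apply Finset.sum_congr rfl
  intro h _
  unfold fx
  rw [Nat.card_eq_fintype_card]
  rfl

open Classical in
theorem sum_stab_const [IsPretransitive G Ω] (a x : Ω) :
    ∑ g ∈ Finset.univ.filter (fun g : G => g • x = x), fx (Ω := Ω) g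
      = ∑ g ∈ Finset.univ.filter (fun g : G => g • a = a), fx (Ω := Ω) g := by
  obtain ⟨k, hk⟩ := exists_smul_eq G a x
  subst hk
  symm
  apply Finset.sum_bij (fun g _ => k * g * k⁻¹)
  · intro g hg
    rw [Finset.mem_filter] at hg ⊢
    refine ⟨Finset.mem_univ _, ?_⟩
    rw [mul_smul, mul_smul, inv_smul_smul, hg.2]
  · intro g _ g' _ h
    simpa using h
  · intro g hg
    rw [Finset.mem_filter] at hg
    refine ⟨k⁻¹ * g * k, ?_, by group⟩
    rw [Finset.mem_filter]
    refine ⟨Finset.mem_univ _, ?_⟩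
    rw [mul_smul, mul_smul, hg.2, inv_smul_smul]
  · intro g _
    rw [fx_conj]

open Classical in
theorem sum_sq_fixed [IsPretransitive G Ω] (a : Ω) :
    ∑ g : G, fx (Ω := Ω) g ^ 2
      = Fintype.card G * Nat.card (orbitRel.Quotient (stabilizer G a) Ω) := by
  have h1 : ∀ g : G, fx (Ω := Ω) g ^ 2
      = ∑ x ∈ Finset.univ.filter (fun x : Ω => g • x = x), fx (Ω := Ω) g := by
    intro g
    rw [Finset.sum_const, smul_eq_mul, ← fx_eq_card_filter, pow_two]
  rw [Finset.sum_congr rfl (fun g _ => h1 g)]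
  simp only [Finset.sum_filter]
  rw [Finset.sum_comm]
  simp only [← Finset.sum_filter]
  rw [Finset.sum_congr rfl (fun x _ => sum_stab_const a x), Finset.sum_const, Finset.card_univ,
    smul_eq_mul, sum_stab]
  have h2 := card_fiber (G := G) a a
  rw [← Fintype.card_subtype] at h2
  have h3 : Nat.card (stabilizer G a) = Fintype.card {g : G // g • a = a} := by
    rw [Nat.card_eq_fintype_card]
    rfl
  rw [h3, ← h2]
  ring

theorem arith {ι κ : Type*} (I : Finset ι) (m : ι → ℕ) (J : Finset κ) (s : κ → ℕ) (f : ℕ)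
    (h1 : J.card = ∑ i ∈ I, m i ^ 2) (h2 : ∑ j ∈ J, s j = f * ∑ i ∈ I, m i)
    (h3 : ∀ j ∈ J, f ∣ s j ∧ 0 < s j) (h4 : (∃ i ∈ I, m i ≠ 0) → 0 < f) :
    (∀ i ∈ I, m i ≤ 1) ∧ ∀ j ∈ J, s j = f := by
  by_cases hall : ∀ i ∈ I, m i = 0
  · have : J.card = 0 := by
      rw [h1]
      apply Finset.sum_eq_zero
      intro i hi
      rw [hall i hi]; rfl
    have hJ : J = ∅ := Finset.card_eq_zero.mp this
    refine ⟨fun i hi => by rw [hall i hi]; omega, fun j hj => ?_⟩
    rw [hJ] at hj
    exact absurd hj (Finset.notMem_empty j)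
  · push Not at hall
    have hf := h4 hall
    have hs : ∀ j ∈ J, f ≤ s j := fun j hj => Nat.le_of_dvd (h3 j hj).2 (h3 j hj).1
    have hJ : f * J.card ≤ f * ∑ i ∈ I, m i := by
      rw [← h2, mul_comm, ← smul_eq_mul, ← Finset.sum_const]
      exact Finset.sum_le_sum hs
    have hJ' : J.card ≤ ∑ i ∈ I, m i := Nat.le_of_mul_le_mul_left hJ hf
    have hle : ∀ i ∈ I, m i ≤ m i ^ 2 := fun i _ => Nat.le_self_pow (by norm_num) _
    have hsum : ∑ i ∈ I, m i = ∑ i ∈ I, m i ^ 2 :=
      le_antisymm (Finset.sum_le_sum hle) (h1 ▸ hJ')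
    have hterm := (Finset.sum_eq_sum_iff_of_le hle).mp hsum
    refine ⟨?_, ?_⟩
    · intro i hi
      have := hterm i hi
      by_contra hcon
      push Not at hcon
      have : m i * 2 ≤ m i * m i := Nat.mul_le_mul_left _ hcon
      nlinarith
    · have hsum2 : ∑ j ∈ J, f = ∑ j ∈ J, s j := by
        rw [Finset.sum_const, smul_eq_mul, h2, hsum, ← h1, mul_comm]
      have := (Finset.sum_eq_sum_iff_of_le hs).mp hsum2
      intro j hj
      exact (this j hj).symm


/-- the permutation character -/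
noncomputable def piChar (G : Type*) [Group G] (Ω : Type*) [MulAction G Ω] : G → ℂ :=
  fun g => (Nat.card (fixedBy Ω g) : ℂ)

theorem piChar_isCharacter : Cfsg.IsCharacter G (piChar G Ω) := by
  have := Cfsg.Agent.Lib.helper2.isCharacter_of_rep (Cfsg.permRep ℂ G Ω)
  convert this using 1
  funext g
  unfold Representation.character piChar
  rw [trace_permRep, Pm_trace]

theorem inner_pi_pi [IsPretransitive G Ω] (a : Ω) :
    Cfsg.classInner (piChar G Ω) (piChar G Ω)
      = (Nat.card (orbitRel.Quotient (stabilizer G a) Ω) : ℂ) := by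
  unfold Cfsg.classInner
  have h1 : ∀ g : G, piChar G Ω g * conj (piChar G Ω g) = ((fx (Ω := Ω) g ^ 2 : ℕ) : ℂ) := by
    intro g
    unfold piChar fx
    rw [Complex.conj_natCast]
    push_cast
    ring
  rw [Finset.sum_congr rfl (fun g _ => h1 g), ← Nat.cast_sum, sum_sq_fixed a, Nat.cast_mul,
    Nat.card_eq_fintype_card (α := G), ← mul_assoc, inv_mul_cancel₀ card_ne_zero', one_mul]

theorem inner_pi_triv [IsPretransitive G Ω] (a : Ω) :
    Cfsg.classInner (piChar G Ω) (fun _ => (1 : ℂ)) = 1 := by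
  classical
  unfold Cfsg.classInner
  have hB := MulAction.sum_card_fixedBy_eq_card_orbits_mul_card_group G Ω
  have hq : Fintype.card (Quotient (orbitRel G Ω)) = 1 := by
    haveI : Nonempty Ω := ⟨a⟩
    exact Fintype.card_eq_one_iff_nonempty_unique.mpr
      ((pretransitive_iff_unique_quotient_of_nonempty G Ω).mp inferInstance)
  rw [hq, one_mul] at hB
  have h1 : ∑ g : G, piChar G Ω g * conj ((fun _ : G => (1 : ℂ)) g)
      = ((∑ g : G, Fintype.card (fixedBy Ω g) : ℕ) : ℂ) := by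
    rw [Nat.cast_sum]
    apply Finset.sum_congr rfl
    intro g _
    unfold piChar
    rw [Nat.card_eq_fintype_card]
    simp
  rw [h1, hB, Nat.card_eq_fintype_card, inv_mul_cancel₀ card_ne_zero']


theorem orbit_stab_self (a : Ω) : orbit (stabilizer G a) a = {a} := by
  ext x
  constructor
  · rintro ⟨⟨h, hh⟩, rfl⟩
    exact hh
  · intro hx
    rw [Set.mem_singleton_iff] at hx
    rw [hx]
    exact mem_orbit_self a

/-- the suborbit quotient -/
abbrev SubQ (G : Type*) [Group G] (Ω : Type*) [MulAction G Ω] (a : Ω) :=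
  orbitRel.Quotient (stabilizer G a) Ω

theorem part1 [IsPretransitive G Ω] (a : Ω) (f : ℕ)
    (hf : ∀ χ : G → ℂ, Cfsg.IsIrrCharacter G χ → χ ≠ (fun _ => 1) →
      Cfsg.classInner (piChar G Ω) χ ≠ 0 → χ 1 = f) :
    (∀ χ : G → ℂ, Cfsg.IsIrrCharacter G χ →
      Cfsg.classInner (piChar G Ω) χ = 0 ∨ Cfsg.classInner (piChar G Ω) χ = 1) ∧
    ∀ b : Ω, b ≠ a → Nat.card (orbit (stabilizer G a) b) = f := by
  classical
  haveI : Fintype (Cfsg.IrrCharacter G) := Fintype.ofFinite _
  have hπc : Cfsg.IsCharacter G (piChar G Ω) := piChar_isCharacter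
  obtain ⟨m, hm, hexp⟩ := Cfsg.Agent.Lib.helper2.isCharacter_expansion hπc
  set t : Cfsg.IrrCharacter G := Cfsg.Agent.Lib.Helper25.trivIrr G with ht
  have htf : (t : G → ℂ) = fun _ => 1 := rfl
  have hmt : m t = 1 := by
    have := hm t
    rw [htf, inner_pi_triv a] at this
    exact_mod_cast this.symm
  -- degrees
  have hd : ∀ μ : Cfsg.IrrCharacter G, ∃ n : ℕ, 0 < n ∧ (μ : G → ℂ) 1 = (n : ℂ) :=
    fun μ => Cfsg.Agent.Lib.Helper25.irr_one_eq_finrank μ
  choose d hdpos hd using hd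
  have hdt : d t = 1 := by
    have : (1 : ℂ) = (d t : ℂ) := hd t
    exact_mod_cast this.symm
  -- Parseval
  have hpars := Cfsg.Agent.Lib.Helper25.classInner_parseval (piChar G Ω)
    (Cfsg.Agent.Lib.helper2.isCharacter_isClassFunction hπc)
  rw [inner_pi_pi a] at hpars
  have hr : Nat.card (SubQ G Ω a) = ∑ μ : Cfsg.IrrCharacter G, m μ ^ 2 := by
    have : ((Nat.card (SubQ G Ω a) : ℕ) : ℂ)
        = ((∑ μ : Cfsg.IrrCharacter G, m μ ^ 2 : ℕ) : ℂ) := by
      rw [hpars]
      push_cast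
      apply Finset.sum_congr rfl
      intro μ _
      rw [hm μ, Complex.conj_natCast]
      ring
    exact_mod_cast this
  -- degree equation
  have hn : Fintype.card Ω = ∑ μ : Cfsg.IrrCharacter G, m μ * d μ := by
    have h1 : piChar G Ω 1 = (Fintype.card Ω : ℂ) := by
      unfold piChar
      rw [Nat.card_eq_fintype_card]
      congr 1
      have hu : fixedBy Ω (1 : G) = Set.univ := by
        ext x; simp [mem_fixedBy]
      rw [← Fintype.card_congr (Equiv.Set.univ Ω)]
      exact Fintype.card_congr (Equiv.setCongr hu)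
    have h2 := congrFun hexp 1
    rw [h1, Finset.sum_apply] at h2
    have : ((Fintype.card Ω : ℕ) : ℂ) = ((∑ μ : Cfsg.IrrCharacter G, m μ * d μ : ℕ) : ℂ) := by
      rw [h2]
      push_cast
      apply Finset.sum_congr rfl
      intro μ _
      rw [Pi.smul_apply, hd μ, smul_eq_mul]
    exact_mod_cast this
  -- orbits
  set qa : SubQ G Ω a := Quotient.mk'' a with hqa
  set s : SubQ G Ω a → ℕ := fun q => Nat.card (orbitRel.Quotient.orbit q) with hs
  have hsum_s : ∑ q : SubQ G Ω a, s q = Fintype.card Ω := by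
    rw [Fintype.card_congr (selfEquivSigmaOrbits' (stabilizer G a) Ω), Fintype.card_sigma]
    apply Finset.sum_congr rfl
    intro q _
    show Nat.card (orbitRel.Quotient.orbit q) = _
    rw [Nat.card_eq_fintype_card]
  have hsb : ∀ b : Ω, s (Quotient.mk'' b : SubQ G Ω a) = Nat.card (orbit (stabilizer G a) b) := by
    intro b
    show Nat.card (orbitRel.Quotient.orbit (Quotient.mk'' b : SubQ G Ω a)) = _
    rw [orbitRel.Quotient.orbit_mk]
  have hsqa : s qa = 1 := by
    rw [hqa, hsb a, orbit_stab_self]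
    simp
  have hqb : ∀ b : Ω, (Quotient.mk'' b : SubQ G Ω a) = qa → b = a := by
    intro b hb
    have h1 : b ∈ orbitRel.Quotient.orbit (Quotient.mk'' b : SubQ G Ω a) := by
      rw [orbitRel.Quotient.orbit_mk]; exact mem_orbit_self b
    rw [hb, hqa, orbitRel.Quotient.orbit_mk, orbit_stab_self] at h1
    exact h1
  set I : Finset (Cfsg.IrrCharacter G) := Finset.univ.erase t with hI
  set J : Finset (SubQ G Ω a) := Finset.univ.erase qa with hJ
  have hf' : ∀ χ : G → ℂ, Cfsg.IsIrrCharacter G χ → χ ≠ (fun _ => 1) →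
      Cfsg.classInner (fun g : G => (Nat.card (MulAction.fixedBy Ω g) : ℂ)) χ ≠ 0 →
      ∃ k : ℕ, χ 1 = (f : ℂ) * k := by
    intro χ h1 h2 h3
    exact ⟨1, by rw [hf χ h1 h2 h3]; simp⟩
  have hmd : ∀ μ ∈ I, m μ * d μ = m μ * f := by
    intro μ hμ
    by_cases h0 : m μ = 0
    · rw [h0, zero_mul, zero_mul]
    · have hne : (μ : G → ℂ) ≠ fun _ => 1 := by
        intro h
        exact (Finset.mem_erase.mp hμ).1 (Subtype.ext h)
      have hin : Cfsg.classInner (piChar G Ω) (μ : G → ℂ) ≠ 0 := by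
        rw [hm μ]; exact_mod_cast h0
      have := hf (μ : G → ℂ) μ.2 hne hin
      rw [hd μ] at this
      have : d μ = f := by exact_mod_cast this
      rw [this]
  have key := arith I m J s f ?_ ?_ ?_ ?_
  · obtain ⟨k1, k2⟩ := key
    refine ⟨?_, ?_⟩
    · intro χ hχ
      set μ : Cfsg.IrrCharacter G := ⟨χ, hχ⟩ with hμ
      have hmμ : Cfsg.classInner (piChar G Ω) χ = (m μ : ℂ) := hm μ
      by_cases hμt : μ = t
      · right; rw [hmμ, hμt, hmt]; simp
      · have := k1 μ (Finset.mem_erase.mpr ⟨hμt, Finset.mem_univ _⟩)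
        rw [hmμ]
        interval_cases (m μ)
        · left; simp
        · right; simp
    · intro b hb
      rw [← hsb b]
      apply k2
      exact Finset.mem_erase.mpr ⟨fun h => hb (hqb b h), Finset.mem_univ _⟩
  · -- h1
    have e1 : J.card + 1 = Nat.card (SubQ G Ω a) := by
      rw [hJ, Finset.card_erase_of_mem (Finset.mem_univ _), Finset.card_univ,
        Nat.card_eq_fintype_card]
      have : 0 < Fintype.card (SubQ G Ω a) := Fintype.card_pos_iff.mpr ⟨qa⟩
      omega
    have e2 : m t ^ 2 + ∑ μ ∈ I, m μ ^ 2 = ∑ μ : Cfsg.IrrCharacter G, m μ ^ 2 :=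
      Finset.add_sum_erase Finset.univ (fun μ => m μ ^ 2) (Finset.mem_univ t)
    rw [hmt] at e2
    rw [hr] at e1
    omega
  · -- h2
    have e1 : s qa + ∑ q ∈ J, s q = ∑ q : SubQ G Ω a, s q :=
      Finset.add_sum_erase Finset.univ s (Finset.mem_univ qa)
    have e2 : m t * d t + ∑ μ ∈ I, m μ * d μ = ∑ μ : Cfsg.IrrCharacter G, m μ * d μ :=
      Finset.add_sum_erase _ (fun μ => m μ * d μ) (Finset.mem_univ t)
    rw [hmt, hdt, Finset.sum_congr rfl hmd, ← Finset.sum_mul] at e2
    rw [hsqa, hsum_s, hn] at e1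
    rw [mul_comm]
    omega
  · -- h3
    intro q hq
    induction q using Quotient.inductionOn' with
    | h b =>
      have hb : b ≠ a := by
        intro h
        apply (Finset.mem_erase.mp hq).1
        rw [h]
      rw [hsb b]
      refine ⟨dvd_subdegree f hf' a b hb, ?_⟩
      rw [Nat.card_eq_fintype_card]
      exact Fintype.card_pos_iff.mpr ⟨⟨b, mem_orbit_self b⟩⟩
  · -- h4
    rintro ⟨μ, hμ, h0⟩
    have hne : (μ : G → ℂ) ≠ fun _ => 1 := by
      intro h
      exact (Finset.mem_erase.mp hμ).1 (Subtype.ext h)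
    have hin : Cfsg.classInner (piChar G Ω) (μ : G → ℂ) ≠ 0 := by
      rw [hm μ]; exact_mod_cast h0
    have := hf (μ : G → ℂ) μ.2 hne hin
    rw [hd μ] at this
    have : d μ = f := by exact_mod_cast this
    rw [← this]
    exact hdpos μ


theorem part2 [IsPretransitive G Ω] (a : Ω)
    (h5 : Nat.card (orbitRel.Quotient (stabilizer G a) Ω) ≤ 5) :
    ∀ χ : G → ℂ, Cfsg.IsIrrCharacter G χ →
      Cfsg.classInner (piChar G Ω) χ = 0 ∨ Cfsg.classInner (piChar G Ω) χ = 1 := by
  classical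
  haveI : Fintype (Cfsg.IrrCharacter G) := Fintype.ofFinite _
  have hπc : Cfsg.IsCharacter G (piChar G Ω) := piChar_isCharacter
  obtain ⟨m, hm, hexp⟩ := Cfsg.Agent.Lib.helper2.isCharacter_expansion hπc
  set t : Cfsg.IrrCharacter G := Cfsg.Agent.Lib.Helper25.trivIrr G with ht
  have htf : (t : G → ℂ) = fun _ => 1 := rfl
  have hmt : m t = 1 := by
    have := hm t
    rw [htf, inner_pi_triv a] at this
    exact_mod_cast this.symm
  have hpars := Cfsg.Agent.Lib.Helper25.classInner_parseval (piChar G Ω)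
    (Cfsg.Agent.Lib.helper2.isCharacter_isClassFunction hπc)
  rw [inner_pi_pi a] at hpars
  have hr : Nat.card (SubQ G Ω a) = ∑ μ : Cfsg.IrrCharacter G, m μ ^ 2 := by
    have : ((Nat.card (SubQ G Ω a) : ℕ) : ℂ)
        = ((∑ μ : Cfsg.IrrCharacter G, m μ ^ 2 : ℕ) : ℂ) := by
      rw [hpars]
      push_cast
      apply Finset.sum_congr rfl
      intro μ _
      rw [hm μ, Complex.conj_natCast]
      ring
    exact_mod_cast this
  intro χ hχ
  set μ₀ : Cfsg.IrrCharacter G := ⟨χ, hχ⟩ with hμ₀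
  have hmμ₀ : Cfsg.classInner (piChar G Ω) χ = (m μ₀ : ℂ) := hm μ₀
  by_cases hle : m μ₀ ≤ 1
  · rw [hmμ₀]
    interval_cases (m μ₀)
    · left; simp
    · right; simp
  push Not at hle
  exfalso
  have hμ₀t : μ₀ ≠ t := by
    intro h
    rw [h, hmt] at hle
    omega
  have hsum5 : ∑ μ : Cfsg.IrrCharacter G, m μ ^ 2 ≤ 5 := by rw [← hr]; exact h5
  have hothers : ∀ μ : Cfsg.IrrCharacter G, μ ≠ t → μ ≠ μ₀ → m μ = 0 := by
    intro μ h1 h2
    have hsub : ({t, μ₀, μ} : Finset (Cfsg.IrrCharacter G)) ⊆ Finset.univ := Finset.subset_univ _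
    have h3 := Finset.sum_le_sum_of_subset (f := fun μ => m μ ^ 2) hsub
    rw [Finset.sum_insert (by simp [Ne.symm hμ₀t, Ne.symm h1]),
      Finset.sum_insert (by simp [Ne.symm h2]), Finset.sum_singleton, hmt] at h3
    have h4 : 4 ≤ m μ₀ ^ 2 := by nlinarith
    have h5' : m μ ^ 2 = 0 := by omega
    exact pow_eq_zero_iff (by norm_num) |>.mp h5'
  obtain ⟨d, hdpos, hd⟩ := Cfsg.Agent.Lib.Helper25.irr_one_eq_finrank μ₀
  have hp1 := part1 (G := G) (Ω := Ω) a d ?_
  · rcases hp1.1 χ hχ with h | h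
    · rw [hmμ₀] at h
      have : m μ₀ = 0 := by exact_mod_cast h
      omega
    · rw [hmμ₀] at h
      have : m μ₀ = 1 := by exact_mod_cast h
      omega
  · intro χ' hχ' hne hin
    set μ' : Cfsg.IrrCharacter G := ⟨χ', hχ'⟩ with hμ'
    have hμ't : μ' ≠ t := by
      intro h
      apply hne
      have := congrArg (fun ν : Cfsg.IrrCharacter G => (ν : G → ℂ)) h
      exact this
    by_cases hμ'₀ : μ' = μ₀
    · have := congrArg (fun ν : Cfsg.IrrCharacter G => (ν : G → ℂ)) hμ'₀
      simp only [hμ', hμ₀] at this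
      rw [this]
      exact hd
    · exfalso
      apply hin
      have : Cfsg.classInner (piChar G Ω) χ' = (m μ' : ℂ) := hm μ'
      rw [this, hothers μ' hμ't hμ'₀]
      simp

theorem s0716 [IsPretransitive G Ω] (a : Ω) :
    ((f : ℕ) → (∀ χ : G → ℂ, Cfsg.IsIrrCharacter G χ → χ ≠ (fun _ => 1) →
        Cfsg.classInner (fun g : G => (Nat.card (MulAction.fixedBy Ω g) : ℂ)) χ ≠ 0 → χ 1 = f) →
      (∀ χ : G → ℂ, Cfsg.IsIrrCharacter G χ →
        Cfsg.classInner (fun g : G => (Nat.card (MulAction.fixedBy Ω g) : ℂ)) χ = 0 ∨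
        Cfsg.classInner (fun g : G => (Nat.card (MulAction.fixedBy Ω g) : ℂ)) χ = 1) ∧
      ∀ b : Ω, b ≠ a → Nat.card (MulAction.orbit (MulAction.stabilizer G a) b) = f) ∧
    (Nat.card (MulAction.orbitRel.Quotient (MulAction.stabilizer G a) Ω) ≤ 5 →
      ∀ χ : G → ℂ, Cfsg.IsIrrCharacter G χ →
        Cfsg.classInner (fun g : G => (Nat.card (MulAction.fixedBy Ω g) : ℂ)) χ = 0 ∨
        Cfsg.classInner (fun g : G => (Nat.card (MulAction.fixedBy Ω g) : ℂ)) χ = 1) :=
  ⟨fun f hf => part1 a f hf, fun h5 => part2 a h5⟩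

end Rank
end Cfsg.Agent.Lib.helper6.PermChar
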