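import Mathlib
import Cfsg.Agent.Lib.helper6.PermChar3
import Cfsg.Agent.Lib.Helper25.CharConv

set_option autoImplicit false

namespace Cfsg.Agent.Lib.helper6.PermChar

open Module LinearMap Polynomial MulAction
open scoped ComplexConjugate

section Commutant
variable {G : Type*} [Group G] [Fintype G] {Ω : Type*} [Fintype Ω] [DecidableEq Ω] [MulAction G Ω]

theorem mem_inv_iff {S W : Type*} [AddCommGroup S] [Module ℂ S] [AddCommGroup W] [Module ℂ W]
    (ρ : Representation ℂ G S) (τ : Representation ℂ G W) (f : S →ₗ[ℂ] W) :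
    f ∈ (Representation.linHom ρ τ).invariants ↔ ∀ g, f ∘ₗ ρ g = τ g ∘ₗ f := by
  rw [Representation.mem_invariants]
  constructor
  · intro h g
    have := h g
    rw [Representation.linHom_apply] at this
    conv_lhs => rw [← this]
    rw [LinearMap.comp_assoc, LinearMap.comp_assoc]
    congr 1
    rw [← Module.End.mul_eq_comp, ← map_mul, inv_mul_cancel, map_one]
    rfl
  · intro h g
    rw [Representation.linHom_apply, ← LinearMap.comp_assoc, ← h g, LinearMap.comp_assoc,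
      ← Module.End.mul_eq_comp, ← map_mul, mul_inv_cancel, map_one]
    rfl

theorem permRep_character : (Cfsg.permRep ℂ G Ω).character = piChar G Ω := by
  funext g
  unfold Representation.character piChar
  rw [trace_permRep, Pm_trace]

theorem piChar_inv (g : G) : piChar G Ω g⁻¹ = piChar G Ω g := by
  rw [← permRep_character, Cfsg.Agent.Lib.Helper25.char_inv, permRep_character]
  unfold piChar
  rw [Complex.conj_natCast]

theorem finrank_invariants_linHom {S : Type*} [AddCommGroup S] [Module ℂ S] [FiniteDimensional ℂ S]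
    (ρ : Representation ℂ G S) :
    (finrank ℂ (Representation.invariants (Representation.linHom ρ (Cfsg.permRep ℂ G Ω))) : ℂ)
      = Cfsg.classInner (piChar G Ω) ρ.character := by
  haveI : Invertible (Nat.card G : ℂ) := invertibleOfNonzero (by exact_mod_cast Nat.card_pos.ne')
  rw [← Representation.card_inv_mul_sum_char_eq_finrank]
  unfold Cfsg.classInner
  congr 1
  apply Finset.sum_congr rfl
  intro g _
  rw [Representation.char_linHom, Cfsg.Agent.Lib.Helper25.char_inv, mul_comm, permRep_character]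

/-- the isotypic projection attached to a class function -/
noncomputable def Eχ (χ : G → ℂ) : Module.End ℂ (Ω → ℂ) :=
  (χ 1 / (Fintype.card G : ℂ)) • ∑ g : G, χ g⁻¹ • Cfsg.permRep ℂ G Ω g

theorem Eχ_comm (χ : Cfsg.IrrCharacter G) (h : G) :
    Eχ (Ω := Ω) (χ : G → ℂ) * Cfsg.permRep ℂ G Ω h = Cfsg.permRep ℂ G Ω h * Eχ (Ω := Ω) (χ : G → ℂ) := by
  unfold Eχ
  rw [smul_mul_assoc, mul_smul_comm, Finset.sum_mul, Finset.mul_sum]
  congr 1
  have h1 : ∀ g : G, ((χ : G → ℂ) g⁻¹ • Cfsg.permRep ℂ G Ω g) * Cfsg.permRep ℂ G Ω h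
      = (χ : G → ℂ) g⁻¹ • Cfsg.permRep ℂ G Ω (g * h) := by
    intro g; rw [smul_mul_assoc, map_mul]
  have h2 : ∀ g : G, Cfsg.permRep ℂ G Ω h * ((χ : G → ℂ) g⁻¹ • Cfsg.permRep ℂ G Ω g)
      = (χ : G → ℂ) g⁻¹ • Cfsg.permRep ℂ G Ω (h * g) := by
    intro g; rw [mul_smul_comm, map_mul]
  rw [Finset.sum_congr rfl (fun g _ => h1 g), Finset.sum_congr rfl (fun g _ => h2 g)]
  -- reindex g ↦ h g h⁻¹ on the left
  rw [← Equiv.sum_comp (MulAut.conj h).toEquiv]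
  apply Finset.sum_congr rfl
  intro g _
  have e1 : (MulAut.conj h).toEquiv g = h * g * h⁻¹ := rfl
  rw [e1]
  have e2 : (h * g * h⁻¹)⁻¹ = h * g⁻¹ * h⁻¹ := by group
  rw [e2, Cfsg.Agent.Lib.Helper25.irr_conj_invariant]
  congr 2
  group

theorem Eχ_mem (χ : Cfsg.IrrCharacter G) :
    Eχ (Ω := Ω) (χ : G → ℂ) ∈ (Representation.linHom (Cfsg.permRep ℂ G Ω) (Cfsg.permRep ℂ G Ω)).invariants := by
  rw [mem_inv_iff]
  intro g
  exact Eχ_comm χ g

theorem comm_Eχ_of_mem (χ : G → ℂ) (T : Module.End ℂ (Ω → ℂ))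
    (hT : T ∈ (Representation.linHom (Cfsg.permRep ℂ G Ω) (Cfsg.permRep ℂ G Ω)).invariants) :
    T * Eχ (Ω := Ω) χ = Eχ (Ω := Ω) χ * T := by
  rw [mem_inv_iff] at hT
  unfold Eχ
  rw [mul_smul_comm, smul_mul_assoc, Finset.mul_sum, Finset.sum_mul]
  congr 1
  apply Finset.sum_congr rfl
  intro g _
  rw [mul_smul_comm, smul_mul_assoc]
  congr 1
  exact hT g


theorem irr_mul_comm (ν : Cfsg.IrrCharacter G) (x y : G) :
    (ν : G → ℂ) (x * y) = (ν : G → ℂ) (y * x) := by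
  have := Cfsg.Agent.Lib.Helper25.irr_conj_invariant ν (x * y) x⁻¹
  rw [← this]
  congr 1
  group

theorem trace_mul_Eχ [Fintype (Cfsg.IrrCharacter G)] (m : Cfsg.IrrCharacter G → ℕ)
    (hexp : piChar G Ω = ∑ χ : Cfsg.IrrCharacter G, (m χ : ℂ) • (χ : G → ℂ))
    (μ : Cfsg.IrrCharacter G) (h : G) :
    LinearMap.trace ℂ (Ω → ℂ) (Cfsg.permRep ℂ G Ω h * Eχ (Ω := Ω) (μ : G → ℂ))
      = (m μ : ℂ) * (μ : G → ℂ) h := by
  classical
  have hcard : (Fintype.card G : ℂ) ≠ 0 := card_ne_zero'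
  have hμ1 : (μ : G → ℂ) 1 ≠ 0 := Cfsg.Agent.Lib.Helper25.irr_one_ne_zero μ
  unfold Eχ
  rw [mul_smul_comm, map_smul, Finset.mul_sum, map_sum]
  have h1 : ∀ g : G, LinearMap.trace ℂ (Ω → ℂ)
      (Cfsg.permRep ℂ G Ω h * ((μ : G → ℂ) g⁻¹ • Cfsg.permRep ℂ G Ω g))
      = (μ : G → ℂ) g⁻¹ * piChar G Ω (h * g) := by
    intro g
    rw [mul_smul_comm, map_smul, ← map_mul, smul_eq_mul]
    congr 1
    have := congrFun (permRep_character (G := G) (Ω := Ω)) (h * g)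
    exact this
  rw [Finset.sum_congr rfl (fun g _ => h1 g)]
  -- expand π
  have h2 : ∀ g : G, (μ : G → ℂ) g⁻¹ * piChar G Ω (h * g)
      = ∑ ν : Cfsg.IrrCharacter G, (m ν : ℂ) * ((μ : G → ℂ) g⁻¹ * (ν : G → ℂ) (h * g)) := by
    intro g
    rw [hexp, Finset.sum_apply, Finset.mul_sum]
    apply Finset.sum_congr rfl
    intro ν _
    rw [Pi.smul_apply, smul_eq_mul]
    ring
  rw [Finset.sum_congr rfl (fun g _ => h2 g), Finset.sum_comm]
  have h3 : ∀ ν : Cfsg.IrrCharacter G,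
      ∑ g : G, (m ν : ℂ) * ((μ : G → ℂ) g⁻¹ * (ν : G → ℂ) (h * g))
      = (m ν : ℂ) * (if μ = ν then (Nat.card G : ℂ) * (ν : G → ℂ) h / (ν : G → ℂ) 1 else 0) := by
    intro ν
    rw [← Finset.mul_sum, ← Cfsg.Agent.Lib.Helper25.irr_convolution μ ν h]
    congr 1
    rw [← Equiv.sum_comp (Equiv.inv G)]
    apply Finset.sum_congr rfl
    intro g _
    rw [Equiv.inv_apply, inv_inv, irr_mul_comm]
  rw [Finset.sum_congr rfl (fun ν _ => h3 ν), Finset.sum_eq_single μ]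
  · rw [if_pos rfl, smul_eq_mul, Nat.card_eq_fintype_card]
    field_simp
  · intro ν _ hν
    rw [if_neg (Ne.symm hν), mul_zero]
  · intro hh; exact absurd (Finset.mem_univ _) hh


theorem commutant_comm_of_multfree
    (hmf : ∀ χ : G → ℂ, Cfsg.IsIrrCharacter G χ →
      Cfsg.classInner (piChar G Ω) χ = 0 ∨ Cfsg.classInner (piChar G Ω) χ = 1)
    (S T : Module.End ℂ (Ω → ℂ))
    (hS : S ∈ (Representation.linHom (Cfsg.permRep ℂ G Ω) (Cfsg.permRep ℂ G Ω)).invariants)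
    (hT : T ∈ (Representation.linHom (Cfsg.permRep ℂ G Ω) (Cfsg.permRep ℂ G Ω)).invariants) :
    S * T = T * S := by
  classical
  haveI : Fintype (Cfsg.IrrCharacter G) := Fintype.ofFinite _
  have hπc : Cfsg.IsCharacter G (piChar G Ω) := piChar_isCharacter
  obtain ⟨m, hm, hexp⟩ := Cfsg.Agent.Lib.helper2.isCharacter_expansion hπc
  have hm1 : ∀ μ : Cfsg.IrrCharacter G, m μ ≤ 1 := by
    intro μ
    rcases hmf (μ : G → ℂ) μ.2 with h | h
    · rw [hm μ] at h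
      have : m μ = 0 := by exact_mod_cast h
      omega
    · rw [hm μ] at h
      have : m μ = 1 := by exact_mod_cast h
      omega
  set 𝓔 := (Representation.linHom (Cfsg.permRep ℂ G Ω) (Cfsg.permRep ℂ G Ω)).invariants with h𝓔
  let I := {μ : Cfsg.IrrCharacter G // m μ ≠ 0}
  let e : I → Module.End ℂ (Ω → ℂ) := fun i => Eχ (Ω := Ω) ((i : Cfsg.IrrCharacter G) : G → ℂ)
  have hli : LinearIndependent ℂ e := by
    rw [Fintype.linearIndependent_iff]
    intro c hc i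
    have hirr := (Cfsg.Agent.Lib.Helper25.irr_linearIndependent G).comp
      (fun i : I => (i : Cfsg.IrrCharacter G)) Subtype.val_injective
    rw [Fintype.linearIndependent_iff] at hirr
    have h0 : ∑ j : I, (c j * (m j : ℂ)) • ((j : Cfsg.IrrCharacter G) : G → ℂ) = 0 := by
      funext h
      have h1 := congrArg (fun X => LinearMap.trace ℂ (Ω → ℂ) (Cfsg.permRep ℂ G Ω h * X)) hc
      simp only [Finset.mul_sum, mul_smul_comm, map_sum, map_smul, mul_zero, map_zero] at h1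
      rw [Finset.sum_apply, Pi.zero_apply, ← h1]
      apply Finset.sum_congr rfl
      intro j _
      rw [Pi.smul_apply, smul_eq_mul, smul_eq_mul]
      show _ = c j * LinearMap.trace ℂ (Ω → ℂ) (Cfsg.permRep ℂ G Ω h * Eχ (Ω := Ω) ((j : Cfsg.IrrCharacter G) : G → ℂ))
      rw [trace_mul_Eχ m hexp]
      ring
    have := hirr (fun j => c j * (m j : ℂ)) h0 i
    rcases mul_eq_zero.mp this with h | h
    · exact h
    · exfalso
      exact i.2 (by exact_mod_cast h)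
  have hspan_le : Submodule.span ℂ (Set.range e) ≤ 𝓔 := by
    rw [Submodule.span_le]
    rintro _ ⟨i, rfl⟩
    exact Eχ_mem (i : Cfsg.IrrCharacter G)
  have hfr1 : finrank ℂ (Submodule.span ℂ (Set.range e)) = Fintype.card I :=
    finrank_span_eq_card hli
  have hfr2 : finrank ℂ 𝓔 = Fintype.card I := by
    have h1 := finrank_invariants_linHom (G := G) (Ω := Ω) (Cfsg.permRep ℂ G Ω)
    rw [permRep_character] at h1
    have hpars := Cfsg.Agent.Lib.Helper25.classInner_parseval (piChar G Ω)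
      (Cfsg.Agent.Lib.helper2.isCharacter_isClassFunction hπc)
    rw [hpars] at h1
    have h2 : (∑ μ : Cfsg.IrrCharacter G, Cfsg.classInner (piChar G Ω) (μ : G → ℂ) *
        conj (Cfsg.classInner (piChar G Ω) (μ : G → ℂ))) = ((Fintype.card I : ℕ) : ℂ) := by
      rw [Fintype.card_subtype, Finset.card_filter]
      push_cast
      apply Finset.sum_congr rfl
      intro μ _
      rw [hm μ, Complex.conj_natCast]
      have := hm1 μ
      interval_cases (m μ) <;> simp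
    rw [h2] at h1
    exact_mod_cast h1
  have hspan_eq : Submodule.span ℂ (Set.range e) = 𝓔 :=
    Submodule.eq_of_le_of_finrank_eq hspan_le (by rw [hfr1, hfr2])
  rw [← hspan_eq] at hS
  induction hS using Submodule.span_induction with
  | mem x hx =>
    obtain ⟨i, rfl⟩ := hx
    exact (comm_Eχ_of_mem _ T hT).symm
  | zero => simp
  | add x y _ _ hx hy => rw [add_mul, mul_add, hx, hy]
  | smul a x _ hx => rw [smul_mul_assoc, mul_smul_comm, hx]


theorem exists_retraction {S : Type*} [AddCommGroup S] [Module ℂ S]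
    (ρ : Representation ℂ G S) [ρ.IsIrreducible] (φ : S →ₗ[ℂ] (Ω → ℂ))
    (hφ : ∀ g, φ ∘ₗ ρ g = Cfsg.permRep ℂ G Ω g ∘ₗ φ) (h0 : φ ≠ 0) :
    ∃ ψ : (Ω → ℂ) →ₗ[ℂ] S, (∀ g, ψ ∘ₗ Cfsg.permRep ℂ G Ω g = ρ g ∘ₗ ψ) ∧ ψ ∘ₗ φ = LinearMap.id := by
  have hker : LinearMap.ker φ = ⊥ := by
    rcases Cfsg.Agent.Lib.Helper25.irr_eq_bot_or_top ρ (LinearMap.ker φ) (by
      intro g v hv
      rw [LinearMap.mem_ker] at hv ⊢
      have := congrArg (fun F => F v) (hφ g)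
      simp only [LinearMap.comp_apply] at this
      rw [this, hv, map_zero]) with h | h
    · exact h
    · exfalso
      apply h0
      exact LinearMap.ker_eq_top.mp h
  obtain ⟨r, hr⟩ := LinearMap.exists_leftInverse_of_injective φ hker
  set τ := Representation.linHom (Cfsg.permRep ℂ G Ω) ρ with hτ
  refine ⟨avg τ r, ?_, ?_⟩
  · have hmem : avg τ r ∈ τ.invariants := by
      rw [Representation.mem_invariants]
      intro g
      calc τ g (avg τ r) = (τ g * avg τ) r := rfl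
        _ = avg τ r := by rw [mul_avg]
    exact (mem_inv_iff _ _ _).mp hmem
  · unfold avg
    rw [LinearMap.smul_apply, LinearMap.sum_apply, LinearMap.smul_comp]
    have hsc : (∑ g : G, τ g r) ∘ₗ φ = ∑ g : G, (τ g r) ∘ₗ φ := by
      apply LinearMap.ext
      intro v
      simp only [LinearMap.comp_apply, LinearMap.sum_apply]
    rw [hsc]
    have h1 : ∀ g : G, (τ g r) ∘ₗ φ = LinearMap.id := by
      intro g
      rw [hτ, Representation.linHom_apply, LinearMap.comp_assoc, LinearMap.comp_assoc]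
      have h2 : Cfsg.permRep ℂ G Ω g⁻¹ ∘ₗ φ = φ ∘ₗ ρ g⁻¹ := (hφ g⁻¹).symm
      rw [h2, ← LinearMap.comp_assoc (ρ g⁻¹) φ r, hr, LinearMap.id_comp, ← Module.End.mul_eq_comp,
        ← map_mul, mul_inv_cancel, map_one]
      rfl
    rw [Finset.sum_congr rfl (fun g _ => h1 g), Finset.sum_const, Finset.card_univ,
      ← Nat.cast_smul_eq_nsmul ℂ, smul_smul, inv_mul_cancel₀ card_ne_zero', one_smul]

theorem multfree_of_commutant_comm
    (hcomm : ∀ S T : Module.End ℂ (Ω → ℂ),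
      S ∈ (Representation.linHom (Cfsg.permRep ℂ G Ω) (Cfsg.permRep ℂ G Ω)).invariants →
      T ∈ (Representation.linHom (Cfsg.permRep ℂ G Ω) (Cfsg.permRep ℂ G Ω)).invariants →
      S * T = T * S)
    (χ : G → ℂ) (hχ : Cfsg.IsIrrCharacter G χ) :
    Cfsg.classInner (piChar G Ω) χ = 0 ∨ Cfsg.classInner (piChar G Ω) χ = 1 := by
  classical
  obtain ⟨d, ρ, hirr, hρχ⟩ := hχ
  haveI := hirr
  have hfr := finrank_invariants_linHom (G := G) (Ω := Ω) ρ
  rw [hρχ] at hfr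
  set W := (Representation.linHom ρ (Cfsg.permRep ℂ G Ω)).invariants with hW
  rw [← hfr]
  by_cases hle : finrank ℂ W ≤ 1
  · interval_cases (finrank ℂ W)
    · left; simp
    · right; simp
  push Not at hle
  exfalso
  -- two independent intertwiners
  have hpos : 0 < finrank ℂ W := by omega
  obtain ⟨φ₁, hφ₁0⟩ := (Module.finrank_pos_iff_exists_ne_zero (R := ℂ) (M := W)).mp hpos
  obtain ⟨φ₂, hli⟩ := exists_linearIndependent_pair_of_one_lt_finrank hle hφ₁0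
  have hφ₁ := (mem_inv_iff _ _ _).mp φ₁.2
  have hφ₂ := (mem_inv_iff _ _ _).mp φ₂.2
  have hφ₁0' : (φ₁ : (Fin d → ℂ) →ₗ[ℂ] (Ω → ℂ)) ≠ 0 := fun h => hφ₁0 (Subtype.ext h)
  obtain ⟨ψ₁, hψ₁, hψ₁φ₁⟩ := exists_retraction ρ φ₁.1 hφ₁ hφ₁0'
  -- c = ψ₁ φ₂ is a scalar
  have hc : ∀ g, (ψ₁ ∘ₗ φ₂.1) ∘ₗ ρ g = ρ g ∘ₗ (ψ₁ ∘ₗ φ₂.1) := by
    intro g
    rw [LinearMap.comp_assoc, hφ₂ g, ← LinearMap.comp_assoc, hψ₁ g, LinearMap.comp_assoc]
  obtain ⟨c, hcs⟩ := Cfsg.Agent.Lib.Helper25.commuting_end_scalar ρ (ψ₁ ∘ₗ φ₂.1) hc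
  set φ₂' : (Fin d → ℂ) →ₗ[ℂ] (Ω → ℂ) := φ₂.1 - c • φ₁.1 with hφ₂'
  have hφ₂'eq : ∀ g, φ₂' ∘ₗ ρ g = Cfsg.permRep ℂ G Ω g ∘ₗ φ₂' := by
    intro g
    rw [hφ₂', LinearMap.sub_comp, LinearMap.comp_sub, LinearMap.smul_comp, LinearMap.comp_smul,
      hφ₁ g, hφ₂ g]
  have hφ₂'0 : φ₂' ≠ 0 := by
    intro h
    rw [hφ₂', sub_eq_zero] at h
    have h1 : φ₂ = c • φ₁ := Subtype.ext h
    have := (LinearIndependent.pair_iff.mp hli) (-c) 1 (by rw [h1]; simp)
    exact one_ne_zero this.2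
  have hψ₁φ₂' : ψ₁ ∘ₗ φ₂' = 0 := by
    rw [hφ₂', LinearMap.comp_sub, LinearMap.comp_smul, hcs, hψ₁φ₁, sub_self]
  obtain ⟨ψ₂, hψ₂, hψ₂φ₂'⟩ := exists_retraction ρ φ₂' hφ₂'eq hφ₂'0
  -- the two endomorphisms
  set A : Module.End ℂ (Ω → ℂ) := φ₁.1 ∘ₗ ψ₂ with hA
  set B : Module.End ℂ (Ω → ℂ) := φ₂' ∘ₗ ψ₁ with hB
  have hAmem : A ∈ (Representation.linHom (Cfsg.permRep ℂ G Ω) (Cfsg.permRep ℂ G Ω)).invariants := by
    rw [mem_inv_iff]
    intro g
    rw [hA, LinearMap.comp_assoc, hψ₂ g, ← LinearMap.comp_assoc, hφ₁ g, LinearMap.comp_assoc]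
  have hBmem : B ∈ (Representation.linHom (Cfsg.permRep ℂ G Ω) (Cfsg.permRep ℂ G Ω)).invariants := by
    rw [mem_inv_iff]
    intro g
    rw [hB, LinearMap.comp_assoc, hψ₁ g, ← LinearMap.comp_assoc, hφ₂'eq g, LinearMap.comp_assoc]
  have hAB := hcomm A B hAmem hBmem
  -- apply ψ₁ on the left
  have h1 : ψ₁ ∘ₗ (A * B) = ψ₁ := by
    rw [hA, hB, Module.End.mul_eq_comp]
    calc ψ₁ ∘ₗ ((φ₁.1 ∘ₗ ψ₂) ∘ₗ (φ₂' ∘ₗ ψ₁))
        = (ψ₁ ∘ₗ φ₁.1) ∘ₗ ((ψ₂ ∘ₗ φ₂') ∘ₗ ψ₁) := by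
          simp only [LinearMap.comp_assoc]
      _ = ψ₁ := by rw [hψ₁φ₁, hψ₂φ₂', LinearMap.id_comp, LinearMap.id_comp]
  have h2 : ψ₁ ∘ₗ (B * A) = 0 := by
    rw [hA, hB, Module.End.mul_eq_comp]
    calc ψ₁ ∘ₗ ((φ₂' ∘ₗ ψ₁) ∘ₗ (φ₁.1 ∘ₗ ψ₂))
        = (ψ₁ ∘ₗ φ₂') ∘ₗ (ψ₁ ∘ₗ (φ₁.1 ∘ₗ ψ₂)) := by
          simp only [LinearMap.comp_assoc]
      _ = 0 := by rw [hψ₁φ₂', LinearMap.zero_comp]
  rw [hAB, h2] at h1
  rw [← h1, LinearMap.zero_comp] at hψ₁φ₁
  -- id = 0 on S, but φ₁ ≠ 0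
  apply hφ₁0'
  have : (φ₁ : (Fin d → ℂ) →ₗ[ℂ] (Ω → ℂ)) = φ₁.1 ∘ₗ LinearMap.id := (LinearMap.comp_id _).symm
  rw [this, ← hψ₁φ₁, LinearMap.comp_zero]

end Commutant

theorem s0718 {G : Type*} [Group G] [Fintype G] {Ω : Type*} [Fintype Ω] [MulAction G Ω] :
    (∀ χ : G → ℂ, Cfsg.IsIrrCharacter G χ →
      Cfsg.classInner (fun g : G => (Nat.card (MulAction.fixedBy Ω g) : ℂ)) χ = 0 ∨
      Cfsg.classInner (fun g : G => (Nat.card (MulAction.fixedBy Ω g) : ℂ)) χ = 1) ↔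
    ∀ S T : (Ω → ℂ) →ₗ[ℂ] (Ω → ℂ),
      S ∈ ((Cfsg.permRep ℂ G Ω).linHom (Cfsg.permRep ℂ G Ω)).invariants →
      T ∈ ((Cfsg.permRep ℂ G Ω).linHom (Cfsg.permRep ℂ G Ω)).invariants → S ∘ₗ T = T ∘ₗ S := by
  classical
  constructor
  · intro h S T hS hT
    exact commutant_comm_of_multfree (G := G) (Ω := Ω) h S T hS hT
  · intro h χ hχ
    exact multfree_of_commutant_comm (G := G) (Ω := Ω) (fun S T hS hT => h S T hS hT) χ hχ

end Cfsg.Agent.Lib.helper6.PermChar
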