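import Mathlib
import Cfsg.Agent.Lib.helper6.PermChar4

set_option autoImplicit false

namespace Cfsg.Agent.Lib.helper6.PermChar

open Module LinearMap Polynomial MulAction
open scoped ComplexConjugate Matrix

section Sym
variable {G : Type*} [Group G] [Fintype G] {Ω : Type*} [Fintype Ω] [DecidableEq Ω] [MulAction G Ω]

/-- induction principle for the commutant in the multiplicity-free case -/
theorem commutant_induction
    (hmf : ∀ χ : G → ℂ, Cfsg.IsIrrCharacter G χ →
      Cfsg.classInner (piChar G Ω) χ = 0 ∨ Cfsg.classInner (piChar G Ω) χ = 1)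
    (P : Module.End ℂ (Ω → ℂ) → Prop)
    (h0 : P 0) (hadd : ∀ x y, P x → P y → P (x + y)) (hsmul : ∀ (c : ℂ) x, P x → P (c • x))
    (hE : ∀ μ : Cfsg.IrrCharacter G, Cfsg.classInner (piChar G Ω) (μ : G → ℂ) ≠ 0 →
      P (Eχ (Ω := Ω) (μ : G → ℂ)))
    (T : Module.End ℂ (Ω → ℂ))
    (hT : T ∈ (Representation.linHom (Cfsg.permRep ℂ G Ω) (Cfsg.permRep ℂ G Ω)).invariants) :
    P T := by
  classical
  haveI : Fintype (Cfsg.IrrCharacter G) := Fintype.ofFinite _
  have hπc : Cfsg.IsCharacter G (piChar G Ω) := piChar_isCharacter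
  obtain ⟨m, hm, hexp⟩ := Cfsg.Agent.Lib.helper2.isCharacter_expansion hπc
  have hm1 : ∀ μ : Cfsg.IrrCharacter G, m μ ≤ 1 := by
    intro μ
    rcases hmf (μ : G → ℂ) μ.2 with h | h
    · rw [hm μ] at h
      have : m μ = 0 := by exact_mod_cast h
      omega
    · rw [hm μ] at h
      have : m μ = 1 := by exact_mod_cast h
      omega
  set 𝓔 := (Representation.linHom (Cfsg.permRep ℂ G Ω) (Cfsg.permRep ℂ G Ω)).invariants with h𝓔
  let I := {μ : Cfsg.IrrCharacter G // m μ ≠ 0}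
  let e : I → Module.End ℂ (Ω → ℂ) := fun i => Eχ (Ω := Ω) ((i : Cfsg.IrrCharacter G) : G → ℂ)
  have hli : LinearIndependent ℂ e := by
    rw [Fintype.linearIndependent_iff]
    intro c hc i
    have hirr := (Cfsg.Agent.Lib.Helper25.irr_linearIndependent G).comp
      (fun i : I => (i : Cfsg.IrrCharacter G)) Subtype.val_injective
    rw [Fintype.linearIndependent_iff] at hirr
    have h0 : ∑ j : I, (c j * (m j : ℂ)) • ((j : Cfsg.IrrCharacter G) : G → ℂ) = 0 := by
      funext h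
      have h1 := congrArg (fun X => LinearMap.trace ℂ (Ω → ℂ) (Cfsg.permRep ℂ G Ω h * X)) hc
      simp only [Finset.mul_sum, mul_smul_comm, map_sum, map_smul, mul_zero, map_zero] at h1
      rw [Finset.sum_apply, Pi.zero_apply, ← h1]
      apply Finset.sum_congr rfl
      intro j _
      rw [Pi.smul_apply, smul_eq_mul, smul_eq_mul]
      show _ = c j * LinearMap.trace ℂ (Ω → ℂ) (Cfsg.permRep ℂ G Ω h * Eχ (Ω := Ω) ((j : Cfsg.IrrCharacter G) : G → ℂ))
      rw [trace_mul_Eχ m hexp]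
      ring
    have := hirr (fun j => c j * (m j : ℂ)) h0 i
    rcases mul_eq_zero.mp this with h | h
    · exact h
    · exfalso
      exact i.2 (by exact_mod_cast h)
  have hspan_le : Submodule.span ℂ (Set.range e) ≤ 𝓔 := by
    rw [Submodule.span_le]
    rintro _ ⟨i, rfl⟩
    exact Eχ_mem (i : Cfsg.IrrCharacter G)
  have hfr1 : finrank ℂ (Submodule.span ℂ (Set.range e)) = Fintype.card I :=
    finrank_span_eq_card hli
  have hfr2 : finrank ℂ 𝓔 = Fintype.card I := by
    have h1 := finrank_invariants_linHom (G := G) (Ω := Ω) (Cfsg.permRep ℂ G Ω)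
    rw [permRep_character] at h1
    have hpars := Cfsg.Agent.Lib.Helper25.classInner_parseval (piChar G Ω)
      (Cfsg.Agent.Lib.helper2.isCharacter_isClassFunction hπc)
    rw [hpars] at h1
    have h2 : (∑ μ : Cfsg.IrrCharacter G, Cfsg.classInner (piChar G Ω) (μ : G → ℂ) *
        conj (Cfsg.classInner (piChar G Ω) (μ : G → ℂ))) = ((Fintype.card I : ℕ) : ℂ) := by
      rw [Fintype.card_subtype, Finset.card_filter]
      push_cast
      apply Finset.sum_congr rfl
      intro μ _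
      rw [hm μ, Complex.conj_natCast]
      have := hm1 μ
      interval_cases (m μ) <;> simp
    rw [h2] at h1
    exact_mod_cast h1
  have hspan_eq : Submodule.span ℂ (Set.range e) = 𝓔 :=
    Submodule.eq_of_le_of_finrank_eq hspan_le (by rw [hfr1, hfr2])
  rw [← hspan_eq] at hT
  induction hT using Submodule.span_induction with
  | mem x hx =>
    obtain ⟨i, rfl⟩ := hx
    apply hE
    rw [hm]
    exact_mod_cast i.2
  | zero => exact h0
  | add x y _ _ hx hy => exact hadd x y hx hy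
  | smul a x _ hx => exact hsmul a x hx

theorem toMatrix'_permRep (g : G) : LinearMap.toMatrix' (Cfsg.permRep ℂ G Ω g) = Pm g := by
  rw [permRep_eq_toLin', LinearMap.toMatrix'_toLin']

theorem Pm_transpose (g : G) : (Pm (Ω := Ω) g)ᵀ = Pm g⁻¹ := by
  ext x y
  simp only [Matrix.transpose_apply, Pm]
  have : g • x = y ↔ g⁻¹ • y = x := by
    constructor
    · rintro rfl; rw [inv_smul_smul]
    · rintro rfl; rw [smul_inv_smul]
  simp only [this]

theorem trace_eq_toMatrix' (T : Module.End ℂ (Ω → ℂ)) :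
    LinearMap.trace ℂ (Ω → ℂ) T = (LinearMap.toMatrix' T).trace := by
  conv_lhs => rw [← Matrix.toLin'_toMatrix' T]
  rw [Matrix.trace_toLin'_eq]

theorem matrix_invariant (T : Module.End ℂ (Ω → ℂ))
    (hT : T ∈ (Representation.linHom (Cfsg.permRep ℂ G Ω) (Cfsg.permRep ℂ G Ω)).invariants)
    (g : G) (x y : Ω) :
    LinearMap.toMatrix' T (g • x) (g • y) = LinearMap.toMatrix' T x y := by
  rw [mem_inv_iff] at hT
  rw [LinearMap.toMatrix'_apply, LinearMap.toMatrix'_apply]
  have h1 : Cfsg.permRep ℂ G Ω g (Pi.single y 1) = Pi.single (g • y) 1 := by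
    funext z
    show (Pi.single y (1:ℂ) : Ω → ℂ) (g⁻¹ • z) = _
    rw [Pi.single_apply, Pi.single_apply]
    have : g⁻¹ • z = y ↔ z = g • y := by
      constructor
      · rintro rfl; rw [smul_inv_smul]
      · rintro rfl; rw [inv_smul_smul]
    simp only [this]
  have h2 := congrArg (fun F => F (Pi.single y 1) (g • x)) (hT g)
  simp only [LinearMap.comp_apply] at h2
  rw [h1] at h2
  rw [h2]
  show T (Pi.single y 1) (g⁻¹ • g • x) = _
  rw [inv_smul_smul]

theorem symm_of_generous (hgen : ∀ a b : Ω, ∃ g : G, g • a = b ∧ g • b = a)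
    (T : Module.End ℂ (Ω → ℂ))
    (hT : T ∈ (Representation.linHom (Cfsg.permRep ℂ G Ω) (Cfsg.permRep ℂ G Ω)).invariants) :
    (LinearMap.toMatrix' T)ᵀ = LinearMap.toMatrix' T := by
  ext a b
  rw [Matrix.transpose_apply]
  obtain ⟨g, h1, h2⟩ := hgen a b
  have := matrix_invariant T hT g a b
  rw [h1, h2] at this
  exact this

theorem mul_mem_commutant (S T : Module.End ℂ (Ω → ℂ))
    (hS : S ∈ (Representation.linHom (Cfsg.permRep ℂ G Ω) (Cfsg.permRep ℂ G Ω)).invariants)
    (hT : T ∈ (Representation.linHom (Cfsg.permRep ℂ G Ω) (Cfsg.permRep ℂ G Ω)).invariants) :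
    S * T ∈ (Representation.linHom (Cfsg.permRep ℂ G Ω) (Cfsg.permRep ℂ G Ω)).invariants := by
  rw [mem_inv_iff] at *
  intro g
  rw [Module.End.mul_eq_comp, LinearMap.comp_assoc, hT g, ← LinearMap.comp_assoc, hS g,
    LinearMap.comp_assoc]

theorem comm_of_generous (hgen : ∀ a b : Ω, ∃ g : G, g • a = b ∧ g • b = a)
    (S T : Module.End ℂ (Ω → ℂ))
    (hS : S ∈ (Representation.linHom (Cfsg.permRep ℂ G Ω) (Cfsg.permRep ℂ G Ω)).invariants)
    (hT : T ∈ (Representation.linHom (Cfsg.permRep ℂ G Ω) (Cfsg.permRep ℂ G Ω)).invariants) :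
    S * T = T * S := by
  have h1 := symm_of_generous hgen (S * T) (mul_mem_commutant S T hS hT)
  have h2 := symm_of_generous hgen S hS
  have h3 := symm_of_generous hgen T hT
  apply LinearMap.toMatrix'.injective
  rw [LinearMap.toMatrix'_mul, LinearMap.toMatrix'_mul]
  rw [LinearMap.toMatrix'_mul, Matrix.transpose_mul, h2, h3] at h1
  exact h1.symm

theorem real_of_generous (hgen : ∀ a b : Ω, ∃ g : G, g • a = b ∧ g • b = a)
    (μ : Cfsg.IrrCharacter G) (hμ : Cfsg.classInner (piChar G Ω) (μ : G → ℂ) ≠ 0) (h : G) :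
    conj ((μ : G → ℂ) h) = (μ : G → ℂ) h := by
  classical
  haveI : Fintype (Cfsg.IrrCharacter G) := Fintype.ofFinite _
  obtain ⟨m, hm, hexp⟩ :=
    Cfsg.Agent.Lib.helper2.isCharacter_expansion (piChar_isCharacter (G := G) (Ω := Ω))
  have hm0 : (m μ : ℂ) ≠ 0 := by rw [← hm μ]; exact hμ
  have hE := symm_of_generous hgen _ (Eχ_mem (Ω := Ω) μ)
  have t1 := trace_mul_Eχ m hexp μ h
  have t2 := trace_mul_Eχ m hexp μ h⁻¹
  rw [trace_eq_toMatrix', LinearMap.toMatrix'_mul, toMatrix'_permRep] at t1 t2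
  have h3 : (Pm h * LinearMap.toMatrix' (Eχ (Ω := Ω) (μ : G → ℂ))).trace
      = (Pm h⁻¹ * LinearMap.toMatrix' (Eχ (Ω := Ω) (μ : G → ℂ))).trace := by
    rw [← Matrix.trace_transpose, Matrix.transpose_mul, hE, Pm_transpose, Matrix.trace_mul_comm]
  rw [h3, t2, Cfsg.Agent.Lib.Helper25.irr_inv] at t1
  exact mul_left_cancel₀ hm0 t1

theorem toMatrix'_Eχ (χ : G → ℂ) :
    LinearMap.toMatrix' (Eχ (Ω := Ω) χ)
      = (χ 1 / (Fintype.card G : ℂ)) • ∑ g : G, χ g⁻¹ • Pm (Ω := Ω) g := by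
  unfold Eχ
  rw [map_smul, map_sum]
  congr 1
  apply Finset.sum_congr rfl
  intro g _
  rw [map_smul, toMatrix'_permRep]

theorem Eχ_symm (χ : G → ℂ) (hreal : ∀ g, χ g⁻¹ = χ g) :
    (LinearMap.toMatrix' (Eχ (Ω := Ω) χ))ᵀ = LinearMap.toMatrix' (Eχ (Ω := Ω) χ) := by
  rw [toMatrix'_Eχ, Matrix.transpose_smul, Matrix.transpose_sum]
  congr 1
  apply Finset.sum_equiv (Equiv.inv G)
  · intro g; simp
  · intro g _
    rw [Equiv.inv_apply, Matrix.transpose_smul, Pm_transpose, inv_inv, hreal g]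

theorem Bm_mem (a b : Ω) :
    Matrix.toLin' (Bm G a b) ∈
      (Representation.linHom (Cfsg.permRep ℂ G Ω) (Cfsg.permRep ℂ G Ω)).invariants := by
  rw [mem_inv_iff]
  intro g
  rw [permRep_eq_toLin', ← Matrix.toLin'_mul, ← Matrix.toLin'_mul, Pm_mul_Bm]

theorem generous_of_multfree_real
    (hmf : ∀ χ : G → ℂ, Cfsg.IsIrrCharacter G χ → Cfsg.classInner (piChar G Ω) χ ≠ 0 →
      Cfsg.classInner (piChar G Ω) χ = 1 ∧ ∀ g : G, (starRingEnd ℂ) (χ g) = χ g)
    (a b : Ω) : ∃ g : G, g • a = b ∧ g • b = a := by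
  classical
  have hmf' : ∀ χ : G → ℂ, Cfsg.IsIrrCharacter G χ →
      Cfsg.classInner (piChar G Ω) χ = 0 ∨ Cfsg.classInner (piChar G Ω) χ = 1 := by
    intro χ hχ
    by_cases h : Cfsg.classInner (piChar G Ω) χ = 0
    · left; exact h
    · right; exact (hmf χ hχ h).1
  have hsym : ∀ T : Module.End ℂ (Ω → ℂ),
      T ∈ (Representation.linHom (Cfsg.permRep ℂ G Ω) (Cfsg.permRep ℂ G Ω)).invariants →
      (LinearMap.toMatrix' T)ᵀ = LinearMap.toMatrix' T := by
    intro T hT
    refine commutant_induction hmf' (fun T => (LinearMap.toMatrix' T)ᵀ = LinearMap.toMatrix' T)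
      ?_ ?_ ?_ ?_ T hT
    · simp
    · intro x y hx hy
      rw [map_add, Matrix.transpose_add, hx, hy]
    · intro c x hx
      rw [map_smul, Matrix.transpose_smul, hx]
    · intro μ hμ
      apply Eχ_symm
      intro g
      rw [Cfsg.Agent.Lib.Helper25.irr_inv]
      exact (hmf (μ : G → ℂ) μ.2 hμ).2 g
  have h1 := hsym _ (Bm_mem (G := G) a b)
  rw [LinearMap.toMatrix'_toLin'] at h1
  have h2 := congrFun (congrFun h1 a) b
  rw [Matrix.transpose_apply, Bm_apply, Bm_apply] at h2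
  have h3 : orbRel G a b a b := ⟨1, one_smul _ _, one_smul _ _⟩
  rw [if_pos h3] at h2
  by_contra hne
  have h4 : ¬ orbRel G a b b a := fun ⟨g, hg1, hg2⟩ => hne ⟨g, hg1, hg2⟩
  rw [if_neg h4] at h2
  exact zero_ne_one h2

end Sym

theorem s0717 {G : Type*} [Group G] [Fintype G] {Ω : Type*} [Fintype Ω] [MulAction G Ω]
    [MulAction.IsPretransitive G Ω] :
    (∀ a b : Ω, ∃ g : G, g • a = b ∧ g • b = a) ↔
    ∀ χ : G → ℂ, Cfsg.IsIrrCharacter G χ →
      Cfsg.classInner (fun g : G => (Nat.card (MulAction.fixedBy Ω g) : ℂ)) χ ≠ 0 →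
      Cfsg.classInner (fun g : G => (Nat.card (MulAction.fixedBy Ω g) : ℂ)) χ = 1 ∧
      ∀ g : G, (starRingEnd ℂ) (χ g) = χ g := by
  classical
  constructor
  · intro hgen χ hχ hne
    constructor
    · rcases multfree_of_commutant_comm (G := G) (Ω := Ω) (comm_of_generous hgen) χ hχ with h | h
      · exact absurd h hne
      · exact h
    · intro g
      exact real_of_generous hgen ⟨χ, hχ⟩ hne g
  · intro h a b
    exact generous_of_multfree_real (G := G) (Ω := Ω) h a b

end Cfsg.Agent.Lib.helper6.PermChar
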