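import Mathlib
import Cfsg.Agent.Lib.helper6.PermChar5
import Cfsg.Agent.Lib.Helper11.GaloisConj
import Cfsg.Agent.Lib.Helper25.CharLinear

set_option autoImplicit false

namespace Cfsg.Agent.Lib.helper6.PermChar

open Module LinearMap Polynomial MulAction
open scoped ComplexConjugate Matrix

section Idem
variable {G : Type*} [Group G] [Fintype G] {Ω : Type*} [Fintype Ω] [DecidableEq Ω] [MulAction G Ω]

theorem Eχ_mul (μ ν : Cfsg.IrrCharacter G) :
    Eχ (Ω := Ω) (μ : G → ℂ) * Eχ (Ω := Ω) (ν : G → ℂ)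
      = if μ = ν then Eχ (Ω := Ω) (μ : G → ℂ) else 0 := by
  classical
  have hcard : (Fintype.card G : ℂ) ≠ 0 := card_ne_zero'
  have hν1 : (ν : G → ℂ) 1 ≠ 0 := Cfsg.Agent.Lib.Helper25.irr_one_ne_zero ν
  unfold Eχ
  rw [smul_mul_assoc, mul_smul_comm, Finset.sum_mul]
  have h1 : ∀ g : G, ((μ : G → ℂ) g⁻¹ • Cfsg.permRep ℂ G Ω g) *
      ∑ h : G, (ν : G → ℂ) h⁻¹ • Cfsg.permRep ℂ G Ω h
      = ∑ x : G, ((μ : G → ℂ) g⁻¹ * (ν : G → ℂ) (x⁻¹ * g)) • Cfsg.permRep ℂ G Ω x := by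
    intro g
    rw [Finset.mul_sum, ← Equiv.sum_comp (Equiv.mulLeft g⁻¹)]
    apply Finset.sum_congr rfl
    intro x _
    rw [Equiv.coe_mulLeft, smul_mul_assoc, mul_smul_comm, smul_smul, ← map_mul,
      mul_inv_cancel_left, mul_inv_rev, inv_inv]
  rw [Finset.sum_congr rfl (fun g _ => h1 g), Finset.sum_comm]
  simp_rw [← Finset.sum_smul]
  have h2 : ∀ x : G, ∑ g : G, (μ : G → ℂ) g⁻¹ * (ν : G → ℂ) (x⁻¹ * g)
      = if μ = ν then (Nat.card G : ℂ) * (ν : G → ℂ) x⁻¹ / (ν : G → ℂ) 1 else 0 := by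
    intro x
    rw [← Cfsg.Agent.Lib.Helper25.irr_convolution μ ν x⁻¹, ← Equiv.sum_comp (Equiv.inv G)]
    apply Finset.sum_congr rfl
    intro g _
    rw [Equiv.inv_apply, inv_inv, irr_mul_comm]
  simp_rw [h2]
  by_cases hμν : μ = ν
  · simp only [if_pos hμν]
    subst hμν
    rw [smul_smul]
    have h3 : ∀ x : G, ((Nat.card G : ℂ) * (μ : G → ℂ) x⁻¹ / (μ : G → ℂ) 1) • Cfsg.permRep ℂ G Ω x
        = ((Nat.card G : ℂ) / (μ : G → ℂ) 1) • ((μ : G → ℂ) x⁻¹ • Cfsg.permRep ℂ G Ω x) := by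
      intro x
      rw [smul_smul]
      congr 1
      ring
    rw [Finset.sum_congr rfl (fun x _ => h3 x), ← Finset.smul_sum, smul_smul]
    congr 1
    rw [Nat.card_eq_fintype_card]
    field_simp
  · simp only [if_neg hμν, zero_smul, Finset.sum_const_zero, smul_zero]

/-- trace of the permutation matrix times an isotypic projection -/
theorem trace_mul_Eχ' (μ : Cfsg.IrrCharacter G) (h : G) :
    LinearMap.trace ℂ (Ω → ℂ) (Cfsg.permRep ℂ G Ω h * Eχ (Ω := Ω) (μ : G → ℂ))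
      = Cfsg.classInner (piChar G Ω) (μ : G → ℂ) * (μ : G → ℂ) h := by
  classical
  haveI : Fintype (Cfsg.IrrCharacter G) := Fintype.ofFinite _
  obtain ⟨m, hm, hexp⟩ :=
    Cfsg.Agent.Lib.helper2.isCharacter_expansion (piChar_isCharacter (G := G) (Ω := Ω))
  rw [trace_mul_Eχ m hexp, hm]

theorem trace_Eχ (μ : Cfsg.IrrCharacter G) :
    LinearMap.trace ℂ (Ω → ℂ) (Eχ (Ω := Ω) (μ : G → ℂ))
      = Cfsg.classInner (piChar G Ω) (μ : G → ℂ) * (μ : G → ℂ) 1 := by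
  have := trace_mul_Eχ' (Ω := Ω) μ 1
  rw [map_one, one_mul] at this
  exact this

theorem one_mem_commutant : (1 : Module.End ℂ (Ω → ℂ)) ∈
    (Representation.linHom (Cfsg.permRep ℂ G Ω) (Cfsg.permRep ℂ G Ω)).invariants := by
  rw [mem_inv_iff]
  intro g
  rfl

/-- the abstract computation with three orthogonal idempotents -/
theorem idem3 {R : Type*} [Ring R] [Algebra ℂ R] (e₀ e₁ e₂ A : R)
    (h00 : e₀ * e₀ = e₀) (h11 : e₁ * e₁ = e₁) (h22 : e₂ * e₂ = e₂)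
    (h01 : e₀ * e₁ = 0) (h10 : e₁ * e₀ = 0) (h02 : e₀ * e₂ = 0) (h20 : e₂ * e₀ = 0)
    (h12 : e₁ * e₂ = 0) (h21 : e₂ * e₁ = 0) (hsum : e₀ + e₁ + e₂ = 1) (c₀ c₁ c₂ : ℂ)
    (hA : A = c₀ • e₀ + c₁ • e₁ + c₂ • e₂) :
    A * A - (c₁ + c₂) • A + (c₁ * c₂) • (1 : R) = ((c₀ - c₁) * (c₀ - c₂)) • e₀ := by
  rw [hA, ← hsum]
  simp only [mul_add, add_mul, smul_mul_assoc, mul_smul_comm, h00, h11, h22, h01, h10, h02, h20,
    h12, h21, smul_zero, add_zero, zero_add, smul_smul, smul_add]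
  module

end Idem


section Three
variable {G : Type*} [Group G] [Fintype G] {Ω : Type*} [Fintype Ω] [DecidableEq Ω] [MulAction G Ω]
variable (μ₀ μ₁ μ₂ : Cfsg.IrrCharacter G)

theorem mult3 (hπ : ∀ g, piChar G Ω g = (μ₀ : G → ℂ) g + (μ₁ : G → ℂ) g + (μ₂ : G → ℂ) g)
    (ν : Cfsg.IrrCharacter G) :
    Cfsg.classInner (piChar G Ω) (ν : G → ℂ)
      = (if μ₀ = ν then 1 else 0) + (if μ₁ = ν then 1 else 0) + (if μ₂ = ν then 1 else 0) := by
  have : piChar G Ω = (μ₀ : G → ℂ) + (μ₁ : G → ℂ) + (μ₂ : G → ℂ) := funext hπ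
  rw [this, Cfsg.Agent.Lib.Helper25.classInner_add_left, Cfsg.Agent.Lib.Helper25.classInner_add_left,
    Cfsg.Agent.Lib.Helper25.irr_classInner, Cfsg.Agent.Lib.Helper25.irr_classInner,
    Cfsg.Agent.Lib.Helper25.irr_classInner]

theorem multfree3 (hπ : ∀ g, piChar G Ω g = (μ₀ : G → ℂ) g + (μ₁ : G → ℂ) g + (μ₂ : G → ℂ) g)
    (h01 : μ₀ ≠ μ₁) (h02 : μ₀ ≠ μ₂) (h12 : μ₁ ≠ μ₂) :
    ∀ χ : G → ℂ, Cfsg.IsIrrCharacter G χ →
      Cfsg.classInner (piChar G Ω) χ = 0 ∨ Cfsg.classInner (piChar G Ω) χ = 1 := by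
  intro χ hχ
  have h := mult3 μ₀ μ₁ μ₂ hπ ⟨χ, hχ⟩
  change Cfsg.classInner (piChar G Ω) χ = _ at h
  rw [h]
  by_cases e0 : μ₀ = ⟨χ, hχ⟩
  · have e1 : μ₁ ≠ ⟨χ, hχ⟩ := fun h => h01 (e0.trans h.symm)
    have e2 : μ₂ ≠ ⟨χ, hχ⟩ := fun h => h02 (e0.trans h.symm)
    right; rw [if_pos e0, if_neg e1, if_neg e2]; ring
  · by_cases e1 : μ₁ = ⟨χ, hχ⟩
    · have e2 : μ₂ ≠ ⟨χ, hχ⟩ := fun h => h12 (e1.trans h.symm)
      right; rw [if_neg e0, if_pos e1, if_neg e2]; ring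
    · by_cases e2 : μ₂ = ⟨χ, hχ⟩
      · right; rw [if_neg e0, if_neg e1, if_pos e2]; ring
      · left; rw [if_neg e0, if_neg e1, if_neg e2]; ring

theorem mult3_0 (hπ : ∀ g, piChar G Ω g = (μ₀ : G → ℂ) g + (μ₁ : G → ℂ) g + (μ₂ : G → ℂ) g)
    (h01 : μ₀ ≠ μ₁) (h02 : μ₀ ≠ μ₂) :
    Cfsg.classInner (piChar G Ω) (μ₀ : G → ℂ) = 1 := by
  rw [mult3 μ₀ μ₁ μ₂ hπ μ₀, if_pos rfl, if_neg (Ne.symm h01), if_neg (Ne.symm h02)]; ring

theorem mult3_1 (hπ : ∀ g, piChar G Ω g = (μ₀ : G → ℂ) g + (μ₁ : G → ℂ) g + (μ₂ : G → ℂ) g)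
    (h01 : μ₀ ≠ μ₁) (h12 : μ₁ ≠ μ₂) :
    Cfsg.classInner (piChar G Ω) (μ₁ : G → ℂ) = 1 := by
  rw [mult3 μ₀ μ₁ μ₂ hπ μ₁, if_neg h01, if_pos rfl, if_neg (Ne.symm h12)]; ring

theorem mult3_2 (hπ : ∀ g, piChar G Ω g = (μ₀ : G → ℂ) g + (μ₁ : G → ℂ) g + (μ₂ : G → ℂ) g)
    (h02 : μ₀ ≠ μ₂) (h12 : μ₁ ≠ μ₂) :
    Cfsg.classInner (piChar G Ω) (μ₂ : G → ℂ) = 1 := by
  rw [mult3 μ₀ μ₁ μ₂ hπ μ₂, if_neg h02, if_neg h12, if_pos rfl]; ring

theorem Eχ_ne_zero (μ : Cfsg.IrrCharacter G)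
    (hμ : Cfsg.classInner (piChar G Ω) (μ : G → ℂ) ≠ 0) : Eχ (Ω := Ω) (μ : G → ℂ) ≠ 0 := by
  intro h
  have := trace_Eχ (Ω := Ω) μ
  rw [h, map_zero] at this
  rcases mul_eq_zero.mp this.symm with h1 | h1
  · exact hμ h1
  · exact Cfsg.Agent.Lib.Helper25.irr_one_ne_zero μ h1

theorem decomp3 (hπ : ∀ g, piChar G Ω g = (μ₀ : G → ℂ) g + (μ₁ : G → ℂ) g + (μ₂ : G → ℂ) g)
    (h01 : μ₀ ≠ μ₁) (h02 : μ₀ ≠ μ₂) (h12 : μ₁ ≠ μ₂)
    (T : Module.End ℂ (Ω → ℂ))
    (hT : T ∈ (Representation.linHom (Cfsg.permRep ℂ G Ω) (Cfsg.permRep ℂ G Ω)).invariants) :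
    ∃ c₀ c₁ c₂ : ℂ, T = c₀ • Eχ (Ω := Ω) (μ₀ : G → ℂ) + c₁ • Eχ (Ω := Ω) (μ₁ : G → ℂ)
      + c₂ • Eχ (Ω := Ω) (μ₂ : G → ℂ) := by
  refine commutant_induction (multfree3 μ₀ μ₁ μ₂ hπ h01 h02 h12)
    (fun T => ∃ c₀ c₁ c₂ : ℂ, T = c₀ • Eχ (Ω := Ω) (μ₀ : G → ℂ) + c₁ • Eχ (Ω := Ω) (μ₁ : G → ℂ)
      + c₂ • Eχ (Ω := Ω) (μ₂ : G → ℂ)) ?_ ?_ ?_ ?_ T hT
  · exact ⟨0, 0, 0, by simp⟩
  · rintro x y ⟨a0, a1, a2, rfl⟩ ⟨b0, b1, b2, rfl⟩
    exact ⟨a0 + b0, a1 + b1, a2 + b2, by module⟩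
  · rintro c x ⟨a0, a1, a2, rfl⟩
    exact ⟨c * a0, c * a1, c * a2, by module⟩
  · intro μ hμ
    rw [mult3 μ₀ μ₁ μ₂ hπ μ] at hμ
    by_cases e0 : μ₀ = μ
    · subst e0; exact ⟨1, 0, 0, by simp⟩
    by_cases e1 : μ₁ = μ
    · subst e1; exact ⟨0, 1, 0, by simp⟩
    by_cases e2 : μ₂ = μ
    · subst e2; exact ⟨0, 0, 1, by simp⟩
    · exfalso; apply hμ; rw [if_neg e0, if_neg e1, if_neg e2]; ring

theorem sum_E3 (hπ : ∀ g, piChar G Ω g = (μ₀ : G → ℂ) g + (μ₁ : G → ℂ) g + (μ₂ : G → ℂ) g)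
    (h01 : μ₀ ≠ μ₁) (h02 : μ₀ ≠ μ₂) (h12 : μ₁ ≠ μ₂) :
    Eχ (Ω := Ω) (μ₀ : G → ℂ) + Eχ (Ω := Ω) (μ₁ : G → ℂ) + Eχ (Ω := Ω) (μ₂ : G → ℂ) = 1 := by
  obtain ⟨a0, a1, a2, h⟩ := decomp3 μ₀ μ₁ μ₂ hπ h01 h02 h12 1 one_mem_commutant
  have hE0 := Eχ_ne_zero (Ω := Ω) μ₀ (by rw [mult3_0 μ₀ μ₁ μ₂ hπ h01 h02]; exact one_ne_zero)
  have hE1 := Eχ_ne_zero (Ω := Ω) μ₁ (by rw [mult3_1 μ₀ μ₁ μ₂ hπ h01 h12]; exact one_ne_zero)
  have hE2 := Eχ_ne_zero (Ω := Ω) μ₂ (by rw [mult3_2 μ₀ μ₁ μ₂ hπ h02 h12]; exact one_ne_zero)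
  have k0 : a0 = 1 := by
    have := congrArg (fun X => Eχ (Ω := Ω) (μ₀ : G → ℂ) * X) h
    simp only [mul_one, mul_add, mul_smul_comm, Eχ_mul, if_true, if_neg h01, if_neg h02,
      smul_zero, add_zero] at this
    have h2 : (1 - a0) • Eχ (Ω := Ω) (μ₀ : G → ℂ) = 0 := by
      calc (1 - a0) • Eχ (Ω := Ω) (μ₀ : G → ℂ)
          = Eχ (Ω := Ω) (μ₀ : G → ℂ) - a0 • Eχ (Ω := Ω) (μ₀ : G → ℂ) := by module
        _ = 0 := by rw [← this, sub_self]
    rcases smul_eq_zero.mp h2 with h3 | h3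
    · exact (sub_eq_zero.mp h3).symm
    · exact absurd h3 hE0
  have k1 : a1 = 1 := by
    have := congrArg (fun X => Eχ (Ω := Ω) (μ₁ : G → ℂ) * X) h
    simp only [mul_one, mul_add, mul_smul_comm, Eχ_mul, if_true, if_neg (Ne.symm h01),
      if_neg h12, smul_zero, add_zero, zero_add] at this
    have h2 : (1 - a1) • Eχ (Ω := Ω) (μ₁ : G → ℂ) = 0 := by
      calc (1 - a1) • Eχ (Ω := Ω) (μ₁ : G → ℂ)
          = Eχ (Ω := Ω) (μ₁ : G → ℂ) - a1 • Eχ (Ω := Ω) (μ₁ : G → ℂ) := by module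
        _ = 0 := by rw [← this, sub_self]
    rcases smul_eq_zero.mp h2 with h3 | h3
    · exact (sub_eq_zero.mp h3).symm
    · exact absurd h3 hE1
  have k2 : a2 = 1 := by
    have := congrArg (fun X => Eχ (Ω := Ω) (μ₂ : G → ℂ) * X) h
    simp only [mul_one, mul_add, mul_smul_comm, Eχ_mul, if_true, if_neg (Ne.symm h02),
      if_neg (Ne.symm h12), smul_zero, add_zero, zero_add] at this
    have h2 : (1 - a2) • Eχ (Ω := Ω) (μ₂ : G → ℂ) = 0 := by
      calc (1 - a2) • Eχ (Ω := Ω) (μ₂ : G → ℂ)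
          = Eχ (Ω := Ω) (μ₂ : G → ℂ) - a2 • Eχ (Ω := Ω) (μ₂ : G → ℂ) := by module
        _ = 0 := by rw [← this, sub_self]
    rcases smul_eq_zero.mp h2 with h3 | h3
    · exact (sub_eq_zero.mp h3).symm
    · exact absurd h3 hE2
  rw [h, k0, k1, k2, one_smul, one_smul, one_smul]

/-- the quadratic relation satisfied by an element of the commutant -/
theorem quad3 (hπ : ∀ g, piChar G Ω g = (μ₀ : G → ℂ) g + (μ₁ : G → ℂ) g + (μ₂ : G → ℂ) g)
    (h01 : μ₀ ≠ μ₁) (h02 : μ₀ ≠ μ₂) (h12 : μ₁ ≠ μ₂)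
    (A : Module.End ℂ (Ω → ℂ))
    (hA : A ∈ (Representation.linHom (Cfsg.permRep ℂ G Ω) (Cfsg.permRep ℂ G Ω)).invariants) :
    ∃ c₀ c₁ c₂ : ℂ,
      A * A - (c₁ + c₂) • A + (c₁ * c₂) • (1 : Module.End ℂ (Ω → ℂ))
        = ((c₀ - c₁) * (c₀ - c₂)) • Eχ (Ω := Ω) (μ₀ : G → ℂ) ∧
      A * Eχ (Ω := Ω) (μ₀ : G → ℂ) = c₀ • Eχ (Ω := Ω) (μ₀ : G → ℂ) ∧
      LinearMap.trace ℂ (Ω → ℂ) A
        = c₀ * (μ₀ : G → ℂ) 1 + c₁ * (μ₁ : G → ℂ) 1 + c₂ * (μ₂ : G → ℂ) 1 := by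
  obtain ⟨c₀, c₁, c₂, h⟩ := decomp3 μ₀ μ₁ μ₂ hπ h01 h02 h12 A hA
  refine ⟨c₀, c₁, c₂, ?_, ?_, ?_⟩
  · apply idem3 _ _ _ A _ _ _ _ _ _ _ _ _ (sum_E3 μ₀ μ₁ μ₂ hπ h01 h02 h12) c₀ c₁ c₂ h
    · rw [Eχ_mul, if_pos rfl]
    · rw [Eχ_mul, if_pos rfl]
    · rw [Eχ_mul, if_pos rfl]
    · rw [Eχ_mul, if_neg h01]
    · rw [Eχ_mul, if_neg (Ne.symm h01)]
    · rw [Eχ_mul, if_neg h02]
    · rw [Eχ_mul, if_neg (Ne.symm h02)]
    · rw [Eχ_mul, if_neg h12]
    · rw [Eχ_mul, if_neg (Ne.symm h12)]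
  · rw [h]
    simp only [add_mul, smul_mul_assoc, Eχ_mul, if_true, if_neg (Ne.symm h01),
      if_neg (Ne.symm h02), smul_zero, add_zero]
  · rw [h, map_add, map_add, map_smul, map_smul, map_smul, trace_Eχ, trace_Eχ, trace_Eχ,
      mult3_0 μ₀ μ₁ μ₂ hπ h01 h02, mult3_1 μ₀ μ₁ μ₂ hπ h01 h12, mult3_2 μ₀ μ₁ μ₂ hπ h02 h12]
    simp only [smul_eq_mul, one_mul]

end Three

section Mat
variable {G : Type*} [Group G] [Fintype G] {Ω : Type*} [Fintype Ω] [DecidableEq Ω] [MulAction G Ω]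

/-- entries of the trivial projection -/
theorem toMatrix'_Eχ_triv [IsPretransitive G Ω] (x y : Ω) :
    LinearMap.toMatrix' (Eχ (Ω := Ω)
      ((Cfsg.Agent.Lib.Helper25.trivIrr G : Cfsg.IrrCharacter G) : G → ℂ)) x y
      = 1 / (Fintype.card Ω : ℂ) := by
  classical
  rw [toMatrix'_Eχ]
  simp only [Cfsg.Agent.Lib.Helper25.trivIrr_apply, one_smul]
  rw [Matrix.smul_apply, Matrix.sum_apply]
  simp only [Pm]
  rw [Finset.sum_boole]
  have h := card_fiber (G := G) y x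
  have hn : (Fintype.card Ω : ℂ) ≠ 0 := by
    have : 0 < Fintype.card Ω := Fintype.card_pos_iff.mpr ⟨x⟩
    exact_mod_cast this.ne'
  have hG : (Fintype.card G : ℂ) ≠ 0 := card_ne_zero'
  have h' : ((Finset.univ.filter (fun g : G => g • y = x)).card : ℂ) * (Fintype.card Ω : ℂ)
      = (Fintype.card G : ℂ) := by exact_mod_cast h
  rw [smul_eq_mul]
  field_simp
  rw [← h']

open Classical in
theorem row_sum_Bm [IsPretransitive G Ω] (a b x : Ω) :
    ∑ y : Ω, Bm G a b x y = (Nat.card (orbit (stabilizer G a) b) : ℂ) := by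
  simp only [Bm_apply]
  rw [Finset.sum_boole, card_row]

theorem Bm_diag (a b x : Ω) (hab : b ≠ a) : Bm G a b x x = 0 := by
  classical
  rw [Bm_apply, if_neg]
  rintro ⟨h, h1, h2⟩
  apply hab
  have : h • b = h • a := by rw [h1, h2]
  exact smul_left_cancel h this

theorem Bm_symm (hgen : ∀ a b : Ω, ∃ g : G, g • a = b ∧ g • b = a) (a b x y : Ω) :
    Bm G a b x y = Bm G a b y x := by
  classical
  rw [Bm_apply, Bm_apply]
  have : orbRel G a b x y ↔ orbRel G a b y x := by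
    constructor
    · rintro ⟨h, h1, h2⟩
      obtain ⟨g, g1, g2⟩ := hgen x y
      exact ⟨g * h, by rw [mul_smul, h1, g1], by rw [mul_smul, h2, g2]⟩
    · rintro ⟨h, h1, h2⟩
      obtain ⟨g, g1, g2⟩ := hgen y x
      exact ⟨g * h, by rw [mul_smul, h1, g1], by rw [mul_smul, h2, g2]⟩
  simp only [this]

theorem Bm_sq_diag [IsPretransitive G Ω] (hgen : ∀ a b : Ω, ∃ g : G, g • a = b ∧ g • b = a)
    (a b x : Ω) :
    (Bm G a b * Bm G a b : Matrix Ω Ω ℂ) x x = (Nat.card (orbit (stabilizer G a) b) : ℂ) := by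
  classical
  rw [Matrix.mul_apply, ← row_sum_Bm a b x]
  apply Finset.sum_congr rfl
  intro z _
  rw [Bm_symm hgen a b z x, Bm_apply]
  split_ifs <;> simp

theorem Bm_sq_int (a b x y : Ω) :
    ∃ z : ℤ, (Bm G a b * Bm G a b : Matrix Ω Ω ℂ) x y = (z : ℂ) := by
  refine ⟨(Bz G a b * Bz G a b) x y, ?_⟩
  have h1 : Bm G a b = (Bz G a b).map (Int.castRingHom ℂ) := rfl
  rw [h1, ← Matrix.map_mul]
  rfl

end Mat

section Eqs
variable {G : Type*} [Group G] [Fintype G] {Ω : Type*} [Fintype Ω] [DecidableEq Ω] [MulAction G Ω]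

theorem rank3_eqs [IsPretransitive G Ω] (μ₁ μ₂ : Cfsg.IrrCharacter G)
    (hπ : ∀ g, piChar G Ω g = ((Cfsg.Agent.Lib.Helper25.trivIrr G : Cfsg.IrrCharacter G) : G → ℂ) g
      + (μ₁ : G → ℂ) g + (μ₂ : G → ℂ) g)
    (h01 : Cfsg.Agent.Lib.Helper25.trivIrr G ≠ μ₁) (h02 : Cfsg.Agent.Lib.Helper25.trivIrr G ≠ μ₂)
    (h12 : μ₁ ≠ μ₂)
    (hgen : ∀ a b : Ω, ∃ g : G, g • a = b ∧ g • b = a)
    (a b c : Ω) (hb : b ≠ a) (hc : c ≠ a) (hcb : ¬ orbRel G a b a c)
    (k : ℕ) (hk : Nat.card (orbit (stabilizer G a) b) = k) :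
    ∃ (c₁ c₂ : ℂ) (z₁ z₂ : ℤ),
      (k : ℂ) + c₁ * (μ₁ : G → ℂ) 1 + c₂ * (μ₂ : G → ℂ) 1 = 0 ∧
      (k : ℂ) + c₁ * c₂ = ((k : ℂ) - c₁) * ((k : ℂ) - c₂) / (Fintype.card Ω : ℂ) ∧
      (z₁ : ℂ) - (c₁ + c₂) = ((k : ℂ) - c₁) * ((k : ℂ) - c₂) / (Fintype.card Ω : ℂ) ∧
      (z₂ : ℂ) = ((k : ℂ) - c₁) * ((k : ℂ) - c₂) / (Fintype.card Ω : ℂ) := by
  classical
  have hA := Bm_mem (G := G) a b
  obtain ⟨c₀, c₁, c₂, hquad, hAE, htr⟩ :=
    quad3 (Cfsg.Agent.Lib.Helper25.trivIrr G) μ₁ μ₂ hπ h01 h02 h12 _ hA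
  have hM := congrArg LinearMap.toMatrix' hquad
  rw [map_add, map_sub, map_smul, map_smul, map_smul, LinearMap.toMatrix'_mul,
    LinearMap.toMatrix'_one, LinearMap.toMatrix'_toLin'] at hM
  have hAE' := congrArg LinearMap.toMatrix' hAE
  rw [LinearMap.toMatrix'_mul, map_smul, LinearMap.toMatrix'_toLin'] at hAE'
  have hn : (Fintype.card Ω : ℂ) ≠ 0 := by
    have : 0 < Fintype.card Ω := Fintype.card_pos_iff.mpr ⟨a⟩
    exact_mod_cast this.ne'
  have hc0 : c₀ = k := by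
    have h1 := congrFun (congrFun hAE' a) a
    rw [Matrix.mul_apply, Matrix.smul_apply, toMatrix'_Eχ_triv] at h1
    simp only [toMatrix'_Eχ_triv] at h1
    rw [← Finset.sum_mul, row_sum_Bm, hk, smul_eq_mul] at h1
    field_simp at h1
    exact h1.symm
  have htr0 : LinearMap.trace ℂ (Ω → ℂ) (Matrix.toLin' (Bm G a b)) = 0 := by
    rw [Matrix.trace_toLin'_eq, trace_Bm a b hb]
  rw [htr0, hc0] at htr
  obtain ⟨z₁, hz₁⟩ := Bm_sq_int (G := G) a b a b
  obtain ⟨z₂, hz₂⟩ := Bm_sq_int (G := G) a b a c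
  have haa := congrFun (congrFun hM a) a
  simp only [Matrix.add_apply, Matrix.sub_apply, Matrix.smul_apply, Matrix.one_apply_eq,
    smul_eq_mul] at haa
  rw [Bm_sq_diag hgen, Bm_diag _ _ _ hb, toMatrix'_Eχ_triv, hk, hc0] at haa
  have hab := congrFun (congrFun hM a) b
  simp only [Matrix.add_apply, Matrix.sub_apply, Matrix.smul_apply, smul_eq_mul] at hab
  have hab1 : orbRel G a b a b := ⟨1, one_smul _ _, one_smul _ _⟩
  rw [Matrix.one_apply_ne hb.symm, hz₁, Bm_apply, if_pos hab1, toMatrix'_Eχ_triv, hc0] at hab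
  have hac := congrFun (congrFun hM a) c
  simp only [Matrix.add_apply, Matrix.sub_apply, Matrix.smul_apply, smul_eq_mul] at hac
  rw [Matrix.one_apply_ne hc.symm, hz₂, Bm_apply, if_neg hcb, toMatrix'_Eχ_triv, hc0] at hac
  refine ⟨c₁, c₂, z₁, z₂, ?_, ?_, ?_, ?_⟩
  · rw [Cfsg.Agent.Lib.Helper25.trivIrr_apply] at htr
    linear_combination -htr
  · linear_combination haa
  · linear_combination hab
  · linear_combination hac

end Eqs



section Orb
variable {G : Type*} [Group G] [Fintype G] {Ω : Type*} [Fintype Ω] [DecidableEq Ω] [MulAction G Ω]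

theorem mem_orbit_stab_self_iff (a y : Ω) : a ∈ orbit (stabilizer G a) y ↔ y = a := by
  constructor
  · rintro ⟨⟨h, hh⟩, hy⟩
    have hy' : h • y = a := hy
    rw [mem_stabilizer_iff] at hh
    calc y = h⁻¹ • (h • y) := (inv_smul_smul h y).symm
      _ = h⁻¹ • a := by rw [hy']
      _ = h⁻¹ • (h • a) := by rw [hh]
      _ = a := inv_smul_smul h a
  · rintro rfl
    exact mem_orbit_self _

theorem three_orbits (a b c : Ω) (hrank : Nat.card (orbitRel.Quotient (stabilizer G a) Ω) = 3)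
    (hb : b ≠ a) (hc : c ≠ a) (hcb : c ∉ orbit (stabilizer G a) b) (x : Ω) :
    x = a ∨ x ∈ orbit (stabilizer G a) b ∨ x ∈ orbit (stabilizer G a) c := by
  classical
  by_contra hcon
  push Not at hcon
  obtain ⟨hxa, hxb, hxc⟩ := hcon
  haveI : Finite (orbitRel.Quotient (stabilizer G a) Ω) :=
    Nat.finite_of_card_ne_zero (by rw [hrank]; norm_num)
  let q : Ω → orbitRel.Quotient (stabilizer G a) Ω := fun y => Quotient.mk'' y
  have hq : ∀ y z, q y = q z ↔ y ∈ orbit (stabilizer G a) z := by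
    intro y z
    exact Quotient.eq''
  have hab : q a ≠ q b := by
    rw [Ne, hq, mem_orbit_stab_self_iff]; exact hb
  have hac : q a ≠ q c := by
    rw [Ne, hq, mem_orbit_stab_self_iff]; exact hc
  have hax : q a ≠ q x := by
    rw [Ne, hq, mem_orbit_stab_self_iff]; exact hxa
  have hbc : q c ≠ q b := by
    rw [Ne, hq]; exact hcb
  have hbx : q x ≠ q b := by
    rw [Ne, hq]; exact hxb
  have hcx : q x ≠ q c := by
    rw [Ne, hq]; exact hxc
  have hinj : Function.Injective (![q a, q b, q c, q x]) := by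
    intro i j h
    fin_cases i <;> fin_cases j <;> simp at h <;>
      first
      | rfl
      | exact absurd h hab | exact absurd h.symm hab
      | exact absurd h hac | exact absurd h.symm hac
      | exact absurd h hax | exact absurd h.symm hax
      | exact absurd h hbc | exact absurd h.symm hbc
      | exact absurd h hbx | exact absurd h.symm hbx
      | exact absurd h hcx | exact absurd h.symm hcx
  have := Nat.card_le_card_of_injective _ hinj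
  rw [hrank, Nat.card_fin] at this
  omega

theorem exists_third (a b : Ω) (hrank : Nat.card (orbitRel.Quotient (stabilizer G a) Ω) = 3)
    (hb : b ≠ a) : ∃ c : Ω, c ≠ a ∧ c ∉ orbit (stabilizer G a) b := by
  classical
  by_contra hcon
  push Not at hcon
  haveI : Finite (orbitRel.Quotient (stabilizer G a) Ω) :=
    Nat.finite_of_card_ne_zero (by rw [hrank]; norm_num)
  let q : Ω → orbitRel.Quotient (stabilizer G a) Ω := fun y => Quotient.mk'' y
  have hq : ∀ y z, q y = q z ↔ y ∈ orbit (stabilizer G a) z := by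
    intro y z
    exact Quotient.eq''
  have hsurj : Function.Surjective (fun i : Fin 2 => ![q a, q b] i) := by
    intro z
    obtain ⟨y, rfl⟩ := Quotient.mk''_surjective z
    by_cases hy : y = a
    · exact ⟨0, by rw [hy]; rfl⟩
    · exact ⟨1, ((hq y b).mpr (hcon y hy)).symm⟩
  have := Nat.card_le_card_of_surjective _ hsurj
  rw [hrank, Nat.card_fin] at this
  omega

open Classical in
theorem card_three_orbits (a b c : Ω)
    (hrank : Nat.card (orbitRel.Quotient (stabilizer G a) Ω) = 3)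
    (hb : b ≠ a) (hc : c ≠ a) (hcb : c ∉ orbit (stabilizer G a) b) :
    Fintype.card Ω = 1 + Nat.card (orbit (stabilizer G a) b)
      + Nat.card (orbit (stabilizer G a) c) := by
  have h1 : ∀ z : Ω, Nat.card (orbit (stabilizer G a) z)
      = (Finset.univ.filter (fun y : Ω => y ∈ orbit (stabilizer G a) z)).card := by
    intro z
    rw [Nat.card_eq_fintype_card, ← Fintype.card_subtype]
  have hbc : ∀ z, z ∈ orbit (stabilizer G a) b → z ∉ orbit (stabilizer G a) c := by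
    intro z hzb hzc
    apply hcb
    rw [← orbit_eq_iff] at hzb hzc ⊢
    rw [← hzc, hzb]
  have key : ∀ y : Ω, (if y = a then 1 else 0) + (if y ∈ orbit (stabilizer G a) b then 1 else 0)
      + (if y ∈ orbit (stabilizer G a) c then 1 else 0) = 1 := by
    intro y
    rcases three_orbits a b c hrank hb hc hcb y with h | h | h
    · subst h
      rw [if_pos rfl, if_neg (fun h => hb ((mem_orbit_stab_self_iff y b).mp h)),
        if_neg (fun h => hc ((mem_orbit_stab_self_iff y c).mp h))]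
    · have hya : y ≠ a := by
        rintro rfl
        exact hb ((mem_orbit_stab_self_iff y b).mp h)
      rw [if_neg hya, if_pos h, if_neg (hbc y h)]
    · have hya : y ≠ a := by
        rintro rfl
        exact hc ((mem_orbit_stab_self_iff y c).mp h)
      rw [if_neg hya, if_pos h, if_neg (fun hb' => hbc y hb' h)]
  calc Fintype.card Ω = ∑ _y : Ω, 1 := by simp
    _ = ∑ y : Ω, ((if y = a then 1 else 0) + (if y ∈ orbit (stabilizer G a) b then 1 else 0)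
      + (if y ∈ orbit (stabilizer G a) c then 1 else 0)) :=
        Finset.sum_congr rfl (fun y _ => (key y).symm)
    _ = 1 + Nat.card (orbit (stabilizer G a) b) + Nat.card (orbit (stabilizer G a) c) := by
        rw [Finset.sum_add_distrib, Finset.sum_add_distrib, h1 b, h1 c, Finset.card_filter,
          Finset.card_filter, Finset.sum_ite_eq' Finset.univ a]
        simp


/-- the set of points having the same stabiliser as `a` is a block -/
theorem isBlock_sameStab (a : Ω) :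
    IsBlock G {x : Ω | ∀ k : G, k • x = x ↔ k • a = a} := by
  rw [isBlock_iff_smul_eq_of_mem]
  intro g x hx hgx
  simp only [Set.mem_setOf_eq] at hx hgx
  -- normalising property
  have hN : ∀ k : G, (g⁻¹ * k * g) • a = a ↔ k • a = a := by
    intro k
    rw [← hx, ← hgx]
    constructor
    · intro h
      calc k • g • x = g • ((g⁻¹ * k * g) • x) := by simp [mul_smul]
        _ = g • x := by rw [h]
    · intro h
      calc (g⁻¹ * k * g) • x = g⁻¹ • (k • g • x) := by simp [mul_smul]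
        _ = g⁻¹ • g • x := by rw [h]
        _ = x := inv_smul_smul g x
  have hfwd : ∀ y : Ω, (∀ k : G, k • y = y ↔ k • a = a) → ∀ k : G, k • g • y = g • y ↔ k • a = a := by
    intro y hy k
    rw [← hN k, ← hy]
    constructor
    · intro h
      calc (g⁻¹ * k * g) • y = g⁻¹ • (k • g • y) := by simp [mul_smul]
        _ = g⁻¹ • g • y := by rw [h]
        _ = y := inv_smul_smul g y
    · intro h
      calc k • g • y = g • ((g⁻¹ * k * g) • y) := by simp [mul_smul]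
        _ = g • y := by rw [h]
  have hbwd : ∀ y : Ω, (∀ k : G, k • y = y ↔ k • a = a) →
      ∀ k : G, k • g⁻¹ • y = g⁻¹ • y ↔ k • a = a := by
    intro y hy k
    have h1 := hN (g * k * g⁻¹)
    have h2 : g⁻¹ * (g * k * g⁻¹) * g = k := by group
    rw [h2] at h1
    rw [h1, ← hy]
    constructor
    · intro h
      calc (g * k * g⁻¹) • y = g • (k • g⁻¹ • y) := by simp [mul_smul]
        _ = g • g⁻¹ • y := by rw [h]
        _ = y := smul_inv_smul g y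
    · intro h
      calc k • g⁻¹ • y = g⁻¹ • ((g * k * g⁻¹) • y) := by simp [mul_smul]
        _ = g⁻¹ • y := by rw [h]
  ext y
  rw [Set.mem_smul_set_iff_inv_smul_mem]
  simp only [Set.mem_setOf_eq]
  constructor
  · intro h
    have := hfwd _ h
    rw [smul_inv_smul] at this
    exact this
  · intro h
    exact hbwd y h

open Classical in
theorem orbit_card_ge_two (hprim : IsPreprimitive G Ω) (a c : Ω) (hc : c ≠ a)
    (hne : Nat.card (orbitRel.Quotient (stabilizer G a) Ω) ≠ Fintype.card Ω) :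
    2 ≤ Nat.card (orbit (stabilizer G a) c) := by
  haveI := hprim.toIsPretransitive
  by_contra hlt
  push Not at hlt
  have hpos : 0 < Nat.card (orbit (stabilizer G a) c) := by
    haveI : Nonempty (orbit (stabilizer G a) c) := ⟨⟨c, mem_orbit_self c⟩⟩
    exact Nat.card_pos
  have h1 : Nat.card (orbit (stabilizer G a) c) = 1 := by omega
  rw [Nat.card_eq_one_iff_unique] at h1
  obtain ⟨hss, _⟩ := h1
  -- the stabiliser of a fixes c
  have hfix : ∀ k : G, k • a = a → k • c = c := by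
    intro k hk
    have h2 : (⟨k • c, ⟨⟨k, hk⟩, rfl⟩⟩ : orbit (stabilizer G a) c) = ⟨c, mem_orbit_self c⟩ :=
      Subsingleton.elim _ _
    exact congrArg Subtype.val h2
  -- equality of stabilisers by counting
  have hcard : (Finset.univ.filter (fun k : G => k • a = a)).card
      = (Finset.univ.filter (fun k : G => k • c = c)).card := by
    have ha := card_fiber (G := G) a a
    have hc' := card_fiber (G := G) c c
    have hpos : 0 < Fintype.card Ω := Fintype.card_pos_iff.mpr ⟨a⟩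
    exact Nat.eq_of_mul_eq_mul_right hpos (ha.trans hc'.symm)
  have hsub : Finset.univ.filter (fun k : G => k • a = a) ⊆ Finset.univ.filter (fun k : G => k • c = c) := by
    intro k hk
    rw [Finset.mem_filter] at hk ⊢
    exact ⟨hk.1, hfix k hk.2⟩
  have heq := Finset.eq_of_subset_of_card_le hsub (le_of_eq hcard.symm)
  have hcmem : c ∈ {x : Ω | ∀ k : G, k • x = x ↔ k • a = a} := by
    intro k
    constructor
    · intro h
      have : k ∈ Finset.univ.filter (fun k : G => k • c = c) := by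
        rw [Finset.mem_filter]; exact ⟨Finset.mem_univ _, h⟩
      rw [← heq, Finset.mem_filter] at this
      exact this.2
    · exact hfix k
  have hamem : a ∈ {x : Ω | ∀ k : G, k • x = x ↔ k • a = a} := fun k => Iff.rfl
  rcases hprim.isTrivialBlock_of_isBlock (isBlock_sameStab (G := G) a) with h | h
  · exact hc (h hcmem hamem)
  · -- all suborbits are trivial
    apply hne
    have hall : ∀ x : Ω, ∀ k : G, k • a = a → k • x = x := by
      intro x k hk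
      have hx : x ∈ {x : Ω | ∀ k : G, k • x = x ↔ k • a = a} := by rw [h]; trivial
      exact (hx k).mpr hk
    rw [← Nat.card_eq_fintype_card]
    symm
    apply Nat.card_congr
    refine Equiv.ofBijective (fun y => (Quotient.mk'' y : orbitRel.Quotient (stabilizer G a) Ω)) ⟨?_, ?_⟩
    · intro y z hyz
      have : y ∈ orbit (stabilizer G a) z := Quotient.eq''.mp hyz
      obtain ⟨⟨k, hk⟩, hkz⟩ := this
      have hkz' : k • z = y := hkz
      rw [← hkz']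
      exact hall z k hk
    · exact Quotient.mk''_surjective

end Orb


/-- the integer arithmetic at the end of Wielandt's argument -/
theorem wielandt_int (m k l : ℕ) (hk : 2 ≤ k) (hl : 2 ≤ l) (hn : 2 * m = 1 + k + l)
    (T Z : ℤ)
    (I1 : (2 * (k : ℤ) + (2 * m - 1) * T) ^ 2 = T ^ 2 - 4 * Z + 4 * k)
    (I2 : (k : ℤ) ^ 2 - k * T + Z - k = 2 * m * Z) :
    ∃ a : ℕ, 0 < a ∧ m = 2 * a ^ 2 + 2 * a + 1 ∧ (k = a * (2 * a + 1) ∨ k = (a + 1) * (2 * a + 1)) := by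
  have hN : (2 * (m : ℤ) - 1) = k + l := by
    have : (2 * (m : ℤ)) = 1 + k + l := by exact_mod_cast hn
    linarith
  set N : ℤ := (k : ℤ) + l with hNdef
  rw [hN] at I1
  have hm2 : 2 * (m : ℤ) = N + 1 := by linarith
  rw [hm2] at I2
  have hk' : (2 : ℤ) ≤ k := by exact_mod_cast hk
  have hl' : (2 : ℤ) ≤ l := by exact_mod_cast hl
  have hNpos : (4 : ℤ) ≤ N := by linarith
  have star : N * (N - 1) * T ^ 2 + 4 * k * (N - 1) * T + 4 * k * (k - 1) = 0 := by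
    have h1 : (N + 1) * (N * (N - 1) * T ^ 2 + 4 * k * (N - 1) * T + 4 * k * (k - 1)) = 0 := by
      linear_combination N * I1 + 4 * I2
    rcases mul_eq_zero.mp h1 with h | h
    · linarith
    · exact h
  -- T = -1
  have hT : T = -1 := by
    by_contra hne
    rcases lt_or_gt_of_ne hne with h | h
    · -- T ≤ -2
      have hT2 : T ≤ -2 := by omega
      have hl2 : (l : ℤ) = N - k := by linarith
      have star' : N * (N - 1) * (-2 - T) ^ 2 + 4 * (N - 1) * l * (-2 - T) + 4 * l * (l - 1) = 0 := by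
        rw [hl2]
        linear_combination star
      have p1 : 0 ≤ N * (N - 1) * (-2 - T) ^ 2 := by
        apply mul_nonneg
        · apply mul_nonneg <;> linarith
        · positivity
      have p2 : 0 ≤ 4 * (N - 1) * l * (-2 - T) := by
        apply mul_nonneg
        · apply mul_nonneg
          · linarith
          · linarith
        · linarith
      have p3 : 0 < 4 * (l : ℤ) * (l - 1) := by
        apply mul_pos
        · linarith
        · linarith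
      linarith
    · -- T ≥ 0
      have hT0 : 0 ≤ T := by omega
      have p1 : 0 ≤ N * (N - 1) * T ^ 2 := by
        apply mul_nonneg
        · apply mul_nonneg <;> linarith
        · positivity
      have p2 : 0 ≤ 4 * (k : ℤ) * (N - 1) * T := by
        apply mul_nonneg
        · apply mul_nonneg <;> linarith
        · exact hT0
      have p3 : 0 < 4 * (k : ℤ) * (k - 1) := by
        apply mul_pos <;> linarith
      linarith
  rw [hT] at star
  have hsq : ((l : ℤ) - k) ^ 2 = N := by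
    rw [hNdef] at star ⊢
    linear_combination star
  -- the odd number s = l - k
  set s : ℤ := (l : ℤ) - k with hs
  have hsodd : Odd s := by
    rcases Int.even_or_odd s with he | ho
    · exfalso
      obtain ⟨r, hr⟩ := he
      have : N = 4 * r ^ 2 := by rw [← hsq, hr]; ring
      omega
    · exact ho
  obtain ⟨r, hr⟩ := hsodd
  -- r ≥ 0 or r ≤ -1
  rcases le_or_gt 0 r with hr0 | hr0
  · -- s > 0 : k = r (2r+1)
    obtain ⟨a, rfl⟩ := Int.eq_ofNat_of_zero_le hr0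
    have hkv : (k : ℤ) = a * (2 * a + 1) := by
      have h1 : (l : ℤ) = k + (2 * a + 1) := by linarith
      have h2 : (k : ℤ) + l = (2 * a + 1) ^ 2 := by rw [← hr, hsq]
      rw [h1] at h2
      have h3 : 2 * (k : ℤ) = 2 * (a * (2 * a + 1)) := by linear_combination h2
      linarith
    have hmv : (m : ℤ) = 2 * a ^ 2 + 2 * a + 1 := by
      have h2 : N = (2 * (a : ℤ) + 1) ^ 2 := by rw [← hr, hsq]
      have h3 : 2 * (m : ℤ) = 2 * (2 * a ^ 2 + 2 * a + 1) := by rw [hm2, h2]; ring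
      linarith
    refine ⟨a, ?_, ?_, ?_⟩
    · rcases Nat.eq_zero_or_pos a with h0 | h0
      · exfalso
        rw [h0] at hkv
        simp at hkv
        omega
      · exact h0
    · exact_mod_cast hmv
    · left; exact_mod_cast hkv
  · -- s < 0
    have hr1 : 0 ≤ -r - 1 := by omega
    obtain ⟨a, ha⟩ := Int.eq_ofNat_of_zero_le hr1
    have hra : r = -(a : ℤ) - 1 := by linarith
    have hkv : (k : ℤ) = (a + 1) * (2 * a + 1) := by
      have h1 : (l : ℤ) = k - (2 * a + 1) := by rw [hra] at hr; linarith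
      have h2 : (k : ℤ) + l = (2 * a + 1) ^ 2 := by
        rw [← hNdef, ← hsq, hr, hra]; ring
      rw [h1] at h2
      have h3 : 2 * (k : ℤ) = 2 * ((a + 1) * (2 * a + 1)) := by linear_combination h2
      linarith
    have hmv : (m : ℤ) = 2 * a ^ 2 + 2 * a + 1 := by
      have h2 : N = (2 * (a : ℤ) + 1) ^ 2 := by rw [← hsq, hr, hra]; ring
      have h3 : 2 * (m : ℤ) = 2 * (2 * a ^ 2 + 2 * a + 1) := by rw [hm2, h2]; ring
      linarith
    refine ⟨a, ?_, ?_, ?_⟩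
    · rcases Nat.eq_zero_or_pos a with h0 | h0
      · exfalso
        rw [h0] at hkv
        simp at hkv
        omega
      · exact h0
    · exact_mod_cast hmv
    · right; exact_mod_cast hkv

theorem wielandt_arith (m k l : ℕ) (hk : 2 ≤ k) (hl : 2 ≤ l) (hn : 2 * m = 1 + k + l)
    (c₁ c₂ : ℂ) (z₁ z₂ : ℤ)
    (e1 : (k : ℂ) + c₁ * ((m : ℂ) - 1) + c₂ * m = 0)
    (e2 : (k : ℂ) + c₁ * c₂ = (k - c₁) * (k - c₂) / (2 * m : ℂ))
    (e3 : (z₁ : ℂ) - (c₁ + c₂) = (k - c₁) * (k - c₂) / (2 * m : ℂ))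
    (e4 : (z₂ : ℂ) = (k - c₁) * (k - c₂) / (2 * m : ℂ)) :
    ∃ a : ℕ, 0 < a ∧ m = 2 * a ^ 2 + 2 * a + 1 ∧
      (k = a * (2 * a + 1) ∨ k = (a + 1) * (2 * a + 1)) := by
  have hm0 : (2 * m : ℂ) ≠ 0 := by
    have : 0 < 2 * m := by omega
    exact_mod_cast this.ne'
  have hT : ((z₁ - z₂ : ℤ) : ℂ) = c₁ + c₂ := by
    push_cast
    linear_combination e3 - e4
  have hZ : (z₂ : ℂ) = c₁ * c₂ + k := by
    linear_combination e4 - e2
  have hG : (k - c₁) * (k - c₂) = 2 * m * (z₂ : ℂ) := by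
    rw [e4, mul_div_cancel₀ _ hm0]
  apply wielandt_int m k l hk hl hn (z₁ - z₂) z₂
  · have : (2 * (k : ℂ) + (2 * (m : ℂ) - 1) * ((z₁ - z₂ : ℤ) : ℂ)) ^ 2
        = ((z₁ - z₂ : ℤ) : ℂ) ^ 2 - 4 * (z₂ : ℂ) + 4 * k := by
      rw [hT, hZ]
      linear_combination (2 * ((2 * (k : ℂ) + (2 * (m : ℂ) - 1) * (c₁ + c₂)) + (c₁ - c₂))) * e1
    exact_mod_cast this
  · have : (k : ℂ) ^ 2 - k * ((z₁ - z₂ : ℤ) : ℂ) + (z₂ : ℂ) - k = 2 * m * (z₂ : ℂ) := by
      rw [← hG, hT, hZ]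
      ring
    exact_mod_cast this


section Final
variable {G : Type*} [Group G] [Fintype G] {Ω : Type*} [Fintype Ω] [DecidableEq Ω] [MulAction G Ω]

theorem classInner_conj_right (π χ : G → ℂ) (hπ : ∀ g, conj (π g) = π g) :
    Cfsg.classInner π (fun g => conj (χ g)) = conj (Cfsg.classInner π χ) := by
  unfold Cfsg.classInner
  rw [map_mul, map_inv₀, Complex.conj_natCast, map_sum]
  congr 1
  apply Finset.sum_congr rfl
  intro g _
  rw [map_mul, hπ g]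

theorem piChar_conj (g : G) : conj (piChar G Ω g) = piChar G Ω g := by
  unfold piChar
  rw [Complex.conj_natCast]

theorem real_of_three (μ₀ μ₁ μ₂ : Cfsg.IrrCharacter G)
    (hπ : ∀ g, piChar G Ω g = (μ₀ : G → ℂ) g + (μ₁ : G → ℂ) g + (μ₂ : G → ℂ) g)
    (h01 : μ₀ ≠ μ₁) (h02 : μ₀ ≠ μ₂) (h12 : μ₁ ≠ μ₂)
    (h0real : ∀ g, conj ((μ₀ : G → ℂ) g) = (μ₀ : G → ℂ) g)
    (hdeg : conj ((μ₁ : G → ℂ) 1) ≠ (μ₂ : G → ℂ) 1) :
    ∀ g, conj ((μ₁ : G → ℂ) g) = (μ₁ : G → ℂ) g := by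
  have hirr : Cfsg.IsIrrCharacter G (fun g => (starRingAut : ℂ ≃+* ℂ) ((μ₁ : G → ℂ) g)) :=
    Cfsg.Agent.Lib.Helper11.isIrrCharacter_ringAut starRingAut μ₁.2
  set ν : Cfsg.IrrCharacter G := ⟨fun g => conj ((μ₁ : G → ℂ) g), hirr⟩ with hν
  have hνval : ∀ g, (ν : G → ℂ) g = conj ((μ₁ : G → ℂ) g) := fun g => rfl
  have h1 : Cfsg.classInner (piChar G Ω) (ν : G → ℂ) = 1 := by
    have := classInner_conj_right (piChar G Ω) (μ₁ : G → ℂ) piChar_conj
    rw [mult3_1 μ₀ μ₁ μ₂ hπ h01 h12, map_one] at this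
    exact this
  rw [mult3 μ₀ μ₁ μ₂ hπ ν] at h1
  by_cases e1 : μ₁ = ν
  · intro g
    rw [← hνval g, ← e1]
  · exfalso
    by_cases e0 : μ₀ = ν
    · apply h01
      apply Subtype.ext
      funext g
      have h3 : (μ₀ : G → ℂ) g = conj ((μ₁ : G → ℂ) g) := by rw [e0]
      have h4 := congrArg conj h3
      rw [Complex.conj_conj, h0real] at h4
      exact h4
    · by_cases e2 : μ₂ = ν
      · apply hdeg
        rw [← hνval 1, ← e2]
      · rw [if_neg e0, if_neg e1, if_neg e2] at h1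
        norm_num at h1

end Final

theorem s0719 {G : Type*} [Group G] [Fintype G] {Ω : Type*} [Fintype Ω] [MulAction G Ω]
    (hprim : MulAction.IsPreprimitive G Ω) {m : ℕ} (hm : Fintype.card Ω = 2 * m) (a₀ : Ω)
    (hrank : Nat.card (MulAction.orbitRel.Quotient (MulAction.stabilizer G a₀) Ω) = 3)
    (χ₁ χ₂ : G → ℂ) (h₁ : Cfsg.IsIrrCharacter G χ₁) (h₂ : Cfsg.IsIrrCharacter G χ₂)
    (hπ : (fun g : G => (Nat.card (MulAction.fixedBy Ω g) : ℂ)) = fun g => 1 + χ₁ g + χ₂ g)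
    (hd₁ : χ₁ 1 = (m : ℂ) - 1) (hd₂ : χ₂ 1 = m) :
    ∃ a : ℕ, 0 < a ∧ m = 2 * a ^ 2 + 2 * a + 1 ∧ ∀ b : Ω, b ≠ a₀ →
      Nat.card (MulAction.orbit (MulAction.stabilizer G a₀) b) = a * (2 * a + 1) ∨
      Nat.card (MulAction.orbit (MulAction.stabilizer G a₀) b) = (a + 1) * (2 * a + 1) := by
  classical
  haveI := hprim.toIsPretransitive
  set μ₀ : Cfsg.IrrCharacter G := Cfsg.Agent.Lib.Helper25.trivIrr G with hμ₀
  set μ₁ : Cfsg.IrrCharacter G := ⟨χ₁, h₁⟩ with hμ₁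
  set μ₂ : Cfsg.IrrCharacter G := ⟨χ₂, h₂⟩ with hμ₂
  have hπ' : ∀ g, piChar G Ω g = (μ₀ : G → ℂ) g + (μ₁ : G → ℂ) g + (μ₂ : G → ℂ) g := by
    intro g
    exact congrFun hπ g
  have h12 : μ₁ ≠ μ₂ := by
    intro h
    have h' : χ₁ = χ₂ := congrArg Subtype.val h
    rw [h', hd₂] at hd₁
    have : (1 : ℂ) = 0 := by linear_combination hd₁
    exact one_ne_zero this
  have htriv := inner_pi_triv (G := G) (Ω := Ω) a₀
  have hmult := mult3 μ₀ μ₁ μ₂ hπ' μ₀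
  change Cfsg.classInner (piChar G Ω) (fun _ => (1 : ℂ)) = _ at hmult
  rw [htriv, if_pos rfl] at hmult
  have h01 : μ₀ ≠ μ₁ := by
    intro h
    rw [if_pos h.symm] at hmult
    split_ifs at hmult <;> norm_num at hmult
  have h02 : μ₀ ≠ μ₂ := by
    intro h
    rw [if_pos h.symm] at hmult
    split_ifs at hmult <;> norm_num at hmult
  -- reality
  have h0real : ∀ g, conj ((μ₀ : G → ℂ) g) = (μ₀ : G → ℂ) g := by
    intro g
    rw [Cfsg.Agent.Lib.Helper25.trivIrr_apply, map_one]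
  have hd₁' : (μ₁ : G → ℂ) 1 = (m : ℂ) - 1 := hd₁
  have hd₂' : (μ₂ : G → ℂ) 1 = (m : ℂ) := hd₂
  have h1real : ∀ g, conj ((μ₁ : G → ℂ) g) = (μ₁ : G → ℂ) g := by
    apply real_of_three μ₀ μ₁ μ₂ hπ' h01 h02 h12 h0real
    rw [hd₁', hd₂', map_sub, map_one, Complex.conj_natCast]
    intro h
    have : (1 : ℂ) = 0 := by linear_combination -h
    exact one_ne_zero this
  have h2real : ∀ g, conj ((μ₂ : G → ℂ) g) = (μ₂ : G → ℂ) g := by
    apply real_of_three μ₀ μ₂ μ₁ (fun g => by rw [hπ' g]; ring) h02 h01 (Ne.symm h12) h0real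
    rw [hd₁', hd₂', Complex.conj_natCast]
    intro h
    have : (1 : ℂ) = 0 := by linear_combination h
    exact one_ne_zero this
  have hgen : ∀ a b : Ω, ∃ g : G, g • a = b ∧ g • b = a := by
    apply generous_of_multfree_real
    intro χ hχ hne
    rw [mult3 μ₀ μ₁ μ₂ hπ' ⟨χ, hχ⟩] at hne
    by_cases e0 : μ₀ = ⟨χ, hχ⟩
    · have hχ0 : χ = (μ₀ : G → ℂ) := (congrArg Subtype.val e0).symm
      rw [hχ0]
      exact ⟨mult3_0 μ₀ μ₁ μ₂ hπ' h01 h02, h0real⟩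
    by_cases e1 : μ₁ = ⟨χ, hχ⟩
    · have hχ1 : χ = (μ₁ : G → ℂ) := (congrArg Subtype.val e1).symm
      rw [hχ1]
      exact ⟨mult3_1 μ₀ μ₁ μ₂ hπ' h01 h12, h1real⟩
    by_cases e2 : μ₂ = ⟨χ, hχ⟩
    · have hχ2 : χ = (μ₂ : G → ℂ) := (congrArg Subtype.val e2).symm
      rw [hχ2]
      exact ⟨mult3_2 μ₀ μ₁ μ₂ hπ' h02 h12, h2real⟩
    · exfalso; apply hne; rw [if_neg e0, if_neg e1, if_neg e2]; ring
  have hne3 : Nat.card (MulAction.orbitRel.Quotient (MulAction.stabilizer G a₀) Ω)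
      ≠ Fintype.card Ω := by
    rw [hrank, hm]; omega
  have hkey : ∀ b : Ω, b ≠ a₀ → ∃ a : ℕ, 0 < a ∧ m = 2 * a ^ 2 + 2 * a + 1 ∧
      (Nat.card (MulAction.orbit (MulAction.stabilizer G a₀) b) = a * (2 * a + 1) ∨
      Nat.card (MulAction.orbit (MulAction.stabilizer G a₀) b) = (a + 1) * (2 * a + 1)) := by
    intro b hb
    obtain ⟨c, hc, hcb⟩ := exists_third a₀ b hrank hb
    have hn := card_three_orbits a₀ b c hrank hb hc hcb
    have hk2 := orbit_card_ge_two hprim a₀ b hb hne3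
    have hl2 := orbit_card_ge_two hprim a₀ c hc hne3
    have hcb' : ¬ orbRel G a₀ b a₀ c := fun h => hcb ((orbRel_base a₀ b c).mp h)
    obtain ⟨c₁, c₂, z₁, z₂, e1, e2, e3, e4⟩ :=
      rank3_eqs μ₁ μ₂ hπ' h01 h02 h12 hgen a₀ b c hb hc hcb' _ rfl
    have hcardΩ : (Fintype.card Ω : ℂ) = 2 * (m : ℂ) := by rw [hm]; push_cast; ring
    rw [hd₁', hd₂'] at e1
    rw [hcardΩ] at e2 e3 e4
    exact wielandt_arith m _ _ hk2 hl2 (by omega) c₁ c₂ z₁ z₂ e1 e2 e3 e4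
  -- choose a point b₀ ≠ a₀
  have hmpos : 0 < m := by
    have : 0 < Fintype.card Ω := Fintype.card_pos_iff.mpr ⟨a₀⟩
    omega
  have hcard2 : 1 < Fintype.card Ω := by omega
  obtain ⟨b₀, hb₀⟩ := Fintype.exists_ne_of_one_lt_card hcard2 a₀
  obtain ⟨a, ha0, ham, _⟩ := hkey b₀ hb₀
  refine ⟨a, ha0, ham, ?_⟩
  intro b hb
  obtain ⟨a', ha'0, ha'm, hcase⟩ := hkey b hb
  have haa' : a' = a := by
    rw [ham] at ha'm
    by_contra hne
    rcases Nat.lt_or_gt_of_ne hne with h | h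
    · nlinarith
    · nlinarith
  rw [haa'] at hcase
  exact hcase

end Cfsg.Agent.Lib.helper6.PermChar
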