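import Cfsg.Agent.Lib.Helper29.GLK.Defs

/-!
# Project GLK, piece N: `cnt q n 1 n ≤ q ^ n`  (helper6)

Pure numerics over `ℚ` with `x = 1/q`:  `B s r j = cnt q s r j * x^j`, `S s r n = ∑_{j<n} B s r j`,
`S (s+1) r n = ∑_{m<n} a r m * S s (r+1) (n - r m)` and the "hazard-rate" inequality
`S s (r+1) (n+1) ≤ 1 + x^r * S s (r+1) n`.
-/

set_option autoImplicit false

namespace Cfsg.Agent.Lib.Helper29.GLK

open Finset

/-- `cnt q s r j * x^j`, `x = 1/q` -/
noncomputable def glkN_B (q s r j : ℕ) : ℚ := (cnt q s r j : ℚ) * ((q : ℚ)⁻¹) ^ j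

/-- partial sums of `glkN_B` -/
noncomputable def glkN_S (q s r n : ℕ) : ℚ := ∑ j ∈ range n, glkN_B q s r j

/-- `nMon q m * x^(r m)` -/
noncomputable def glkN_a (q r m : ℕ) : ℚ := (nMon q m : ℚ) * ((q : ℚ)⁻¹) ^ (r * m)

theorem glkN_B_nonneg (q s r j : ℕ) : 0 ≤ glkN_B q s r j := by
  unfold glkN_B; positivity

theorem glkN_a_nonneg (q r m : ℕ) : 0 ≤ glkN_a q r m := by
  unfold glkN_a; positivity

theorem glkN_S_nonneg (q s r n : ℕ) : 0 ≤ glkN_S q s r n :=
  Finset.sum_nonneg fun _ _ => glkN_B_nonneg _ _ _ _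

theorem glkN_S_mono (q s r : ℕ) {m n : ℕ} (h : m ≤ n) : glkN_S q s r m ≤ glkN_S q s r n :=
  Finset.sum_le_sum_of_subset_of_nonneg (Finset.range_mono h) fun _ _ _ => glkN_B_nonneg _ _ _ _

theorem glkN_S_zero (q s r : ℕ) : glkN_S q s r 0 = 0 := by simp [glkN_S]

theorem glkN_S_succ (q s r n : ℕ) : glkN_S q s r (n + 1) = glkN_S q s r n + glkN_B q s r n := by
  simp [glkN_S, Finset.sum_range_succ]

theorem glkN_B_zero_s (q r j : ℕ) : glkN_B q 0 r j = if j = 0 then 1 else 0 := by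
  unfold glkN_B
  by_cases h : j = 0
  · subst h; simp [cnt]
  · simp [cnt, h]

theorem glkN_S_zero_s (q r n : ℕ) : glkN_S q 0 r (n + 1) = 1 := by
  induction n with
  | zero => simp [glkN_S, glkN_B_zero_s]
  | succ k ih => rw [glkN_S_succ, ih, glkN_B_zero_s]; simp

theorem glkN_B_succ (q s r j : ℕ) :
    glkN_B q (s + 1) r j = ∑ m ∈ range (j + 1),
      if r * m ≤ j then glkN_a q r m * glkN_B q s (r + 1) (j - r * m) else 0 := by
  unfold glkN_B glkN_a
  rw [cnt]
  push_cast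
  rw [Finset.sum_mul]
  refine Finset.sum_congr rfl fun m _ => ?_
  by_cases h : r * m ≤ j
  · simp only [h, if_true]
    have : ((q : ℚ)⁻¹) ^ j = ((q : ℚ)⁻¹) ^ (r * m) * ((q : ℚ)⁻¹) ^ (j - r * m) := by
      rw [← pow_add]; congr 1; omega
    rw [this]; push_cast; ring
  · simp [h]

/-- reindexing a shifted sum -/
theorem glkN_shift (f : ℕ → ℚ) (c n : ℕ) :
    ∑ j ∈ range n, (if c ≤ j then f (j - c) else 0) = ∑ i ∈ range (n - c), f i := by
  induction n with
  | zero => simp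
  | succ k ih =>
    rw [Finset.sum_range_succ, ih]
    by_cases h : c ≤ k
    · have : k + 1 - c = (k - c) + 1 := by omega
      rw [this, Finset.sum_range_succ]; simp [h]
    · have : k + 1 - c = k - c := by omega
      rw [this]; simp [h]

/-- the recursion for the partial sums -/
theorem glkN_S_rec (q s r n : ℕ) (hr : 1 ≤ r) :
    glkN_S q (s + 1) r n = ∑ m ∈ range n, glkN_a q r m * glkN_S q s (r + 1) (n - r * m) := by
  unfold glkN_S
  have h1 : ∀ j ∈ range n, glkN_B q (s + 1) r j = ∑ m ∈ range n,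
      if r * m ≤ j then glkN_a q r m * glkN_B q s (r + 1) (j - r * m) else 0 := by
    intro j hj
    rw [glkN_B_succ]
    have hj' : j < n := Finset.mem_range.mp hj
    refine Finset.sum_subset (Finset.range_mono (by omega)) ?_
    intro m _ hm
    have hm' : j < m := by
      have := Finset.mem_range.not.mp hm; omega
    have : ¬ r * m ≤ j := by
      intro h
      have : m ≤ r * m := Nat.le_mul_of_pos_left m hr
      omega
    simp [this]
  rw [Finset.sum_congr rfl h1, Finset.sum_comm]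
  refine Finset.sum_congr rfl fun m _ => ?_
  rw [Finset.mul_sum, ← glkN_shift (fun i => glkN_a q r m * glkN_B q s (r + 1) i) (r * m) n]

theorem glkN_a_zero (q r : ℕ) : glkN_a q r 0 = 1 := by simp [glkN_a, nMon]

theorem glkN_a_one (q r : ℕ) (hq : 2 ≤ q) :
    glkN_a q (r + 1) 1 = (1 - (q : ℚ)⁻¹) * ((q : ℚ)⁻¹) ^ r := by
  have hq0 : (q : ℚ) ≠ 0 := by positivity
  have h1 : (1 : ℕ) ≤ q := by omega
  simp only [glkN_a, nMon, mul_one]
  simp
  push_cast [Nat.cast_sub h1]
  rw [pow_succ]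
  field_simp

theorem glkN_a_succ (q r k : ℕ) (hq : 2 ≤ q) :
    glkN_a q (r + 1) (k + 2) = ((q : ℚ)⁻¹) ^ r * glkN_a q (r + 1) (k + 1) := by
  have hq0 : (q : ℚ) ≠ 0 := by positivity
  simp only [glkN_a, nMon]
  simp
  have e1 : (r + 1) * (k + 2) = (r + 1) * (k + 1) + r + 1 := by ring
  rw [e1]
  have e3 : (q : ℚ) ^ ((r + 1) * (k + 1) + r + 1) = (q : ℚ) ^ ((r + 1) * (k + 1)) * (q : ℚ) ^ r * q := by
    rw [pow_succ, pow_add]
  rw [e3, pow_succ (q : ℚ) k]
  field_simp

/-- the hazard-rate inequality -/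
theorem glkN_claim (q : ℕ) (hq : 2 ≤ q) (s : ℕ) : ∀ r n : ℕ,
    glkN_S q s (r + 1) (n + 1) ≤ 1 + ((q : ℚ)⁻¹) ^ r * glkN_S q s (r + 1) n := by
  have hx0 : (0 : ℚ) ≤ (q : ℚ)⁻¹ := by positivity
  have hx1 : (q : ℚ)⁻¹ ≤ 1 := by
    apply inv_le_one_of_one_le₀
    exact_mod_cast (by omega : 1 ≤ q)
  induction s with
  | zero =>
    intro r n
    rw [glkN_S_zero_s]
    have := glkN_S_nonneg q 0 (r + 1) n
    have h2 : 0 ≤ ((q : ℚ)⁻¹) ^ r := by positivity
    nlinarith
  | succ s ih =>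
    intro r n
    set x : ℚ := (q : ℚ)⁻¹ with hx
    set ρ : ℚ := x ^ r with hρ
    have hρ0 : 0 ≤ ρ := by positivity
    -- S' = S s (r+2)
    have hR1 := glkN_S_rec q s (r + 1) (n + 1) (by omega)
    rw [Finset.sum_range_succ'] at hR1
    rw [glkN_a_zero, Nat.mul_zero, Nat.sub_zero, one_mul] at hR1
    cases n with
    | zero =>
      rw [hR1]
      simp only [Finset.range_zero, Finset.sum_empty, zero_add, glkN_S_zero, mul_zero, add_zero]
      have := ih (r + 1) 0
      rw [glkN_S_zero, mul_zero, add_zero] at this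
      simpa using this
    | succ n' =>
      have hR0 := glkN_S_rec q s (r + 1) (n' + 1) (by omega)
      rw [Finset.sum_range_succ'] at hR0
      rw [glkN_a_zero, Nat.mul_zero, Nat.sub_zero, one_mul] at hR0
      rw [Finset.sum_range_succ'] at hR1
      -- termwise comparison
      have hterm : ∑ k ∈ range n', glkN_a q (r + 1) (k + 1 + 1) *
            glkN_S q s (r + 1 + 1) (n' + 1 + 1 - (r + 1) * (k + 1 + 1))
          ≤ ρ * ∑ k ∈ range n', glkN_a q (r + 1) (k + 1) *
            glkN_S q s (r + 1 + 1) (n' + 1 - (r + 1) * (k + 1)) := by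
        rw [Finset.mul_sum]
        refine Finset.sum_le_sum fun k _ => ?_
        rw [glkN_a_succ q r k hq, mul_assoc]
        refine mul_le_mul_of_nonneg_left ?_ hρ0
        refine mul_le_mul_of_nonneg_left ?_ (glkN_a_nonneg _ _ _)
        apply glkN_S_mono
        have : (r + 1) * (k + 1 + 1) = (r + 1) * (k + 1) + (r + 1) := by ring
        omega
      have hIH := ih (r + 1) (n' + 1)
      have hmono : glkN_S q s (r + 1 + 1) (n' + 1 + 1 - (r + 1) * (0 + 1)) ≤
          glkN_S q s (r + 1 + 1) (n' + 1) := by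
        apply glkN_S_mono; omega
      have ha1 := glkN_a_one q r hq
      rw [hR1, hR0]
      rw [show (0 : ℕ) + 1 = 1 from rfl] at *
      rw [ha1]
      have hpow : x ^ (r + 1) = x * ρ := by rw [hρ, pow_succ]; ring
      rw [hpow] at hIH
      have h1x : 0 ≤ 1 - x := by linarith
      nlinarith [mul_nonneg (mul_nonneg h1x hρ0) (sub_nonneg.mpr hmono), hterm, hIH]

theorem cnt_le (q n : ℕ) (hq : 2 ≤ q) : cnt q n 1 n ≤ q ^ n := by
  have h := glkN_claim q hq n 0 n
  rw [glkN_S_succ, pow_zero, one_mul] at h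
  have hB : glkN_B q n 1 n ≤ 1 := by linarith
  unfold glkN_B at hB
  have hq0 : (0 : ℚ) < (q : ℚ) := by positivity
  have hqn : (0 : ℚ) < (q : ℚ) ^ n := by positivity
  rw [inv_pow, ← div_eq_mul_inv, div_le_one hqn] at hB
  exact_mod_cast hB

end Cfsg.Agent.Lib.Helper29.GLK
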