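import Mathlib
import Cfsg.Agent.Lib.Lead.STB.Defs
import Cfsg.Agent.Lib.Helper24.STCI1
import Cfsg.Agent.Lib.helper6.STDW14

/-!
# STB W9 (helper6): the permutation `swb a` and the coefficients `dwb`, `dhb`, `dwd`, `dhs` — VERBATIM rows of `Lead/STB/Skel1.lean.txt`.

Extras: values `stbw9_dwb_a`, `stbw9_dwb_na`, `stbw9_dwb_of_ne`, `stbw9_dhb_a`, `stbw9_dhb_na`, `stbw9_dhb_of_ne`, `stbw9_dwb_ne_zero`.
-/

set_option autoImplicit false

namespace Cfsg.Agent.Lib.Lead.STB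

open Cfsg.Agent.Lib.helper15.St2 Cfsg.Agent.Lib.helper3.STC Cfsg.Agent.Lib.Lead.STD

universe v w

section aux

variable {K : Type*} [Field K] {ι : Type*} [DecidableEq ι]

theorem stbw9_dwb_a (a : ι ⊕ ι) (u : K) : dwb a u a = -(u⁻¹ ^ 2) := by
  unfold dwb; rw [if_pos rfl]

theorem stbw9_dwb_na (a : ι ⊕ ι) (u : K) : dwb a u (ng a) = -(u ^ 2) := by
  unfold dwb; rw [if_neg (ng_ne a), if_pos rfl]

theorem stbw9_dwb_of_ne {a k : ι ⊕ ι} (hka : k ≠ a) (hka' : k ≠ ng a) (u : K) : dwb a u k = 1 := by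
  unfold dwb; rw [if_neg hka, if_neg hka']

theorem stbw9_dhb_a (a : ι ⊕ ι) (u : K) : dhb a u a = u ^ 2 := by
  unfold dhb; rw [if_pos rfl]

theorem stbw9_dhb_na (a : ι ⊕ ι) (u : K) : dhb a u (ng a) = u⁻¹ ^ 2 := by
  unfold dhb; rw [if_neg (ng_ne a), if_pos rfl]

theorem stbw9_dhb_of_ne {a k : ι ⊕ ι} (hka : k ≠ a) (hka' : k ≠ ng a) (u : K) : dhb a u k = 1 := by
  unfold dhb; rw [if_neg hka, if_neg hka']

theorem stbw9_dwb_ne_zero (a : ι ⊕ ι) (u : K) (hu : u ≠ 0) (k : ι ⊕ ι) : dwb a u k ≠ 0 := by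
  by_cases hka : k = a
  · subst hka; rw [stbw9_dwb_a]; exact neg_ne_zero.2 (pow_ne_zero 2 (inv_ne_zero hu))
  by_cases hka' : k = ng a
  · subst hka'; rw [stbw9_dwb_na]; exact neg_ne_zero.2 (pow_ne_zero 2 hu)
  rw [stbw9_dwb_of_ne hka hka']; exact one_ne_zero

theorem stbw9_dhb_ne_zero (a : ι ⊕ ι) (u : K) (hu : u ≠ 0) (k : ι ⊕ ι) : dhb a u k ≠ 0 := by
  by_cases hka : k = a
  · subst hka; rw [stbw9_dhb_a]; exact pow_ne_zero 2 hu
  by_cases hka' : k = ng a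
  · subst hka'; rw [stbw9_dhb_na]; exact pow_ne_zero 2 (inv_ne_zero hu)
  rw [stbw9_dhb_of_ne hka hka']; exact one_ne_zero

theorem stbw9_dhs_a (a b : ι ⊕ ι) (u : K) : dhs a b u a = u := by
  unfold dhs; rw [if_pos (Or.inl rfl)]

theorem stbw9_dhs_nb (a b : ι ⊕ ι) (u : K) : dhs a b u (ng b) = u := by
  unfold dhs; rw [if_pos (Or.inr rfl)]

theorem stbw9_dhs_b {a b : ι ⊕ ι} (hab : a ≠ b) (u : K) : dhs a b u b = u⁻¹ := by
  unfold dhs
  rw [if_neg (by rintro (h | h); exacts [hab h.symm, ne_ng b h]), if_pos (Or.inl rfl)]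

theorem stbw9_dhs_na {a b : ι ⊕ ι} (hab : a ≠ b) (u : K) : dhs a b u (ng a) = u⁻¹ := by
  unfold dhs
  rw [if_neg (by rintro (h | h); exacts [ng_ne a h, hab (ng_inj.mp h)]), if_pos (Or.inr rfl)]

theorem stbw9_dhs_of_ne {a b k : ι ⊕ ι} (hka : k ≠ a) (hkb : k ≠ b) (hka' : k ≠ ng a) (hkb' : k ≠ ng b) (u : K) :
    dhs a b u k = 1 := by
  unfold dhs
  rw [if_neg (by rintro (h | h); exacts [hka h, hkb' h]), if_neg (by rintro (h | h); exacts [hkb h, hka' h])]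

end aux

namespace SysB

variable {K : Type*} [Field K] {ι : Type*} {G : Type*} [Group G] (S : SysB K ι G)

variable [DecidableEq ι]

/-- W9 [S]  the permutation `swb a = swap a (ng a)` and the coefficients `dwb`, `dhb` (`simp [swb, Equiv.swap_apply_def]`, block I of STC `Helper24.STCI1`). -/
theorem swb_self (a : ι ⊕ ι) : swb a a = ng a := by
  unfold swb; exact Equiv.swap_apply_left a (ng a)

theorem swb_ng_self (a : ι ⊕ ι) : swb a (ng a) = a := by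
  unfold swb; exact Equiv.swap_apply_right a (ng a)

theorem swb_of_ne {a k : ι ⊕ ι} (hka : k ≠ a) (hka' : k ≠ ng a) : swb a k = k := by
  unfold swb; exact Equiv.swap_apply_of_ne_of_ne hka hka'

theorem swb_ng (a k : ι ⊕ ι) : swb a (ng k) = ng (swb a k) := by
  by_cases hka : k = a
  · subst hka; rw [swb_ng_self, swb_self, ng_ng]
  by_cases hka' : k = ng a
  · subst hka'; rw [ng_ng, swb_self, swb_ng_self]
  rw [swb_of_ne hka hka', swb_of_ne (fun h => hka' (by rw [← h, ng_ng])) (fun h => hka (ng_inj.mp h))]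

theorem swb_mul_self (a : ι ⊕ ι) : swb a * swb a = 1 := by
  unfold swb; exact Equiv.swap_mul_self a (ng a)

theorem dwb_mul_ng (a : ι ⊕ ι) (u : K) (hu : u ≠ 0) (k : ι ⊕ ι) : dwb a u k * dwb a u (ng k) = 1 := by
  by_cases hka : k = a
  · subst hka; rw [stbw9_dwb_a, stbw9_dwb_na]; field_simp
  by_cases hka' : k = ng a
  · subst hka'; rw [ng_ng, stbw9_dwb_a, stbw9_dwb_na]; field_simp
  rw [stbw9_dwb_of_ne hka hka', stbw9_dwb_of_ne (fun h => hka' (by rw [← h, ng_ng])) (fun h => hka (ng_inj.mp h)), mul_one]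

theorem dhb_mul_ng (a : ι ⊕ ι) (u : K) (hu : u ≠ 0) (k : ι ⊕ ι) : dhb a u k * dhb a u (ng k) = 1 := by
  by_cases hka : k = a
  · subst hka; rw [stbw9_dhb_a, stbw9_dhb_na]; field_simp
  by_cases hka' : k = ng a
  · subst hka'; rw [ng_ng, stbw9_dhb_a, stbw9_dhb_na]; field_simp
  rw [stbw9_dhb_of_ne hka hka', stbw9_dhb_of_ne (fun h => hka' (by rw [← h, ng_ng])) (fun h => hka (ng_inj.mp h)), mul_one]

theorem dwd_mul_ng {a b : ι ⊕ ι} (hab : a ≠ b) (hab' : a ≠ ng b) (u : K) (hu : u ≠ 0) (k : ι ⊕ ι) : dwd a b u k * dwd a b u (ng k) = 1 := by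
  by_cases hka : k = a
  · subst hka; rw [stdw14_dwd_a, stdw14_dwd_na hab hab']; field_simp
  by_cases hkb : k = b
  · subst hkb; rw [stdw14_dwd_b hab, stdw14_dwd_nb hab']; field_simp
  by_cases hkb' : k = ng b
  · subst hkb'; rw [ng_ng, stdw14_dwd_b hab, stdw14_dwd_nb hab']; field_simp
  by_cases hka' : k = ng a
  · subst hka'; rw [ng_ng, stdw14_dwd_a, stdw14_dwd_na hab hab']; field_simp
  rw [stdw14_dwd_of_ne hka hkb hka' hkb', stdw14_dwd_of_ne (fun h => hka' (by rw [← h, ng_ng])) (fun h => hkb' (by rw [← h, ng_ng]))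
    (fun h => hka (ng_inj.mp h)) (fun h => hkb (ng_inj.mp h)), mul_one]

theorem dhs_mul_ng {a b : ι ⊕ ι} (hab : a ≠ b) (hab' : a ≠ ng b) (u : K) (hu : u ≠ 0) (k : ι ⊕ ι) : dhs a b u k * dhs a b u (ng k) = 1 := by
  by_cases hka : k = a
  · subst hka; rw [stbw9_dhs_a, stbw9_dhs_na hab]; field_simp
  by_cases hkb : k = b
  · subst hkb; rw [stbw9_dhs_b hab, stbw9_dhs_nb]; field_simp
  by_cases hkb' : k = ng b
  · subst hkb'; rw [ng_ng, stbw9_dhs_b hab, stbw9_dhs_nb]; field_simp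
  by_cases hka' : k = ng a
  · subst hka'; rw [ng_ng, stbw9_dhs_a, stbw9_dhs_na hab]; field_simp
  rw [stbw9_dhs_of_ne hka hkb hka' hkb', stbw9_dhs_of_ne (fun h => hka' (by rw [← h, ng_ng])) (fun h => hkb' (by rw [← h, ng_ng]))
    (fun h => hka (ng_inj.mp h)) (fun h => hkb (ng_inj.mp h)), mul_one]

end SysB

end Cfsg.Agent.Lib.Lead.STB
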