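import Mathlib
import Cfsg.Prelude.Def_GeometricClasses
import Cfsg.Agent.Lib.Helper27.ASC.Defs
import Cfsg.Agent.Lib.helper6.Symp
import Cfsg.Agent.Lib.helper6.SympBasis

/-!
# Project SPX, piece FSADIM : `field_sa_dvd`
-/

set_option autoImplicit false
set_option linter.unusedVariables false
set_option linter.unusedSectionVars false

namespace Cfsg.Agent.Lib.helper6.SPX

open Cfsg Cfsg.Geo Cfsg.Agent.Lib.Helper27.ASC
open scoped MatrixGroups Matrix Kronecker

variable {m : ℕ} {F : Type*} [Field F] [Fintype F]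

/-- a subspace invariant under a field subalgebra of degree `r` has dimension divisible by `r` -/
theorem spxfsadim_dvd {ι : Type} [Fintype ι] [DecidableEq ι] {r : ℕ} (K : Subalgebra F (Matrix ι ι F))
    (hK : IsFieldSubalgebra r K) (W : Submodule F (ι → F)) (hW : ∀ k ∈ K, ∀ w ∈ W, k *ᵥ w ∈ W) :
    r ∣ Module.finrank F W := by
  classical
  rcases isEmpty_or_nonempty ι with hι | hι
  · have : Module.finrank F W = 0 := by
      haveI : Subsingleton (ι → F) := inferInstance
      haveI : Subsingleton W := inferInstance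
      exact Module.finrank_zero_of_subsingleton
    rw [this]
    exact dvd_zero r
  haveI : Nontrivial (Matrix ι ι F) := inferInstance
  haveI : Nontrivial K := ⟨⟨0, 1, fun h => zero_ne_one (congrArg Subtype.val h)⟩⟩
  have hfield : IsField K :=
    { exists_pair_ne := ⟨0, 1, zero_ne_one⟩
      mul_comm := fun x y => Subtype.ext (hK.comm x x.2 y y.2)
      mul_inv_cancel := by
        intro a ha
        obtain ⟨y, hy, hxy⟩ := hK.inv a a.2 (fun h => ha (Subtype.ext h))
        exact ⟨⟨y, hy⟩, Subtype.ext hxy⟩ }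
  letI : Field K := hfield.toField
  let φ : K →+* Module.End F (ι → F) :=
    ((Matrix.toLinAlgEquiv' : Matrix ι ι F ≃ₐ[F] _).toAlgHom.comp K.val).toRingHom
  letI : Module K (ι → F) := Module.compHom (ι → F) φ
  have hsmul : ∀ (k : K) (w : ι → F), k • w = (k : Matrix ι ι F) *ᵥ w := by
    intro k w
    rfl
  let W' : Submodule K (ι → F) :=
    { carrier := W
      add_mem' := fun ha hb => W.add_mem ha hb
      zero_mem' := W.zero_mem
      smul_mem' := by
        intro k w hw
        show k • w ∈ W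
        rw [hsmul]
        exact hW k k.2 w hw }
  haveI : Finite W' := Finite.of_injective (fun x : W' => (x : ι → F)) Subtype.val_injective
  haveI : Module.Finite K W' := Module.Finite.of_finite
  have h1 : Nat.card W' = Nat.card K ^ Module.finrank K W' := Module.natCard_eq_pow_finrank
  have h2 : Nat.card K = Nat.card F ^ r := by
    rw [← hK.finrank_eq]
    exact Module.natCard_eq_pow_finrank
  have h3 : Nat.card W = Nat.card F ^ Module.finrank F W := Module.natCard_eq_pow_finrank
  have h4 : Nat.card W' = Nat.card W := Nat.card_congr (Equiv.subtypeEquivRight (fun x => Iff.rfl))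
  rw [h4, h3, h2, ← pow_mul] at h1
  have hq : 1 < Nat.card F := by
    rw [Nat.card_eq_fintype_card]
    exact Fintype.one_lt_card
  exact ⟨_, Nat.pow_right_injective hq h1⟩

/-- the symplectic form as a bilinear form is non-degenerate -/
theorem spxfsadim_nondeg (m : ℕ) : (Cfsg.Agent.Lib.helper6.SB.sB m F).Nondegenerate := by
  constructor
  · intro x hx
    by_contra hne
    obtain ⟨y, hy⟩ := Cfsg.Agent.Lib.helper6.sympForm_nondeg m x hne
    apply hy
    rw [← Cfsg.Agent.Lib.helper6.SB.sB_apply]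
    exact hx y
  · intro y hy
    by_contra hne
    obtain ⟨x, hx⟩ := Cfsg.Agent.Lib.helper6.sympForm_nondeg m y hne
    apply hx
    rw [Cfsg.Agent.Lib.helper6.sympForm_swap, ← Cfsg.Agent.Lib.helper6.SB.sB_apply, hy x, neg_zero]

/-- evaluation of matrices at a vector, as a linear map -/
def spxfsadimEval (v : Fin m ⊕ Fin m → F) :
    Matrix (Fin m ⊕ Fin m) (Fin m ⊕ Fin m) F →ₗ[F] (Fin m ⊕ Fin m → F) where
  toFun := fun M => M *ᵥ v
  map_add' := fun M N => Matrix.add_mulVec M N v
  map_smul' := fun c M => Matrix.smul_mulVec c M v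

/-- a `K`-invariant Lagrangian subspace -/
theorem spxfsadim_lagrangian {r : ℕ} (K : Subalgebra F (Matrix (Fin m ⊕ Fin m) (Fin m ⊕ Fin m) F))
    (hsa : IsSelfAdjointFor (sympForm m F) K) (halt : ∀ k ∈ K, ∀ v, sympForm m F (k *ᵥ v) v = 0) :
    ∃ W : Submodule F (Fin m ⊕ Fin m → F), (∀ k ∈ K, ∀ w ∈ W, k *ᵥ w ∈ W) ∧ Module.finrank F W = m := by
  classical
  let Pr : Submodule F (Fin m ⊕ Fin m → F) → Prop := fun W =>
    (∀ k ∈ K, ∀ w ∈ W, k *ᵥ w ∈ W) ∧ ∀ u ∈ W, ∀ v ∈ W, sympForm m F u v = 0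
  have hbot : Pr ⊥ := by
    refine ⟨?_, ?_⟩
    · intro k _ w hw
      rw [(Submodule.mem_bot F).mp hw, Matrix.mulVec_zero]
      exact Submodule.zero_mem _
    · intro u hu v _
      rw [(Submodule.mem_bot F).mp hu]
      exact Cfsg.Agent.Lib.helper6.sympForm_zero_left m v
  have hVrank : Module.finrank F (Fin m ⊕ Fin m → F) = 2 * m := by
    rw [Module.finrank_fintype_fun_eq_card]
    simp only [Fintype.card_sum, Fintype.card_fin]
    omega
  obtain ⟨n, ⟨W, hW, hWn⟩, hmax⟩ : ∃ n, (∃ W, Pr W ∧ Module.finrank F W = n) ∧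
      ∀ W', Pr W' → Module.finrank F W' ≤ n := by
    have hbd : ∀ W' : Submodule F (Fin m ⊕ Fin m → F), Module.finrank F W' ≤ 2 * m := by
      intro W'
      rw [← hVrank]
      exact Submodule.finrank_le W'
    refine ⟨Nat.findGreatest (fun n => ∃ W, Pr W ∧ Module.finrank F W = n) (2 * m), ?_, ?_⟩
    · exact Nat.findGreatest_spec (P := fun n => ∃ W, Pr W ∧ Module.finrank F W = n) (Nat.zero_le _)
        ⟨⊥, hbot, finrank_bot F _⟩
    · intro W' hW'
      exact Nat.le_findGreatest (hbd W') ⟨W', hW', rfl⟩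
  refine ⟨W, hW.1, ?_⟩
  -- `orth W ≤ W`
  have horth : Cfsg.Agent.Lib.helper6.SB.orth m W ≤ W := by
    intro v hv
    rw [Cfsg.Agent.Lib.helper6.SB.mem_orth] at hv
    let Kv : Submodule F (Fin m ⊕ Fin m → F) := (Subalgebra.toSubmodule K).map (spxfsadimEval v)
    have hKv : ∀ x, x ∈ Kv ↔ ∃ k ∈ K, k *ᵥ v = x := by
      intro x
      constructor
      · rintro ⟨k, hk, rfl⟩
        exact ⟨k, hk, rfl⟩
      · rintro ⟨k, hk, rfl⟩
        exact ⟨k, hk, rfl⟩
    have hP2 : Pr (W ⊔ Kv) := by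
      refine ⟨?_, ?_⟩
      · intro k hk x hx
        obtain ⟨w, hw, y, hy, rfl⟩ := Submodule.mem_sup.mp hx
        obtain ⟨k', hk', rfl⟩ := (hKv y).mp hy
        rw [Matrix.mulVec_add, Matrix.mulVec_mulVec]
        exact Submodule.add_mem _ (Submodule.mem_sup_left (hW.1 k hk w hw))
          (Submodule.mem_sup_right ((hKv _).mpr ⟨k * k', K.mul_mem hk hk', rfl⟩))
      · intro x hx y hy
        obtain ⟨w, hw, x', hx', rfl⟩ := Submodule.mem_sup.mp hx
        obtain ⟨k₁, hk₁, rfl⟩ := (hKv x').mp hx'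
        obtain ⟨w', hw', y', hy', rfl⟩ := Submodule.mem_sup.mp hy
        obtain ⟨k₂, hk₂, rfl⟩ := (hKv y').mp hy'
        have e1 : sympForm m F w w' = 0 := hW.2 w hw w' hw'
        have e2 : sympForm m F w (k₂ *ᵥ v) = 0 := by
          rw [← hsa k₂ hk₂ w v]
          exact hv _ (hW.1 k₂ hk₂ w hw)
        have e3 : sympForm m F (k₁ *ᵥ v) w' = 0 := by
          rw [Cfsg.Agent.Lib.helper6.sympForm_swap, ← hsa k₁ hk₁ w' v, hv _ (hW.1 k₁ hk₁ w' hw'), neg_zero]
        have e4 : sympForm m F (k₁ *ᵥ v) (k₂ *ᵥ v) = 0 := by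
          rw [hsa k₁ hk₁ v (k₂ *ᵥ v), Matrix.mulVec_mulVec, Cfsg.Agent.Lib.helper6.sympForm_swap,
            halt (k₁ * k₂) (K.mul_mem hk₁ hk₂) v, neg_zero]
        rw [Cfsg.Agent.Lib.helper6.sympForm_add_left, Cfsg.Agent.Lib.helper6.sympForm_add_right,
          Cfsg.Agent.Lib.helper6.sympForm_add_right, e1, e2, e3, e4]
        simp
    have hle : W ≤ W ⊔ Kv := le_sup_left
    have heq : W = W ⊔ Kv := by
      apply Submodule.eq_of_le_of_finrank_le hle
      rw [hWn]
      exact hmax _ hP2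
    rw [heq]
    refine Submodule.mem_sup_right ((hKv v).mpr ⟨1, K.one_mem, Matrix.one_mulVec v⟩)
  have hle : W ≤ Cfsg.Agent.Lib.helper6.SB.orth m W := by
    intro w hw
    rw [Cfsg.Agent.Lib.helper6.SB.mem_orth]
    intro w' hw'
    exact hW.2 w' hw' w hw
  have heq : Cfsg.Agent.Lib.helper6.SB.orth m W = W := le_antisymm horth hle
  have hfr := LinearMap.BilinForm.finrank_orthogonal (spxfsadim_nondeg (F := F) m) W
  have heq' : (Cfsg.Agent.Lib.helper6.SB.sB m F).orthogonal W = W := heq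
  rw [heq', hVrank] at hfr
  have := Submodule.finrank_le W
  rw [hVrank] at this
  omega

/-- FSADIM : a self-adjoint extension field of degree `r` on whose elements the form alternates makes `F^2m` a symplectic space of
dimension `2m / r` over it: `r ∣ m`.  (`W` maximal among the `K`-invariant totally isotropic subspaces; every `K v` is totally
isotropic (`f (k v) (k' v) = f (k' k v) v = 0`) and `W^⊥` is `K`-invariant, so `W^⊥ = W`, `dim W = m`; `W` is a vector space over
the field `K`: `r ∣ dim_F W` (instances as in `Cfsg.Agent.Lib.Helper18.ASCSCHURB`).) -/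
theorem field_sa_dvd {r : ℕ} (K : Subalgebra F (Matrix (Fin m ⊕ Fin m) (Fin m ⊕ Fin m) F)) (hK : IsFieldSubalgebra r K)
    (hsa : IsSelfAdjointFor (sympForm m F) K) (halt : ∀ k ∈ K, ∀ v, sympForm m F (k *ᵥ v) v = 0) : r ∣ m := by
  obtain ⟨W, hW, hWm⟩ := spxfsadim_lagrangian (r := r) K hsa halt
  have := spxfsadim_dvd K hK W hW
  rwa [hWm] at this

end Cfsg.Agent.Lib.helper6.SPX

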