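import Mathlib
import Cfsg.Agent.Lib.Lead.STB.Defs

/-!
# STB B1 (helper6): `xs_zero`, `xs_neg`, `xs_comm_same` — VERBATIM rows of `Lead/STB/Skel1.lean.txt`.
-/

set_option autoImplicit false

namespace Cfsg.Agent.Lib.Lead.STB

open Cfsg.Agent.Lib.helper15.St2 Cfsg.Agent.Lib.helper3.STC Cfsg.Agent.Lib.Lead.STD

universe v w

namespace SysB

variable {K : Type*} [Field K] {ι : Type*} {G : Type*} [Group G] (S : SysB K ι G)

/-- B1 [S]  `adds` (as STD B1 `x_zero`, `x_neg`). -/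
theorem xs_zero (a : ι ⊕ ι) : S.xs a 0 = 1 := by
  have h := S.adds a 0 0
  rw [add_zero] at h
  exact mul_eq_left.1 h

theorem xs_neg (a : ι ⊕ ι) (t : K) : S.xs a (-t) = (S.xs a t)⁻¹ := by
  apply eq_inv_of_mul_eq_one_left
  rw [S.adds, neg_add_cancel, S.xs_zero]

theorem xs_comm_same (a : ι ⊕ ι) (t u : K) : S.xs a t * S.xs a u = S.xs a u * S.xs a t := by
  rw [S.adds, S.adds, add_comm]

end SysB

end Cfsg.Agent.Lib.Lead.STB
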