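import Mathlib
import Cfsg.Agent.Lib.Lead.STB.Defs
import Cfsg.Agent.Lib.Helper24.STCI1
import Cfsg.Agent.Lib.Lead.STDB1
import Cfsg.Agent.Lib.helper6.STDW14
import Cfsg.Agent.Lib.helper6.STBB1

/-!
# STB W5 W6 W7 W8 (helper6): the short Weyl element `ws a u` on the other root elements — VERBATIM rows of `Lead/STB/Skel1.lean.txt`.

Self-contained on `Lead.STB.Defs`, `Lead.STDB1`, `helper6.STDW14`, `helper6.STBB1`: the conjugation forms of blocks B4, B5, B6 and `ws_swap` of B3 that are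
needed here are proved under own names `stbw5_*` (those rows belong to other seats).
-/

set_option autoImplicit false

namespace Cfsg.Agent.Lib.Lead.STB

open Cfsg.Agent.Lib.helper15.St2 Cfsg.Agent.Lib.helper3.STC Cfsg.Agent.Lib.Lead.STD

universe v w

section aux

variable {G : Type*} [Group G]

theorem stbw5_rev3 {A B C : G} (hAB : A * B = B * A) (hAC : A * C = C * A) (hBC : B * C = C * B) :
    A * B * C = C * B * A := by
  calc A * B * C = A * (B * C) := mul_assoc _ _ _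
    _ = A * (C * B) := by rw [hBC]
    _ = (A * C) * B := (mul_assoc _ _ _).symm
    _ = (C * A) * B := by rw [hAC]
    _ = C * (A * B) := mul_assoc _ _ _
    _ = C * (B * A) := by rw [hAB]
    _ = C * B * A := (mul_assoc _ _ _).symm

theorem stbw5_cj_of_comm {g a : G} (h : g * a = a * g) : cj g a = a := by
  unfold cj
  rw [h, mul_assoc, mul_inv_cancel, mul_one]

end aux

namespace SysB

variable {K : Type*} [Field K] {ι : Type*} {G : Type*} [Group G] (S : SysB K ι G)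

/-- own copy of B4 `cj_xs_x_comm` -/
theorem stbw5_cj_xs_x_comm {a c d : ι ⊕ ι} (hda : d ≠ a) (hca : c ≠ ng a) (t u : K) :
    cj (S.xs a t) (S.x c d u) = S.x c d u := by
  by_cases hcd : c = d
  · subst hcd; rw [S.diag, cj_one]
  by_cases hcd' : c = ng d
  · subst hcd'; rw [S.toSysD.x_opp', cj_one]
  exact stbw5_cj_of_comm (S.comm_ls a c d hcd hcd' hda hca t u)

/-- `xs a` and `x c d` commute unless `d = a` or `c = ng a` -/
theorem stbw5_comm {a c d : ι ⊕ ι} (hda : d ≠ a) (hca : c ≠ ng a) (t u : K) :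
    S.xs a t * S.x c d u = S.x c d u * S.xs a t := by
  by_cases hcd : c = d
  · subst hcd; rw [S.diag, mul_one, one_mul]
  by_cases hcd' : c = ng d
  · subst hcd'; rw [S.toSysD.x_opp', mul_one, one_mul]
  exact S.comm_ls a c d hcd hcd' hda hca t u

/-- own copy of B6 `cj_xs_xs` -/
theorem stbw5_cj_xs_xs {a b : ι ⊕ ι} (hab : a ≠ b) (hab' : a ≠ ng b) (t u : K) :
    cj (S.xs a t) (S.xs b u) = S.x a (ng b) (-(2 * t * u)) * S.xs b u := by
  rw [← S.ss a b hab hab' t u]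
  unfold cj
  group

/-- `x a b` and `x a (ng b)` commute -/
theorem stbw5_comm_long {a b : ι ⊕ ι} (hab : a ≠ b) (hab' : a ≠ ng b) (t v : K) :
    S.x a b t * S.x a (ng b) v = S.x a (ng b) v * S.x a b t := by
  rw [S.toSysD.stdw14_sym_r hab hab' v]
  exact S.sso a b hab hab' t (-v)

/-- own copy of B5 `cj_xs_x` -/
theorem stbw5_cj_xs_x {a b : ι ⊕ ι} (hab : a ≠ b) (hab' : a ≠ ng b) (t u : K) :
    cj (S.xs b u) (S.x a b t) = S.x a b t * S.xs a (-(t * u)) * S.x a (ng b) (-(t * u ^ 2)) := by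
  have h := S.ls a b hab hab' t u
  have h1 : cj (S.xs b u) (S.x a b t) = (S.xs a (t * u) * S.x a (ng b) (t * u ^ 2))⁻¹ * S.x a b t := by
    rw [← h]; unfold cj; group
  rw [h1, mul_inv_rev, ← S.xs_neg, ← S.toSysD.x_neg]
  have hna : ng b ≠ a := fun e => hab' e.symm
  have hab'' : a ≠ ng (ng b) := by rw [ng_ng]; exact hab
  exact stbw5_rev3 (S.stbw5_comm hna (ne_ng a) _ _).symm ((S.stbw5_comm_long hab hab' _ _).symm)
    (S.stbw5_comm hab.symm (ne_ng a) _ _)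

/-- own copy of B5 `cj_xs_x'` -/
theorem stbw5_cj_xs_x' {a b : ι ⊕ ι} (hab : a ≠ b) (hab' : a ≠ ng b) (t u : K) :
    cj (S.xs (ng a) u) (S.x a b t) = S.x a b t * S.xs (ng b) (t * u) * S.x (ng b) a (t * u ^ 2) := by
  have hnn : ng b ≠ ng a := fun e => hab (ng_inj.mp e).symm
  have hnn' : ng b ≠ ng (ng a) := by rw [ng_ng]; exact fun e => hab' e.symm
  have h := S.stbw5_cj_xs_x hnn hnn' (-t) u
  rw [ng_ng] at h
  have e1 : -(-t * u) = t * u := by ring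
  have e2 : -(-t * u ^ 2) = t * u ^ 2 := by ring
  rw [S.sym a b hab hab' t, h, e1, e2]

/-- own copy of B3 `ws_swap` -/
theorem stbw5_ws_swap (a : ι ⊕ ι) (t : K) (ht : t ≠ 0) : S.ws (ng a) t = S.ws a t⁻¹ := by
  have h := (S.sts a).W_swap false (-t) (neg_ne_zero.2 ht)
  have e1 : (S.sts a).W false (-t) = S.ws (ng a) t := by
    show S.xs (ng a) (-(-t)) * S.xs a (-(-t)⁻¹) * S.xs (ng a) (-(-t)) = S.xs (ng a) t * S.xs (ng (ng a)) t⁻¹ * S.xs (ng a) t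
    rw [neg_neg, ng_ng, inv_neg, neg_neg]
  have e2 : (S.sts a).W (!false) (-(-t)⁻¹) = S.ws a t⁻¹ := by
    show S.xs a (-(-t)⁻¹) * S.xs (ng a) (-(-(-(-t)⁻¹)⁻¹)) * S.xs a (-(-t)⁻¹) = S.xs a t⁻¹ * S.xs (ng a) (t⁻¹)⁻¹ * S.xs a t⁻¹
    rw [inv_neg, neg_neg, neg_neg]
  rw [← e1, h, e2]

/-- W5 [M]  the short Weyl element on another short root element: `unfold ws`; `cj (xs a u) (xs c t) = x a (ng c) (-2ut) * xs c t` (B6); `cj (xs (ng a) u⁻¹)` of `x a (ng c) s = x c (ng a) (-s)` (`S.sym`)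
is given by B5 `cj_xs_x` for `(c, ng a)`, of `xs c t` by B6; then `cj (xs a u)` again.  Result `xs c (-t)`. -/
theorem cj_ws_xs_disj {a c : ι ⊕ ι} (hca : c ≠ a) (hca' : c ≠ ng a) (u t : K) (hu : u ≠ 0) :
    cj (S.ws a u) (S.xs c t) = S.xs c (-t) := by
  have hac : a ≠ c := hca.symm
  have hac' : a ≠ ng c := fun e => hca' (by rw [e, ng_ng])
  have hnac : ng a ≠ c := hca'.symm
  have hnac' : ng a ≠ ng c := fun e => hca (ng_inj.mp e).symm
  have hacc : a ≠ ng (ng c) := by rw [ng_ng]; exact hac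
  -- step 1
  have s1 : cj (S.xs a u) (S.xs c t) = S.x a (ng c) (-(2 * u * t)) * S.xs c t := S.stbw5_cj_xs_xs hac hac' u t
  -- step 2
  have s2a : cj (S.xs (ng a) u⁻¹) (S.x a (ng c) (-(2 * u * t))) =
      S.x a (ng c) (-(2 * u * t)) * S.xs c (-(2 * t)) * S.x c a (-(2 * t * u⁻¹)) := by
    have h := S.stbw5_cj_xs_x' hac' hacc (-(2 * u * t)) u⁻¹
    rw [ng_ng] at h
    have e1 : -(2 * u * t) * u⁻¹ = -(2 * t) := by field_simp
    have e2 : -(2 * u * t) * u⁻¹ ^ 2 = -(2 * t * u⁻¹) := by field_simp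
    rw [h, e1, e2]
  have s2b : cj (S.xs (ng a) u⁻¹) (S.xs c t) = S.x c a (2 * t * u⁻¹) * S.xs c t := by
    have e1 : -(-(2 * u⁻¹ * t)) = 2 * t * u⁻¹ := by ring
    rw [S.stbw5_cj_xs_xs hnac hnac' u⁻¹ t, S.toSysD.stdw14_sym_b hac hac', e1]
  have s2 : cj (S.xs (ng a) u⁻¹) (cj (S.xs a u) (S.xs c t)) = S.x a (ng c) (-(2 * u * t)) * S.xs c (-t) := by
    rw [s1, cj_mul, s2a, s2b]
    have e : S.x c a (-(2 * t * u⁻¹)) * (S.x c a (2 * t * u⁻¹) * S.xs c t) = S.xs c t := by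
      rw [← mul_assoc, S.toSysD.x_neg, inv_mul_cancel, one_mul]
    have e' : -(2 * t) + t = -t := by ring
    rw [mul_assoc, e, mul_assoc, S.adds, e']
  -- step 3
  have s3 : cj (S.xs a u) (S.x a (ng c) (-(2 * u * t)) * S.xs c (-t)) = S.xs c (-t) := by
    rw [cj_mul, S.stbw5_cj_xs_x_comm (fun e => hac' e.symm) (ne_ng a), S.stbw5_cj_xs_xs hac hac' u (-t), ← mul_assoc]
    have e : S.x a (ng c) (-(2 * u * -t)) = (S.x a (ng c) (-(2 * u * t)))⁻¹ := by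
      rw [← S.toSysD.x_neg]; congr 1; ring
    rw [e, mul_inv_cancel, one_mul]
  unfold ws
  rw [← cj_cj, ← cj_cj, s2, s3]

/-- W6 [S]  the short Weyl element on a long root element with both indices outside `{a, ng a}` (B4). -/
theorem cj_ws_x_disj {a k l : ι ⊕ ι} (hka : k ≠ a) (hka' : k ≠ ng a) (hla : l ≠ a) (hla' : l ≠ ng a) (u t : K) :
    cj (S.ws a u) (S.x k l t) = S.x k l t := by
  unfold ws
  rw [← cj_cj, ← cj_cj, S.stbw5_cj_xs_x_comm hla hka', S.stbw5_cj_xs_x_comm hla' (by rw [ng_ng]; exact hka),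
    S.stbw5_cj_xs_x_comm hla hka']

/-- W7 [M]  the short Weyl element on `x a l` (`l ∉ {a, ng a}`): as W5 with B5, B6. -/
theorem cj_ws_x_al {a l : ι ⊕ ι} (hla : l ≠ a) (hla' : l ≠ ng a) (u t : K) (hu : u ≠ 0) :
    cj (S.ws a u) (S.x a l t) = S.x (ng a) l (-(u⁻¹ ^ 2 * t)) := by
  have hal : a ≠ l := hla.symm
  have hal' : a ≠ ng l := fun e => hla' (by rw [e, ng_ng])
  have hnla : ng l ≠ a := fun e => hal' e.symm
  have hnla' : ng l ≠ ng a := fun e => hla (ng_inj.mp e)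
  have hanl : a ≠ ng (ng l) := by rw [ng_ng]; exact hal
  -- step 1
  have s1 : cj (S.xs a u) (S.x a l t) = S.x a l t := S.stbw5_cj_xs_x_comm hla (ne_ng a) u t
  -- step 2
  have s2 : cj (S.xs (ng a) u⁻¹) (S.x a l t) = S.x a l t * S.xs (ng l) (t * u⁻¹) * S.x (ng l) a (t * u⁻¹ ^ 2) :=
    S.stbw5_cj_xs_x' hal hal' t u⁻¹
  -- step 3
  have s3a : cj (S.xs a u) (S.xs (ng l) (t * u⁻¹)) = S.x a l (-(2 * t)) * S.xs (ng l) (t * u⁻¹) := by
    have e1 : -(2 * u * (t * u⁻¹)) = -(2 * t) := by field_simp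
    rw [S.stbw5_cj_xs_xs hal' hanl u (t * u⁻¹), ng_ng, e1]
  have s3b : cj (S.xs a u) (S.x (ng l) a (t * u⁻¹ ^ 2)) =
      S.x (ng l) a (t * u⁻¹ ^ 2) * S.xs (ng l) (-(t * u⁻¹)) * S.x a l t := by
    have e1 : -(t * u⁻¹ ^ 2 * u) = -(t * u⁻¹) := by field_simp
    have e2 : -(-(t * u⁻¹ ^ 2 * u ^ 2)) = t := by field_simp
    rw [S.stbw5_cj_xs_x hnla hnla' (t * u⁻¹ ^ 2) u, S.toSysD.stdw14_sym_b hla hla', e1, e2]
  have hc1 : S.xs (ng l) (t * u⁻¹) * S.x (ng l) a (t * u⁻¹ ^ 2) = S.x (ng l) a (t * u⁻¹ ^ 2) * S.xs (ng l) (t * u⁻¹) :=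
    S.stbw5_comm hal' (ne_ng (ng l)) _ _
  have hc2 : S.x (ng l) a (t * u⁻¹ ^ 2) * S.x a l (-t) = S.x a l (-t) * S.x (ng l) a (t * u⁻¹ ^ 2) := by
    have h := S.sso (ng l) a hnla hnla' (t * u⁻¹ ^ 2) (-t)
    rw [ng_ng] at h
    exact h
  have s3 : cj (S.xs a u) (S.x a l t * S.xs (ng l) (t * u⁻¹) * S.x (ng l) a (t * u⁻¹ ^ 2)) = S.x (ng l) a (t * u⁻¹ ^ 2) := by
    rw [cj_mul, cj_mul, s1, s3a, s3b]
    -- x a l t * (x a l (-2t) * xs (ng l) r) * (x (ng l) a v * xs (ng l) (-r) * x a l t)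
    have e1 : S.x a l t * (S.x a l (-(2 * t)) * S.xs (ng l) (t * u⁻¹)) = S.x a l (-t) * S.xs (ng l) (t * u⁻¹) := by
      have e' : t + -(2 * t) = -t := by ring
      rw [← mul_assoc, S.add a l hal hal', e']
    rw [e1]
    have e2 : S.x a l (-t) * S.xs (ng l) (t * u⁻¹) * (S.x (ng l) a (t * u⁻¹ ^ 2) * S.xs (ng l) (-(t * u⁻¹)) * S.x a l t)
        = S.x a l (-t) * (S.xs (ng l) (t * u⁻¹) * S.x (ng l) a (t * u⁻¹ ^ 2)) * S.xs (ng l) (-(t * u⁻¹)) * S.x a l t := by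
      group
    rw [e2, hc1]
    have e3 : S.x a l (-t) * (S.x (ng l) a (t * u⁻¹ ^ 2) * S.xs (ng l) (t * u⁻¹)) * S.xs (ng l) (-(t * u⁻¹)) * S.x a l t
        = S.x a l (-t) * S.x (ng l) a (t * u⁻¹ ^ 2) * (S.xs (ng l) (t * u⁻¹) * S.xs (ng l) (-(t * u⁻¹))) * S.x a l t := by
      group
    rw [e3, S.adds, add_neg_cancel, S.xs_zero, mul_one, ← hc2, mul_assoc, S.add a l hal hal', neg_add_cancel, S.toSysD.x_zero, mul_one]
  unfold ws
  rw [← cj_cj, ← cj_cj, s1, s2, s3, S.toSysD.stdw14_sym_l hal hal']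
  congr 1; ring

/-- W8 [S-M]  from W7: `ws (ng a) u = ws a u⁻¹` (B3), inverses, and `S.sym`. -/
theorem cj_ws_x_nal {a l : ι ⊕ ι} (hla : l ≠ a) (hla' : l ≠ ng a) (u t : K) (hu : u ≠ 0) :
    cj (S.ws a u) (S.x (ng a) l t) = S.x a l (-(u ^ 2 * t)) := by
  have h := S.cj_ws_x_al (a := ng a) hla' (by rw [ng_ng]; exact hla) u⁻¹ t (inv_ne_zero hu)
  rw [S.stbw5_ws_swap a u⁻¹ (inv_ne_zero hu), inv_inv, ng_ng] at h
  exact h

theorem cj_ws_x_ka {a k : ι ⊕ ι} (hka : k ≠ a) (hka' : k ≠ ng a) (u t : K) (hu : u ≠ 0) :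
    cj (S.ws a u) (S.x k a t) = S.x k (ng a) (-(u ^ 2 * t)) := by
  have hak : a ≠ k := hka.symm
  have hak' : a ≠ ng k := fun e => hka' (by rw [e, ng_ng])
  have hnka : ng k ≠ a := fun e => hak' e.symm
  have hnka' : ng k ≠ ng a := fun e => hka (ng_inj.mp e)
  rw [S.sym k a hka hka' t, S.cj_ws_x_nal hnka hnka' u (-t) hu, S.toSysD.stdw14_sym_r hak hak']
  congr 1; ring

theorem cj_ws_x_kna {a k : ι ⊕ ι} (hka : k ≠ a) (hka' : k ≠ ng a) (u t : K) (hu : u ≠ 0) :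
    cj (S.ws a u) (S.x k (ng a) t) = S.x k a (-(u⁻¹ ^ 2 * t)) := by
  have hak : a ≠ k := hka.symm
  have hak' : a ≠ ng k := fun e => hka' (by rw [e, ng_ng])
  have hnka : ng k ≠ a := fun e => hak' e.symm
  have hnka' : ng k ≠ ng a := fun e => hka (ng_inj.mp e)
  rw [S.toSysD.stdw14_sym_r hka hka' t, S.cj_ws_x_al hnka hnka' u (-t) hu, S.toSysD.stdw14_sym_b hak hak']
  congr 1; ring

end SysB

end Cfsg.Agent.Lib.Lead.STB
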