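import Mathlib
import Cfsg.Agent.Lib.Lead.STB.Defs
import Cfsg.Agent.Lib.Helper24.STCI1
import Cfsg.Agent.Lib.Lead.STDB1
import Cfsg.Agent.Lib.helper6.STDW14
import Cfsg.Agent.Lib.helper6.STBB1
import Cfsg.Agent.Lib.helper6.STBW5
import Cfsg.Agent.Lib.helper6.STBW9

/-!
# STB W13 (helper6): `isMon_ws`, the short Weyl elements are monomial — VERBATIM row of `Lead/STB/Skel1.lean.txt`.

Self-contained on `helper6.STBW5` (W5–W8) and `helper6.STBW9` (W9); the two statements of W4 are proved under own names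
`stbw13_cj_ws_xs_self`, `stbw13_cj_ws_xs_neg` (that row belongs to another seat).
-/

set_option autoImplicit false

namespace Cfsg.Agent.Lib.Lead.STB

open Cfsg.Agent.Lib.helper15.St2 Cfsg.Agent.Lib.helper3.STC Cfsg.Agent.Lib.Lead.STD

universe v w

namespace SysB

variable {K : Type*} [Field K] {ι : Type*} {G : Type*} [Group G] (S : SysB K ι G)

/-- own copy of W4 `cj_ws_xs_self` -/
theorem stbw13_cj_ws_xs_self (a : ι ⊕ ι) (u t : K) (hu : u ≠ 0) :
    cj (S.ws a u) (S.xs a t) = S.xs (ng a) (u⁻¹ ^ 2 * t) :=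
  S.rels a u t hu

/-- own copy of W4 `cj_ws_xs_neg` -/
theorem stbw13_cj_ws_xs_neg (a : ι ⊕ ι) (u t : K) (hu : u ≠ 0) :
    cj (S.ws a u) (S.xs (ng a) t) = S.xs a (u ^ 2 * t) := by
  have h := S.stbw13_cj_ws_xs_self (ng a) u⁻¹ t (inv_ne_zero hu)
  rw [S.stbw5_ws_swap a u⁻¹ (inv_ne_zero hu), inv_inv, ng_ng] at h
  exact h

variable [DecidableEq ι]

/-- W13 [M]  **the short Weyl elements are monomial**, `d0 = -1`.  `SysD` component: for `k ≠ l`: if `l = ng k` both sides are `1` (`S.opp`, `swb_ng`); `k = a`: W7; `k = ng a`: W8; `l = a`, `l = ng a`: W8; else W6.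
Short component: W4 (`k = a`, `k = ng a`), W5 (else).  Compare with `dwb a u k * (dwb a u l)⁻¹ * t` resp. `dwb a u k * (-1) * t` (`field_simp`). -/
theorem isMon_ws (a : ι ⊕ ι) (u : K) (hu : u ≠ 0) :
    S.IsMon (S.ws a u) (swb a) (dwb a u) (-1) := by
  refine ⟨⟨fun k => stbw9_dwb_ne_zero a u hu k, fun k l hkl t => ?_⟩, fun k => swb_ng a k, fun k => dwb_mul_ng a u hu k,
    by ring, fun k t => ?_⟩
  · -- long root elements
    by_cases hlk : l = ng k
    · subst hlk
      rw [swb_ng, S.opp, S.opp, cj_one]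
    by_cases hka : k = a
    · subst hka
      have hlk' : l ≠ k := fun e => hkl e.symm
      rw [swb_self, swb_of_ne hlk' hlk, stbw9_dwb_a, stbw9_dwb_of_ne hlk' hlk, S.cj_ws_x_al hlk' hlk u t hu]
      congr 1; ring
    by_cases hka' : k = ng a
    · subst hka'
      have hla : l ≠ a := by rw [ng_ng] at hlk; exact hlk
      have hla' : l ≠ ng a := fun e => hkl e.symm
      rw [swb_ng_self, swb_of_ne hla hla', stbw9_dwb_na, stbw9_dwb_of_ne hla hla', S.cj_ws_x_nal hla hla' u t hu]
      congr 1; ring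
    by_cases hla : l = a
    · subst hla
      rw [swb_self, swb_of_ne hka hka', stbw9_dwb_a, stbw9_dwb_of_ne hka hka', S.cj_ws_x_ka hka hka' u t hu]
      congr 1; field_simp
    by_cases hla' : l = ng a
    · subst hla'
      rw [swb_ng_self, swb_of_ne hka hka', stbw9_dwb_na, stbw9_dwb_of_ne hka hka', S.cj_ws_x_kna hka hka' u t hu]
      congr 1; field_simp
    rw [swb_of_ne hka hka', swb_of_ne hla hla', stbw9_dwb_of_ne hka hka', stbw9_dwb_of_ne hla hla',
      S.cj_ws_x_disj hka hka' hla hla' u t]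
    congr 1; ring
  · -- short root elements
    by_cases hka : k = a
    · subst hka
      rw [swb_self, stbw9_dwb_a, S.stbw13_cj_ws_xs_self k u t hu]
      congr 1; ring
    by_cases hka' : k = ng a
    · subst hka'
      rw [swb_ng_self, stbw9_dwb_na, S.stbw13_cj_ws_xs_neg a u t hu]
      congr 1; ring
    rw [swb_of_ne hka hka', stbw9_dwb_of_ne hka hka', S.cj_ws_xs_disj hka hka' u t hu]
    congr 1; ring

end SysB

end Cfsg.Agent.Lib.Lead.STB
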