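import Cfsg.Agent.Lib.Helper10.SZC.Defs
import Cfsg.Agent.Lib.helper2.CharNat
import Cfsg.Agent.Lib.helper2.CharInd
import Cfsg.Agent.Lib.helper7.Induction
import Cfsg.Agent.Lib.Helper25.CharBasic
import Cfsg.Agent.S0181

/-!
# SZC row P4 (`cusp_vanish_K`): a cuspidal irreducible character vanishes on `K ∖ 1`
-/

set_option autoImplicit false
open scoped ComplexConjugate

namespace Cfsg.Agent.Lib.Helper10.SZC

open Cfsg.Agent.Lib.Helper25 Cfsg.Agent.Lib.helper2 Cfsg.Agent.Lib.helper7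

section
variable {G : Type*} [Group G] [Fintype G]

/-- a class function `χ` that is cuspidal w.r.t. `Q` sums to zero over `Q` -/
theorem szcP4_sum_Q (Q : Subgroup G) [Fintype ↥Q] (χ : G → ℂ) (hcl : Cfsg.IsClassFunction G χ)
    (hχ : Cusp Q χ) : ∑ x : ↥Q, χ (x : G) = 0 := by
  classical
  unfold Cusp at hχ
  rw [Cfsg.Agent.Lib.helper2.classInner_conj_symm, h7_frobenius_reciprocity Q _ χ hcl] at hχ
  have h0 : Cfsg.classInner (fun _ : ↥Q => (1 : ℂ)) (fun h : ↥Q => χ h) = 0 := by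
    have := congrArg conj hχ
    rwa [Complex.conj_conj, map_zero] at this
  unfold Cfsg.classInner at h0
  have hne : ((Nat.card ↥Q : ℂ))⁻¹ ≠ 0 := by
    apply inv_ne_zero
    exact_mod_cast Nat.card_pos.ne'
  have h1 := (mul_eq_zero.mp h0).resolve_left hne
  simp only [one_mul] at h1
  have h2 := congrArg conj h1
  rw [map_sum, map_zero] at h2
  simpa using h2

/-- the sum of a character of `H` over a subgroup `N` is `|N|` times a natural number -/
theorem szcP4_sum_nat {H : Type*} [Group H] [Fintype H] (N : Subgroup H) [Fintype ↥N] (θ : H → ℂ)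
    (hθ : Cfsg.IsCharacter H θ) :
    ∃ n : ℕ, ∑ x : ↥N, θ (x : H) = (Nat.card ↥N : ℂ) * (n : ℂ) := by
  classical
  have h1 : Cfsg.IsCharacter ↥N (fun x : ↥N => θ x) := isCharacter_restrict hθ N
  have h2 : Cfsg.IsCharacter ↥N (fun _ : ↥N => (1 : ℂ)) :=
    isCharacter_of_irr (trivIrr ↥N)
  obtain ⟨n, hn⟩ := classInner_character_nat h1 h2
  refine ⟨n, ?_⟩
  unfold Cfsg.classInner at hn
  have hne : (Nat.card ↥N : ℂ) ≠ 0 := by exact_mod_cast Nat.card_pos.ne'
  simp only [map_one, mul_one] at hn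
  rw [← hn, ← mul_assoc, mul_inv_cancel₀ hne, one_mul]

variable {q r : ℕ}

/-- P4 -/
theorem cusp_vanish_K (D : SzcData G q r) (χ : Cfsg.IrrCharacter G)
    (hχ : Cusp D.Q (χ : G → ℂ)) (k : G) (hk : k ∈ D.K) (hk1 : k ≠ 1) : (χ : G → ℂ) k = 0 := by
  classical
  have : Fintype (Cfsg.IrrCharacter ↥D.H) := Fintype.ofFinite _
  have hcl : Cfsg.IsClassFunction G (χ : G → ℂ) := fun g h => irr_conj_invariant χ g h
  have hsumQ := szcP4_sum_Q D.Q (χ : G → ℂ) hcl hχ
  -- restriction to `H`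
  have hψ : Cfsg.IsCharacter ↥D.H (fun h : ↥D.H => (χ : G → ℂ) h) :=
    isCharacter_restrict (isCharacter_of_irr χ) D.H
  obtain ⟨m, -, hexp⟩ := isCharacter_expansion hψ
  set N : Subgroup ↥D.H := D.Q.subgroupOf D.H with hNdef
  have hN : N.Normal := by
    constructor
    intro n hn g
    rw [hNdef, Subgroup.mem_subgroupOf] at hn ⊢
    exact D.Q_norm g g.2 n hn
  -- sums over `N`
  have hsn : ∀ θ : Cfsg.IrrCharacter ↥D.H, ∃ n : ℕ,
      ∑ x : ↥N, (θ : ↥D.H → ℂ) (x : ↥D.H) = (Nat.card ↥N : ℂ) * (n : ℂ) :=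
    fun θ => szcP4_sum_nat N _ (isCharacter_of_irr θ)
  choose n hn using hsn
  have hsumN : ∑ x : ↥N, (χ : G → ℂ) ((x : ↥D.H) : G) = 0 := by
    rw [← hsumQ]
    exact Fintype.sum_equiv (Subgroup.subgroupOfEquivOfLe D.Q_le).toEquiv _ _ (fun x => rfl)
  have hzero : ∑ θ : Cfsg.IrrCharacter ↥D.H, m θ * n θ = 0 := by
    have e1 : ∑ x : ↥N, (χ : G → ℂ) ((x : ↥D.H) : G) =
        (Nat.card ↥N : ℂ) * ((∑ θ : Cfsg.IrrCharacter ↥D.H, m θ * n θ : ℕ) : ℂ) := by
      have e2 : ∀ x : ↥N, (χ : G → ℂ) ((x : ↥D.H) : G) =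
          ∑ θ : Cfsg.IrrCharacter ↥D.H, (m θ : ℂ) * (θ : ↥D.H → ℂ) (x : ↥D.H) := by
        intro x
        have := congrFun hexp (x : ↥D.H)
        simp only [Finset.sum_apply, Pi.smul_apply, smul_eq_mul] at this
        exact this
      rw [Finset.sum_congr rfl (fun x _ => e2 x), Finset.sum_comm]
      simp only [← Finset.mul_sum, hn]
      push_cast
      rw [Finset.mul_sum]
      refine Finset.sum_congr rfl fun θ _ => ?_
      ring
    rw [hsumN] at e1
    have hne : (Nat.card ↥N : ℂ) ≠ 0 := by exact_mod_cast Nat.card_pos.ne'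
    have := (mul_eq_zero.mp e1.symm).resolve_left hne
    exact_mod_cast this
  have hmn : ∀ θ : Cfsg.IrrCharacter ↥D.H, m θ * n θ = 0 := by
    intro θ
    exact (Finset.sum_eq_zero_iff.mp hzero) θ (Finset.mem_univ θ)
  -- the element `k` of `H`
  have hkH : k ∈ D.H := D.K_le hk
  have hfree : ∀ h ∈ N, h * (⟨k, hkH⟩ : ↥D.H) = ⟨k, hkH⟩ * h → h = 1 := by
    intro h hh hc
    rw [hNdef, Subgroup.mem_subgroupOf] at hh
    have hc' : (h : G) * k = k * (h : G) := congrArg Subtype.val hc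
    have := D.K_free k hk hk1 (h : G) hh hc'.symm
    exact Subtype.ext this
  -- each constituent vanishes at `k`
  have hvan : ∀ θ : Cfsg.IrrCharacter ↥D.H, m θ ≠ 0 → (θ : ↥D.H → ℂ) ⟨k, hkH⟩ = 0 := by
    intro θ hmθ
    have hnθ : n θ = 0 := by
      rcases Nat.mul_eq_zero.mp (hmn θ) with h | h
      · exact absurd h hmθ
      · exact h
    obtain ⟨d, ρ, hρ, hρθ⟩ := θ.2
    have := hρ
    have hker : ∃ h ∈ N, ρ h ≠ LinearMap.id := by
      by_contra hno
      push Not at hno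
      have hconst : ∀ x : ↥N, (θ : ↥D.H → ℂ) (x : ↥D.H) = (θ : ↥D.H → ℂ) 1 := by
        intro x
        rw [← hρθ]
        unfold Representation.character
        rw [hno x x.2, map_one]
        rfl
      have hs := hn θ
      rw [hnθ, Nat.cast_zero, mul_zero, Finset.sum_congr rfl (fun x _ => hconst x),
        Finset.sum_const, Finset.card_univ, nsmul_eq_mul] at hs
      have h1 : (θ : ↥D.H → ℂ) 1 ≠ 0 := irr_one_ne_zero θ
      have h2 : ((Fintype.card ↥N : ℕ) : ℂ) ≠ 0 := by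
        exact_mod_cast Fintype.card_pos.ne'
      exact (mul_ne_zero h2 h1) hs
    have := Cfsg.Agent.S0181.result ρ N hker ⟨k, hkH⟩ hfree
    rw [← hρθ]
    exact this
  have hk' := congrFun hexp ⟨k, hkH⟩
  simp only [Finset.sum_apply, Pi.smul_apply, smul_eq_mul] at hk'
  rw [hk']
  apply Finset.sum_eq_zero
  intro θ _
  by_cases hmθ : m θ = 0
  · rw [hmθ, Nat.cast_zero, zero_mul]
  · rw [hvan θ hmθ, mul_zero]

end

end Cfsg.Agent.Lib.Helper10.SZC
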