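import Mathlib
import Cfsg.Prelude.Def_ChevStructure
import Cfsg.Prelude.Def_LieTwisted
import Cfsg.Agent.Lib.helper8.TD4.Defs
import Cfsg.Agent.Lib.helper8.ChevW0

/-!
# TD4 row R2 (helper6): `weyl_fix`, verbatim from helper8's TD4 skeleton.

A Weyl word (as a permutation `h8sW chevD4 w` of the root indices) fixing the four roots `18 13 12 19`
(a basis of the root lattice of `D₄`) fixes every root.  Proof: the Cartan vector
`r ↦ (cartan j r)_{j < 4}` is injective on the roots, every simple reflection acts on it by the linear map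
`v ↦ v - v_i • cv (simple i)`, so words preserve integral linear relations among Cartan vectors, and every
Cartan vector is an integral combination of those of `18 13 12 19`.
-/

set_option autoImplicit false

namespace Cfsg.Agent.Lib.helper8.TD4

open Cfsg.Lie Cfsg.Lie.ChevalleyDatum Cfsg.Agent.Lib.helper8 Matrix

universe u v

/-- one simple reflection acts linearly on the Cartan vectors -/
theorem td4r2_step : ∀ i < 4, ∀ s < 24, ∀ j : Fin 4,
    chevD4.cartan j.val (chevD4.reflectRoot i s) =
      chevD4.cartan j.val s - chevD4.cartan i s * chevD4.cartan j.val (chevD4.simple i) := by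
  decide +kernel

theorem td4r2_refl_lt : ∀ i < 4, ∀ s < 24, chevD4.reflectRoot i s < 24 := by
  decide +kernel

theorem td4r2_sW_lt (w : List ℕ) (hw : ∀ i ∈ w, i < 4) (s : ℕ) (hs : s < 24) :
    h8sW chevD4 w s < 24 := by
  induction w with
  | nil => exact hs
  | cons i w ih =>
    rw [show h8sW chevD4 (i :: w) s = chevD4.reflectRoot i (h8sW chevD4 w s) from rfl]
    exact td4r2_refl_lt i (hw i List.mem_cons_self) _
      (ih (fun j hj => hw j (List.mem_cons_of_mem _ hj)))

/-- Weyl words preserve integral linear relations between Cartan vectors of roots -/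
theorem td4r2_lin (w : List ℕ) (hw : ∀ i ∈ w, i < 4) (a b c d : ℤ) (r s1 s2 s3 s4 : ℕ)
    (hr : r < 24) (h1 : s1 < 24) (h2 : s2 < 24) (h3 : s3 < 24) (h4 : s4 < 24)
    (h : ∀ j : Fin 4, chevD4.cartan j.val r = a * chevD4.cartan j.val s1 + b * chevD4.cartan j.val s2 +
      c * chevD4.cartan j.val s3 + d * chevD4.cartan j.val s4) :
    ∀ j : Fin 4, chevD4.cartan j.val (h8sW chevD4 w r) =
      a * chevD4.cartan j.val (h8sW chevD4 w s1) + b * chevD4.cartan j.val (h8sW chevD4 w s2) +
      c * chevD4.cartan j.val (h8sW chevD4 w s3) + d * chevD4.cartan j.val (h8sW chevD4 w s4) := by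
  induction w with
  | nil => exact h
  | cons i w ih =>
    have hw' : ∀ k ∈ w, k < 4 := fun k hk => hw k (List.mem_cons_of_mem _ hk)
    have hi : i < 4 := hw i List.mem_cons_self
    have IH := ih hw'
    intro j
    have e : ∀ x, h8sW chevD4 (i :: w) x = chevD4.reflectRoot i (h8sW chevD4 w x) := fun _ => rfl
    rw [e, e, e, e, e, td4r2_step i hi _ (td4r2_sW_lt w hw' r hr) j,
      td4r2_step i hi _ (td4r2_sW_lt w hw' s1 h1) j, td4r2_step i hi _ (td4r2_sW_lt w hw' s2 h2) j,
      td4r2_step i hi _ (td4r2_sW_lt w hw' s3 h3) j, td4r2_step i hi _ (td4r2_sW_lt w hw' s4 h4) j]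
    have hj := IH j
    have hI := IH ⟨i, hi⟩
    simp only at hI
    rw [hj, hI]
    ring

/-- every Cartan vector is an integral combination of those of `18 13 12 19` -/
theorem td4r2_comb : ∀ r < 24, ∀ j : Fin 4,
    chevD4.cartan j.val r = (co r 0 - co r 1) * chevD4.cartan j.val 18 + co r 2 * chevD4.cartan j.val 13 +
      co r 3 * chevD4.cartan j.val 12 + co r 1 * chevD4.cartan j.val 19 := by
  decide +kernel

/-- the Cartan vector is injective on the roots -/
theorem td4r2_inj : ∀ r < 24, ∀ r' < 24,
    (∀ j : Fin 4, chevD4.cartan j.val r = chevD4.cartan j.val r') → r = r' := by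
  decide +kernel

section R

variable {F : Type u} [Field F] (hB : H8Base.{u} chevD4)

/-- R2 [M]. Linear algebra on the Cartan vectors `cv r = (cartan 0 r, …, cartan 3 r) ∈ ℤ⁴`: for `i < 4` and `s < 24`, `cv (reflectRoot i s) = M_i (cv s)` with the integer matrix `M_i = 1 - (cartan · (simple i)) ⊗ e_i` (`H8Refl.tc1` from `h8reflAll_spec`, with `s` replaced by `reflectRoot i s` and `invol`; or all 4 × 24 cases by `decide +kernel`).  By induction on `w` (`h8sW` is a `foldr`; `h8sW_lt`) there is `M_w : Matrix (Fin 4) (Fin 4) ℤ` with `cv (h8sW chevD4 w s) = M_w *ᵥ cv s` for all `s < 24`.  The hypotheses give `M_w * C = C` for the matrix `C` with columns `cv 18, cv 13, cv 12, cv 19`, `det C ≠ 0` (`decide`), so `M_w = 1` (`Matrix.mul_left_injective_of_det_ne_zero`-style, or multiply by the adjugate), `cv (h8sW w r) = cv r`, and `cv` is injective on `r < 24` (`decide +kernel`). -/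
theorem weyl_fix (w : List ℕ) (hw : ∀ i ∈ w, i < 4) (h18 : h8sW chevD4 w 18 = 18)
    (h13 : h8sW chevD4 w 13 = 13) (h12 : h8sW chevD4 w 12 = 12) (h19 : h8sW chevD4 w 19 = 19) :
    ∀ r < 24, h8sW chevD4 w r = r := by
  intro r hr
  have h := td4r2_lin w hw (co r 0 - co r 1) (co r 2) (co r 3) (co r 1) r 18 13 12 19 hr
    (by norm_num) (by norm_num) (by norm_num) (by norm_num) (td4r2_comb r hr)
  rw [h18, h13, h12, h19] at h
  refine td4r2_inj _ (td4r2_sW_lt w hw r hr) r hr (fun j => ?_)
  rw [h j, ← td4r2_comb r hr j]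

end R

end Cfsg.Agent.Lib.helper8.TD4
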