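import Mathlib
import Cfsg.Prelude.Def_ChevStructure
import Cfsg.Prelude.Def_LieTwisted
import Cfsg.Agent.Lib.helper8.TD4.Defs
import Cfsg.Agent.Lib.helper8.ChevTwH1
import Cfsg.Agent.Lib.helper8.ChevBNAll2
import Cfsg.Agent.Lib.helper8.ChevReflAll

/-!
# TD4 row B4 (helper6): `chi_pow`, verbatim from helper8's TD4 skeleton.
-/

set_option autoImplicit false

namespace Cfsg.Agent.Lib.helper8.TD4

open Cfsg.Lie Cfsg.Lie.ChevalleyDatum Cfsg.Agent.Lib.helper8 Matrix

universe u v

section B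

variable {F : Type u} [Field F] (hB : H8Base.{u} chevD4)

/-- B4 [S]. Induction on `i` with `h8chi_one`, `h8chi_mul` (`pow_succ`, `Subgroup.pow_mem`). -/
theorem chi_pow (h : GL chevD4.Idx F) (hh : h ∈ chevD4.diagonalSubgroup F) (i : ℕ) : ∀ r < 24,
    h8chi chevD4 hB (h ^ i) r = h8chi chevD4 hB h r ^ i := by
  have hD : chevD4 ∈ [chevG2, chevB2, chevD4, chevF4, chevE6, chevE7, chevE8] := by simp
  have hA := h8reflAll chevD4 hD
  have hW := h8bn2_all chevD4 hD
  intro r hr
  have hr' : r < chevD4.nroots := hr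
  induction i with
  | zero => rw [pow_zero, pow_zero]; exact h8chi_one chevD4 hB hA hW r hr'
  | succ i ih =>
    rw [pow_succ, pow_succ, h8chi_mul chevD4 hB hA hW _ _ (Subgroup.pow_mem _ hh i) hh r hr', ih]

end B

end Cfsg.Agent.Lib.helper8.TD4
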