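import Mathlib
import Cfsg.Prelude.Def_ChevStructure
import Cfsg.Prelude.Def_LieTwisted
import Cfsg.Agent.Lib.helper8.TD4.Defs
import Cfsg.Agent.Lib.helper8.ChevFix1

/-!
# TD4 row C2 (helper6): `psi_x0`, verbatim from helper8's TD4 skeleton.
-/

set_option autoImplicit false

namespace Cfsg.Agent.Lib.helper8.TD4

open Cfsg.Lie Cfsg.Lie.ChevalleyDatum Cfsg.Agent.Lib.helper8 Matrix

universe u v

/-- C2 [S]. `map_mul`, `map_inv`, `h8Psi_hU`, `h8Psi_nU`, `h8Psi_xU`, `map_pow`, `map_one`. -/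
theorem psi_x0 {K : Type u} {E : Type v} [Field K] [Field E] (hBK : H8Base.{u} chevD4)
    (hBE : H8Base.{v} chevD4) (ι : K →+* E) (q : ℕ) (t τ : K) :
    h8Psi chevD4 ι (x0 hBK q t τ) = x0 hBE q (ι t) (ι τ) := by
  unfold x0 hJ
  simp only [map_mul, map_inv, h8Psi_hU chevD4 hBK hBE, h8Psi_nU chevD4 hBK hBE,
    h8Psi_xU chevD4 hBK hBE, map_pow, map_one]

end Cfsg.Agent.Lib.helper8.TD4
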