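import Mathlib
import Cfsg.Prelude.Def_ChevStructure
import Cfsg.Prelude.Def_LieTwisted
import Cfsg.Agent.Lib.helper8.TD4.Defs
import Cfsg.Agent.Lib.helper8.ChevPerf

/-!
# TD4 row C8 (helper6): `cE_mem`, verbatim from helper8's TD4 skeleton.
-/

set_option autoImplicit false

namespace Cfsg.Agent.Lib.helper8.TD4

open Cfsg.Lie Cfsg.Lie.ChevalleyDatum Cfsg.Agent.Lib.helper8 Matrix

universe u v

section C

variable {E : Type v} [Field E] (hB : H8Base.{v} chevD4)

/-- C8 [S]. `Subgroup.mul_mem`, `Subgroup.subset_closure ⟨r, t, h8xU_val …⟩` (the generators of `chevD4.group E`; compare `h8Psi_group_le`). -/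
theorem cE_mem (q : ℕ) (m : E) : cE hB q m ∈ chevD4.group E := by
  unfold cE
  exact Subgroup.mul_mem _ (h8xU_mem_group chevD4 hB _ _) (h8xU_mem_group chevD4 hB _ _)

end C

end Cfsg.Agent.Lib.helper8.TD4
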