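import Cfsg.Agent.Lib.Helper21.TS.Basic

/-!
# Project TS, piece SIEG: Siegel transformations `ρ_{w,z}` (helper6)
`sieg_mulVec`, `sieg_mul`, `rw_pgroup` verbatim; extras `tssieg_zero`, `tssieg_pow`, `tssieg_iso`, `tssieg_inv`.
-/

set_option autoImplicit false
set_option linter.unusedSectionVars false
set_option linter.unusedVariables false
set_option linter.unusedSimpArgs false

namespace Cfsg.Agent.Lib.Helper21.TS

open Matrix
open scoped Kronecker
open Cfsg.Agent.Lib.helper7.TP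

variable {ι : Type*} [Fintype ι] [DecidableEq ι] {a b : ℕ} {F : Type*} [Field F]
  {J1 : Matrix (Fin a) (Fin a) F} {J2 : Matrix (Fin b) (Fin b) F}
  {M : Subgroup (Matrix.GeneralLinearGroup (Fin a × Fin b) F)}

/-- SIEG [M]. the action of a Siegel transformation. -/
theorem sieg_mulVec (J : Matrix ι ι F) (w z x : ι → F) :
    sieg J w z *ᵥ x = x + bf J z x • w - bf J w x • z - (bf J z z / 2 * bf J w x) • w := by
  rw [sieg, Matrix.sub_mulVec, Matrix.sub_mulVec, Matrix.add_mulVec, Matrix.one_mulVec,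
    Matrix.smul_mulVec, opm_mulVec, opm_mulVec, opm_mulVec, smul_smul]

theorem tssieg_zero (J : Matrix ι ι F) (w : ι → F) : sieg J w 0 = 1 := by
  rw [Matrix.ext_iff_mulVec]
  intro x
  rw [sieg_mulVec, Matrix.one_mulVec, bf_zero_left, bf_zero_right, zero_smul, smul_zero, zero_div,
    zero_mul, zero_smul, add_zero, sub_zero, sub_zero]

/-- SIEG [M]. `ρ_{w,z} ρ_{w,z'} = ρ_{w,z+z'}` (`w` singular, `z, z' ⊥ w`); check on vectors with `sieg_mulVec`. -/
theorem sieg_mul {J : Matrix ι ι F} (hJ : Jᵀ = J) (two : (2 : F) ≠ 0) {w z z' : ι → F}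
    (hw : bf J w w = 0) (hz : bf J w z = 0) (hz' : bf J w z' = 0) :
    sieg J w z * sieg J w z' = sieg J w (z + z') := by
  rw [Matrix.ext_iff_mulVec]
  intro x
  have hzw : bf J z w = 0 := by rw [bf_symm hJ]; exact hz
  have hz'w : bf J z' w = 0 := by rw [bf_symm hJ]; exact hz'
  have hz'z : bf J z' z = bf J z z' := bf_symm hJ z' z
  rw [← Matrix.mulVec_mulVec, sieg_mulVec J w z' x, sieg_mulVec, sieg_mulVec]
  simp only [bf_add_left, bf_sub_left, bf_smul_left, bf_add_right, bf_sub_right, bf_smul_right,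
    hw, hz, hz', hzw, hz'w, hz'z]
  funext i
  simp only [Pi.add_apply, Pi.sub_apply, Pi.smul_apply, smul_eq_mul]
  field_simp
  ring

theorem tssieg_pow {J : Matrix ι ι F} (hJ : Jᵀ = J) (two : (2 : F) ≠ 0) {w z : ι → F}
    (hw : bf J w w = 0) (hz : bf J w z = 0) (n : ℕ) :
    sieg J w z ^ n = sieg J w ((n : F) • z) := by
  induction n with
  | zero => rw [pow_zero, Nat.cast_zero, zero_smul, tssieg_zero]
  | succ n ih =>
    have h1 : bf J w ((n : F) • z) = 0 := by rw [bf_smul_right, hz, mul_zero]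
    rw [pow_succ, ih, sieg_mul hJ two hw h1 hz, Nat.cast_succ, add_smul, one_smul]

/-- a Siegel transformation is an isometry. -/
theorem tssieg_iso {J : Matrix ι ι F} (hJ : Jᵀ = J) (two : (2 : F) ≠ 0) {w z : ι → F}
    (hw : bf J w w = 0) (hz : bf J w z = 0) (x y : ι → F) :
    bf J (sieg J w z *ᵥ x) (sieg J w z *ᵥ y) = bf J x y := by
  have hzw : bf J z w = 0 := by rw [bf_symm hJ]; exact hz
  have hxw : bf J x w = bf J w x := bf_symm hJ x w
  have hxz : bf J x z = bf J z x := bf_symm hJ x z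
  rw [sieg_mulVec, sieg_mulVec]
  simp only [bf_add_left, bf_sub_left, bf_smul_left, bf_add_right, bf_sub_right, bf_smul_right,
    hw, hz, hzw, hxw, hxz]
  field_simp
  ring

/-- SIEG [M]. the Siegel transformations `ρ_{w,z}`, `z ⊥ w`, form a `p`-subgroup of `O(B)`. -/
theorem rw_pgroup (p : ℕ) [Fact p.Prime] [CharP F p] {J : Matrix ι ι F} (hJ : Jᵀ = J) (two : (2 : F) ≠ 0)
    {w : ι → F} (hw : bf J w w = 0) :
    ∃ G : Subgroup (Matrix.GeneralLinearGroup ι F), IsPGroup p G ∧ G ≤ Iso J ∧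
      ∀ z : ι → F, bf J w z = 0 → ∃ g ∈ G, (g : Matrix ι ι F) = sieg J w z := by
  have hinv : ∀ z : ι → F, bf J w z = 0 → sieg J w z * sieg J w (-z) = 1 := by
    intro z hz
    have h1 : bf J w (-z) = 0 := by rw [bf_neg_right, hz, neg_zero]
    rw [sieg_mul hJ two hw hz h1, add_neg_cancel, tssieg_zero]
  have hinv' : ∀ z : ι → F, bf J w z = 0 → sieg J w (-z) * sieg J w z = 1 := by
    intro z hz
    have h1 : bf J w (-z) = 0 := by rw [bf_neg_right, hz, neg_zero]
    rw [sieg_mul hJ two hw h1 hz, neg_add_cancel, tssieg_zero]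
  let G : Subgroup (Matrix.GeneralLinearGroup ι F) :=
    { carrier := {g | ∃ z : ι → F, bf J w z = 0 ∧ (g : Matrix ι ι F) = sieg J w z}
      one_mem' := ⟨0, bf_zero_right J w, by rw [tssieg_zero]; rfl⟩
      mul_mem' := by
        rintro g h ⟨z, hz, hg⟩ ⟨z', hz', hh⟩
        refine ⟨z + z', by rw [bf_add_right, hz, hz', add_zero], ?_⟩
        rw [Units.val_mul, hg, hh, sieg_mul hJ two hw hz hz']
      inv_mem' := by
        rintro g ⟨z, hz, hg⟩
        refine ⟨-z, by rw [bf_neg_right, hz, neg_zero], ?_⟩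
        have h1 : ((g⁻¹ : Matrix.GeneralLinearGroup ι F) : Matrix ι ι F) * (g : Matrix ι ι F) = 1 := by
          rw [← Units.val_mul, inv_mul_cancel, Units.val_one]
        calc ((g⁻¹ : Matrix.GeneralLinearGroup ι F) : Matrix ι ι F)
            = ((g⁻¹ : Matrix.GeneralLinearGroup ι F) : Matrix ι ι F) *
                (sieg J w z * sieg J w (-z)) := by rw [hinv z hz, Matrix.mul_one]
          _ = (((g⁻¹ : Matrix.GeneralLinearGroup ι F) : Matrix ι ι F) * (g : Matrix ι ι F)) *
                sieg J w (-z) := by rw [hg, Matrix.mul_assoc]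
          _ = sieg J w (-z) := by rw [h1, Matrix.one_mul] }
  refine ⟨G, ?_, ?_, ?_⟩
  · intro g
    refine ⟨1, ?_⟩
    obtain ⟨g, z, hz, hg⟩ := g
    apply Subtype.ext
    apply Units.ext
    rw [pow_one]
    show ((g ^ p : Matrix.GeneralLinearGroup ι F) : Matrix ι ι F) = 1
    rw [Units.val_pow_eq_pow_val, hg, tssieg_pow hJ two hw hz, CharP.cast_eq_zero, zero_smul,
      tssieg_zero]
  · rintro g ⟨z, hz, hg⟩
    rw [mem_Iso_iff_bf]
    intro x y
    rw [hg]
    exact tssieg_iso hJ two hw hz x y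
  · intro z hz
    have hu : sieg J w z * sieg J w (-z) = 1 := hinv z hz
    have hu' : sieg J w (-z) * sieg J w z = 1 := hinv' z hz
    exact ⟨⟨sieg J w z, sieg J w (-z), hu, hu'⟩, ⟨z, hz, rfl⟩, rfl⟩

end Cfsg.Agent.Lib.Helper21.TS
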