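import Mathlib

set_option autoImplicit false

namespace Cfsg.Agent.Lib.helper6.A5Pair

set_option maxRecDepth 100000 in
/-- two elements of order three in `A₅`: a common fixed point, or both products have order five -/
theorem a5_pair : ∀ a b : alternatingGroup (Fin 5), a ^ 3 = 1 → b ^ 3 = 1 →
    (∃ i : Fin 5, (a : Equiv.Perm (Fin 5)) i = i ∧ (b : Equiv.Perm (Fin 5)) i = i) ∨
    ((a * b) ^ 5 = 1 ∧ (a * b⁻¹) ^ 5 = 1) := by
  decide +kernel


theorem a5_moves : ∀ i : Fin 5, ∃ g : alternatingGroup (Fin 5), (g : Equiv.Perm (Fin 5)) i ≠ i := by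
  decide

/-- transport to a group isomorphic to `A₅` generated by two elements of order three -/
theorem pair_of_equiv {H : Type*} [Group H] (e : H ≃* alternatingGroup (Fin 5)) (u v : H)
    (hu : u ^ 3 = 1) (hv : v ^ 3 = 1) (hgen : Subgroup.closure ({u, v} : Set H) = ⊤) :
    (u * v) ^ 5 = 1 ∧ (u * v⁻¹) ^ 5 = 1 := by
  have ha : (e u) ^ 3 = 1 := by rw [← map_pow, hu, map_one]
  have hb : (e v) ^ 3 = 1 := by rw [← map_pow, hv, map_one]
  rcases a5_pair (e u) (e v) ha hb with ⟨i, hi1, hi2⟩ | ⟨h1, h2⟩
  · exfalso
    let S : Subgroup (alternatingGroup (Fin 5)) :=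
      { carrier := {g | (g : Equiv.Perm (Fin 5)) i = i}
        mul_mem' := by
          intro a b ha hb
          show ((a * b : alternatingGroup (Fin 5)) : Equiv.Perm (Fin 5)) i = i
          rw [Subgroup.coe_mul, Equiv.Perm.mul_apply, hb, ha]
        one_mem' := by
          show ((1 : alternatingGroup (Fin 5)) : Equiv.Perm (Fin 5)) i = i
          simp
        inv_mem' := by
          intro a ha
          show ((a⁻¹ : alternatingGroup (Fin 5)) : Equiv.Perm (Fin 5)) i = i
          rw [Subgroup.coe_inv, Equiv.Perm.inv_eq_iff_eq]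
          exact ha.symm }
    have hle : Subgroup.closure ({u, v} : Set H) ≤ S.comap e.toMonoidHom := by
      rw [Subgroup.closure_le]
      intro x hx
      rcases hx with rfl | rfl
      · exact hi1
      · exact hi2
    rw [hgen] at hle
    obtain ⟨g, hg⟩ := a5_moves i
    apply hg
    have : e.symm g ∈ S.comap e.toMonoidHom := hle (Subgroup.mem_top _)
    have h3 : e (e.symm g) ∈ S := this
    rw [MulEquiv.apply_symm_apply] at h3
    exact h3
  · constructor
    · apply e.injective
      rw [map_pow, map_mul, h1, map_one]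
    · apply e.injective
      rw [map_pow, map_mul, map_inv, h2, map_one]

end Cfsg.Agent.Lib.helper6.A5Pair
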