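import Mathlib
import Cfsg.Agent.Lib.helper6.DicksonMain

set_option autoImplicit false

namespace Cfsg.Agent.Lib.helper6.Dickson

open MulAction

variable {H X : Type*} [Group H] [MulAction H X]

namespace DAct

variable {p : ℕ} (D : DAct H X p)
include D

/-- an element of order `p` is parabolic at its fixed point -/
theorem exists_isPar_of_pow {u : H} (hu1 : u ≠ 1) (hup : u ^ p = 1) : ∃ r : X, IsPar r u := by
  obtain ⟨r, hr⟩ := D.fix_exists u
  refine ⟨r, hu1, hr, ?_⟩
  intro y hy
  by_contra hne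
  exact hu1 (D.two_coprime y r u hne hy hr hup)

/-- two non-commuting elements of order `p`, `p` odd: the orbit of the fixed point is short
or the group is `A₅` with `p = 3` -/
theorem two_par_dichotomy [Finite H] [Fact p.Prime] (hp2 : p ≠ 2) {u v : H} (hu1 : u ≠ 1)
    (hv1 : v ≠ 1) (hup : u ^ p = 1) (hvp : v ^ p = 1) (huv : u * v ≠ v * u) :
    ∃ ru rv : X, IsPar ru u ∧ IsPar rv v ∧ ru ≠ rv ∧ rv ∈ orbit H ru ∧
      ((orbit H ru).ncard = Nat.card (D.Q ru) + 1 ∨
       (p = 3 ∧ Nat.card H = 60 ∧ Nonempty (H ≃* alternatingGroup (Fin 5)))) := by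
  classical
  haveI : Fintype H := Fintype.ofFinite H
  have hgc : Nat.card H = Fintype.card H := Nat.card_eq_fintype_card
  have hpP : p.Prime := Fact.out
  obtain ⟨ru, hru⟩ := D.exists_isPar_of_pow hu1 hup
  obtain ⟨rv, hrv⟩ := D.exists_isPar_of_pow hv1 hvp
  have hne : ru ≠ rv := by
    intro h
    rw [← h] at hrv
    exact huv (D.par_comm ru u v hru hrv)
  have hQu : D.Q ru ≠ ⊥ := by
    intro h
    have : u ∈ D.Q ru := D.mem_Q.mpr (Or.inr hru)
    rw [h, Subgroup.mem_bot] at this
    exact hu1 this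
  have hQv : D.Q rv ≠ ⊥ := by
    intro h
    have : v ∈ D.Q rv := D.mem_Q.mpr (Or.inr hrv)
    rw [h, Subgroup.mem_bot] at this
    exact hv1 this
  have huΩ : ru ∈ D.Ω := D.mem_Ω.mpr ⟨u, hu1, hru.2.1⟩
  have hvΩ : rv ∈ D.Ω := D.mem_Ω.mpr ⟨v, hv1, hrv.2.1⟩
  have hrepu : rep H ru ∈ D.R := Finset.mem_image_of_mem _ huΩ
  have hrepv : rep H rv ∈ D.R := Finset.mem_image_of_mem _ hvΩ
  have hQrep : ∀ x : X, Nat.card (D.Q (rep H x)) = Nat.card (D.Q x) := by
    intro x
    obtain ⟨g, hg⟩ := rep_mem_orbit (H := H) x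
    have hg' : g • x = rep H x := hg
    rw [← hg', D.card_Q_smul]
  have hQu1 : Nat.card (D.Q ru) ≠ 1 := fun h => hQu (Subgroup.card_eq_one.mp h)
  have hQv1 : Nat.card (D.Q rv) ≠ 1 := fun h => hQv (Subgroup.card_eq_one.mp h)
  -- a global fixed point is impossible
  have hnofix : ∀ r : X, ¬ (∀ h : H, h • r = r) := by
    intro r hr
    have h1 : ru = r := isPar_unique hru ⟨hu1, hr u, fun y hy => by
      by_contra hne'
      exact hu1 (D.two_coprime y r u hne' hy (hr u) hup)⟩
    have h2 : rv = r := isPar_unique hrv ⟨hv1, hr v, fun y hy => by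
      by_contra hne'
      exact hv1 (D.two_coprime y r v hne' hy (hr v) hvp)⟩
    exact hne (h1.trans h2.symm)
  have hpdvd : p ∣ Nat.card H := by
    have h1 : orderOf u = p := orderOf_eq_prime hup hu1
    rw [← h1]
    exact orderOf_dvd_natCard u
  rcases D.first_level with h | h | h | h | h
  · exfalso
    have : Subsingleton H := Fintype.card_le_one_iff_subsingleton.mp (by omega)
    exact hu1 (Subsingleton.elim _ _)
  · exfalso
    obtain ⟨r, hr, hn1, hq⟩ := h
    apply hnofix r
    apply D.fixes_of_card_stab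
    have := D.nn_mul hr
    rw [hn1, one_mul] at this
    rw [this, hgc]
  · exfalso
    obtain ⟨r, hr, s, hs, hrs, hn1, hn1'⟩ := h
    apply hnofix r
    apply D.fixes_of_card_stab
    have := D.nn_mul hr
    rw [hn1, one_mul] at this
    rw [this, hgc]
  · obtain ⟨r, hr, s, hs, hrs, hR, hq, hq', hn2, hsum⟩ := h
    have hQs : D.Q s = ⊥ := Subgroup.card_eq_one.mp hq'
    have hQr : D.Q r ≠ ⊥ := fun hb => hq (by rw [hb, Subgroup.card_bot])
    have hur : rep H ru = r := by
      rw [hR] at hrepu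
      simp only [Finset.mem_insert, Finset.mem_singleton] at hrepu
      rcases hrepu with h | h
      · exact h
      · exfalso
        have := hQrep ru
        rw [h, hq'] at this
        exact hQu1 this.symm
    have hvr : rep H rv = r := by
      rw [hR] at hrepv
      simp only [Finset.mem_insert, Finset.mem_singleton] at hrepv
      rcases hrepv with h | h
      · exact h
      · exfalso
        have := hQrep rv
        rw [h, hq'] at this
        exact hQv1 this.symm
    have hrr : rep H r = r := (D.mem_R.mp hr).2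
    have huo : ru ∈ orbit H r := (rep_eq_iff hrr).mp hur
    have hvo : rv ∈ orbit H r := (rep_eq_iff hrr).mp hvr
    have horb : orbit H ru = orbit H r := orbit_eq_iff.mpr huo
    have hQcard : Nat.card (D.Q ru) = Nat.card (D.Q r) := by
      rw [← hQrep ru, hur]
    refine ⟨ru, rv, hru, hrv, hne, by rw [horb]; exact hvo, ?_⟩
    rw [horb, hQcard]
    obtain ⟨q, hqdef⟩ : ∃ q, q = Nat.card (D.Q r) := ⟨_, rfl⟩
    have hqpos : 0 < q := hqdef ▸ Nat.card_pos
    have hq2 : 2 ≤ q := by omega
    have hnr := D.nn_eq_ncard hr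
    obtain ⟨k, hk⟩ := D.card_Q_dvd r
    have hnrk : D.nn r = 1 + q * k := by
      rw [hnr, hqdef]
      have : 1 ≤ (orbit H r).ncard := by rw [← hnr]; omega
      omega
    have hk1 : 1 ≤ k := by
      rcases Nat.eq_zero_or_pos k with h0 | h0
      · rw [h0, mul_zero] at hnrk; omega
      · exact h0
    obtain ⟨c, hc⟩ := D.card_Q_dvd_stab r
    have he2 := D.two_le_card_stab (D.mem_R.mp hr).1
    have hc1 : 1 ≤ c := by
      rcases Nat.eq_zero_or_pos c with h0 | h0
      · rw [h0, mul_zero] at hc; omega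
      · exact h0
    have hcq : c < q := by
      by_cases hc_one : c = 1
      · omega
      · have hne' : ¬ stabilizer H r ≤ D.Q r := by
          intro hle
          have h1 := Subgroup.card_le_of_le hle
          rw [hc, ← hqdef] at h1
          have h2 : q * 2 ≤ q * c := Nat.mul_le_mul_left q (by omega)
          omega
        obtain ⟨k₀, hk₀, hk₀'⟩ := SetLike.not_le_iff_exists.mp hne'
        have hk₀1 : k₀ ≠ 1 := fun h => hk₀' (h ▸ (D.Q r).one_mem)
        obtain ⟨y, hyr, hy⟩ := D.exists_second (mem_stabilizer_iff.mp hk₀) hk₀'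
        have h1 := D.card_stab_eq (Ne.symm hyr) hk₀1 (mem_stabilizer_iff.mp hk₀) hy
        have h2 := D.card_inf_lt (Ne.symm hyr) hQr
        rw [hc] at h1
        have h3 : c = Nat.card ↥(stabilizer H r ⊓ stabilizer H y : Subgroup H) :=
          Nat.eq_of_mul_eq_mul_left Nat.card_pos h1
        rw [h3, hqdef]; exact h2
    obtain ⟨m, hm⟩ : ∃ m, m = Nat.card (stabilizer H s) := ⟨_, rfl⟩
    have hg : D.nn r * (q * c) = D.nn s * m := by
      rw [hqdef, ← hc, hm, D.nn_mul hr, D.nn_mul hs]
    rcases Cfsg.Agent.Lib.helper6.DicksonH.arith_C (D.nn r) (D.nn s) q c m k hnrk hk1 hq2 hc1 hcq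
      (by rw [hqdef]; exact hsum) hg with h | h | h | h
    · -- dihedral: impossible for odd p
      exfalso
      have hcop := D.coprime_stab_of_Q_bot hQs
      have h1 := D.nn_mul hs
      rw [h, ← hm] at h1
      rw [← hm] at hcop
      rw [hgc, ← h1] at hpdvd
      rcases (hpP.dvd_mul).mp hpdvd with h2 | h2
      · exact hp2 ((Nat.prime_dvd_prime_iff_eq hpP Nat.prime_two).mp h2)
      · have h3 : p ∣ Nat.gcd m p := Nat.dvd_gcd h2 (dvd_refl p)
        rw [hcop] at h3
        exact hpP.one_lt.ne' (Nat.dvd_one.mp h3)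
    · left
      obtain ⟨hk', -, -⟩ := h
      rw [← hnr, hnrk, hk', ← hqdef]; ring
    · left
      obtain ⟨hk', -, -⟩ := h
      rw [← hnr, hnrk, hk', ← hqdef]; ring
    · right
      obtain ⟨hq3', hc2, hk3, hm5⟩ := h
      have hcard : Nat.card H = 60 := by
        rw [hgc, ← D.nn_mul hr, hnrk, hc, ← hqdef, hq3', hc2, hk3]
      refine ⟨?_, hcard, ?_⟩
      · obtain ⟨a, ha⟩ := IsPGroup.iff_card.mp (D.isPGroup_Q r)
        rw [← hqdef, hq3'] at ha
        have h1 : p ∣ 3 := by
          rcases Nat.eq_zero_or_pos a with h0 | h0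
          · rw [h0, pow_zero] at ha; omega
          · rw [ha]; exact dvd_pow_self p h0.ne'
        exact (Nat.prime_dvd_prime_iff_eq hpP Nat.prime_three).mp h1
      · apply Cfsg.Agent.Lib.helper6.DicksonG.a5_of_card hcard
        apply D.no_normal_cyclic
        intro x
        have hle := D.card_stab_le_of_R 6 (by norm_num) (by
          intro y hy
          rw [hR] at hy
          simp only [Finset.mem_insert, Finset.mem_singleton] at hy
          rcases hy with rfl | rfl
          · rw [hc, ← hqdef, hq3', hc2]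
          · rw [← hm, hm5]; norm_num) x
        rw [hcard]; omega
  · exfalso
    obtain ⟨r, hr, s, hs, t, ht, hrs, hrt, hst, hR, hq, hq', hq'', hsum⟩ := h
    rw [hR] at hrepu
    simp only [Finset.mem_insert, Finset.mem_singleton] at hrepu
    have := hQrep ru
    rcases hrepu with h | h | h
    · rw [h, hq] at this; exact hQu1 this.symm
    · rw [h, hq'] at this; exact hQu1 this.symm
    · rw [h, hq''] at this; exact hQu1 this.symm

/-- group-theoretic form of the generic case -/
theorem two_par_generic [Finite H] {u v : H} {ru rv : X} (hru : IsPar ru u) (hrv : IsPar rv v)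
    (hne : ru ≠ rv) (hvo : rv ∈ orbit H ru)
    (hn : (orbit H ru).ncard = Nat.card (D.Q ru) + 1) (k : H)
    (hk : (k * u * k⁻¹) * u ≠ u * (k * u * k⁻¹)) :
    ∃ h : H, h * u = u * h ∧
      ((h⁻¹ * k) * u * (h⁻¹ * k)⁻¹) * v = v * ((h⁻¹ * k) * u * (h⁻¹ * k)⁻¹) := by
  have hkr : k • ru ≠ ru := by
    intro h
    apply hk
    have h1 := hru.conj k
    rw [h] at h1
    exact D.par_comm ru _ _ h1 hru
  obtain ⟨h, hhQ, hh⟩ := D.Q_trans hn hvo (Ne.symm hne) (mem_orbit ru k) hkr
  refine ⟨h, ?_, ?_⟩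
  · rcases D.mem_Q.mp hhQ with h1 | h1
    · rw [h1, one_mul, mul_one]
    · exact D.par_comm ru _ _ h1 hru
  · have h1 := hru.conj (h⁻¹ * k)
    have h2 : (h⁻¹ * k) • ru = rv := by
      rw [mul_smul, ← hh, inv_smul_smul]
    rw [h2] at h1
    exact D.par_comm rv _ _ h1 hrv

end DAct

end Cfsg.Agent.Lib.helper6.Dickson
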