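import Mathlib

set_option autoImplicit false

namespace Cfsg.Agent.Lib.helper6.F9Card

variable {F : Type*} [Field F] [Fintype F]

/-- a finite field of characteristic three generated by a square root of `-1` has nine elements -/
theorem card_eq_nine [CharP F 3] (lam : F) (hl : lam ^ 2 = -1)
    (hgen : Subfield.closure ({lam} : Set F) = ⊤) : Fintype.card F = 9 := by
  classical
  haveI : Fact (Nat.Prime 3) := ⟨by norm_num⟩
  haveI : ExpChar F 3 := ExpChar.prime (by norm_num)
  have h3 : (3 : F) = 0 := by
    have := CharP.cast_eq_zero F 3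
    exact_mod_cast this
  have hall : ∀ z : F, z ^ 9 = z := by
    have hle : Subfield.closure ({lam} : Set F) ≤
        (iterateFrobenius F 3 2).eqLocusField (RingHom.id F) := by
      rw [Subfield.closure_le]
      intro t ht
      rw [Set.mem_singleton_iff] at ht
      rw [ht]
      show (iterateFrobenius F 3 2) lam = (RingHom.id F) lam
      rw [iterateFrobenius_def]
      have : lam ^ 3 ^ 2 = lam * (lam ^ 2) ^ 4 := by ring
      rw [this, hl, RingHom.id_apply]
      ring
    rw [hgen] at hle
    intro z
    have h1 : z ∈ (iterateFrobenius F 3 2).eqLocusField (RingHom.id F) := hle (Subfield.mem_top z)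
    have h2 : (iterateFrobenius F 3 2) z = (RingHom.id F) z := h1
    rw [iterateFrobenius_def] at h2
    simpa using h2
  have hle9 : Fintype.card F ≤ 9 := by
    have hne : (Polynomial.X ^ 9 - Polynomial.X : Polynomial F) ≠ 0 :=
      FiniteField.X_pow_card_sub_X_ne_zero F (by norm_num)
    have hsub : (Finset.univ : Finset F).val ⊆ (Polynomial.X ^ 9 - Polynomial.X : Polynomial F).roots := by
      intro z _
      rw [Polynomial.mem_roots hne]
      simp [hall z]
    have := Polynomial.card_le_degree_of_subset_roots hsub
    rw [FiniteField.X_pow_card_sub_X_natDegree_eq F (by norm_num)] at this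
    simpa using this
  obtain ⟨n, -, hn⟩ := FiniteField.card F 3
  have hn1 : 1 ≤ (n : ℕ) := n.pos
  have hn2 : (n : ℕ) ≤ 2 := by
    by_contra hcon
    have h3n : 3 ≤ (n : ℕ) := by omega
    have : 3 ^ 3 ≤ 3 ^ (n : ℕ) := Nat.pow_le_pow_right (by norm_num) h3n
    rw [← hn] at this
    omega
  have hcases : (n : ℕ) = 1 ∨ (n : ℕ) = 2 := by omega
  rcases hcases with h | h
  · exfalso
    rw [h, pow_one] at hn
    have h4 := FiniteField.pow_card lam
    rw [hn] at h4
    have h5 : lam ^ 3 = lam * lam ^ 2 := by ring
    rw [h5, hl] at h4
    have h6 : lam = 0 := by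
      have : (2 : F) * lam = 0 := by linear_combination -h4
      have h2 : (2 : F) ≠ 0 := by
        intro h2
        have : (1 : F) = 0 := by linear_combination h3 - h2
        exact one_ne_zero this
      rcases mul_eq_zero.mp this with h7 | h7
      · exact absurd h7 h2
      · exact h7
    rw [h6] at hl
    have : (1 : F) = 0 := by
      have h7 : (0 : F) ^ 2 = 0 := by ring
      rw [h7] at hl
      linear_combination hl
    exact one_ne_zero this
  · rw [hn, h]; norm_num

end Cfsg.Agent.Lib.helper6.F9Card
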