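import Mathlib

set_option autoImplicit false

namespace Cfsg.Agent.Lib.helper6.SL2Conc

open Matrix
open scoped MatrixGroups

variable {F : Type*} [Field F]

/-- upper unitriangular matrix -/
def xu (t : F) : SL(2,F) := ⟨!![1, t; 0, 1], by simp [Matrix.det_fin_two]⟩

/-- lower unitriangular matrix -/
def yl (t : F) : SL(2,F) := ⟨!![1, 0; t, 1], by simp [Matrix.det_fin_two]⟩

@[simp] theorem xu_coe (t : F) : ((xu t : SL(2,F)) : Matrix (Fin 2) (Fin 2) F) = !![1, t; 0, 1] := rfl
@[simp] theorem yl_coe (t : F) : ((yl t : SL(2,F)) : Matrix (Fin 2) (Fin 2) F) = !![1, 0; t, 1] := rfl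

theorem sl_ext {g h : SL(2,F)} (h00 : g 0 0 = h 0 0) (h01 : g 0 1 = h 0 1) (h10 : g 1 0 = h 1 0)
    (h11 : g 1 1 = h 1 1) : g = h := by
  apply Matrix.SpecialLinearGroup.ext
  intro i j
  fin_cases i <;> fin_cases j <;> assumption

theorem sl_det (g : SL(2,F)) : g 0 0 * g 1 1 - g 0 1 * g 1 0 = 1 := by
  have := g.2
  rw [Matrix.det_fin_two] at this
  exact this

theorem mul_apply00 (g h : SL(2,F)) : (g * h) 0 0 = g 0 0 * h 0 0 + g 0 1 * h 1 0 := by
  rw [Matrix.SpecialLinearGroup.coe_mul, Matrix.mul_apply, Fin.sum_univ_two]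
theorem mul_apply01 (g h : SL(2,F)) : (g * h) 0 1 = g 0 0 * h 0 1 + g 0 1 * h 1 1 := by
  rw [Matrix.SpecialLinearGroup.coe_mul, Matrix.mul_apply, Fin.sum_univ_two]
theorem mul_apply10 (g h : SL(2,F)) : (g * h) 1 0 = g 1 0 * h 0 0 + g 1 1 * h 1 0 := by
  rw [Matrix.SpecialLinearGroup.coe_mul, Matrix.mul_apply, Fin.sum_univ_two]
theorem mul_apply11 (g h : SL(2,F)) : (g * h) 1 1 = g 1 0 * h 0 1 + g 1 1 * h 1 1 := by
  rw [Matrix.SpecialLinearGroup.coe_mul, Matrix.mul_apply, Fin.sum_univ_two]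

theorem inv_apply00 (g : SL(2,F)) : (g⁻¹) 0 0 = g 1 1 := by
  rw [Matrix.SpecialLinearGroup.coe_inv, Matrix.adjugate_fin_two]; rfl
theorem inv_apply01 (g : SL(2,F)) : (g⁻¹) 0 1 = - g 0 1 := by
  rw [Matrix.SpecialLinearGroup.coe_inv, Matrix.adjugate_fin_two]; rfl
theorem inv_apply10 (g : SL(2,F)) : (g⁻¹) 1 0 = - g 1 0 := by
  rw [Matrix.SpecialLinearGroup.coe_inv, Matrix.adjugate_fin_two]; rfl
theorem inv_apply11 (g : SL(2,F)) : (g⁻¹) 1 1 = g 0 0 := by
  rw [Matrix.SpecialLinearGroup.coe_inv, Matrix.adjugate_fin_two]; rfl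

@[simp] theorem xu00 (t : F) : (xu t) 0 0 = 1 := rfl
@[simp] theorem xu01 (t : F) : (xu t) 0 1 = t := rfl
@[simp] theorem xu10 (t : F) : (xu t) 1 0 = 0 := rfl
@[simp] theorem xu11 (t : F) : (xu t) 1 1 = 1 := rfl
@[simp] theorem yl00 (t : F) : (yl t) 0 0 = 1 := rfl
@[simp] theorem yl01 (t : F) : (yl t) 0 1 = 0 := rfl
@[simp] theorem yl10 (t : F) : (yl t) 1 0 = t := rfl
@[simp] theorem yl11 (t : F) : (yl t) 1 1 = 1 := rfl

theorem xu_add (s t : F) : xu (s + t) = xu s * xu t := by
  apply sl_ext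
  · rw [mul_apply00]; simp
  · rw [mul_apply01]; simp [add_comm]
  · rw [mul_apply10]; simp
  · rw [mul_apply11]; simp

theorem xu_zero : xu (0 : F) = 1 := by
  apply sl_ext <;> simp

theorem xu_neg (t : F) : xu (-t) = (xu t)⁻¹ := by
  rw [eq_inv_iff_mul_eq_one, ← xu_add, neg_add_cancel, xu_zero]

theorem yl_add (s t : F) : yl (s + t) = yl s * yl t := by
  apply sl_ext
  · rw [mul_apply00]; simp
  · rw [mul_apply01]; simp
  · rw [mul_apply10]; simp
  · rw [mul_apply11]; simp

theorem yl_zero : yl (0 : F) = 1 := by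
  apply sl_ext <;> simp

theorem yl_neg (t : F) : yl (-t) = (yl t)⁻¹ := by
  rw [eq_inv_iff_mul_eq_one, ← yl_add, neg_add_cancel, yl_zero]

theorem xu_nsmul (n : ℕ) (t : F) : xu (n • t) = (xu t) ^ n := by
  induction n with
  | zero => simp [xu_zero]
  | succ n ih => rw [succ_nsmul, xu_add, ih, pow_succ]

theorem yl_nsmul (n : ℕ) (t : F) : yl (n • t) = (yl t) ^ n := by
  induction n with
  | zero => simp [yl_zero]
  | succ n ih => rw [succ_nsmul, yl_add, ih, pow_succ]

/-- the element `-1` of `SL₂` -/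
theorem neg_one_apply00 : (-1 : SL(2,F)) 0 0 = -1 := by
  rw [Matrix.SpecialLinearGroup.coe_neg]; simp
theorem neg_one_apply01 : (-1 : SL(2,F)) 0 1 = 0 := by
  rw [Matrix.SpecialLinearGroup.coe_neg]; simp
theorem neg_one_apply10 : (-1 : SL(2,F)) 1 0 = 0 := by
  rw [Matrix.SpecialLinearGroup.coe_neg]; simp
theorem neg_one_apply11 : (-1 : SL(2,F)) 1 1 = -1 := by
  rw [Matrix.SpecialLinearGroup.coe_neg]; simp

/-- membership in the centre -/
theorem mem_center_iff' (g : SL(2,F)) :
    g ∈ Subgroup.center SL(2,F) ↔ g 0 1 = 0 ∧ g 1 0 = 0 ∧ g 0 0 = g 1 1 := by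
  rw [Matrix.SpecialLinearGroup.mem_center_iff]
  constructor
  · rintro ⟨r, -, hr⟩
    have e : ∀ i j, g i j = (Matrix.scalar (Fin 2) r) i j := fun i j => by rw [hr]
    refine ⟨?_, ?_, ?_⟩
    · rw [e]; simp
    · rw [e]; simp
    · rw [e, e]; simp
  · rintro ⟨h01, h10, h00⟩
    refine ⟨g 0 0, ?_, ?_⟩
    · have hd := sl_det g
      rw [h01, zero_mul, sub_zero, ← h00] at hd
      rw [Fintype.card_fin, pow_two]
      exact hd
    · ext i j
      fin_cases i <;> fin_cases j <;> simp [h01, h10, h00]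

/-- commuting in `PSL₂` -/
theorem psl_comm {a b : SL(2,F)}
    (h : (a : Matrix.ProjectiveSpecialLinearGroup (Fin 2) F) * b = b * a) :
    ∃ r : F, r ^ 2 = 1 ∧ (∀ i j, (b * a) i j = r * (a * b) i j) := by
  have h1 : ((a * b : SL(2,F)) : Matrix.ProjectiveSpecialLinearGroup (Fin 2) F) =
      ((b * a : SL(2,F)) : Matrix.ProjectiveSpecialLinearGroup (Fin 2) F) := h
  have h2 : (a * b)⁻¹ * (b * a) ∈ Subgroup.center SL(2,F) := QuotientGroup.eq.mp h1
  rw [Matrix.SpecialLinearGroup.mem_center_iff] at h2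
  obtain ⟨r, hr, hs⟩ := h2
  rw [Fintype.card_fin] at hr
  refine ⟨r, hr, ?_⟩
  have h3 : (b * a : SL(2,F)) = (a * b) * ((a * b)⁻¹ * (b * a)) := by group
  intro i j
  have h4 : ((b * a : SL(2,F)) : Matrix (Fin 2) (Fin 2) F) =
      ((a * b : SL(2,F)) : Matrix (Fin 2) (Fin 2) F) * (Matrix.scalar (Fin 2) r) := by
    conv_lhs => rw [h3]
    rw [Matrix.SpecialLinearGroup.coe_mul, ← hs]
  rw [h4]
  simp [Matrix.mul_apply, Fin.sum_univ_two, Matrix.scalar_apply, Matrix.diagonal_apply]
  fin_cases j <;> simp [mul_comm]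

/-- the centraliser of an upper unitriangular element in `PSL₂` -/
theorem comm_xu (h2 : (2 : F) ≠ 0) {g : SL(2,F)} {t : F} (ht : t ≠ 0)
    (h : (g : Matrix.ProjectiveSpecialLinearGroup (Fin 2) F) * (xu t : SL(2,F)) = (xu t : SL(2,F)) * g) :
    g 1 0 = 0 ∧ g 0 0 = g 1 1 := by
  obtain ⟨r, hr, he⟩ := psl_comm h
  have e00 := he 0 0
  have e01 := he 0 1
  have e10 := he 1 0
  have e11 := he 1 1
  rw [mul_apply00, mul_apply00] at e00
  rw [mul_apply01, mul_apply01] at e01
  rw [mul_apply10, mul_apply10] at e10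
  rw [mul_apply11, mul_apply11] at e11
  simp at e00 e01 e10 e11
  have hr' : r = 1 ∨ r = -1 := by
    have : (r - 1) * (r + 1) = 0 := by ring_nf; rw [hr]; ring
    rcases mul_eq_zero.mp this with h | h
    · left; exact sub_eq_zero.mp h
    · right; exact eq_neg_of_add_eq_zero_left h
  have hd := sl_det g
  rcases hr' with rfl | rfl
  · rw [one_mul] at e00 e01
    have h10 : g 1 0 = 0 := by
      have : t * g 1 0 = 0 := by linear_combination e00
      rcases mul_eq_zero.mp this with h | h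
      · exact absurd h ht
      · exact h
    refine ⟨h10, ?_⟩
    have : t * (g 0 0 - g 1 1) = 0 := by linear_combination -e01
    rcases mul_eq_zero.mp this with h | h
    · exact absurd h ht
    · exact sub_eq_zero.mp h
  · exfalso
    have h10 : g 1 0 = 0 := by
      have : 2 * g 1 0 = 0 := by linear_combination e10
      rcases mul_eq_zero.mp this with h | h
      · exact absurd h h2
      · exact h
    have h00 : g 0 0 = 0 := by
      have : 2 * g 0 0 = 0 := by linear_combination e00 - t * h10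
      rcases mul_eq_zero.mp this with h | h
      · exact absurd h h2
      · exact h
    rw [h10, h00] at hd
    simp at hd

/-- the centraliser of a lower unitriangular element in `PSL₂` -/
theorem comm_yl (h2 : (2 : F) ≠ 0) {g : SL(2,F)} {t : F} (ht : t ≠ 0)
    (h : (g : Matrix.ProjectiveSpecialLinearGroup (Fin 2) F) * (yl t : SL(2,F)) = (yl t : SL(2,F)) * g) :
    g 0 1 = 0 ∧ g 0 0 = g 1 1 := by
  obtain ⟨r, hr, he⟩ := psl_comm h
  have e00 := he 0 0
  have e01 := he 0 1
  have e10 := he 1 0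
  have e11 := he 1 1
  rw [mul_apply00, mul_apply00] at e00
  rw [mul_apply01, mul_apply01] at e01
  rw [mul_apply10, mul_apply10] at e10
  rw [mul_apply11, mul_apply11] at e11
  simp at e00 e01 e10 e11
  have hr' : r = 1 ∨ r = -1 := by
    have : (r - 1) * (r + 1) = 0 := by ring_nf; rw [hr]; ring
    rcases mul_eq_zero.mp this with h | h
    · left; exact sub_eq_zero.mp h
    · right; exact eq_neg_of_add_eq_zero_left h
  have hd := sl_det g
  rcases hr' with rfl | rfl
  · rw [one_mul] at e00 e11 e10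
    have h01 : g 0 1 = 0 := by
      have : t * g 0 1 = 0 := by linear_combination -e00
      rcases mul_eq_zero.mp this with h | h
      · exact absurd h ht
      · exact h
    refine ⟨h01, ?_⟩
    have : t * (g 0 0 - g 1 1) = 0 := by linear_combination e10
    rcases mul_eq_zero.mp this with h | h
    · exact absurd h ht
    · exact sub_eq_zero.mp h
  · exfalso
    have h01 : g 0 1 = 0 := by
      have : 2 * g 0 1 = 0 := by linear_combination e01
      rcases mul_eq_zero.mp this with h | h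
      · exact absurd h h2
      · exact h
    have h11 : g 1 1 = 0 := by
      have : 2 * g 1 1 = 0 := by linear_combination e11 - t * h01
      rcases mul_eq_zero.mp this with h | h
      · exact absurd h h2
      · exact h
    rw [h01, h11] at hd
    simp at hd

/-- entries of a conjugate of `xu` -/
theorem conj_xu01 (g : SL(2,F)) (t : F) : (g * xu t * g⁻¹) 0 1 = t * g 0 0 ^ 2 := by
  rw [mul_apply01, mul_apply00, mul_apply01, inv_apply01, inv_apply11]
  simp
  ring

theorem conj_xu10 (g : SL(2,F)) (t : F) : (g * xu t * g⁻¹) 1 0 = - t * g 1 0 ^ 2 := by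
  rw [mul_apply10, mul_apply10, mul_apply11, inv_apply00, inv_apply10]
  simp
  ring

end Cfsg.Agent.Lib.helper6.SL2Conc
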