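import Mathlib
import Cfsg.Agent.Lib.helper6.SL2Conc

set_option autoImplicit false

namespace Cfsg.Agent.Lib.helper6.F9Mat

open Matrix Cfsg.Agent.Lib.helper6.SL2Conc
open scoped MatrixGroups

/-- 2x2 matrices over `F₃[i]`, entries stored as pairs of naturals -/
structure M9 where
  a0 : ℕ
  a1 : ℕ
  b0 : ℕ
  b1 : ℕ
  c0 : ℕ
  c1 : ℕ
  d0 : ℕ
  d1 : ℕ
deriving DecidableEq

def mul9 (x y : M9) : M9 :=
  ⟨(x.a0 * y.a0 + 2 * (x.a1 * y.a1) + x.b0 * y.c0 + 2 * (x.b1 * y.c1)) % 3,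
   (x.a0 * y.a1 + x.a1 * y.a0 + x.b0 * y.c1 + x.b1 * y.c0) % 3,
   (x.a0 * y.b0 + 2 * (x.a1 * y.b1) + x.b0 * y.d0 + 2 * (x.b1 * y.d1)) % 3,
   (x.a0 * y.b1 + x.a1 * y.b0 + x.b0 * y.d1 + x.b1 * y.d0) % 3,
   (x.c0 * y.a0 + 2 * (x.c1 * y.a1) + x.d0 * y.c0 + 2 * (x.d1 * y.c1)) % 3,
   (x.c0 * y.a1 + x.c1 * y.a0 + x.d0 * y.c1 + x.d1 * y.c0) % 3,
   (x.c0 * y.b0 + 2 * (x.c1 * y.b1) + x.d0 * y.d0 + 2 * (x.d1 * y.d1)) % 3,
   (x.c0 * y.b1 + x.c1 * y.b0 + x.d0 * y.d1 + x.d1 * y.d0) % 3⟩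

def one9 : M9 := ⟨1, 0, 0, 0, 0, 0, 1, 0⟩

def gen9 : Fin 2 → M9
  | 0 => ⟨1, 0, 0, 0, 1, 0, 1, 0⟩
  | 1 => ⟨1, 0, 0, 1, 0, 0, 1, 0⟩

/-- evaluate a word in the generators -/
def eval9 : List (Fin 2) → M9
  | [] => one9
  | i :: w => mul9 (gen9 i) (eval9 w)

def words9 : List (List (Fin 2)) := [[], [0], [1], [0, 0], [1, 0], [0, 1], [1, 1], [1, 0, 0], [0, 1, 0], [1, 1, 0], [0, 0, 1], [1, 0, 1], [0, 1, 1], [0, 1, 0, 0], [1, 1, 0, 0], [0, 0, 1, 0], [1, 0, 1, 0], [0, 1, 1, 0], [1, 0, 0, 1], [0, 1, 0, 1], [1, 1, 0, 1], [0, 0, 1, 1], [1, 0, 1, 1], [0, 0, 1, 0, 0], [1, 0, 1, 0, 0], [0, 1, 1, 0, 0], [1, 0, 0, 1, 0], [0, 1, 0, 1, 0], [1, 1, 0, 1, 0], [0, 0, 1, 1, 0], [1, 0, 1, 1, 0], [0, 1, 0, 0, 1], [1, 1, 0, 0, 1], [0, 0, 1, 0, 1], [0, 1, 1, 0, 1], [1, 0, 0, 1, 1], [0, 1, 0, 1, 1], [1, 1, 0, 1, 1], [1, 0, 0, 1, 0, 0], [0, 1, 0, 1, 0, 0], [1, 1, 0,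 1, 0, 0], [0, 0, 1, 1, 0, 0], [1, 0, 1, 1, 0, 0], [0, 1, 0, 0, 1, 0], [1, 1, 0, 0, 1, 0], [0, 0, 1, 0, 1, 0], [0, 1, 1, 0, 1, 0], [1, 0, 0, 1, 1, 0], [0, 1, 0, 1, 1, 0], [1, 1, 0, 1, 1, 0], [0, 0, 1, 0, 0, 1], [1, 0, 1, 0, 0, 1], [0, 1, 1, 0, 0, 1], [1, 0, 0, 1, 0, 1], [0, 0, 1, 1, 0, 1], [1, 0, 1, 1, 0, 1], [0, 1, 0, 0, 1, 1], [1, 1, 0, 0, 1, 1], [0, 0, 1, 0, 1, 1], [0, 1, 1, 0, 1, 1], [0, 1, 0, 0, 1, 0, 0], [1, 1, 0, 0, 1, 0, 0], [0, 0, 1, 0, 1, 0, 0], [0, 1, 1, 0, 1, 0, 0], [1, 0, 0, 1, 1, 0, 0], [0, 1, 0, 1, 1, 0, 0], [1, 1, 0, 1, 1, 0, 0], [0, 0, 1, 0, 0, 1, 0], [1, 0, 1, 0, 0, 1, 0], [0, 1, 1, 0, 0, 1, 0], [1, 0, 0, 1, 0, 1, 0], [0, 0, 1, 1, 0, 1, 0], [1, 0, 1, 1, 0, 1, 0], [0, 1, 0, 0, 1, 1, 0], [1, 1, 0, 0, 1, 1, 0], [0, 0, 1, 0, 1, 1, 0], [0, 1, 1, 0, 1, 1, 0], [1, 0, 0, 1, 0, 0, 1], [1, 1, 0, 1, 0, 0, 1], [0, 0, 1, 1, 0, 0, 1], [1,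 0, 1, 1, 0, 0, 1], [0, 1, 0, 0, 1, 0, 1], [1, 0, 0, 1, 1, 0, 1], [0, 1, 0, 1, 1, 0, 1], [1, 1, 0, 1, 1, 0, 1], [0, 0, 1, 0, 0, 1, 1], [0, 1, 1, 0, 0, 1, 1], [1, 0, 0, 1, 0, 1, 1], [0, 0, 1, 1, 0, 1, 1], [1, 0, 1, 1, 0, 1, 1], [1, 0, 1, 0, 0, 1, 0, 0], [1, 0, 0, 1, 0, 1, 0, 0], [0, 0, 1, 1, 0, 1, 0, 0], [1, 0, 1, 1, 0, 1, 0, 0], [0, 1, 0, 0, 1, 1, 0, 0], [1, 1, 0, 0, 1, 1, 0, 0], [0, 0, 1, 0, 1, 1, 0, 0], [1, 1, 0, 1, 0, 0, 1, 0], [0, 0, 1, 1, 0, 0, 1, 0], [1, 0, 1, 1, 0, 0, 1, 0], [0, 1, 0, 0, 1, 0, 1, 0], [1, 0, 0, 1, 1, 0, 1, 0], [0, 1, 0, 1, 1, 0, 1, 0], [1, 1, 0, 1, 1, 0, 1, 0], [0, 1, 1, 0, 0, 1, 1, 0], [1, 0, 0, 1, 1, 0, 0, 1], [0, 1, 0, 1, 1, 0, 0, 1], [1, 0, 1, 0, 0, 1, 0, 1], [0, 1, 0, 0, 1, 1, 0, 1], [0, 0, 1, 0, 1, 1, 0, 1], [0, 0, 1, 1, 0, 0, 1, 1], [0, 1, 0, 0, 1, 0, 1, 1], [0, 1, 0, 0, 1, 0, 1, 0, 0], [0, 1, 0, 1, 1, 0, 1, 0, 0],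 [0, 1, 1, 0, 0, 1, 1, 0, 0], [1, 0, 1, 0, 0, 1, 0, 1, 0], [0, 0, 1, 0, 1, 1, 0, 1, 0], [0, 0, 1, 1, 0, 0, 1, 1, 0], [1, 0, 1, 0, 0, 1, 0, 1, 0, 0], [0, 0, 1, 1, 0, 0, 1, 1, 0, 0]]

theorem words9_nil : [] ∈ words9 := by decide

set_option maxRecDepth 100000 in
theorem words9_closed : ∀ i : Fin 2, ∀ w ∈ words9, mul9 (gen9 i) (eval9 w) ∈ words9.map eval9 := by
  decide +kernel

theorem words9_length : words9.length = 120 := by decide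

section field

variable {F : Type*} [Field F]

def toMat (lam : F) (x : M9) : Matrix (Fin 2) (Fin 2) F :=
  !![(x.a0 : F) + (x.a1 : F) * lam, (x.b0 : F) + (x.b1 : F) * lam;
     (x.c0 : F) + (x.c1 : F) * lam, (x.d0 : F) + (x.d1 : F) * lam]

theorem cast_mod3 (h3 : (3 : F) = 0) (n : ℕ) : ((n % 3 : ℕ) : F) = (n : F) := by
  conv_rhs => rw [← Nat.div_add_mod n 3]
  rw [Nat.cast_add, Nat.cast_mul]
  have : ((3 : ℕ) : F) = 0 := by exact_mod_cast h3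
  rw [this, zero_mul, zero_add]

theorem toMat_mul9 (h3 : (3 : F) = 0) (lam : F) (hl : lam ^ 2 = -1) (x y : M9) :
    toMat lam (mul9 x y) = toMat lam x * toMat lam y := by
  unfold toMat mul9
  ext i j
  have key : ∀ P : F, P * 2 - P * lam ^ 2 = 0 := by
    intro P
    linear_combination P * h3 - P * hl
  fin_cases i <;> fin_cases j <;>
    simp only [Matrix.mul_apply, Fin.sum_univ_two, Matrix.of_apply, Matrix.cons_val', Matrix.cons_val_zero,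
      Matrix.cons_val_one, Matrix.empty_val', Matrix.cons_val_fin_one, Fin.zero_eta, Fin.mk_one,
      cast_mod3 h3] <;>
    push_cast
  · linear_combination key ((x.a1 : F) * y.a1 + (x.b1 : F) * y.c1)
  · linear_combination key ((x.a1 : F) * y.b1 + (x.b1 : F) * y.d1)
  · linear_combination key ((x.c1 : F) * y.a1 + (x.d1 : F) * y.c1)
  · linear_combination key ((x.c1 : F) * y.b1 + (x.d1 : F) * y.d1)


variable (lam : F)

/-- the two generators -/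
def G9 : Fin 2 → SL(2,F)
  | 0 => yl 1
  | 1 => xu lam

/-- evaluate a word in the group -/
def evalSL : List (Fin 2) → SL(2,F)
  | [] => 1
  | i :: w => G9 lam i * evalSL w

theorem G9_coe (i : Fin 2) : ((G9 lam i : SL(2,F)) : Matrix (Fin 2) (Fin 2) F) = toMat lam (gen9 i) := by
  fin_cases i
  · show ((yl 1 : SL(2,F)) : Matrix (Fin 2) (Fin 2) F) = _
    unfold toMat gen9
    ext i j
    fin_cases i <;> fin_cases j <;> simp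
  · show ((xu lam : SL(2,F)) : Matrix (Fin 2) (Fin 2) F) = _
    unfold toMat gen9
    ext i j
    fin_cases i <;> fin_cases j <;> simp

theorem toMat_one9 : toMat lam one9 = 1 := by
  unfold toMat one9
  ext i j
  fin_cases i <;> fin_cases j <;> simp

theorem evalSL_coe (h3 : (3 : F) = 0) (hl : lam ^ 2 = -1) (w : List (Fin 2)) :
    ((evalSL lam w : SL(2,F)) : Matrix (Fin 2) (Fin 2) F) = toMat lam (eval9 w) := by
  induction w with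
  | nil => simp [evalSL, eval9, toMat_one9]
  | cons i w ih =>
    simp only [evalSL, eval9, Matrix.SpecialLinearGroup.coe_mul, G9_coe, ih, toMat_mul9 h3 lam hl]

theorem closure_subset (h3 : (3 : F) = 0) (hl : lam ^ 2 = -1) :
    (Subgroup.closure (Set.range (G9 lam)) : Set SL(2,F)) ⊆ {g | ∃ w ∈ words9, g = evalSL lam w} := by
  have hfin : ({g | ∃ w ∈ words9, g = evalSL lam w} : Set SL(2,F)).Finite := by
    have : ({g | ∃ w ∈ words9, g = evalSL lam w} : Set SL(2,F)) =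
        (fun w => evalSL lam w) '' {w | w ∈ words9} := by
      ext g
      constructor
      · rintro ⟨w, hw, rfl⟩; exact ⟨w, hw, rfl⟩
      · rintro ⟨w, hw, rfl⟩; exact ⟨w, hw, rfl⟩
    rw [this]
    exact (List.finite_toSet words9).image _
  have hmaps : ∀ i, Set.MapsTo (fun g => G9 lam i * g) {g | ∃ w ∈ words9, g = evalSL lam w}
      {g | ∃ w ∈ words9, g = evalSL lam w} := by
    rintro i _ ⟨w, hw, rfl⟩
    have h1 := words9_closed i w hw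
    rw [List.mem_map] at h1
    obtain ⟨w', hw', he⟩ := h1
    refine ⟨w', hw', ?_⟩
    apply Subtype.ext
    rw [Matrix.SpecialLinearGroup.coe_mul, G9_coe, evalSL_coe lam h3 hl, evalSL_coe lam h3 hl, he,
      toMat_mul9 h3 lam hl]
  intro g hg
  induction hg using Subgroup.closure_induction_left with
  | one => exact ⟨[], words9_nil, rfl⟩
  | mul_left x hx y _ ih =>
    obtain ⟨i, rfl⟩ := hx
    exact hmaps i ih
  | inv_mul_cancel x hx y _ ih =>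
    obtain ⟨i, rfl⟩ := hx
    have hinj : Set.InjOn (fun g => G9 lam i * g) {g | ∃ w ∈ words9, g = evalSL lam w} := by
      intro a _ b _ hab
      exact mul_left_cancel hab
    have hbij := (Set.Finite.injOn_iff_bijOn_of_mapsTo hfin (hmaps i)).mp hinj
    obtain ⟨z, hz, hzy⟩ := hbij.surjOn ih
    have : (G9 lam i)⁻¹ * y = z := by
      rw [← hzy]
      simp
    rw [this]
    exact hz

/-- the order bound in the exceptional case -/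
theorem card_closure_le (h3 : (3 : F) = 0) (hl : lam ^ 2 = -1) :
    Nat.card (Subgroup.closure (Set.range (G9 lam))) ≤ 120 := by
  classical
  have h1 := closure_subset lam h3 hl
  have h2 : ({g | ∃ w ∈ words9, g = evalSL lam w} : Set SL(2,F)) =
      ↑(words9.toFinset.image (evalSL lam)) := by
    ext g
    simp only [Set.mem_ofPred_eq, Finset.coe_image, List.coe_toFinset, Set.mem_image]
    constructor
    · rintro ⟨w, hw, rfl⟩; exact ⟨w, hw, rfl⟩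
    · rintro ⟨w, hw, rfl⟩; exact ⟨w, hw, rfl⟩
  rw [h2] at h1
  have h3' : Nat.card (Subgroup.closure (Set.range (G9 lam))) =
      (Subgroup.closure (Set.range (G9 lam)) : Set SL(2,F)).ncard := by
    rw [← Nat.card_coe_set_eq]
    rfl
  rw [h3']
  calc (Subgroup.closure (Set.range (G9 lam)) : Set SL(2,F)).ncard
      ≤ (↑(words9.toFinset.image (evalSL lam)) : Set SL(2,F)).ncard :=
        Set.ncard_le_ncard h1 (Finset.finite_toSet _)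
    _ = (words9.toFinset.image (evalSL lam)).card := Set.ncard_coe_finset _
    _ ≤ words9.toFinset.card := Finset.card_image_le
    _ ≤ words9.length := List.toFinset_card_le _
    _ = 120 := words9_length

end field

end Cfsg.Agent.Lib.helper6.F9Mat
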