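import Mathlib
import Cfsg.Agent.Lib.helper6.SL2Conc

set_option autoImplicit false

namespace Cfsg.Agent.Lib.helper6.SL2Five

open Matrix Cfsg.Agent.Lib.helper6.SL2Conc
open scoped MatrixGroups

variable {F : Type*} [Field F]

/-- Cayley–Hamilton for `SL₂` -/
theorem sq_eq (g : SL(2,F)) :
    (g : Matrix (Fin 2) (Fin 2) F) * (g : Matrix (Fin 2) (Fin 2) F) =
      (g 0 0 + g 1 1) • (g : Matrix (Fin 2) (Fin 2) F) - 1 := by
  have hd := sl_det g
  ext i j
  fin_cases i <;> fin_cases j <;>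
    simp [Matrix.mul_apply, Fin.sum_univ_two]
  · linear_combination -hd
  · ring
  · ring
  · linear_combination -hd

/-- the fifth power in terms of the trace -/
theorem pow_five_eq (g : SL(2,F)) :
    (g : Matrix (Fin 2) (Fin 2) F) ^ 5 =
      ((g 0 0 + g 1 1) ^ 4 - 3 * (g 0 0 + g 1 1) ^ 2 + 1) • (g : Matrix (Fin 2) (Fin 2) F) -
        ((g 0 0 + g 1 1) ^ 3 - 2 * (g 0 0 + g 1 1)) • (1 : Matrix (Fin 2) (Fin 2) F) := by
  obtain ⟨M, hM⟩ : ∃ M : Matrix (Fin 2) (Fin 2) F, M = (g : Matrix (Fin 2) (Fin 2) F) := ⟨_, rfl⟩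
  obtain ⟨τ, hτ⟩ : ∃ τ : F, τ = g 0 0 + g 1 1 := ⟨_, rfl⟩
  have h2 : M * M = τ • M - 1 := by rw [hM, hτ]; exact sq_eq g
  rw [← hτ, ← hM]
  have h3 : M * M * M = (τ ^ 2 - 1) • M - τ • (1 : Matrix (Fin 2) (Fin 2) F) := by
    rw [h2, Matrix.sub_mul, Matrix.smul_mul, h2, Matrix.one_mul]
    module
  have h4 : M * M * M * M = (τ ^ 3 - 2 * τ) • M - (τ ^ 2 - 1) • (1 : Matrix (Fin 2) (Fin 2) F) := by
    rw [h3, Matrix.sub_mul, Matrix.smul_mul, h2, Matrix.smul_mul, Matrix.one_mul]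
    module
  have h5 : M * M * M * M * M =
      (τ ^ 4 - 3 * τ ^ 2 + 1) • M - (τ ^ 3 - 2 * τ) • (1 : Matrix (Fin 2) (Fin 2) F) := by
    rw [h4, Matrix.sub_mul, Matrix.smul_mul, h2, Matrix.smul_mul, Matrix.one_mul]
    module
  rw [pow_succ, pow_succ, pow_succ, pow_succ, pow_one]
  exact h5

/-- an element with fifth power in the centre and non-zero lower left entry -/
theorem trace_of_pow_five (g : SL(2,F)) (hc : g 1 0 ≠ 0) (h : g ^ 5 ∈ Subgroup.center SL(2,F)) :
    (g 0 0 + g 1 1) ^ 4 - 3 * (g 0 0 + g 1 1) ^ 2 + 1 = 0 := by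
  have h1 := ((mem_center_iff' (g ^ 5)).mp h).2.1
  rw [Matrix.SpecialLinearGroup.coe_pow, pow_five_eq] at h1
  simp at h1
  rcases h1 with h1 | h1
  · exact h1
  · exact absurd h1 hc

/-- an involution of `SL₂` in characteristic not two is `-1` -/
theorem eq_neg_one_of_sq (h2 : (2 : F) ≠ 0) (g : SL(2,F)) (hg : g ^ 2 = 1) (hg1 : g ≠ 1) : g = -1 := by
  have h1 : (g : Matrix (Fin 2) (Fin 2) F) * (g : Matrix (Fin 2) (Fin 2) F) = 1 := by
    rw [← Matrix.SpecialLinearGroup.coe_mul, ← pow_two, hg]; rfl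
  rw [sq_eq] at h1
  have hd := sl_det g
  have e00 := congrFun (congrFun h1 0) 0
  have e01 := congrFun (congrFun h1 0) 1
  have e10 := congrFun (congrFun h1 1) 0
  have e11 := congrFun (congrFun h1 1) 1
  simp at e00 e01 e10 e11
  -- τ * g = 2
  have hτ : g 0 0 + g 1 1 ≠ 0 := by
    intro h
    rw [h, zero_mul] at e00
    have : (2 : F) = 0 := by linear_combination -e00
    exact h2 this
  have h01 : g 0 1 = 0 := by
    rcases e01 with h | h
    · exact absurd h hτ
    · exact h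
  have h10 : g 1 0 = 0 := by
    rcases e10 with h | h
    · exact absurd h hτ
    · exact h
  rw [h01, h10] at hd
  have hdd : g 0 0 * g 1 1 = 1 := by linear_combination hd
  have h00 : g 0 0 = g 1 1 := by
    have : (g 0 0 + g 1 1) * (g 0 0 - g 1 1) = 0 := by linear_combination e00 - e11
    rcases mul_eq_zero.mp this with h | h
    · exact absurd h hτ
    · exact sub_eq_zero.mp h
  have hsq : (g 0 0 - 1) * (g 0 0 + 1) = 0 := by
    rw [← h00] at hdd
    linear_combination hdd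
  rcases mul_eq_zero.mp hsq with h | h
  · exfalso
    apply hg1
    have h00' : g 0 0 = 1 := sub_eq_zero.mp h
    apply sl_ext
    · rw [h00']; simp
    · rw [h01]; simp
    · rw [h10]; simp
    · rw [← h00, h00']; simp
  · have h00' : g 0 0 = -1 := eq_neg_of_add_eq_zero_left h
    apply sl_ext
    · rw [h00', neg_one_apply00]
    · rw [h01, neg_one_apply01]
    · rw [h10, neg_one_apply10]
    · rw [← h00, h00', neg_one_apply11]

end Cfsg.Agent.Lib.helper6.SL2Five
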