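import Mathlib
import Cfsg.Agent.Lib.helper6.SL2Conc

set_option autoImplicit false

namespace Cfsg.Agent.Lib.helper6.SL2Gen

open Matrix Cfsg.Agent.Lib.helper6.SL2Conc
open scoped MatrixGroups

variable {F : Type*} [Field F]

/-- Hua-type lemma: an additive subgroup containing `1`, closed under inversion, in odd
characteristic, is closed under multiplication -/
theorem hua_mul (p : ℕ) [Fact p.Prime] [CharP F p] (hp2 : p ≠ 2) (A : AddSubgroup F)
    (h1 : (1 : F) ∈ A) (hinv : ∀ a ∈ A, a ≠ 0 → a⁻¹ ∈ A) : ∀ a ∈ A, ∀ b ∈ A, a * b ∈ A := by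
  have hpP : p.Prime := Fact.out
  have hsq : ∀ a ∈ A, a ^ 2 ∈ A := by
    intro a ha
    by_cases ha0 : a = 0
    · rw [ha0]; simp
    by_cases ha1 : a = 1
    · rw [ha1]; simpa using h1
    have h1a : (1 - a) ∈ A := A.sub_mem h1 ha
    have h1a0 : (1 - a) ≠ 0 := fun h => ha1 (sub_eq_zero.mp h).symm
    have hs : a⁻¹ + (1 - a)⁻¹ ∈ A := A.add_mem (hinv a ha ha0) (hinv _ h1a h1a0)
    have hse : a⁻¹ + (1 - a)⁻¹ = (a * (1 - a))⁻¹ := by
      field_simp
      ring
    have hs0 : a⁻¹ + (1 - a)⁻¹ ≠ 0 := by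
      rw [hse]
      exact inv_ne_zero (mul_ne_zero ha0 h1a0)
    have h3 := hinv _ hs hs0
    rw [hse, inv_inv] at h3
    have h4 : a ^ 2 = a - a * (1 - a) := by ring
    rw [h4]
    exact A.sub_mem ha h3
  have hodd : p % 2 = 1 := by
    rcases hpP.eq_two_or_odd with h | h
    · exact absurd h hp2
    · exact h
  have hhalf : ∀ x ∈ A, x / 2 ∈ A := by
    intro x hx
    have h2 : (2 : F) ≠ 0 := by
      intro h
      have h3 : ((2 : ℕ) : F) = 0 := by exact_mod_cast h
      rw [CharP.cast_eq_zero_iff F p] at h3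
      have := Nat.le_of_dvd (by norm_num) h3
      have := hpP.two_le
      omega
    have h3 : x / 2 = ((p + 1) / 2 : ℕ) • x := by
      rw [nsmul_eq_mul]
      have h4 : (((p + 1) / 2 : ℕ) : F) * 2 = 1 := by
        have h5 : (p + 1) / 2 * 2 = p + 1 := by omega
        have h6 : ((((p + 1) / 2 * 2 : ℕ)) : F) = ((p + 1 : ℕ) : F) := by rw [h5]
        rw [Nat.cast_mul, Nat.cast_add, CharP.cast_eq_zero F p] at h6
        simpa using h6
      field_simp
      linear_combination -x * h4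
    rw [h3]
    exact A.nsmul_mem hx _
  intro a ha b hb
  have h4 : a * b = ((a + b) ^ 2 - a ^ 2 - b ^ 2) / 2 := by
    have h2 : (2 : F) ≠ 0 := by
      intro h
      have h3 : ((2 : ℕ) : F) = 0 := by exact_mod_cast h
      rw [CharP.cast_eq_zero_iff F p] at h3
      have := Nat.le_of_dvd (by norm_num) h3
      have := hpP.two_le
      omega
    field_simp
    ring
  rw [h4]
  apply hhalf
  exact A.sub_mem (A.sub_mem (hsq _ (A.add_mem ha hb)) (hsq _ ha)) (hsq _ hb)

/-- the Weyl element -/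
theorem weyl_entries :
    (xu (1 : F) * yl (-1) * xu 1 : SL(2,F)) 0 0 = 0 ∧ (xu (1 : F) * yl (-1) * xu 1 : SL(2,F)) 0 1 = 1 ∧
    (xu (1 : F) * yl (-1) * xu 1 : SL(2,F)) 1 0 = -1 ∧ (xu (1 : F) * yl (-1) * xu 1 : SL(2,F)) 1 1 = 0 := by
  refine ⟨?_, ?_, ?_, ?_⟩
  · rw [mul_apply00, mul_apply00, mul_apply01]; simp
  · rw [mul_apply01, mul_apply00, mul_apply01]; simp
  · rw [mul_apply10, mul_apply10, mul_apply11]; simp
  · rw [mul_apply11, mul_apply10, mul_apply11]; simp

theorem weyl_conj_aux (n : SL(2,F)) (n00 : n 0 0 = 0) (n01 : n 0 1 = 1) (n10 : n 1 0 = -1)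
    (n11 : n 1 1 = 0) (a : F) : n * xu a * n⁻¹ = yl (-a) := by
  apply sl_ext
  · rw [mul_apply00, mul_apply00, mul_apply01, inv_apply00, inv_apply10, n00, n01, n10, n11]; simp
  · rw [mul_apply01, mul_apply00, mul_apply01, inv_apply01, inv_apply11, n00, n01]; simp
  · rw [mul_apply10, mul_apply10, mul_apply11, inv_apply00, inv_apply10, n10, n11]; simp
  · rw [mul_apply11, mul_apply10, mul_apply11, inv_apply01, inv_apply11, n00, n01, n10, n11]; simp

theorem weyl_conj (a : F) :
    (xu (1 : F) * yl (-1) * xu 1) * xu a * (xu (1 : F) * yl (-1) * xu 1)⁻¹ = yl (-a) := by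
  obtain ⟨n00, n01, n10, n11⟩ := weyl_entries (F := F)
  exact weyl_conj_aux _ n00 n01 n10 n11 a

/-- `SL₂` is generated by the elementary matrices -/
theorem top_of_xu_yl (L : Subgroup SL(2,F)) (hx : ∀ t : F, xu t ∈ L) (hy : ∀ t : F, yl t ∈ L) :
    L = ⊤ := by
  rw [eq_top_iff]
  intro g _
  have key : ∀ g : SL(2,F), g 1 0 ≠ 0 → g ∈ L := by
    intro g hc
    have hd := sl_det g
    have e : g = xu ((g 0 0 - 1) / g 1 0) * yl (g 1 0) * xu ((g 1 1 - 1) / g 1 0) := by
      apply sl_ext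
      · rw [mul_apply00, mul_apply00, mul_apply01]; simp; field_simp; ring
      · rw [mul_apply01, mul_apply00, mul_apply01]; simp; field_simp; linear_combination -hd
      · rw [mul_apply10, mul_apply10, mul_apply11]; simp
      · rw [mul_apply11, mul_apply10, mul_apply11]; simp; field_simp; ring
    rw [e]
    exact L.mul_mem (L.mul_mem (hx _) (hy _)) (hx _)
  by_cases hc : g 1 0 = 0
  · have hd := sl_det g
    have h00 : g 0 0 ≠ 0 := by
      intro h
      rw [h, hc] at hd
      simp at hd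
    have h1 : (yl 1 * g) ∈ L := by
      apply key
      rw [mul_apply10]
      simp [hc, h00]
    have h2 : g = (yl 1)⁻¹ * (yl 1 * g) := by group
    rw [h2]
    exact L.mul_mem (L.inv_mem (hy 1)) h1
  · exact key g hc

/-- the generic case of Dickson's generation theorem -/
theorem gen_top (p : ℕ) [Fact p.Prime] [CharP F p] (hp2 : p ≠ 2) (L : Subgroup SL(2,F)) (lam : F)
    (hx : xu lam ∈ L) (hy : yl (1 : F) ∈ L)
    (hG : ∀ g ∈ L, g 1 0 ≠ 0 → xu (g 0 0 / g 1 0) ∈ L)
    (hgen : Subfield.closure ({lam} : Set F) = ⊤) : L = ⊤ := by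
  let A : AddSubgroup F :=
    { carrier := {t | xu t ∈ L}
      zero_mem' := by
        show xu 0 ∈ L
        rw [xu_zero]; exact L.one_mem
      add_mem' := by
        intro a b ha hb
        show xu (a + b) ∈ L
        rw [xu_add]; exact L.mul_mem ha hb
      neg_mem' := by
        intro a ha
        show xu (-a) ∈ L
        rw [xu_neg]; exact L.inv_mem ha }
  have hA : ∀ t, t ∈ A ↔ xu t ∈ L := fun t => Iff.rfl
  have h1 : (1 : F) ∈ A := by
    rw [hA]
    have := hG (yl 1) hy (by simp)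
    simpa using this
  have hn : (xu (1 : F) * yl (-1) * xu 1) ∈ L := by
    have h1' : xu (1 : F) ∈ L := (hA 1).mp h1
    have h2' : yl (-1 : F) ∈ L := by rw [yl_neg]; exact L.inv_mem hy
    exact L.mul_mem (L.mul_mem h1' h2') h1'
  have hyl : ∀ a ∈ A, yl (-a) ∈ L := by
    intro a ha
    rw [← weyl_conj]
    exact L.mul_mem (L.mul_mem hn ((hA a).mp ha)) (L.inv_mem hn)
  have hinv : ∀ a ∈ A, a ≠ 0 → a⁻¹ ∈ A := by
    intro a ha ha0
    have h3 := hG (yl (-a)) (hyl a ha) (by simpa using ha0)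
    have h4 : (yl (-a)) 0 0 / (yl (-a)) 1 0 = -a⁻¹ := by
      simp
    rw [h4] at h3
    have h5 : -a⁻¹ ∈ A := (hA _).mpr h3
    have := A.neg_mem h5
    rwa [neg_neg] at this
  have hmul := hua_mul p hp2 A h1 hinv
  let S : Subfield F :=
    { carrier := {t | xu t ∈ L}
      mul_mem' := fun {a b} ha hb => hmul a ha b hb
      one_mem' := h1
      add_mem' := fun {a b} ha hb => A.add_mem ha hb
      zero_mem' := A.zero_mem
      neg_mem' := fun {a} ha => A.neg_mem ha
      inv_mem' := by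
        intro a ha
        by_cases ha0 : a = 0
        · rw [ha0, _root_.inv_zero]; exact A.zero_mem
        · exact hinv a ha ha0 }
  have hS : S = ⊤ := by
    rw [eq_top_iff, ← hgen, Subfield.closure_le]
    intro t ht
    rw [Set.mem_singleton_iff] at ht
    rw [ht]
    exact hx
  have hxall : ∀ t : F, xu t ∈ L := by
    intro t
    have : t ∈ S := by rw [hS]; exact Subfield.mem_top t
    exact this
  apply top_of_xu_yl L hxall
  intro t
  have := hyl (-t) (hxall (-t))
  rwa [neg_neg] at this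

end Cfsg.Agent.Lib.helper6.SL2Gen
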