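import Mathlib
import Cfsg.Agent.Lib.helper3.DicksonConcB
import Cfsg.Agent.Lib.helper3.DicksonAsm
import Cfsg.Agent.Lib.helper15.SL2Card
import Cfsg.Agent.Lib.helper6.DicksonTwo
import Cfsg.Agent.Lib.helper6.SL2Conc
import Cfsg.Agent.Lib.helper6.SL2Gen
import Cfsg.Agent.Lib.helper6.SL2Five
import Cfsg.Agent.Lib.helper6.F9Mat
import Cfsg.Agent.Lib.helper6.F9Card
import Cfsg.Agent.Lib.helper6.A5Pair

set_option autoImplicit false

namespace Cfsg.Agent.Lib.helper6.Dickson801

open Matrix MulAction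
open scoped MatrixGroups
open Cfsg.Agent.Lib.helper6.SL2Conc Cfsg.Agent.Lib.helper6.Dickson

variable {F : Type*} [Field F] [Fintype F]

local notation "PSL" => Matrix.ProjectiveSpecialLinearGroup (Fin 2) F

/-- the quotient map `SL₂ → PSL₂` -/
noncomputable def qm : SL(2,F) →* PSL := QuotientGroup.mk' (Subgroup.center SL(2,F))

theorem qm_apply (g : SL(2,F)) : qm g = (g : PSL) := rfl

theorem qm_eq_one_iff (g : SL(2,F)) : qm g = 1 ↔ g ∈ Subgroup.center SL(2,F) :=
  QuotientGroup.eq_one_iff g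

/-- a non-commutation criterion -/
theorem not_comm_conj (h2 : (2 : F) ≠ 0) {lam : F} (hlam : lam ≠ 0) {g : SL(2,F)} (hc : g 1 0 ≠ 0) :
    qm (g * xu lam * g⁻¹) * qm (xu lam) ≠ qm (xu lam) * qm (g * xu lam * g⁻¹) := by
  intro h
  have h1 := (comm_xu h2 hlam h).1
  rw [conj_xu10] at h1
  have : lam * g 1 0 ^ 2 = 0 := by linear_combination -h1
  rcases mul_eq_zero.mp this with h3 | h3
  · exact hlam h3
  · exact hc (pow_eq_zero_iff (by norm_num) |>.mp h3)

/-- an element of the form `±xu s` lying in a subgroup forces `xu s` into it -/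
theorem xu_mem_of_pm (p : ℕ) [Fact p.Prime] [CharP F p] (hp2 : p ≠ 2) (L : Subgroup SL(2,F))
    {g : SL(2,F)} (hg : g ∈ L) (h10 : g 1 0 = 0) (h00 : g 0 0 = g 1 1) :
    xu (g 0 1 / g 0 0) ∈ L := by
  have hpP : p.Prime := Fact.out
  have hd := sl_det g
  rw [h10, mul_zero, sub_zero, ← h00] at hd
  have hsq : (g 0 0 - 1) * (g 0 0 + 1) = 0 := by linear_combination hd
  rcases mul_eq_zero.mp hsq with h | h
  · have h00' : g 0 0 = 1 := sub_eq_zero.mp h
    have : xu (g 0 1 / g 0 0) = g := by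
      apply sl_ext
      · simp [h00']
      · simp [h00']
      · simp [h10]
      · rw [← h00, h00']; simp
    rw [this]; exact hg
  · have h00' : g 0 0 = -1 := eq_neg_of_add_eq_zero_left h
    have hneg : g = -xu (g 0 1 / g 0 0) := by
      apply sl_ext
      · rw [Matrix.SpecialLinearGroup.coe_neg]; simp [h00']
      · rw [Matrix.SpecialLinearGroup.coe_neg]; simp [h00', div_neg]
      · rw [Matrix.SpecialLinearGroup.coe_neg]; simp [h10]
      · rw [Matrix.SpecialLinearGroup.coe_neg, ← h00, h00']; simp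
    have hodd : Odd p := by
      rcases hpP.eq_two_or_odd' with h | h
      · exact absurd h hp2
      · exact h
    have hpow : g ^ p = -1 := by
      rw [hneg, Odd.neg_pow hodd, ← xu_nsmul]
      have : p • (g 0 1 / g 0 0) = 0 := by
        rw [nsmul_eq_mul, CharP.cast_eq_zero F p, zero_mul]
      rw [this, xu_zero]
    have hm1 : (-1 : SL(2,F)) ∈ L := by rw [← hpow]; exact L.pow_mem hg p
    have : xu (g 0 1 / g 0 0) = (-1 : SL(2,F)) * g := by
      rw [hneg]; simp
    rw [this]
    exact L.mul_mem hm1 hg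


theorem range_G9 (lam : F) : Set.range (Cfsg.Agent.Lib.helper6.F9Mat.G9 lam) = ({yl (1 : F), xu lam} : Set SL(2,F)) := by
  ext g
  constructor
  · rintro ⟨i, rfl⟩
    fin_cases i
    · left; rfl
    · right; rfl
  · rintro (rfl | rfl)
    · exact ⟨0, rfl⟩
    · exact ⟨1, rfl⟩

set_option maxHeartbeats 1600000 in
/-- Dickson's generation theorem -/
theorem dickson_gen (h2 : (2 : F) ≠ 0) (lam : F) (hlam : lam ≠ 0)
    (hgen : Subfield.closure ({lam} : Set F) = ⊤) :
    (Subgroup.closure ({yl (1 : F), xu lam} : Set SL(2,F)) = ⊤ ∧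
        ¬ (Fintype.card F = 9 ∧ lam ^ 2 = -1)) ∨
    (Fintype.card F = 9 ∧ lam ^ 2 = -1 ∧
      Nat.card (Subgroup.closure ({yl (1 : F), xu lam} : Set SL(2,F))) = 120) := by
  classical
  obtain ⟨p, hpc⟩ := CharP.exists F
  haveI := hpc
  have hpP : p.Prime := CharP.char_is_prime F p
  haveI : Fact p.Prime := ⟨hpP⟩
  have hp2 : p ≠ 2 := by
    intro h
    subst h
    apply h2
    exact_mod_cast CharP.cast_eq_zero F 2
  obtain ⟨L, hL⟩ : ∃ L : Subgroup SL(2,F), L = Subgroup.closure ({yl (1 : F), xu lam} : Set SL(2,F)) :=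
    ⟨_, rfl⟩
  rw [← hL]
  have hy : yl (1 : F) ∈ L := by rw [hL]; exact Subgroup.subset_closure (by simp)
  have hx : xu lam ∈ L := by rw [hL]; exact Subgroup.subset_closure (by simp)
  -- the image in PSL₂
  obtain ⟨H, hH⟩ : ∃ H : Subgroup PSL, H = L.map qm := ⟨_, rfl⟩
  have hHmem : ∀ g ∈ L, qm g ∈ H := fun g hg => by rw [hH]; exact Subgroup.mem_map_of_mem qm hg
  obtain ⟨u, hu⟩ : ∃ u : H, (u : PSL) = qm (xu lam) := ⟨⟨qm (xu lam), hHmem _ hx⟩, rfl⟩
  obtain ⟨v, hv⟩ : ∃ v : H, (v : PSL) = qm (yl 1) := ⟨⟨qm (yl 1), hHmem _ hy⟩, rfl⟩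
  obtain ⟨X, inst, D⟩ := Cfsg.Agent.Lib.helper3.psl2_dact (F := F) p
  letI : MulAction PSL X := inst
  have DH := Cfsg.Agent.Lib.helper3.dk_restrict D H
  have hu1 : u ≠ 1 := by
    intro h
    have h' : (u : PSL) = 1 := by rw [h]; rfl
    rw [hu, qm_eq_one_iff, mem_center_iff'] at h'
    exact hlam (by simpa using h'.1)
  have hv1 : v ≠ 1 := by
    intro h
    have h' : (v : PSL) = 1 := by rw [h]; rfl
    rw [hv, qm_eq_one_iff, mem_center_iff'] at h'
    have := h'.2.1
    simp at this
  have hup : u ^ p = 1 := by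
    apply Subtype.ext
    rw [Subgroup.coe_pow, hu, ← map_pow, ← xu_nsmul, nsmul_eq_mul, CharP.cast_eq_zero F p, zero_mul,
      xu_zero, map_one]
    rfl
  have hvp : v ^ p = 1 := by
    apply Subtype.ext
    rw [Subgroup.coe_pow, hv, ← map_pow, ← yl_nsmul, nsmul_eq_mul, CharP.cast_eq_zero F p, zero_mul,
      yl_zero, map_one]
    rfl
  have huv : u * v ≠ v * u := by
    intro h
    have h' : (u : PSL) * (v : PSL) = (v : PSL) * (u : PSL) := by
      have := congrArg Subtype.val h
      simpa using this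
    rw [hu, hv] at h'
    have := (comm_xu h2 hlam (g := yl 1) h'.symm).1
    simp at this
  obtain ⟨ru, rv, hru, hrv, hne, hvo, hcase⟩ := DH.two_par_dichotomy hp2 hu1 hv1 hup hvp huv
  rcases hcase with hn | ⟨hp3, hcard, ⟨e⟩⟩
  · -- generic case
    have hG : ∀ g ∈ L, g 1 0 ≠ 0 → xu (g 0 0 / g 1 0) ∈ L := by
      intro g hg hc
      obtain ⟨k, hk⟩ : ∃ k : H, (k : PSL) = qm g := ⟨⟨qm g, hHmem g hg⟩, rfl⟩
      have hkne : (k * u * k⁻¹) * u ≠ u * (k * u * k⁻¹) := by
        intro h
        have h' := congrArg Subtype.val h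
        simp only [Subgroup.coe_mul, Subgroup.coe_inv, hk, hu] at h'
        apply not_comm_conj h2 hlam hc
        simpa only [map_mul, map_inv] using h'
      obtain ⟨h, hh1, hh2⟩ := DH.two_par_generic hru hrv hne hvo hn k hkne
      have hhm : (h : PSL) ∈ L.map qm := by rw [← hH]; exact h.2
      obtain ⟨g', hg', hgh⟩ := Subgroup.mem_map.mp hhm
      have c1 : qm g' * qm (xu lam) = qm (xu lam) * qm g' := by
        have := congrArg Subtype.val hh1
        simp only [Subgroup.coe_mul, hu] at this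
        rw [hgh]; exact this
      obtain ⟨a10, a00⟩ := comm_xu h2 hlam c1
      have c2 : qm ((g'⁻¹ * g) * xu lam * (g'⁻¹ * g)⁻¹) * qm (yl 1) =
          qm (yl 1) * qm ((g'⁻¹ * g) * xu lam * (g'⁻¹ * g)⁻¹) := by
        have := congrArg Subtype.val hh2
        simp only [Subgroup.coe_mul, Subgroup.coe_inv, hk, hu, hv, ← hgh] at this
        simpa only [map_mul, map_inv] using this
      have b01 := (comm_yl h2 one_ne_zero c2).1
      rw [conj_xu01] at b01
      have b00 : (g'⁻¹ * g) 0 0 = 0 := by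
        rcases mul_eq_zero.mp b01 with h3 | h3
        · exact absurd h3 hlam
        · exact pow_eq_zero_iff (by norm_num) |>.mp h3
      rw [mul_apply00, inv_apply00, inv_apply01] at b00
      have hx' := xu_mem_of_pm p hp2 L hg' a10 a00
      have hd := sl_det g'
      rw [a10, mul_zero, sub_zero, ← a00] at hd
      have h00ne : g' 0 0 ≠ 0 := by
        intro h0
        rw [h0, mul_zero] at hd
        exact zero_ne_one hd
      have : g' 0 1 / g' 0 0 = g 0 0 / g 1 0 := by
        rw [← a00] at b00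
        field_simp
        linear_combination -b00
      rw [← this]; exact hx'
    have htop := Cfsg.Agent.Lib.helper6.SL2Gen.gen_top p hp2 L lam hx hy hG hgen
    left
    refine ⟨htop, ?_⟩
    rintro ⟨h9, hl⟩
    obtain ⟨n, -, hn'⟩ := FiniteField.card F p
    have hp3 : p = 3 := by
      have h1 : p ∣ 9 := by rw [← h9, hn']; exact dvd_pow_self p n.pos.ne'
      have h2' : p ∣ 3 ^ 2 := by norm_num; exact h1
      exact (Nat.prime_dvd_prime_iff_eq hpP Nat.prime_three).mp (hpP.dvd_of_dvd_pow h2')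
    subst hp3
    have h3 : (3 : F) = 0 := by exact_mod_cast CharP.cast_eq_zero F 3
    have hle := Cfsg.Agent.Lib.helper6.F9Mat.card_closure_le lam h3 hl
    rw [range_G9, ← hL, htop, Nat.card_congr Subgroup.topEquiv.toEquiv,
      Cfsg.Agent.Lib.helper15.card_SL2, h9] at hle
    norm_num at hle
  · -- exceptional case
    right
    subst hp3
    have h3 : (3 : F) = 0 := by exact_mod_cast CharP.cast_eq_zero F 3
    have hgenH : Subgroup.closure ({u, v} : Set H) = ⊤ := by
      rw [eq_top_iff]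
      intro x _
      have hle : L ≤ ((Subgroup.closure ({u, v} : Set H)).map H.subtype).comap qm := by
        rw [hL, Subgroup.closure_le]
        intro g hg
        rcases hg with rfl | rfl
        · exact ⟨v, Subgroup.subset_closure (by simp), hv⟩
        · exact ⟨u, Subgroup.subset_closure (by simp), hu⟩
      have hxm : (x : PSL) ∈ L.map qm := by rw [← hH]; exact x.2
      obtain ⟨g, hg, hgx⟩ := Subgroup.mem_map.mp hxm
      obtain ⟨y, hy1, hy2⟩ := hle hg
      have : y = x := Subtype.ext (by rw [← hgx]; exact hy2)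
      rw [← this]; exact hy1
    obtain ⟨hp1, hp2'⟩ := Cfsg.Agent.Lib.helper6.A5Pair.pair_of_equiv e u v hup hvp hgenH
    have hc1 : (xu lam * yl 1) ^ 5 ∈ Subgroup.center SL(2,F) := by
      rw [← qm_eq_one_iff, map_pow, map_mul, ← hu, ← hv]
      have := congrArg Subtype.val hp1
      simpa using this
    have hc2 : (xu lam * yl (-1)) ^ 5 ∈ Subgroup.center SL(2,F) := by
      rw [← qm_eq_one_iff, map_pow, map_mul, yl_neg, map_inv, ← hu, ← hv]
      have := congrArg Subtype.val hp2'
      simpa using this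
    have E1 := Cfsg.Agent.Lib.helper6.SL2Five.trace_of_pow_five _ (by rw [mul_apply10]; simp) hc1
    have E2 := Cfsg.Agent.Lib.helper6.SL2Five.trace_of_pow_five _ (by rw [mul_apply10]; simp) hc2
    rw [mul_apply00, mul_apply11] at E1 E2
    simp only [xu00, xu01, xu10, xu11, yl00, yl01, yl10, yl11] at E1 E2
    have hl : lam ^ 2 = -1 := by
      have h4 : lam * (lam ^ 2 + 1) = 0 := by
        linear_combination E1 - E2 - (5 * lam ^ 3 + 13 * lam) * h3
      rcases mul_eq_zero.mp h4 with h5 | h5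
      · exact absurd h5 hlam
      · exact eq_neg_of_add_eq_zero_left h5
    have h9 := Cfsg.Agent.Lib.helper6.F9Card.card_eq_nine lam hl hgen
    refine ⟨h9, hl, ?_⟩
    -- the order
    have hle := Cfsg.Agent.Lib.helper6.F9Mat.card_closure_le lam h3 hl
    rw [range_G9, ← hL] at hle
    obtain ⟨f, hf⟩ : ∃ f : L →* PSL, f = qm.comp L.subtype := ⟨_, rfl⟩
    have hrange : f.range = H := by
      rw [hf, MonoidHom.range_comp, Subgroup.range_subtype, hH]
    have hmul := Subgroup.card_mul_index f.ker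
    rw [Subgroup.index_ker, hrange, hcard] at hmul
    have h2dvd : 2 ∣ Nat.card L := by rw [← hmul]; exact Dvd.dvd.mul_left (by norm_num) _
    haveI : Fact (Nat.Prime 2) := ⟨Nat.prime_two⟩
    obtain ⟨g, hg⟩ := exists_prime_orderOf_dvd_card' 2 h2dvd
    have hg2 : (g : SL(2,F)) ^ 2 = 1 := by
      have h := pow_orderOf_eq_one g
      rw [hg] at h
      rw [← Subgroup.coe_pow, h]; rfl
    have hg1 : (g : SL(2,F)) ≠ 1 := by
      intro h
      have : g = 1 := Subtype.ext h
      rw [this, orderOf_one] at hg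
      norm_num at hg
    have hm1 := Cfsg.Agent.Lib.helper6.SL2Five.eq_neg_one_of_sq h2 _ hg2 hg1
    have hgker : g ∈ f.ker := by
      rw [MonoidHom.mem_ker, hf]
      show qm (g : SL(2,F)) = 1
      rw [qm_eq_one_iff, hm1, mem_center_iff']
      rw [neg_one_apply00, neg_one_apply01, neg_one_apply10, neg_one_apply11]
      exact ⟨rfl, rfl, rfl⟩
    have hker2 : 2 ≤ Nat.card f.ker := by
      have h1 : orderOf (⟨g, hgker⟩ : f.ker) = 2 := (Subgroup.orderOf_mk g hgker).trans hg
      have h4 := orderOf_le_card (x := (⟨g, hgker⟩ : f.ker))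
      rw [h1] at h4
      exact h4
    nlinarith

end Cfsg.Agent.Lib.helper6.Dickson801
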