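import Mathlib
import Cfsg.Agent.Lib.Helper22.C3L.Defs
import Cfsg.Agent.Lib.helper8.C3S.Defs

set_option autoImplicit false
set_option linter.unusedVariables false
set_option linter.unusedSectionVars false

/-!
# Project C3S, piece JSUM: if the identity and all symmetrisations `a σ + (a σ)^*` (`σ ≠ 1`) lie in the
additive group `L`, then so does the trace map `Σ_σ σ` (`[K : F]` prime).
-/

namespace Cfsg.Agent.Lib.helper8.C3S

open Module Cfsg.Agent.Lib.Helper22.C3L

variable {F K V : Type*} [Field F] [Field K] [Algebra F K] [AddCommGroup V] [Module F V] [Module K V]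
  [IsScalarTower F K V]

/-- pairing lemma: a finite inverse-closed set without involutions and without `1`-like fixed points sums into `L`
as soon as every `f σ + f σ⁻¹` does. -/
theorem c3sjsum_pairs {G : Type*} [Group G] [DecidableEq G] {E : Type*} [AddCommGroup E]
    (L : AddSubgroup E) (f : G → E) :
    ∀ A : Finset G, (∀ σ ∈ A, σ⁻¹ ∈ A) → (∀ σ ∈ A, σ ≠ σ⁻¹) → (∀ σ ∈ A, f σ + f σ⁻¹ ∈ L) →
      ∑ σ ∈ A, f σ ∈ L := by
  intro A
  induction A using Finset.strongInduction with
  | H A ih =>
    intro hinv hne hf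
    rcases A.eq_empty_or_nonempty with h | ⟨σ, hσ⟩
    · rw [h, Finset.sum_empty]
      exact L.zero_mem
    · have hσi : σ⁻¹ ∈ A.erase σ := Finset.mem_erase.2 ⟨(hne σ hσ).symm, hinv σ hσ⟩
      set A' := (A.erase σ).erase σ⁻¹ with hA'
      have hsub : A' ⊂ A := by
        refine Finset.ssubset_of_subset_of_ssubset (Finset.erase_subset _ _) ?_
        exact Finset.erase_ssubset hσ
      have hmem : ∀ τ, τ ∈ A' ↔ τ ∈ A ∧ τ ≠ σ ∧ τ ≠ σ⁻¹ := by
        intro τ
        rw [hA', Finset.mem_erase, Finset.mem_erase]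
        tauto
      have h1 : ∑ τ ∈ A', f τ ∈ L := by
        apply ih A' hsub
        · intro τ hτ
          rw [hmem] at hτ ⊢
          refine ⟨hinv τ hτ.1, ?_, ?_⟩
          · intro h
            apply hτ.2.2
            rw [← h, inv_inv]
          · intro h
            apply hτ.2.1
            exact inv_injective h
        · intro τ hτ
          exact hne τ ((hmem τ).1 hτ).1
        · intro τ hτ
          exact hf τ ((hmem τ).1 hτ).1
      have h2 : ∑ τ ∈ A, f τ = f σ + (f σ⁻¹ + ∑ τ ∈ A', f τ) := by
        rw [← Finset.add_sum_erase A f hσ, ← Finset.add_sum_erase (A.erase σ) f hσi]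
      rw [h2, ← add_assoc]
      exact L.add_mem (hf σ hσ) h1

/-- JSUM -/
theorem jsum [Finite K] [FiniteDimensional F K] (hr : (finrank F K).Prime) (L : AddSubgroup (K →ₗ[F] K))
    (h1 : LinearMap.mulLeft F (1 : K) ∈ L) (hs : ∀ (σ : K ≃ₐ[F] K) (a : K), σ ≠ 1 → symz σ a ∈ L) : trK F K ∈ L := by
  classical
  have hcard : Nat.card (K ≃ₐ[F] K) = finrank F K := IsGalois.card_aut_eq_finrank F K
  -- the trace as a sum of automorphisms
  have htr : trK F K = ∑ σ : K ≃ₐ[F] K, σ.toLinearMap := by
    apply LinearMap.ext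
    intro x
    rw [trK_apply, trace_eq_sum_automorphisms, LinearMap.sum_apply]
    rfl
  have hone : ((1 : K ≃ₐ[F] K).toLinearMap : K →ₗ[F] K) = LinearMap.mulLeft F (1 : K) := by
    apply LinearMap.ext
    intro x
    simp
  rw [htr, ← Finset.add_sum_erase Finset.univ _ (Finset.mem_univ (1 : K ≃ₐ[F] K)), hone]
  refine L.add_mem h1 ?_
  by_cases h2 : finrank F K = 2
  · -- two elements
    have hc2 : Fintype.card (K ≃ₐ[F] K) = 2 := by
      rw [← Nat.card_eq_fintype_card, hcard, h2]
    obtain ⟨δ, hδ⟩ : ∃ δ : K ≃ₐ[F] K, δ ≠ 1 := by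
      by_contra hcon
      push Not at hcon
      have : Fintype.card (K ≃ₐ[F] K) ≤ 1 :=
        Fintype.card_le_one_iff.2 (fun a b => (hcon a).trans (hcon b).symm)
      omega
    have hδ2 : δ * δ = 1 := by
      have := pow_card_eq_one (G := K ≃ₐ[F] K) (x := δ)
      rw [hc2, pow_two] at this
      exact this
    have hδi : δ⁻¹ = δ := inv_eq_of_mul_eq_one_right hδ2
    have huniv : (Finset.univ : Finset (K ≃ₐ[F] K)).erase 1 = {δ} := by
      symm
      apply Finset.eq_of_subset_of_card_le
      · intro x hx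
        rw [Finset.mem_singleton] at hx
        rw [hx]
        exact Finset.mem_erase.2 ⟨hδ, Finset.mem_univ _⟩
      · rw [Finset.card_erase_of_mem (Finset.mem_univ _), Finset.card_univ, hc2,
          Finset.card_singleton]
    rw [huniv, Finset.sum_singleton]
    obtain ⟨a, ha⟩ := Algebra.trace_surjective F K 1
    have hsum : a + δ a = 1 := by
      have h := trace_eq_sum_automorphisms (K := F) (L := K) a
      rw [ha, map_one, ← Finset.add_sum_erase Finset.univ _ (Finset.mem_univ (1 : K ≃ₐ[F] K)),
        huniv, Finset.sum_singleton] at h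
      simpa using h.symm
    have : symz δ a = δ.toLinearMap := by
      apply LinearMap.ext
      intro x
      rw [symz_apply]
      have : δ.symm = δ := by
        rw [← AlgEquiv.aut_inv, hδi]
      rw [this, map_mul, ← add_mul, hsum, one_mul]
      rfl
    rw [← this]
    exact hs δ a hδ
  · -- odd prime
    have hodd : ∀ σ : K ≃ₐ[F] K, σ ≠ 1 → σ ≠ σ⁻¹ := by
      intro σ hσ h
      apply hσ
      have h1 : σ * σ = 1 := by
        nth_rewrite 2 [h]
        exact mul_inv_cancel σ
      have hd2 : orderOf σ ∣ 2 := by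
        apply orderOf_dvd_of_pow_eq_one
        rw [pow_two]
        exact h1
      have hdr : orderOf σ ∣ finrank F K := by
        rw [← hcard]
        exact orderOf_dvd_natCard σ
      have hcop : Nat.Coprime 2 (finrank F K) := by
        rw [Nat.coprime_primes Nat.prime_two hr]
        exact fun h => h2 h.symm
      have : orderOf σ ∣ 1 := by
        have := Nat.dvd_gcd hd2 hdr
        rwa [hcop.gcd_eq_one] at this
      exact orderOf_eq_one_iff.1 (Nat.dvd_one.1 this)
    apply c3sjsum_pairs L (fun σ : K ≃ₐ[F] K => (σ.toLinearMap : K →ₗ[F] K))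
    · intro σ hσ
      rw [Finset.mem_erase] at hσ ⊢
      refine ⟨?_, Finset.mem_univ _⟩
      intro h
      apply hσ.1
      rw [← inv_inv σ, h, inv_one]
    · intro σ hσ
      exact hodd σ (Finset.mem_erase.1 hσ).1
    · intro σ hσ
      have : symz σ 1 = σ.toLinearMap + (σ⁻¹).toLinearMap := by
        apply LinearMap.ext
        intro x
        rw [symz_apply, one_mul, one_mul, LinearMap.add_apply]
        rfl
      show (σ.toLinearMap : K →ₗ[F] K) + (σ⁻¹).toLinearMap ∈ L
      rw [← this]
      exact hs σ 1 (Finset.mem_erase.1 hσ).1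

end Cfsg.Agent.Lib.helper8.C3S
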