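import Mathlib
import Cfsg.Agent.Lib.Helper10.C3Q.Defs
import Cfsg.Agent.Lib.Helper10.C3QKSTR
import Cfsg.Agent.Lib.Helper11.C3QKDIAG

set_option autoImplicit false
set_option linter.unusedVariables false
set_option linter.unusedSectionVars false
set_option linter.style.haveILetI false

/-!
# Project C3Q, row FRNORMAL (helper6, second writer): a normal frame exists.
-/

namespace Cfsg.Agent.Lib.Helper10.C3Q

open Matrix Module

universe u

variable {F : Type u} [Field F] {ι : Type} [Fintype ι] [DecidableEq ι]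

/-- FRNORMAL -/
theorem frame_normal [Fintype F] (h2 : (2 : F) ≠ 0) (Q : QuadraticForm F (ι → F))
    (hQ : (QuadraticMap.polarBilin Q).Nondegenerate) (δ : F) (A : Matrix ι ι F) (hA : Gen (⇑Q) δ A)
    (n : ℕ) (hcard : Fintype.card ι = 2 * (n + 1)) :
    ∃ e : Fin (n + 1) → (ι → F), IsFrame (⇑Q) A e ∧
      ∀ j, j ≠ Fin.last n → QuadraticMap.polar (⇑Q) (e j) (e j) = 2 ∧
        QuadraticMap.polar (⇑Q) (e j) (A *ᵥ e j) = 0 := by
  classical
  obtain ⟨K, iK, iFK, iAlg, iMod, iST, θ, β, hcK, hfrK, hθ, hθv, hrep, hind, hβ, hβs⟩ :=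
    k_str h2 Q δ A hA
  have hδ0 : δ ≠ 0 := fun h => hA.ns ⟨0, by rw [h, mul_zero]⟩
  have hpc : ∀ u v : ι → F, QuadraticMap.polar (⇑Q) u v = QuadraticMap.polar (⇑Q) v u :=
    fun u v => QuadraticMap.polar_comm _ _ _
  have hsmr : ∀ (c : F) (u v : ι → F), QuadraticMap.polar (⇑Q) u (c • v) = c * QuadraticMap.polar (⇑Q) u v := by
    intro c u v
    simpa using QuadraticMap.polar_smul_right Q c u v
  have hAA : ∀ u : ι → F, A *ᵥ (A *ᵥ u) = δ • u := by
    intro u
    rw [Matrix.mulVec_mulVec, hA.sq, Matrix.smul_mulVec, Matrix.one_mulVec]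
  -- uniqueness of the coordinates
  have huniq : ∀ a b a' b' : F, algebraMap F K a + algebraMap F K b * θ =
      algebraMap F K a' + algebraMap F K b' * θ → a = a' ∧ b = b' := by
    intro a b a' b' h
    have h0 : algebraMap F K (a - a') + algebraMap F K (b - b') * θ = 0 := by
      rw [map_sub, map_sub]
      linear_combination h
    obtain ⟨h1, h2'⟩ := hind _ _ h0
    exact ⟨sub_eq_zero.1 h1, sub_eq_zero.1 h2'⟩
  have hβ0 : ∀ u v : ι → F, β u v = 0 →
      QuadraticMap.polar (⇑Q) u v = 0 ∧ QuadraticMap.polar (⇑Q) (A *ᵥ u) v = 0 := by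
    intro u v h
    rw [hβ] at h
    obtain ⟨h1, h2'⟩ := hind _ _ h
    constructor
    · rcases div_eq_zero_iff.1 h1 with h | h
      · exact h
      · exact absurd h h2
    · rcases div_eq_zero_iff.1 h2' with h | h
      · exact h
      · exact absurd h (mul_ne_zero h2 hδ0)
  have hβ1 : ∀ u : ι → F, β u u = 1 →
      QuadraticMap.polar (⇑Q) u u = 2 ∧ QuadraticMap.polar (⇑Q) (A *ᵥ u) u = 0 := by
    intro u h
    rw [hβ] at h
    have h' : algebraMap F K (QuadraticMap.polar (⇑Q) u u / 2) +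
        algebraMap F K (QuadraticMap.polar (⇑Q) (A *ᵥ u) u / (2 * δ)) * θ =
        algebraMap F K 1 + algebraMap F K 0 * θ := by
      rw [h, map_one, map_zero, zero_mul, add_zero]
    obtain ⟨h1, h2'⟩ := huniq _ _ _ _ h'
    constructor
    · field_simp at h1
      linear_combination h1
    · rcases div_eq_zero_iff.1 h2' with h | h
      · exact h
      · exact absurd h (mul_ne_zero h2 hδ0)
  -- `2 ≠ 0` in `K`
  have h2K : (2 : K) ≠ 0 := by
    intro h
    have : algebraMap F K 2 + algebraMap F K 0 * θ = 0 := by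
      rw [map_zero, zero_mul, add_zero, map_ofNat]
      exact h
    exact h2 (hind _ _ this).1
  -- finite-dimensionality and the rank over `K`
  haveI : Module.Finite F K := Module.finite_of_finrank_pos (by rw [hfrK]; norm_num)
  haveI : Module.Finite K (ι → F) := Module.Finite.of_restrictScalars_finite F K (ι → F)
  have hfr : Module.finrank K (ι → F) = n + 1 := by
    have := Module.finrank_mul_finrank F K (ι → F)
    rw [hfrK, Module.finrank_fintype_fun_eq_card, hcard] at this
    omega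
  -- non-degeneracy of `β`
  have hβnd : β.Nondegenerate := by
    have hleft : ∀ u : ι → F, (∀ v, β u v = 0) → u = 0 := by
      intro u hu
      apply hQ.1
      intro v
      exact (hβ0 u v (hu v)).1
    refine ⟨hleft, ?_⟩
    intro u hu
    apply hleft
    intro v
    rw [hβs]
    exact hu v
  obtain ⟨v, hv0, hv1⟩ := k_diag h2K β hβs hβnd n hfr
  -- the `F`-basis `1, θ` of `K`
  have hli2 : LinearIndependent F ![(1 : K), θ] := by
    rw [LinearIndependent.pair_iff]
    intro s t hst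
    apply hind
    rw [Algebra.smul_def, Algebra.smul_def, mul_one] at hst
    exact hst
  have hsp2 : ⊤ ≤ Submodule.span F (Set.range ![(1 : K), θ]) := by
    intro k _
    obtain ⟨a, b, rfl⟩ := hrep k
    refine Submodule.add_mem _ ?_ ?_
    · rw [Algebra.algebraMap_eq_smul_one]
      exact Submodule.smul_mem _ _ (Submodule.subset_span ⟨0, rfl⟩)
    · rw [← Algebra.smul_def]
      exact Submodule.smul_mem _ _ (Submodule.subset_span ⟨1, rfl⟩)
  set bK : Module.Basis (Fin 2) F K := Module.Basis.mk hli2 hsp2 with hbK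
  have hbK0 : bK 0 = 1 := by rw [hbK, Module.Basis.mk_apply]; rfl
  have hbK1 : bK 1 = θ := by rw [hbK, Module.Basis.mk_apply]; rfl
  set bb := bK.smulTower v with hbb
  have hfun : (fun p : Fin (n + 1) × Fin 2 => if p.2 = 0 then v p.1 else A *ᵥ v p.1) =
      (fun p : Fin (n + 1) × Fin 2 => bb (p.2, p.1)) := by
    funext p
    obtain ⟨j, a⟩ := p
    rw [hbb, Module.Basis.smulTower_apply]
    fin_cases a
    · show v j = bK 0 • v j
      rw [hbK0, one_smul]
    · show A *ᵥ v j = bK 1 • v j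
      rw [hbK1, hθv]
  refine ⟨fun j => v j, ⟨?_, ?_, ?_⟩, ?_⟩
  · show LinearIndependent F (fun p : Fin (n + 1) × Fin 2 => if p.2 = 0 then v p.1 else A *ᵥ v p.1)
    rw [hfun]
    exact bb.linearIndependent.comp (fun p : Fin (n + 1) × Fin 2 => (p.2, p.1))
      (fun p p' h => by
        obtain ⟨a, b⟩ := p
        obtain ⟨a', b'⟩ := p'
        simp only [Prod.mk.injEq] at h ⊢
        exact ⟨h.2, h.1⟩)
  · show ⊤ ≤ Submodule.span F (Set.range
      (fun p : Fin (n + 1) × Fin 2 => if p.2 = 0 then v p.1 else A *ᵥ v p.1))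
    rw [hfun]
    have : Set.range (fun p : Fin (n + 1) × Fin 2 => bb (p.2, p.1)) = Set.range bb := by
      ext w
      constructor
      · rintro ⟨p, rfl⟩
        exact ⟨_, rfl⟩
      · rintro ⟨⟨a, j⟩, rfl⟩
        exact ⟨(j, a), rfl⟩
    rw [this, bb.span_eq]
  · intro i j hij
    obtain ⟨h1, h2'⟩ := hβ0 _ _ (hv0 i j hij)
    refine ⟨h1, ?_, ?_⟩
    · show QuadraticMap.polar (⇑Q) (v i) (A *ᵥ v j) = 0
      rw [← hA.sa, h2']
    · show QuadraticMap.polar (⇑Q) (A *ᵥ v i) (A *ᵥ v j) = 0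
      rw [hA.sa, hAA, hsmr, h1, mul_zero]
  · intro j hj
    obtain ⟨h1, h2'⟩ := hβ1 _ (hv1 j hj)
    refine ⟨h1, ?_⟩
    show QuadraticMap.polar (⇑Q) (v j) (A *ᵥ v j) = 0
    rw [← hA.sa, h2']

end Cfsg.Agent.Lib.Helper10.C3Q
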