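import Mathlib
import Cfsg.Agent.Lib.Helper10.C3Q.Defs

set_option autoImplicit false

/-!
# Project C3Q, row SGEN (helper6): planes `(e_j, f_j)` with `B(f,f) = δ B(e,e)` give a generator `A'`.
-/

namespace Cfsg.Agent.Lib.Helper10.C3Q

open Matrix Module

universe u

variable {F : Type u} [Field F] {ι : Type} [Fintype ι] [DecidableEq ι]

/-- the polar form is bilinear: the two sides of self-adjointness agree as soon as they agree on a basis -/
theorem c3qsgen_sa_of_basis (Q : QuadraticForm F (ι → F)) {κ : Type*} (b : Module.Basis κ F (ι → F))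
    (L : (ι → F) →ₗ[F] (ι → F))
    (h : ∀ p p', QuadraticMap.polar (⇑Q) (L (b p)) (b p') = QuadraticMap.polar (⇑Q) (b p) (L (b p'))) :
    ∀ u v, QuadraticMap.polar (⇑Q) (L u) v = QuadraticMap.polar (⇑Q) u (L v) := by
  have h1 : (QuadraticMap.polarBilin Q).compl₁₂ L LinearMap.id =
      (QuadraticMap.polarBilin Q).compl₁₂ LinearMap.id L := by
    apply LinearMap.ext_basis b b
    intro p p'
    simpa using h p p'
  intro u v
  have := congrArg (fun B => B u v) h1
  simpa using this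

/-- SGEN -/
theorem s_gen (Q : QuadraticForm F (ι → F)) (δ : F) (hns : ¬ IsSquare δ) {n : ℕ} (e f : Fin n → (ι → F))
    (hp : IsPlanes (⇑Q) e f)
    (hf : ∀ j, QuadraticMap.polar (⇑Q) (f j) (f j) = δ * QuadraticMap.polar (⇑Q) (e j) (e j)) :
    ∃ A' : Matrix ι ι F, Gen (⇑Q) δ A' ∧ ∀ j, A' *ᵥ e j = f j ∧ A' *ᵥ f j = δ • e j := by
  classical
  set b : Module.Basis (Fin n × Fin 2) F (ι → F) := Module.Basis.mk hp.li hp.span with hb
  have hb0 : ∀ j, b (j, 0) = e j := by
    intro j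
    rw [hb, Module.Basis.mk_apply]
    simp
  have hb1 : ∀ j, b (j, 1) = f j := by
    intro j
    rw [hb, Module.Basis.mk_apply]
    simp
  set L : (ι → F) →ₗ[F] (ι → F) :=
    b.constr F (fun p : Fin n × Fin 2 => if p.2 = 0 then f p.1 else δ • e p.1) with hL
  have hLe : ∀ j, L (e j) = f j := by
    intro j
    rw [← hb0 j, hL, Module.Basis.constr_basis]
    simp
  have hLf : ∀ j, L (f j) = δ • e j := by
    intro j
    rw [← hb1 j, hL, Module.Basis.constr_basis]
    simp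
  have hpc : ∀ u v : ι → F, QuadraticMap.polar (⇑Q) u v = QuadraticMap.polar (⇑Q) v u :=
    fun u v => QuadraticMap.polar_comm _ _ _
  have hsmr : ∀ (c : F) (u v : ι → F), QuadraticMap.polar (⇑Q) u (c • v) = c * QuadraticMap.polar (⇑Q) u v := by
    intro c u v
    simpa using QuadraticMap.polar_smul_right Q c u v
  have hsml : ∀ (c : F) (u v : ι → F), QuadraticMap.polar (⇑Q) (c • u) v = c * QuadraticMap.polar (⇑Q) u v := by
    intro c u v
    simpa using QuadraticMap.polar_smul_left Q c u v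
  refine ⟨LinearMap.toMatrix' L, ⟨?_, hns, ?_⟩, ?_⟩
  · -- square
    rw [← LinearMap.toMatrix'_mul]
    have : L * L = δ • (1 : (ι → F) →ₗ[F] (ι → F)) := by
      apply b.ext
      rintro ⟨j, a⟩
      fin_cases a
      · show L (L (b (j, 0))) = δ • (b (j, 0))
        rw [hb0, hLe, hLf]
      · show L (L (b (j, 1))) = δ • (b (j, 1))
        rw [hb1, hLf, map_smul, hLe]
    rw [this, map_smul, LinearMap.toMatrix'_one]
  · -- self-adjoint
    intro u v
    rw [LinearMap.toMatrix'_mulVec, LinearMap.toMatrix'_mulVec]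
    revert u v
    apply c3qsgen_sa_of_basis Q b L
    rintro ⟨i, a⟩ ⟨j, c⟩
    by_cases hij : i = j
    · subst hij
      fin_cases a <;> fin_cases c
      · show QuadraticMap.polar (⇑Q) (L (b (i, 0))) (b (i, 0)) = QuadraticMap.polar (⇑Q) (b (i, 0)) (L (b (i, 0)))
        rw [hb0, hLe, hpc]
      · show QuadraticMap.polar (⇑Q) (L (b (i, 0))) (b (i, 1)) = QuadraticMap.polar (⇑Q) (b (i, 0)) (L (b (i, 1)))
        rw [hb0, hb1, hLe, hLf, hsmr, hf]
      · show QuadraticMap.polar (⇑Q) (L (b (i, 1))) (b (i, 0)) = QuadraticMap.polar (⇑Q) (b (i, 1)) (L (b (i, 0)))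
        rw [hb0, hb1, hLe, hLf, hsml, hf]
      · show QuadraticMap.polar (⇑Q) (L (b (i, 1))) (b (i, 1)) = QuadraticMap.polar (⇑Q) (b (i, 1)) (L (b (i, 1)))
        rw [hb1, hLf, hsml, hsmr, hpc]
    · obtain ⟨h1, h2, h3⟩ := hp.orth i j hij
      obtain ⟨h1', h2', h3'⟩ := hp.orth j i (Ne.symm hij)
      fin_cases a <;> fin_cases c
      · show QuadraticMap.polar (⇑Q) (L (b (i, 0))) (b (j, 0)) = QuadraticMap.polar (⇑Q) (b (i, 0)) (L (b (j, 0)))
        rw [hb0, hb0, hLe, hLe, h2, hpc, h2']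
      · show QuadraticMap.polar (⇑Q) (L (b (i, 0))) (b (j, 1)) = QuadraticMap.polar (⇑Q) (b (i, 0)) (L (b (j, 1)))
        rw [hb0, hb1, hLe, hLf, hsmr, h3, h1, mul_zero]
      · show QuadraticMap.polar (⇑Q) (L (b (i, 1))) (b (j, 0)) = QuadraticMap.polar (⇑Q) (b (i, 1)) (L (b (j, 0)))
        rw [hb0, hb1, hLe, hLf, hsml, h1, h3, mul_zero]
      · show QuadraticMap.polar (⇑Q) (L (b (i, 1))) (b (j, 1)) = QuadraticMap.polar (⇑Q) (b (i, 1)) (L (b (j, 1)))
        rw [hb1, hb1, hLf, hLf, hsml, hsmr, h2, hpc (f i), h2']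
  · intro j
    rw [LinearMap.toMatrix'_mulVec, LinearMap.toMatrix'_mulVec]
    exact ⟨hLe j, hLf j⟩

end Cfsg.Agent.Lib.Helper10.C3Q
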