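import Mathlib
import Cfsg.Agent.Lib.Helper10.C3Q.Defs
import Cfsg.Agent.Lib.Helper16.OB25

set_option autoImplicit false

/-!
# Project C3Q, row NINDEX (helper6): `r ∣ [Ω : N(K) ⊓ Ω]`, `r` odd ⟹ `r ∣ |G| / |C_G(A)|`.
-/

namespace Cfsg.Agent.Lib.Helper10.C3Q

open Matrix Module

universe u

/-- the abstract group theory: `Ω'` normal with all squares in it, `C' ≤ N'`, `r` an odd prime dividing `[Ω' : N' ⊓ Ω']`: then `r ∣ [𝔾 : C']`. -/
theorem c3qnindex_abs {𝔾 : Type*} [Group 𝔾] [Finite 𝔾] (Ω' N' C' : Subgroup 𝔾) [hΩn : Ω'.Normal]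
    (hCN : C' ≤ N') (hsq : ∀ g : 𝔾, g * g ∈ Ω') (r : ℕ) [hr : Fact r.Prime] (hr2 : r ≠ 2)
    (h : r ∣ N'.relIndex Ω') : r ∣ C'.index := by
  have h1 : r ∣ C'.relIndex Ω' := dvd_trans h (Subgroup.relIndex_dvd_of_le_left Ω' hCN)
  -- `(C' ⊓ Ω').index` two ways
  have e1 : (C' ⊓ Ω').relIndex Ω' * Ω'.index = (C' ⊓ Ω').index :=
    Subgroup.relIndex_mul_index inf_le_right
  have e2 : (C' ⊓ Ω').relIndex C' * C'.index = (C' ⊓ Ω').index :=
    Subgroup.relIndex_mul_index inf_le_left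
  rw [Subgroup.inf_relIndex_right] at e1
  rw [Subgroup.inf_relIndex_left] at e2
  have h2 : r ∣ Ω'.relIndex C' * C'.index := by
    rw [e2, ← e1]
    exact Dvd.dvd.mul_right h1 _
  -- the relative index `[C' : C' ⊓ Ω']` is a power of `2`
  have hpow : ∃ k, Ω'.relIndex C' = 2 ^ k := by
    haveI : (Ω'.subgroupOf C').Normal := Subgroup.Normal.subgroupOf hΩn C'
    haveI : Fact (Nat.Prime 2) := ⟨Nat.prime_two⟩
    have hp : IsPGroup 2 (↥C' ⧸ Ω'.subgroupOf C') := by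
      intro g
      refine ⟨1, ?_⟩
      induction g using QuotientGroup.induction_on with
      | H c =>
        rw [pow_one, pow_two, ← QuotientGroup.mk_mul, QuotientGroup.eq_one_iff]
        rw [Subgroup.mem_subgroupOf]
        exact hsq c
    obtain ⟨k, hk⟩ := (IsPGroup.iff_card).1 hp
    exact ⟨k, by rw [Subgroup.relIndex, Subgroup.index_eq_card, hk]⟩
  obtain ⟨k, hk⟩ := hpow
  rcases (Nat.Prime.dvd_mul hr.out).1 h2 with h3 | h3
  · exfalso
    rw [hk] at h3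
    have := (Nat.prime_dvd_prime_iff_eq hr.out Nat.prime_two).1 (hr.out.dvd_of_dvd_pow h3)
    exact hr2 this
  · exact h3

variable {F : Type u} [Field F] {ι : Type} [Fintype ι] [DecidableEq ι]

/-- NINDEX -/
theorem n_index [Fintype F] (h2 : (2 : F) ≠ 0) (Q : QuadraticForm F (ι → F))
    (hQ : (QuadraticMap.polarBilin Q).Nondegenerate) (hn : 5 ≤ Fintype.card ι)
    (K : Subalgebra F (Matrix ι ι F)) (A : Matrix ι ι F)
    (hNK : ∀ g : GL ι F, g ∈ Cfsg.Geo.subalgebraNormalizer K ↔ NrmA A g) (r : ℕ) [Fact r.Prime]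
    (hr2 : r ≠ 2)
    (hΩ : r ∣ (Cfsg.Geo.subalgebraNormalizer K).relIndex (Cfsg.Geo.omegaGL (⇑Q))) :
    r ∣ Nat.card ↥(Cfsg.isometryGroup F (⇑Q)) / Nat.card ↥(CentA (⇑Q) A) := by
  classical
  -- `Q ≠ 0`
  have hne : ∃ v, Q v ≠ 0 := by
    by_contra hcon
    push Not at hcon
    have hι : Nonempty ι := by
      rw [← Fintype.card_pos_iff]; omega
    obtain ⟨i⟩ := hι
    have hv : (Pi.single i (1 : F) : ι → F) ≠ 0 := by
      intro h
      have := congrFun h i
      simp at this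
    apply hv
    apply hQ.1
    intro w
    show QuadraticMap.polar (⇑Q) _ _ = 0
    rw [QuadraticMap.polar, hcon, hcon, hcon]
    ring
  set G := Cfsg.isometryGroup F (⇑Q : (ι → F) → F) with hG
  set N := Cfsg.Geo.subalgebraNormalizer K with hN
  set C := CentA (⇑Q) A with hC
  have hCG : C ≤ G := fun g hg => hg.1
  have hCN : C ≤ N := fun g hg => (hNK g).2 (Or.inl hg.2)
  have hΩ' : r ∣ (N.comap G.subtype).relIndex (Cfsg.Omega F (⇑Q : (ι → F) → F)) := by
    rw [Subgroup.relIndex_comap]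
    exact hΩ
  haveI : (Cfsg.Omega F (⇑Q : (ι → F) → F)).Normal := by
    unfold Cfsg.Omega
    infer_instance
  have key := c3qnindex_abs (Cfsg.Omega F (⇑Q : (ι → F) → F)) (N.comap G.subtype) (C.comap G.subtype)
    (Subgroup.comap_mono hCN)
    (fun g => Cfsg.Agent.Lib.Helper16.OB.sq_mem_omega_all Q hQ hn hne g) r hr2 hΩ'
  have hcard : Nat.card ↥(C.comap G.subtype) = Nat.card ↥C :=
    Nat.card_congr (Subgroup.subgroupOfEquivOfLe hCG).toEquiv
  have hmul : (C.comap G.subtype).index * Nat.card ↥(C.comap G.subtype) = Nat.card ↥G :=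
    Subgroup.index_mul_card _
  have hpos : 0 < Nat.card ↥C := Nat.card_pos
  rw [← hmul, hcard, Nat.mul_div_cancel _ hpos]
  exact key

end Cfsg.Agent.Lib.Helper10.C3Q
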