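import Mathlib
import Cfsg.Agent.Lib.Helper10.C6P.Defs

/-! Project C6P (designer helper10), row NCEN (helper6): `|C_R(T)| = 2^k`, `2 ≤ k ≤ 6` (it divides `|R| = 64` and contains the scalar `i`
of order 4). -/

set_option autoImplicit false

namespace Cfsg.Agent.Lib.Helper10.C6P

variable {F : Type*} [Field F]

theorem cent_card {i : F} {R : Subgroup (GL (Fin 4) F)} (h : RCtx i R) (T : GL (Fin 4) F) :
    ∃ k : ℕ, 2 ≤ k ∧ k ≤ 6 ∧ Nat.card ((Subgroup.centralizer ({T} : Set (GL (Fin 4) F))).subgroupOf R) = 2 ^ k := by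
  classical
  have hfin : Finite R := Nat.finite_of_card_ne_zero (by rw [h.card]; norm_num)
  set C : Subgroup R := (Subgroup.centralizer ({T} : Set (GL (Fin 4) F))).subgroupOf R with hC
  have hdvd : Nat.card C ∣ 2 ^ 6 := by
    have := Subgroup.card_subgroup_dvd_card C
    rw [h.card] at this
    norm_num
    exact this
  obtain ⟨k, hk6, hk⟩ := (Nat.dvd_prime_pow Nat.prime_two).mp hdvd
  refine ⟨k, ?_, hk6, hk⟩
  -- the scalar `i` lies in `C` and has order 4
  obtain ⟨g, hgR, hg⟩ := h.iR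
  have hgC : (⟨g, hgR⟩ : R) ∈ C := by
    rw [hC, Subgroup.mem_subgroupOf, Subgroup.mem_centralizer_iff]
    intro t ht
    rw [Set.mem_singleton_iff] at ht
    subst ht
    apply Units.ext
    show (t : M4 F) * (g : M4 F) = (g : M4 F) * (t : M4 F)
    rw [hg, Matrix.mul_smul, Matrix.smul_mul, Matrix.one_mul, Matrix.mul_one]
  have hpow : ∀ n : ℕ, ((g ^ n : GL (Fin 4) F) : M4 F) = (i ^ n) • (1 : M4 F) := by
    intro n
    rw [Units.val_pow_eq_pow_val, hg, smul_pow, one_pow]
  have hi2 : i ^ 2 = -1 := by rw [pow_two]; exact h.hi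
  have hi4 : i ^ 4 = 1 := by
    have : i ^ 4 = (i ^ 2) ^ 2 := by ring
    rw [this, hi2]; ring
  have hord : orderOf (⟨⟨g, hgR⟩, hgC⟩ : C) = 2 ^ (1 + 1) := by
    apply orderOf_eq_prime_pow
    · intro hcon
      have h1 := congrArg (fun t : C => (((t : R) : GL (Fin 4) F) : M4 F)) hcon
      simp only [pow_one] at h1
      have h2 : ((g ^ 2 : GL (Fin 4) F) : M4 F) = 1 := by
        simpa using h1
      rw [hpow 2, hi2] at h2
      have h3 := congrFun (congrFun h2 0) 0
      simp at h3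
      have h4 : (2 : F) = 0 := by linear_combination -h3
      exact h.two h4
    · apply Subtype.ext
      apply Subtype.ext
      apply Units.ext
      show ((g ^ 2 ^ (1 + 1) : GL (Fin 4) F) : M4 F) = 1
      rw [hpow, show 2 ^ (1 + 1) = 4 by norm_num, hi4, one_smul]
  have h4dvd : 4 ∣ Nat.card C := by
    have := orderOf_dvd_natCard (⟨⟨g, hgR⟩, hgC⟩ : C)
    rw [hord] at this
    exact this
  rw [hk] at h4dvd
  by_contra hlt
  push Not at hlt
  interval_cases k
  · norm_num at h4dvd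
  · norm_num at h4dvd

end Cfsg.Agent.Lib.Helper10.C6P
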