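import Mathlib
import Cfsg.Agent.Lib.Helper10.C6P.Defs

/-! Project C6P (designer helper10), row NFIX (helper6): `T` normalizes `R`, `T ^ r` scalar: `|C_R(T)| ≡ |R| = 64 (mod r)`. -/

set_option autoImplicit false

namespace Cfsg.Agent.Lib.Helper10.C6P

variable {F : Type*} [Field F]

/-- the abstract counting lemma -/
theorem c6pnfix_abs {G : Type*} [Group G] (R : Subgroup G) (N : ℕ) (hN : N ≠ 0) (hR : Nat.card R = N) (T : G)
    (hT : T ∈ Subgroup.normalizer (R : Set G)) (r : ℕ) [hrp : Fact r.Prime]
    (hTr : ∀ a ∈ R, T ^ r * a = a * T ^ r) :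
    Nat.card ((Subgroup.centralizer ({T} : Set G)).subgroupOf R) ≡ N [MOD r] := by
  classical
  have hfin : Finite R := Nat.finite_of_card_ne_zero (by rw [hR]; exact hN)
  let _ : Fintype R := Fintype.ofFinite R
  let f : Function.End R := fun a => ⟨T * a * T⁻¹, (Subgroup.mem_normalizer_iff.mp hT a).mp a.2⟩
  have hfpow : ∀ (k : ℕ) (a : R), (((f ^ k) a : R) : G) = T ^ k * a * (T ^ k)⁻¹ := by
    intro k
    induction k with
    | zero =>
      intro a
      rw [pow_zero, pow_zero, one_mul, inv_one, mul_one]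
      rfl
    | succ k ih =>
      intro a
      rw [pow_succ]
      show (((f ^ k) (f a) : R) : G) = _
      rw [ih (f a)]
      show T ^ k * (T * a * T⁻¹) * (T ^ k)⁻¹ = _
      rw [pow_succ, mul_inv_rev]
      group
  have hfr : f ^ r ^ 1 = 1 := by
    rw [pow_one]
    funext a
    apply Subtype.ext
    rw [hfpow r a]
    show T ^ r * a * (T ^ r)⁻¹ = a
    rw [hTr a a.2, mul_inv_cancel_right]
  have hmod := Equiv.Perm.card_fixedPoints_modEq (p := r) (n := 1) hfr
  set C : Subgroup R := (Subgroup.centralizer ({T} : Set G)).subgroupOf R with hC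
  have hmemC : ∀ a : R, a ∈ C ↔ T * a = a * T := by
    intro a
    rw [hC, Subgroup.mem_subgroupOf, Subgroup.mem_centralizer_iff]
    constructor
    · intro h; exact h T rfl
    · intro h t ht
      rw [Set.mem_singleton_iff] at ht
      rw [ht]; exact h
  have hfix : Function.fixedPoints f = (C : Set R) := by
    ext a
    rw [Function.mem_fixedPoints, Function.IsFixedPt, SetLike.mem_coe, hmemC]
    constructor
    · intro h
      have := congrArg Subtype.val h
      have h2 : T * a * T⁻¹ = a := this
      calc T * (a : G) = T * a * T⁻¹ * T := by group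
        _ = a * T := by rw [h2]
    · intro h
      apply Subtype.ext
      show T * a * T⁻¹ = a
      rw [h, mul_inv_cancel_right]
  have hcardfix : Fintype.card (Function.fixedPoints f) = Nat.card C := by
    rw [← Nat.card_eq_fintype_card]
    exact Nat.card_congr (Equiv.setCongr hfix)
  rw [hcardfix, ← Nat.card_eq_fintype_card, hR] at hmod
  exact hmod.symm

theorem fix_count {i : F} {R : Subgroup (GL (Fin 4) F)} (h : RCtx i R) (T : GL (Fin 4) F)
    (hT : T ∈ Cfsg.Geo.subgroupNormalizer R) (r : ℕ) [Fact r.Prime]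
    (hTr : ∃ c : F, ((T ^ r : GL (Fin 4) F) : M4 F) = c • (1 : M4 F)) :
    Nat.card ((Subgroup.centralizer ({T} : Set (GL (Fin 4) F))).subgroupOf R) ≡ 64 [MOD r] := by
  obtain ⟨c, hc⟩ := hTr
  refine c6pnfix_abs R 64 (by norm_num) h.card T hT r ?_
  intro a _
  apply Units.ext
  rw [Units.val_mul, Units.val_mul, hc, Matrix.smul_mul, Matrix.mul_smul, Matrix.one_mul, Matrix.mul_one]

end Cfsg.Agent.Lib.Helper10.C6P
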