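import Mathlib
import Cfsg.Agent.Lib.helper6.SSCONJ.Defs
import Cfsg.Agent.Lib.Helper11.SSCONJCYCCHAR
import Cfsg.Agent.Lib.Helper22.TD.Cyclic

/-! Project SSCONJ (helper6): fallback copy of row CYCISO (seat-prefixed name), from CYCCHAR + Helper22 `td_conj_of_irreducible`. -/

set_option autoImplicit false

open Polynomial

namespace Cfsg.Agent.Lib.helper6.SSCONJ

universe u v

variable {F : Type*} [Field F]

theorem ssconjcyciso_h6 {V : Type u} {W : Type v} [AddCommGroup V] [Module F V] [FiniteDimensional F V] [AddCommGroup W] [Module F W] [FiniteDimensional F W]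
    (φ : Module.End F V) (ψ : Module.End F W) (v : V) (w : W) (hv0 : v ≠ 0) (hw0 : w ≠ 0)
    (f : F[X]) (hm : f.Monic) (hf : Irreducible f) (hv : aeval φ f v = 0) (hw : aeval ψ f w = 0)
    (hU : ∀ x ∈ cyc φ v f.natDegree, φ x ∈ cyc φ v f.natDegree) (hU₂ : ∀ x ∈ cyc ψ w f.natDegree, ψ x ∈ cyc ψ w f.natDegree) :
    ∃ e : cyc φ v f.natDegree ≃ₗ[F] cyc ψ w f.natDegree, ∀ u, e (φ.restrict hU u) = ψ.restrict hU₂ (e u) := by
  have h1 := cyc_charpoly φ v hv0 f hm hf hv hU
  have h2 := cyc_charpoly ψ w hw0 f hm hf hw hU₂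
  have hT : aeval (φ.restrict hU) f = 0 := by
    have := LinearMap.aeval_self_charpoly (φ.restrict hU)
    rwa [h1] at this
  have hT' : aeval (ψ.restrict hU₂) f = 0 := by
    have := LinearMap.aeval_self_charpoly (ψ.restrict hU₂)
    rwa [h2] at this
  have hdim : Module.finrank F (cyc φ v f.natDegree) = Module.finrank F (cyc ψ w f.natDegree) := by
    rw [← LinearMap.charpoly_natDegree (φ.restrict hU), ← LinearMap.charpoly_natDegree (ψ.restrict hU₂), h1, h2]
  exact Cfsg.Agent.Lib.Helper22.TD.td_conj_of_irreducible f hf (φ.restrict hU) hT (ψ.restrict hU₂) hT' hdim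

end Cfsg.Agent.Lib.helper6.SSCONJ
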