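import Mathlib

/-! Project SSCONJ (helper6), row IRR: an irreducible factor of the characteristic polynomial divides the minimal polynomial. -/

set_option autoImplicit false

open Polynomial

namespace Cfsg.Agent.Lib.helper6.SSCONJ

variable {F : Type*} [Field F]

/-- matrix form -/
theorem ssconjirr_matrix {ι : Type*} [Fintype ι] [DecidableEq ι] (M : Matrix ι ι F)
    (f : F[X]) (hf : Irreducible f) (hd : f ∣ M.charpoly) : f ∣ minpoly F M := by
  let K := AlgebraicClosure F
  let i : F →+* K := algebraMap F K
  -- a root of `f` in `K`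
  have hdeg : (f.map i).degree ≠ 0 := by
    rw [degree_map]
    exact (degree_pos_of_irreducible hf).ne'
  obtain ⟨lam, hlam⟩ := IsAlgClosed.exists_root (f.map i) hdeg
  -- it is a root of the characteristic polynomial of `M.map i`
  have hroot : (M.map i).charpoly.IsRoot lam := by
    rw [Matrix.charpoly_map]
    obtain ⟨g, hg⟩ := hd
    rw [hg, Polynomial.map_mul, IsRoot.def, eval_mul, hlam, zero_mul]
  -- eigenvector
  have hev : Module.End.HasEigenvalue (Matrix.toLin' (M.map i)) lam := by
    rw [Module.End.hasEigenvalue_iff_isRoot_charpoly, Matrix.charpoly_toLin']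
    exact hroot
  obtain ⟨u, hu⟩ := hev.exists_hasEigenvector
  -- the minimal polynomial kills `M.map i`
  set m := minpoly F M with hm
  have h1 : aeval (M.map i) m = 0 := by
    have h := Polynomial.aeval_algHom_apply ((Algebra.ofId F K).mapMatrix (m := ι)) M m
    have h2 : ((Algebra.ofId F K).mapMatrix (m := ι)) M = M.map i := rfl
    rw [h2] at h
    rw [h, hm, minpoly.aeval, map_zero]
  have h2 : aeval (M.map i) (m.map i) = 0 := by
    rw [Polynomial.aeval_map_algebraMap]
    exact h1
  have h3 : aeval (Matrix.toLin' (M.map i)) (m.map i) = 0 := by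
    have h := Polynomial.aeval_algHom_apply (Matrix.toLinAlgEquiv' (R := K) (n := ι)).toAlgHom
      (M.map i) (m.map i)
    have h4 : (Matrix.toLinAlgEquiv' (R := K) (n := ι)).toAlgHom (M.map i) = Matrix.toLin' (M.map i) := rfl
    rw [h4] at h
    rw [h, h2, map_zero]
  have h5 : (m.map i).eval lam • u = 0 := by
    rw [← Module.End.aeval_apply_of_hasEigenvector hu, h3, LinearMap.zero_apply]
  have h6 : (m.map i).eval lam = 0 := by
    rcases smul_eq_zero.mp h5 with h | h
    · exact h
    · exact absurd h hu.2
  -- so `lam` is a root of `m`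
  have h7 : aeval lam m = 0 := by
    rw [aeval_def, ← eval_map]
    exact h6
  have h8 : aeval lam f = 0 := by
    rw [aeval_def, ← eval_map]
    exact hlam
  have h9 : minpoly F lam ∣ m := minpoly.dvd F lam h7
  have h10 := minpoly.eq_of_irreducible hf h8
  exact (Dvd.intro _ h10).trans h9

/-- IRR -/
theorem irr_dvd_minpoly {V : Type*} [AddCommGroup V] [Module F V] [FiniteDimensional F V] (φ : Module.End F V)
    (f : F[X]) (hf : Irreducible f) (hd : f ∣ φ.charpoly) : f ∣ minpoly F φ := by
  classical
  let b := Module.Free.chooseBasis F V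
  have h1 := LinearMap.charpoly_toMatrix φ b
  have h2 := LinearMap.minpoly_toMatrix b φ
  rw [← h2]
  apply ssconjirr_matrix
  · exact hf
  · rw [h1]; exact hd

end Cfsg.Agent.Lib.helper6.SSCONJ
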