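import Mathlib
import Cfsg.Agent.Lib.helper6.SSCONJ.Defs
import Cfsg.Agent.Lib.helper6.SSCONJIRR
import Cfsg.Agent.Lib.Helper28.SSCONJSSPOW
import Cfsg.Agent.Lib.Helper28.SSCONJGLUE
import Cfsg.Agent.Lib.Helper11.SSCONJCYCINV
import Cfsg.Agent.Lib.Helper11.SSCONJCYCCHAR
import Cfsg.Agent.Lib.helper6.SSCONJCYCISOh6

set_option autoImplicit false

open Polynomial

namespace Cfsg.Agent.Lib.helper6.SSCONJ

universe u v

variable {F : Type*} [Field F]

theorem ssconjmain_mem_cyc {V : Type*} [AddCommGroup V] [Module F V] (φ : Module.End F V) (v : V) (d : ℕ)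
    (hd : 0 < d) : v ∈ cyc φ v d := by
  unfold cyc
  apply Submodule.subset_span
  exact ⟨⟨0, hd⟩, by simp⟩

theorem ssconjmain_aux (n : ℕ) : ∀ (V : Type u) (W : Type v) [AddCommGroup V] [Module F V] [FiniteDimensional F V]
    [AddCommGroup W] [Module F W] [FiniteDimensional F W]
    (φ : Module.End F V) (ψ : Module.End F W), Module.finrank F V = n → φ.IsSemisimple → ψ.IsSemisimple →
    φ.charpoly = ψ.charpoly → ∃ e : V ≃ₗ[F] W, ∀ x, e (φ x) = ψ (e x) := by
  induction n using Nat.strong_induction_on with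
  | _ n ih =>
    intro V W _ _ _ _ _ _ φ ψ hn hφ hψ hc
    have hW : Module.finrank F W = n := by
      rw [← hn, ← LinearMap.charpoly_natDegree φ, ← LinearMap.charpoly_natDegree ψ, hc]
    rcases Nat.eq_zero_or_pos n with h0 | hpos
    · -- both zero
      have hV0 : Subsingleton V := by
        rw [← Module.finrank_zero_iff (R := F)]; rw [hn, h0]
      have hW0 : Subsingleton W := by
        rw [← Module.finrank_zero_iff (R := F)]; rw [hW, h0]
      refine ⟨LinearEquiv.ofSubsingleton V W, fun x => Subsingleton.elim _ _⟩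
    · -- positive dimension
      have hVnt : Nontrivial V := by
        rw [← Module.finrank_pos_iff (R := F)]; omega
      have hmu : ¬ IsUnit (minpoly F φ) := minpoly.not_isUnit F φ
      have hm0 : minpoly F φ ≠ 0 := minpoly.ne_zero (Algebra.IsIntegral.isIntegral φ)
      obtain ⟨f₀, hf₀, hf₀d⟩ := WfDvdMonoid.exists_irreducible_factor hmu hm0
      -- normalise
      set f : F[X] := f₀ * C (f₀.leadingCoeff⁻¹) with hfdef
      have hf₀0 : f₀ ≠ 0 := hf₀.ne_zero
      have hfm : f.Monic := monic_mul_leadingCoeff_inv hf₀0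
      have hfirr : Irreducible f := by
        rw [hfdef]
        exact (irreducible_mul_leadingCoeff_inv).mpr hf₀
      have hff₀ : f ∣ f₀ := by
        refine ⟨C f₀.leadingCoeff, ?_⟩
        rw [hfdef, mul_assoc, ← C_mul, inv_mul_cancel₀ (leadingCoeff_ne_zero.mpr hf₀0), C_1, mul_one]
      have hfd : f ∣ minpoly F φ := hff₀.trans hf₀d
      have hfc : f ∣ φ.charpoly := hfd.trans (LinearMap.minpoly_dvd_charpoly φ)
      have hfd' : f ∣ minpoly F ψ := irr_dvd_minpoly ψ f hfirr (hc ▸ hfc)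
      obtain ⟨v, hv0, hv⟩ := exists_ker_ne φ f hfirr.not_isUnit hfd
      obtain ⟨w, hw0, hw⟩ := exists_ker_ne ψ f hfirr.not_isUnit hfd'
      have hU := cyc_invt φ v f hfm hv
      have hU₂ := cyc_invt ψ w f hfm hw
      have hcU := cyc_charpoly φ v hv0 f hfm hfirr hv hU
      have hcU₂ := cyc_charpoly ψ w hw0 f hfm hfirr hw hU₂
      obtain ⟨e₁, he₁⟩ := ssconjcyciso_h6 φ ψ v w hv0 hw0 f hfm hfirr hv hw hU hU₂
      obtain ⟨U', hU', hcompl, hss', hprod⟩ := split φ hφ _ hU
      obtain ⟨U₂', hU₂', hcompl₂, hss₂', hprod₂⟩ := split ψ hψ _ hU₂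
      rw [hcU] at hprod
      rw [hcU₂] at hprod₂
      have hc' : (φ.restrict hU').charpoly = (ψ.restrict hU₂').charpoly := by
        have : f * (φ.restrict hU').charpoly = f * (ψ.restrict hU₂').charpoly := by
          rw [← hprod, ← hprod₂, hc]
        exact mul_left_cancel₀ hfirr.ne_zero this
      -- dimension drops
      have hdpos : 0 < f.natDegree := hfirr.natDegree_pos
      have hvU : v ∈ cyc φ v f.natDegree := ssconjmain_mem_cyc φ v _ hdpos
      have hUpos : 0 < Module.finrank F (cyc φ v f.natDegree) := by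
        rw [Module.finrank_pos_iff_exists_ne_zero]
        exact ⟨⟨v, hvU⟩, fun h => hv0 (Subtype.ext_iff.mp h)⟩
      have hsum := Submodule.finrank_add_eq_of_isCompl hcompl
      have hlt : Module.finrank F U' < n := by omega
      obtain ⟨e₂, he₂⟩ := ih _ hlt U' U₂' (φ.restrict hU') (ψ.restrict hU₂') rfl hss' hss₂' hc'
      exact glue φ ψ _ U' hU hU' hcompl _ U₂' hU₂ hU₂' hcompl₂ e₁ he₁ e₂ he₂

theorem ss_equiv {V : Type u} {W : Type v} [AddCommGroup V] [Module F V] [FiniteDimensional F V] [AddCommGroup W] [Module F W] [FiniteDimensional F W]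
    (φ : Module.End F V) (ψ : Module.End F W) (hφ : φ.IsSemisimple) (hψ : ψ.IsSemisimple) (hc : φ.charpoly = ψ.charpoly) :
    ∃ e : V ≃ₗ[F] W, ∀ x, e (φ x) = ψ (e x) :=
  ssconjmain_aux _ V W φ ψ rfl hφ hψ hc

end Cfsg.Agent.Lib.helper6.SSCONJ
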