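import Mathlib

/-! Project SSCONJ (helper6), row MAT (core): matrix form of `ss_equiv`, with the statement of `ss_equiv` (for `V = W = n → F`) as a hypothesis; and SSPOW-free corollary. -/

set_option autoImplicit false

open Polynomial

namespace Cfsg.Agent.Lib.helper6.SSCONJ

variable {F : Type*} [Field F]

theorem ssconjmat_core_h6 {n : Type*} [Fintype n] [DecidableEq n] (x y : Matrix n n F)
    (hequiv : ∃ e : (n → F) ≃ₗ[F] (n → F), ∀ v, e (Matrix.toLin' x v) = Matrix.toLin' y (e v)) :
    ∃ g : GL n F, (g : Matrix n n F) * x * ((g⁻¹ : GL n F) : Matrix n n F) = y := by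
  obtain ⟨e, he⟩ := hequiv
  set G : Matrix n n F := LinearMap.toMatrix' (e : (n → F) →ₗ[F] (n → F)) with hG
  set G' : Matrix n n F := LinearMap.toMatrix' (e.symm : (n → F) →ₗ[F] (n → F)) with hG'
  have h1 : G * G' = 1 := by
    rw [hG, hG', ← LinearMap.toMatrix'_comp]
    have : (e : (n → F) →ₗ[F] (n → F)).comp (e.symm : (n → F) →ₗ[F] (n → F)) = LinearMap.id := by
      ext v : 1
      simp
    rw [this, LinearMap.toMatrix'_id]
  have h2 : G' * G = 1 := by
    rw [hG, hG', ← LinearMap.toMatrix'_comp]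
    have : (e.symm : (n → F) →ₗ[F] (n → F)).comp (e : (n → F) →ₗ[F] (n → F)) = LinearMap.id := by
      ext v : 1
      simp
    rw [this, LinearMap.toMatrix'_id]
  have h3 : G * x = y * G := by
    have hx : x = LinearMap.toMatrix' (Matrix.toLin' x) := (LinearMap.toMatrix'_toLin' x).symm
    have hy : y = LinearMap.toMatrix' (Matrix.toLin' y) := (LinearMap.toMatrix'_toLin' y).symm
    rw [hG]
    conv_lhs => rw [hx]
    conv_rhs => rw [hy]
    rw [← LinearMap.toMatrix'_comp, ← LinearMap.toMatrix'_comp]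
    congr 1
    apply LinearMap.ext
    intro v
    exact he v
  refine ⟨⟨G, G', h1, h2⟩, ?_⟩
  show G * x * G' = y
  rw [h3, mul_assoc, h1, mul_one]

end Cfsg.Agent.Lib.helper6.SSCONJ
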