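import Mathlib
import Cfsg.Agent.Lib.helper6.SSCONJMAIN
import Cfsg.Agent.Lib.helper6.SSCONJMATcore

/-! Project SSCONJ (helper6), follow-up tool SLCONJ: over a FINITE field the centraliser of a semisimple endomorphism has all determinants,
hence `GL`-conjugate semisimple matrices are `SL`-conjugate.  (Cyclic summand `U ≅ F[X]/(f)`: multiplication by `z` in the field `AdjoinRoot f`
has determinant `Algebra.norm F z`; `FiniteField.norm_surjective`; identity on an invariant complement.) -/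

set_option autoImplicit false

open Polynomial

namespace Cfsg.Agent.Lib.helper6.SSCONJ

universe u v

variable {F : Type*} [Field F]

/-- the algebra hom `F[X]/(f) → End U`, `X ↦ ψ`, for `ψ` killed by `f` -/
noncomputable def ssconjdet_L {U : Type*} [AddCommGroup U] [Module F U]
    (ψ : Module.End F U) (f : F[X]) (hkill : aeval ψ f = 0) : AdjoinRoot f →ₐ[F] Module.End F U :=
  Ideal.Quotient.liftₐ (Ideal.span {f}) (aeval ψ) (by
    intro a ha
    obtain ⟨b, rfl⟩ := Ideal.mem_span_singleton.mp ha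
    rw [map_mul, hkill, zero_mul])

theorem ssconjdet_L_mk {U : Type*} [AddCommGroup U] [Module F U]
    (ψ : Module.End F U) (f : F[X]) (hkill : aeval ψ f = 0) (g : F[X]) :
    ssconjdet_L ψ f hkill (AdjoinRoot.mk f g) = aeval ψ g := by
  rfl

theorem ssconjdet_L_root {U : Type*} [AddCommGroup U] [Module F U]
    (ψ : Module.End F U) (f : F[X]) (hkill : aeval ψ f = 0) :
    ssconjdet_L ψ f hkill (AdjoinRoot.root f) = ψ := by
  rw [AdjoinRoot.root, ssconjdet_L_mk, aeval_X]

theorem ssconjdet_det_L {U : Type*} [AddCommGroup U] [Module F U] [FiniteDimensional F U]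
    (ψ : Module.End F U) (f : F[X]) [hfi : Fact (Irreducible f)] (hkill : aeval ψ f = 0)
    (hdim : Module.finrank F U = f.natDegree) (u₀ : U) (hu₀ : u₀ ≠ 0) (z : AdjoinRoot f) :
    LinearMap.det (ssconjdet_L ψ f hkill z) = Algebra.norm F z := by
  classical
  set L := ssconjdet_L ψ f hkill with hL
  let T : AdjoinRoot f →ₗ[F] U := (LinearMap.applyₗ u₀).comp L.toLinearMap
  have hT : ∀ w, T w = L w u₀ := fun w => rfl
  have hTmul : ∀ z w, T (z * w) = L z (T w) := by
    intro z w
    rw [hT, hT, map_mul]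
    rfl
  have hinj : Function.Injective T := by
    rw [← LinearMap.ker_eq_bot, LinearMap.ker_eq_bot']
    intro w hw
    by_contra hw0
    have h1 : T 1 = 0 := by
      have := hTmul w⁻¹ w
      rw [inv_mul_cancel₀ hw0, hw, map_zero] at this
      exact this
    rw [hT, map_one] at h1
    exact hu₀ h1
  have hf0 : f ≠ 0 := hfi.out.ne_zero
  have hfin : Module.finrank F (AdjoinRoot f) = f.natDegree := by
    rw [(AdjoinRoot.powerBasis hf0).finrank, AdjoinRoot.powerBasis_dim]
  have : Module.Finite F (AdjoinRoot f) := (AdjoinRoot.powerBasis hf0).finite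
  let E : AdjoinRoot f ≃ₗ[F] U := LinearEquiv.ofInjectiveOfFinrankEq T hinj (by rw [hfin, hdim])
  have hE : ∀ w, E w = T w := fun w => rfl
  have hconj : L z = (E : AdjoinRoot f →ₗ[F] U) ∘ₗ (Algebra.lmul F (AdjoinRoot f) z) ∘ₗ (E.symm : U →ₗ[F] AdjoinRoot f) := by
    ext u
    obtain ⟨w, rfl⟩ := E.surjective u
    show L z (E w) = E ((Algebra.lmul F (AdjoinRoot f) z) (E.symm (E w)))
    rw [LinearEquiv.symm_apply_apply, hE, hE]
    exact (hTmul z w).symm
  rw [hconj, LinearMap.det_conj, Algebra.norm_apply]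

/-- gluing `g` on `U` with the identity on a complement `U'`: the determinant and the action -/
theorem ssconjdet_glue {V : Type*} [AddCommGroup V] [Module F V] [FiniteDimensional F V]
    (U U' : Submodule F V) (hc : IsCompl U U') (g : U ≃ₗ[F] U) :
    ∃ e : V ≃ₗ[F] V, (∀ (u : U) (u' : U'), e ((u : V) + (u' : V)) = (g u : V) + (u' : V)) ∧
      LinearMap.det (e : V →ₗ[F] V) = LinearMap.det (g : U →ₗ[F] U) := by
  classical
  let P := Submodule.prodEquivOfIsCompl U U' hc
  refine ⟨P.symm ≪≫ₗ (g.prodCongr (LinearEquiv.refl F U')) ≪≫ₗ P, ?_, ?_⟩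
  · intro u u'
    have h1 : P.symm ((u : V) + (u' : V)) = (u, u') := by
      rw [LinearEquiv.symm_apply_eq]
      simp [P, Submodule.coe_prodEquivOfIsCompl']
    simp only [LinearEquiv.trans_apply, h1]
    simp [P, Submodule.coe_prodEquivOfIsCompl']
  · have : ((P.symm ≪≫ₗ (g.prodCongr (LinearEquiv.refl F U')) ≪≫ₗ P : V ≃ₗ[F] V) : V →ₗ[F] V)
        = (P : (U × U') →ₗ[F] V) ∘ₗ (LinearMap.prodMap (g : U →ₗ[F] U) (LinearMap.id : U' →ₗ[F] U')) ∘ₗ (P.symm : V →ₗ[F] (U × U')) := by
      ext x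
      simp
    rw [this, LinearMap.det_conj, LinearMap.det_prodMap, LinearMap.det_id, mul_one]

/-- SLCONJ (1): the centraliser of a semisimple endomorphism of a nonzero space over a FINITE field has all determinants. -/
theorem ssconjdet_end [Finite F] {V : Type*} [AddCommGroup V] [Module F V] [FiniteDimensional F V] [Nontrivial V]
    (φ : Module.End F V) (hφ : φ.IsSemisimple) (a : F) (ha : a ≠ 0) :
    ∃ e : V ≃ₗ[F] V, (∀ x, e (φ x) = φ (e x)) ∧ LinearMap.det (e : V →ₗ[F] V) = a := by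
  classical
  have hmu : ¬ IsUnit (minpoly F φ) := minpoly.not_isUnit F φ
  have hm0 : minpoly F φ ≠ 0 := minpoly.ne_zero (Algebra.IsIntegral.isIntegral φ)
  obtain ⟨f₀, hf₀, hf₀d⟩ := WfDvdMonoid.exists_irreducible_factor hmu hm0
  set f : F[X] := f₀ * C (f₀.leadingCoeff⁻¹) with hfdef
  have hf₀0 : f₀ ≠ 0 := hf₀.ne_zero
  have hfm : f.Monic := monic_mul_leadingCoeff_inv hf₀0
  have hfirr : Irreducible f := by
    rw [hfdef]
    exact (irreducible_mul_leadingCoeff_inv).mpr hf₀
  have hff₀ : f ∣ f₀ := by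
    refine ⟨C f₀.leadingCoeff, ?_⟩
    rw [hfdef, mul_assoc, ← C_mul, inv_mul_cancel₀ (leadingCoeff_ne_zero.mpr hf₀0), C_1, mul_one]
  have hfd : f ∣ minpoly F φ := hff₀.trans hf₀d
  obtain ⟨v, hv0, hv⟩ := exists_ker_ne φ f hfirr.not_isUnit hfd
  have hU := cyc_invt φ v f hfm hv
  have hcU := cyc_charpoly φ v hv0 f hfm hfirr hv hU
  have hdpos : 0 < f.natDegree := hfirr.natDegree_pos
  have hvU : v ∈ cyc φ v f.natDegree := ssconjmain_mem_cyc φ v _ hdpos
  obtain ⟨U', hU', hcompl, -, -⟩ := split φ hφ _ hU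
  set U := cyc φ v f.natDegree with hUdef
  set ψ : Module.End F U := φ.restrict hU with hψ
  have hkill : aeval ψ f = 0 := by
    have := LinearMap.aeval_self_charpoly ψ
    rwa [hcU] at this
  have hdim : Module.finrank F U = f.natDegree := by
    rw [← LinearMap.charpoly_natDegree ψ, hcU]
  have : Fact (Irreducible f) := ⟨hfirr⟩
  have hf0 : f ≠ 0 := hfirr.ne_zero
  have hmf : Module.Finite F (AdjoinRoot f) := (AdjoinRoot.powerBasis hf0).finite
  have : Finite (AdjoinRoot f) := Module.finite_of_finite F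
  obtain ⟨z, hz⟩ := FiniteField.norm_surjective F (AdjoinRoot f) a
  have hz0 : z ≠ 0 := by
    rintro rfl
    rw [Algebra.norm_zero] at hz
    exact ha hz.symm
  set L := ssconjdet_L ψ f hkill with hL
  have hdet : LinearMap.det (L z) = a := by
    rw [hL, ssconjdet_det_L ψ f hkill hdim ⟨v, hvU⟩ (fun h => hv0 (Subtype.ext_iff.mp h)) z, hz]
  let g : U ≃ₗ[F] U := LinearEquiv.ofLinearMap (L z) (L z⁻¹)
    (by rw [← Module.End.mul_eq_comp, ← map_mul, mul_inv_cancel₀ hz0, map_one]; rfl)
    (by rw [← Module.End.mul_eq_comp, ← map_mul, inv_mul_cancel₀ hz0, map_one]; rfl)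
  have hg : ∀ u, g u = L z u := fun u => rfl
  have hcomm : ∀ u, L z (ψ u) = ψ (L z u) := by
    intro u
    have h1 : L (AdjoinRoot.root f) = ψ := ssconjdet_L_root ψ f hkill
    have h2 : L z * L (AdjoinRoot.root f) = L (AdjoinRoot.root f) * L z := by
      rw [← map_mul, ← map_mul, mul_comm]
    rw [h1] at h2
    exact congrArg (fun T => T u) h2
  obtain ⟨e, he, hedet⟩ := ssconjdet_glue U U' hcompl g
  refine ⟨e, ?_, ?_⟩
  · intro x
    obtain ⟨u, u', rfl⟩ : ∃ (u : U) (u' : U'), (u : V) + (u' : V) = x := by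
      have hx : x ∈ U ⊔ U' := by rw [hcompl.sup_eq_top]; trivial
      obtain ⟨y, hy, y', hy', rfl⟩ := Submodule.mem_sup.mp hx
      exact ⟨⟨y, hy⟩, ⟨y', hy'⟩, rfl⟩
    have h1 : φ ((u : V) + (u' : V)) = ((ψ u : U) : V) + ((φ.restrict hU' u' : U') : V) := by
      rw [map_add]; rfl
    rw [h1, he, he, map_add, hg, hg, hcomm]
    rfl
  · rw [hedet]
    exact hdet

/-- SLCONJ (2): matrix form. -/
theorem ssconjdet_matrix [Finite F] {n : Type*} [Fintype n] [DecidableEq n] [Nonempty n] (y : Matrix n n F)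
    (hy : Module.End.IsSemisimple (Matrix.toLin' y)) (a : F) (ha : a ≠ 0) :
    ∃ C : Matrix n n F, C * y = y * C ∧ C.det = a := by
  obtain ⟨e, he, hdet⟩ := ssconjdet_end (Matrix.toLin' y) hy a ha
  refine ⟨LinearMap.toMatrix' (e : (n → F) →ₗ[F] (n → F)), ?_, ?_⟩
  · have hy' : y = LinearMap.toMatrix' (Matrix.toLin' y) := (LinearMap.toMatrix'_toLin' y).symm
    conv_lhs => rw [hy']
    conv_rhs => rw [hy']
    rw [← LinearMap.toMatrix'_comp, ← LinearMap.toMatrix'_comp]
    congr 1
    apply LinearMap.ext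
    intro v
    exact he v
  · rw [LinearMap.det_toMatrix']
    exact hdet

/-- SLCONJ (3): a `GL`-conjugacy of a semisimple matrix over a finite field can be replaced by an `SL`-conjugacy (intertwining form). -/
theorem ssconjdet_sl_of_gl_mul [Finite F] {n : Type*} [Fintype n] [DecidableEq n] (x y : Matrix n n F)
    (hx : Module.End.IsSemisimple (Matrix.toLin' x)) (g : Matrix n n F) (hg : g.det ≠ 0) (h : g * x = y * g) :
    ∃ Q : Matrix.SpecialLinearGroup n F, (Q : Matrix n n F) * x = y * (Q : Matrix n n F) := by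
  rcases isEmpty_or_nonempty n with hn | hn
  · exact ⟨1, Subsingleton.elim _ _⟩
  · obtain ⟨C, hC, hCdet⟩ := ssconjdet_matrix x hx (g.det)⁻¹ (inv_ne_zero hg)
    refine ⟨⟨g * C, by rw [Matrix.det_mul, hCdet, mul_inv_cancel₀ hg]⟩, ?_⟩
    show g * C * x = y * (g * C)
    rw [mul_assoc, hC, ← mul_assoc, h, mul_assoc]

/-- SLCONJ (3'): group form. -/
theorem ssconjdet_sl_of_gl [Finite F] {n : Type*} [Fintype n] [DecidableEq n] (x y : Matrix n n F)
    (hx : Module.End.IsSemisimple (Matrix.toLin' x)) (g : GL n F)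
    (h : (g : Matrix n n F) * x * ((g⁻¹ : GL n F) : Matrix n n F) = y) :
    ∃ Q : Matrix.SpecialLinearGroup n F,
      (Q : Matrix n n F) * x * ((Q⁻¹ : Matrix.SpecialLinearGroup n F) : Matrix n n F) = y := by
  have hgdet : (g : Matrix n n F).det ≠ 0 := by
    have := (Matrix.isUnits_det_units g)
    exact this.ne_zero
  have hgg : ((g⁻¹ : GL n F) : Matrix n n F) * (g : Matrix n n F) = 1 := by
    rw [← Matrix.GeneralLinearGroup.coe_mul, inv_mul_cancel]; rfl
  have h' : (g : Matrix n n F) * x = y * (g : Matrix n n F) := by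
    rw [← h, mul_assoc, hgg, mul_one]
  obtain ⟨Q, hQ⟩ := ssconjdet_sl_of_gl_mul x y hx g hgdet h'
  refine ⟨Q, ?_⟩
  have hQQ : (Q : Matrix n n F) * ((Q⁻¹ : Matrix.SpecialLinearGroup n F) : Matrix n n F) = 1 := by
    rw [← Matrix.SpecialLinearGroup.coe_mul, mul_inv_cancel]; rfl
  rw [hQ, mul_assoc, hQQ, mul_one]

/-- SLCONJ (4): semisimple matrices over a finite field with the same characteristic polynomial are `SL`-conjugate. -/
theorem ssconjdet_conj_sl [Finite F] {n : Type*} [Fintype n] [DecidableEq n] (x y : Matrix n n F)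
    (hx : Module.End.IsSemisimple (Matrix.toLin' x)) (hy : Module.End.IsSemisimple (Matrix.toLin' y))
    (hc : x.charpoly = y.charpoly) :
    ∃ Q : Matrix.SpecialLinearGroup n F,
      (Q : Matrix n n F) * x * ((Q⁻¹ : Matrix.SpecialLinearGroup n F) : Matrix n n F) = y := by
  have hc' : (Matrix.toLin' x).charpoly = (Matrix.toLin' y).charpoly := by
    rw [Matrix.charpoly_toLin', Matrix.charpoly_toLin', hc]
  obtain ⟨g, hg⟩ := ssconjmat_core_h6 x y (ss_equiv _ _ hx hy hc')
  exact ssconjdet_sl_of_gl x y hx g hg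

/-- SLCONJ (5): matrices of order dividing `r` (prime to the characteristic) over a finite field with the same characteristic polynomial are `SL`-conjugate. -/
theorem ssconjdet_conj_sl_of_pow [Finite F] {n : Type*} [Fintype n] [DecidableEq n] (x y : Matrix n n F) (r : ℕ) (hr : (r : F) ≠ 0)
    (hx : x ^ r = 1) (hy : y ^ r = 1) (hc : x.charpoly = y.charpoly) :
    ∃ Q : Matrix.SpecialLinearGroup n F,
      (Q : Matrix n n F) * x * ((Q⁻¹ : Matrix.SpecialLinearGroup n F) : Matrix n n F) = y :=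
  ssconjdet_conj_sl x y (ss_of_pow_eq_one x r hr hx) (ss_of_pow_eq_one y r hr hy) hc

end Cfsg.Agent.Lib.helper6.SSCONJ
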