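import Mathlib
import Cfsg.Agent.Lib.Helper10.C6P.Defs

/-! Project C6P (designer helper10), row E2 (helper6): CORE of `suff_two` (`AllFix R 2`), with the statements of E2SQ, LINV, E2W, CONJ
(at `r = 2`) as hypotheses. -/

set_option autoImplicit false

namespace Cfsg.Agent.Lib.Helper10.C6P

open Polynomial Matrix

variable {F : Type*} [Field F]

/-- CORE of E2: the statements of E2SQ, LINV, E2W, CONJ (for `r = 2`) as hypotheses -/
theorem c6pe2_core {R : Subgroup (GL (Fin 4) F)}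
    (hSQ : ∀ x : GL (Fin 4) F, x ∈ Cfsg.Geo.specialLinear (Fin 4) F → ∀ z : F,
      (x : M4 F) * (x : M4 F) = z • (1 : M4 F) → ∃ a : F, a * a = z)
    (hLINV : ∀ u : M4 F, u * u = 1 → u ≠ 1 → u ≠ -1 →
      ∃ j : ℕ, 1 ≤ j ∧ j ≤ 3 ∧ u.charpoly = (X - C (1 : F)) ^ j * (X + C (1 : F)) ^ (4 - j))
    (hW : ∀ j : ℕ, 1 ≤ j → j ≤ 3 →
      ∃ y : M4 F, Nrm R y ∧ y ^ 2 = 1 ∧ y.charpoly = (X - C (1 : F)) ^ j * (X + C (1 : F)) ^ (4 - j))
    (hCONJ : ∀ x : GL (Fin 4) F, x ∈ Cfsg.Geo.specialLinear (Fin 4) F → ∀ w : F, w ≠ 0 → ∀ y : M4 F, Nrm R y →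
      (w⁻¹ • (x : M4 F)) ^ 2 = 1 → y ^ 2 = 1 → (w⁻¹ • (x : M4 F)).charpoly = y.charpoly →
      ∃ g ∈ Cfsg.Geo.specialLinear (Fin 4) F, g⁻¹ * x * g ∈ Cfsg.Geo.subgroupNormalizer R) :
    AllFix R 2 := by
  intro x hx ⟨z, hz⟩ hns
  have hxx : (x : M4 F) * (x : M4 F) = z • (1 : M4 F) := by
    rw [← hz, Units.val_pow_eq_pow_val, pow_two]
  obtain ⟨a, ha⟩ := hSQ x hx z hxx
  have hz0 : z ≠ 0 := by
    intro h0
    rw [h0, zero_smul] at hxx
    have h1 : ((x * x : GL (Fin 4) F) : M4 F) = 0 := by rw [Units.val_mul]; exact hxx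
    have h2 : ((x * x : GL (Fin 4) F) : M4 F) * (((x * x)⁻¹ : GL (Fin 4) F) : M4 F) = 1 := by
      rw [← Units.val_mul, mul_inv_cancel, Units.val_one]
    rw [h1, zero_mul] at h2
    exact zero_ne_one h2
  have ha0 : a ≠ 0 := by
    intro h0
    rw [h0, mul_zero] at ha
    exact hz0 ha.symm
  have huu : (a⁻¹ • (x : M4 F)) * (a⁻¹ • (x : M4 F)) = 1 := by
    rw [smul_mul_smul_comm, hxx, smul_smul, ← ha]
    have : a⁻¹ * a⁻¹ * (a * a) = 1 := by field_simp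
    rw [this, one_smul]
  have hu1 : a⁻¹ • (x : M4 F) ≠ 1 := by
    intro h1
    apply hns a
    have := congrArg (fun m : M4 F => a • m) h1
    simp only [smul_smul, mul_inv_cancel₀ ha0, one_smul] at this
    exact this
  have hu1' : a⁻¹ • (x : M4 F) ≠ -1 := by
    intro h1
    apply hns (-a)
    have := congrArg (fun m : M4 F => a • m) h1
    simp only [smul_smul, mul_inv_cancel₀ ha0, one_smul, smul_neg] at this
    rw [this, neg_smul]
  obtain ⟨j, hj1, hj3, hcp⟩ := hLINV _ huu hu1 hu1'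
  obtain ⟨y, hyN, hy2, hycp⟩ := hW j hj1 hj3
  exact hCONJ x hx a ha0 y hyN (by rw [pow_two]; exact huu) hy2 (by rw [hcp, hycp])

end Cfsg.Agent.Lib.Helper10.C6P
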