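import Mathlib

set_option autoImplicit false

namespace Cfsg.Agent.Lib.helper6

open MulAction

theorem exists_perm_embedding {α : Type*} [DecidableEq α] (G : Subgroup (Equiv.Perm α)) (j : ℕ)
    (h : ∀ Z : Finset α, Z.card < j → ∀ a b : α, a ∉ Z → b ∉ Z →
      ∃ g ∈ G, (∀ z ∈ Z, g z = z) ∧ g a = b) :
    ∀ i : ℕ, i ≤ j → ∀ x y : Fin i ↪ α, ∃ g ∈ G, ∀ t, g (x t) = y t := by
  intro i
  induction i with
  | zero =>
    intro _ x y
    exact ⟨1, G.one_mem, fun t => t.elim0⟩
  | succ i ih =>
    intro hij x y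
    obtain ⟨g, hg, hgx⟩ := ih (by omega) (Fin.castSuccEmb.trans x) (Fin.castSuccEmb.trans y)
    set Z : Finset α := Finset.univ.image (Fin.castSuccEmb.trans y) with hZ
    have hZcard : Z.card = i := by
      rw [hZ, Finset.card_image_of_injective _ (Fin.castSuccEmb.trans y).injective]
      simp
    have ha : g (x (Fin.last i)) ∉ Z := by
      rw [hZ, Finset.mem_image]
      rintro ⟨t, -, ht⟩
      rw [← hgx t] at ht
      have := x.injective (g.injective ht)
      exact absurd this (Fin.castSucc_ne_last t)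
    have hb : y (Fin.last i) ∉ Z := by
      rw [hZ, Finset.mem_image]
      rintro ⟨t, -, ht⟩
      have := y.injective ht
      exact absurd this (Fin.castSucc_ne_last t)
    obtain ⟨k, hk, hkZ, hkab⟩ := h Z (by omega) _ _ ha hb
    refine ⟨k * g, G.mul_mem hk hg, ?_⟩
    intro t
    rw [Equiv.Perm.mul_apply]
    induction t using Fin.lastCases with
    | last => exact hkab
    | cast t =>
      have h1 : g (x t.castSucc) = y t.castSucc := hgx t
      rw [h1]
      apply hkZ
      rw [hZ, Finset.mem_image]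
      exact ⟨t, Finset.mem_univ _, rfl⟩

theorem isMultiplyPretransitive_of_fixing {α : Type*} [DecidableEq α] (G : Subgroup (Equiv.Perm α))
    (j : ℕ)
    (h : ∀ Z : Finset α, Z.card < j → ∀ a b : α, a ∉ Z → b ∉ Z →
      ∃ g ∈ G, (∀ z ∈ Z, g z = z) ∧ g a = b) :
    IsMultiplyPretransitive G α j := by
  rw [isMultiplyPretransitive_iff]
  intro x y
  obtain ⟨g, hg, hgx⟩ := exists_perm_embedding G j h j le_rfl x y
  refine ⟨⟨g, hg⟩, ?_⟩
  ext t
  exact hgx t

end Cfsg.Agent.Lib.helper6
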