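import Mathlib
import Cfsg.Prelude.Def_Characters
import Cfsg.Prelude.Def_Blocks
import Cfsg.Agent.Lib.Helper25.CharLinear
import Cfsg.Agent.Lib.Helper29.LeoOrbit
import Cfsg.Agent.Lib.helper7.BR.Defs
import Cfsg.Agent.Lib.Helper13.BT.Defs

set_option autoImplicit false
set_option linter.unusedVariables false
set_option linter.unusedSectionVars false

namespace Cfsg.Agent.Lib.Helper13.BT

open Classical
open scoped ComplexConjugate
open Cfsg.Agent.Lib.Helper25 Cfsg.Agent.Lib.Helper29
open Cfsg.Agent.Lib.helper7.BR

universe u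

variable {G : Type u} [Group G] [Fintype G] {p : ℕ} [Fact p.Prime]

/-- CLS : the size of a conjugacy class -/
theorem card_conj_class (g : G) :
    Nat.card {x : G // IsConj g x} * Nat.card ↥(Subgroup.centralizer ({g} : Set G)) = Nat.card G := by
  have h1 := MulAction.card_orbit_mul_card_stabilizer_eq_card_group (ConjAct G) g
  have horb : Nat.card {x : G // IsConj g x} = Nat.card ↥(MulAction.orbit (ConjAct G) g) := by
    apply Nat.card_congr
    refine Equiv.subtypeEquivRight ?_
    intro x
    rw [ConjAct.mem_orbit_conjAct]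
    exact ⟨fun h => h.symm, fun h => h.symm⟩
  have hstab : Nat.card ↥(Subgroup.centralizer ({g} : Set G)) =
      Nat.card ↥(MulAction.stabilizer (ConjAct G) g) := by
    apply Nat.card_congr
    refine ⟨fun x => ⟨ConjAct.toConjAct x.1, ?_⟩, fun y => ⟨ConjAct.ofConjAct y.1, ?_⟩, ?_, ?_⟩
    · rw [MulAction.mem_stabilizer_iff, ConjAct.toConjAct_smul]
      have := Subgroup.mem_centralizer_iff.mp x.2 g (Set.mem_singleton g)
      rw [← this, mul_inv_cancel_right]
    · have hy := MulAction.mem_stabilizer_iff.mp y.2
      rw [ConjAct.smul_def] at hy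
      rw [Subgroup.mem_centralizer_iff]
      intro h hh
      rw [Set.mem_singleton_iff] at hh
      subst hh
      nth_rewrite 1 [← hy]
      group
    · intro x; rfl
    · intro y; rfl
  rw [horb, hstab, Nat.card_eq_fintype_card, Nat.card_eq_fintype_card, Nat.card_eq_fintype_card]
  have h2 : Fintype.card (ConjAct G) = Fintype.card G := ConjAct.card
  rw [← h2]
  convert h1 using 2

end Cfsg.Agent.Lib.Helper13.BT
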