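import Mathlib
import Cfsg.Agent.Lib.Helper18.BLK.Defs
import Cfsg.Agent.Lib.Helper1.MaxClass

/-!
# BLK piece B4 (helper6): maximal class via S0112 (`Helper1.class_of_self_centralizing`).
-/

set_option autoImplicit false

namespace Cfsg.Agent.Lib.Helper18.BLK

universe u

/-- **B4**. maximal class via S0112 (`A := centralizer {g}` is self-centralizing of order `p²`). -/
theorem lcs_ne_bot {G : Type*} [Group G] [Finite G] {p : ℕ} [Fact p.Prime] (n : ℕ)
    (hn : Nat.card G = p ^ n) (hn3 : 3 ≤ n) (g : G)
    (hc : Nat.card (Subgroup.centralizer ({g} : Set G)) = p ^ 2) :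
    (⊤ : Subgroup G).lowerCentralSeries (n - 2) ≠ ⊥ := by
  set A : Subgroup G := Subgroup.centralizer ({g} : Set G) with hA
  have hgA : g ∈ A := by
    rw [hA, Subgroup.mem_centralizer_iff]
    intro h hh
    rw [Set.mem_singleton_iff.mp hh]
  have hAcomm : IsMulCommutative A := IsPGroup.isMulCommutative_of_card_eq_prime_sq hc
  have hself : Subgroup.centralizer (A : Set G) = A := by
    apply le_antisymm
    · intro x hx
      rw [hA, Subgroup.mem_centralizer_iff]
      intro h hh
      rw [Set.mem_singleton_iff.mp hh]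
      exact Subgroup.mem_centralizer_iff.mp hx g hgA
    · intro x hx
      rw [Subgroup.mem_centralizer_iff]
      intro a ha
      have := hAcomm.is_comm.comm (⟨a, ha⟩ : A) ⟨x, hx⟩
      exact congrArg Subtype.val this
  have hclass : Group.nilpotencyClass G = n - 1 :=
    Cfsg.Agent.Lib.Helper1.class_of_self_centralizing p n G hn A hc hself
  haveI : Group.IsNilpotent G := (IsPGroup.of_card hn).isNilpotent
  intro hbot
  have hle : Group.nilpotencyClass G ≤ n - 2 :=
    Subgroup.lowerCentralSeries_eq_bot_iff_nilpotencyClass_le.mp hbot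
  omega

end Cfsg.Agent.Lib.Helper18.BLK
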