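import Cfsg.Agent.Lib.Helper10.SZC.Defs
import Cfsg.Agent.Lib.Helper11.AbelianQuot
import Cfsg.Agent.Lib.Helper11.IndTrans
import Cfsg.Agent.Lib.Helper25.CharBasic

/-!
# SZC row P1 (`ps_class`): a non-cuspidal irreducible character is `1`, `X` or `Ind_H μ`
-/

set_option autoImplicit false
open scoped ComplexConjugate

namespace Cfsg.Agent.Lib.Helper10.SZC

open Cfsg.Agent.Lib.Helper11 Cfsg.Agent.Lib.Helper25 Cfsg.Agent.Lib.helper2

section
variable {G : Type*} [Group G] [Fintype G]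
variable {q r : ℕ}

/-- `Ind_Q^G 1` is a scalar multiple of the sum of the `Ind_H^G φ`, `φ` a linear character of `H`
trivial on `Q`. -/
theorem szcP1_ind_decomp (D : SzcData G q r)
    [Fintype ↥(annih (D.Q.subgroupOf D.H))] :
    ∃ c : ℂ, Cfsg.indFun D.Q (fun _ => (1 : ℂ)) =
      c • ∑ φ : ↥(annih (D.Q.subgroupOf D.H)),
        Cfsg.indFun D.H (fun u : ↥D.H => (((φ : ↥D.H →* ℂˣ) u : ℂˣ) : ℂ)) := by
  classical
  have hN : (D.Q.subgroupOf D.H).Normal := by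
    constructor
    intro n hn g
    rw [Subgroup.mem_subgroupOf] at hn ⊢
    exact D.Q_norm g g.2 n hn
  have hab : ∀ x y : ↥D.H, x * y * x⁻¹ * y⁻¹ ∈ D.Q.subgroupOf D.H := by
    intro x y
    rw [Subgroup.mem_subgroupOf]
    exact D.H_comm x x.2 y y.2
  have h1 := indFun_one_eq_sum_annih (D.Q.subgroupOf D.H) hab
  have h2 := indFun_trans D.Q_le (fun _ : ↥D.Q => (1 : ℂ))
  have h3 : toSub D.Q D.H (fun _ : ↥D.Q => (1 : ℂ)) = fun _ => (1 : ℂ) := rfl
  rw [h3, h1] at h2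
  refine ⟨((D.Q.subgroupOf D.H).index : ℂ) / (Fintype.card ↥(annih (D.Q.subgroupOf D.H)) : ℂ), ?_⟩
  rw [← h2, indFun_smul, indFun_sum]

/-- P1 -/
theorem ps_class (D : SzcData G q r) (χ : Cfsg.IrrCharacter G) (hχ : ¬ Cusp D.Q (χ : G → ℂ)) :
    (χ : G → ℂ) = (fun _ => 1) ∨ (χ : G → ℂ) = Xf D.H ∨
    ∃ μ : ↥D.H →* ℂˣ, (∀ u : ↥D.H, (u : G) ∈ D.Q → μ u = 1) ∧ μ ≠ 1 ∧
      (χ : G → ℂ) = Cfsg.indFun D.H (fun u => ((μ u : ℂˣ) : ℂ)) := by
  classical
  have : Fintype ↥(annih (D.Q.subgroupOf D.H)) := Fintype.ofFinite _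
  obtain ⟨c, hc⟩ := szcP1_ind_decomp D
  -- some `φ` has nonzero inner product with `χ`
  have hex : ∃ φ : ↥(annih (D.Q.subgroupOf D.H)),
      Cfsg.classInner (Cfsg.indFun D.H (fun u : ↥D.H => (((φ : ↥D.H →* ℂˣ) u : ℂˣ) : ℂ)))
        (χ : G → ℂ) ≠ 0 := by
    by_contra hno
    push Not at hno
    apply hχ
    unfold Cusp
    rw [Cfsg.Agent.Lib.helper2.classInner_conj_symm, hc, classInner_smul_left, classInner_sum_left,
      Finset.sum_eq_zero (fun φ _ => hno φ), mul_zero, map_zero]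
  obtain ⟨φ, hφ⟩ := hex
  by_cases h1 : (φ : ↥D.H →* ℂˣ) = 1
  · -- `Ind_H 1 = 1 + X`
    have hsplit : Cfsg.indFun D.H (fun u : ↥D.H => (((φ : ↥D.H →* ℂˣ) u : ℂˣ) : ℂ)) =
        (fun _ : G => (1 : ℂ)) + Xf D.H := by
      rw [h1]
      funext g
      simp only [Xf, Pi.add_apply, MonoidHom.one_apply, Units.val_one]
      ring
    rw [hsplit, classInner_add_left] at hφ
    have hX : Cfsg.IsIrrCharacter G (Xf D.H) := D.X_irr
    have e1 := irr_classInner (trivIrr G) χ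
    have e2 := irr_classInner (⟨Xf D.H, hX⟩ : Cfsg.IrrCharacter G) χ
    by_cases ha : trivIrr G = χ
    · left
      rw [← ha]
      rfl
    · by_cases hb : (⟨Xf D.H, hX⟩ : Cfsg.IrrCharacter G) = χ
      · right; left
        rw [← hb]
      · exfalso
        apply hφ
        rw [if_neg ha] at e1
        rw [if_neg hb] at e2
        have e1' : Cfsg.classInner (fun _ : G => (1 : ℂ)) (χ : G → ℂ) = 0 := e1
        have e2' : Cfsg.classInner (Xf D.H) (χ : G → ℂ) = 0 := e2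
        rw [e1', e2', add_zero]
  · right; right
    have hmem : ∀ u : ↥D.H, (u : G) ∈ D.Q → (φ : ↥D.H →* ℂˣ) u = 1 := by
      intro u hu
      exact (mem_annih _ _).mp φ.2 u (Subgroup.mem_subgroupOf.mpr hu)
    refine ⟨(φ : ↥D.H →* ℂˣ), hmem, h1, ?_⟩
    have hirr := D.ind_irr (φ : ↥D.H →* ℂˣ) hmem h1
    have e := irr_classInner (⟨_, hirr⟩ : Cfsg.IrrCharacter G) χ
    by_cases hb : (⟨_, hirr⟩ : Cfsg.IrrCharacter G) = χ
    · rw [← hb]
    · exfalso
      apply hφ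
      rw [if_neg hb] at e
      exact e

end

end Cfsg.Agent.Lib.Helper10.SZC
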