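import Cfsg.Agent.Lib.Helper10.SZC.Defs
import Cfsg.Agent.Lib.helper7.Induction
import Cfsg.Agent.Lib.helper6.SZCP1

/-!
# SZC row P2 (`ps_degree`): degrees `1`, `q²`, `q² + 1` of the non-cuspidal irreducible characters
-/

set_option autoImplicit false
open scoped ComplexConjugate

namespace Cfsg.Agent.Lib.Helper10.SZC

open Cfsg.Agent.Lib.helper7

section
variable {G : Type*} [Group G] [Fintype G]
variable {q r : ℕ}

/-- `|G : H| = q² + 1` -/
theorem szcP2_index (D : SzcData G q r) : D.H.index = q ^ 2 + 1 := by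
  have h := D.H.card_mul_index
  rw [D.card_H, D.card_G] at h
  have hq := D.hq
  have hpos : 0 < q ^ 2 * (q - 1) := by
    apply Nat.mul_pos
    · positivity
    · omega
  exact Nat.eq_of_mul_eq_mul_left hpos h

/-- `X 1 = q²` -/
theorem szcP2_X_one (D : SzcData G q r) : Xf D.H 1 = ((q ^ 2 : ℕ) : ℂ) := by
  unfold Xf
  rw [h7_indFun_one, szcP2_index D]
  push_cast
  ring

/-- `(Ind_H μ) 1 = q² + 1` -/
theorem szcP2_ind_one (D : SzcData G q r) (μ : ↥D.H →* ℂˣ) :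
    Cfsg.indFun D.H (fun u => ((μ u : ℂˣ) : ℂ)) 1 = ((q ^ 2 + 1 : ℕ) : ℂ) := by
  rw [h7_indFun_one, szcP2_index D, map_one, Units.val_one, mul_one]

/-- P2 -/
theorem ps_degree (D : SzcData G q r) (χ : Cfsg.IrrCharacter G) (hχ : ¬ Cusp D.Q (χ : G → ℂ)) :
    (χ : G → ℂ) 1 = 1 ∨ (χ : G → ℂ) 1 = ((q ^ 2 : ℕ) : ℂ) ∨
      (χ : G → ℂ) 1 = ((q ^ 2 + 1 : ℕ) : ℂ) := by
  rcases ps_class D χ hχ with h | h | ⟨μ, -, -, h⟩
  · left
    rw [h]
  · right; left
    rw [h]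
    exact szcP2_X_one D
  · right; right
    rw [h]
    exact szcP2_ind_one D μ

end

end Cfsg.Agent.Lib.Helper10.SZC
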