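import Cfsg.Agent.Lib.Helper10.SZC.Defs
import Cfsg.Agent.Lib.helper6.SZCP1
import Cfsg.Agent.Lib.helper6.SZCP2
import Cfsg.Agent.Lib.helper6.SZCP4

/-!
# SZC row P6 (`not_cusp`): `1` and `X` are not cuspidal
-/

set_option autoImplicit false
open scoped ComplexConjugate

namespace Cfsg.Agent.Lib.Helper10.SZC

open Cfsg.Agent.Lib.Helper11 Cfsg.Agent.Lib.Helper25 Cfsg.Agent.Lib.helper2
  Cfsg.Agent.Lib.helper7

section
variable {G : Type*} [Group G] [Fintype G]
variable {q r : ℕ}

/-- `X` is a class function -/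
theorem szcP6_X_class (D : SzcData G q r) : Cfsg.IsClassFunction G (Xf D.H) :=
  fun g h => irr_conj_invariant (⟨Xf D.H, D.X_irr⟩ : Cfsg.IrrCharacter G) g h

/-- P6 -/
theorem not_cusp (D : SzcData G q r) :
    ¬ Cusp D.Q (fun _ : G => (1 : ℂ)) ∧ ¬ Cusp D.Q (Xf D.H) := by
  classical
  have hq := D.hq
  constructor
  · intro h
    have h1 := szcP4_sum_Q D.Q (fun _ : G => (1 : ℂ)) (fun _ _ => rfl) h
    rw [Finset.sum_const, Finset.card_univ, nsmul_eq_mul, mul_one] at h1
    have h2 : (Fintype.card ↥D.Q : ℂ) ≠ 0 := by exact_mod_cast Fintype.card_pos.ne'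
    exact h2 h1
  · intro h
    have : Fintype ↥(annih (D.Q.subgroupOf D.H)) := Fintype.ofFinite _
    obtain ⟨c, hc⟩ := szcP1_ind_decomp D
    have hc0 : c ≠ 0 := by
      intro h0
      have h1 := congrFun hc 1
      rw [h0, zero_smul, h7_indFun_one] at h1
      have h2 : (D.Q.index : ℂ) ≠ 0 := by
        exact_mod_cast Subgroup.index_ne_zero_of_finite
      simp only [Pi.zero_apply, mul_one] at h1
      exact h2 h1
    have hX : Cfsg.IsIrrCharacter G (Xf D.H) := D.X_irr
    -- the inner products of the summands with `X`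
    have hterm : ∀ φ : ↥(annih (D.Q.subgroupOf D.H)),
        Cfsg.classInner (Cfsg.indFun D.H (fun u : ↥D.H => (((φ : ↥D.H →* ℂˣ) u : ℂˣ) : ℂ)))
          (Xf D.H) = if φ = 1 then 1 else 0 := by
      intro φ
      by_cases h1 : φ = 1
      · rw [if_pos h1, h1]
        have hsplit : Cfsg.indFun D.H
            (fun u : ↥D.H => ((((1 : ↥(annih (D.Q.subgroupOf D.H))) : ↥D.H →* ℂˣ) u : ℂˣ) : ℂ)) =
            (fun _ : G => (1 : ℂ)) + Xf D.H := by
          funext g
          simp only [Xf, Pi.add_apply, OneMemClass.coe_one, MonoidHom.one_apply, Units.val_one]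
          ring
        rw [hsplit, classInner_add_left]
        have e1 := irr_classInner (trivIrr G) (⟨Xf D.H, hX⟩ : Cfsg.IrrCharacter G)
        have e2 := irr_classInner (⟨Xf D.H, hX⟩ : Cfsg.IrrCharacter G) ⟨Xf D.H, hX⟩
        have hne : trivIrr G ≠ (⟨Xf D.H, hX⟩ : Cfsg.IrrCharacter G) := by
          intro he
          have h2 := congrFun (congrArg Subtype.val he) 1
          have h3 : Xf D.H 1 = 1 := h2.symm
          rw [szcP2_X_one D] at h3
          have h4 : q ^ 2 = 1 := by exact_mod_cast h3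
          nlinarith
        rw [if_neg hne] at e1
        rw [if_pos rfl] at e2
        have e1' : Cfsg.classInner (fun _ : G => (1 : ℂ)) (Xf D.H) = 0 := e1
        have e2' : Cfsg.classInner (Xf D.H) (Xf D.H) = 1 := e2
        rw [e1', e2', zero_add]
      · rw [if_neg h1]
        have h1' : (φ : ↥D.H →* ℂˣ) ≠ 1 := by
          intro he
          apply h1
          exact Subtype.ext he
        have hmem : ∀ u : ↥D.H, (u : G) ∈ D.Q → (φ : ↥D.H →* ℂˣ) u = 1 := by
          intro u hu
          exact (mem_annih _ _).mp φ.2 u (Subgroup.mem_subgroupOf.mpr hu)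
        have hirr := D.ind_irr (φ : ↥D.H →* ℂˣ) hmem h1'
        have e := irr_classInner (⟨_, hirr⟩ : Cfsg.IrrCharacter G) ⟨Xf D.H, hX⟩
        have hne : (⟨_, hirr⟩ : Cfsg.IrrCharacter G) ≠ ⟨Xf D.H, hX⟩ := by
          intro he
          have h2 := congrFun (congrArg Subtype.val he) 1
          simp only at h2
          rw [szcP2_ind_one D, szcP2_X_one D] at h2
          have h4 : q ^ 2 + 1 = q ^ 2 := by exact_mod_cast h2
          omega
        rw [if_neg hne] at e
        exact e
    unfold Cusp at h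
    rw [Cfsg.Agent.Lib.helper2.classInner_conj_symm, hc, classInner_smul_left,
      classInner_sum_left, Finset.sum_congr rfl (fun φ _ => hterm φ),
      Finset.sum_ite_eq' Finset.univ (1 : ↥(annih (D.Q.subgroupOf D.H))) (fun _ => (1 : ℂ))] at h
    simp only [Finset.mem_univ, if_true, mul_one] at h
    have := congrArg conj h
    rw [Complex.conj_conj, map_zero] at this
    exact hc0 this

end

end Cfsg.Agent.Lib.Helper10.SZC
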