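import Cfsg.Agent.Lib.Helper10.SZC.Defs
import Cfsg.Agent.Lib.Helper11.AbelianQuot
import Cfsg.Agent.Lib.helper6.SZCP2

/-!
# SZC row P3 (`ps_exists`): irreducible characters of degree `q²` and `q² + 1` exist
-/

set_option autoImplicit false
open scoped ComplexConjugate

namespace Cfsg.Agent.Lib.Helper10.SZC

open Cfsg.Agent.Lib.Helper11

section
variable {G : Type*} [Group G] [Fintype G]
variable {q r : ℕ}

/-- a nontrivial linear character of `H` that is trivial on `Q` -/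
theorem szcP3_exists_mu (D : SzcData G q r) :
    ∃ μ : ↥D.H →* ℂˣ, (∀ u : ↥D.H, (u : G) ∈ D.Q → μ u = 1) ∧ μ ≠ 1 := by
  classical
  have hN : (D.Q.subgroupOf D.H).Normal := by
    constructor
    intro n hn g
    rw [Subgroup.mem_subgroupOf] at hn ⊢
    exact D.Q_norm g g.2 n hn
  have hab : ∀ x y : ↥D.H, x * y * x⁻¹ * y⁻¹ ∈ D.Q.subgroupOf D.H := by
    intro x y
    rw [Subgroup.mem_subgroupOf]
    exact D.H_comm x x.2 y y.2
  have hex : ∃ u : ↥D.H, u ∉ D.Q.subgroupOf D.H := by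
    by_contra hno
    push Not at hno
    have htop : D.Q.subgroupOf D.H = ⊤ := by
      rw [eq_top_iff]
      intro u _
      exact hno u
    have h1 : Nat.card ↥(D.Q.subgroupOf D.H) = Nat.card ↥D.Q :=
      Nat.card_congr (Subgroup.subgroupOfEquivOfLe D.Q_le).toEquiv
    rw [htop, Subgroup.card_top, D.card_H, D.card_Q] at h1
    have hq := D.hq
    have h2 : q ^ 2 * (q - 1) = q ^ 2 * 1 := by rw [h1, mul_one]
    have hpos : 0 < q ^ 2 := by positivity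
    have := Nat.eq_of_mul_eq_mul_left hpos h2
    omega
  obtain ⟨u, hu⟩ := hex
  obtain ⟨φ, h1, h2⟩ := exists_annih_ne_one (D.Q.subgroupOf D.H) hab u hu
  refine ⟨φ, fun v hv => h1 v (Subgroup.mem_subgroupOf.mpr hv), ?_⟩
  intro h
  apply h2
  rw [h]
  rfl

/-- P3 -/
theorem ps_exists (D : SzcData G q r) :
    (∃ χ : Cfsg.IrrCharacter G, (χ : G → ℂ) 1 = ((q ^ 2 : ℕ) : ℂ)) ∧
    (∃ χ : Cfsg.IrrCharacter G, (χ : G → ℂ) 1 = ((q ^ 2 + 1 : ℕ) : ℂ)) := by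
  refine ⟨⟨⟨Xf D.H, D.X_irr⟩, szcP2_X_one D⟩, ?_⟩
  obtain ⟨μ, h1, h2⟩ := szcP3_exists_mu D
  exact ⟨⟨_, D.ind_irr μ h1 h2⟩, szcP2_ind_one D μ⟩

end

end Cfsg.Agent.Lib.Helper10.SZC
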