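import Mathlib
import Cfsg.Agent.Lib.Lead.W2P.Defs

/-!
# Project W2P (S0720), piece OCCURS : every non-trivial orbital contains a pair `(ω, x ω)` with `x ∈ P ∖ 1`
-/

set_option autoImplicit false
set_option linter.unusedVariables false
set_option linter.unusedSectionVars false
open scoped ComplexConjugate
open Classical

namespace Cfsg.Agent.Lib.Lead.W2P

open MulAction Cfsg.Agent.Lib.helper6.PermChar Cfsg.Agent.Lib.Helper25

universe u v

section E

variable {G : Type u} [Group G] [Fintype G] {Ω : Type v} [Fintype Ω] [DecidableEq Ω] [MulAction G Ω]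
  {p : ℕ} [Fact p.Prime] {P : Sylow p G}

/-- `P` acts semiregularly -/
theorem w2poccurs_semireg (S : Setting G Ω p P) (y : G) (hy : y ∈ (P : Subgroup G)) (ω : Ω)
    (hω : y • ω = ω) : y = 1 := by
  by_contra hy1
  have hp := (Fact.out : p.Prime)
  have h1 : orderOf (⟨y, hy⟩ : ↥(P : Subgroup G)) ∣ p := by
    have := orderOf_dvd_natCard (⟨y, hy⟩ : ↥(P : Subgroup G))
    rwa [S.cardP] at this
  have h2 : orderOf y ∣ p := by
    rwa [← Subgroup.orderOf_mk y hy]
  rcases (Nat.dvd_prime hp).1 h2 with h | h
  · exact hy1 (orderOf_eq_one_iff.1 h)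
  · exact S.fpf y h ω hω

/-- the `P`-orbits have length `p` -/
theorem w2poccurs_orbit_card (S : Setting G Ω p P) (ω : Ω) :
    (orbit ↥(P : Subgroup G) ω).ncard = p := by
  rw [← MulAction.index_stabilizer]
  have hbot : stabilizer ↥(P : Subgroup G) ω = ⊥ := by
    rw [eq_bot_iff]
    intro y hy
    rw [Subgroup.mem_bot]
    apply Subtype.ext
    exact w2poccurs_semireg S y.1 y.2 ω hy
  rw [hbot, Subgroup.index_bot, S.cardP]

/-- there are only two `P`-orbits -/
theorem w2poccurs_two_orbits (S : Setting G Ω p P) (z x y : Ω)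
    (hx : x ∉ orbit ↥(P : Subgroup G) z) (hy : y ∉ orbit ↥(P : Subgroup G) z) :
    y ∈ orbit ↥(P : Subgroup G) x := by
  by_contra hyx
  have hp := (Fact.out : p.Prime)
  have d1 : Disjoint (orbit ↥(P : Subgroup G) z) (orbit ↥(P : Subgroup G) x) := by
    rcases orbit.eq_or_disjoint (G := ↥(P : Subgroup G)) z x with h | h
    · exact absurd (h ▸ mem_orbit_self x) hx
    · exact h
  have d2 : Disjoint (orbit ↥(P : Subgroup G) z ∪ orbit ↥(P : Subgroup G) x)
      (orbit ↥(P : Subgroup G) y) := by
    rw [Set.disjoint_union_left]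
    constructor
    · rcases orbit.eq_or_disjoint (G := ↥(P : Subgroup G)) z y with h | h
      · exact absurd (h ▸ mem_orbit_self y) hy
      · exact h
    · rcases orbit.eq_or_disjoint (G := ↥(P : Subgroup G)) x y with h | h
      · exact absurd (h ▸ mem_orbit_self y) hyx
      · exact h
  have hc : ((orbit ↥(P : Subgroup G) z ∪ orbit ↥(P : Subgroup G) x) ∪
      orbit ↥(P : Subgroup G) y).ncard = p + p + p := by
    rw [Set.ncard_union_eq d2 (Set.toFinite _) (Set.toFinite _),
      Set.ncard_union_eq d1 (Set.toFinite _) (Set.toFinite _), w2poccurs_orbit_card S,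
      w2poccurs_orbit_card S, w2poccurs_orbit_card S]
  have hle : ((orbit ↥(P : Subgroup G) z ∪ orbit ↥(P : Subgroup G) x) ∪
      orbit ↥(P : Subgroup G) y).ncard ≤ Nat.card Ω := Set.ncard_le_card _
  rw [hc, Nat.card_eq_fintype_card, S.card] at hle
  have := hp.pos
  omega

/-- the point stabilizers are non-trivial -/
theorem w2poccurs_stab_ne_bot (S : Setting G Ω p P) (a : Ω) : ∃ k : G, k • a = a ∧ k ≠ 1 := by
  by_contra hcon
  push Not at hcon
  have hp := (Fact.out : p.Prime)
  haveI := S.prim.toIsPretransitive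
  have h1 := card_fiber (G := G) a a
  have h2 : Finset.univ.filter (fun g : G => g • a = a) = {1} := by
    ext g
    rw [Finset.mem_filter, Finset.mem_singleton]
    constructor
    · exact fun h => hcon g h.2
    · rintro rfl
      exact ⟨Finset.mem_univ _, one_smul _ _⟩
  rw [h2, Finset.card_singleton, one_mul, S.card] at h1
  -- `⊥ = G_a` is maximal, so `P = ⊤`
  haveI : Nontrivial Ω := by
    rw [← Fintype.one_lt_card_iff_nontrivial, S.card]
    have := hp.two_le
    omega
  have := S.prim
  have hco : IsCoatom (stabilizer G a) := IsPreprimitive.isCoatom_stabilizer_of_isPreprimitive G a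
  have hbot : stabilizer G a = ⊥ := by
    rw [eq_bot_iff]
    intro k hk
    rw [Subgroup.mem_bot]
    exact hcon k hk
  rw [hbot] at hco
  have hPne : (P : Subgroup G) ≠ ⊥ := by
    intro h
    have := S.cardP
    rw [h, Subgroup.card_bot] at this
    exact hp.one_lt.ne this
  have hPtop : (P : Subgroup G) = ⊤ := hco.2 _ (bot_lt_iff_ne_bot.2 hPne)
  have h3 := S.cardP
  rw [hPtop, Subgroup.card_top, Nat.card_eq_fintype_card, ← h1] at h3
  have := hp.pos
  omega

/-- the group is not regular -/
theorem w2poccurs_rank_ne (S : Setting G Ω p P) (a : Ω) :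
    Nat.card (orbitRel.Quotient (stabilizer G a) Ω) ≠ Fintype.card Ω := by
  intro h
  obtain ⟨k, hka, hk1⟩ := w2poccurs_stab_ne_bot S a
  apply hk1
  have hsurj : Function.Surjective
      (fun y : Ω => (Quotient.mk'' y : orbitRel.Quotient (stabilizer G a) Ω)) :=
    Quotient.mk''_surjective
  have hbij := hsurj.bijective_of_nat_card_le (by rw [h, Nat.card_eq_fintype_card])
  have := S.faithful
  apply eq_of_smul_eq_smul (α := Ω)
  intro x
  rw [one_smul]
  apply hbij.1
  show (Quotient.mk'' (k • x) : orbitRel.Quotient (stabilizer G a) Ω) = Quotient.mk'' x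
  apply Quotient.sound'
  exact ⟨⟨k, hka⟩, rfl⟩

/-- OCCURS : every non-trivial orbital contains a pair `(ω, x ω)` with `x ∈ P ∖ 1` -/
theorem occurs (S : Setting G Ω p P) (a b : Ω) (hb : b ≠ a) :
    ∃ x ∈ (P : Subgroup G), x ≠ 1 ∧ ∃ ω : Ω, orbRel G a b ω (x • ω) := by
  by_contra hcon
  push Not at hcon
  haveI := S.prim.toIsPretransitive
  -- related points lie in different `P`-orbits
  have hdiff : ∀ z x : Ω, orbRel G a b z x → x ∉ orbit ↥(P : Subgroup G) z := by
    intro z x hzx hmem
    obtain ⟨⟨y, hy⟩, hyx⟩ := hmem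
    have hyx' : y • z = x := hyx
    by_cases hy1 : y = 1
    · subst hy1
      rw [one_smul] at hyx'
      subst hyx'
      obtain ⟨h, h1, h2⟩ := hzx
      exact hb (smul_left_cancel h (h2.trans h1.symm))
    · exact hcon y hy hy1 z (hyx' ▸ hzx)
  -- two points with a common in-neighbour
  let r : Ω → Ω → Prop := fun x y => ∃ z, orbRel G a b z x ∧ orbRel G a b z y
  have hr_orb : ∀ x y, Relation.EqvGen r x y → y ∈ orbit ↥(P : Subgroup G) x := by
    intro x y h
    induction h with
    | rel x y hxy =>
      obtain ⟨z, hzx, hzy⟩ := hxy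
      exact w2poccurs_two_orbits S z x y (hdiff z x hzx) (hdiff z y hzy)
    | refl x => exact mem_orbit_self x
    | symm x y _ ih =>
      have : orbitRel ↥(P : Subgroup G) Ω y x := ih
      exact (orbitRel ↥(P : Subgroup G) Ω).symm this
    | trans x y z _ _ ih1 ih2 =>
      have h1 : orbitRel ↥(P : Subgroup G) Ω y x := ih1
      have h2 : orbitRel ↥(P : Subgroup G) Ω z y := ih2
      exact (orbitRel ↥(P : Subgroup G) Ω).trans h2 h1
  have hr_smul : ∀ (g : G) x y, Relation.EqvGen r x y → Relation.EqvGen r (g • x) (g • y) := by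
    intro g x y h
    induction h with
    | rel x y hxy =>
      obtain ⟨z, hzx, hzy⟩ := hxy
      exact Relation.EqvGen.rel _ _ ⟨g • z, (orbRel_smul a b z x g).2 hzx, (orbRel_smul a b z y g).2 hzy⟩
    | refl x => exact Relation.EqvGen.refl _
    | symm x y _ ih => exact Relation.EqvGen.symm _ _ ih
    | trans x y z _ _ ih1 ih2 => exact Relation.EqvGen.trans _ _ _ ih1 ih2
  -- the class of `b` is a block
  have hB : IsBlock G {y : Ω | Relation.EqvGen r b y} := by
    rw [isBlock_iff_smul_eq_of_mem]
    intro g x hx hgx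
    simp only [Set.mem_setOf_eq] at hx hgx
    -- `g b ≈ g x ≈ b`
    have h1 : Relation.EqvGen r (g • b) b :=
      Relation.EqvGen.trans _ _ _ (hr_smul g b x hx) (Relation.EqvGen.symm _ _ hgx)
    ext y
    rw [Set.mem_smul_set_iff_inv_smul_mem]
    simp only [Set.mem_setOf_eq]
    constructor
    · intro h
      have h2 := hr_smul g _ _ h
      rw [smul_inv_smul] at h2
      exact Relation.EqvGen.trans _ _ _ (Relation.EqvGen.symm _ _ h1) h2
    · intro h
      have h2 := hr_smul g⁻¹ _ _ (Relation.EqvGen.trans _ _ _ h1 h)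
      rw [inv_smul_smul] at h2
      exact h2
  have hab : orbRel G a b a b := ⟨1, one_smul _ _, one_smul _ _⟩
  rcases S.prim.isTrivialBlock_of_isBlock hB with hsub | huniv
  · -- the out-neighbours of `a` all equal `b`
    have hout : ∀ y, orbRel G a b a y → y = b := by
      intro y hy
      have hyB : y ∈ {y : Ω | Relation.EqvGen r b y} := Relation.EqvGen.rel _ _ ⟨a, hab, hy⟩
      have hbB : b ∈ {y : Ω | Relation.EqvGen r b y} := Relation.EqvGen.refl _
      exact hsub hyB hbB
    have hrow := card_row (G := G) a b a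
    have hfil : Finset.univ.filter (fun y : Ω => orbRel G a b a y) = {b} := by
      ext y
      rw [Finset.mem_filter, Finset.mem_singleton]
      constructor
      · exact fun h => hout y h.2
      · rintro rfl
        exact ⟨Finset.mem_univ _, hab⟩
    rw [hfil, Finset.card_singleton] at hrow
    have h2 := orbit_card_ge_two S.prim a b hb (w2poccurs_rank_ne S a)
    omega
  · -- `a` would lie in the `P`-orbit of `b`
    have haB : a ∈ {y : Ω | Relation.EqvGen r b y} := by rw [huniv]; trivial
    have h1 : a ∈ orbit ↥(P : Subgroup G) b := hr_orb b a haB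
    have h2 : orbitRel ↥(P : Subgroup G) Ω a b := h1
    exact hdiff a b hab ((orbitRel ↥(P : Subgroup G) Ω).symm h2)

end E

end Cfsg.Agent.Lib.Lead.W2P
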