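import Mathlib
import Cfsg.Agent.Lib.helper6.PGLSL
import Cfsg.Agent.S0727

/-!
# Sharply 3-transitive groups of odd degree are `PSL₂(F)`, `F` of characteristic two
-/

set_option autoImplicit false

namespace Cfsg.Agent.Lib.helper6.SuzGrp

open MulAction Matrix

theorem pgl_psl_char_two {F : Type*} [Field F] [Finite F] (h2 : (2 : F) = 0) :
    Nonempty (ProjGenLinGroup (Fin 2) F ≃* ProjectiveSpecialLinearGroup (Fin 2) F) := by
  have : CharP F 2 := by
    refine (CharP.charP_iff_prime_eq_zero Nat.prime_two).mpr ?_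
    exact_mod_cast h2
  have hsq : ∀ r : Fˣ, ∃ k : Fˣ, k ^ Fintype.card (Fin 2) = r := by
    intro r
    rw [Fintype.card_fin]
    obtain ⟨k, hk⟩ := (frobenius_inj F 2).bijective_of_finite.2 (r : F)
    have hk' : k ^ 2 = (r : F) := hk
    have hk0 : k ≠ 0 := by
      intro h
      rw [h] at hk'
      have : (r : F) = 0 := by rw [← hk']; ring
      exact r.ne_zero this
    refine ⟨Units.mk0 k hk0, ?_⟩
    apply Units.ext
    simpa using hk'
  have e1 : ProjectiveSpecialLinearGroup (Fin 2) F ≃* ProjGenLinGroup (Fin 2) F :=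
    MulEquiv.ofBijective ProjectiveSpecialLinearGroup.toPGL
      ⟨ProjectiveSpecialLinearGroup.toPGL_injective,
        ProjectiveSpecialLinearGroup.toPGL_surj_of_roots hsq⟩
  exact ⟨e1.symm⟩

variable {G Ω : Type*} [Group G] [MulAction G Ω] [Fintype Ω]

section Sharp

variable (h3 : IsMultiplyPretransitive G Ω 3) (hsharp : ∀ t : Fin 3 ↪ Ω, stabilizer G t = ⊥)

include h3 in
theorem sharp_T3 : ∀ a b c a' b' c' : Ω, a ≠ b → b ≠ c → a ≠ c → a' ≠ b' → b' ≠ c' → a' ≠ c' →
    ∃ g : G, g • a = a' ∧ g • b = b' ∧ g • c = c' := by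
  intro a b c a' b' c' hab hbc hac hab' hbc' hac'
  obtain ⟨g, hg⟩ := h3.exists_smul_eq (Cfsg.Agent.S0727.emb3 a b c hab hbc hac)
    (Cfsg.Agent.S0727.emb3 a' b' c' hab' hbc' hac')
  refine ⟨g, ?_, ?_, ?_⟩
  · have := congrArg (fun x : Fin 3 ↪ Ω => x 0) hg
    simpa [Function.Embedding.smul_apply, Cfsg.Agent.S0727.emb3_0] using this
  · have := congrArg (fun x : Fin 3 ↪ Ω => x 1) hg
    simpa [Function.Embedding.smul_apply, Cfsg.Agent.S0727.emb3_1] using this
  · have := congrArg (fun x : Fin 3 ↪ Ω => x 2) hg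
    simpa [Function.Embedding.smul_apply, Cfsg.Agent.S0727.emb3_2] using this

include hsharp in
theorem sharp_S3 : ∀ g : G, ∀ a b c : Ω, a ≠ b → b ≠ c → a ≠ c → g • a = a → g • b = b →
    g • c = c → g = 1 := by
  intro g a b c hab hbc hac ha hb hc
  have hmem : g ∈ MulAction.stabilizer G (Cfsg.Agent.S0727.emb3 a b c hab hbc hac) := by
    rw [MulAction.mem_stabilizer_iff]
    ext i
    have hi : (g • Cfsg.Agent.S0727.emb3 a b c hab hbc hac) i =
        g • (Cfsg.Agent.S0727.emb3 a b c hab hbc hac i) :=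
      Function.Embedding.smul_apply _ _ _
    refine hi.trans ?_
    fin_cases i
    · exact ha
    · exact hb
    · exact hc
  rw [hsharp] at hmem
  exact Subgroup.mem_bot.mp hmem

include h3 hsharp in
/-- the two-point stabiliser of a sharply 3-transitive group has order `n - 2` -/
theorem sharp_card_E {a b : Ω} (hab : a ≠ b) (hc : ∃ c : Ω, c ≠ a ∧ c ≠ b) :
    Nat.card ↥(stabilizer G a ⊓ stabilizer G b : Subgroup G) + 2 = Fintype.card Ω := by
  classical
  have T3 := sharp_T3 h3
  have S3 := sharp_S3 hsharp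
  · obtain ⟨c, hca, hcb⟩ := hc
    have h1 : Nat.card ↥(stabilizer G a ⊓ stabilizer G b : Subgroup G) =
        Nat.card {d : Ω // d ≠ a ∧ d ≠ b} := by
      apply Nat.card_congr
      refine Equiv.ofBijective (fun k => ⟨(k : G) • c, ?_, ?_⟩) ⟨?_, ?_⟩
      · intro h
        have hk := mem_stabilizer_iff.mp (Subgroup.mem_inf.mp k.2).1
        exact hca (smul_left_cancel (k : G) (h.trans hk.symm))
      · intro h
        have hk := mem_stabilizer_iff.mp (Subgroup.mem_inf.mp k.2).2
        exact hcb (smul_left_cancel (k : G) (h.trans hk.symm))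
      · intro k k' hkk
        have h2 : (k : G) • c = (k' : G) • c := congrArg Subtype.val hkk
        have hka := mem_stabilizer_iff.mp (Subgroup.mem_inf.mp k.2).1
        have hkb := mem_stabilizer_iff.mp (Subgroup.mem_inf.mp k.2).2
        have hka' := mem_stabilizer_iff.mp (Subgroup.mem_inf.mp k'.2).1
        have hkb' := mem_stabilizer_iff.mp (Subgroup.mem_inf.mp k'.2).2
        have h3' : ((k' : G)⁻¹ * (k : G)) = 1 := by
          apply S3 _ a b c hab (Ne.symm hcb) (Ne.symm hca)
          · rw [mul_smul, hka, inv_smul_eq_iff, hka']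
          · rw [mul_smul, hkb, inv_smul_eq_iff, hkb']
          · rw [mul_smul, h2, inv_smul_smul]
        apply Subtype.ext
        calc (k : G) = (k' : G) * ((k' : G)⁻¹ * (k : G)) := by group
          _ = (k' : G) := by rw [h3', mul_one]
      · rintro ⟨d, hda, hdb⟩
        obtain ⟨g, hga, hgb, hgc⟩ := T3 a b c a b d hab (Ne.symm hcb) (Ne.symm hca) hab
          (Ne.symm hdb) (Ne.symm hda)
        exact ⟨⟨g, Subgroup.mem_inf.mpr ⟨mem_stabilizer_iff.mpr hga, mem_stabilizer_iff.mpr hgb⟩⟩,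
          Subtype.ext hgc⟩
    rw [h1, Nat.card_eq_fintype_card, Fintype.card_subtype]
    have h4 : (Finset.univ.filter (fun d : Ω => d ≠ a ∧ d ≠ b)) = (Finset.univ.erase a).erase b := by
      ext d
      simp only [Finset.mem_filter, Finset.mem_univ, true_and, Finset.mem_erase]
      tauto
    rw [h4, Finset.card_erase_of_mem (by simp [Ne.symm hab]),
      Finset.card_erase_of_mem (Finset.mem_univ _), Finset.card_univ]
    have : 2 ≤ Fintype.card Ω := by
      rw [← Finset.card_pair hab]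
      exact Finset.card_le_univ _
    omega

/-- a sharply 3-transitive group of odd degree is `PSL₂(F)` -/
theorem sharp_psl [FaithfulSMul G Ω] (hodd : Odd (Fintype.card Ω)) (hn3 : 3 ≤ Fintype.card Ω)
    (h3 : IsMultiplyPretransitive G Ω 3) (hsharp : ∀ t : Fin 3 ↪ Ω, stabilizer G t = ⊥) :
    ∃ (F : Type) (_ : Field F) (_ : Fintype F),
      Nonempty (G ≃* Matrix.ProjectiveSpecialLinearGroup (Fin 2) F) := by
  classical
  obtain ⟨pinf, p0, p1, hi0, hi1, h01⟩ := Fintype.two_lt_card_iff.mp (by omega : 2 < Fintype.card Ω)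
  obtain ⟨F, iF, iFin, hcard, ⟨hiso⟩⟩ :=
    Cfsg.Agent.Lib.helper6.Sharp3.sharp3_odd (G := G) (α := Ω) hodd (sharp_T3 h3) (sharp_S3 hsharp)
      h01 hi0 hi1
  refine ⟨F, iF, iFin, ?_⟩
  have heven : Fintype.card F % 2 = 0 := by
    obtain ⟨k, hk⟩ := hodd
    omega
  have hchar : ringChar F = 2 := FiniteField.even_card_iff_char_two.mpr heven
  have h2 : (2 : F) = 0 := by
    have := CharP.cast_eq_zero F (ringChar F)
    rw [hchar] at this
    exact_mod_cast this
  obtain ⟨e⟩ := pgl_psl_char_two (F := F) h2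
  exact ⟨hiso.trans e⟩

end Sharp

end Cfsg.Agent.Lib.helper6.SuzGrp
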