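import Mathlib
import Cfsg.Agent.Lib.Lead.BCS.Defs

set_option autoImplicit false
set_option linter.unusedVariables false

/-!
# Project BCS, row A7 (helper6): `bcs_unip_rank`.
-/

namespace Cfsg.Agent.Lib.Lead.BCS

open Polynomial Module Matrix Cfsg.Agent.Lib.Helper13.S5955 Cfsg.Agent.Lib.helper15.S5972
  Cfsg.Agent.Lib.Helper18.ONE

/-- A7 -/
theorem bcs_unip_rank {F : Type*} [Field F] (h2 : (2 : F) ≠ 0) {V : Type*} [AddCommGroup V]
    [Module F V] [FiniteDimensional F V] (B : LinearMap.BilinForm F V)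
    (hsymm : ∀ v w, B v w = B w v) (u : Module.End F V) (hpres : ∀ v w, B (u v) (u w) = B v w)
    (k : ℕ) (hk : (u - 1) ^ k = 0) (U : Submodule F V) (hU : SInv u U) (hUnd : SND B U)
    (hrank : finrank F U ≤ finrank F ↥(U ⊓ fixS u) + 1) : ∀ w ∈ U, u w = w := by
  classical
  by_contra hcon
  push Not at hcon
  obtain ⟨w₀, hw₀U, hw₀⟩ := hcon
  have hNapp : ∀ v, (u - 1) v = u v - v := fun v => by
    rw [LinearMap.sub_apply, Module.End.one_apply]
  have huN : ∀ v, u v = v + (u - 1) v := fun v => by rw [hNapp]; abel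
  obtain ⟨a, ha⟩ : ∃ a, a = (u - 1) w₀ := ⟨_, rfl⟩
  have ha0 : a ≠ 0 := by rw [ha, hNapp]; exact sub_ne_zero.2 hw₀
  have haU : a ∈ U := by rw [ha, hNapp]; exact U.sub_mem (hU w₀ hw₀U) hw₀U
  have huw₀ : u w₀ = w₀ + a := by rw [ha]; exact huN w₀
  set f : ↥U →ₗ[F] V := (u - 1).domRestrict U with hf
  have hfapp : ∀ w : ↥U, f w = (u - 1) (w : V) := fun w => rfl
  have hker : LinearMap.ker f = Submodule.comap U.subtype (U ⊓ fixS u) := by
    ext w
    rw [LinearMap.mem_ker, Submodule.mem_comap, Submodule.mem_inf, bcs_mem_fixS, hfapp, hNapp,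
      sub_eq_zero]
    simp
  have hkerdim : finrank F (LinearMap.ker f) = finrank F ↥(U ⊓ fixS u) := by
    rw [hker]
    exact (Submodule.comapSubtypeEquivOfLe (inf_le_left : U ⊓ fixS u ≤ U)).finrank_eq
  have hrn := LinearMap.finrank_range_add_finrank_ker f
  have hr1 : finrank F (LinearMap.range f) ≤ 1 := by omega
  have hamem : a ∈ LinearMap.range f := ⟨⟨w₀, hw₀U⟩, by rw [hfapp, ha]⟩
  have hane : (⟨a, hamem⟩ : LinearMap.range f) ≠ 0 := fun h => ha0 (congrArg Subtype.val h)
  have hmult : ∀ w ∈ U, ∃ c : F, (u - 1) w = c • a := by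
    intro w hw
    have hpos : 0 < finrank F (LinearMap.range f) := by
      rw [Module.finrank_pos_iff_exists_ne_zero]
      exact ⟨⟨a, hamem⟩, hane⟩
    have h1 : finrank F (LinearMap.range f) = 1 := by omega
    obtain ⟨c, hc⟩ := (finrank_eq_one_iff_of_nonzero' (⟨a, hamem⟩ : LinearMap.range f) hane).1 h1
      ⟨(u - 1) w, ⟨⟨w, hw⟩, rfl⟩⟩
    exact ⟨c, (congrArg Subtype.val hc).symm⟩
  obtain ⟨c, hc⟩ := hmult a haU
  have hpowa : ∀ j : ℕ, ((u - 1) ^ j) a = c ^ j • a := by
    intro j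
    induction j with
    | zero => simp
    | succ j ih =>
      rw [pow_succ', Module.End.mul_apply, ih, map_smul, hc, smul_smul, pow_succ]
  have hc0 : c = 0 := by
    by_contra hcne
    have h := hpowa k
    rw [hk, LinearMap.zero_apply] at h
    rcases smul_eq_zero.1 h.symm with h' | h'
    · exact pow_ne_zero k hcne h'
    · exact ha0 h'
  have hNa : (u - 1) a = 0 := by rw [hc, hc0, zero_smul]
  have hua : u a = a := by rw [huN, hNa, add_zero]
  have hBaa : B a a = 0 := by
    have h := hpres w₀ a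
    rw [hua, huw₀, map_add, LinearMap.add_apply] at h
    linear_combination h
  have hBw₀a : B w₀ a = 0 := by
    have h := hpres w₀ w₀
    rw [huw₀] at h
    simp only [map_add, LinearMap.add_apply] at h
    rw [hBaa, hsymm a w₀] at h
    have h' : 2 * B w₀ a = 0 := by linear_combination h
    rcases mul_eq_zero.1 h' with h'' | h''
    · exact absurd h'' h2
    · exact h''
  apply ha0
  apply hUnd a haU
  intro w hw
  obtain ⟨cw, hcw⟩ := hmult w hw
  have h := hpres w₀ w
  rw [huw₀, huN w, hcw] at h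
  simp only [map_add, LinearMap.add_apply, map_smul, smul_eq_mul] at h
  rw [hBaa, hBw₀a] at h
  linear_combination h

end Cfsg.Agent.Lib.Lead.BCS
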