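import Mathlib
import Cfsg.Agent.Lib.Lead.BCS.Defs

set_option autoImplicit false
set_option linter.unusedVariables false

/-!
# Project BCS, row A8 (helper6): `bcs_invol_pm`.
-/

namespace Cfsg.Agent.Lib.Lead.BCS

open Polynomial Module Matrix Cfsg.Agent.Lib.Helper13.S5955 Cfsg.Agent.Lib.helper15.S5972
  Cfsg.Agent.Lib.Helper18.ONE

/-- a nilpotent `u - 1` fixes a non-zero vector in every invariant set of vectors containing a non-zero vector (element form of A5, self-contained) -/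
theorem bcsa8_fix {F : Type*} [Field F] {V : Type*} [AddCommGroup V] [Module F V]
    (u : Module.End F V) (k : ℕ) (hk : (u - 1) ^ k = 0) (W : Submodule F V)
    (hW : ∀ w ∈ W, u w ∈ W) (w : V) (hw : w ∈ W) (hw0 : w ≠ 0) :
    ∃ v ∈ W, v ≠ 0 ∧ u v = v := by
  classical
  have hNW : ∀ x ∈ W, (u - 1) x ∈ W := by
    intro x hx
    rw [LinearMap.sub_apply, Module.End.one_apply]
    exact W.sub_mem (hW x hx) hx
  have hpowW : ∀ j : ℕ, ((u - 1) ^ j) w ∈ W := by
    intro j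
    induction j with
    | zero => simpa using hw
    | succ j ih =>
      rw [pow_succ', Module.End.mul_apply]
      exact hNW _ ih
  have hex : ∃ j : ℕ, ((u - 1) ^ j) w = 0 := ⟨k, by rw [hk, LinearMap.zero_apply]⟩
  have hj0 : Nat.find hex ≠ 0 := by
    intro h
    have := Nat.find_spec hex
    rw [h, pow_zero, Module.End.one_apply] at this
    exact hw0 this
  obtain ⟨j, hj⟩ := Nat.exists_eq_succ_of_ne_zero hj0
  have hmin : ((u - 1) ^ j) w ≠ 0 := by
    apply Nat.find_min hex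
    omega
  refine ⟨((u - 1) ^ j) w, hpowW j, hmin, ?_⟩
  have h := Nat.find_spec hex
  rw [hj, Nat.succ_eq_add_one, pow_succ', Module.End.mul_apply, LinearMap.sub_apply,
    Module.End.one_apply, sub_eq_zero] at h
  exact h

/-- A8 -/
theorem bcs_invol_pm {F : Type*} [Field F] (h2 : (2 : F) ≠ 0) {V : Type*} [AddCommGroup V]
    [Module F V] [FiniteDimensional F V] (u z : Module.End F V) (hc : Commute z u)
    (hz : z * z = 1) (k : ℕ) (hk : (u - 1) ^ k = 0) (U : Submodule F V) (hUu : SInv u U)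
    (hUz : SInv z U) (hfix : finrank F ↥(U ⊓ fixS u) ≤ 1) :
    (∀ w ∈ U, z w = w) ∨ (∀ w ∈ U, z w = -w) := by
  classical
  have hzz : ∀ v, z (z v) = v := by
    intro v
    rw [← Module.End.mul_apply, hz, Module.End.one_apply]
  have hzu : ∀ v, z (u v) = u (z v) := by
    intro v
    rw [← Module.End.mul_apply, ← Module.End.mul_apply, hc.eq]
  -- the two eigenspaces inside `U`
  let Ep : Submodule F V := U ⊓ LinearMap.ker (z - 1)
  let Em : Submodule F V := U ⊓ LinearMap.ker (z + 1)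
  have hEp : ∀ v, v ∈ Ep ↔ v ∈ U ∧ z v = v := by
    intro v
    show v ∈ U ⊓ LinearMap.ker (z - 1) ↔ _
    rw [Submodule.mem_inf, LinearMap.mem_ker, LinearMap.sub_apply, Module.End.one_apply, sub_eq_zero]
  have hEm : ∀ v, v ∈ Em ↔ v ∈ U ∧ z v = -v := by
    intro v
    show v ∈ U ⊓ LinearMap.ker (z + 1) ↔ _
    rw [Submodule.mem_inf, LinearMap.mem_ker, LinearMap.add_apply, Module.End.one_apply,
      add_eq_zero_iff_eq_neg]
  have hEpu : ∀ w ∈ Ep, u w ∈ Ep := by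
    intro w hw
    rw [hEp] at hw ⊢
    exact ⟨hUu w hw.1, by rw [hzu, hw.2]⟩
  have hEmu : ∀ w ∈ Em, u w ∈ Em := by
    intro w hw
    rw [hEm] at hw ⊢
    exact ⟨hUu w hw.1, by rw [hzu, hw.2, map_neg]⟩
  by_cases hm : ∀ w ∈ Em, w = 0
  · left
    intro w hw
    have hmem : w - z w ∈ Em := by
      rw [hEm]
      refine ⟨U.sub_mem hw (hUz w hw), ?_⟩
      rw [map_sub, hzz]
      abel
    exact (sub_eq_zero.1 (hm _ hmem)).symm
  by_cases hp : ∀ w ∈ Ep, w = 0
  · right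
    intro w hw
    have hmem : w + z w ∈ Ep := by
      rw [hEp]
      refine ⟨U.add_mem hw (hUz w hw), ?_⟩
      rw [map_add, hzz]
      abel
    have := hp _ hmem
    exact (eq_neg_of_add_eq_zero_right this)
  exfalso
  push Not at hm hp
  obtain ⟨wm, hwm, hwm0⟩ := hm
  obtain ⟨wp, hwp, hwp0⟩ := hp
  obtain ⟨vm, hvm, hvm0, huvm⟩ := bcsa8_fix u k hk Em hEmu wm hwm hwm0
  obtain ⟨vp, hvp, hvp0, huvp⟩ := bcsa8_fix u k hk Ep hEpu wp hwp hwp0
  rw [hEm] at hvm
  rw [hEp] at hvp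
  have hvmK : vm ∈ U ⊓ fixS u := by
    rw [Submodule.mem_inf, bcs_mem_fixS]
    exact ⟨hvm.1, huvm⟩
  have hvpK : vp ∈ U ⊓ fixS u := by
    rw [Submodule.mem_inf, bcs_mem_fixS]
    exact ⟨hvp.1, huvp⟩
  obtain ⟨v₀, hv₀⟩ := finrank_le_one_iff.1 hfix
  obtain ⟨c₁, hc₁⟩ := hv₀ ⟨vp, hvpK⟩
  obtain ⟨c₂, hc₂⟩ := hv₀ ⟨vm, hvmK⟩
  have hc₁' : c₁ • (v₀ : V) = vp := congrArg Subtype.val hc₁
  have hc₂' : c₂ • (v₀ : V) = vm := congrArg Subtype.val hc₂
  have hc₁0 : c₁ ≠ 0 := by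
    intro h
    rw [h, zero_smul] at hc₁'
    exact hvp0 hc₁'.symm
  have hv₀' : (v₀ : V) = c₁⁻¹ • vp := by
    rw [← hc₁', smul_smul, inv_mul_cancel₀ hc₁0, one_smul]
  have hzvm : z vm = vm := by
    rw [← hc₂', hv₀', map_smul, map_smul, hvp.2]
  have h2vm : (2 : F) • vm = 0 := by
    rw [two_smul]
    nth_rewrite 1 [← hzvm]
    rw [hvm.2, neg_add_cancel]
  rcases smul_eq_zero.1 h2vm with h | h
  · exact h2 h
  · exact hvm0 h

end Cfsg.Agent.Lib.Lead.BCS
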