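import Mathlib
import Cfsg.Agent.Lib.helper3.BSZ.Defs

set_option autoImplicit false

/-!
# BSZ row A08 (`binary_of_base`): reduction to `I 0 = J 0 = mk 1`
-/

namespace Cfsg.Agent.Lib.helper3.BSZ

open Cfsg Cfsg.Agent.Lib.helper3

/-- A08 -/
theorem binary_of_base {G : Type*} [Group G] (H : Subgroup G)
    (h : ∀ (n : ℕ) (I J : Fin (n + 2) → G ⧸ H), I 0 = QuotientGroup.mk 1 → J 0 = QuotientGroup.mk 1 →
      (∀ i j : Fin (n + 2), i ≠ j → ∃ g : G, g • I i = J i ∧ g • I j = J j) →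
      ∃ g : G, ∀ i, g • I i = J i) : BinH H := by
  intro n I J hn hpair
  obtain ⟨n', rfl⟩ : ∃ n', n = n' + 2 := ⟨n - 2, by omega⟩
  obtain ⟨g₀, hg₀, -⟩ := hpair 0 1 (by
    intro h01
    have := congrArg Fin.val h01
    simp at this)
  obtain ⟨a₀, ha₀⟩ := QuotientGroup.mk_surjective (I 0)
  have hI0 : a₀⁻¹ • I 0 = (QuotientGroup.mk 1 : G ⧸ H) := by
    rw [← ha₀, MulAction.Quotient.smul_mk, smul_eq_mul, inv_mul_cancel]
  obtain ⟨g', hg'⟩ := h n' (fun i => a₀⁻¹ • I i) (fun i => (a₀⁻¹ * g₀⁻¹) • J i) hI0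
    (by
      rw [← hg₀, smul_smul, inv_mul_cancel_right]
      exact hI0)
    (by
      intro i j hij
      obtain ⟨g, hgi, hgj⟩ := hpair i j hij
      refine ⟨a₀⁻¹ * g₀⁻¹ * g * a₀, ?_, ?_⟩
      · rw [smul_smul, mul_inv_cancel_right, ← hgi, smul_smul]
      · rw [smul_smul, mul_inv_cancel_right, ← hgj, smul_smul])
  refine ⟨g₀ * a₀ * g' * a₀⁻¹, fun i => ?_⟩
  have := hg' i
  change g' • a₀⁻¹ • I i = (a₀⁻¹ * g₀⁻¹) • J i at this
  have h2 : (g₀ * a₀ * g' * a₀⁻¹) • I i = (g₀ * a₀) • (g' • a₀⁻¹ • I i) := by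
    rw [smul_smul, smul_smul]
  rw [h2, this, smul_smul]
  have : g₀ * a₀ * (a₀⁻¹ * g₀⁻¹) = 1 := by group
  rw [this, one_smul]

end Cfsg.Agent.Lib.helper3.BSZ
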