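import Mathlib
import Cfsg.Agent.Lib.helper3.BSZ.Defs
import Cfsg.Agent.Lib.helper6.BSZA04
import Cfsg.Agent.Lib.helper6.BSZA08

set_option autoImplicit false

/-!
# BSZ row A09 (`binary_of_ti`): a sufficient TI-type criterion for a binary coset action
-/

namespace Cfsg.Agent.Lib.helper3.BSZ

open Cfsg Cfsg.Agent.Lib.helper3

/-- `s` fixes `mk a` iff `a⁻¹ * s * a ∈ H` -/
theorem bsza09_fix_iff {G : Type*} [Group G] (H : Subgroup G) (s a : G) :
    s • (QuotientGroup.mk a : G ⧸ H) = QuotientGroup.mk a ↔ a⁻¹ * s * a ∈ H := by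
  rw [bsza04_smul_mk_eq_iff]
  have e : a⁻¹ * s⁻¹ * a = (a⁻¹ * s * a)⁻¹ := by group
  rw [e, inv_mem_iff]

/-- A09 -/
theorem binary_of_ti {G : Type*} [Group G] (H N : Subgroup G)
    (hN : ∀ a ∈ N, ∀ h ∈ H, a⁻¹ * h * a ∈ H)
    (hTI : ∀ a : G, a ∉ N → ∀ h ∈ H, a⁻¹ * h * a ∈ H → h = 1)
    (hprod : ∀ a a' : G, a ∉ N → a' ∉ N → ∀ z ∈ H, ∀ s s' : G, a⁻¹ * s * a ∈ H → a'⁻¹ * s' * a' ∈ H →
      z = s' * s⁻¹ → z = 1) : BinH H := by
  classical
  apply binary_of_base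
  intro n I J hI0 hJ0 hpair
  -- lifts of the points
  have hlift : ∀ j, ∃ a : G, (QuotientGroup.mk a : G ⧸ H) = I j :=
    fun j => QuotientGroup.mk_surjective (I j)
  choose a ha using hlift
  -- elements of `H` moving `I j` to `J j`
  have hγ : ∀ j, ∃ γ : G, γ ∈ H ∧ γ • I j = J j := by
    intro j
    by_cases hj : j = 0
    · subst hj
      exact ⟨1, H.one_mem, by rw [one_smul, hI0, hJ0]⟩
    · obtain ⟨g, hg0, hgj⟩ := hpair 0 j (fun h => hj h.symm)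
      refine ⟨g, ?_, hgj⟩
      rw [hI0, hJ0, bsza09_fix_iff] at hg0
      simpa using hg0
  choose γ hγH hγ using hγ
  -- points over `N` are fixed by `H`
  have hfixN : ∀ j, a j ∈ N → ∀ h ∈ H, h • I j = I j := by
    intro j hj h hh
    rw [← ha j, bsza09_fix_iff]
    exact hN (a j) hj h hh
  by_cases hall : ∀ j, a j ∈ N
  · refine ⟨1, fun i => ?_⟩
    rw [one_smul, ← hγ i, hfixN i (hall i) (γ i) (hγH i)]
  · push Not at hall
    obtain ⟨j₀, hj₀⟩ := hall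
    refine ⟨γ j₀, fun i => ?_⟩
    by_cases hi : a i ∈ N
    · rw [hfixN i hi (γ j₀) (hγH j₀), ← hγ i, hfixN i hi (γ i) (hγH i)]
    · by_cases hij : i = j₀
      · rw [hij]
        exact hγ j₀
      · obtain ⟨g, hg0, hgi⟩ := hpair j₀ i (fun h => hij h.symm)
        -- `s = (γ j₀)⁻¹ * g` fixes `I j₀`, `s' = (γ i)⁻¹ * g` fixes `I i`
        have hs : (a j₀)⁻¹ * ((γ j₀)⁻¹ * g) * a j₀ ∈ H := by
          rw [← bsza09_fix_iff, ha j₀, mul_smul, hg0, ← hγ j₀, smul_smul, inv_mul_cancel, one_smul]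
        have hs' : (a i)⁻¹ * ((γ i)⁻¹ * g) * a i ∈ H := by
          rw [← bsza09_fix_iff, ha i, mul_smul, hgi, ← hγ i, smul_smul, inv_mul_cancel, one_smul]
        have hz : (γ i)⁻¹ * γ j₀ ∈ H := H.mul_mem (H.inv_mem (hγH i)) (hγH j₀)
        have h1 := hprod (a j₀) (a i) hj₀ hi ((γ i)⁻¹ * γ j₀) hz ((γ j₀)⁻¹ * g) ((γ i)⁻¹ * g)
          hs hs' (by group)
        have h2 : γ j₀ = γ i := by
          have := congrArg (fun x => γ i * x) h1
          simpa using this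
        rw [h2]
        exact hγ i

end Cfsg.Agent.Lib.helper3.BSZ
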