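import Mathlib
import Cfsg.Prelude.Def_GeometricClasses
import Cfsg.Agent.Lib.Helper27.ASC.Defs

/-!
# ASC piece PR6 : `SL_r(F)` does not normalise a symplectic-type `r`-group (minimal-field data)
-/

set_option autoImplicit false
set_option linter.unusedVariables false

namespace Cfsg.Agent.Lib.Helper27.ASC

open Cfsg Cfsg.Geo
open scoped MatrixGroups Matrix

variable {n : ℕ} {F : Type*} [Field F] [Fintype F]

theorem ascpr6_one_add_pow (M : Matrix (Fin n) (Fin n) F) (hM : M * M = 0) (k : ℕ) :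
    (1 + M) ^ k = 1 + (k : F) • M := by
  induction k with
  | zero => simp
  | succ k ih =>
    rw [pow_succ, ih]
    have h : (1 + (k : F) • M) * (1 + M) = 1 + ((k : F) + 1) • M := by
      have e1 : ((k : F) • M) * M = 0 := by rw [Matrix.smul_mul, hM, smul_zero]
      rw [add_mul, one_mul, mul_add, mul_one, e1, add_zero, add_smul, one_smul]
      abel
    rw [h, Nat.cast_succ]

/-- an `r`-group of matrices in characteristic `p ≠ r` contains no non-trivial `1 + M`, `M² = 0`. -/
theorem ascpr6_no_unipotent {r p : ℕ} (hr : r.Prime) (hp : p.Prime) (hrp : r ≠ p) [CharP F p]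
    (R : Subgroup (GL (Fin n) F)) (hR : IsPGroup r R) (y : GL (Fin n) F) (hy : y ∈ R)
    (M : Matrix (Fin n) (Fin n) F) (hyM : (y : Matrix (Fin n) (Fin n) F) = 1 + M) (hM : M * M = 0)
    (hM0 : M ≠ 0) : False := by
  have hyp : y ^ p = 1 := by
    apply Units.ext
    rw [Units.val_pow_eq_pow_val, hyM, ascpr6_one_add_pow M hM, CharP.cast_eq_zero, zero_smul, add_zero]
    rfl
  obtain ⟨j, hj⟩ := hR ⟨y, hy⟩
  have hj' : y ^ (r ^ j) = 1 := by
    have := congrArg Subtype.val hj
    simpa using this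
  have hy1 : y ≠ 1 := by
    intro h
    apply hM0
    rw [h] at hyM
    have h2 : (1 : Matrix (Fin n) (Fin n) F) = 1 + M := by simpa using hyM
    have h3 : (1 : Matrix (Fin n) (Fin n) F) + 0 = 1 + M := by rw [add_zero]; exact h2
    exact (add_left_cancel h3).symm
  have h1 : orderOf y ∣ p := orderOf_dvd_of_pow_eq_one hyp
  have h2 : orderOf y ∣ r ^ j := orderOf_dvd_of_pow_eq_one hj'
  have hcop : Nat.Coprime p (r ^ j) :=
    Nat.Coprime.pow_right j ((Nat.coprime_primes hp hr).mpr (Ne.symm hrp))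
  have h3 : orderOf y ∣ 1 := by
    have := Nat.dvd_gcd h1 h2
    rwa [hcop.gcd_eq_one] at this
  exact hy1 (orderOf_eq_one_iff.mp (Nat.dvd_one.mp h3))

/-- an element of finite order `r` with `μ_r ⊆ F` has an eigenvector -/
theorem ascpr6_eigen {r : ℕ} (hr : 0 < r) {ζ : F} (hζ : IsPrimitiveRoot ζ r)
    (X : Matrix (Fin r) (Fin r) F) (hX : X ^ r = 1) :
    ∃ (l : F) (u : Fin r → F), l ^ r = 1 ∧ u ≠ 0 ∧ X *ᵥ u = l • u := by
  classical
  have hne : Nonempty (Fin r) := ⟨⟨0, hr⟩⟩
  have hprod := Polynomial.X_pow_sub_one_eq_prod hr hζ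
  rw [← Finset.prod_map_toList] at hprod
  have h2 := congrArg (Polynomial.aeval X) hprod
  rw [map_list_prod, List.map_map] at h2
  simp only [map_sub, map_pow, Polynomial.aeval_X, map_one, hX, sub_self] at h2
  have h3 := congrArg Matrix.detMonoidHom h2
  rw [map_list_prod, List.map_map] at h3
  have h4 : (0 : F) ∈ List.map (⇑Matrix.detMonoidHom ∘ ⇑(Polynomial.aeval X) ∘ fun ζ' : F => Polynomial.X - Polynomial.C ζ')
      (Polynomial.nthRootsFinset r (1 : F)).toList := by
    rw [← List.prod_eq_zero_iff, ← h3]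
    simp [Matrix.det_zero]
  rw [List.mem_map] at h4
  obtain ⟨l, hl, hdet⟩ := h4
  rw [Finset.mem_toList, Polynomial.mem_nthRootsFinset hr] at hl
  simp only [Function.comp_apply, map_sub, Polynomial.aeval_X, Polynomial.aeval_C,
    Matrix.coe_detMonoidHom] at hdet
  obtain ⟨u, hu, huz⟩ := Matrix.exists_mulVec_eq_zero_iff.mpr hdet
  refine ⟨l, u, hl, hu, ?_⟩
  rw [Matrix.sub_mulVec, sub_eq_zero] at huz
  rw [huz, Algebra.algebraMap_eq_smul_one, Matrix.smul_mulVec, Matrix.one_mulVec]

/-- PR6 -/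
theorem pr_sympl_type {r : ℕ} (hr : r.Prime) (hr2 : r ≠ 2) (R : Subgroup (GL (Fin r) F))
    (hR : IsLinearSymplecticTypeData r R) : ¬ specialLinear (Fin r) F ≤ subgroupNormalizer R := by
  classical
  intro hSL
  obtain ⟨p, e, hrp, hmin, hcases⟩ := hR.field
  obtain ⟨hp, hchar, hcard, hdvd, -⟩ := hmin
  have hZ : Nat.card (Subgroup.center R) = r := by
    rcases hcases with ⟨_, _, h, _⟩ | ⟨h2, _⟩ | ⟨h2, _⟩
    · exact h
    · exact absurd h2 hr2
    · exact absurd h2 hr2
  rw [hZ] at hdvd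
  haveI := hchar
  have hcardU : Fintype.card Fˣ = p ^ e - 1 := by rw [Fintype.card_units, hcard]
  haveI : Fact r.Prime := ⟨hr⟩
  obtain ⟨g, hg⟩ := exists_prime_orderOf_dvd_card r (hcardU ▸ hdvd)
  have hζ : IsPrimitiveRoot (g : F) r := by
    have h := IsPrimitiveRoot.orderOf g
    rw [hg] at h
    exact IsPrimitiveRoot.coe_units_iff.mpr h
  -- exponent r
  have hexp : Monoid.exponent R = r := by
    rw [hR.symplecticType.exponent_eq]
    have : Nat.gcd 2 r = 1 := (Nat.coprime_primes Nat.prime_two hr).mpr (Ne.symm hr2)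
    rw [this, mul_one]
  have hpowr : ∀ x ∈ R, ((x : GL (Fin r) F) : Matrix (Fin r) (Fin r) F) ^ r = 1 := by
    intro x hx
    have h := Monoid.pow_exponent_eq_one (⟨x, hx⟩ : R)
    rw [hexp] at h
    have h' : x ^ r = 1 := by
      have := congrArg Subtype.val h
      simpa using this
    rw [← Units.val_pow_eq_pow_val, h']
    rfl
  -- a non-scalar element
  have h2r : 2 ≤ r := hr.two_le
  have hns : ∃ x ∈ R, ¬ ∃ c : F, ((x : GL (Fin r) F) : Matrix (Fin r) (Fin r) F) = c • 1 := by
    by_contra hall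
    push_neg at hall
    let i0 : Fin r := ⟨0, by omega⟩
    let i1 : Fin r := ⟨1, by omega⟩
    have hi : i0 ≠ i1 := by
      intro h
      have := congrArg Fin.val h
      simp [i0, i1] at this
    obtain ⟨c, hc⟩ := hR.absIrred.2 (Matrix.single i0 i1 (1 : F)) (by
      rintro s ⟨x, hx, rfl⟩
      obtain ⟨c, hc⟩ := hall x hx
      show Matrix.single i0 i1 (1 : F) * ((x : GL (Fin r) F) : Matrix (Fin r) (Fin r) F) =
        ((x : GL (Fin r) F) : Matrix (Fin r) (Fin r) F) * Matrix.single i0 i1 (1 : F)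
      rw [hc]
      simp)
    have h01 := congrFun (congrFun hc i0) i1
    simp [hi] at h01
  obtain ⟨x, hxR, hxns⟩ := hns
  have hXXi : ((x : GL (Fin r) F) : Matrix (Fin r) (Fin r) F) * ((x⁻¹ : GL (Fin r) F) : Matrix (Fin r) (Fin r) F) = 1 := by
    rw [← Units.val_mul, mul_inv_cancel]; rfl
  have hXiX : ((x⁻¹ : GL (Fin r) F) : Matrix (Fin r) (Fin r) F) * ((x : GL (Fin r) F) : Matrix (Fin r) (Fin r) F) = 1 := by
    rw [← Units.val_mul, inv_mul_cancel]; rfl
  have hpowx := hpowr x hxR
  set X : Matrix (Fin r) (Fin r) F := ((x : GL (Fin r) F) : Matrix (Fin r) (Fin r) F) with hXdef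
  set Xi : Matrix (Fin r) (Fin r) F := ((x⁻¹ : GL (Fin r) F) : Matrix (Fin r) (Fin r) F) with hXidef
  obtain ⟨l, u, hlr, hu, hXu⟩ := ascpr6_eigen hr.pos hζ X hpowx
  have hl0 : l ≠ 0 := by
    intro h
    rw [h, zero_pow hr.ne_zero] at hlr
    exact zero_ne_one hlr
  have hXiu : Xi *ᵥ u = l⁻¹ • u := by
    have h1 : Xi *ᵥ (X *ᵥ u) = u := by rw [Matrix.mulVec_mulVec, hXiX, Matrix.one_mulVec]
    rw [hXu, Matrix.mulVec_smul] at h1
    calc Xi *ᵥ u = l⁻¹ • (l • Xi *ᵥ u) := by rw [smul_smul, inv_mul_cancel₀ hl0, one_smul]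
      _ = l⁻¹ • u := by rw [h1]
  by_cases hcase : ∃ φ : Fin r → F, φ ⬝ᵥ u = 0 ∧ φ ᵥ* X ≠ l • φ
  · -- a transvection that does not commute with x
    obtain ⟨φ, hφu, hφX⟩ := hcase
    set N : Matrix (Fin r) (Fin r) F := Matrix.vecMulVec u φ with hN
    have hNN : N * N = 0 := by
      rw [hN, Matrix.vecMulVec_mul_vecMulVec, hφu, zero_smul, Matrix.vecMulVec_zero]
    have hdetT : (1 + N).det = 1 := by
      rw [hN, Matrix.vecMulVec_eq Unit, Matrix.det_one_add_replicateCol_mul_replicateRow, hφu, add_zero]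
    let t : GL (Fin r) F := Matrix.GeneralLinearGroup.mkOfDetNeZero (1 + N) (by rw [hdetT]; exact one_ne_zero)
    have ht : (t : Matrix (Fin r) (Fin r) F) = 1 + N := rfl
    have htinv : ((t⁻¹ : GL (Fin r) F) : Matrix (Fin r) (Fin r) F) = 1 - N := by
      rw [Matrix.coe_units_inv, ht]
      apply Matrix.inv_eq_right_inv
      have h : (1 + N) * (1 - N) = 1 - N * N := by noncomm_ring
      rw [h, hNN, sub_zero]
    have htSL : t ∈ specialLinear (Fin r) F := by
      show t ∈ (Matrix.GeneralLinearGroup.det : GL (Fin r) F →* Fˣ).ker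
      rw [MonoidHom.mem_ker]
      apply Units.ext
      rw [Matrix.GeneralLinearGroup.val_det_apply, ht, hdetT]
      rfl
    have htN : t ∈ Subgroup.normalizer (R : Set (GL (Fin r) F)) := hSL htSL
    have hconj : t * x * t⁻¹ ∈ R := (Subgroup.mem_normalizer_iff.mp htN x).1 hxR
    have hyR : t * x * t⁻¹ * x⁻¹ ∈ R := R.mul_mem hconj (R.inv_mem hxR)
    set χ : Fin r → F := φ ᵥ* X - l • φ with hχ
    have hχ0 : χ ≠ 0 := by
      intro h
      apply hφX
      rw [hχ] at h
      exact sub_eq_zero.mp h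
    set ψ : Fin r → F := χ ᵥ* Xi with hψ
    have hψ0 : ψ ≠ 0 := by
      intro h
      apply hχ0
      have : ψ ᵥ* X = χ := by rw [hψ, Matrix.vecMul_vecMul, hXiX, Matrix.vecMul_one]
      rw [← this, h, Matrix.zero_vecMul]
    have hψu : ψ ⬝ᵥ u = 0 := by
      rw [hψ, ← Matrix.dotProduct_mulVec, hXiu, dotProduct_smul, hχ, sub_dotProduct, smul_dotProduct,
        hφu, ← Matrix.dotProduct_mulVec, hXu, dotProduct_smul, hφu]
      simp
    have hXN : X * N = l • N := by
      rw [hN, Matrix.mul_vecMulVec, hXu, Matrix.smul_vecMulVec]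
    have hNX : N * X = Matrix.vecMulVec u (φ ᵥ* X) := by
      rw [hN, Matrix.vecMulVec_mul]
    have hconjM : (1 + N) * X * (1 - N) = X + Matrix.vecMulVec u χ := by
      have hNXN : N * X * N = 0 := by
        rw [mul_assoc, hXN, Matrix.mul_smul, hNN, smul_zero]
      rw [add_mul, one_mul, add_mul, mul_sub, mul_sub, mul_one, mul_one, hNXN, hXN, hNX, hχ,
        Matrix.vecMulVec_sub, Matrix.vecMulVec_smul, ← hN]
      abel
    have hyM : ((t * x * t⁻¹ * x⁻¹ : GL (Fin r) F) : Matrix (Fin r) (Fin r) F) = 1 + Matrix.vecMulVec u ψ := by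
      rw [Units.val_mul, Units.val_mul, Units.val_mul, htinv, ht, ← hXdef, ← hXidef, hconjM, add_mul, hXXi,
        Matrix.vecMulVec_mul]
    have hMM : Matrix.vecMulVec u ψ * Matrix.vecMulVec u ψ = 0 := by
      rw [Matrix.vecMulVec_mul_vecMulVec, hψu, zero_smul, Matrix.vecMulVec_zero]
    exact ascpr6_no_unipotent hr hp hrp R hR.symplecticType.pGroup _ hyR _ hyM hMM
      (Matrix.vecMulVec_ne_zero hu hψ0)
  · -- x = l + u ρ, so x is scalar
    push_neg at hcase
    obtain ⟨i0, hi0⟩ := Function.ne_iff.mp hu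
    simp only [Pi.zero_apply] at hi0
    set ρ : Fin r → F := fun m => (u i0)⁻¹ * (X i0 m - l * (if i0 = m then 1 else 0)) with hρ
    have hXeq : X = l • (1 : Matrix (Fin r) (Fin r) F) + Matrix.vecMulVec u ρ := by
      ext a m
      have hφ : (Pi.single a (1 : F) - (u a / u i0) • Pi.single i0 (1 : F)) ⬝ᵥ u = 0 := by
        rw [sub_dotProduct, smul_dotProduct, single_dotProduct, single_dotProduct]
        simp only [one_mul, smul_eq_mul]
        rw [div_mul_cancel₀ _ hi0, sub_self]
      have h := congrFun (hcase _ hφ) m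
      rw [Matrix.sub_vecMul, Matrix.smul_vecMul, Matrix.single_one_vecMul, Matrix.single_one_vecMul] at h
      simp only [Pi.sub_apply, Pi.smul_apply, smul_eq_mul, Pi.single_apply, Matrix.row_apply] at h
      simp only [Matrix.add_apply, Matrix.smul_apply, Matrix.one_apply, Matrix.vecMulVec_apply, smul_eq_mul, hρ]
      have e1 : (if m = a then (1 : F) else 0) = if a = m then 1 else 0 := by
        by_cases hh : a = m
        · simp [hh]
        · simp [hh, Ne.symm hh]
      have e2 : (if m = i0 then (1 : F) else 0) = if i0 = m then 1 else 0 := by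
        by_cases hh : i0 = m
        · simp [hh]
        · simp [hh, Ne.symm hh]
      rw [e1, e2] at h
      field_simp
      field_simp at h
      linear_combination h
    have hρu : ρ ⬝ᵥ u = 0 := by
      have h1 : X *ᵥ u = l • u + (ρ ⬝ᵥ u) • u := by
        rw [hXeq, Matrix.add_mulVec, Matrix.smul_mulVec, Matrix.one_mulVec, Matrix.vecMulVec_mulVec,
          op_smul_eq_smul]
      rw [hXu] at h1
      have h2 : (ρ ⬝ᵥ u) • u = 0 := by
        have := sub_eq_zero.mpr h1.symm
        simpa using this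
      rcases smul_eq_zero.mp h2 with h | h
      · exact h
      · exact absurd h hu
    set M : Matrix (Fin r) (Fin r) F := l⁻¹ • Matrix.vecMulVec u ρ with hMdef
    have hMM : M * M = 0 := by
      rw [hMdef, Matrix.smul_mul, Matrix.mul_smul, Matrix.vecMulVec_mul_vecMulVec, hρu, zero_smul,
        Matrix.vecMulVec_zero, smul_zero, smul_zero]
    have hXM : X = l • (1 + M) := by
      rw [hMdef, smul_add, smul_smul, mul_inv_cancel₀ hl0, one_smul]
      exact hXeq
    have hpow := hpowx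
    rw [hXM, smul_pow, hlr, one_smul, ascpr6_one_add_pow M hMM] at hpow
    have hrM : (r : F) • M = 0 := by
      have h3 : (1 : Matrix (Fin r) (Fin r) F) + (r : F) • M = 1 + 0 := by rw [add_zero]; exact hpow
      exact add_left_cancel h3
    have hrF : (r : F) ≠ 0 := by
      intro h
      have hdv : p ∣ r := (CharP.cast_eq_zero_iff F p r).mp h
      exact hrp ((Nat.prime_dvd_prime_iff_eq hp hr).mp hdv).symm
    have hM0 : M = 0 := by
      rcases smul_eq_zero.mp hrM with h | h
      · exact absurd h hrF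
      · exact h
    apply hxns
    refine ⟨l, ?_⟩
    rw [hXM, hM0, add_zero]

end Cfsg.Agent.Lib.Helper27.ASC
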