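import Mathlib
import Cfsg.Agent.Lib.Helper19.S5954.Defs

/-! Project S5954 (designer helper19, part T sub-designer helper17), row TDETEIG (helper6): determinant of an endomorphism acting by the
scalars `a`, `b` on two complementary subspaces. -/

set_option autoImplicit false

namespace Cfsg.Agent.Lib.Helper19.S5954

open Polynomial Module Cfsg.Agent.Lib.Helper13.S5955

variable {F : Type*} [Field F] {V : Type*} [AddCommGroup V] [Module F V]

theorem t_det_eig [FiniteDimensional F V] (x : Module.End F V) (U W : Submodule F V) (hc : IsCompl U W) (a b : F)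
    (hU : ∀ u ∈ U, x u = a • u) (hW : ∀ u ∈ W, x u = b • u) :
    LinearMap.det x = a ^ finrank F U * b ^ finrank F W := by
  classical
  set e : (↥U × ↥W) ≃ₗ[F] V := Submodule.prodEquivOfIsCompl U W hc with he
  have hx : x = (e : (↥U × ↥W) →ₗ[F] V) ∘ₗ
      (LinearMap.prodMap (a • (LinearMap.id : ↥U →ₗ[F] ↥U)) (b • (LinearMap.id : ↥W →ₗ[F] ↥W))) ∘ₗ
      (e.symm : V →ₗ[F] (↥U × ↥W)) := by
    apply LinearMap.ext
    intro v
    obtain ⟨⟨u, w⟩, rfl⟩ := e.surjective v
    simp only [LinearMap.coe_comp, LinearEquiv.coe_coe, Function.comp_apply, LinearEquiv.symm_apply_apply,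
      LinearMap.prodMap_apply, LinearMap.smul_apply, LinearMap.id_coe, id_eq]
    rw [he, Submodule.coe_prodEquivOfIsCompl', Submodule.coe_prodEquivOfIsCompl', map_add, hU _ u.2, hW _ w.2]
    simp
  rw [hx, LinearMap.det_conj, LinearMap.det_prodMap, LinearMap.det_smul, LinearMap.det_smul, LinearMap.det_id,
    LinearMap.det_id, mul_one, mul_one]

end Cfsg.Agent.Lib.Helper19.S5954
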