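import Mathlib
import Cfsg.Agent.Lib.Helper19.S5954.Defs

/-! Project S5954 (designer helper19, part T sub-designer helper17), row TTI (helper6): complementary totally isotropic subspaces of a
nondegenerate hermitian space have the same dimension. -/

set_option autoImplicit false

namespace Cfsg.Agent.Lib.Helper19.S5954

open Polynomial Module Cfsg.Agent.Lib.Helper13.S5955

variable {F : Type*} [Field F] {V : Type*} [AddCommGroup V] [Module F V]

/-- one half: `finrank U ≤ finrank W` -/
theorem s5954tti_le [FiniteDimensional F V] {R : ℕ} {σ : F →+* F} {B : V →ₛₗ[σ] V →ₗ[F] F} {x : Module.End F V}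
    (h : HCtx R σ B x) (U W : Submodule F V) (hU : HTI B U) (hc : IsCompl U W) :
    finrank F U ≤ finrank F W := by
  classical
  set bW := Module.finBasis F ↥W with hbW
  -- the linear map `u ↦ (B (w_j) u)_j`
  let φ : ↥U →ₗ[F] (Fin (finrank F ↥W) → F) :=
    { toFun := fun u j => B (bW j : V) (u : V)
      map_add' := by
        intro u u'
        funext j
        simp only [Submodule.coe_add, map_add, Pi.add_apply]
      map_smul' := by
        intro c u
        funext j
        simp only [Submodule.coe_smul, map_smul, smul_eq_mul, RingHom.id_apply, Pi.smul_apply] }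
  have hφ : Function.Injective φ := by
    rw [← LinearMap.ker_eq_bot, LinearMap.ker_eq_bot']
    intro u hu
    have hj : ∀ j, B (bW j : V) (u : V) = 0 := fun j => congrFun hu j
    -- `B w u = 0` for all `w ∈ W`
    have hWu : ∀ w ∈ W, B w (u : V) = 0 := by
      intro w hw
      have hrep := bW.sum_repr ⟨w, hw⟩
      have hw' : w = ∑ j, (bW.repr ⟨w, hw⟩ j) • (bW j : V) := by
        have := congrArg (fun t : ↥W => (t : V)) hrep
        simp only [Submodule.coe_sum, Submodule.coe_smul] at this
        exact this.symm
      rw [hw', map_sum, LinearMap.sum_apply]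
      refine Finset.sum_eq_zero (fun j _ => ?_)
      rw [LinearMap.map_smulₛₗ, LinearMap.smul_apply, hj j, smul_zero]
    -- `B v u = 0` for all `v`
    have hall : ∀ v : V, B v (u : V) = 0 := by
      intro v
      have hv : v ∈ U ⊔ W := by rw [hc.sup_eq_top]; exact Submodule.mem_top
      obtain ⟨u', hu', w, hw, rfl⟩ := Submodule.mem_sup.mp hv
      rw [map_add, LinearMap.add_apply, hU u' hu' u u.2, hWu w hw, add_zero]
    have hu0 : (u : V) = 0 := by
      apply h.nd
      intro v
      rw [← h.symm v (u : V), hall v, map_zero]
    exact Subtype.ext hu0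
  have := LinearMap.finrank_le_finrank_of_injective hφ
  simpa using this

theorem t_ti_dim [FiniteDimensional F V] {R : ℕ} {σ : F →+* F} {B : V →ₛₗ[σ] V →ₗ[F] F} {x : Module.End F V}
    (h : HCtx R σ B x) (U W : Submodule F V) (hU : HTI B U) (hW : HTI B W) (hc : IsCompl U W) :
    finrank F U = finrank F W :=
  le_antisymm (s5954tti_le h U W hU hc) (s5954tti_le h W U hW hc.symm)

end Cfsg.Agent.Lib.Helper19.S5954
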