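import Mathlib
import Cfsg.Agent.Lib.Helper19.S5954.Defs
import Cfsg.Agent.Lib.helper17.S5954TEIGSPLIT
import Cfsg.Agent.Lib.helper17.S5954TEIGTI
import Cfsg.Agent.Lib.helper6.S5954TDETEIG
import Cfsg.Agent.Lib.helper6.S5954TTI

/-! Project S5954 (designer helper19, part T sub-designer helper17), rows TEIGCOMPL (`t_eig_compl`) and TDET (`t_det`) (helper6). -/

set_option autoImplicit false

namespace Cfsg.Agent.Lib.Helper19.S5954

open Polynomial Module Cfsg.Agent.Lib.Helper13.S5955

variable {F : Type*} [Field F] {V : Type*} [AddCommGroup V] [Module F V]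

theorem s5954teigcompl_mem_minus {x : Module.End F V} (μ : F) (v : V) :
    v ∈ LinearMap.ker (x - μ • (1 : Module.End F V)) ↔ x v = μ • v := by
  rw [LinearMap.mem_ker, LinearMap.sub_apply, LinearMap.smul_apply, Module.End.one_apply, sub_eq_zero]

theorem s5954teigcompl_mem_plus {x : Module.End F V} (μ : F) (v : V) :
    v ∈ LinearMap.ker (x + μ • (1 : Module.End F V)) ↔ x v = -(μ • v) := by
  rw [LinearMap.mem_ker, LinearMap.add_apply, LinearMap.smul_apply, Module.End.one_apply, add_eq_zero_iff_eq_neg]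

/-- TEIGCOMPL -/
theorem t_eig_compl {x : Module.End F V} (h2 : (2 : F) ≠ 0) (μ : F) (hμ0 : μ ≠ 0) (hsq : x * x = (μ * μ) • 1) :
    IsCompl (LinearMap.ker (x - μ • (1 : Module.End F V))) (LinearMap.ker (x + μ • (1 : Module.End F V))) := by
  refine IsCompl.of_eq ?_ ?_
  · rw [Submodule.eq_bot_iff]
    intro v hv
    obtain ⟨h1, h3⟩ := Submodule.mem_inf.mp hv
    rw [s5954teigcompl_mem_minus] at h1
    rw [s5954teigcompl_mem_plus] at h3
    have h4 : (2 * μ) • v = 0 := by
      have : μ • v = -(μ • v) := h1.symm.trans h3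
      have h5 : μ • v + μ • v = 0 := by
        nth_rewrite 1 [this]
        exact neg_add_cancel _
      rw [mul_smul, two_smul]
      exact h5
    rcases smul_eq_zero.mp h4 with h | h
    · exact absurd h (mul_ne_zero h2 hμ0)
    · exact h
  · rw [eq_top_iff]
    intro v _
    obtain ⟨a, b, -, -, ha, hb, rfl⟩ := t_eig_split h2 μ hμ0 hsq ⊤ (fun _ _ => Submodule.mem_top) v Submodule.mem_top
    exact Submodule.add_mem_sup ((s5954teigcompl_mem_minus μ a).mpr ha) ((s5954teigcompl_mem_plus μ b).mpr hb)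

/-- TDET -/
theorem t_det [FiniteDimensional F V] {R : ℕ} {σ : F →+* F} {B : V →ₛₗ[σ] V →ₗ[F] F} {x : Module.End F V}
    (h : HCtx R σ B x) (h2 : (2 : F) ≠ 0) (μ : F) (hsq : x * x = (μ * μ) • 1) (hμ : σ μ * μ = -1) :
    Even (finrank F V) ∧ LinearMap.det x = (-(μ * μ)) ^ (finrank F V / 2) := by
  have hμ0 : μ ≠ 0 := by
    intro h0
    rw [h0, mul_zero] at hμ
    exact one_ne_zero (neg_eq_zero.mp hμ.symm)
  set U := LinearMap.ker (x - μ • (1 : Module.End F V)) with hUdef
  set W := LinearMap.ker (x + μ • (1 : Module.End F V)) with hWdef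
  have hc : IsCompl U W := t_eig_compl h2 μ hμ0 hsq
  have hUe : ∀ u ∈ U, x u = μ • u := fun u hu => (s5954teigcompl_mem_minus μ u).mp hu
  have hWe : ∀ u ∈ W, x u = (-μ) • u := fun u hu => by
    rw [neg_smul]; exact (s5954teigcompl_mem_plus μ u).mp hu
  have hUti : HTI B U := fun u hu v hv =>
    t_eig_ti h h2 μ hμ μ (Or.inl rfl) u v (hUe u hu) (hUe v hv)
  have hWti : HTI B W := fun u hu v hv =>
    t_eig_ti h h2 μ hμ (-μ) (Or.inr rfl) u v (hWe u hu) (hWe v hv)
  have hdim : finrank F U = finrank F W := t_ti_dim h U W hUti hWti hc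
  have hsum : finrank F U + finrank F W = finrank F V := Submodule.finrank_add_eq_of_isCompl hc
  have hV : finrank F V = 2 * finrank F U := by omega
  refine ⟨⟨finrank F U, by omega⟩, ?_⟩
  rw [t_det_eig x U W hc μ (-μ) hUe hWe, ← hdim, hV, Nat.mul_div_cancel_left _ (by norm_num : 0 < 2), ← mul_pow]
  congr 1
  ring

end Cfsg.Agent.Lib.Helper19.S5954
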