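import Mathlib
import Cfsg.Agent.Lib.Helper11.S5956U.Defs
import Cfsg.Agent.Lib.helper8.S5955X4

/-! Project S5956U (designer helper11), row BLKEVEN (helper6): a unipotent isometry of the standard `2k`-space with a single Jordan block.
Tools (reusable, also used by BLKODD): `s5956ublkeven_cayley` (Cayley transform `y = (1 + A)(1 - A)⁻¹` of a `B`-skew nilpotent `A`: `SCtx p B y` and
`dk (y - 1) = dk A`), `s5956ublkeven_transport` (transport to the standard space keeps `dk (x - 1)`), the antidiagonal alternating form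
`s5956ublkeven_B` on `Fin (m + 1) → F` (`m` odd) for which helper14's `shift` is skew. -/

set_option autoImplicit false

namespace Cfsg.Agent.Lib.Helper11.S5956U

open Polynomial Module Cfsg.Agent.Lib.Helper13.S5955 Cfsg.Agent.Lib.helper14.JTa Cfsg.Agent.Lib.helper14.JTb

variable {F : Type*} [Field F] {V : Type*} [AddCommGroup V] [Module F V]

/-- Cayley transform: a `B`-skew nilpotent `A` (with `A ^ p = 0`, `char F = p > 2`) gives the isometry `y = (1 + A)(1 - A)⁻¹`
of order dividing `p`, and `y - 1` has the same kernel dimensions as `A`. -/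
theorem s5956ublkeven_cayley {p : ℕ} [Fact p.Prime] [CharP F p] (hp2 : 2 < p)
    (B : LinearMap.BilinForm F V) (halt : ∀ v, B v v = 0) (hnd : ∀ u, (∀ v, B u v = 0) → u = 0)
    (A : Module.End F V) (hskew : ∀ u v, B (A u) v = - B u (A v)) (hA : A ^ p = 0) :
    ∃ y : Module.End F V, SCtx p B y ∧ ∀ j, dk (y - 1) j = dk A j := by
  classical
  set G : Module.End F V := ∑ i ∈ Finset.range p, A ^ i with hG
  have h1 : (1 - A) * G = 1 := by
    rw [hG, mul_neg_geom_sum, hA, sub_zero]
  have h2 : G * (1 - A) = 1 := by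
    rw [hG, geom_sum_mul_neg, hA, sub_zero]
  have hcAG : Commute A G := by
    rw [hG]
    exact Commute.sum_right _ _ _ (fun i _ => (Commute.refl A).pow_right i)
  have h2F : (2 : F) ≠ 0 := by
    intro h
    have : ((2 : ℕ) : F) = 0 := by exact_mod_cast h
    rw [CharP.cast_eq_zero_iff F p] at this
    have := Nat.le_of_dvd (by norm_num) this
    omega
  refine ⟨(1 + A) * G, ⟨halt, hnd, ?_, ?_⟩, ?_⟩
  · -- isometry
    intro u v
    have hu : u = (1 - A) (G u) := by
      rw [← Module.End.mul_apply, h1, Module.End.one_apply]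
    have hv : v = (1 - A) (G v) := by
      rw [← Module.End.mul_apply, h1, Module.End.one_apply]
    set u' := G u
    set v' := G v
    rw [Module.End.mul_apply, Module.End.mul_apply]
    conv_rhs => rw [hu, hv]
    simp only [LinearMap.add_apply, LinearMap.sub_apply, Module.End.one_apply, map_add, map_sub]
    rw [hskew u' v']
    ring
  · -- order
    have hy1 : (1 + A) * G - 1 = (2 : F) • (A * G) := by
      have : (1 + A) * G - 1 = (1 + A) * G - (1 - A) * G := by rw [h1]
      rw [this, ← sub_mul, two_smul, ← add_mul]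
      congr 1
      abel
    have hpow : ((1 + A) * G - 1) ^ p = 0 := by
      rw [hy1, _root_.smul_pow, hcAG.mul_pow, hA, zero_mul, smul_zero]
    have hpoly : ((X : F[X]) - 1) ^ p = X ^ p - 1 := by
      rw [sub_pow_char, one_pow]
    have := congrArg (aeval ((1 + A) * G)) hpoly
    simp only [map_pow, map_sub, aeval_X, map_one] at this
    rw [hpow] at this
    exact (sub_eq_zero.mp this.symm)
  · intro j
    have hy1 : (1 + A) * G - 1 = (2 : F) • (A * G) := by
      have : (1 + A) * G - 1 = (1 + A) * G - (1 - A) * G := by rw [h1]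
      rw [this, ← sub_mul, two_smul, ← add_mul]
      congr 1
      abel
    have hpj : ((1 + A) * G - 1) ^ j = (2 : F) ^ j • (G ^ j * A ^ j) := by
      rw [hy1, _root_.smul_pow, hcAG.mul_pow, ((hcAG.pow_left j).pow_right j).eq]
    have hc1 : Commute (1 - A) G := (Commute.one_left G).sub_left hcAG
    have hinv : (1 - A) ^ j * G ^ j = 1 := by
      rw [← hc1.mul_pow, h1, one_pow]
    unfold dk
    have hker : LinearMap.ker (((1 + A) * G - 1) ^ j) = LinearMap.ker (A ^ j) := by
      ext v
      rw [LinearMap.mem_ker, LinearMap.mem_ker, hpj, LinearMap.smul_apply, Module.End.mul_apply]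
      constructor
      · intro h
        have h3 : (G ^ j) ((A ^ j) v) = 0 := by
          rcases smul_eq_zero.mp h with h | h
          · exact absurd h (pow_ne_zero _ h2F)
          · exact h
        have := congrArg (fun w => ((1 - A) ^ j : Module.End F V) w) h3
        rw [← Module.End.mul_apply, hinv, Module.End.one_apply, map_zero] at this
        exact this
      · intro h
        rw [h, map_zero, smul_zero]
    rw [hker]

/-- the antidiagonal alternating form on `Fin (m + 1) → F` (`m` odd): `B u v = Σ (-1)^i u_i v_{m - i}` -/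
noncomputable def s5956ublkeven_B (F : Type*) [Field F] (m : ℕ) : LinearMap.BilinForm F (Fin (m + 1) → F) :=
  LinearMap.mk₂ F (fun u v => ∑ i : Fin (m + 1), (-1 : F) ^ (i : ℕ) * u i * v (Fin.rev i))
    (fun u u' v => by
      simp only [Pi.add_apply, mul_add, add_mul, Finset.sum_add_distrib])
    (fun c u v => by
      simp only [Pi.smul_apply, smul_eq_mul, Finset.mul_sum]
      refine Finset.sum_congr rfl (fun i _ => by ring))
    (fun u v v' => by
      simp only [Pi.add_apply, mul_add, Finset.sum_add_distrib])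
    (fun c u v => by
      simp only [Pi.smul_apply, smul_eq_mul, Finset.mul_sum]
      refine Finset.sum_congr rfl (fun i _ => by ring))

theorem s5956ublkeven_B_apply (m : ℕ) (u v : Fin (m + 1) → F) :
    s5956ublkeven_B F m u v = ∑ i : Fin (m + 1), (-1 : F) ^ (i : ℕ) * u i * v (Fin.rev i) := rfl

theorem s5956ublkeven_B_skew (m : ℕ) (u v : Fin (m + 1) → F) :
    s5956ublkeven_B F m (shift F (m + 1) u) v = - s5956ublkeven_B F m u (shift F (m + 1) v) := by
  rw [s5956ublkeven_B_apply, s5956ublkeven_B_apply]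
  rw [Fin.sum_univ_castSucc, Fin.sum_univ_succ (fun i : Fin (m + 1) => (-1 : F) ^ (i : ℕ) * u i * (shift F (m + 1) v) (Fin.rev i))]
  have h1 : shift F (m + 1) u (Fin.last m) = 0 := by
    rw [shift_apply, dif_neg]
    simp
  have h2 : shift F (m + 1) v (Fin.rev 0) = 0 := by
    rw [shift_apply, dif_neg]
    simp [Fin.rev]
  rw [h1, h2, mul_zero, zero_mul, add_zero, mul_zero, zero_add, ← Finset.sum_neg_distrib]
  refine Finset.sum_congr rfl (fun i _ => ?_)
  have h3 : shift F (m + 1) u (Fin.castSucc i) = u i.succ := by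
    rw [shift_apply, dif_pos (by simp)]
    rfl
  have h4 : shift F (m + 1) v (Fin.rev i.succ) = v (Fin.rev (Fin.castSucc i)) := by
    rw [Fin.rev_succ, shift_apply, dif_pos (by have := (Fin.rev i).isLt; simp only [Fin.val_castSucc]; omega), Fin.rev_castSucc]
    rfl
  rw [h3, h4, Fin.val_castSucc, Fin.val_succ, pow_succ]
  ring

theorem s5956ublkeven_B_alt (h2 : (2 : F) ≠ 0) (m : ℕ) (hm : Odd m) (v : Fin (m + 1) → F) :
    s5956ublkeven_B F m v v = 0 := by
  have h : s5956ublkeven_B F m v v = - s5956ublkeven_B F m v v := by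
    conv_lhs => rw [s5956ublkeven_B_apply, ← Equiv.sum_comp Fin.revPerm]
    rw [s5956ublkeven_B_apply, ← Finset.sum_neg_distrib]
    refine Finset.sum_congr rfl (fun i _ => ?_)
    simp only [Fin.revPerm_apply, Fin.rev_rev]
    have hs : (-1 : F) ^ ((Fin.rev i : Fin (m + 1)) : ℕ) = - (-1 : F) ^ (i : ℕ) := by
      have hi : ((Fin.rev i : Fin (m + 1)) : ℕ) + (i : ℕ) = m := by
        rw [Fin.val_rev]; have := i.isLt; omega
      have : (-1 : F) ^ ((Fin.rev i : Fin (m + 1)) : ℕ) * (-1 : F) ^ (i : ℕ) = -1 := by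
        rw [← pow_add, hi, hm.neg_one_pow]
      have hsq : (-1 : F) ^ (i : ℕ) * (-1 : F) ^ (i : ℕ) = 1 := by
        rw [← mul_pow]; simp
      calc (-1 : F) ^ ((Fin.rev i : Fin (m + 1)) : ℕ)
          = (-1 : F) ^ ((Fin.rev i : Fin (m + 1)) : ℕ) * ((-1 : F) ^ (i : ℕ) * (-1 : F) ^ (i : ℕ)) := by rw [hsq, mul_one]
        _ = - (-1 : F) ^ (i : ℕ) := by rw [← mul_assoc, this]; ring
    rw [hs]
    ring
  have h' : (2 : F) * s5956ublkeven_B F m v v = 0 := by
    rw [two_mul]
    nth_rewrite 1 [h]
    ring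
  rcases mul_eq_zero.mp h' with h0 | h0
  · exact absurd h0 h2
  · exact h0

theorem s5956ublkeven_B_nd (m : ℕ) (u : Fin (m + 1) → F)
    (hu : ∀ v, s5956ublkeven_B F m u v = 0) : u = 0 := by
  funext i
  have := hu (Pi.single (Fin.rev i) 1)
  rw [s5956ublkeven_B_apply, Finset.sum_eq_single i] at this
  · simpa using this
  · intro b _ hb
    have : Fin.rev b ≠ Fin.rev i := fun h => hb (Fin.rev_injective h)
    rw [Pi.single_apply, if_neg this, mul_zero]
  · intro h; exact absurd (Finset.mem_univ i) h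

theorem s5956ublkeven_shift_pow (b n : ℕ) (hbn : b ≤ n) : (shift F b) ^ n = 0 := by
  apply LinearMap.ext
  intro v
  funext i
  rw [shift_pow_apply, dif_neg (by have := i.isLt; omega)]
  rfl

/-- transport of a context to the standard space keeps the kernel dimensions of `x - 1` -/
theorem s5956ublkeven_transport {V' : Type*} [AddCommGroup V'] [Module F V'] [FiniteDimensional F V'] {r : ℕ}
    (B' : LinearMap.BilinForm F V') (x' : Module.End F V') (h : SCtx r B' x') (d : ℕ) (hV : finrank F V' = 2 * d) :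
    ∃ y : Module.End F (Fin d ⊕ Fin d → F), SCtx r (stdB d F) y ∧ ∀ j, dk (y - 1) j = dk (x' - 1) j := by
  obtain ⟨y, ψ, hy, -, hψ⟩ := transport B' x' h d hV
  refine ⟨y, hy, fun j => ?_⟩
  have : y - 1 = ψ.symm.conjAlgEquiv F (x' - 1) := by
    apply LinearMap.ext
    intro u
    simp only [LinearEquiv.conjAlgEquiv_apply, LinearMap.sub_apply, Module.End.one_apply, LinearMap.coe_comp,
      LinearEquiv.coe_coe, Function.comp_apply, LinearEquiv.symm_symm, map_sub, ← hψ, LinearEquiv.symm_apply_apply]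
  rw [this, dk_conj]

theorem blk_even {p : ℕ} [Fact p.Prime] [CharP F p] (hp2 : 2 < p) (k : ℕ) (hk : 1 ≤ k) (hkp : 2 * k ≤ p) :
    ∃ y : Module.End F (Fin k ⊕ Fin k → F), SCtx p (stdB k F) y ∧ ∀ j, dk (y - 1) j = tyf {2 * k} j := by
  obtain ⟨m, hm⟩ : ∃ m, 2 * k = m + 1 := ⟨2 * k - 1, by omega⟩
  have hmo : Odd m := by
    rw [Nat.odd_iff]; omega
  have h2F : (2 : F) ≠ 0 := by
    intro h
    have : ((2 : ℕ) : F) = 0 := by exact_mod_cast h
    rw [CharP.cast_eq_zero_iff F p] at this
    have := Nat.le_of_dvd (by norm_num) this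
    omega
  obtain ⟨y', hctx, hdk⟩ := s5956ublkeven_cayley hp2 (s5956ublkeven_B F m)
    (s5956ublkeven_B_alt h2F m hmo) (s5956ublkeven_B_nd m) (shift F (m + 1))
    (s5956ublkeven_B_skew m) (s5956ublkeven_shift_pow (m + 1) p (by omega))
  obtain ⟨y, hy, hdk'⟩ := s5956ublkeven_transport (s5956ublkeven_B F m) y' hctx k (by
    rw [Module.finrank_fin_fun, hm])
  refine ⟨y, hy, fun j => ?_⟩
  rw [hdk', hdk, dk_shift, ← hm]
  simp [tyf]

end Cfsg.Agent.Lib.Helper11.S5956U
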