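import Mathlib
import Cfsg.Agent.Lib.helper6.S5956UBLKEVEN

/-! Project S5956U (designer helper11), row BLKODD (helper6): a unipotent isometry of the standard `2s`-space with two Jordan blocks of size `s`.
Model: `(Fin s → F) × (Fin s → F)` with `B ((a,b),(a',b')) = P a b' - P b a'`, `P a c = Σ a_i c_{s-1-i}`; `A = shift × (-shift)` is `B`-skew;
Cayley transform + transport (from BLKEVEN). -/

set_option autoImplicit false

namespace Cfsg.Agent.Lib.Helper11.S5956U

open Polynomial Module Cfsg.Agent.Lib.Helper13.S5955 Cfsg.Agent.Lib.helper14.JTa Cfsg.Agent.Lib.helper14.JTb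

variable {F : Type*} [Field F] {V : Type*} [AddCommGroup V] [Module F V]

/-- the symmetric antidiagonal pairing `P a c = Σ a_i c_{m - i}` -/
def s5956ublkodd_P (m : ℕ) (a c : Fin (m + 1) → F) : F := ∑ i : Fin (m + 1), a i * c (Fin.rev i)

theorem s5956ublkodd_P_symm (m : ℕ) (a c : Fin (m + 1) → F) :
    s5956ublkodd_P m a c = s5956ublkodd_P m c a := by
  unfold s5956ublkodd_P
  conv_lhs => rw [← Equiv.sum_comp Fin.revPerm]
  refine Finset.sum_congr rfl (fun i _ => ?_)
  simp only [Fin.revPerm_apply, Fin.rev_rev]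
  ring

theorem s5956ublkodd_P_shift (m : ℕ) (a c : Fin (m + 1) → F) :
    s5956ublkodd_P m (shift F (m + 1) a) c = s5956ublkodd_P m a (shift F (m + 1) c) := by
  unfold s5956ublkodd_P
  rw [Fin.sum_univ_castSucc, Fin.sum_univ_succ (fun i : Fin (m + 1) => a i * (shift F (m + 1) c) (Fin.rev i))]
  have h1 : shift F (m + 1) a (Fin.last m) = 0 := by
    rw [shift_apply, dif_neg]
    simp
  have h2 : shift F (m + 1) c (Fin.rev 0) = 0 := by
    rw [shift_apply, dif_neg]
    simp [Fin.rev]
  rw [h1, h2, mul_zero, zero_mul, add_zero, zero_add]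
  refine Finset.sum_congr rfl (fun i _ => ?_)
  have h3 : shift F (m + 1) a (Fin.castSucc i) = a i.succ := by
    rw [shift_apply, dif_pos (by simp)]
    rfl
  have h4 : shift F (m + 1) c (Fin.rev i.succ) = c (Fin.rev (Fin.castSucc i)) := by
    rw [Fin.rev_succ, shift_apply, dif_pos (by have := (Fin.rev i).isLt; simp only [Fin.val_castSucc]; omega), Fin.rev_castSucc]
    rfl
  rw [h3, h4]

theorem s5956ublkodd_P_add_left (m : ℕ) (a a' c : Fin (m + 1) → F) :
    s5956ublkodd_P m (a + a') c = s5956ublkodd_P m a c + s5956ublkodd_P m a' c := by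
  unfold s5956ublkodd_P
  simp only [Pi.add_apply, add_mul, Finset.sum_add_distrib]

theorem s5956ublkodd_P_smul_left (m : ℕ) (k : F) (a c : Fin (m + 1) → F) :
    s5956ublkodd_P m (k • a) c = k * s5956ublkodd_P m a c := by
  unfold s5956ublkodd_P
  simp only [Pi.smul_apply, smul_eq_mul, Finset.mul_sum]
  refine Finset.sum_congr rfl (fun i _ => by ring)

theorem s5956ublkodd_P_add_right (m : ℕ) (a c c' : Fin (m + 1) → F) :
    s5956ublkodd_P m a (c + c') = s5956ublkodd_P m a c + s5956ublkodd_P m a c' := by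
  rw [s5956ublkodd_P_symm, s5956ublkodd_P_add_left, s5956ublkodd_P_symm m c, s5956ublkodd_P_symm m c']

theorem s5956ublkodd_P_smul_right (m : ℕ) (k : F) (a c : Fin (m + 1) → F) :
    s5956ublkodd_P m a (k • c) = k * s5956ublkodd_P m a c := by
  rw [s5956ublkodd_P_symm, s5956ublkodd_P_smul_left, s5956ublkodd_P_symm]

theorem s5956ublkodd_P_single (m : ℕ) (a : Fin (m + 1) → F) (i : Fin (m + 1)) :
    s5956ublkodd_P m a (Pi.single (Fin.rev i) 1) = a i := by
  unfold s5956ublkodd_P
  rw [Finset.sum_eq_single i]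
  · simp
  · intro b _ hb
    have : Fin.rev b ≠ Fin.rev i := fun h => hb (Fin.rev_injective h)
    rw [Pi.single_apply, if_neg this, mul_zero]
  · intro h; exact absurd (Finset.mem_univ i) h

/-- the alternating form `B ((a,b),(a',b')) = P a b' - P b a'` on the product -/
noncomputable def s5956ublkodd_B (F : Type*) [Field F] (m : ℕ) :
    LinearMap.BilinForm F ((Fin (m + 1) → F) × (Fin (m + 1) → F)) :=
  LinearMap.mk₂ F (fun u v => s5956ublkodd_P m u.1 v.2 - s5956ublkodd_P m u.2 v.1)
    (fun u u' v => by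
      simp only [Prod.fst_add, Prod.snd_add, s5956ublkodd_P_add_left]; ring)
    (fun c u v => by
      simp only [Prod.smul_fst, Prod.smul_snd, s5956ublkodd_P_smul_left, smul_eq_mul]; ring)
    (fun u v v' => by
      simp only [Prod.fst_add, Prod.snd_add, s5956ublkodd_P_add_right]; ring)
    (fun c u v => by
      simp only [Prod.smul_fst, Prod.smul_snd, s5956ublkodd_P_smul_right, smul_eq_mul]; ring)

theorem s5956ublkodd_B_apply (m : ℕ) (u v : (Fin (m + 1) → F) × (Fin (m + 1) → F)) :
    s5956ublkodd_B F m u v = s5956ublkodd_P m u.1 v.2 - s5956ublkodd_P m u.2 v.1 := rfl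

theorem s5956ublkodd_dk_neg {V : Type*} [AddCommGroup V] [Module F V] (M : Module.End F V) (j : ℕ) :
    dk (-M) j = dk M j := by
  unfold dk
  have : LinearMap.ker ((-M) ^ j) = LinearMap.ker (M ^ j) := by
    ext v
    rw [LinearMap.mem_ker, LinearMap.mem_ker, neg_pow, Module.End.mul_apply]
    rcases neg_one_pow_eq_or (Module.End F V) j with h | h
    · rw [h, Module.End.one_apply]
    · rw [h, LinearMap.neg_apply, Module.End.one_apply, neg_eq_zero]
  rw [this]

theorem blk_odd {p : ℕ} [Fact p.Prime] [CharP F p] (hp2 : 2 < p) (s : ℕ) (hs : 1 ≤ s) (hsp : s ≤ p) :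
    ∃ y : Module.End F (Fin s ⊕ Fin s → F), SCtx p (stdB s F) y ∧ ∀ j, dk (y - 1) j = tyf {s, s} j := by
  obtain ⟨m, rfl⟩ : ∃ m, s = m + 1 := ⟨s - 1, by omega⟩
  set S := shift F (m + 1) with hS
  set A : Module.End F ((Fin (m + 1) → F) × (Fin (m + 1) → F)) := LinearMap.prodMap S (-S) with hA
  have halt : ∀ v, s5956ublkodd_B F m v v = 0 := by
    intro v
    rw [s5956ublkodd_B_apply, s5956ublkodd_P_symm m v.2 v.1, sub_self]
  have hnd : ∀ u, (∀ v, s5956ublkodd_B F m u v = 0) → u = 0 := by
    intro u hu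
    refine Prod.ext ?_ ?_
    · funext i
      have := hu (0, Pi.single (Fin.rev i) 1)
      rw [s5956ublkodd_B_apply] at this
      simp only at this
      rw [s5956ublkodd_P_single, s5956ublkodd_P_symm, ] at this
      have h0 : s5956ublkodd_P m (0 : Fin (m + 1) → F) u.2 = 0 := by
        unfold s5956ublkodd_P; simp
      rw [h0, sub_zero] at this
      exact this
    · funext i
      have := hu (Pi.single (Fin.rev i) 1, 0)
      rw [s5956ublkodd_B_apply] at this
      simp only at this
      rw [s5956ublkodd_P_single, s5956ublkodd_P_symm] at this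
      have h0 : s5956ublkodd_P m (0 : Fin (m + 1) → F) u.1 = 0 := by
        unfold s5956ublkodd_P; simp
      rw [h0, zero_sub, neg_eq_zero] at this
      exact this
  have hskew : ∀ u v, s5956ublkodd_B F m (A u) v = - s5956ublkodd_B F m u (A v) := by
    intro u v
    rw [s5956ublkodd_B_apply, s5956ublkodd_B_apply]
    simp only [hA, LinearMap.prodMap_apply, LinearMap.neg_apply]
    rw [s5956ublkodd_P_shift m u.1 v.2, ← s5956ublkodd_P_shift m u.2 v.1]
    have hn1 : ∀ a c : Fin (m + 1) → F, s5956ublkodd_P m (-a) c = - s5956ublkodd_P m a c := by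
      intro a c
      have := s5956ublkodd_P_smul_left m (-1 : F) a c
      simpa using this
    have hn2 : ∀ a c : Fin (m + 1) → F, s5956ublkodd_P m a (-c) = - s5956ublkodd_P m a c := by
      intro a c
      have := s5956ublkodd_P_smul_right m (-1 : F) a c
      simpa using this
    rw [hn1, hn2]
    ring
  have hAp : A ^ p = 0 := by
    have h1 : S ^ p = 0 := s5956ublkeven_shift_pow (m + 1) p hsp
    have h2 : (-S) ^ p = 0 := by
      rw [neg_pow S p, h1, mul_zero]
    rw [hA, prodMap_pow', h1, h2]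
    exact LinearMap.prodMap_zero
  obtain ⟨y', hctx, hdk⟩ := s5956ublkeven_cayley hp2 (s5956ublkodd_B F m) halt hnd A hskew hAp
  obtain ⟨y, hy, hdk'⟩ := s5956ublkeven_transport (s5956ublkodd_B F m) y' hctx (m + 1) (by
    rw [Module.finrank_prod, Module.finrank_fin_fun]; ring)
  refine ⟨y, hy, fun j => ?_⟩
  rw [hdk', hdk, hA, dk_prodMap, s5956ublkodd_dk_neg, dk_shift]
  simp [tyf]

end Cfsg.Agent.Lib.Helper11.S5956U
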