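import Mathlib
import Cfsg.Agent.Lib.Helper22.S6002.Defs

/-! Project S6002 (designer helper22), rows N1 (`tr_zero`), N2 (`twirl`) and N3 (`trace_formula`) (helper6). -/

set_option autoImplicit false
open scoped MatrixGroups

namespace Cfsg.Agent.Lib.Helper22.S6002

variable {ι : Type} [Fintype ι] [DecidableEq ι] {F : Type*} [Field F]

/-- N2 -/
theorem twirl {R : Subgroup (GL ι F)} (hE : ECtx R) (hι : Fintype.card ι = 4) [Fintype R]
    (M : Matrix ι ι F) :
    ∑ b : R, ((b : GL ι F) : Matrix ι ι F) * M * (((b : GL ι F)⁻¹ : GL ι F) : Matrix ι ι F) =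
      (8 * Matrix.trace M) • (1 : Matrix ι ι F) := by
  classical
  set T : Matrix ι ι F := ∑ b : R, ((b : GL ι F) : Matrix ι ι F) * M * (((b : GL ι F)⁻¹ : GL ι F) : Matrix ι ι F) with hT
  -- `T` commutes with `R`
  have hcomm : ∀ c ∈ R, T * (c : Matrix ι ι F) = (c : Matrix ι ι F) * T := by
    intro c hc
    have h1 : (c : Matrix ι ι F) * T * ((c⁻¹ : GL ι F) : Matrix ι ι F) = T := by
      rw [hT, Finset.mul_sum, Finset.sum_mul]
      rw [← Equiv.sum_comp (Equiv.mulLeft (⟨c, hc⟩ : R))
        (fun b : R => ((b : GL ι F) : Matrix ι ι F) * M * (((b : GL ι F)⁻¹ : GL ι F) : Matrix ι ι F))]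
      refine Finset.sum_congr rfl (fun b _ => ?_)
      simp only [Equiv.coe_mulLeft, Subgroup.coe_mul, mul_inv_rev, Units.val_mul]
      simp only [mul_assoc]
    have h2 : (c : Matrix ι ι F) * T = T * (c : Matrix ι ι F) := by
      have := congrArg (fun X : Matrix ι ι F => X * (c : Matrix ι ι F)) h1
      simp only [mul_assoc] at this
      rw [← Units.val_mul, inv_mul_cancel, Units.val_one, mul_one] at this
      exact this
    exact h2.symm
  obtain ⟨l, hl⟩ := hE.commutant T hcomm
  -- traces
  have htr1 : Matrix.trace T = 32 * Matrix.trace M := by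
    rw [hT, Matrix.trace_sum]
    have : ∀ b : R, Matrix.trace (((b : GL ι F) : Matrix ι ι F) * M * (((b : GL ι F)⁻¹ : GL ι F) : Matrix ι ι F)) =
        Matrix.trace M := by
      intro b
      rw [Matrix.trace_mul_cycle, ← Units.val_mul, inv_mul_cancel, Units.val_one, Matrix.one_mul]
    rw [Finset.sum_congr rfl (fun b _ => this b), Finset.sum_const, Finset.card_univ, nsmul_eq_mul]
    have hc : Fintype.card R = 32 := by
      rw [← Nat.card_eq_fintype_card]; exact hE.card
    rw [hc]; norm_num
  have htr2 : Matrix.trace T = 4 * l := by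
    rw [hl, Matrix.trace_smul, Matrix.trace_one, hι, smul_eq_mul]
    push_cast; ring
  have h4 : (4 : F) ≠ 0 := by
    have : (4 : F) = 2 * 2 := by norm_num
    rw [this]; exact mul_ne_zero hE.two hE.two
  have hl8 : l = 8 * Matrix.trace M := by
    have : 4 * l = 4 * (8 * Matrix.trace M) := by rw [← htr2, htr1]; ring
    exact mul_left_cancel₀ h4 this
  rw [hl, hl8]

/-- N1 (own copy, used by N3): non-central elements of `R` have trace `0` -/
theorem tr_zero {R : Subgroup (GL ι F)} (hE : ECtx R) (a : GL ι F) (ha : a ∈ R) (h1 : a ≠ 1) (h2 : a ≠ -1) :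
    Matrix.trace (a : Matrix ι ι F) = 0 := by
  have hex : ∃ b ∈ R, a * b = -(b * a) := by
    by_contra hcon
    push Not at hcon
    have : ∀ b ∈ R, a * b = b * a := by
      intro b hb
      rcases hE.comm a ha b hb with h | h
      · exact h
      · exact absurd h (hcon b hb)
    rcases hE.cen a ha this with h | h
    · exact h1 h
    · exact h2 h
  obtain ⟨b, hb, hab⟩ := hex
  have h3 : (a : Matrix ι ι F) * (b : Matrix ι ι F) = -((b : Matrix ι ι F) * (a : Matrix ι ι F)) := by
    have := congrArg (fun t : GL ι F => (t : Matrix ι ι F)) hab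
    simpa using this
  have h4 : Matrix.trace ((a : Matrix ι ι F) * (b : Matrix ι ι F) * ((b⁻¹ : GL ι F) : Matrix ι ι F)) =
      - Matrix.trace ((b : Matrix ι ι F) * (a : Matrix ι ι F) * ((b⁻¹ : GL ι F) : Matrix ι ι F)) := by
    rw [h3, Matrix.neg_mul, Matrix.trace_neg]
  rw [Matrix.mul_assoc, ← Units.val_mul, mul_inv_cancel, Units.val_one, Matrix.mul_one,
    Matrix.trace_mul_cycle, ← Units.val_mul, inv_mul_cancel, Units.val_one, Matrix.one_mul] at h4
  have h5 : (2 : F) * Matrix.trace (a : Matrix ι ι F) = 0 := by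
    rw [two_mul]
    nth_rewrite 1 [h4]
    exact neg_add_cancel _
  rcases mul_eq_zero.mp h5 with h | h
  · exact absurd h hE.two
  · exact h

/-- N3 -/
theorem trace_formula {R : Subgroup (GL ι F)} (hE : ECtx R) (hι : Fintype.card ι = 4)
    (g : GL ι F) (hg : g ∈ Nrm R) (hodd : ∀ b ∈ R, g * b * g⁻¹ ≠ -b) :
    2 * Matrix.trace (g : Matrix ι ι F) * Matrix.trace ((g⁻¹ : GL ι F) : Matrix ι ι F) =
      (Nat.card (centR R g) : F) := by
  classical
  have hfin : Finite R := Nat.finite_of_card_ne_zero (by rw [hE.card]; norm_num)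
  let _ : Fintype R := Fintype.ofFinite R
  have h4 : (4 : F) ≠ 0 := by
    have : (4 : F) = 2 * 2 := by norm_num
    rw [this]; exact mul_ne_zero hE.two hE.two
  have hN2 := twirl hE hι (g : Matrix ι ι F)
  -- multiply by `g⁻¹` and take traces
  have h1 : ∑ b : R, Matrix.trace (((b : GL ι F) : Matrix ι ι F) * (g : Matrix ι ι F) *
      (((b : GL ι F)⁻¹ : GL ι F) : Matrix ι ι F) * ((g⁻¹ : GL ι F) : Matrix ι ι F)) =
      8 * Matrix.trace (g : Matrix ι ι F) * Matrix.trace ((g⁻¹ : GL ι F) : Matrix ι ι F) := by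
    have := congrArg (fun X : Matrix ι ι F => Matrix.trace (X * ((g⁻¹ : GL ι F) : Matrix ι ι F))) hN2
    simp only [Finset.sum_mul, Matrix.trace_sum, Matrix.smul_mul, Matrix.one_mul, Matrix.trace_smul, smul_eq_mul] at this
    exact this
  -- the elements `w_b`
  have hw : ∀ b : R, Matrix.trace (((b : GL ι F) : Matrix ι ι F) * (g : Matrix ι ι F) *
      (((b : GL ι F)⁻¹ : GL ι F) : Matrix ι ι F) * ((g⁻¹ : GL ι F) : Matrix ι ι F)) =
      if g * (b : GL ι F) = b * g then (4 : F) else 0 := by
    intro b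
    have hwR : (b : GL ι F) * (g * (b : GL ι F)⁻¹ * g⁻¹) ∈ R :=
      R.mul_mem b.2 ((Subgroup.mem_normalizer_iff.mp hg _).mp (R.inv_mem b.2))
    have hval : ((b : GL ι F) : Matrix ι ι F) * (g : Matrix ι ι F) *
        (((b : GL ι F)⁻¹ : GL ι F) : Matrix ι ι F) * ((g⁻¹ : GL ι F) : Matrix ι ι F) =
        (((b : GL ι F) * (g * (b : GL ι F)⁻¹ * g⁻¹) : GL ι F) : Matrix ι ι F) := by
      simp only [Units.val_mul, mul_assoc]
    rw [hval]
    by_cases hc : g * (b : GL ι F) = b * g
    · rw [if_pos hc]
      have : (b : GL ι F) * (g * (b : GL ι F)⁻¹ * g⁻¹) = 1 := by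
        have h2 : g * (b : GL ι F)⁻¹ = (b : GL ι F)⁻¹ * g := by
          have := congrArg (fun t => (b : GL ι F)⁻¹ * t * (b : GL ι F)⁻¹) hc
          simp only [mul_assoc, mul_inv_cancel, mul_one] at this
          rw [← mul_assoc, ← mul_assoc, inv_mul_cancel, one_mul] at this
          exact this.symm
        rw [h2]; group
      rw [this, Units.val_one, Matrix.trace_one, hι]
      norm_num
    · rw [if_neg hc]
      apply tr_zero hE _ hwR
      · intro h1'
        apply hc
        have h2 : g * (b : GL ι F)⁻¹ * g⁻¹ = (b : GL ι F)⁻¹ := by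
          have := congrArg (fun t => (b : GL ι F)⁻¹ * t) h1'
          simp only [← mul_assoc, inv_mul_cancel, one_mul, mul_one] at this
          exact this
        have h3 : g * (b : GL ι F)⁻¹ = (b : GL ι F)⁻¹ * g := by
          have := congrArg (fun t => t * g) h2
          simp only [mul_assoc, inv_mul_cancel, mul_one] at this
          exact this
        have := congrArg (fun t => (b : GL ι F) * t * (b : GL ι F)) h3
        simp only [mul_assoc, inv_mul_cancel, mul_one] at this
        rw [← mul_assoc, ← mul_assoc, mul_inv_cancel, one_mul] at this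
        exact this.symm
      · intro h1'
        apply hodd ((b : GL ι F)⁻¹) (R.inv_mem b.2)
        have := congrArg (fun t => (b : GL ι F)⁻¹ * t) h1'
        simp only [← mul_assoc, inv_mul_cancel, one_mul] at this
        rw [this, mul_neg, mul_one]
  rw [Finset.sum_congr rfl (fun b _ => hw b), Finset.sum_ite, Finset.sum_const_zero, add_zero, Finset.sum_const,
    nsmul_eq_mul] at h1
  -- count
  have hcount : (Finset.univ.filter (fun b : R => g * (b : GL ι F) = b * g)).card = Nat.card (centR R g) := by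
    rw [← Fintype.card_subtype, ← Nat.card_eq_fintype_card]
    apply Nat.card_congr
    exact
      { toFun := fun a => ⟨(a.1 : GL ι F), ⟨a.1.2, a.2⟩⟩
        invFun := fun b => ⟨⟨b.1, b.2.1⟩, b.2.2⟩
        left_inv := fun a => rfl
        right_inv := fun b => rfl }
  rw [hcount] at h1
  have : 4 * (2 * Matrix.trace (g : Matrix ι ι F) * Matrix.trace ((g⁻¹ : GL ι F) : Matrix ι ι F)) =
      4 * (Nat.card (centR R g) : F) := by
    linear_combination -h1
  exact mul_left_cancel₀ h4 this

end Cfsg.Agent.Lib.Helper22.S6002
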