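import Mathlib
import Cfsg.Agent.Lib.Helper22.S6002.Defs

/-! Project S6002 (designer helper22), rows N4 (`hodd_of_pow`) and N6 (`cent_card`) (helper6). -/

set_option autoImplicit false
open scoped MatrixGroups

namespace Cfsg.Agent.Lib.Helper22.S6002

variable {ι : Type} [Fintype ι] [DecidableEq ι] {F : Type*} [Field F]

/-- in the context, `ι` is not empty -/
theorem s6002n4_nonempty {R : Subgroup (GL ι F)} (hE : ECtx R) : Nonempty ι := by
  by_contra hne
  rw [not_nonempty_iff] at hne
  have hsub : Subsingleton (GL ι F) := by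
    refine ⟨fun a b => ?_⟩
    apply Units.ext
    apply Matrix.ext
    intro i
    exact (hne.false i).elim
  have : Nat.card R ≤ 1 := by
    have : Subsingleton R := inferInstance
    rw [Nat.card_eq_one_iff_unique.mpr ⟨inferInstance, ⟨1⟩⟩]
  rw [hE.card] at this
  omega

/-- in the context, `1 ≠ -1` in `GL ι F` -/
theorem s6002n4_one_ne_neg {R : Subgroup (GL ι F)} (hE : ECtx R) : (1 : GL ι F) ≠ -1 := by
  obtain ⟨i⟩ := s6002n4_nonempty hE
  intro h
  have h1 := congrArg (fun t : GL ι F => (t : Matrix ι ι F) i i) h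
  simp only [Units.val_one, Units.val_neg, Matrix.one_apply_eq, Matrix.neg_apply] at h1
  apply hE.two
  linear_combination h1

/-- in the context, `b ≠ -b` in `GL ι F` -/
theorem s6002n4_ne_neg {R : Subgroup (GL ι F)} (hE : ECtx R) (b : GL ι F) : b ≠ -b := by
  intro h
  apply s6002n4_one_ne_neg hE
  have := congrArg (fun t => b⁻¹ * t) h
  simp only [inv_mul_cancel, mul_neg] at this
  exact this

/-- N4 -/
theorem hodd_of_pow {R : Subgroup (GL ι F)} (hE : ECtx R) (g : GL ι F) (r : ℕ) (hr : Odd r)
    (hgr : IsScal (g ^ r)) : ∀ b ∈ R, g * b * g⁻¹ ≠ -b := by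
  intro b hb h
  have hgb : g * b = -b * g := by
    have := congrArg (fun t => t * g) h
    simp only [mul_assoc, inv_mul_cancel, mul_one] at this
    exact this
  have hpow : ∀ n : ℕ, g ^ n * b = (-1) ^ n * b * g ^ n := by
    intro n
    induction n with
    | zero => simp
    | succ n ih =>
      rw [pow_succ, mul_assoc, hgb, ← mul_assoc, mul_neg, neg_mul, ih, pow_succ]
      simp only [mul_assoc, mul_neg, neg_mul, mul_one]
  obtain ⟨c, hc⟩ := hgr
  have hcomm : g ^ r * b = b * g ^ r := by
    apply Units.ext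
    rw [Units.val_mul, Units.val_mul, hc, Matrix.smul_mul, Matrix.mul_smul, Matrix.one_mul, Matrix.mul_one]
  have h2 := hpow r
  rw [hr.neg_one_pow, hcomm, neg_mul, one_mul, neg_mul] at h2
  exact s6002n4_ne_neg hE _ h2

/-- N6 -/
theorem cent_card {R : Subgroup (GL ι F)} (hE : ECtx R) (g : GL ι F) :
    (∃ k : ℕ, 1 ≤ k ∧ k ≤ 5 ∧ Nat.card (centR R g) = 2 ^ k) ∧
      (Nat.card (centR R g) = 32 → IsScal g) := by
  classical
  have hfin : Finite R := Nat.finite_of_card_ne_zero (by rw [hE.card]; norm_num)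
  have hle : centR R g ≤ R := fun b hb => hb.1
  have hfinC : Finite (centR R g) := Finite.of_injective (fun b : centR R g => (⟨b.1, hle b.2⟩ : R))
    (fun a b hab => Subtype.ext (congrArg (fun t : R => (t : GL ι F)) hab))
  constructor
  · have hdvd : Nat.card (centR R g) ∣ 2 ^ 5 := by
      have := Subgroup.card_dvd_of_le hle
      rw [hE.card] at this
      exact this
    obtain ⟨k, hk5, hk⟩ := (Nat.dvd_prime_pow Nat.prime_two).mp hdvd
    refine ⟨k, ?_, hk5, hk⟩
    by_contra hlt
    have hk0 : k = 0 := by omega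
    rw [hk0, pow_zero, Nat.card_eq_one_iff_unique] at hk
    obtain ⟨hs, -⟩ := hk
    have h1 : (1 : GL ι F) ∈ centR R g := (centR R g).one_mem
    have h2 : (-1 : GL ι F) ∈ centR R g := ⟨hE.neg, by rw [mul_neg, neg_mul, mul_one, one_mul]⟩
    have := hs.elim ⟨1, h1⟩ ⟨-1, h2⟩
    exact s6002n4_one_ne_neg hE (congrArg Subtype.val this)
  · intro h32
    have heq : centR R g = R := by
      apply Subgroup.eq_of_le_of_card_ge hle
      rw [h32, hE.card]
    apply hE.commutant
    intro b hb
    have hb' : b ∈ centR R g := by rw [heq]; exact hb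
    have := congrArg (fun t : GL ι F => (t : Matrix ι ι F)) hb'.2
    simpa using this

end Cfsg.Agent.Lib.Helper22.S6002
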