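import Mathlib
import Cfsg.Agent.Lib.Helper22.S6002.Defs

/-! Project S6002 (designer helper22), row N5 (helper6): orbit counting, `|C_S(g)| ≡ |S| (mod r)` for `g` normalizing the finite subgroup `S`
with `g ^ r` scalar. -/

set_option autoImplicit false
open scoped MatrixGroups

namespace Cfsg.Agent.Lib.Helper22.S6002

variable {ι : Type} [Fintype ι] [DecidableEq ι] {F : Type*} [Field F]

theorem orbit_count (S : Subgroup (GL ι F)) [Finite S] (g : GL ι F) (hg : g ∈ Nrm S)
    (r : ℕ) (hr : r.Prime) (hgr : IsScal (g ^ r)) :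
    Nat.card (centR S g) ≡ Nat.card S [MOD r] := by
  classical
  have : Fact r.Prime := ⟨hr⟩
  let _ : Fintype S := Fintype.ofFinite S
  obtain ⟨c, hc⟩ := hgr
  have hTr : ∀ a : GL ι F, g ^ r * a = a * g ^ r := by
    intro a
    apply Units.ext
    rw [Units.val_mul, Units.val_mul, hc, Matrix.smul_mul, Matrix.mul_smul, Matrix.one_mul, Matrix.mul_one]
  let f : Function.End S := fun a => ⟨g * a * g⁻¹, (Subgroup.mem_normalizer_iff.mp hg a).mp a.2⟩
  have hfpow : ∀ (k : ℕ) (a : S), (((f ^ k) a : S) : GL ι F) = g ^ k * a * (g ^ k)⁻¹ := by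
    intro k
    induction k with
    | zero =>
      intro a
      rw [pow_zero, pow_zero, one_mul, inv_one, mul_one]
      rfl
    | succ k ih =>
      intro a
      rw [pow_succ]
      show (((f ^ k) (f a) : S) : GL ι F) = _
      rw [ih (f a)]
      show g ^ k * (g * a * g⁻¹) * (g ^ k)⁻¹ = _
      rw [pow_succ, mul_inv_rev]
      group
  have hfr : f ^ r ^ 1 = 1 := by
    rw [pow_one]
    funext a
    apply Subtype.ext
    rw [hfpow r a]
    show g ^ r * a * (g ^ r)⁻¹ = a
    rw [hTr a, mul_inv_cancel_right]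
  have hmod := Equiv.Perm.card_fixedPoints_modEq (p := r) (n := 1) hfr
  have hfixmem : ∀ a : S, a ∈ Function.fixedPoints f ↔ g * (a : GL ι F) = a * g := by
    intro a
    rw [Function.mem_fixedPoints, Function.IsFixedPt]
    constructor
    · intro h
      have := congrArg Subtype.val h
      have h2 : g * a * g⁻¹ = a := this
      calc g * (a : GL ι F) = g * a * g⁻¹ * g := by group
        _ = a * g := by rw [h2]
    · intro h
      apply Subtype.ext
      show g * a * g⁻¹ = a
      rw [h, mul_inv_cancel_right]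
  have hequiv : Function.fixedPoints f ≃ centR S g :=
    { toFun := fun a => ⟨(a.1 : GL ι F), ⟨a.1.2, (hfixmem a.1).mp a.2⟩⟩
      invFun := fun b => ⟨⟨b.1, b.2.1⟩, (hfixmem ⟨b.1, b.2.1⟩).mpr b.2.2⟩
      left_inv := fun a => rfl
      right_inv := fun b => rfl }
  have hcardfix : Fintype.card (Function.fixedPoints f) = Nat.card (centR S g) := by
    rw [← Nat.card_eq_fintype_card]
    exact Nat.card_congr hequiv
  rw [hcardfix, ← Nat.card_eq_fintype_card] at hmod
  exact hmod.symm

end Cfsg.Agent.Lib.Helper22.S6002
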