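import Mathlib
import Cfsg.Agent.Lib.Helper22.S6002.Defs
import Cfsg.Agent.Lib.helper6.S6002N2
import Cfsg.Agent.Lib.helper6.S6002N4
import Cfsg.Agent.Lib.helper6.S6002N5

/-! Project S6002 (designer helper22), rows N7 (`no_cent4`), N8 (`no_big_prime`), N10 (`five_cent`), N12 (`five_trace`) (helper6). -/

set_option autoImplicit false
open scoped MatrixGroups

namespace Cfsg.Agent.Lib.Helper22.S6002

variable {ι : Type} [Fintype ι] [DecidableEq ι] {F : Type*} [Field F]

/-- `R` is finite in the context -/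
theorem s6002n7_finite {R : Subgroup (GL ι F)} (hE : ECtx R) : Finite R :=
  Nat.finite_of_card_ne_zero (by rw [hE.card]; norm_num)

/-- `centR R g` is finite in the context -/
theorem s6002n7_finite_cent {R : Subgroup (GL ι F)} (hE : ECtx R) (g : GL ι F) : Finite (centR R g) := by
  have := s6002n7_finite hE
  exact Finite.of_injective (fun b : centR R g => (⟨b.1, b.2.1⟩ : R))
    (fun a b hab => Subtype.ext (congrArg (fun t : R => (t : GL ι F)) hab))

/-- the centralizer in `R` of a non-central element has order 16 -/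
theorem s6002n7_card16 {R : Subgroup (GL ι F)} (hE : ECtx R) (a : GL ι F) (ha : a ∈ R) (h1 : a ≠ 1) (h2 : a ≠ -1) :
    Nat.card (centR R a) = 16 := by
  classical
  have hfin := s6002n7_finite hE
  have hle : centR R a ≤ R := fun b hb => hb.1
  -- some `b₀` anticommutes with `a`
  have hex : ∃ b ∈ R, a * b = -(b * a) := by
    by_contra hcon
    push Not at hcon
    have : ∀ b ∈ R, a * b = b * a := by
      intro b hb
      rcases hE.comm a ha b hb with h | h
      · exact h
      · exact absurd h (hcon b hb)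
    rcases hE.cen a ha this with h | h
    · exact h1 h
    · exact h2 h
  obtain ⟨b₀, hb₀, hab₀⟩ := hex
  have hidx : ((centR R a).subgroupOf R).index = 2 := by
    rw [Subgroup.index_eq_two_iff]
    refine ⟨⟨b₀, hb₀⟩, ?_⟩
    intro b
    have hmem : ∀ x : R, x ∈ (centR R a).subgroupOf R ↔ a * (x : GL ι F) = (x : GL ι F) * a := by
      intro x
      rw [Subgroup.mem_subgroupOf]
      exact ⟨fun h => h.2, fun h => ⟨x.2, h⟩⟩
    rw [hmem, hmem]
    show Xor (a * ((b : GL ι F) * b₀) = (b : GL ι F) * b₀ * a) (a * (b : GL ι F) = (b : GL ι F) * a)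
    rcases hE.comm a ha b b.2 with h | h
    · right
      refine ⟨h, ?_⟩
      intro h'
      rw [← mul_assoc, h, mul_assoc, hab₀, mul_neg, ← mul_assoc] at h'
      exact s6002n4_ne_neg hE _ h'.symm
    · left
      refine ⟨?_, ?_⟩
      · rw [← mul_assoc, h, neg_mul, mul_assoc, hab₀, mul_neg, neg_neg, mul_assoc]
      · intro h'
        rw [h'] at h
        exact s6002n4_ne_neg hE _ h
  have hcard := ((centR R a).subgroupOf R).card_mul_index
  rw [hidx, hE.card] at hcard
  have heq : Nat.card ((centR R a).subgroupOf R) = Nat.card (centR R a) :=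
    Nat.card_congr (Subgroup.subgroupOfEquivOfLe hle).toEquiv
  omega

/-- N7 -/
theorem no_cent4 {R : Subgroup (GL ι F)} (hE : ECtx R) (g : GL ι F) (hg : g ∈ Nrm R)
    (hgr : IsScal (g ^ 7)) : Nat.card (centR R g) ≠ 4 := by
  classical
  intro h4
  have hfin := s6002n7_finite hE
  have hfinC := s6002n7_finite_cent hE g
  -- `C = centR R g` is abelian
  have : Fact (Nat.Prime 2) := ⟨Nat.prime_two⟩
  have hab : ∀ x y : centR R g, x * y = y * x :=
    (IsPGroup.isMulCommutative_of_card_eq_prime_sq (p := 2) (by rw [h4]; norm_num)).is_comm.comm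
  -- an element `a ≠ ±1` of `C`
  have hex : ∃ a ∈ centR R g, a ≠ 1 ∧ a ≠ -1 := by
    by_contra hcon
    push Not at hcon
    have hsub : Nat.card (centR R g) ≤ 2 := by
      have hinj : Function.Injective (fun x : centR R g => (if (x : GL ι F) = 1 then (0 : Fin 2) else 1)) := by
        intro x y hxy
        apply Subtype.ext
        by_cases hx : (x : GL ι F) = 1
        · by_cases hy : (y : GL ι F) = 1
          · rw [hx, hy]
          · simp [hx, hy] at hxy
        · by_cases hy : (y : GL ι F) = 1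
          · simp [hx, hy] at hxy
          · have hx' : (x : GL ι F) = -1 := by
              by_contra hx'
              exact hx' (hcon x x.2 hx)
            have hy' : (y : GL ι F) = -1 := by
              by_contra hy'
              exact hy' (hcon y y.2 hy)
            rw [hx', hy']
      have := Nat.card_le_card_of_injective _ hinj
      simpa using this
    omega
  obtain ⟨a, haC, ha1, ha2⟩ := hex
  have haR : a ∈ R := haC.1
  have hga : g * a = a * g := haC.2
  -- `C ≤ A = centR R a`
  have hCA : ∀ b ∈ centR R g, a * b = b * a := by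
    intro b hb
    have := hab ⟨a, haC⟩ ⟨b, hb⟩
    exact congrArg Subtype.val this
  -- `g` normalizes `A`
  have hgA : g ∈ Nrm (centR R a) := by
    rw [Subgroup.mem_normalizer_iff]
    intro b
    have hgR := Subgroup.mem_normalizer_iff.mp hg b
    have hginv : g⁻¹ * a = a * g⁻¹ := by
      have := congrArg (fun t => g⁻¹ * t * g⁻¹) hga
      simp only [mul_assoc, mul_inv_cancel, mul_one] at this
      rw [← mul_assoc, ← mul_assoc, inv_mul_cancel, one_mul] at this
      exact this.symm
    constructor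
    · rintro ⟨hbR, hb⟩
      refine ⟨hgR.mp hbR, ?_⟩
      calc a * (g * b * g⁻¹) = g * (a * b) * g⁻¹ := by
            rw [← mul_assoc, ← mul_assoc, ← hga, mul_assoc g a b]
        _ = g * b * g⁻¹ * a := by
            rw [hb, mul_assoc g (b * a), mul_assoc b a, ← hginv, ← mul_assoc b, ← mul_assoc g, ← mul_assoc g]
    · rintro ⟨hbR, hb⟩
      refine ⟨hgR.mpr hbR, ?_⟩
      have e1 : b = g⁻¹ * (g * b * g⁻¹) * g := by group
      rw [e1]
      calc a * (g⁻¹ * (g * b * g⁻¹) * g) = g⁻¹ * (a * (g * b * g⁻¹)) * g := by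
            rw [← mul_assoc, ← mul_assoc, ← hginv, mul_assoc g⁻¹ a]
        _ = g⁻¹ * (g * b * g⁻¹) * g * a := by
            rw [hb, mul_assoc g⁻¹ (g * b * g⁻¹ * a), mul_assoc (g * b * g⁻¹) a, ← hga,
              ← mul_assoc (g * b * g⁻¹), ← mul_assoc g⁻¹, ← mul_assoc g⁻¹]
  -- `centR A g = C`
  have heq : centR (centR R a) g = centR R g := by
    ext b
    constructor
    · rintro ⟨⟨hbR, -⟩, hb⟩
      exact ⟨hbR, hb⟩
    · rintro ⟨hbR, hb⟩
      exact ⟨⟨hbR, hCA b ⟨hbR, hb⟩⟩, hb⟩
  have hfinA := s6002n7_finite_cent hE a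
  have hmod := orbit_count (centR R a) g hgA 7 (by norm_num) hgr
  rw [heq, h4, s6002n7_card16 hE a haR ha1 ha2] at hmod
  exact absurd hmod (by decide)

/-- N8 -/
theorem no_big_prime {R : Subgroup (GL ι F)} (hE : ECtx R) (g : GL ι F) (hg : g ∈ Nrm R)
    (r : ℕ) (hr : r.Prime) (h7 : 7 ≤ r) (hgr : IsScal (g ^ r)) : IsScal g := by
  have hfin := s6002n7_finite hE
  obtain ⟨⟨k, hk1, hk5, hk⟩, hscal⟩ := cent_card hE g
  have hmod := orbit_count R g hg r hr hgr
  rw [hE.card, hk] at hmod
  by_cases h5 : k = 5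
  · apply hscal
    rw [hk, h5]; norm_num
  exfalso
  have hdvd : r ∣ 32 - 2 ^ k := by
    have hle : 2 ^ k ≤ 32 := by
      calc 2 ^ k ≤ 2 ^ 5 := Nat.pow_le_pow_right (by norm_num) hk5
        _ = 32 := by norm_num
    exact (Nat.modEq_iff_dvd' hle).mp hmod
  have hk4 : k ≤ 4 := by omega
  interval_cases k
  · -- r ∣ 30
    have hle := Nat.le_of_dvd (by norm_num) hdvd
    interval_cases r <;> first | omega | (norm_num at hr)
  · -- r ∣ 28
    have hle := Nat.le_of_dvd (by norm_num) hdvd
    have h7' : r = 7 := by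
      interval_cases r <;> first | rfl | omega | (exfalso; norm_num at hr)
    subst h7'
    exact no_cent4 hE g hg hgr (by rw [hk]; norm_num)
  · -- r ∣ 24
    have hle := Nat.le_of_dvd (by norm_num) hdvd
    interval_cases r <;> first | omega | (norm_num at hr)
  · -- r ∣ 16
    have hle := Nat.le_of_dvd (by norm_num) hdvd
    interval_cases r <;> first | omega | (norm_num at hr)

/-- N10 -/
theorem five_cent {R : Subgroup (GL ι F)} (hE : ECtx R)
    (g : GL ι F) (hg : g ∈ Nrm R) (hgr : IsScal (g ^ 5)) (hgs : ¬ IsScal g) :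
    Nat.card (centR R g) = 2 := by
  have hfin := s6002n7_finite hE
  obtain ⟨⟨k, hk1, hk5, hk⟩, hscal⟩ := cent_card hE g
  have hmod := orbit_count R g hg 5 (by norm_num) hgr
  rw [hE.card, hk] at hmod
  rw [hk]
  interval_cases k
  · norm_num
  · exact absurd hmod (by decide)
  · exact absurd hmod (by decide)
  · exact absurd hmod (by decide)
  · exact absurd (hscal (by rw [hk]; norm_num)) hgs

/-- N12 -/
theorem five_trace {R : Subgroup (GL ι F)} (hE : ECtx R) (hι : Fintype.card ι = 4)
    (g : GL ι F) (hg : g ∈ Nrm R) (hgr : IsScal (g ^ 5)) (hgs : ¬ IsScal g) :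
    Matrix.trace (g : Matrix ι ι F) * Matrix.trace ((g⁻¹ : GL ι F) : Matrix ι ι F) = 1 := by
  have h := trace_formula hE hι g hg (hodd_of_pow hE g 5 (by decide) hgr)
  rw [five_cent hE g hg hgr hgs] at h
  have h2 := hE.two
  apply mul_left_cancel₀ h2
  rw [← mul_assoc, h]
  norm_num

end Cfsg.Agent.Lib.Helper22.S6002
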