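import Mathlib
import Cfsg.Prelude.Def_Characters
import Cfsg.Prelude.Def_Blocks
import Cfsg.Agent.Lib.Helper25.CharLinear
import Cfsg.Agent.Lib.Helper29.LeoOrbit
import Cfsg.Agent.Lib.helper7.BR.Defs
import Cfsg.Agent.Lib.Helper13.BT.Defs

set_option autoImplicit false
set_option linter.unusedVariables false
set_option linter.unusedSectionVars false

namespace Cfsg.Agent.Lib.Helper13.BT

open Classical
open scoped ComplexConjugate
open Cfsg.Agent.Lib.Helper25 Cfsg.Agent.Lib.Helper29
open Cfsg.Agent.Lib.helper7.BR

universe u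

variable {G : Type u} [Group G] [Fintype G] {p : ℕ} [Fact p.Prime]

/-- REAL : the value of a character at an involution is real -/
theorem real_of_involution (χ : Cfsg.IrrCharacter G) (u : G) (hu : u * u = 1) :
    conj ((χ : G → ℂ) u) = (χ : G → ℂ) u := by
  have hinv : u⁻¹ = u := inv_eq_of_mul_eq_one_left hu
  rw [← irr_inv χ u, hinv]

end Cfsg.Agent.Lib.Helper13.BT
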