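import Mathlib
import Cfsg.Prelude.Def_Characters
import Cfsg.Prelude.Def_Blocks
import Cfsg.Agent.Lib.Helper25.CharLinear
import Cfsg.Agent.Lib.Helper29.LeoOrbit
import Cfsg.Agent.Lib.helper7.BR.Defs
import Cfsg.Agent.Lib.Helper13.BT.Defs

set_option autoImplicit false
set_option linter.unusedVariables false
set_option linter.unusedSectionVars false

namespace Cfsg.Agent.Lib.Helper13.BT

open Classical
open scoped ComplexConjugate
open Cfsg.Agent.Lib.Helper25 Cfsg.Agent.Lib.Helper29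
open Cfsg.Agent.Lib.helper7.BR

universe u

variable {G : Type u} [Group G] [Fintype G] {p : ℕ} [Fact p.Prime]

/-- MID (core): the arithmetic, from the conclusions of XDEG and YDEG -/
theorem btmid_core {e : ℕ} (h1 : 1 < e) (h2 : e + 1 < p) {X Y : Finset (Cfsg.IrrCharacter G)}
    {a : Cfsg.IrrCharacter G → ℤ} {ε : ℤ} (htriv : trivIrr G ∈ X)
    (ha_pm : ∀ ξ ∈ X, a ξ = 1 ∨ a ξ = -1) (heps : ε = 1 ∨ ε = -1) (hYne : Y.Nonempty)
    (hX : leoDeg (trivIrr G) = 1 ∧ a (trivIrr G) = 1 ∧ (∀ ξ ∈ X, ξ ≠ trivIrr G → 2 ≤ leoDeg ξ) ∧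
      (∀ ξ ∈ X, (p : ℤ) ∣ (leoDeg ξ : ℤ) - a ξ) ∧
      (∀ ξ : Cfsg.IrrCharacter G, leoDeg ξ ∣ Nat.card G))
    (hY : ∃ z : ℕ, 1 ≤ z ∧ (∀ η ∈ Y, leoDeg η = z) ∧ (p : ℤ) ∣ (z : ℤ) - ε * (e : ℤ) ∧
      ∑ ξ ∈ X, a ξ * (leoDeg ξ : ℤ) = ε * (z : ℤ))
    (q b g₀ : ℕ) (hq : q.Prime) (hpq : p ≠ q) (hcard : Nat.card G = p * q ^ b * g₀)
    (hg : g₀ < p - 1) :
    ∃ z : ℕ, (∀ η ∈ Y, leoDeg η = z) ∧ z ∣ g₀ ∧ ((ε = 1 ∧ z = e) ∨ (ε = -1 ∧ z + e = p)) := by
  obtain ⟨hd1, ha1, hdeg2, hcong, hdvd⟩ := hX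
  obtain ⟨z, hz1, hzY, hzcong, hrel⟩ := hY
  have hp : p.Prime := Fact.out
  obtain ⟨η0, hη0⟩ := hYne
  have hzG : z ∣ p * q ^ b * g₀ := by
    rw [← hcard, ← hzY η0 hη0]
    exact hdvd η0
  have hg0 : 0 < g₀ := by
    rcases Nat.eq_zero_or_pos g₀ with h | h
    · exfalso
      rw [h, mul_zero] at hcard
      have : 0 < Nat.card G := Nat.card_pos
      omega
    · exact h
  -- a divisor of `|G|` prime to `p` and `q` divides `g₀`
  have key : ∀ d : ℕ, d ∣ p * q ^ b * g₀ → ¬ p ∣ d → ¬ q ∣ d → d ∣ g₀ := by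
    intro d hd hpd hqd
    have c1 : Nat.Coprime d p := ((Nat.Prime.coprime_iff_not_dvd hp).mpr hpd).symm
    have c2 : Nat.Coprime d (q ^ b) :=
      Nat.Coprime.pow_right b ((Nat.Prime.coprime_iff_not_dvd hq).mpr hqd).symm
    have c3 : Nat.Coprime d (p * q ^ b) := Nat.Coprime.mul_right c1 c2
    exact c3.dvd_of_dvd_mul_left hd
  have hpZ : (0 : ℤ) < (p : ℤ) := by exact_mod_cast hp.pos
  -- `p ∤ z`
  have hpz : ¬ p ∣ z := by
    intro hpz
    have h3 : (p : ℤ) ∣ (z : ℤ) := Int.natCast_dvd_natCast.mpr hpz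
    have h4 : (p : ℤ) ∣ ε * (e : ℤ) := by
      have := dvd_sub h3 hzcong
      rwa [sub_sub_cancel] at this
    have hpe : (p : ℤ) ∣ (e : ℤ) := by
      rcases heps with h | h
      · rw [h, one_mul] at h4
        exact h4
      · rw [h, neg_one_mul, dvd_neg] at h4
        exact h4
    have := Nat.le_of_dvd (by omega) (Int.natCast_dvd_natCast.mp hpe)
    omega
  -- `q ∤ z`
  have hqz : ¬ q ∣ z := by
    intro hqz
    have hex : ∃ ξ ∈ X, ξ ≠ trivIrr G ∧ ¬ q ∣ leoDeg ξ := by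
      by_contra hcon
      push Not at hcon
      have hsplit := Finset.add_sum_erase X (fun ξ => a ξ * (leoDeg ξ : ℤ)) htriv
      have hs : (q : ℤ) ∣ ∑ ξ ∈ X.erase (trivIrr G), a ξ * (leoDeg ξ : ℤ) := by
        apply Finset.dvd_sum
        intro ξ hξ
        rw [Finset.mem_erase] at hξ
        exact Dvd.dvd.mul_left (Int.natCast_dvd_natCast.mpr (hcon ξ hξ.2 hξ.1)) _
      have hz' : (q : ℤ) ∣ ε * (z : ℤ) :=
        Dvd.dvd.mul_left (Int.natCast_dvd_natCast.mpr hqz) _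
      have e1 : (1 : ℤ) = ε * (z : ℤ) - ∑ ξ ∈ X.erase (trivIrr G), a ξ * (leoDeg ξ : ℤ) := by
        rw [← hrel, ← hsplit]
        simp only [hd1, ha1]
        push_cast
        ring
      have h5 : (q : ℤ) ∣ 1 := by
        rw [e1]
        exact dvd_sub hz' hs
      have h6 : q ∣ 1 := by exact_mod_cast h5
      have := Nat.le_of_dvd one_pos h6
      have := hq.one_lt
      omega
    obtain ⟨ξ, hξX, hξ1, hξq⟩ := hex
    have hc := hcong ξ hξX
    have hpξ : ¬ p ∣ leoDeg ξ := by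
      intro h
      have h3 : (p : ℤ) ∣ (leoDeg ξ : ℤ) := Int.natCast_dvd_natCast.mpr h
      have h4 : (p : ℤ) ∣ a ξ := by
        have := dvd_sub h3 hc
        rwa [sub_sub_cancel] at this
      have hp2 := hp.two_le
      rcases ha_pm ξ hξX with h | h
      · rw [h] at h4
        have := Int.le_of_dvd one_pos h4
        omega
      · rw [h, dvd_neg] at h4
        have := Int.le_of_dvd one_pos h4
        omega
    have hξG : leoDeg ξ ∣ p * q ^ b * g₀ := by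
      rw [← hcard]
      exact hdvd ξ
    have hξg := Nat.le_of_dvd hg0 (key _ hξG hpξ hξq)
    have hξ2 := hdeg2 ξ hξX hξ1
    have hzero : (leoDeg ξ : ℤ) - a ξ = 0 := by
      apply Int.eq_zero_of_abs_lt_dvd hc
      rw [abs_lt]
      rcases ha_pm ξ hξX with h | h <;> rw [h] <;> constructor <;> omega
    rcases ha_pm ξ hξX with h | h <;> rw [h] at hzero <;> omega
  have hzg : z ∣ g₀ := key z hzG hpz hqz
  have hzle := Nat.le_of_dvd hg0 hzg
  refine ⟨z, hzY, hzg, ?_⟩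
  rcases heps with h | h
  · left
    refine ⟨h, ?_⟩
    rw [h, one_mul] at hzcong
    have hzero : (z : ℤ) - (e : ℤ) = 0 := by
      apply Int.eq_zero_of_abs_lt_dvd hzcong
      rw [abs_lt]
      constructor <;> omega
    omega
  · right
    refine ⟨h, ?_⟩
    rw [h] at hzcong
    have h7 : (p : ℤ) ∣ (z : ℤ) + (e : ℤ) - (p : ℤ) := by
      have h8 : (z : ℤ) + (e : ℤ) - (p : ℤ) = ((z : ℤ) - -1 * (e : ℤ)) - (p : ℤ) := by ring
      rw [h8]
      exact dvd_sub hzcong (dvd_refl _)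
    have hzero : (z : ℤ) + (e : ℤ) - (p : ℤ) = 0 := by
      apply Int.eq_zero_of_abs_lt_dvd h7
      rw [abs_lt]
      constructor <;> omega
    omega

end Cfsg.Agent.Lib.Helper13.BT
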