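import Mathlib
import Cfsg.Prelude.Def_Characters
import Cfsg.Prelude.Def_Blocks
import Cfsg.Agent.Lib.Helper25.CharLinear
import Cfsg.Agent.Lib.Helper29.LeoOrbit
import Cfsg.Agent.Lib.helper7.BR.Defs
import Cfsg.Agent.Lib.Helper13.BT.Defs
import Cfsg.Agent.Lib.helper6.BTMIDcore
import Cfsg.Agent.Lib.helper8.BTXDEG
import Cfsg.Agent.Lib.helper8.BTYDEG

set_option autoImplicit false
set_option linter.unusedVariables false
set_option linter.unusedSectionVars false

namespace Cfsg.Agent.Lib.Helper13.BT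

open Classical
open scoped ComplexConjugate
open Cfsg.Agent.Lib.Helper25 Cfsg.Agent.Lib.Helper29
open Cfsg.Agent.Lib.helper7.BR

universe u

variable {G : Type u} [Group G] [Fintype G] {p : ℕ} [Fact p.Prime]

/-- MID : the small member of the principal block: a member of `Y`, of degree `z ∣ g₀`, `z = e` (`ε = 1`) or
`z = p - e` (`ε = -1`). -/
theorem mid_theta (hperf : commutator G = ⊤) {P : Sylow p G} (hP : Nat.card ↥(P : Subgroup G) = p)
    {e : ℕ} (h1 : 1 < e) (h2 : e + 1 < p) {X Y : Finset (Cfsg.IrrCharacter G)}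
    {a : Cfsg.IrrCharacter G → ℤ} {ε : ℤ} (hB : PB3 p e P X Y a ε) (q b g₀ : ℕ) (hq : q.Prime)
    (hpq : p ≠ q) (hcard : Nat.card G = p * q ^ b * g₀) (hg : g₀ < p - 1) :
    ∃ z : ℕ, (∀ η ∈ Y, leoDeg η = z) ∧ z ∣ g₀ ∧ ((ε = 1 ∧ z = e) ∨ (ε = -1 ∧ z + e = p)) := by
  have hYne : Y.Nonempty := by
    rw [← Finset.card_pos]
    have := hB.cardY
    rcases Nat.eq_zero_or_pos Y.card with h | h
    · rw [h, zero_mul] at this
      omega
    · exact h
  exact btmid_core h1 h2 hB.triv_mem hB.a_pm hB.eps_pm hYne (X_degrees hperf hP hB)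
    (Y_degrees hP hB) q b g₀ hq hpq hcard hg

end Cfsg.Agent.Lib.Helper13.BT
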