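import Mathlib
import Cfsg.Prelude.Def_Characters
import Cfsg.Prelude.Def_Blocks
import Cfsg.Prelude.Def_Local
import Cfsg.Agent.Lib.Helper25.CharLinear
import Cfsg.Agent.Lib.Helper24.KleinOrder1

set_option autoImplicit false
set_option linter.unusedVariables false
set_option linter.unusedSectionVars false

namespace Cfsg.Agent.Lib.Helper13.BT3

open Classical
open scoped ComplexConjugate
open Cfsg.Agent.Lib.Helper25 Cfsg.Agent.Lib.Helper24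

universe u

/-! ## pure arithmetic -/

/-- the prime divisors of `4·3^A·r^B` -/
theorem bt3p1pure_prime_dvd (r A B : ℕ) (hr : r.Prime) (s : ℕ) (hs : s.Prime)
    (h : s ∣ 4 * (3 ^ A * r ^ B)) : s = 2 ∨ s = 3 ∨ s = r := by
  rcases (Nat.Prime.dvd_mul hs).mp h with h | h
  · left
    have h4 : (4 : ℕ) = 2 ^ 2 := by norm_num
    rw [h4] at h
    exact (Nat.prime_dvd_prime_iff_eq hs Nat.prime_two).mp (hs.dvd_of_dvd_pow h)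
  · rcases (Nat.Prime.dvd_mul hs).mp h with h | h
    · right; left
      exact (Nat.prime_dvd_prime_iff_eq hs Nat.prime_three).mp (hs.dvd_of_dvd_pow h)
    · right; right
      exact (Nat.prime_dvd_prime_iff_eq hs hr).mp (hs.dvd_of_dvd_pow h)

/-- two coprime numbers `≥ 2` with prime divisors in `{3, r}` are pure powers of different primes -/
theorem bt3p1pure_pair (r : ℕ) (hr : r.Prime) (hr5 : 5 ≤ r) (m n : ℕ) (hm : 2 ≤ m) (hn : 2 ≤ n)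
    (hpm : ∀ s : ℕ, s.Prime → s ∣ m → s = 3 ∨ s = r) (hpn : ∀ s : ℕ, s.Prime → s ∣ n → s = 3 ∨ s = r)
    (hc : Nat.Coprime m n) :
    (∃ α β : ℕ, m = 3 ^ α ∧ n = r ^ β) ∨ (∃ α β : ℕ, m = r ^ α ∧ n = 3 ^ β) := by
  obtain ⟨s, hs, hsm⟩ := Nat.exists_prime_and_dvd (show m ≠ 1 by omega)
  obtain ⟨t, ht, htn⟩ := Nat.exists_prime_and_dvd (show n ≠ 1 by omega)
  have hnot : ∀ d : ℕ, d.Prime → d ∣ m → d ∣ n → False := by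
    intro d hd h1 h2
    have := Nat.dvd_gcd h1 h2
    rw [hc] at this
    exact hd.one_lt.ne' (Nat.dvd_one.mp this)
  have h3r : (3 : ℕ) ≠ r := by omega
  rcases hpm s hs hsm with rfl | rfl
  · -- `3 ∣ m`
    left
    have hm' : ∀ {d : ℕ}, d.Prime → d ∣ m → d = 3 := by
      intro d hd hdm
      rcases hpm d hd hdm with h | h
      · exact h
      · exfalso
        rcases hpn t ht htn with h' | h'
        · exact hnot 3 hs hsm (h' ▸ htn)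
        · exact hnot r hr (h ▸ hdm) (h' ▸ htn)
    have hn' : ∀ {d : ℕ}, d.Prime → d ∣ n → d = r := by
      intro d hd hdn
      rcases hpn d hd hdn with h | h
      · exfalso
        exact hnot 3 hs hsm (h ▸ hdn)
      · exact h
    exact ⟨_, _, Nat.eq_prime_pow_of_unique_prime_dvd (by omega) hm',
      Nat.eq_prime_pow_of_unique_prime_dvd (by omega) hn'⟩
  · -- `r ∣ m`
    right
    have hm' : ∀ {d : ℕ}, d.Prime → d ∣ m → d = s := by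
      intro d hd hdm
      rcases hpm d hd hdm with h | h
      · exfalso
        rcases hpn t ht htn with h' | h'
        · exact hnot 3 Nat.prime_three (h ▸ hdm) (h' ▸ htn)
        · exact hnot s hs hsm (h' ▸ htn)
      · exact h
    have hn' : ∀ {d : ℕ}, d.Prime → d ∣ n → d = 3 := by
      intro d hd hdn
      rcases hpn d hd hdn with h | h
      · exact h
      · exfalso
        exact hnot s hs hsm (h ▸ hdn)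
    exact ⟨_, _, Nat.eq_prime_pow_of_unique_prime_dvd (by omega) hm',
      Nat.eq_prime_pow_of_unique_prime_dvd (by omega) hn'⟩

/-- one index -/
theorem bt3p1pure_single (r A B : ℕ) (hr : r.Prime) (hr5 : 5 ≤ r) (x y P : ℕ) (hx : 2 ≤ x)
    (hdx : x ∣ 4 * (3 ^ A * r ^ B)) (hox : Odd x) (hoy : Odd y) (hc : Nat.Coprime x y)
    (h1 : y = 1 → x = 3) (hyP : y ∣ P)
    (hP : ∀ s : ℕ, s.Prime → s ∣ P → s ∣ 4 * (3 ^ A * r ^ B)) :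
    (∃ α β : ℕ, x = 3 ^ α ∧ y = r ^ β) ∨ (∃ α β : ℕ, x = r ^ α ∧ y = 3 ^ β) := by
  have hpx : ∀ s : ℕ, s.Prime → s ∣ x → s = 3 ∨ s = r := by
    intro s hs hsx
    rcases bt3p1pure_prime_dvd r A B hr s hs (hsx.trans hdx) with h | h
    · exfalso
      rw [h] at hsx
      obtain ⟨k, hk⟩ := hox
      omega
    · exact h
  have hpy : ∀ s : ℕ, s.Prime → s ∣ y → s = 3 ∨ s = r := by
    intro s hs hsy
    rcases bt3p1pure_prime_dvd r A B hr s hs (hP s hs (hsy.trans hyP)) with h | h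
    · exfalso
      rw [h] at hsy
      obtain ⟨k, hk⟩ := hoy
      omega
    · exact h
  have hy0 : 1 ≤ y := by
    obtain ⟨k, hk⟩ := hoy
    omega
  rcases Nat.eq_or_lt_of_le hy0 with hy1 | hy2
  · left
    refine ⟨1, 0, ?_, ?_⟩
    · rw [pow_one]
      exact h1 hy1.symm
    · rw [pow_zero]
      exact hy1.symm
  · exact bt3p1pure_pair r hr hr5 x y hx hy2 hpx hpy hc

/-- the natural number form -/
theorem bt3p1pure_core (r A B : ℕ) (hr : r.Prime) (hr5 : 5 ≤ r) (x₂ x₃ x₄ y₂ y₃ y₄ cJ cP : ℕ)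
    (h2 : 2 ≤ x₂) (h3 : 2 ≤ x₃) (h4 : 2 ≤ x₄)
    (hd2 : x₂ ∣ 4 * (3 ^ A * r ^ B)) (hd3 : x₃ ∣ 4 * (3 ^ A * r ^ B)) (hd4 : x₄ ∣ 4 * (3 ^ A * r ^ B))
    (hox2 : Odd x₂) (hox3 : Odd x₃) (hox4 : Odd x₄) (hoy2 : Odd y₂) (hoy3 : Odd y₃) (hoy4 : Odd y₄)
    (hc2 : Nat.Coprime x₂ y₂) (hc3 : Nat.Coprime x₃ y₃) (hc4 : Nat.Coprime x₄ y₄)
    (h12 : y₂ = 1 → x₂ = 3) (h13 : y₃ = 1 → x₃ = 3) (h14 : y₄ = 1 → x₄ = 3)
    (hcJ : cJ ∣ 4 * (3 ^ A * r ^ B))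
    (hform : 4 * (3 ^ A * r ^ B) * (y₂ * y₃ * y₄) * cP ^ 2 = x₂ * x₃ * x₄ * cJ ^ 3) :
    ((∃ α β : ℕ, x₂ = 3 ^ α ∧ y₂ = r ^ β) ∨ (∃ α β : ℕ, x₂ = r ^ α ∧ y₂ = 3 ^ β)) ∧
    ((∃ α β : ℕ, x₃ = 3 ^ α ∧ y₃ = r ^ β) ∨ (∃ α β : ℕ, x₃ = r ^ α ∧ y₃ = 3 ^ β)) ∧
    ((∃ α β : ℕ, x₄ = 3 ^ α ∧ y₄ = r ^ β) ∨ (∃ α β : ℕ, x₄ = r ^ α ∧ y₄ = 3 ^ β)) := by
  have hP : ∀ s : ℕ, s.Prime → s ∣ x₂ * x₃ * x₄ * cJ ^ 3 → s ∣ 4 * (3 ^ A * r ^ B) := by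
    intro s hs h
    rcases (Nat.Prime.dvd_mul hs).mp h with h | h
    · rcases (Nat.Prime.dvd_mul hs).mp h with h | h
      · rcases (Nat.Prime.dvd_mul hs).mp h with h | h
        · exact h.trans hd2
        · exact h.trans hd3
      · exact h.trans hd4
    · exact (hs.dvd_of_dvd_pow h).trans hcJ
  have hy2 : y₂ ∣ x₂ * x₃ * x₄ * cJ ^ 3 := by
    rw [← hform]
    exact ⟨4 * (3 ^ A * r ^ B) * (y₃ * y₄) * cP ^ 2, by ring⟩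
  have hy3 : y₃ ∣ x₂ * x₃ * x₄ * cJ ^ 3 := by
    rw [← hform]
    exact ⟨4 * (3 ^ A * r ^ B) * (y₂ * y₄) * cP ^ 2, by ring⟩
  have hy4 : y₄ ∣ x₂ * x₃ * x₄ * cJ ^ 3 := by
    rw [← hform]
    exact ⟨4 * (3 ^ A * r ^ B) * (y₂ * y₃) * cP ^ 2, by ring⟩
  exact ⟨bt3p1pure_single r A B hr hr5 x₂ y₂ _ h2 hd2 hox2 hoy2 hc2 h12 hy2 hP,
    bt3p1pure_single r A B hr hr5 x₃ y₃ _ h3 hd3 hox3 hoy3 hc3 h13 hy3 hP,
    bt3p1pure_single r A B hr hr5 x₄ y₄ _ h4 hd4 hox4 hoy4 hc4 h14 hy4 hP⟩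

/-- coprimality from a Bezout relation -/
theorem bt3p1pure_coprime (x y : ℕ) (u v : ℤ) (h : u * (x : ℤ) + v * (y : ℤ) = 1) : Nat.Coprime x y :=
  Nat.isCoprime_iff_coprime.mp ⟨u, v, h⟩

/-- P1-PURE -/
theorem p1_pure (r A B : ℕ) (hr : r.Prime) (hr5 : 5 ≤ r) (x₂ x₃ x₄ cJ cP : ℕ) (ε : ℤ) (hε : ε = 1 ∨ ε = -1)
    (h2 : 2 ≤ x₂) (h3 : 2 ≤ x₃) (h4 : 2 ≤ x₄)
    (hd2 : x₂ ∣ 4 * (3 ^ A * r ^ B)) (hd3 : x₃ ∣ 4 * (3 ^ A * r ^ B)) (hd4 : x₄ ∣ 4 * (3 ^ A * r ^ B))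
    (hm2 : (4 : ℤ) ∣ (x₂ : ℤ) - 1) (hm3 : (4 : ℤ) ∣ (x₃ : ℤ) - ε) (hm4 : (4 : ℤ) ∣ (x₄ : ℤ) + 1)
    (hcJ : cJ ∣ 4 * (3 ^ A * r ^ B)) (hcP : 0 < cP)
    (hform : ((4 * (3 ^ A * r ^ B) : ℕ) : ℤ) * (((x₂ : ℤ) + 1) * ((x₃ : ℤ) + ε) * ((x₄ : ℤ) - 1)) * (cP : ℤ) ^ 2 =
      8 * ((x₂ : ℤ) * x₃ * x₄) * (cJ : ℤ) ^ 3) :
    ∃ y₂ y₃ y₄ : ℕ, (x₂ : ℤ) + 1 = 2 * y₂ ∧ (x₃ : ℤ) + ε = 2 * y₃ ∧ (x₄ : ℤ) - 1 = 2 * y₄ ∧
      ((∃ α β : ℕ, x₂ = 3 ^ α ∧ y₂ = r ^ β) ∨ (∃ α β : ℕ, x₂ = r ^ α ∧ y₂ = 3 ^ β)) ∧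
      ((∃ α β : ℕ, x₃ = 3 ^ α ∧ y₃ = r ^ β) ∨ (∃ α β : ℕ, x₃ = r ^ α ∧ y₃ = 3 ^ β)) ∧
      ((∃ α β : ℕ, x₄ = 3 ^ α ∧ y₄ = r ^ β) ∨ (∃ α β : ℕ, x₄ = r ^ α ∧ y₄ = 3 ^ β)) := by
  obtain ⟨k2, hk2⟩ := hm2
  obtain ⟨k3, hk3⟩ := hm3
  obtain ⟨k4, hk4⟩ := hm4
  have hox2 : Odd x₂ := by rw [Nat.odd_iff]; omega
  have hox4 : Odd x₄ := by rw [Nat.odd_iff]; omega
  have e2 : (x₂ : ℤ) + 1 = 2 * ((x₂ + 1) / 2 : ℕ) := by omega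
  have e4 : (x₄ : ℤ) - 1 = 2 * ((x₄ - 1) / 2 : ℕ) := by omega
  have hoy2 : Odd ((x₂ + 1) / 2) := by rw [Nat.odd_iff]; omega
  have hoy4 : Odd ((x₄ - 1) / 2) := by rw [Nat.odd_iff]; omega
  have hc2 : Nat.Coprime x₂ ((x₂ + 1) / 2) := bt3p1pure_coprime _ _ (-1) 2 (by omega)
  have hc4 : Nat.Coprime x₄ ((x₄ - 1) / 2) := bt3p1pure_coprime _ _ 1 (-2) (by omega)
  have h12 : (x₂ + 1) / 2 = 1 → x₂ = 3 := by omega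
  have h14 : (x₄ - 1) / 2 = 1 → x₄ = 3 := by omega
  rcases hε with rfl | rfl
  · have hox3 : Odd x₃ := by rw [Nat.odd_iff]; omega
    have e3 : (x₃ : ℤ) + 1 = 2 * ((x₃ + 1) / 2 : ℕ) := by omega
    have hoy3 : Odd ((x₃ + 1) / 2) := by rw [Nat.odd_iff]; omega
    have hc3 : Nat.Coprime x₃ ((x₃ + 1) / 2) := bt3p1pure_coprime _ _ (-1) 2 (by omega)
    have h13 : (x₃ + 1) / 2 = 1 → x₃ = 3 := by omega
    have hformN : 4 * (3 ^ A * r ^ B) * ((x₂ + 1) / 2 * ((x₃ + 1) / 2) * ((x₄ - 1) / 2)) * cP ^ 2 =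
        x₂ * x₃ * x₄ * cJ ^ 3 := by
      rw [e2, e3, e4] at hform
      have h8 : (8 : ℤ) * (((4 * (3 ^ A * r ^ B) : ℕ) : ℤ) *
          ((((x₂ + 1) / 2 : ℕ) : ℤ) * (((x₃ + 1) / 2 : ℕ) : ℤ) * (((x₄ - 1) / 2 : ℕ) : ℤ)) * (cP : ℤ) ^ 2) =
          8 * ((x₂ : ℤ) * x₃ * x₄ * (cJ : ℤ) ^ 3) := by linear_combination hform
      have h9 := mul_left_cancel₀ (by norm_num : (8 : ℤ) ≠ 0) h8
      exact_mod_cast h9
    exact ⟨_, _, _, e2, e3, e4, bt3p1pure_core r A B hr hr5 x₂ x₃ x₄ _ _ _ cJ cP h2 h3 h4 hd2 hd3 hd4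
      hox2 hox3 hox4 hoy2 hoy3 hoy4 hc2 hc3 hc4 h12 h13 h14 hcJ hformN⟩
  · have hox3 : Odd x₃ := by rw [Nat.odd_iff]; omega
    have e3 : (x₃ : ℤ) + -1 = 2 * ((x₃ - 1) / 2 : ℕ) := by omega
    have hoy3 : Odd ((x₃ - 1) / 2) := by rw [Nat.odd_iff]; omega
    have hc3 : Nat.Coprime x₃ ((x₃ - 1) / 2) := bt3p1pure_coprime _ _ 1 (-2) (by omega)
    have h13 : (x₃ - 1) / 2 = 1 → x₃ = 3 := by omega
    have hformN : 4 * (3 ^ A * r ^ B) * ((x₂ + 1) / 2 * ((x₃ - 1) / 2) * ((x₄ - 1) / 2)) * cP ^ 2 =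
        x₂ * x₃ * x₄ * cJ ^ 3 := by
      rw [e2, e3, e4] at hform
      have h8 : (8 : ℤ) * (((4 * (3 ^ A * r ^ B) : ℕ) : ℤ) *
          ((((x₂ + 1) / 2 : ℕ) : ℤ) * (((x₃ - 1) / 2 : ℕ) : ℤ) * (((x₄ - 1) / 2 : ℕ) : ℤ)) * (cP : ℤ) ^ 2) =
          8 * ((x₂ : ℤ) * x₃ * x₄ * (cJ : ℤ) ^ 3) := by linear_combination hform
      have h9 := mul_left_cancel₀ (by norm_num : (8 : ℤ) ≠ 0) h8
      exact_mod_cast h9
    exact ⟨_, _, _, e2, e3, e4, bt3p1pure_core r A B hr hr5 x₂ x₃ x₄ _ _ _ cJ cP h2 h3 h4 hd2 hd3 hd4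
      hox2 hox3 hox4 hoy2 hoy3 hoy4 hc2 hc3 hc4 h12 h13 h14 hcJ hformN⟩

end Cfsg.Agent.Lib.Helper13.BT3
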