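import Mathlib
import Cfsg.Prelude.Def_Characters
import Cfsg.Prelude.Def_Blocks
import Cfsg.Prelude.Def_Local
import Cfsg.Agent.Lib.Helper25.CharLinear
import Cfsg.Agent.Lib.Helper24.KleinOrder1
import Cfsg.Agent.S0992

set_option autoImplicit false
set_option linter.unusedVariables false
set_option linter.unusedSectionVars false

namespace Cfsg.Agent.Lib.Helper13.BT3

open Classical
open scoped ComplexConjugate
open Cfsg.Agent.Lib.Helper25 Cfsg.Agent.Lib.Helper24

universe u

variable {G : Type u} [Group G] [Fintype G]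

/-- P1-THREE : `3 ∣ |G|` (S0992: `|N_G(T) : C_G(T)| = 3` for a Sylow `2`-subgroup `T`) -/
theorem p1_three_dvd [IsSimpleGroup G] (hnc : ¬ ∀ x y : G, x * y = y * x) (g₀ : ℕ) (hg₀ : Odd g₀)
    (hG : Nat.card G = 4 * g₀) : 3 ∣ g₀ := by
  have hnc' : ¬ IsMulCommutative G := by
    intro h
    exact hnc (fun x y => h.is_comm.comm x y)
  have h2 : Even (Nat.card G) := by
    rw [hG]
    exact ⟨2 * g₀, by ring⟩
  have h8 : ¬ 8 ∣ Nat.card G := by
    rw [hG]
    obtain ⟨k, hk⟩ := hg₀
    intro h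
    omega
  obtain ⟨T⟩ : Nonempty (Sylow 2 G) := inferInstance
  obtain ⟨-, h3⟩ := Cfsg.Agent.S0992.result hnc' h2 h8 T
  have h4 := Subgroup.relIndex_dvd_card (Subgroup.centralizer ((T : Subgroup G) : Set G))
    (Subgroup.normalizer ((T : Subgroup G) : Set G))
  rw [h3] at h4
  have h5 : 3 ∣ Nat.card G := h4.trans (Subgroup.card_subgroup_dvd_card _)
  rw [hG] at h5
  exact (Nat.Coprime.dvd_of_dvd_mul_left (by norm_num) h5)

end Cfsg.Agent.Lib.Helper13.BT3
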