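import Mathlib
import Cfsg.Agent.Lib.helper14.OBNd
import Cfsg.Agent.Lib.helper14.DBN.Defs
import Cfsg.Agent.Lib.Helper25.DBNQBASIC

set_option autoImplicit false

/-!
# Project DBN (designer helper14), row TNORM (helper6): the last reflection normalises `BO`.
Verbatim from `helper14/DBN/Skel.lean.txt`.
-/

namespace Cfsg.Agent.Lib.helper14.DBN

open Matrix DoubleCoset
open Cfsg.Agent.Lib.helper3 Cfsg.Agent.Lib.helper14
open Cfsg.Agent.Lib.helper14.UBN Cfsg.Agent.Lib.helper14.OBN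

universe u
variable {F : Type u} [Field F] {n : ℕ}

theorem dbntnorm_pc_kL (hn2 : 2 ≤ n) : pc (kL hn2) = rv (pa (kL hn2)) := by
  apply pc_of_not_lt
  rw [kL_val]
  omega

/-- monomial elements preserve `Qh` (local copy of `NU_le_OQ` of row NUOQ, so that this row does not wait for it) -/
theorem dbntnorm_mono_mem_OQ (hn : n % 2 = 0) (g : GS n F) (hg : g ∈ NU n (Sid F)) :
    g ∈ OQ n F := by
  obtain ⟨π, _, hm⟩ := hg
  rw [mem_OQ_iff hn]
  intro x
  unfold Qh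
  apply Finset.sum_eq_zero
  intro k _
  rw [mulVec_bV, mulVec_bV]
  by_contra h
  have h1 : mt g (pa k) x ≠ 0 := left_ne_zero_of_mul h
  have h2 : mt g (rv (pa k)) x ≠ 0 := right_ne_zero_of_mul h
  have e1 := hm _ _ h1
  have e2 := hm _ _ h2
  exact rv_pa_ne k (e2.trans e1.symm)

theorem BO_entry_last (hn2 : 2 ≤ n) (hn : n % 2 = 0) (b : GS n F) (hb : b ∈ BO n F) :
    mt b (pa (kL hn2)) (pc (kL hn2)) = 0 := by
  rw [dbntnorm_pc_kL hn2]
  have hbU : b ∈ BU n (Sid F) := hb.1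
  have hbO : b ∈ OQ n F := hb.2
  have h1 := hbO (bV (rv (pa (kL hn2))))
  rw [Qh_bV] at h1
  unfold Qh at h1
  rw [Finset.sum_eq_single (kL hn2)] at h1
  · rw [mulVec_bV, mulVec_bV] at h1
    rcases mul_eq_zero.mp h1 with h | h
    · exact h
    · exact absurd h (up_diag_ne_zero b hbU _)
  · intro k _ hk
    rw [mulVec_bV, mulVec_bV]
    have h2 : mt b (rv (pa k)) (rv (pa (kL hn2))) = 0 := by
      apply hbU
      have e1 := rk_add_rv (pa k)
      have e2 := rk_add_rv (pa (kL hn2))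
      rw [rk_pa] at e1 e2
      rw [kL_val] at e2
      have hk1 : k.val ≠ n / 2 - 1 := fun e => hk (Fin.ext e)
      have hk2 := k.2
      omega
    rw [h2, mul_zero]
  · intro h
    exact absurd (Finset.mem_univ _) h

theorem tL_mul_self (hn2 : 2 ≤ n) : tL F hn2 * tL F hn2 = 1 := by
  exact sRef_mul_self _

theorem tL_inv (hn2 : 2 ≤ n) : (tL F hn2)⁻¹ = tL F hn2 := by
  exact sRef_inv _

theorem tL_mem_NU (hn2 : 2 ≤ n) : tL F hn2 ∈ NU n (Sid F) := by
  exact sRef_mem_NU _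

theorem tL_conj_BO (hn2 : 2 ≤ n) (hn : n % 2 = 0) (b : GS n F) (hb : b ∈ BO n F) :
    tL F hn2 * b * tL F hn2 ∈ BO n F := by
  have htO : tL F hn2 ∈ OQ n F := dbntnorm_mono_mem_OQ hn _ (tL_mem_NU hn2)
  refine ⟨?_, (OQ n F).mul_mem ((OQ n F).mul_mem htO hb.2) htO⟩
  have h1 := sRef_conj_mem (S := Sid F) (kL hn2) b hb.1
    (col_reduced (kL hn2) b hb.1 (BO_entry_last hn2 hn b hb))
  rw [sRef_inv] at h1
  exact h1

theorem tL_conj_UO (hn2 : 2 ≤ n) (hn : n % 2 = 0) (u : GS n F) (hu : u ∈ UO n F) :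
    tL F hn2 * u * tL F hn2 ∈ UO n F := by
  have huU : u ∈ UU n (Sid F) := hu.1
  have huB : u ∈ BO n F := ⟨((mem_UU_iff u).mp huU).1, hu.2⟩
  have h1 := tL_conj_BO hn2 hn u huB
  refine ⟨(mem_UU_iff _).mpr ⟨h1.1, ?_⟩, h1.2⟩
  intro x
  rw [mt_mul, mt_mul]
  show (mt (sRef (S := Sid F) (kL hn2)) * mt u * mt (sRef (S := Sid F) (kL hn2))) x x = 1
  rw [sRef_conj_apply]
  exact ((mem_UU_iff u).mp huU).2 _

end Cfsg.Agent.Lib.helper14.DBN
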