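import Mathlib
import Cfsg.Prelude.Def_GeometricClasses
import Cfsg.Agent.Lib.Helper13.EIG.Defs
import Cfsg.Agent.Lib.Helper13.EIG.Basic
import Cfsg.Agent.Lib.Helper24.ElT

set_option autoImplicit false
set_option linter.unusedVariables false
set_option linter.unusedSectionVars false

/-!
# Project EIG (leader helper13) -> S5877 : piece DIAG (`diag_sum`), by helper6.
-/

namespace Cfsg.Agent.Lib.Helper13.EIG

open Matrix Polynomial

variable {n : ℕ} {F : Type*} [Field F] {r : ℕ}
  {S : Subgroup (Matrix.GeneralLinearGroup (Fin n) F)}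

/-- kernel decomposition for a product of distinct linear factors -/
theorem eigdiag_ker_prod {V : Type*} [AddCommGroup V] [Module F V] (T : Module.End F V)
    (A : Finset F) :
    LinearMap.ker (aeval T (∏ a ∈ A, (X - C a))) = ⨆ a ∈ A, LinearMap.ker (aeval T (X - C a)) := by
  classical
  induction A using Finset.induction_on with
  | empty =>
    simp only [Finset.prod_empty, map_one, Finset.notMem_empty, not_false_eq_true, iSup_neg,
      iSup_bot]
    rw [eq_bot_iff]
    intro x hx
    rw [LinearMap.mem_ker] at hx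
    simpa using hx
  | insert b A hb ih =>
    rw [Finset.prod_insert hb, Finset.iSup_insert, ← ih]
    have hcop : IsCoprime (X - C b) (∏ a ∈ A, (X - C a)) := by
      apply IsCoprime.prod_right
      intro a ha
      apply Polynomial.isCoprime_X_sub_C_of_isUnit_sub
      apply IsUnit.mk0
      intro h0
      apply hb
      rw [sub_eq_zero.1 h0]
      exact ha
    exact (Polynomial.sup_ker_aeval_eq_ker_aeval_mul_of_coprime T hcop).symm

/-- an endomorphism with `T ^ r = 1` is the sum of its eigenspaces for the powers of a primitive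
`r`-th root of unity -/
theorem eigdiag_top {V : Type*} [AddCommGroup V] [Module F V] (T : Module.End F V)
    (hr : 0 < r) {ζ : F} (hζ : IsPrimitiveRoot ζ r) (hT : T ^ r = 1) :
    (⨆ s : Fin r, Module.End.eigenspace T (ζ ^ (s : ℕ))) = ⊤ := by
  classical
  have : NeZero r := ⟨hr.ne'⟩
  rw [eq_top_iff]
  have h1 : (⊤ : Submodule F V) = LinearMap.ker (aeval T (X ^ r - 1 : F[X])) := by
    rw [eq_comm, LinearMap.ker_eq_top]
    simp [hT]
  rw [h1, X_pow_sub_one_eq_prod hr hζ, eigdiag_ker_prod]
  apply iSup_le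
  intro a
  apply iSup_le
  intro ha
  rw [mem_nthRootsFinset hr] at ha
  obtain ⟨i, hi, rfl⟩ := hζ.eq_pow_of_pow_eq_one ha
  refine le_trans ?_ (le_iSup _ (⟨i, hi⟩ : Fin r))
  intro x hx
  rw [LinearMap.mem_ker] at hx
  rw [Module.End.mem_eigenspace_iff]
  simp only [map_sub, aeval_X, aeval_C, LinearMap.sub_apply, Module.algebraMap_end_apply] at hx
  exact sub_eq_zero.1 hx

/-- DIAG -/
theorem diag_sum (hr : 0 < r) {ζ : F} (hζ : IsPrimitiveRoot ζ r)
    {y h : Matrix.GeneralLinearGroup (Fin n) F} (hy : y ^ r = 1) (hc : h * y = y * h) (c : F) :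
    Module.finrank F (Eig h c) =
      ∑ s ∈ Finset.range r, Module.finrank F (Eig h c ⊓ Eig y (ζ ^ s) : Submodule F (Fin n → F)) := by
  classical
  set U : Submodule F (Fin n → F) := Eig h c with hU
  set Ty : Module.End F (Fin n → F) := Matrix.toLin' (y : Matrix (Fin n) (Fin n) F) with hTy
  -- `U` is `y`-stable
  have hstab : ∀ v ∈ U, Ty v ∈ U := by
    intro v hv
    rw [hU, mem_Eig] at hv ⊢
    rw [hTy, Matrix.toLin'_apply, ← mv_mul, hc, mv_mul, hv, Matrix.mulVec_smul]
  set T' : Module.End F U := Ty.restrict hstab with hT'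
  have hTyr : Ty ^ r = 1 := by
    rw [hTy, ← Matrix.toLin'_pow, ← Units.val_pow_eq_pow_val, hy]
    simp
    rfl
  have hT'r : T' ^ r = 1 := by
    apply LinearMap.ext
    intro u
    apply Subtype.ext
    rw [hT', Module.End.pow_restrict, LinearMap.coe_restrict_apply, hTyr]
    rfl
  have htop := eigdiag_top T' hr hζ hT'r
  have hind : iSupIndep (fun s : Fin r => Module.End.eigenspace T' (ζ ^ (s : ℕ))) := by
    have h0 := Module.End.eigenspaces_iSupIndep T'
    apply h0.comp
    intro s t hst
    exact Fin.ext (hζ.pow_inj s.2 t.2 hst)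
  have hsum := Cfsg.Agent.Lib.Helper24.el_finrank_iSup
    (fun s : Fin r => Module.End.eigenspace T' (ζ ^ (s : ℕ))) hind
  rw [htop, finrank_top] at hsum
  rw [hsum, Finset.sum_range (fun s => Module.finrank F (U ⊓ Eig y (ζ ^ s) : Submodule F (Fin n → F)))]
  apply Finset.sum_congr rfl
  intro s _
  -- the eigenspace of the restriction is `U ⊓ Eig y (ζ^s)`
  have hmap : (Module.End.eigenspace T' (ζ ^ (s : ℕ))).map U.subtype = U ⊓ Eig y (ζ ^ (s : ℕ)) := by
    ext v
    constructor
    · rintro ⟨u, hu, rfl⟩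
      rw [SetLike.mem_coe, Module.End.mem_eigenspace_iff] at hu
      refine ⟨u.2, ?_⟩
      rw [SetLike.mem_coe, Eig, Module.End.mem_eigenspace_iff]
      have := congrArg Subtype.val hu
      rw [hT', LinearMap.coe_restrict_apply] at this
      exact this
    · rintro ⟨hvU, hvE⟩
      refine ⟨⟨v, hvU⟩, ?_, rfl⟩
      rw [SetLike.mem_coe, Module.End.mem_eigenspace_iff]
      apply Subtype.ext
      rw [hT', LinearMap.coe_restrict_apply]
      rw [SetLike.mem_coe, Eig, Module.End.mem_eigenspace_iff] at hvE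
      exact hvE
  rw [← hmap]
  exact LinearEquiv.finrank_eq
    (Submodule.equivSubtypeMap U (Module.End.eigenspace T' (ζ ^ (s : ℕ))))

end Cfsg.Agent.Lib.Helper13.EIG
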