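import Cfsg.Agent.Lib.Helper21.TOO.LDefs
import Cfsg.Agent.Lib.Helper28.TOOPERP

/-!
# TOO row LG4 (helper6): `exists_nonsing_perp2`, verbatim (dimension count: a totally singular subspace has `2 dim ≤ n`).
-/

set_option autoImplicit false
set_option linter.unusedSectionVars false
set_option linter.unusedVariables false

namespace Cfsg.Agent.Lib.Helper28.TOO

open Matrix
open scoped Kronecker
open Cfsg.Agent.Lib.helper7.TP Cfsg.Agent.Lib.Helper21.TS

variable {ι : Type*} [Fintype ι] [DecidableEq ι] {a b : ℕ} {F : Type*} [Field F]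
  {J1 : Matrix (Fin a) (Fin a) F} {J2 : Matrix (Fin b) (Fin b) F}
  {M : Subgroup (Matrix.GeneralLinearGroup (Fin a × Fin b) F)}

/-- a subspace all of whose vectors are singular has `2 dim ≤ n`. -/
theorem toolg4_ts_bound {J : Matrix ι ι F} (hJ : Jᵀ = J) (two : (2 : F) ≠ 0) (hdet : J.det ≠ 0)
    (U : Submodule F (ι → F)) (hU : ∀ x ∈ U, bf J x x = 0) :
    2 * Module.finrank F ↥U ≤ Fintype.card ι := by
  have hle : U ≤ perp J U := by
    intro x hx y hy
    have h1 := hU (x + y) (U.add_mem hx hy)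
    rw [bf_add_left, bf_add_right, bf_add_right, hU x hx, hU y hy, bf_symm hJ y x] at h1
    have h2 : 2 * bf J x y = 0 := by linear_combination h1
    rcases mul_eq_zero.mp h2 with h3 | h3
    · exact absurd h3 two
    · exact h3
  have h1 := Submodule.finrank_mono hle
  have h2 := tooperp_finrank hJ hdet U
  omega

/-- in a subspace of dimension `> n / 2` there is a non-singular vector. -/
theorem toolg4_exists_nonsing {J : Matrix ι ι F} (hJ : Jᵀ = J) (two : (2 : F) ≠ 0) (hdet : J.det ≠ 0)
    (U : Submodule F (ι → F)) (hU : Fintype.card ι < 2 * Module.finrank F ↥U) :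
    ∃ x ∈ U, bf J x x ≠ 0 := by
  by_contra hcon
  push Not at hcon
  have := toolg4_ts_bound hJ two hdet U hcon
  omega

/-- LG4 [M]. a non-singular vector perpendicular to two orthogonal singular vectors (`n ≥ 5`). -/
theorem exists_nonsing_perp2 {J : Matrix ι ι F} (hJ : Jᵀ = J) (two : (2 : F) ≠ 0) (hdet : J.det ≠ 0)
    (hn : 5 ≤ Fintype.card ι) {w w₁ : ι → F} (hw0 : w ≠ 0) (hw : bf J w w = 0) (hw₁ : bf J w₁ w₁ = 0)
    (hww₁ : bf J w w₁ = 0) :
    ∃ n : ι → F, bf J w n = 0 ∧ bf J w₁ n = 0 ∧ bf J n n ≠ 0 := by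
  classical
  set S : Submodule F (ι → F) := Submodule.span F {w, w₁} with hS
  have hSle : Module.finrank F ↥S ≤ 2 := by
    have h1 : Module.finrank F ↥S ≤ ({w, w₁} : Finset (ι → F)).card := by
      have := finrank_span_finset_le_card (R := F) ({w, w₁} : Finset (ι → F))
      have e : ((({w, w₁} : Finset (ι → F)) : Set (ι → F))) = {w, w₁} := by simp
      rw [Set.finrank, e] at this
      exact this
    exact h1.trans Finset.card_le_two
  have h2 := tooperp_finrank hJ hdet S
  obtain ⟨x, hx, hxx⟩ := toolg4_exists_nonsing hJ two hdet (perp J S) (by omega)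
  refine ⟨x, ?_, ?_, hxx⟩
  · rw [bf_symm hJ]
    exact hx w (Submodule.subset_span (by simp))
  · rw [bf_symm hJ]
    exact hx w₁ (Submodule.subset_span (by simp))

end Cfsg.Agent.Lib.Helper28.TOO
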