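import Cfsg.Agent.Lib.Helper21.TOO.LDefs

/-!
# TOO row LG7 (helper6): `functional_perp`, verbatim.
-/

set_option autoImplicit false
set_option linter.unusedSectionVars false
set_option linter.unusedVariables false

namespace Cfsg.Agent.Lib.Helper28.TOO

open Matrix
open scoped Kronecker
open Cfsg.Agent.Lib.helper7.TP Cfsg.Agent.Lib.Helper21.TS

variable {ι : Type*} [Fintype ι] [DecidableEq ι] {a b : ℕ} {F : Type*} [Field F]
  {J1 : Matrix (Fin a) (Fin a) F} {J2 : Matrix (Fin b) (Fin b) F}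
  {M : Subgroup (Matrix.GeneralLinearGroup (Fin a × Fin b) F)}

/-- every linear functional is `f(z₀, ·)` (`J` invertible). -/
theorem toolg7_repr {J : Matrix ι ι F} (hdet : J.det ≠ 0) (l : (ι → F) →ₗ[F] F) :
    ∃ z₀ : ι → F, ∀ n : ι → F, l n = bf J z₀ n := by
  have hu : IsUnit J.det := isUnit_iff_ne_zero.mpr hdet
  set v : ι → F := fun i => l (Pi.single i 1) with hv
  refine ⟨v ᵥ* J⁻¹, ?_⟩
  intro n
  have h1 : l n = v ⬝ᵥ n := by
    rw [LinearMap.pi_apply_eq_sum_univ l n]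
    simp only [dotProduct, hv, smul_eq_mul]
    apply Finset.sum_congr rfl
    intro i _
    rw [mul_comm]
    congr 2
    funext j
    simp only [Pi.single_apply]
    by_cases h : j = i
    · subst h; simp
    · rw [if_neg h, if_neg (fun h' => h h'.symm)]
  rw [h1]
  unfold bf
  rw [Matrix.dotProduct_mulVec, Matrix.vecMul_vecMul, Matrix.nonsing_inv_mul J hu, Matrix.vecMul_one]

/-- LG7 [S]. a linear functional that kills `w` is `f(z₀, ·)` with `z₀ ⊥ w`. -/
theorem functional_perp {J : Matrix ι ι F} (hJ : Jᵀ = J) (hdet : J.det ≠ 0) {w : ι → F} (hw0 : w ≠ 0)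
    (hw : bf J w w = 0) (l : (ι → F) →ₗ[F] F) (hl : l w = 0) :
    ∃ z₀ : ι → F, bf J w z₀ = 0 ∧ ∀ n : ι → F, bf J w n = 0 → l n = bf J z₀ n := by
  obtain ⟨z₀, hz⟩ := toolg7_repr hdet l
  refine ⟨z₀, ?_, fun n _ => hz n⟩
  rw [bf_symm hJ, ← hz, hl]

end Cfsg.Agent.Lib.Helper28.TOO
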