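import Mathlib
import Cfsg.Agent.Lib.Helper27.VF.Defs
import Cfsg.Agent.Lib.Helper27.VF.FGa
import Cfsg.Agent.Lib.Helper13.VFFGc

/-! Project VF (S5286), piece T4a (helper6): all nontrivial left components of a finite-length
subgroup start with the same letter, end with the corresponding letter and have norm `≥ 2`. -/

set_option autoImplicit false

namespace Cfsg.Agent.Lib.Helper27.VF

universe u
variable {T : Type u} [Group T]

/-- the action preserves the norm -/
theorem h6_nm_act (D : Datum T) (g : Equiv.Perm T) (w : FreeGroup D.X) :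
    nm (D.act g w) = nm w :=
  nm_congr (MulAction.toPerm g) w

/-- the action on a letter -/
theorem h6_act_lt (D : Datum T) (g : Equiv.Perm T) (x : D.X) (b : Bool) :
    D.act g (lt x b) = lt (g • x) b :=
  congr_lt (MulAction.toPerm g) x b

/-- the action of `g` undoes the action of `g⁻¹` -/
theorem h6_act_cancel (D : Datum T) (g : Equiv.Perm T) (w : FreeGroup D.X) :
    D.act g (D.act g⁻¹ w) = w := by
  rw [← MulAut.mul_apply, ← map_mul, mul_inv_cancel, map_one]; rfl

/-- the left component of `h⁻¹ * k` -/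
theorem h6_inv_mul_left (D : Datum T) (h k : D.G₀) :
    (h⁻¹ * k).left = D.act h.right⁻¹ (h.left⁻¹ * k.left) := by
  rw [SemidirectProduct.mul_left, SemidirectProduct.inv_left, SemidirectProduct.inv_right,
    map_mul]

/-- first part: every nontrivial left component starts with the letter `lt x b` -/
theorem h6_common_first_aux (D : Datum T) (H : Subgroup D.G₀) (h₀ : D.G₀) (hh₀ : h₀ ∈ H)
    (hmax : ∀ k ∈ H, D.len k ≤ D.len h₀) (x : D.X) (b : Bool)
    (hx : nm ((lt x b)⁻¹ * h₀.left) + 1 = nm h₀.left) (k : D.G₀) (hk : k ∈ H)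
    (hk1 : k.left ≠ 1) :
    nm ((lt x b)⁻¹ * k.left) + 1 = nm k.left := by
  have hdich := nm_lt_mul x (!b) k.left
  rw [← lt_inv] at hdich
  rcases hdich with h | h
  · exfalso
    have h1 := nm_inv_mul_of_first x b k.left h₀.left hx h
    have h2 : D.len (h₀⁻¹ * k) = nm (h₀.left⁻¹ * k.left) := by
      unfold Datum.len
      rw [h6_inv_mul_left, h6_nm_act]
    have h3 := hmax (h₀⁻¹ * k) (H.mul_mem (H.inv_mem hh₀) hk)
    rw [h2, h1] at h3
    have h4 : nm k.left ≠ 0 := fun h0 => hk1 (nm_eq_zero.mp h0)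
    unfold Datum.len at h3
    omega
  · exact h

/-- VF-T4a -/
theorem common_first (D : Datum T) (H : Subgroup D.G₀) (h₀ : D.G₀) (hh₀ : h₀ ∈ H)
    (hmax : ∀ k ∈ H, D.len k ≤ D.len h₀) (x : D.X) (b : Bool)
    (hx : nm ((lt x b)⁻¹ * h₀.left) + 1 = nm h₀.left) (k : D.G₀) (hk : k ∈ H)
    (hk1 : k.left ≠ 1) :
    nm ((lt x b)⁻¹ * k.left) + 1 = nm k.left ∧
    nm (k.left * lt (k.right • x) b) + 1 = nm k.left ∧ 2 ≤ nm k.left := by
  have p1 := h6_common_first_aux D H h₀ hh₀ hmax x b hx k hk hk1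
  -- the same for `k⁻¹`
  have hkinv_left : k⁻¹.left = D.act k.right⁻¹ k.left⁻¹ := SemidirectProduct.inv_left k
  have hk1' : k⁻¹.left ≠ 1 := by
    rw [hkinv_left]
    intro h0
    apply hk1
    have : k.left⁻¹ = 1 := by
      have h5 := congrArg (D.act k.right) h0
      rw [h6_act_cancel, map_one] at h5
      exact h5
    simpa using this
  have p2' := h6_common_first_aux D H h₀ hh₀ hmax x b hx k⁻¹ (H.inv_mem hk) hk1'
  have hnm : nm k⁻¹.left = nm k.left := by
    rw [hkinv_left, h6_nm_act, nm_inv]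
  have hrew : (lt x b)⁻¹ * k⁻¹.left =
      D.act k.right⁻¹ ((k.left * lt (k.right • x) b)⁻¹) := by
    rw [hkinv_left, mul_inv_rev, map_mul, map_inv (D.act k.right⁻¹) (lt (k.right • x) b),
      h6_act_lt, inv_smul_smul]
  have p2 : nm (k.left * lt (k.right • x) b) + 1 = nm k.left := by
    rw [hrew, h6_nm_act, nm_inv, hnm] at p2'
    exact p2'
  refine ⟨p1, p2, ?_⟩
  -- the norm is at least two
  by_contra hlt
  have h4 : nm k.left ≠ 0 := fun h0 => hk1 (nm_eq_zero.mp h0)
  have h1 : nm k.left = 1 := by omega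
  have e1 : (lt x b)⁻¹ * k.left = 1 := nm_eq_zero.mp (by omega)
  have e2 : k.left * lt (k.right • x) b = 1 := nm_eq_zero.mp (by omega)
  have e1' : k.left = lt x b := by
    have := congrArg (fun z => lt x b * z) e1
    simpa using this
  have e2' : k.left = (lt (k.right • x) b)⁻¹ := eq_inv_of_mul_eq_one_left e2
  rw [lt_inv, e1'] at e2'
  have := (lt_inj e2').2
  cases b <;> simp at this

end Cfsg.Agent.Lib.Helper27.VF
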