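import Mathlib
import Cfsg.Agent.Lib.Lead.W2P.Defs

/-!
# Project W2P (S0720), piece PISING : the permutation character vanishes on the `p`-singular elements
-/

set_option autoImplicit false
set_option linter.unusedVariables false
set_option linter.unusedSectionVars false
open scoped ComplexConjugate
open Classical

namespace Cfsg.Agent.Lib.Lead.W2P

open MulAction Cfsg.Agent.Lib.helper6.PermChar Cfsg.Agent.Lib.Helper25

universe u v

section A

variable {G : Type u} [Group G] [Fintype G] {Ω : Type v} [Fintype Ω] [DecidableEq Ω] [MulAction G Ω]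
  {p : ℕ} [Fact p.Prime]

/-- PISING : the permutation character vanishes on the `p`-singular elements -/
theorem pi_sing (hfpf : ∀ g : G, orderOf g = p → ∀ ω : Ω, g • ω ≠ ω) (g : G) (hg : p ∣ orderOf g) :
    piChar G Ω g = 0 := by
  have h1 : orderOf (g ^ (orderOf g / p)) = p :=
    orderOf_pow_orderOf_div (orderOf_pos g).ne' hg
  haveI : IsEmpty (fixedBy Ω g) := by
    refine ⟨fun ω => ?_⟩
    have hω : g ∈ stabilizer G (ω : Ω) := ω.2
    exact hfpf _ h1 ω ((stabilizer G (ω : Ω)).pow_mem hω _)
  unfold piChar
  rw [Nat.card_of_isEmpty, Nat.cast_zero]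

end A

end Cfsg.Agent.Lib.Lead.W2P
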