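import Mathlib
import Cfsg.Agent.Lib.Lead.W2P.Defs

/-!
# Project W2P (S0720), piece RANK2 : rank 2 means doubly transitive
-/

set_option autoImplicit false
set_option linter.unusedVariables false
set_option linter.unusedSectionVars false
open scoped ComplexConjugate
open Classical

namespace Cfsg.Agent.Lib.Lead.W2P

open MulAction Cfsg.Agent.Lib.helper6.PermChar Cfsg.Agent.Lib.Helper25

universe u v

/-- in a type with two elements, two elements different from a third one are equal -/
theorem w2prank2_eq_of_card_two {Q : Type*} (hQ : Nat.card Q = 2) (x y z : Q) (hxy : x ≠ y)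
    (hxz : x ≠ z) : y = z := by
  by_contra hyz
  haveI : Finite Q := Nat.finite_of_card_ne_zero (by omega)
  haveI := Fintype.ofFinite Q
  have h3 : ({x, y, z} : Finset Q).card ≤ Fintype.card Q := Finset.card_le_univ _
  rw [Nat.card_eq_fintype_card] at hQ
  rw [Finset.card_insert_of_notMem (by simp [hxy, hxz]), Finset.card_pair hyz] at h3
  omega

section A

variable {G : Type u} [Group G] [Fintype G] {Ω : Type v} [Fintype Ω] [DecidableEq Ω] [MulAction G Ω]
  {p : ℕ} [Fact p.Prime]

/-- RANK2 : rank 2 means doubly transitive -/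
theorem two_trans_of_inner (htr : IsPretransitive G Ω)
    (h : Cfsg.classInner (piChar G Ω) (piChar G Ω) = 2) : IsMultiplyPretransitive G Ω 2 := by
  rw [is_two_pretransitive_iff]
  intro a b c d hab hcd
  have hrank : Nat.card (orbitRel.Quotient (stabilizer G c) Ω) = 2 := by
    have := inner_pi_pi (G := G) (Ω := Ω) c
    rw [h] at this
    exact_mod_cast this.symm
  obtain ⟨g₁, hg₁⟩ := exists_smul_eq G a c
  have hb' : g₁ • b ≠ c := by
    intro hb
    apply hab
    rw [← hg₁] at hb
    exact (smul_left_cancel g₁ hb).symm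
  -- the classes of `g₁ b` and `d` differ from the class of `c`
  have hne : ∀ x : Ω, x ≠ c →
      (Quotient.mk'' c : orbitRel.Quotient (stabilizer G c) Ω) ≠ Quotient.mk'' x := by
    intro x hx hq
    apply hx
    have : c ∈ orbit (stabilizer G c) x := Quotient.exact' hq
    exact (mem_orbit_stab_self_iff c x).1 this
  have heq := w2prank2_eq_of_card_two hrank _ _ _ (hne _ hb') (hne d (Ne.symm hcd))
  have hmem : g₁ • b ∈ orbit (stabilizer G c) d := Quotient.exact' heq
  obtain ⟨⟨k, hk⟩, hkd⟩ := hmem
  have hkd' : k • d = g₁ • b := hkd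
  refine ⟨k⁻¹ * g₁, ?_, ?_⟩
  · rw [mul_smul, hg₁, inv_smul_eq_iff]
    exact (mem_stabilizer_iff.1 hk).symm
  · rw [mul_smul, ← hkd', inv_smul_smul]

end A

end Cfsg.Agent.Lib.Lead.W2P
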