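import Mathlib
import Cfsg.Prelude.Def_GeometricClasses
import Cfsg.Agent.Lib.Helper27.ASC.Defs
import Cfsg.Agent.Lib.helper23.ASCO.Defs
import Cfsg.Agent.Lib.Helper28.OGenQ

/-!
# Project ASCO, piece PRB : `Ω` stabilises no frame of lines

A Siegel element `g ≠ 1` of `Ω` has `(g - 1)² = 0`.  If it permutes the lines `D i` by `σ` and `σ i ≠ i`, then for
`w ∈ D i` the vector `2 g w = g² w + w` lies in `D (σ i) ⊓ (D (σ² i) ⊔ D i) = ⊥`; so `σ = 1`, `g` acts on each line by a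
scalar `a` with `(a - 1)² = 0`, and `g = 1`.
-/

set_option autoImplicit false
set_option linter.unusedVariables false
set_option linter.unusedSectionVars false

namespace Cfsg.Agent.Lib.helper23.ASCO

open Cfsg Cfsg.Geo Cfsg.Agent.Lib.Helper27.ASC
open scoped MatrixGroups Matrix

variable {n : ℕ} {F : Type*} [Field F] [Fintype F]

/-- a matrix `T` with `T² + 1 = 2 T` (`2 ≠ 0`) permuting the lines of a decomposition is the identity -/
theorem ascoprb_unipotent_frame (h2 : (2 : F) ≠ 0) (g : GL (Fin n) F)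
    (hTT : ∀ x, (g : Matrix (Fin n) (Fin n) F) *ᵥ ((g : Matrix (Fin n) (Fin n) F) *ᵥ x) + x =
      (2 : F) • ((g : Matrix (Fin n) (Fin n) F) *ᵥ x))
    {t : ℕ} (D : Fin t → Submodule F (Fin n → F)) (hD : IsMDecomposition 1 D)
    (hg : g ∈ decompositionStabilizer D) : ∀ x, (g : Matrix (Fin n) (Fin n) F) *ᵥ x = x := by
  classical
  obtain ⟨σ, hσ⟩ := hg
  set T : Matrix (Fin n) (Fin n) F := (g : Matrix (Fin n) (Fin n) F) with hT
  have hmap : ∀ i, ∀ w ∈ D i, T *ᵥ w ∈ D (σ i) := by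
    intro i w hw
    rw [← hσ i]
    exact ⟨w, hw, by rw [Matrix.toLin'_apply]⟩
  have hTinj : ∀ w, T *ᵥ w = 0 → w = 0 := by
    intro w hw
    have h1 : ((g⁻¹ : GL (Fin n) F) : Matrix (Fin n) (Fin n) F) *ᵥ (T *ᵥ w) = w := by
      rw [Matrix.mulVec_mulVec, hT, ← Units.val_mul, inv_mul_cancel, Units.val_one, Matrix.one_mulVec]
    rw [hw, Matrix.mulVec_zero] at h1
    exact h1.symm
  -- a generator of each line
  have hline : ∀ i, ∃ w₀ ∈ D i, w₀ ≠ 0 ∧ ∀ w ∈ D i, ∃ c : F, w = c • w₀ := by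
    intro i
    obtain ⟨⟨w₀, hw₀⟩, hne, hall⟩ := finrank_eq_one_iff'.mp (hD.finrank_eq i)
    refine ⟨w₀, hw₀, fun h => hne (Subtype.ext h), fun w hw => ?_⟩
    obtain ⟨c, hc⟩ := hall ⟨w, hw⟩
    exact ⟨c, (congrArg Subtype.val hc).symm⟩
  -- the permutation is trivial
  have hσ1 : ∀ i, σ i = i := by
    intro i
    by_contra hne
    obtain ⟨w₀, hw₀, hw₀0, -⟩ := hline i
    have h1 : T *ᵥ w₀ ∈ D (σ i) := hmap i w₀ hw₀
    have h2' : T *ᵥ (T *ᵥ w₀) ∈ D (σ (σ i)) := hmap (σ i) _ h1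
    have hne2 : σ (σ i) ≠ σ i := fun h => hne (σ.injective h)
    have h3 : (2 : F) • (T *ᵥ w₀) ∈ ⨆ (j) (_ : j ≠ σ i), D j := by
      rw [← hTT w₀]
      apply Submodule.add_mem
      · exact (le_iSup₂_of_le (σ (σ i)) hne2 le_rfl : D (σ (σ i)) ≤ _) h2'
      · exact (le_iSup₂_of_le i (fun h => hne h.symm) le_rfl : D i ≤ _) hw₀
    have h4 : (2 : F) • (T *ᵥ w₀) ∈ D (σ i) := Submodule.smul_mem _ _ h1
    have h5 := Submodule.disjoint_def.mp (hD.indep (σ i)) _ h4 h3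
    rcases smul_eq_zero.mp h5 with h | h
    · exact h2 h
    · exact hw₀0 (hTinj w₀ h)
  -- `T` fixes every line pointwise
  have hfix : ∀ i, ∀ w ∈ D i, T *ᵥ w = w := by
    intro i w hw
    obtain ⟨w₀, hw₀, hw₀0, hall⟩ := hline i
    have h1 : T *ᵥ w₀ ∈ D i := by
      have := hmap i w₀ hw₀
      rwa [hσ1 i] at this
    obtain ⟨a, ha⟩ := hall _ h1
    have h3 := hTT w₀
    rw [ha, Matrix.mulVec_smul, ha, smul_smul, smul_smul] at h3
    have h4 : (a * a + 1 - 2 * a) • w₀ = 0 := by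
      rw [sub_smul, add_smul, one_smul, h3, sub_self]
    have h5 : a = 1 := by
      rcases smul_eq_zero.mp h4 with h | h
      · have : (a - 1) * (a - 1) = 0 := by linear_combination h
        rcases mul_self_eq_zero.mp this with h6
        linear_combination h6
      · exact absurd h hw₀0
    obtain ⟨c, hc⟩ := hall w hw
    rw [hc, Matrix.mulVec_smul, ha, h5, one_smul]
  -- the fixed space is everything
  let E : Submodule F (Fin n → F) := LinearMap.ker (Matrix.toLin' T - LinearMap.id)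
  have hE : ∀ x, x ∈ E ↔ T *ᵥ x = x := by
    intro x
    rw [LinearMap.mem_ker, LinearMap.sub_apply, Matrix.toLin'_apply, LinearMap.id_apply, sub_eq_zero]
  have hDE : ∀ i, D i ≤ E := fun i w hw => (hE w).mpr (hfix i w hw)
  have htop : (⊤ : Submodule F (Fin n → F)) ≤ E := by
    rw [← hD.iSup_eq_top]
    exact iSup_le hDE
  intro x
  exact (hE x).mp (htop Submodule.mem_top)

/-- PRB : `Ω` stabilises no frame of lines. -/
theorem omega_not_le_frame (hn : 7 ≤ n) (h2 : (2 : F) ≠ 0) (Q : QuadraticForm F (Fin n → F))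
    (hQ : (QuadraticMap.polarBilin Q).Nondegenerate) {t : ℕ} (D : Fin t → Submodule F (Fin n → F))
    (hD : IsMDecomposition 1 D) : ¬ omegaGL (⇑Q) ≤ decompositionStabilizer D := by
  classical
  intro hle
  have hq := Cfsg.Agent.Lib.Helper28.OGenQ.qf_of_quad Q hQ
  have vf := Cfsg.Agent.Lib.Helper28.OGenQ.vfacts_quad hn Q hQ
  have sg := Cfsg.Agent.Lib.Helper28.OGenQ.sgGroupQ_quad hn Q hQ
  have hsym := hq.sym
  obtain ⟨z, hz, hz0⟩ := vf.sing
  obtain ⟨w, hw, hwz⟩ := Cfsg.Agent.Lib.Helper28.OQ.hyp_partner_q hq z hz0 hz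
  have hzw : Cfsg.Agent.S0795.pf Q z w = 1 := by
    rw [Cfsg.Agent.Lib.Helper28.OGen.s_symm hsym]
    exact hwz
  obtain ⟨s, s', hs, hs', hsz, hsw, hs'z, hs'w, hs's⟩ :=
    vf.hyp_perp z w hz hw (by rw [hzw]; exact one_ne_zero)
  have hzs : Cfsg.Agent.S0795.pf Q z s = 0 := by
    rw [Cfsg.Agent.Lib.Helper28.OGen.s_symm hsym]
    exact hsz
  obtain ⟨g, hg⟩ := sg.ex z s 1 hz hs hzs
  have hgΩ := sg.sg g z s 1 hz hs hzs hg
  have hTx : ∀ x, (g : Matrix (Fin n) (Fin n) F) *ᵥ x =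
      x + (Cfsg.Agent.S0795.pf Q z x • s - Cfsg.Agent.S0795.pf Q s x • z) := by
    intro x
    have := hg x
    unfold Cfsg.Agent.Lib.Helper28.OMax.Tv at this
    rw [one_smul] at this
    exact this
  have hzz : Cfsg.Agent.S0795.pf Q z z = 0 := Cfsg.Agent.Lib.Helper28.OQ.f_sing hq hz
  have hss : Cfsg.Agent.S0795.pf Q s s = 0 := Cfsg.Agent.Lib.Helper28.OQ.f_sing hq hs
  have hTT : ∀ x, (g : Matrix (Fin n) (Fin n) F) *ᵥ ((g : Matrix (Fin n) (Fin n) F) *ᵥ x) + x =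
      (2 : F) • ((g : Matrix (Fin n) (Fin n) F) *ᵥ x) := by
    intro x
    have h1 : (g : Matrix (Fin n) (Fin n) F) *ᵥ
        (Cfsg.Agent.S0795.pf Q z x • s - Cfsg.Agent.S0795.pf Q s x • z) =
        Cfsg.Agent.S0795.pf Q z x • s - Cfsg.Agent.S0795.pf Q s x • z := by
      rw [hTx]
      rw [Cfsg.Agent.Lib.Helper28.HForm.f_sub_right hsym, Cfsg.Agent.Lib.Helper28.HForm.f_sub_right hsym,
        Cfsg.Agent.Lib.Helper28.OGen.s_smul_right hsym, Cfsg.Agent.Lib.Helper28.OGen.s_smul_right hsym,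
        Cfsg.Agent.Lib.Helper28.OGen.s_smul_right hsym, Cfsg.Agent.Lib.Helper28.OGen.s_smul_right hsym,
        hzs, hzz, hss, hsz]
      simp
    rw [hTx x, Matrix.mulVec_add, h1, hTx x, two_smul]
    abel
  have hone := ascoprb_unipotent_frame h2 g hTT D hD (hle hgΩ)
  have h3 := hone w
  rw [hTx w, hzw, hsw, one_smul, zero_smul, sub_zero] at h3
  have hs0 : s = 0 := by
    have := congrArg (fun v => v - w) h3
    simpa using this
  rw [hs0, Cfsg.Agent.Lib.Helper28.HForm.f_zero_right hsym] at hs's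
  exact zero_ne_one hs's

end Cfsg.Agent.Lib.helper23.ASCO
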