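import Mathlib
import Cfsg.Prelude.Def_GeometricClasses
import Cfsg.Agent.Lib.Helper27.ASC.Defs
import Cfsg.Agent.Lib.helper23.ASCO.Defs
import Cfsg.Agent.Lib.helper23.ASCSCHURA
import Cfsg.Agent.Lib.Helper18.ASCSCHURB
import Cfsg.Agent.Lib.helper8.ASCSCHURC

/-!
# Project ASCO, piece SCHURK : in prime dimension an irreducible, not absolutely irreducible group is commutative
-/

set_option autoImplicit false
set_option linter.unusedVariables false
set_option linter.unusedSectionVars false

namespace Cfsg.Agent.Lib.helper23.ASCO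

open Cfsg Cfsg.Geo Cfsg.Agent.Lib.Helper27.ASC
open scoped MatrixGroups Matrix

variable {n : ℕ} {F : Type*} [Field F] [Fintype F]

/-- a field subalgebra of degree `n` of the `n × n` matrices contains every matrix commuting with it -/
theorem ascoschurk_mem (hn : 0 < n) (K : Subalgebra F (Matrix (Fin n) (Fin n) F))
    (hK : IsFieldSubalgebra n K) (X : Matrix (Fin n) (Fin n) F)
    (hX : ∀ k ∈ K, k * X = X * k) : X ∈ K := by
  classical
  let v : Fin n → F := Pi.single (⟨0, hn⟩ : Fin n) 1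
  have hv : v ≠ 0 := by
    intro h
    have := congrFun h (⟨0, hn⟩ : Fin n)
    simp [v] at this
  let φ : K →ₗ[F] (Fin n → F) :=
    { toFun := fun k => (k : Matrix (Fin n) (Fin n) F) *ᵥ v
      map_add' := fun a b => by
        show ((a + b : K) : Matrix (Fin n) (Fin n) F) *ᵥ v = _
        rw [Subalgebra.coe_add, Matrix.add_mulVec]
      map_smul' := fun c a => by
        show ((c • a : K) : Matrix (Fin n) (Fin n) F) *ᵥ v = _
        rw [Subalgebra.coe_smul, Matrix.smul_mulVec]
        rfl }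
  have hφ : ∀ k : K, φ k = (k : Matrix (Fin n) (Fin n) F) *ᵥ v := fun k => rfl
  have hinj : Function.Injective φ := by
    rw [← LinearMap.ker_eq_bot, LinearMap.ker_eq_bot']
    intro k hk
    by_contra hk0
    have hk0' : (k : Matrix (Fin n) (Fin n) F) ≠ 0 := fun h => hk0 (Subtype.ext h)
    obtain ⟨y, hyK, hy⟩ := hK.inv k k.2 hk0'
    have hy' : y * (k : Matrix (Fin n) (Fin n) F) = 1 := by rw [← hK.comm k k.2 y hyK, hy]
    apply hv
    rw [hφ] at hk
    calc v = (y * (k : Matrix (Fin n) (Fin n) F)) *ᵥ v := by rw [hy', Matrix.one_mulVec]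
      _ = y *ᵥ ((k : Matrix (Fin n) (Fin n) F) *ᵥ v) := by rw [Matrix.mulVec_mulVec]
      _ = 0 := by rw [hk, Matrix.mulVec_zero]
  have hdim : Module.finrank F K = Module.finrank F (Fin n → F) := by
    rw [hK.finrank_eq, Module.finrank_fin_fun]
  have hsurj : Function.Surjective φ :=
    (LinearMap.injective_iff_surjective_of_finrank_eq_finrank hdim).mp hinj
  obtain ⟨k₀, hk₀⟩ := hsurj (X *ᵥ v)
  rw [hφ] at hk₀
  have hXk : X = (k₀ : Matrix (Fin n) (Fin n) F) := by
    apply Matrix.ext_of_mulVec_single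
    intro i
    obtain ⟨k, hk⟩ := hsurj (Pi.single i 1)
    rw [hφ] at hk
    rw [← hk, Matrix.mulVec_mulVec, Matrix.mulVec_mulVec, ← hX k k.2, ← Matrix.mulVec_mulVec, ← hk₀,
      Matrix.mulVec_mulVec, hK.comm k k.2 k₀ k₀.2]
  rw [hXk]
  exact k₀.2

/-- SCHURK : in prime dimension an irreducible, not absolutely irreducible group is commutative
(it lies in its centraliser field, of degree `r`). -/
theorem comm_of_irr_not_absIrr {r : ℕ} (hr : r.Prime) {N : Subgroup (GL (Fin r) F)} (h1 : Irr N)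
    (h2 : ¬ AbsIrr N) : ∀ x ∈ N, ∀ y ∈ N, x * y = y * x := by
  have hr0 : 0 < r := hr.pos
  have hK : IsFieldSubalgebra r (centAlg N) := by
    obtain ⟨hc, hi⟩ := schur_comm_inv hr0 h1
    have hKd : IsFieldSubalgebra (Module.finrank F (centAlg N)) (centAlg N) := ⟨hc, hi, rfl⟩
    have hdvd := field_finrank_dvd hr0 _ hKd
    rcases (Nat.dvd_prime hr).mp hdvd with hd | hd
    · exact absurd (absIrr_of_finrank_one h1 hd) h2
    · exact ⟨hc, hi, hd⟩
  have hmem : ∀ x ∈ N, ((x : GL (Fin r) F) : Matrix (Fin r) (Fin r) F) ∈ centAlg N := by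
    intro x hx
    apply ascoschurk_mem hr0 _ hK
    intro k hk
    exact ((Subalgebra.mem_centralizer_iff F).1 hk _ ⟨x, hx, rfl⟩).symm
  intro x hx y hy
  apply Units.ext
  rw [Units.val_mul, Units.val_mul]
  exact hK.comm _ (hmem x hx) _ (hmem y hy)

end Cfsg.Agent.Lib.helper23.ASCO
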