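import Mathlib
import Cfsg.Prelude.Def_GeometricClasses
import Cfsg.Agent.Lib.Helper27.ASC.Defs
import Cfsg.Agent.Lib.helper23.ASCO.Defs
import Cfsg.Agent.Lib.Helper19.ASG.Defs
import Cfsg.Agent.Lib.Helper1.ASGCLIF3
import Cfsg.Agent.Lib.Helper25.ASO.Defs
import Cfsg.Agent.Lib.helper23.ASE.Defs
import Cfsg.Agent.Lib.helper8.ASECcore
import Cfsg.Agent.Lib.Helper10.ASGCSWAP

set_option autoImplicit false
set_option linter.unusedVariables false
set_option linter.unusedSectionVars false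

/-!
# Project ASE, pieces TENS2A (`etensor_alt_char2`) and TENS2B (`etensor_pure_char2`) : wrappers of helper8's `ASECcore`
-/

namespace Cfsg.Agent.Lib.helper23.ASE

open Cfsg Cfsg.Geo Cfsg.Agent.Lib.Helper27.ASC Cfsg.Agent.Lib.helper23.ASCO Cfsg.Agent.Lib.Helper19.ASG
  Cfsg.Agent.Lib.Helper25.ASO
open scoped MatrixGroups Matrix Kronecker

variable {n : ℕ} {F : Type*} [Field F] [Fintype F]

/-- TENS2A : characteristic 2, `G` irreducible inside the tensor group and the isometry group: both Gram factors are alternating.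
(`u ↦ A u u = ∑ A i i u_i²` is the square of the linear functional `φ u = ∑ √(A i i) u_i`.  `g = P R(a ⊗ b) P⁻¹ ∈ G` preserves
`f`, so `(aᵀ A a) ⊗ (bᵀ B b) = A ⊗ B`, `aᵀ A a = μ A`, hence `φ (a u) = √μ φ u` and `a` maps `ker φ` into itself: if `φ ≠ 0` the
subspace `{pureVec e P u w | u ∈ ker φ}` spans a proper non-zero `G`-invariant subspace (`2 ≤ k`).  Same for `B`.) -/
theorem etensor_alt_char2 (h2 : (2 : F) = 0) (Q : QuadraticForm F (Fin n → F))
    (hQ : (QuadraticMap.polarBilin Q).Nondegenerate) {G : Subgroup (GL (Fin n) F)} (hG : Irr G)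
    (hGO : G ≤ isometryGroup F (⇑Q)) {k d : ℕ} (hk : 2 ≤ k) (hd : 2 ≤ d) (e : Fin n ≃ Fin k × Fin d)
    (P : GL (Fin n) F) (hGT : G ≤ tensorProductSubgroup k d e P)
    (A : Matrix (Fin k) (Fin k) F) (B : Matrix (Fin d) (Fin d) F) (hA : IsUnit A.det) (hB : IsUnit B.det)
    (hAs : Aᵀ = A) (hBs : Bᵀ = B) (hAB : KronGram (QuadraticMap.polar (⇑Q)) e P A B) :
    (∀ i, A i i = 0) ∧ (∀ j, B j j = 0) := by
  have hK : Cfsg.Agent.Lib.Helper18.ASP.KrGram (QuadraticMap.polar (⇑Q)) e P A B := hAB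
  have hA0 : A ≠ 0 := Cfsg.Agent.Lib.helper8.ASEC.asec_ne_zero_of_det (by omega) A hA.ne_zero
  have hB0 : B ≠ 0 := Cfsg.Agent.Lib.helper8.ASEC.asec_ne_zero_of_det (by omega) B hB.ne_zero
  have hI' : G ≤ Cfsg.Agent.Lib.Helper18.ASP.isoGL (QuadraticMap.polar (⇑Q)) := fun h hh =>
    (Cfsg.Agent.Lib.Helper18.ASP.mem_isoGL_iff _ _).2 (asoadj_iso_polar Q h (hGO hh))
  have hK' := Cfsg.Agent.Lib.Helper18.ASP.spc_krGram_swap _ e P A B hK
  have hGT' : G ≤ tensorProductSubgroup d k (e.trans (Equiv.prodComm (Fin k) (Fin d))) P := by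
    rw [← tensor_swap]
    exact hGT
  constructor
  · refine Cfsg.Agent.Lib.Helper18.ASP.aspcevalt_core (k := d) (d := k) h2 hG (by omega) hk
      (e.trans (Equiv.prodComm (Fin k) (Fin d))) P A hAs ?_
    intro h hh
    obtain ⟨a, b, μ, hμ, hab, ha, hb⟩ :=
      Cfsg.Agent.Lib.Helper18.ASP.spc_kron_sim _ _ P B A hB0 hA0 hK' h (hI' hh) (hGT' hh)
    exact ⟨a, b, μ⁻¹, hab, hb⟩
  · refine Cfsg.Agent.Lib.Helper18.ASP.aspcevalt_core h2 hG (by omega) hd e P B hBs ?_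
    intro h hh
    obtain ⟨a, b, μ, hμ, hab, ha, hb⟩ :=
      Cfsg.Agent.Lib.Helper18.ASP.spc_kron_sim _ e P A B hA0 hB0 hK h (hI' hh) (hGT hh)
    exact ⟨a, b, μ⁻¹, hab, hb⟩

/-- TENS2B : characteristic 2, both Gram factors alternating, `G` irreducible: `Q` vanishes on the pure tensors.
(`ψ u w = Q (pureVec e P u w)` is additive in `u` and in `w` (the polar terms `A u u' * B w w` and `A u u * B w w'` vanish) and
`ψ (c u) w = c² ψ u w`: `ψ u w = (λ (pureVec e P u w))²` for the linear functional `λ` with `λ (P e_(i,j)) = √(ψ e_i e_j)`.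
`g ∈ G` maps pure tensors to pure tensors and preserves `Q`: `λ (g p)² = λ p²`, so `λ ∘ g = λ` on a spanning set; `ker λ` is
`G`-invariant, and `≠ ⊥` as `n ≥ 2`: `λ = 0`.) -/
theorem etensor_pure_char2 (h2 : (2 : F) = 0) (Q : QuadraticForm F (Fin n → F))
    (hQ : (QuadraticMap.polarBilin Q).Nondegenerate) {G : Subgroup (GL (Fin n) F)} (hG : Irr G)
    (hGO : G ≤ isometryGroup F (⇑Q)) {k d : ℕ} (hk : 2 ≤ k) (hd : 2 ≤ d) (e : Fin n ≃ Fin k × Fin d)
    (P : GL (Fin n) F) (hGT : G ≤ tensorProductSubgroup k d e P)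
    (A : Matrix (Fin k) (Fin k) F) (B : Matrix (Fin d) (Fin d) F)
    (hAa : ∀ i, A i i = 0) (hBa : ∀ j, B j j = 0) (hAs : Aᵀ = A) (hBs : Bᵀ = B)
    (hAB : KronGram (QuadraticMap.polar (⇑Q)) e P A B) :
    ∀ (u : Fin k → F) (w : Fin d → F), Q (pureVec e P u w) = 0 := by
  intro u w
  have hn : 2 ≤ n := by
    have := Fintype.card_congr e
    simp only [Fintype.card_fin, Fintype.card_prod] at this
    have h4 : 2 * 2 ≤ k * d := Nat.mul_le_mul hk hd
    omega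
  exact Cfsg.Agent.Lib.helper8.ASEC.asec_pure_zero h2 Q hGO hG hn e P A B
    (Cfsg.Agent.Lib.helper8.ASEC.asec_diag_alt h2 A hAs hAa)
    (Cfsg.Agent.Lib.helper8.ASEC.asec_diag_alt h2 B hBs hBa) hAB hGT u w

end Cfsg.Agent.Lib.helper23.ASE
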