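import Mathlib
import Cfsg.Agent.Lib.helper6.Disc

set_option autoImplicit false

namespace Cfsg.Agent.Lib.helper6.Disc

open Module Matrix LinearMap

universe u v

section
variable {F : Type u} [Field F]

theorem gdet_fin_two {V : Type*} [AddCommGroup V] [Module F V] (b : Basis (Fin 2) F V) (B : LinearMap.BilinForm F V) :
    gdet b B = B (b 0) (b 0) * B (b 1) (b 1) - B (b 0) (b 1) * B (b 1) (b 0) := by
  unfold gdet
  rw [Matrix.det_fin_two]
  simp only [LinearMap.BilinForm.toMatrix_apply]

theorem exists_isotropic_of_two {V : Type*} [AddCommGroup V] [Module F V] (B : LinearMap.BilinForm F V) (hS : B.IsSymm)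
    (b : Basis (Fin 2) F V) (hsq : IsSquare (-(gdet b B))) :
    ∃ x : V, x ≠ 0 ∧ B x x = 0 := by
  obtain ⟨s, hs⟩ := hsq
  rw [gdet_fin_two] at hs
  have h10 : B (b 1) (b 0) = B (b 0) (b 1) := hS.eq _ _
  rw [h10] at hs
  by_cases ha : B (b 0) (b 0) = 0
  · exact ⟨b 0, b.ne_zero 0, ha⟩
  · set α := B (b 0) (b 0)
    set β := B (b 0) (b 1)
    set γ := B (b 1) (b 1)
    refine ⟨((-β + s) / α) • b 0 + b 1, ?_, ?_⟩
    · intro h0
      have := congrArg (fun v => b.repr v 1) h0
      simp at this
    · simp only [map_add, map_smul, LinearMap.add_apply, LinearMap.smul_apply, smul_eq_mul, h10]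
      show (-β + s) / α * ((-β + s) / α * α + β) + ((-β + s) / α * β + γ) = 0
      field_simp
      linear_combination (-1 : F) * hs

theorem exists_ti_aux [Fintype F] (h2 : (2 : F) ≠ 0) :
    ∀ (r : ℕ) (V : Type v) [AddCommGroup V] [Module F V] [FiniteDimensional F V]
      (B : LinearMap.BilinForm F V), B.IsSymm → B.Nondegenerate → finrank F V = 2 * r →
      (∃ b : Basis (Fin (2 * r)) F V, IsSquare ((-1 : F) ^ r * gdet b B)) →
      ∃ X : Submodule F V, finrank F X = r ∧ ∀ x ∈ X, ∀ y ∈ X, B x y = 0 := by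
  intro r
  induction r with
  | zero =>
    intro V _ _ _ B _ _ _ _
    refine ⟨⊥, by simp, ?_⟩
    intro x hx y _
    rw [Submodule.mem_bot] at hx
    rw [hx, map_zero, LinearMap.zero_apply]
  | succ r ih =>
    intro V _ _ _ B hS hB hV hb
    obtain ⟨b, hb⟩ := hb
    obtain ⟨x, hx0, hxx⟩ : ∃ x : V, x ≠ 0 ∧ B x x = 0 := by
      by_cases hr : r = 0
      · subst hr
        have : IsSquare (-(gdet (b : Basis (Fin 2) F V) B)) := by simpa using hb
        exact exists_isotropic_of_two B hS b this
      · exact exists_isotropic_of_three_le h2 B hS hB (by omega)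
    obtain ⟨y, hyy, hxy⟩ := exists_partner h2 B hS hB x hx0 hxx
    have hyx : B y x = 1 := by rw [hS.eq, hxy]
    have hli : LinearIndependent F ![x, y] := by
      rw [LinearIndependent.pair_iff]
      intro s t hst
      have h1 := congrArg (B x) hst
      have h2' := congrArg (B y) hst
      simp only [map_add, map_smul, smul_eq_mul, hxx, hxy, hyy, hyx, map_zero, mul_zero, mul_one,
        zero_add, add_zero] at h1 h2'
      exact ⟨h2', h1⟩
    set P : Submodule F V := Submodule.span F (Set.range ![x, y]) with hP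
    let bP : Basis (Fin 2) F P := Basis.span hli
    have hbP0 : (bP 0 : V) = x := congrArg Subtype.val (Basis.span_apply hli 0)
    have hbP1 : (bP 1 : V) = y := congrArg Subtype.val (Basis.span_apply hli 1)
    have hxP : x ∈ P := Submodule.subset_span ⟨0, rfl⟩
    have hyP : y ∈ P := Submodule.subset_span ⟨1, rfl⟩
    have hPmem : ∀ v ∈ P, ∃ s t : F, v = s • x + t • y := by
      intro v hv
      rw [hP, Submodule.mem_span_range_iff_exists_fun] at hv
      obtain ⟨c, hc⟩ := hv
      exact ⟨c 0, c 1, by rw [← hc, Fin.sum_univ_two]; rfl⟩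
    have hdisj : Disjoint P (B.orthogonal P) := by
      rw [Submodule.disjoint_def]
      intro v hvP hvO
      obtain ⟨s, t, rfl⟩ := hPmem v hvP
      have h1 : B x (s • x + t • y) = 0 := LinearMap.BilinForm.mem_orthogonal_iff.mp hvO x hxP
      have h2' : B y (s • x + t • y) = 0 := LinearMap.BilinForm.mem_orthogonal_iff.mp hvO y hyP
      simp only [map_add, map_smul, smul_eq_mul, hxx, hxy, hyy, hyx, mul_zero, mul_one,
        zero_add, add_zero] at h1 h2'
      rw [h1, h2', zero_smul, zero_smul, add_zero]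
    have hc : IsCompl P (B.orthogonal P) :=
      (LinearMap.BilinForm.isCompl_orthogonal_iff_disjoint hS.isRefl).mpr hdisj
    set W := B.orthogonal P with hWdef
    have hPdim : finrank F P = 2 := by rw [finrank_eq_card_basis bP]; simp
    have hWdim : finrank F W = 2 * r := by
      have := Submodule.finrank_add_eq_of_isCompl hc
      omega
    have hWnd : (B.restrict W).Nondegenerate := by
      apply LinearMap.BilinForm.nondegenerate_restrict_of_disjoint_orthogonal B hS.isRefl
      rw [hWdef, LinearMap.BilinForm.orthogonal_orthogonal hB hS.isRefl]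
      exact hdisj.symm
    have hWS : (B.restrict W).IsSymm := by
      refine ⟨fun a b => ?_⟩
      simp only [LinearMap.BilinForm.restrict_apply, LinearMap.domRestrict_apply]
      exact hS.eq _ _
    let bW := Module.finBasisOfFinrankEq F W hWdim
    let c : Basis (Fin 2 ⊕ Fin (2 * r)) F V :=
      (bP.prod bW).map (Submodule.prodEquivOfIsCompl P W hc)
    have hcl : ∀ i, c (Sum.inl i) = (bP i : V) := by
      intro i
      simp [c]
    have hcr : ∀ i, c (Sum.inr i) = (bW i : V) := by
      intro i
      simp [c]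
    have hPW : ∀ p ∈ P, ∀ w ∈ W, B p w = 0 := by
      intro p hp w hw
      exact LinearMap.BilinForm.mem_orthogonal_iff.mp hw p hp
    have hG : LinearMap.BilinForm.toMatrix c B = fromBlocks !![0, 1; 1, 0] 0 0
        (LinearMap.BilinForm.toMatrix bW (B.restrict W)) := by
      ext i j
      rw [LinearMap.BilinForm.toMatrix_apply]
      rcases i with i | i <;> rcases j with j | j
      · rw [hcl, hcl, fromBlocks_apply₁₁]
        fin_cases i <;> fin_cases j <;> simp [hbP0, hbP1, hxx, hxy, hyx, hyy]
      · rw [hcl, hcr, fromBlocks_apply₁₂]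
        exact hPW _ (bP i).2 _ (bW j).2
      · rw [hcr, hcl, fromBlocks_apply₂₁, hS.eq]
        exact hPW _ (bP j).2 _ (bW i).2
      · rw [hcr, hcr, fromBlocks_apply₂₂, LinearMap.BilinForm.toMatrix_apply]
        rfl
    have hdet : gdet c B = - gdet bW (B.restrict W) := by
      unfold gdet
      rw [hG, Matrix.det_fromBlocks_zero₂₁, Matrix.det_fin_two]
      simp
    obtain ⟨d, hd0, hd⟩ := gdet_sq_equiv b c B
    have hsqW : IsSquare ((-1 : F) ^ r * gdet bW (B.restrict W)) := by
      obtain ⟨s, hs⟩ := hb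
      refine ⟨d * s, ?_⟩
      have : gdet bW (B.restrict W) = - (d ^ 2 * gdet b B) := by
        rw [← hd, hdet, neg_neg]
      rw [this]
      rw [pow_succ] at hs
      linear_combination (d ^ 2) * hs
    obtain ⟨X', hX'dim, hX'ti⟩ := ih W (B.restrict W) hWS hWnd hWdim ⟨bW, hsqW⟩
    have hA : finrank F (X'.map W.subtype) = r := by
      rw [← hX'dim]
      exact (Submodule.equivMapOfInjective W.subtype W.injective_subtype X').finrank_eq.symm
    have hAW : X'.map W.subtype ≤ W := by
      rintro _ ⟨w, _, rfl⟩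
      exact w.2
    have hxs : Submodule.span F {x} ≤ P := by
      rw [Submodule.span_singleton_le_iff_mem]; exact hxP
    have hinf : X'.map W.subtype ⊓ Submodule.span F {x} = ⊥ := by
      rw [eq_bot_iff]
      intro v hv
      have := Submodule.mem_inf.mp hv
      exact (Submodule.disjoint_def.mp hdisj) v (hxs this.2) (hAW this.1)
    refine ⟨X'.map W.subtype ⊔ Submodule.span F {x}, ?_, ?_⟩
    · have h := Submodule.finrank_sup_add_finrank_inf_eq (X'.map W.subtype) (Submodule.span F {x})
      rw [hinf, finrank_bot, hA, finrank_span_singleton hx0] at h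
      omega
    · have key : ∀ u ∈ X'.map W.subtype ⊔ Submodule.span F {x}, ∃ w ∈ X', ∃ a : F,
          u = (w : V) + a • x := by
        intro u hu
        obtain ⟨u1, hu1, u2, hu2, rfl⟩ := Submodule.mem_sup.mp hu
        obtain ⟨w, hw, rfl⟩ := hu1
        obtain ⟨a, rfl⟩ := Submodule.mem_span_singleton.mp hu2
        exact ⟨w, hw, a, rfl⟩
      intro u hu u' hu'
      obtain ⟨w, hw, a, rfl⟩ := key u hu
      obtain ⟨w', hw', a', rfl⟩ := key u' hu'
      have h1 : B (w : V) (w' : V) = 0 := hX'ti w hw w' hw'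
      have h2' : B x (w' : V) = 0 := hPW x hxP _ w'.2
      have h3 : B (w : V) x = 0 := by rw [hS.eq]; exact hPW x hxP _ w.2
      simp only [map_add, map_smul, LinearMap.add_apply, LinearMap.smul_apply, smul_eq_mul, h1, h2',
        h3, hxx]
      ring

/-- (T2) -/
theorem exists_ti_of_isSquare [Fintype F] (h2 : (2 : F) ≠ 0) {V : Type v} [AddCommGroup V]
    [Module F V] [FiniteDimensional F V] (B : LinearMap.BilinForm F V) (hS : B.IsSymm)
    (hB : B.Nondegenerate) (r : ℕ) (hV : finrank F V = 2 * r)
    {ι : Type*} [Fintype ι] [DecidableEq ι] (b : Basis ι F V)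
    (hsq : IsSquare ((-1 : F) ^ r * gdet b B)) :
    ∃ X : Submodule F V, finrank F X = r ∧ ∀ x ∈ X, ∀ y ∈ X, B x y = 0 := by
  apply exists_ti_aux h2 r V B hS hB hV
  let b' := Module.finBasisOfFinrankEq F V hV
  refine ⟨b', ?_⟩
  obtain ⟨d, _, hd⟩ := gdet_sq_equiv b b' B
  obtain ⟨s, hs⟩ := hsq
  refine ⟨d * s, ?_⟩
  rw [hd]
  linear_combination (d ^ 2) * hs

end
end Cfsg.Agent.Lib.helper6.Disc
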