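import Mathlib
import Cfsg.Agent.Lib.Helper20.GLO.Defs

/-!
# Project GLO (designer helper20, block GLO-II of S2291), rows Y4 (`xrl_r1`) and Y6 (`map_xrs`, `map_xrl`) (helper6), VERBATIM vs `GLO/SkelA` (port of `helper6/GLEY4.lean`).
-/

set_option autoImplicit false

namespace Cfsg.Agent.Lib.Helper20.GLO

open Cfsg.Agent.Lib.helper3.STC (ng ab)
open Cfsg.Agent.Lib.helper3.SPM (Pts pe sgm sn sig2 ptsFin pe2)
open Cfsg.Agent.Lib.Helper27.STU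
open Cfsg.Agent.Lib.helper17.SLP (cm)
open Cfsg.Agent.Lib.Helper20.GLE (lamC lamP)

universe u v w x v' y

section main
variable {F : Type u} [Field F] [StarRing F] {L : Type x} [Group L] {ι : Type w} [Fintype ι] [DecidableEq ι] {G : Type v} [Group G]
  (S₂ : SysU F True (Fin 2) L) (swL : L) (p : Pts ι) (ν : Equiv.Perm ι →* G) (lam : L →* G)

omit [Fintype ι] [DecidableEq ι] in
theorem gloy4_lamC_apply (σ : Equiv.Perm ι) (g : L) : lamC ν lam σ g = ν σ * lam g * (ν σ)⁻¹ := rfl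

omit [Fintype ι] [DecidableEq ι] in
theorem gloy4_ab_ng (a : ι ⊕ ι) : ab (ng a) = ab a := by cases a <;> rfl

omit [Fintype ι] [DecidableEq ι] in
theorem gloy4_sn_ng (a : ι ⊕ ι) (k : Fin 2) : sn (ng a) k = ng (sn a k) := by cases a <;> rfl

omit [Fintype ι] in
/-- Y4 without `Fintype ι`. -/
theorem gloy4_r1 (a : ι ⊕ ι) :
    ∃ ρ : ↥(SUm F True) →* G, ∀ ξ, ρ (XpU ξ) = xrl S₂ p ν lam a ξ ∧ ρ (XmU ξ) = xrl S₂ p ν lam (ng a) ξ := by
  obtain ⟨ρ', hρ'⟩ := S₂.r1 (sn a 1)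
  refine ⟨(lamC ν lam (Equiv.swap p.o1 (ab a))).comp ρ', fun ξ => ⟨?_, ?_⟩⟩
  · show lamC ν lam (Equiv.swap p.o1 (ab a)) (ρ' (XpU ξ)) = _
    rw [(hρ' ξ).1]
    rfl
  · show lamC ν lam (Equiv.swap p.o1 (ab a)) (ρ' (XmU ξ)) = _
    rw [(hρ' ξ).2]
    unfold xrl
    rw [gloy4_ab_ng, gloy4_sn_ng]

/-- Y4 [S]  model GLE Y4 (`helper6/GLEY4.lean`, mechanical): the axiom `r1`: `ρ := (lamC ν lam (swap o1 (ab a))).comp ρ'` with `ρ'` from `S₂.r1 (sn a 1)`; `sn (ng a) 1 = ng (sn a 1)`, `ab (ng a) = ab a` (cases on `a`). -/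
theorem xrl_r1 (a : ι ⊕ ι) :
    ∃ ρ : ↥(SUm F True) →* G, ∀ ξ, ρ (XpU ξ) = xrl S₂ p ν lam a ξ ∧ ρ (XmU ξ) = xrl S₂ p ν lam (ng a) ξ :=
  gloy4_r1 S₂ p ν lam a

omit [Fintype ι] [DecidableEq ι] in
theorem gloy6_map_lamC {G' : Type v'} [Group G'] (f : G →* G') (σ : Equiv.Perm ι) (g : L) :
    f (lamC ν lam σ g) = lamC (f.comp ν) (f.comp lam) σ g := by
  show f (ν σ * lam g * (ν σ)⁻¹) = f (ν σ) * f (lam g) * (f (ν σ))⁻¹
  rw [map_mul, map_mul, map_inv]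

/-- Y6 [S-M]  model GLE Y6 (`helper6/GLEY4.lean`, mechanical): naturality (`xrs`, `xrl` unfold; `lamC` of a composite: `map_mul`, `map_inv`). -/
theorem map_xrs {G' : Type v'} [Group G'] (f : G →* G') (a b : ι ⊕ ι) (t : F) :
    f (xrs S₂ p ν lam a b t) = xrs S₂ p (f.comp ν) (f.comp lam) a b t :=
  gloy6_map_lamC ν lam f _ _

theorem map_xrl {G' : Type v'} [Group G'] (f : G →* G') (a : ι ⊕ ι) (ξ : Lam F True) :
    f (xrl S₂ p ν lam a ξ) = xrl S₂ p (f.comp ν) (f.comp lam) a ξ :=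
  gloy6_map_lamC ν lam f _ _

end main

end Cfsg.Agent.Lib.Helper20.GLO
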