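import Mathlib
import Cfsg.Agent.Lib.Helper20.GLO.Defs
import Cfsg.Agent.Lib.helper6.GLOYcore
import Cfsg.Agent.Lib.Helper25.GLOI3
import Cfsg.Agent.Lib.Helper9.GLOT6

/-!
# Project GLO (designer helper20, block GLO-II of S2291), row Y2 (`xr_comm_ls`) (helper6), VERBATIM vs `GLO/SkelA`:
wrapper of `gloy2_core` (`helper6.GLOYcore`) on I5 `xr_comm_ls_pair` (Helper25.GLOI3) and T7 `d3_gen` (Helper9.GLOT6).  Port of `helper6/GLEY2.lean`.
-/

set_option autoImplicit false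

namespace Cfsg.Agent.Lib.Helper20.GLO

open Cfsg.Agent.Lib.helper3.STC (ng ab)
open Cfsg.Agent.Lib.helper3.SPM (Pts pe sgm sn sig2 ptsFin pe2)
open Cfsg.Agent.Lib.Helper27.STU
open Cfsg.Agent.Lib.helper17.SLP (cm)
open Cfsg.Agent.Lib.Helper20.GLE (lamC lamP)

universe u v w x v' y

section main
variable {F : Type u} [Field F] [StarRing F] {L : Type x} [Group L] {ι : Type w} [Fintype ι] [DecidableEq ι] {G : Type v} [Group G]
  (S₂ : SysU F True (Fin 2) L) (swL : L) (p : Pts ι) (ν : Equiv.Perm ι →* G) (lam : L →* G)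

/-- Y2 [M]  model GLE Y2 (`helper6/GLEYcore.lean`, `GLEY2.lean`, mechanical): the axiom `comm_ls`.  If `ab a` is one of `ab c`, `ab d`: `xr_comm_ls_pair` for the pair `(ab c, ab d)`; otherwise `d3_gen` with `xrl_mem_LB`. -/
theorem xr_comm_ls (hF : Hyp F) (H : Glue S₂ swL p ν lam) (hU : UFacts S₂ swL) {a c d : ι ⊕ ι} (hcd : ab c ≠ ab d) (hca : c ≠ ng a) (hda : d ≠ a)
    (ξ : Lam F True) (u : F) : xrl S₂ p ν lam a ξ * xrs S₂ p ν lam c d u = xrs S₂ p ν lam c d u * xrl S₂ p ν lam a ξ :=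
  gloy2_core S₂ p ν lam
    (fun hij _ _ _ ha hc hd hcd hca hda ξ u => xr_comm_ls_pair S₂ swL p ν lam H hU hij ha hc hd hcd hca hda ξ u)
    (fun hab _ hka hkb t _ hg => d3_gen S₂ swL p ν lam hF H hU hab hka hkb t hg)
    hcd hca hda ξ u

end main

end Cfsg.Agent.Lib.Helper20.GLO
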