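import Mathlib
import Cfsg.Agent.Lib.helper8.OME.Defs
import Cfsg.Agent.Lib.helper17.OPEQCTXO
import Cfsg.Agent.Lib.helper17.OPEQPERP
import Cfsg.Agent.Lib.Helper5.OPEUSPLIT
import Cfsg.Agent.Lib.Helper5.OPEUFOUR

/-! Project OME (designer helper8), row UHYPFOUR (helper6): `x = 1 + N`, `N² = 0`, `Q ∘ N = 0`, at most two Jordan blocks of size 1:
every invariant nondegenerate `W` with `4 ∣ dim W` is hyperbolic (on helper5's `u_split`, `opeufour_even` and helper17's `q_perp`). -/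

set_option autoImplicit false

namespace Cfsg.Agent.Lib.helper8.OME

open Polynomial Module Cfsg.Agent.Lib.Helper13.S5955 Cfsg.Agent.Lib.helper15.S5972
  Cfsg.Agent.Lib.Helper18.OPE
open scoped Matrix

theorem u_hyp_four {F : Type*} [Field F] [Fintype F]
    {V : Type*} [AddCommGroup V] [Module F V] [FiniteDimensional F V] {r : ℕ} (hr : 0 < r)
    {Q : QuadraticForm F V} {x : Module.End F V} (h : QCtx r Q x)
    (hNN : (x - 1) * (x - 1) = 0) (hQN : ∀ v, Q ((x - 1) v) = 0)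
    (hδ : finrank F (LinearMap.ker (x - 1)) ≤ finrank F (LinearMap.range (x - 1)) + 2)
    (W : Submodule F V) (hW : SInv x W) (hWnd : SND (QuadraticMap.polarBilin Q) W)
    (h4 : 4 ∣ finrank F W) : QHyp Q W := by
  obtain ⟨hW'inv, hW'nd, hcompl, horth, hdim⟩ := q_perp hr h W hW hWnd
  have hNW : ∀ v ∈ W, (x - 1) v ∈ W := by
    intro v hv
    rw [LinearMap.sub_apply, Module.End.one_apply]
    exact W.sub_mem (hW v hv) hv
  have hNW' : ∀ v ∈ LinearMap.BilinForm.orthogonal (QuadraticMap.polarBilin Q) W,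
      (x - 1) v ∈ LinearMap.BilinForm.orthogonal (QuadraticMap.polarBilin Q) W := by
    intro v hv
    rw [LinearMap.sub_apply, Module.End.one_apply]
    exact Submodule.sub_mem _ (hW'inv v hv) hv
  obtain ⟨h1, h2, h3, h4'⟩ := u_split (x - 1) hNN W _ hNW hNW' hcompl
  obtain ⟨h1', h2', -, -⟩ := u_split (x - 1) hNN _ W hNW' hNW hcompl.symm
  obtain ⟨t, ht⟩ := opeufour_even h hQN W hW hWnd
  obtain ⟨s, hs⟩ := h4
  have hUW : W.map (x - 1) ≤ W := by
    rintro _ ⟨v, hv, rfl⟩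
    exact hNW v hv
  have hUQ : ∀ u ∈ W.map (x - 1), Q u = 0 := by
    rintro _ ⟨v, hv, rfl⟩
    exact hQN v
  exact ⟨W.map (x - 1), hUW, hUQ, by omega⟩

end Cfsg.Agent.Lib.helper8.OME
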