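import Mathlib
import Cfsg.Prelude.Def_GeometricClasses
import Cfsg.Agent.Lib.Helper27.ASC.Defs

/-!
# ASC piece PR3 : `SL_n(F)` (n ≥ 3) does not normalise a field subalgebra of degree ≥ 2
-/

set_option autoImplicit false
set_option linter.unusedVariables false

namespace Cfsg.Agent.Lib.Helper27.ASC

open Cfsg Cfsg.Geo
open scoped MatrixGroups Matrix

variable {n : ℕ} {F : Type*} [Field F] [Fintype F]

theorem ascpr3_single_mulVec (i j : Fin n) (w : Fin n → F) :
    Matrix.single i j (1 : F) *ᵥ w = fun l => if l = i then w j else 0 := by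
  ext l
  by_cases h : l = i
  · subst h
    simp [Matrix.mulVec, dotProduct, Matrix.single_apply]
  · have h' : ¬ i = l := fun e => h e.symm
    simp [Matrix.mulVec, dotProduct, Matrix.single_apply, h, h']

/-- a matrix of the shape `E k - k E` with `E = single i j 1` kills a non-zero vector when `n ≥ 3` -/
theorem ascpr3_det_zero (hn : 3 ≤ n) (i j : Fin n) (k : Matrix (Fin n) (Fin n) F) :
    (Matrix.single i j (1 : F) * k - k * Matrix.single i j (1 : F)).det = 0 := by
  classical
  rw [← Matrix.exists_mulVec_eq_zero_iff]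
  let f : (Fin n → F) →ₗ[F] (Fin 2 → F) :=
    { toFun := fun v => ![v j, (k *ᵥ v) j]
      map_add' := by
        intro v w
        ext s
        fin_cases s <;> simp [Matrix.mulVec_add]
      map_smul' := by
        intro c v
        ext s
        fin_cases s <;> simp [Matrix.mulVec_smul] }
  have hker : LinearMap.ker f ≠ ⊥ := by
    apply LinearMap.ker_ne_bot_of_finrank_lt
    simp only [Module.finrank_fintype_fun_eq_card, Fintype.card_fin]
    omega
  obtain ⟨v, hv, hv0⟩ := (Submodule.ne_bot_iff _).mp hker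
  refine ⟨v, hv0, ?_⟩
  have hfv : f v = 0 := hv
  have h1 : v j = 0 := by
    have := congrFun hfv 0
    simpa [f] using this
  have h2 : (k *ᵥ v) j = 0 := by
    have := congrFun hfv 1
    simpa [f] using this
  rw [Matrix.sub_mulVec, ← Matrix.mulVec_mulVec, ← Matrix.mulVec_mulVec, ascpr3_single_mulVec,
    ascpr3_single_mulVec, h1, h2]
  have hz : (fun _ : Fin n => (0 : F)) = 0 := rfl
  ext l
  simp [hz]

theorem ascpr3_commute (hn : 3 ≤ n) {d : ℕ} (K : Subalgebra F (Matrix (Fin n) (Fin n) F))
    (hK : IsFieldSubalgebra d K) (hSL : specialLinear (Fin n) F ≤ subalgebraNormalizer K)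
    (k : Matrix (Fin n) (Fin n) F) (hk : k ∈ K) (i j : Fin n) (hij : i ≠ j) :
    Commute (Matrix.single i j (1 : F)) k := by
  classical
  by_contra hne
  have hdet : (Matrix.transvection i j (1 : F)).det = 1 := Matrix.det_transvection_of_ne i j hij 1
  let t : GL (Fin n) F := Matrix.GeneralLinearGroup.mkOfDetNeZero (Matrix.transvection i j (1 : F))
    (by rw [hdet]; exact one_ne_zero)
  have ht : (t : Matrix (Fin n) (Fin n) F) = Matrix.transvection i j (1 : F) := rfl
  have htSL : t ∈ specialLinear (Fin n) F := by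
    show t ∈ (Matrix.GeneralLinearGroup.det : GL (Fin n) F →* Fˣ).ker
    rw [MonoidHom.mem_ker]
    apply Units.ext
    rw [Matrix.GeneralLinearGroup.val_det_apply, ht, hdet]
    rfl
  have htN := hSL htSL
  have hmem : (t : Matrix (Fin n) (Fin n) F) * k * ((t⁻¹ : GL (Fin n) F) : Matrix (Fin n) (Fin n) F) ∈ K :=
    (htN k).1 hk
  set δ : Matrix (Fin n) (Fin n) F :=
    (t : Matrix (Fin n) (Fin n) F) * k * ((t⁻¹ : GL (Fin n) F) : Matrix (Fin n) (Fin n) F) - k with hδ
  have hδK : δ ∈ K := K.sub_mem hmem hk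
  have hinv : ((t⁻¹ : GL (Fin n) F) : Matrix (Fin n) (Fin n) F) * (t : Matrix (Fin n) (Fin n) F) = 1 := by
    rw [← Units.val_mul, inv_mul_cancel, Units.val_one]
  have hδt : δ * (t : Matrix (Fin n) (Fin n) F) =
      Matrix.single i j (1 : F) * k - k * Matrix.single i j (1 : F) := by
    rw [hδ, sub_mul, mul_assoc, hinv, mul_one, ht, Matrix.transvection]
    rw [add_mul, mul_add, one_mul, mul_one]
    abel
  have hδ0 : δ ≠ 0 := by
    intro h0
    apply hne
    have : Matrix.single i j (1 : F) * k - k * Matrix.single i j (1 : F) = 0 := by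
      rw [← hδt, h0, zero_mul]
    exact sub_eq_zero.mp this
  obtain ⟨y, hyK, hy⟩ := hK.inv δ hδK hδ0
  have hdδ : δ.det ≠ 0 := by
    intro h0
    have := congrArg Matrix.det hy
    rw [Matrix.det_mul, h0, zero_mul, Matrix.det_one] at this
    exact zero_ne_one this
  have hz := ascpr3_det_zero hn i j k
  rw [← hδt, Matrix.det_mul, ht, hdet, mul_one] at hz
  exact hdδ hz

/-- PR3 -/
theorem pr_field (hn : 3 ≤ n) {d : ℕ} (hd : 2 ≤ d) (K : Subalgebra F (Matrix (Fin n) (Fin n) F))
    (hK : IsFieldSubalgebra d K) : ¬ specialLinear (Fin n) F ≤ subalgebraNormalizer K := by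
  classical
  intro hSL
  have : NeZero n := ⟨by omega⟩
  have hKbot : K ≤ ⊥ := by
    intro k hk
    have h := Matrix.mem_range_scalar_of_commute_single (M := k)
      (fun i j hij => ascpr3_commute hn K hK hSL k hk i j hij)
    obtain ⟨c, rfl⟩ := h
    rw [Algebra.mem_bot]
    exact ⟨c, by simp [Matrix.algebraMap_eq_diagonal, Matrix.scalar_apply]⟩
  have hKeq : K = ⊥ := le_bot_iff.mp hKbot
  have h1 : Module.finrank F K = 1 := by
    rw [hKeq]
    exact Subalgebra.finrank_bot
  rw [hK.finrank_eq] at h1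
  omega

end Cfsg.Agent.Lib.Helper27.ASC
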