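import Cfsg.Agent.Lib.Lead.ASCU.Defs
import Cfsg.Agent.Lib.Helper28.UHerm

/-!
# Project ASCU, piece UPR6 : `SU_r(q)` does not normalise an extraspecial-type `r`-group `R` of order `r ^ 3`

Rank trick: a unitary transvection `t = 1 + N` (`N` of rank one) normalising `R` has, for `x ∈ R`,
`x' = t x t⁻¹`, `y = x⁻¹ x' ∈ R` and `x (1 - y) = x - x' = x' N - N x` of rank at most two.  A central `y ≠ 1` is a
scalar `≠ 1` (rank `r`); for a non-central `y` some `g ∈ R` has `g y g⁻¹ = ω y` with a scalar `ω ≠ 1`, and then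
`(ω - 1) • 1 = ω • (1 - y) - (1 - ω y)` has rank at most four.  So `t` centralises `R`, hence is a scalar: absurd.
-/

set_option autoImplicit false
set_option linter.unusedVariables false
set_option linter.unusedSectionVars false

namespace Cfsg.Agent.Lib.Lead.ASCU

open Cfsg Cfsg.Geo Cfsg.Agent.Lib.Helper27.ASC
open scoped MatrixGroups Matrix

variable {n : ℕ} {F : Type*} [Field F] [Fintype F]

theorem ascuupr6_rank_add_le (A B : Matrix (Fin n) (Fin n) F) :
    (A + B).rank ≤ A.rank + B.rank := by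
  unfold Matrix.rank
  rw [Matrix.mulVecLin_add]
  refine le_trans (Submodule.finrank_mono (LinearMap.range_add_le _ _)) ?_
  exact Submodule.finrank_add_le_finrank_add_finrank _ _

theorem ascuupr6_rank_scalar (c : F) (hc : c ≠ 0) :
    (c • (1 : Matrix (Fin n) (Fin n) F)).rank = n := by
  have h : (c • (1 : Matrix (Fin n) (Fin n) F)).det ≠ 0 := by
    rw [Matrix.det_smul, Matrix.det_one, mul_one]
    exact pow_ne_zero _ hc
  rw [Matrix.rank_of_det_ne_zero h, Fintype.card_fin]

/-- in a group of order `r ^ 3` with centre of order `r` all commutators are central -/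
theorem ascuupr6_comm_central {G : Type*} [Group G] {r : ℕ} (hr : r.Prime)
    (hc : Nat.card G = r ^ 3) (hz : Nat.card (Subgroup.center G) = r) (a b : G) :
    a * b * a⁻¹ * b⁻¹ ∈ Subgroup.center G := by
  haveI : Fact r.Prime := ⟨hr⟩
  have h1 := Subgroup.card_eq_card_quotient_mul_card_subgroup (Subgroup.center G)
  rw [hc, hz] at h1
  have h2 : Nat.card (G ⧸ Subgroup.center G) = r ^ 2 := by
    have hr0 : 0 < r := hr.pos
    have : r ^ 2 * r = Nat.card (G ⧸ Subgroup.center G) * r := by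
      rw [← h1]
      ring
    exact (Nat.eq_of_mul_eq_mul_right hr0 this).symm
  have hab := IsPGroup.commutative_of_card_eq_prime_sq h2
  rw [← QuotientGroup.eq_one_iff]
  simp only [QuotientGroup.mk_mul, QuotientGroup.mk_inv]
  rw [hab (a : G ⧸ Subgroup.center G) (b : G ⧸ Subgroup.center G)]
  group

/-- key: an element `y` of `R` with `rank (1 - y) ≤ 2` is `1` -/
theorem ascuupr6_key {r : ℕ} (hr : r.Prime) (hr5 : 5 ≤ r) (R : Subgroup (GL (Fin r) F))
    (hA : AbsIrr R) (hc : Nat.card R = r ^ 3) (hz : Nat.card (Subgroup.center R) = r)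
    (y : GL (Fin r) F) (hy : y ∈ R)
    (hrank : ((1 : Matrix (Fin r) (Fin r) F) - (y : Matrix (Fin r) (Fin r) F)).rank ≤ 2) :
    y = 1 := by
  classical
  set Y : Matrix (Fin r) (Fin r) F := (y : Matrix (Fin r) (Fin r) F) with hY
  by_cases hcent : ∀ g ∈ R, g * y = y * g
  · -- central: a scalar
    obtain ⟨c, hcY⟩ := hA.2 Y (by
      rintro s ⟨g, hg, rfl⟩
      have := congrArg (fun u : GL (Fin r) F => (u : Matrix (Fin r) (Fin r) F)) (hcent g hg)
      simp only [Units.val_mul] at this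
      exact this.symm)
    by_cases hc1 : c = 1
    · apply Units.ext
      rw [← hY, hcY, hc1, one_smul]
      rfl
    · exfalso
      have h1 : (1 : Matrix (Fin r) (Fin r) F) - Y = (1 - c) • (1 : Matrix (Fin r) (Fin r) F) := by
        rw [hcY, sub_smul, one_smul]
      rw [h1, ascuupr6_rank_scalar (1 - c) (sub_ne_zero.mpr (Ne.symm hc1))] at hrank
      omega
  · -- not central
    exfalso
    push Not at hcent
    obtain ⟨g, hg, hgy⟩ := hcent
    have hzc := ascuupr6_comm_central hr hc hz (⟨g, hg⟩ : R) (⟨y, hy⟩ : R)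
    rw [Subgroup.mem_center_iff] at hzc
    set z : GL (Fin r) F := g * y * g⁻¹ * y⁻¹ with hzdef
    have hzcomm : ∀ h ∈ R, h * z = z * h := by
      intro h hh
      have := congrArg Subtype.val (hzc ⟨h, hh⟩)
      simpa using this
    obtain ⟨ω, hω⟩ := hA.2 (z : Matrix (Fin r) (Fin r) F) (by
      rintro s ⟨h, hh, rfl⟩
      have := congrArg (fun u : GL (Fin r) F => (u : Matrix (Fin r) (Fin r) F)) (hzcomm h hh)
      simp only [Units.val_mul] at this
      exact this.symm)
    have hω1 : ω ≠ 1 := by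
      intro h1
      apply hgy
      have hz1 : z = 1 := by
        apply Units.ext
        rw [hω, h1, one_smul]
        rfl
      have : g * y * g⁻¹ * y⁻¹ = 1 := hz1
      calc g * y = (g * y * g⁻¹ * y⁻¹) * (y * g) := by group
        _ = y * g := by rw [this, one_mul]
    -- `g y g⁻¹ = ω y`
    set G : Matrix (Fin r) (Fin r) F := (g : Matrix (Fin r) (Fin r) F) with hG
    set Gi : Matrix (Fin r) (Fin r) F := ((g⁻¹ : GL (Fin r) F) : Matrix (Fin r) (Fin r) F) with hGi
    have hGGi : G * Gi = 1 := by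
      rw [hG, hGi, ← Units.val_mul, mul_inv_cancel]
      rfl
    have hconj : G * Y * Gi = ω • Y := by
      have h1 : g * y * g⁻¹ = z * y := by
        rw [hzdef]
        group
      have h2 := congrArg (fun u : GL (Fin r) F => (u : Matrix (Fin r) (Fin r) F)) h1
      simp only [Units.val_mul] at h2
      rw [hω] at h2
      rw [← hY, ← hG, ← hGi] at h2
      rw [h2, Matrix.smul_mul, Matrix.one_mul]
    have hr1 : ((1 : Matrix (Fin r) (Fin r) F) - ω • Y).rank ≤ 2 := by
      have h3 : (1 : Matrix (Fin r) (Fin r) F) - ω • Y = G * ((1 - Y) * Gi) := by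
        rw [← hconj, sub_mul, one_mul, mul_sub, hGGi, ← mul_assoc]
      rw [h3]
      exact le_trans (Matrix.rank_mul_le_right _ _) (le_trans (Matrix.rank_mul_le_left _ _) hrank)
    have h4 : (ω - 1) • (1 : Matrix (Fin r) (Fin r) F) =
        (ω • (1 : Matrix (Fin r) (Fin r) F)) * (1 - Y) +
          ((-1 : F) • (1 : Matrix (Fin r) (Fin r) F)) * (1 - ω • Y) := by
      rw [Matrix.smul_mul, Matrix.smul_mul, Matrix.one_mul, Matrix.one_mul, smul_sub, smul_sub,
        sub_smul, one_smul, neg_one_smul, neg_one_smul]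
      abel
    have h5 := ascuupr6_rank_scalar (n := r) (ω - 1) (sub_ne_zero.mpr hω1)
    rw [h4] at h5
    have h6 := ascuupr6_rank_add_le ((ω • (1 : Matrix (Fin r) (Fin r) F)) * (1 - Y))
      (((-1 : F) • (1 : Matrix (Fin r) (Fin r) F)) * (1 - ω • Y))
    have h7 := Matrix.rank_mul_le_right (ω • (1 : Matrix (Fin r) (Fin r) F)) (1 - Y)
    have h8 := Matrix.rank_mul_le_right ((-1 : F) • (1 : Matrix (Fin r) (Fin r) F)) (1 - ω • Y)
    omega

/-- a unitary transvection in `SU_r(q)`, `r ≥ 5` -/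
theorem ascuupr6_transv {r : ℕ} (hr5 : 5 ≤ r) (q : ℕ) (hF : Fintype.card F = q ^ 2) :
    ∃ (t : GL (Fin r) F) (N : Matrix (Fin r) (Fin r) F), t ∈ SUg r F q ∧
      (t : Matrix (Fin r) (Fin r) F) = 1 + N ∧ N.rank ≤ 1 ∧ N ≠ 0 := by
  classical
  obtain ⟨σ, hσ, hf⟩ := Cfsg.Agent.Lib.Helper28.UHerm.herm_unitary hF r
  set f := Cfsg.hermForm r F q with hfdef
  let e0 : Fin r → F := Pi.single (⟨0, by omega⟩ : Fin r) 1
  have he0 : e0 ≠ 0 := by
    intro h
    have := congrFun h (⟨0, by omega⟩ : Fin r)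
    simp [e0] at this
  have hx : LinearIndependent F (fun _ : Fin 1 => e0) := by
    rw [linearIndependent_unique_iff]
    exact he0
  obtain ⟨z, hz0, hzx⟩ := Cfsg.Agent.Lib.Helper28.UForm.exists_iso hf (fun _ : Fin 1 => e0) hx
    (fun _ => (1 : F)) (by omega)
  have hze : f z e0 = 1 := hzx 0
  obtain ⟨c, hc0, hc⟩ := Cfsg.Agent.Lib.Helper28.UForm.exists_K0 hf
  have h0 : f z (c • z) = 0 := by
    rw [Cfsg.Agent.Lib.Helper28.UForm.f_smul_right hf, hz0, mul_zero]
  obtain ⟨t, htSL, ht⟩ := Cfsg.Agent.S5643.tvGL hf z (c • z) h0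
  have htGU : t ∈ GU r F q :=
    (mem_GU_iff q t).mpr (Cfsg.Agent.S5643.utv_iso hf z hz0 c hc t ht)
  set ρ : Fin r → F := Cfsg.Agent.Lib.Helper28.UForm.rho f (c • z) with hρ
  refine ⟨t, Matrix.vecMulVec z ρ, ⟨htGU, htSL⟩, ?_, Matrix.rank_vecMulVec_le _ _, ?_⟩
  · apply Matrix.ext_of_mulVec_single
    intro i
    rw [ht, Matrix.add_mulVec, Matrix.one_mulVec, Matrix.vecMulVec_mulVec, op_smul_eq_smul,
      Cfsg.Agent.Lib.Helper28.UForm.f_eq_dot hf]
  · have hz_ne : z ≠ 0 := by
      intro h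
      rw [h, Cfsg.Agent.Lib.Helper28.UForm.f_zero_left hf] at hze
      exact zero_ne_one hze
    have hρe : ρ ⬝ᵥ e0 = -c := by
      rw [hρ, ← Cfsg.Agent.Lib.Helper28.UForm.f_eq_dot hf,
        Cfsg.Agent.Lib.Helper28.UForm.f_smul_right hf, hf.herm e0 z, hze, map_one, mul_one, hc]
    intro hN
    have h1 : Matrix.vecMulVec z ρ *ᵥ e0 = 0 := by rw [hN, Matrix.zero_mulVec]
    rw [Matrix.vecMulVec_mulVec, op_smul_eq_smul, hρe] at h1
    rcases smul_eq_zero.mp h1 with h | h
    · exact hc0 (neg_eq_zero.mp h)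
    · exact hz_ne h

/-- UPR6 -/
theorem upr_sympl_type {r : ℕ} (hr : r.Prime) (hr5 : 5 ≤ r) (q : ℕ) (hF : Fintype.card F = q ^ 2)
    (R : Subgroup (GL (Fin r) F)) (hRU : R ≤ GU r F q) (hA : AbsIrr R) (hc : Nat.card R = r ^ 3)
    (hz : Nat.card (Subgroup.center R) = r) (hω : ∃ ω : F, ω ≠ 1 ∧ ω ^ r = 1) :
    ¬ SUg r F q ≤ subgroupNormalizer R := by
  classical
  intro hSU
  obtain ⟨t, N, htSU, htN, hNrank, hN0⟩ := ascuupr6_transv (F := F) hr5 q hF
  have htnorm : t ∈ Subgroup.normalizer (R : Set (GL (Fin r) F)) := hSU htSU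
  have hcomm : ∀ x ∈ R, t * x = x * t := by
    intro x hx
    have hx' : t * x * t⁻¹ ∈ R := (Subgroup.mem_normalizer_iff.mp htnorm x).1 hx
    have hyR : x⁻¹ * (t * x * t⁻¹) ∈ R := R.mul_mem (R.inv_mem hx) hx'
    set X : Matrix (Fin r) (Fin r) F := (x : Matrix (Fin r) (Fin r) F) with hX
    set Xi : Matrix (Fin r) (Fin r) F := ((x⁻¹ : GL (Fin r) F) : Matrix (Fin r) (Fin r) F) with hXi
    set X' : Matrix (Fin r) (Fin r) F := ((t * x * t⁻¹ : GL (Fin r) F) : Matrix (Fin r) (Fin r) F)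
      with hX'
    have hXiX : Xi * X = 1 := by
      rw [hX, hXi, ← Units.val_mul, inv_mul_cancel]
      rfl
    have h1 : (1 + N) * X = X' * (1 + N) := by
      have h3 : (t : Matrix (Fin r) (Fin r) F) * X = X' * (t : Matrix (Fin r) (Fin r) F) := by
        rw [hX, hX', ← Units.val_mul, ← Units.val_mul]
        congr 1
        group
      rw [htN] at h3
      exact h3
    have h4 : X - X' = X' * N + N * (-X) := by
      have h5 : X + N * X = X' + X' * N := by
        rw [add_mul, one_mul, mul_add, mul_one] at h1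
        exact h1
      rw [Matrix.mul_neg]
      have : X - X' = X' * N - N * X := by
        rw [sub_eq_sub_iff_add_eq_add]
        rw [h5]
        abel
      rw [this]
      abel
    have hrank : ((1 : Matrix (Fin r) (Fin r) F) -
        ((x⁻¹ * (t * x * t⁻¹) : GL (Fin r) F) : Matrix (Fin r) (Fin r) F)).rank ≤ 2 := by
      have h6 : (1 : Matrix (Fin r) (Fin r) F) -
          ((x⁻¹ * (t * x * t⁻¹) : GL (Fin r) F) : Matrix (Fin r) (Fin r) F) = Xi * (X - X') := by
        rw [Units.val_mul, mul_sub, hXiX]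
      rw [h6, h4]
      refine le_trans (Matrix.rank_mul_le_right _ _) (le_trans (ascuupr6_rank_add_le _ _) ?_)
      have h7 := Matrix.rank_mul_le_right X' N
      have h8 := Matrix.rank_mul_le_left N (-X)
      omega
    have hy1 := ascuupr6_key hr hr5 R hA hc hz _ hyR hrank
    calc t * x = x * (x⁻¹ * (t * x * t⁻¹)) * t := by group
      _ = x * t := by rw [hy1, mul_one]
  obtain ⟨c, hcT⟩ := hA.2 (t : Matrix (Fin r) (Fin r) F) (by
    rintro s ⟨x, hx, rfl⟩
    have := congrArg (fun u : GL (Fin r) F => (u : Matrix (Fin r) (Fin r) F)) (hcomm x hx)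
    simp only [Units.val_mul] at this
    exact this)
  have hNc : N = (c - 1) • (1 : Matrix (Fin r) (Fin r) F) := by
    rw [htN] at hcT
    rw [sub_smul, one_smul, ← hcT]
    abel
  by_cases hc1 : c = 1
  · apply hN0
    rw [hNc, hc1, sub_self, zero_smul]
  · rw [hNc, ascuupr6_rank_scalar (c - 1) (sub_ne_zero.mpr hc1)] at hNrank
    omega

end Cfsg.Agent.Lib.Lead.ASCU
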