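import Mathlib
import Cfsg.Agent.Lib.helper6.CEB.Defs
import Cfsg.Agent.Lib.helper7.CEDS5
import Cfsg.Agent.Lib.Helper24.STCI1

/-!
# CEB G4 (helper6): `sys_eqv` — a lift of the long root part is unique, hence equivariant.  VERBATIM row of `helper6/CEB/Skel.lean.txt`.

Extras: `cebg4_unique` (two lifts of the long root part agree on the roots), `cebg4_eq_cm`.
-/

set_option autoImplicit false

namespace Cfsg.Agent.Lib.helper6.CEB

open Cfsg.Agent.Lib.helper15.St2 Cfsg.Agent.Lib.helper7.Ce Cfsg.Agent.Lib.helper3.STC Cfsg.Agent.Lib.Lead.STD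
  Cfsg.Agent.Lib.helper7.CED Cfsg.Agent.Lib.Lead.STB
open Cfsg.Agent.Lib.helper7.CEC (I2 I3 I4 U3)

universe v w w'

section G

variable {K : Type*} [Field K] {ι : Type*} {Γ G : Type*} [Group Γ] [Group G] {S : SysB K ι G} {σ : Γ →* G}

/-- a root element of a lifted system is the commutator of ANY lifts of `x a c t` and `x c b u` -/
theorem cebg4_eq_cm (h : IsCE σ) (P : SysD K ι Γ) (hP : ∀ a b t, σ (P.x a b t) = S.x a b t) {a c b : ι ⊕ ι}
    (hac : ab a ≠ ab c) (hcb : ab c ≠ ab b) (hab : ab a ≠ ab b) (t u : K) {p q : Γ} (hp : σ p = S.x a c t) (hq : σ q = S.x c b u) :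
    cm p q = P.x a b (t * u) := by
  have e := P.comm3 a c b (ceds5_ne hac) (ceds5_ne' hac) (ceds5_ne hcb) (ceds5_ne' hcb) (ceds5_ne hab) (ceds5_ne' hab) t u
  rw [← e]
  exact h.cm_congr (by rw [hp, hP]) (by rw [hq, hP])

/-- two lifts of the long root part agree -/
theorem cebg4_unique (h : IsCE σ) (h3 : I3 ι) (P P' : SysD K ι Γ) (hP : ∀ a b t, σ (P.x a b t) = S.x a b t)
    (hP' : ∀ a b t, σ (P'.x a b t) = S.x a b t) {a b : ι ⊕ ι} (hab : ab a ≠ ab b) (t : K) : P.x a b t = P'.x a b t := by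
  obtain ⟨c, hca, hcb⟩ := h3 a b
  have h1 := cebg4_eq_cm h P hP (Ne.symm hca) hcb hab t 1 (hP' a c t) (hP' c b 1)
  have h2 := cebg4_eq_cm h P' hP' (Ne.symm hca) hcb hab t 1 (hP' a c t) (hP' c b 1)
  rw [mul_one] at h1 h2
  rw [← h1, ← h2]

/-- G4 [M]  **a lift of the long root part is unique, hence equivariant** under the lifts of the monomial elements whose permutation commutes with `ng`. -/
theorem sys_eqv (h : IsCE σ) (h3 : I3 ι) (P : SysD K ι Γ) (hP : ∀ a b t, σ (P.x a b t) = S.x a b t)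
    {g : G} {π : Equiv.Perm (ι ⊕ ι)} {d : ι ⊕ ι → K} (hg : S.toSysD.IsMon g π d) (hπ : ∀ k, π (ng k) = ng (π k))
    {e : Γ} (he : σ e = g) {a b : ι ⊕ ι} (hab : ab a ≠ ab b) (t : K) :
    cj e (P.x a b t) = P.x (π a) (π b) (d a * (d b)⁻¹ * t) := by
  obtain ⟨c, hca, hcb⟩ := h3 a b
  have hac : ab a ≠ ab c := Ne.symm hca
  -- images have pairwise different `ab`
  have key : ∀ {x y : ι ⊕ ι}, ab x ≠ ab y → ab (π x) ≠ ab (π y) := by
    intro x y hxy hcon
    rcases ab_eq_iff.1 hcon with e1 | e1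
    · exact ceds5_ne hxy (π.injective e1)
    · rw [← hπ] at e1
      exact ceds5_ne' hxy (π.injective e1)
  have e1 : P.x a b t = cm (P.x a c t) (P.x c b 1) := by
    have := cebg4_eq_cm h P hP hac hcb hab t 1 (hP a c t) (hP c b 1)
    rw [mul_one] at this
    exact this.symm
  have hp : σ (cj e (P.x a c t)) = S.x (π a) (π c) (d a * (d c)⁻¹ * t) := by
    rw [map_cj, he, hP]
    exact hg.2 a c (ceds5_ne hac) t
  have hq : σ (cj e (P.x c b 1)) = S.x (π c) (π b) (d c * (d b)⁻¹ * 1) := by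
    rw [map_cj, he, hP]
    exact hg.2 c b (ceds5_ne hcb) 1
  rw [e1, cj_cm, cebg4_eq_cm h P hP (key hac) (key hcb) (key hab) _ _ hp hq]
  congr 1
  have hc0 : d c ≠ 0 := hg.1 c
  field_simp

end G

end Cfsg.Agent.Lib.helper6.CEB
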