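import Mathlib
import Cfsg.Agent.Lib.helper6.CEB.Defs
import Cfsg.Agent.Lib.helper7.CEDS5
import Cfsg.Agent.Lib.Helper24.STCI1
import Cfsg.Agent.Lib.Helper22.CECG1
import Cfsg.Agent.Lib.Helper5.CEDG2
import Cfsg.Agent.Lib.Helper16.STDX2
import Cfsg.Agent.Lib.helper6.STDW14
import Cfsg.Agent.Lib.helper6.STBW9
import Cfsg.Agent.Lib.Helper1.STBW12
import Cfsg.Agent.Lib.Helper20.STBH2

/-!
# CEB Z5 Z6 Z7 cores (helper6): `Ds_scale`, `Ds_swap`, `Ds_eq_Xsh` on the STATEMENTS of Z3 (`Ds_map`, `Ds_zero`) and Z4 (`Ds_cj`).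
-/

set_option autoImplicit false

namespace Cfsg.Agent.Lib.helper6.CEB

open Cfsg.Agent.Lib.helper15.St2 Cfsg.Agent.Lib.helper7.Ce Cfsg.Agent.Lib.helper3.STC Cfsg.Agent.Lib.Lead.STD
  Cfsg.Agent.Lib.helper7.CED Cfsg.Agent.Lib.Lead.STB
open Cfsg.Agent.Lib.helper7.CEC (I2 I3 I4 U3)

universe v w w'

section Z

variable {K : Type*} [Field K] {ι : Type*} {Γ G : Type*} [Group Γ] [Group G] {S : SysB K ι G} {σ : Γ →* G}

/-- Z5 core -/
theorem cebz5_scale_core [DecidableEq ι] [Finite K] (h : IsCE σ) (hCs : HCs S σ) (h3 : I3 ι) (P : SysD K ι Γ)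
    (hmap : ∀ {a b : ι ⊕ ι}, ab a ≠ ab b → ∀ t u : K, σ (Ds S h P a b t u) = S.xs a (t * u))
    (hzero : ∀ {a b : ι ⊕ ι}, ab a ≠ ab b → ∀ t u : K, Ds S h P a b 0 u = 1 ∧ Ds S h P a b t 0 = 1)
    (hcj : ∀ {g : G} {π : Equiv.Perm (ι ⊕ ι)} {d : ι ⊕ ι → K} {d0 : K}, S.IsMon g π d d0 → ∀ {e : Γ}, σ e = g →
      ∀ {a b : ι ⊕ ι}, ab a ≠ ab b → ∀ t u : K,
        cj e (Ds S h P a b t u) = Ds S h P (π a) (π b) (d a * (d b)⁻¹ * t) (d b * d0 * u))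
    {a b : ι ⊕ ι} (hab : ab a ≠ ab b) (t u : K) :
    Ds S h P a b t u = Ds S h P a b (t * u) 1 := by
  by_cases hu : u = 0
  · subst hu
    rw [(hzero hab t 0).2, mul_zero, (hzero hab 0 1).1]
  obtain ⟨c, hca, hcb⟩ := h3 a b
  have hg := S.isMon_h (ceds5_ne hcb) (ceds5_ne' hcb) u hu
  have he : σ (lf h (S.h c b u)) = S.h c b u := map_lf h _
  have h1 := hcj hg he hab t u
  have hCL : CL σ (S.h c b u) (S.xs a (t * u)) := by
    refine CL_h (S := S.toSysD) h (fun t' => ?_) (fun t' => ?_) u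
    · exact (hCs a c b (ceds5_ne hcb) (ceds5_ne' hcb) (ceds5_ne hab).symm (ceds5_ne' hca) (t * u) t').symm
    · exact (hCs a b c (ceds5_ne hcb).symm (ceds5_ne'' hcb) (ceds5_ne hca) (ceds5_ne'' hab) (t * u) t').symm
  have h2 : cj (lf h (S.h c b u)) (Ds S h P a b t u) = Ds S h P a b t u :=
    Cfsg.Agent.Lib.helper7.CEC.cj_eq_of_CL hCL he (hmap hab t u)
  rw [h2] at h1
  have d1 : dhs c b u a = 1 :=
    stbw9_dhs_of_ne (ceds5_ne hca).symm (ceds5_ne hab) (ceds5_ne'' hca) (ceds5_ne' hab) u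
  have d2 : dhs c b u b = u⁻¹ := stbw9_dhs_b (ceds5_ne hcb) u
  rw [Equiv.Perm.one_apply, Equiv.Perm.one_apply, d1, d2] at h1
  have e1 : (1 : K) * (u⁻¹)⁻¹ * t = t * u := by rw [inv_inv]; ring
  have e2 : u⁻¹ * 1 * u = 1 := by field_simp
  rw [e1, e2] at h1
  exact h1

/-- Z6 core -/
theorem cebz6_swap_core [DecidableEq ι] [Finite K] (h : IsCE σ) (hCs : HCs S σ) (P : SysD K ι Γ)
    (hmap : ∀ {a b : ι ⊕ ι}, ab a ≠ ab b → ∀ t u : K, σ (Ds S h P a b t u) = S.xs a (t * u))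
    (hscale : ∀ {a b : ι ⊕ ι}, ab a ≠ ab b → ∀ t u : K, Ds S h P a b t u = Ds S h P a b (t * u) 1)
    (hcj : ∀ {g : G} {π : Equiv.Perm (ι ⊕ ι)} {d : ι ⊕ ι → K} {d0 : K}, S.IsMon g π d d0 → ∀ {e : Γ}, σ e = g →
      ∀ {a b : ι ⊕ ι}, ab a ≠ ab b → ∀ t u : K,
        cj e (Ds S h P a b t u) = Ds S h P (π a) (π b) (d a * (d b)⁻¹ * t) (d b * d0 * u))
    {a b b' : ι ⊕ ι} (hab : ab a ≠ ab b) (hab' : ab a ≠ ab b') (hbb' : ab b ≠ ab b') (t : K) :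
    Ds S h P a b t 1 = Ds S h P a b' t 1 := by
  have hg := S.isMon_w (ceds5_ne hbb') (ceds5_ne' hbb') 1 one_ne_zero
  have he : σ (lf h (S.w b b' 1)) = S.w b b' 1 := map_lf h _
  have h1 := hcj hg he hab t 1
  have hCL : CL σ (S.w b b' 1) (S.xs a (t * 1)) := by
    refine CL_w (S := S.toSysD) h (fun t' => ?_) (fun t' => ?_) 1
    · exact (hCs a b b' (ceds5_ne hbb') (ceds5_ne' hbb') (ceds5_ne hab').symm (ceds5_ne'' hab) (t * 1) t').symm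
    · exact (hCs a b' b (ceds5_ne hbb').symm (ceds5_ne'' hbb') (ceds5_ne hab).symm (ceds5_ne'' hab') (t * 1) t').symm
  have h2 : cj (lf h (S.w b b' 1)) (Ds S h P a b t 1) = Ds S h P a b t 1 :=
    Cfsg.Agent.Lib.helper7.CEC.cj_eq_of_CL hCL he (hmap hab t 1)
  rw [h2] at h1
  have p1 : sws b b' a = a := SysD.sws_of_ne (ceds5_ne hab) (ceds5_ne hab') (ceds5_ne' hab) (ceds5_ne' hab')
  have p2 : sws b b' b = b' := SysD.sws_left (ceds5_ne hbb') (ceds5_ne' hbb')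
  have d1 : dwd b b' (1 : K) a = 1 :=
    stdw14_dwd_of_ne (ceds5_ne hab) (ceds5_ne hab') (ceds5_ne' hab) (ceds5_ne' hab') 1
  have d2 : dwd b b' (1 : K) b = -1⁻¹ := stdw14_dwd_a b b' 1
  rw [p1, p2, d1, d2] at h1
  have e1 : (1 : K) * (-1⁻¹)⁻¹ * t = -t := by
    rw [inv_one, inv_neg, inv_one]; ring
  have e2 : (-1⁻¹ : K) * 1 * 1 = -1 := by rw [inv_one]; ring
  rw [e1, e2, hscale hab' (-t) (-1)] at h1
  have e3 : -t * -1 = t := by ring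
  rw [e3] at h1
  exact h1

/-- Z7 core -/
theorem cebz7_core (h : IsCE σ) (h2 : I2 ι) (h3 : I3 ι) (P : SysD K ι Γ)
    (hscale : ∀ {a b : ι ⊕ ι}, ab a ≠ ab b → ∀ t u : K, Ds S h P a b t u = Ds S h P a b (t * u) 1)
    (hswap : ∀ {a b b' : ι ⊕ ι}, ab a ≠ ab b → ab a ≠ ab b' → ab b ≠ ab b' → ∀ t : K, Ds S h P a b t 1 = Ds S h P a b' t 1)
    {a b : ι ⊕ ι} (hab : ab a ≠ ab b) (t u : K) :
    Ds S h P a b t u = Xsh S h P h2 a (t * u) := by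
  have hb0 : ab (Classical.choose (h2 a)) ≠ ab a := Classical.choose_spec (h2 a)
  rw [hscale hab t u]
  show Ds S h P a b (t * u) 1 = Ds S h P a (Classical.choose (h2 a)) (t * u) 1
  by_cases hbb : ab b = ab (Classical.choose (h2 a))
  · obtain ⟨c, hca, hcb⟩ := h3 a b
    rw [hswap hab (Ne.symm hca) (Ne.symm hcb) (t * u)]
    exact hswap (Ne.symm hca) (Ne.symm hb0) (by rw [← hbb]; exact hcb) (t * u)
  · exact hswap hab (Ne.symm hb0) hbb (t * u)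

end Z

end Cfsg.Agent.Lib.helper6.CEB
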