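import Mathlib
import Cfsg.Agent.Lib.helper6.CEB.Defs
import Cfsg.Agent.Lib.helper7.CEDS5
import Cfsg.Agent.Lib.Helper24.STCI1
import Cfsg.Agent.Lib.Helper21.CEBZ1
import Cfsg.Agent.Lib.helper6.CEBG4
import Cfsg.Agent.Lib.helper6.CEBZ5core

/-!
# CEB Z5 Z6 Z7 (helper6): `Ds_scale`, `Ds_swap`, `Ds_eq_Xsh` — VERBATIM rows of `helper6/CEB/Skel.lean.txt`.

On `helper6.CEBZ5core` (the cores), `Helper21.CEBZ1` (Z1 `Zs_cj`, Z3 `Ds_map`, `Ds_zero`), `helper6.CEBG4` (`sys_eqv`).  Extra: `cebz5_Ds_cj`, an own-name copy of the statement of Z4 `Ds_cj`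
(that row belongs to another seat; the copy keeps this chain from waiting).
-/

set_option autoImplicit false

namespace Cfsg.Agent.Lib.helper6.CEB

open Cfsg.Agent.Lib.helper15.St2 Cfsg.Agent.Lib.helper7.Ce Cfsg.Agent.Lib.helper3.STC Cfsg.Agent.Lib.Lead.STD
  Cfsg.Agent.Lib.helper7.CED Cfsg.Agent.Lib.Lead.STB
open Cfsg.Agent.Lib.helper7.CEC (I2 I3 I4 U3)

universe v w w'

section Z

variable {K : Type*} [Field K] {ι : Type*} {Γ G : Type*} [Group Γ] [Group G] {S : SysB K ι G} {σ : Γ →* G}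

/-- own-name copy of the statement of Z4 `Ds_cj` -/
theorem cebz5_Ds_cj (h : IsCE σ) (h3 : I3 ι) (P : SysD K ι Γ) (hP : ∀ a b t, σ (P.x a b t) = S.x a b t)
    {g : G} {π : Equiv.Perm (ι ⊕ ι)} {d : ι ⊕ ι → K} {d0 : K} (hg : S.IsMon g π d d0) {e : Γ} (he : σ e = g)
    {a b : ι ⊕ ι} (hab : ab a ≠ ab b) (t u : K) :
    cj e (Ds S h P a b t u) = Ds S h P (π a) (π b) (d a * (d b)⁻¹ * t) (d b * d0 * u) := by
  have habn : ab a ≠ ab (ng b) := by rw [ab_ng]; exact hab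
  have h1 := Zs_cj h hg he (ceds5_ne hab) t u
  have h2 := sys_eqv h h3 P hP hg.1 hg.2.1 he habn (t * u ^ 2)
  have hb0 : d b ≠ 0 := hg.1.1 b
  have hbn : d b * d (ng b) = 1 := hg.2.2.1 b
  have hd0 : d0 * d0 = 1 := hg.2.2.2.1
  have e1 : d a * (d (ng b))⁻¹ * (t * u ^ 2) = d a * (d b)⁻¹ * t * (d b * d0 * u) ^ 2 := by
    have e2 : (d (ng b))⁻¹ = d b := (eq_inv_of_mul_eq_one_left hbn).symm
    rw [e2]
    have e3 : d a * (d b)⁻¹ * t * (d b * d0 * u) ^ 2 = d a * d b * (d0 * d0) * (t * u ^ 2) * ((d b)⁻¹ * d b) := by ring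
    rw [e3, hd0, inv_mul_cancel₀ hb0]
    ring
  unfold Ds
  rw [cj_mul, cj_inv, h1, h2, hg.2.1 b, e1]

/-- Z5 [M]  model CEC L5 `Dl_scale` (`Helper13.CECL7`). -/
theorem Ds_scale [DecidableEq ι] [Finite K] (h : IsCE σ) (hCs : HCs S σ) (hSs : HSs S σ) (h3 : I3 ι) (P : SysD K ι Γ)
    (hP : ∀ a b t, σ (P.x a b t) = S.x a b t) {a b : ι ⊕ ι} (hab : ab a ≠ ab b) (t u : K) :
    Ds S h P a b t u = Ds S h P a b (t * u) 1 :=
  cebz5_scale_core h hCs h3 P (fun hab t u => Ds_map h P hP hab t u) (fun hab t u => Ds_zero h hCs hSs P hP hab t u)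
    (fun hg _ he _ _ hab t u => cebz5_Ds_cj h h3 P hP hg he hab t u) hab t u

/-- Z6 [M]  model CEC L7 `Dl_swap` (`Helper13.CECL7`). -/
theorem Ds_swap [DecidableEq ι] [Finite K] (h : IsCE σ) (hCs : HCs S σ) (hSs : HSs S σ) (h3 : I3 ι) (P : SysD K ι Γ)
    (hP : ∀ a b t, σ (P.x a b t) = S.x a b t) {a b b' : ι ⊕ ι} (hab : ab a ≠ ab b) (hab' : ab a ≠ ab b') (hbb' : ab b ≠ ab b') (t : K) :
    Ds S h P a b t 1 = Ds S h P a b' t 1 :=
  cebz6_swap_core h hCs P (fun hab t u => Ds_map h P hP hab t u) (fun hab t u => Ds_scale h hCs hSs h3 P hP hab t u)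
    (fun hg _ he _ _ hab t u => cebz5_Ds_cj h h3 P hP hg he hab t u) hab hab' hbb' t

/-- Z7 [S-M]  model CEC L8 `Dl_eq_Xl`. -/
theorem Ds_eq_Xsh [DecidableEq ι] [Finite K] (h : IsCE σ) (hCs : HCs S σ) (hSs : HSs S σ) (h2 : I2 ι) (h3 : I3 ι) (P : SysD K ι Γ)
    (hP : ∀ a b t, σ (P.x a b t) = S.x a b t) {a b : ι ⊕ ι} (hab : ab a ≠ ab b) (t u : K) :
    Ds S h P a b t u = Xsh S h P h2 a (t * u) :=
  cebz7_core h h2 h3 P (fun hab t u => Ds_scale h hCs hSs h3 P hP hab t u)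
    (fun hab hab' hbb' t => Ds_swap h hCs hSs h3 P hP hab hab' hbb' t) hab t u

end Z

end Cfsg.Agent.Lib.helper6.CEB
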