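import Mathlib
import Cfsg.Agent.Lib.Helper18.SDM.Defs3

/-!
# Project SDM (S2549, designer helper18), row D1 (helper6): a Siegel element `siegG Q u y` with `Q y ≠ 0` is a commutator.
Verbatim from `Helper18/SDM/Skel2.lean.txt`.
-/

set_option autoImplicit false
set_option linter.unusedSectionVars false
set_option linter.unusedVariables false

namespace Cfsg.Agent.Lib.Helper18.QBN

open Cfsg.Agent.Lib.helper14.UBN QuadraticMap
open scoped commutatorElement

universe u v

variable {F : Type u} [Field F] {W : Type v} [AddCommGroup W] [Module F W] {n : ℕ}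

theorem sdmd1_siegG_coe {V : Type v} [AddCommGroup V] [Module F V] (Q : QuadraticForm F V)
    (u y : V) (hu : Q u = 0) (huy : polar Q u y = 0) (w : V) :
    ((siegG Q u y hu huy : ↥(OQ Q)) : V ≃ₗ[F] V) w = siegL Q u y w := rfl

/-- [ROW D1] a Siegel element `siegG Q u y` with `Q y ≠ 0` is the commutator of the reflection along `y` and `siegG Q u z`,
`f(z,y) = -Q(y)`:  `r_y ρ_{u,z} r_y⁻¹ ρ_{u,z}⁻¹ = ρ_{u, r_y z - z} = ρ_{u,y}` (`siegL_conj`, `siegL_comp`) -/
theorem siegG_mem_commutator {V : Type v} [AddCommGroup V] [Module F V] (Q : QuadraticForm F V)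
    (u y z : V) (hu : Q u = 0) (huy : polar Q u y = 0) (huz : polar Q u z = 0) (hy : Q y ≠ 0)
    (hzy : polar Q z y = -Q y) : siegG Q u y hu huy ∈ commutator ↥(OQ Q) := by
  have hr_u : ((reflG Q y hy : ↥(OQ Q)) : V ≃ₗ[F] V) u = u := by
    rw [reflG_apply, huy, mul_zero, zero_smul, sub_zero]
  have hr_z : ((reflG Q y hy : ↥(OQ Q)) : V ≃ₗ[F] V) z = z + y := by
    rw [reflG_apply, hzy]
    have h1 : (Q y)⁻¹ * -Q y = -1 := by
      field_simp
    rw [h1, neg_one_smul, sub_neg_eq_add]
  have key : siegG Q u y hu huy = ⁅reflG Q y hy, siegG Q u z hu huz⁆ := by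
    rw [commutatorElement_def, eq_mul_inv_iff_mul_eq, eq_mul_inv_iff_mul_eq]
    apply Subtype.ext
    apply LinearEquiv.ext
    intro w
    simp only [Subgroup.coe_mul, LinearEquiv.mul_apply]
    rw [sdmd1_siegG_coe, sdmd1_siegG_coe, sdmd1_siegG_coe, siegL_comp Q hu huy huz,
      siegL_conj Q (reflG Q y hy) u z w, hr_u, hr_z, add_comm y z]
  rw [key, commutator_def]
  exact Subgroup.commutator_mem_commutator (Subgroup.mem_top _) (Subgroup.mem_top _)

end Cfsg.Agent.Lib.Helper18.QBN
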