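import Mathlib
import Cfsg.Agent.Lib.Helper18.SDM.Defs3
import Cfsg.Agent.Lib.helper2.SDMR0a
import Cfsg.Agent.Lib.helper6.SDMD1

/-!
# Project SDM (S2549, designer helper18), row D2 (helper6): every Siegel element `sgX a y` is in the commutator subgroup.
Verbatim from `Helper18/SDM/Skel2.lean.txt`.
-/

set_option autoImplicit false
set_option linter.unusedSectionVars false
set_option linter.unusedVariables false

namespace Cfsg.Agent.Lib.Helper18.QBN

open Cfsg.Agent.Lib.helper14.UBN QuadraticMap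

universe u v

variable {F : Type u} [Field F] {W : Type v} [AddCommGroup W] [Module F W] {n : ℕ}

/-- the non-singular case: D1 with a suitable `z` -/
theorem sdmd2_nonsing (hn : Even n) (Q₀ : QuadraticForm F W)
    (hnd : ∀ w : W, (∀ w' : W, polar Q₀ w w' = 0) → w = 0)
    (a : Fin n) (y : QV F n W) (hy : y.1 (rv a) = 0) (hQy : frQ n Q₀ y ≠ 0) :
    sgX hn Q₀ a y hy ∈ commutator (GQ n Q₀) := by
  obtain ⟨z, hz1, hz2⟩ : ∃ z : QV F n W, z.1 (rv a) = 0 ∧ polar (frQ n Q₀) z y ≠ 0 := by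
    by_cases h : ∃ i, i ≠ a ∧ y.1 i ≠ 0
    · obtain ⟨i, hia, hyi⟩ := h
      refine ⟨xv W (rv i), ?_, ?_⟩
      · rw [xv_fst, if_neg]
        intro e
        exact hia (rv_inj e).symm
      · rw [polar_comm, polar_xv hn, rv_rv]
        exact hyi
    · push Not at h
      have hQ : frQ n Q₀ y = Q₀ y.2 := by
        rw [frQ_apply, Finset.sum_eq_zero, zero_add]
        intro j _
        by_cases hj : j = a
        · subst hj
          rw [hy, mul_zero]
        · rw [h j hj, zero_mul]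
      have hy2 : y.2 ≠ 0 := by
        intro e
        apply hQy
        rw [hQ, e, map_zero]
      have hex : ∃ w', polar Q₀ y.2 w' ≠ 0 := by
        by_contra hcon
        push Not at hcon
        exact hy2 (hnd _ hcon)
      obtain ⟨w', hw'⟩ := hex
      refine ⟨wv F n w', rfl, ?_⟩
      rw [polar_comm, polar_wv hn]
      exact hw'
  have hperp : polar (frQ n Q₀) (xv W a) ((-(frQ n Q₀ y) / polar (frQ n Q₀) z y) • z) = 0 := by
    rw [polar_smul_right, polar_comm (⇑(frQ n Q₀)) (xv W a) z, polar_xv hn, hz1, smul_zero]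
  have hzy : polar (frQ n Q₀) ((-(frQ n Q₀ y) / polar (frQ n Q₀) z y) • z) y = -(frQ n Q₀ y) := by
    rw [polar_smul_left, smul_eq_mul]
    field_simp
  exact siegG_mem_commutator (frQ n Q₀) (xv W a) y _ (frQ_xv Q₀ hn a)
    (sdmr0a_perp hn Q₀ a y hy) hperp hQy hzy

/-- [ROW D2] every Siegel element `sgX a y` is in the commutator subgroup (`Q y ≠ 0`: D1 with `z = c x_{rv i}` if `y.1 i ≠ 0`, `i ≠ a`,
else `z = (0,w')` with `f₀(w', y.2) ≠ 0` by `hnd`; `Q y = 0`: `y = (y + (0,w₀)) - (0,w₀)`, `w₀ = -y.2` if `y.2 ≠ 0`, any `w₀ ≠ 0` else) -/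
theorem sgX_mem_commutator (hn : Even n) (Q₀ : QuadraticForm F W) (hQ₀ : ∀ w : W, Q₀ w = 0 → w = 0)
    (hnd : ∀ w : W, (∀ w' : W, polar Q₀ w w' = 0) → w = 0) (hW : ∃ w : W, w ≠ 0)
    (a : Fin n) (y : QV F n W) (hy : y.1 (rv a) = 0) :
    sgX hn Q₀ a y hy ∈ commutator (GQ n Q₀) := by
  by_cases hQy : frQ n Q₀ y ≠ 0
  · exact sdmd2_nonsing hn Q₀ hnd a y hy hQy
  · rw [not_not] at hQy
    -- choose `w₀` with `Q₀ w₀ ≠ 0` and `Q (y + (0, w₀)) ≠ 0`
    obtain ⟨w₀, hw1, hw2⟩ : ∃ w₀ : W, Q₀ w₀ ≠ 0 ∧ frQ n Q₀ (y + wv F n w₀) ≠ 0 := by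
      have hexp : ∀ w₀ : W, frQ n Q₀ (y + wv F n w₀) = Q₀ w₀ + polar Q₀ y.2 w₀ := by
        intro w₀
        have h1 := QuadraticMap.map_add (⇑(frQ n Q₀)) y (wv F n w₀)
        rw [h1, hQy, zero_add, frQ_wv, polar_wv hn]
      by_cases hy2 : y.2 = 0
      · obtain ⟨w₀, hw₀⟩ := hW
        have h1 : Q₀ w₀ ≠ 0 := fun e => hw₀ (hQ₀ w₀ e)
        refine ⟨w₀, h1, ?_⟩
        rw [hexp, hy2, polar_zero_left, add_zero]
        exact h1
      · have h1 : Q₀ y.2 ≠ 0 := fun e => hy2 (hQ₀ _ e)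
        refine ⟨-y.2, ?_, ?_⟩
        · rw [QuadraticMap.map_neg]
          exact h1
        · rw [hexp, QuadraticMap.map_neg, polar_neg_right, polar_self]
          intro e
          apply h1
          have e2 : Q₀ y.2 - 2 * Q₀ y.2 = 0 := by
            rw [← e]
            simp [two_mul]
          have e3 : Q₀ y.2 - 2 * Q₀ y.2 = -(Q₀ y.2) := by ring
          rw [e3, neg_eq_zero] at e2
          exact e2
    have hy1 : (y + wv F n w₀).1 (rv a) = 0 := by
      rw [Prod.fst_add, Pi.add_apply, hy, wv_fst, add_zero]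
    have hy2 : (-(wv F n w₀ : QV F n W)).1 (rv a) = 0 := by
      rw [Prod.fst_neg, Pi.neg_apply, wv_fst, neg_zero]
    have hsum : ((y + wv F n w₀) + -(wv F n w₀ : QV F n W)).1 (rv a) = 0 := by
      rw [add_neg_cancel_right]
      exact hy
    have e := sgX_mul hn Q₀ a (y + wv F n w₀) (-(wv F n w₀ : QV F n W)) hy1 hy2 hsum
    have e' : sgX hn Q₀ a y hy =
        sgX hn Q₀ a (y + wv F n w₀) hy1 * sgX hn Q₀ a (-(wv F n w₀ : QV F n W)) hy2 := by
      rw [e]
      exact sgX_congr hn Q₀ a hy hsum (by rw [add_neg_cancel_right])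
    rw [e']
    apply Subgroup.mul_mem
    · exact sdmd2_nonsing hn Q₀ hnd a _ hy1 hw2
    · apply sdmd2_nonsing hn Q₀ hnd a _ hy2
      rw [QuadraticMap.map_neg, frQ_wv]
      exact hw1

/-- [ROW D2] -/
theorem UQ_le_commutator (hn : Even n) (Q₀ : QuadraticForm F W) (hQ₀ : ∀ w : W, Q₀ w = 0 → w = 0)
    (hnd : ∀ w : W, (∀ w' : W, polar Q₀ w w' = 0) → w = 0) (hW : ∃ w : W, w ≠ 0) :
    UQ hn Q₀ ≤ commutator (GQ n Q₀) := by
  unfold UQ
  rw [Subgroup.closure_le]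
  rintro g ⟨a, y, hy, _, _, _, rfl⟩
  exact sgX_mem_commutator hn Q₀ hQ₀ hnd hW a y hy

end Cfsg.Agent.Lib.Helper18.QBN
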