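import Mathlib
import Cfsg.Agent.Lib.Helper18.SDM.Defs3

/-!
# Project SDM (S2549, designer helper18), row SY (helper6): the Sylow subgroup of a normal subgroup (abstract).
Verbatim from `Helper18/SDM/Skel2.lean.txt`.
-/

set_option autoImplicit false
set_option linter.unusedVariables false

namespace Cfsg.Agent.Lib.Helper18.QBN

/-- [ROW SY] `P' ∈ Syl_p(N)` with `U ≤ P'`; `P'` fixes a point of `G/B` (`p ∤ [G:B]`), so `P' ≤ g B g⁻¹`, `g⁻¹ U g ≤ B`, `g ∈ B`,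
`P' ≤ B`; `x ∈ P'`, `x = u t`, `t = u⁻¹ x ∈ P' ∩ T` a `p`-element of `T ∩ N`, so `t = 1` -/
theorem sylow_of_bn {G : Type*} [Group G] [Finite G] (p : ℕ) [Fact p.Prime] (B T U N : Subgroup G)
    [N.Normal] (hUB : U ≤ B) (hU : IsPGroup p ↥U)
    (hBUT : ∀ b ∈ B, ∃ u ∈ U, ∃ t ∈ T, b = u * t) (hidx : ¬ p ∣ B.index)
    (hfix : ∀ g : G, (∀ u ∈ U, g⁻¹ * u * g ∈ B) → g ∈ B) (hUN : U ≤ N)
    (hT : ∀ t ∈ T, t ∈ N → ∀ k : ℕ, t ^ (p ^ k) = 1 → t = 1) :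
    ∃ P : Sylow p ↥N, (P : Subgroup ↥N) = U.subgroupOf N := by
  classical
  have hUN' : IsPGroup p ↥(U.subgroupOf N) := hU.comap_subtype
  obtain ⟨P', hP'⟩ := hUN'.exists_le_sylow
  refine ⟨P', le_antisymm ?_ hP'⟩
  -- the image of `P'` in `G`
  have hP'' : IsPGroup p ↥((P' : Subgroup ↥N).map N.subtype) := P'.isPGroup'.map N.subtype
  have hUP : U ≤ (P' : Subgroup ↥N).map N.subtype := by
    intro u hu
    refine ⟨⟨u, hUN hu⟩, hP' ?_, rfl⟩
    rw [Subgroup.mem_subgroupOf]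
    exact hu
  -- a fixed point on `G ⧸ B`
  obtain ⟨q, hq⟩ := hP''.nonempty_fixed_point_of_prime_not_dvd_card (G ⧸ B) hidx
  obtain ⟨g, rfl⟩ := QuotientGroup.mk_surjective q
  have hconj : ∀ x ∈ (P' : Subgroup ↥N).map N.subtype, g⁻¹ * x * g ∈ B := by
    intro x hx
    have hxi : x⁻¹ ∈ (P' : Subgroup ↥N).map N.subtype := Subgroup.inv_mem _ hx
    have h1 := hq ⟨x⁻¹, hxi⟩
    have h2 : ((x⁻¹ * g : G) : G ⧸ B) = (g : G ⧸ B) := h1
    rw [QuotientGroup.eq] at h2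
    simpa [mul_assoc] using h2
  have hgB : g ∈ B := hfix g (fun u hu => hconj u (hUP hu))
  have hPB : (P' : Subgroup ↥N).map N.subtype ≤ B := by
    intro x hx
    have h1 := hconj x hx
    have h2 : x = g * (g⁻¹ * x * g) * g⁻¹ := by group
    rw [h2]
    exact B.mul_mem (B.mul_mem hgB h1) (B.inv_mem hgB)
  intro x hx
  rw [Subgroup.mem_subgroupOf]
  have hxP : (x : G) ∈ (P' : Subgroup ↥N).map N.subtype := ⟨x, hx, rfl⟩
  obtain ⟨u, hu, t, ht, hxut⟩ := hBUT _ (hPB hxP)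
  have htP : t ∈ (P' : Subgroup ↥N).map N.subtype := by
    have h1 : t = u⁻¹ * (x : G) := by rw [hxut]; group
    rw [h1]
    exact Subgroup.mul_mem _ (Subgroup.inv_mem _ (hUP hu)) hxP
  have htN : t ∈ N := by
    obtain ⟨y, _, hy⟩ := htP
    rw [← hy]
    exact y.2
  obtain ⟨k, hk⟩ := hP'' ⟨t, htP⟩
  have hk' : t ^ (p ^ k) = 1 := by
    have := congrArg Subtype.val hk
    simpa using this
  have ht1 : t = 1 := hT t ht htN k hk'
  rw [hxut, ht1, mul_one]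
  exact hu

end Cfsg.Agent.Lib.Helper18.QBN
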