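import Cfsg.Agent.Lib.helper6.UTP.Defs
import Cfsg.Agent.S0755

/-!
# UTP toolbox: scalars (skew / trace / norm), `hf σ` is an `IsUnitaryForm`, rank-one updates, unitary transvections and
Siegel elements as elements of `SUm σ ι` (any index type `ι`).  All names start with `utpsg_`.
-/

set_option autoImplicit false
set_option linter.unusedVariables false
set_option linter.unusedSectionVars false

namespace Cfsg.Agent.Lib.helper6.UTP

open Matrix

variable {F : Type*} [Field F]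

/-! ## scalars -/

/-- a non-zero skew scalar. -/
theorem utpsg_skew_exists (σ : F ≃+* F) (hσ : Inv2 σ) : ∃ c : F, c ≠ 0 ∧ σ c = -c := by
  obtain ⟨a, ha⟩ := hσ.moved
  refine ⟨a - σ a, fun h => ha (sub_eq_zero.mp h).symm, ?_⟩
  rw [map_sub, hσ.invol]
  ring

/-- the trace `a ↦ a + σ a` is onto the fixed field. -/
theorem utpsg_trace_surj (σ : F ≃+* F) (hσ : Inv2 σ) (b : F) (hb : σ b = b) : ∃ a : F, a + σ a = b := by
  by_cases h2 : (2 : F) = 0
  · obtain ⟨x, hx⟩ := hσ.moved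
    have ht : x + σ x ≠ 0 := by
      intro h
      apply hx
      have h1 : σ x = -x := by linear_combination h
      have h3 : -x = x := by linear_combination (-x) * h2
      rw [h1, h3]
    refine ⟨b * x / (x + σ x), ?_⟩
    rw [map_div₀, map_mul, map_add, hσ.invol, hb, add_comm (σ x) x]
    field_simp
  · refine ⟨b / 2, ?_⟩
    rw [map_div₀, hb, map_ofNat]
    field_simp
    ring

/-- the norm `a ↦ a σ a` is onto the fixed field. -/
theorem utpsg_norm_surj [Finite F] (σ : F ≃+* F) (hσ : Inv2 σ) (c : F) (hc : σ c = c) :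
    ∃ a : F, a * σ a = c := by
  have hne : (σ : F →+* F) ≠ RingHom.id F := by
    intro h
    obtain ⟨x, hx⟩ := hσ.moved
    exact hx (congrArg (fun φ : F →+* F => φ x) h)
  obtain ⟨a, ha⟩ := Cfsg.Agent.S0755.norm_surj (σ : F →+* F) hne hσ.invol c hc
  exact ⟨a, by rw [mul_comm]; exact ha⟩

/-- `hf x x` is fixed by `σ`. -/
theorem utpsg_self_fixed (σ : F ≃+* F) (hσ : Inv2 σ) {ι : Type*} [Fintype ι] (x : ι → F) :
    σ (hf σ x x) = hf σ x x := (hf_herm σ hσ x x).symm

/-! ## `hf σ` is a unitary form -/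

theorem utpsg_unitary (σ : F ≃+* F) (hσ : Inv2 σ) {ι : Type} [Fintype ι] [DecidableEq ι] :
    Cfsg.Geo.IsUnitaryForm σ (hf σ : (ι → F) → (ι → F) → F) where
  ne_refl := by
    intro h
    obtain ⟨x, hx⟩ := hσ.moved
    apply hx
    rw [h]
    rfl
  involutive := hσ.invol
  add_left := fun x y v => hf_add_left σ x y v
  smul_left := fun c x v => hf_smul_left σ c x v
  herm := fun v w => hf_herm σ hσ v w
  nondegenerate := by
    intro v hv
    constructor
    · by_contra hcon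
      push Not at hcon
      exact hv (hf_nondeg σ v hcon)
    · by_contra hcon
      push Not at hcon
      exact hv (hf_nondeg' σ hσ v hcon)

/-! ## matrices -/

theorem utpsg_mat_ext {ι : Type*} [Fintype ι] [DecidableEq ι] {M N : Matrix ι ι F}
    (h : ∀ x, M *ᵥ x = N *ᵥ x) : M = N := by
  ext i j
  have := congrFun (h (Pi.single j 1)) i
  simpa using this

/-- the rank-one update `x ↦ x + hf x v • u`. -/
def utpsg_ro (σ : F ≃+* F) {ι : Type*} [Fintype ι] [DecidableEq ι] (u v : ι → F) : Matrix ι ι F :=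
  1 + Matrix.vecMulVec u (cj σ v)

theorem utpsg_vmv_mulVec (σ : F ≃+* F) {ι : Type*} [Fintype ι] (u v x : ι → F) :
    Matrix.vecMulVec u (cj σ v) *ᵥ x = hf σ x v • u := by
  rw [Matrix.vecMulVec_mulVec, op_smul_eq_smul, hf, dotProduct_comm]

theorem utpsg_ro_mulVec (σ : F ≃+* F) {ι : Type*} [Fintype ι] [DecidableEq ι] (u v x : ι → F) :
    utpsg_ro σ u v *ᵥ x = x + hf σ x v • u := by
  unfold utpsg_ro
  rw [Matrix.add_mulVec, Matrix.one_mulVec, utpsg_vmv_mulVec]

theorem utpsg_ro_det (σ : F ≃+* F) {ι : Type*} [Fintype ι] [DecidableEq ι] (u v : ι → F) :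
    (utpsg_ro σ u v).det = 1 + hf σ u v := by
  unfold utpsg_ro hf
  rw [Matrix.vecMulVec_eq Unit, Matrix.det_one_add_replicateCol_mul_replicateRow, dotProduct_comm]

/-- a matrix of determinant one preserving the form, as an element of `SUm`. -/
theorem utpsg_mk (σ : F ≃+* F) {ι : Type} [Fintype ι] [DecidableEq ι] (A : Matrix ι ι F) (hdet : A.det = 1)
    (hiso : ∀ x y, hf σ (A *ᵥ x) (A *ᵥ y) = hf σ x y) :
    ∃ s : Matrix.GeneralLinearGroup ι F, s ∈ SUm σ ι ∧ (s : Matrix ι ι F) = A := by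
  have hd : A.det ≠ 0 := by rw [hdet]; exact one_ne_zero
  refine ⟨Matrix.GeneralLinearGroup.mkOfDetNeZero A hd, ⟨?_, ?_⟩, rfl⟩
  · exact fun x y => hiso x y
  · show Matrix.GeneralLinearGroup.det _ = 1
    apply Units.ext
    simpa using hdet

/-- unitary transvections: `x ↦ x + (c * hf x y) • y`, `y` isotropic, `σ c = - c`. -/
theorem utpsg_tv_exists (σ : F ≃+* F) (hσ : Inv2 σ) {ι : Type} [Fintype ι] [DecidableEq ι] (y : ι → F)
    (hy : hf σ y y = 0) (c : F) (hc : σ c = -c) :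
    ∃ t : Matrix.GeneralLinearGroup ι F, t ∈ SUm σ ι ∧
      ∀ x, (t : Matrix ι ι F) *ᵥ x = x + (c * hf σ x y) • y := by
  have hmv : ∀ x, utpsg_ro σ (c • y) y *ᵥ x = x + (c * hf σ x y) • y := by
    intro x
    rw [utpsg_ro_mulVec, smul_smul, mul_comm]
  obtain ⟨t, ht, hte⟩ := utpsg_mk σ (utpsg_ro σ (c • y) y)
    (by rw [utpsg_ro_det, hf_smul_left, hy, mul_zero, add_zero])
    (by
      intro x z
      rw [hmv, hmv]
      simp only [hf_add_left, hf_add_right, hf_smul_left, hf_smul_right, hy, map_mul, hc, mul_zero, add_zero]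
      rw [hf_herm σ hσ y z]
      ring)
  exact ⟨t, ht, fun x => by rw [hte]; exact hmv x⟩

/-- Siegel elements: `x ↦ x + hf x e • n - hf x n • e + (κ * hf x e) • e` for `e` isotropic, `n ⊥ e`,
`κ + σ κ + hf n n = 0`. -/
theorem utpsg_siegel_exists (σ : F ≃+* F) (hσ : Inv2 σ) {ι : Type} [Fintype ι] [DecidableEq ι] (e n : ι → F)
    (he : hf σ e e = 0) (hn : hf σ n e = 0) (κ : F) (hκ : κ + σ κ + hf σ n n = 0) :
    ∃ s : Matrix.GeneralLinearGroup ι F, s ∈ SUm σ ι ∧
      ∀ x, (s : Matrix ι ι F) *ᵥ x = x + hf σ x e • n - hf σ x n • e + (κ * hf σ x e) • e := by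
  have hen : hf σ e n = 0 := by rw [hf_herm σ hσ, hn, map_zero]
  have hmv : ∀ x, (utpsg_ro σ (n + κ • e) e * utpsg_ro σ (-e) n) *ᵥ x =
      x + hf σ x e • n - hf σ x n • e + (κ * hf σ x e) • e := by
    intro x
    rw [← Matrix.mulVec_mulVec, utpsg_ro_mulVec, utpsg_ro_mulVec, hf_add_left, hf_smul_left, hf_neg_left, he]
    simp only [smul_add, smul_neg, neg_zero, mul_zero, add_zero, smul_smul]
    rw [mul_comm (hf σ x e) κ]
    abel
  obtain ⟨s, hs, hse⟩ := utpsg_mk σ (utpsg_ro σ (n + κ • e) e * utpsg_ro σ (-e) n)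
    (by
      rw [Matrix.det_mul, utpsg_ro_det, utpsg_ro_det, hf_add_left, hf_smul_left, he, hn, hf_neg_left, hen]
      simp)
    (by
      intro x z
      rw [hmv, hmv]
      simp only [hf_add_left, hf_add_right, hf_sub_left, hf_sub_right, hf_smul_left, hf_smul_right, he, hn, hen,
        map_mul, mul_zero, add_zero, sub_zero]
      rw [hf_herm σ hσ n z, hf_herm σ hσ e z]
      linear_combination (hf σ x e * σ (hf σ z e)) * hκ)
  exact ⟨s, hs, fun x => by rw [hse]; exact hmv x⟩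

/-- a `κ` for the Siegel element. -/
theorem utpsg_kappa (σ : F ≃+* F) (hσ : Inv2 σ) {ι : Type*} [Fintype ι] (n : ι → F) :
    ∃ κ : F, κ + σ κ + hf σ n n = 0 := by
  obtain ⟨κ, hκ⟩ := utpsg_trace_surj σ hσ (-hf σ n n) (by rw [map_neg, utpsg_self_fixed σ hσ])
  exact ⟨κ, by rw [hκ]; ring⟩

/-- inverse image under an isometry. -/
theorem utpsg_iso_inv (σ : F ≃+* F) {ι : Type} [Fintype ι] [DecidableEq ι] (g : Matrix.GeneralLinearGroup ι F)
    (hg : g ∈ GUm σ ι) (x y : ι → F) :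
    hf σ (((g⁻¹ : Matrix.GeneralLinearGroup ι F) : Matrix ι ι F) *ᵥ x) y =
      hf σ x ((g : Matrix ι ι F) *ᵥ y) := by
  have h := hg (((g⁻¹ : Matrix.GeneralLinearGroup ι F) : Matrix ι ι F) *ᵥ x) y
  have h2 : (g : Matrix ι ι F) *ᵥ (((g⁻¹ : Matrix.GeneralLinearGroup ι F) : Matrix ι ι F) *ᵥ x) = x := by
    rw [Matrix.mulVec_mulVec, ← Units.val_mul, mul_inv_cancel, Units.val_one, Matrix.one_mulVec]
  change hf σ ((g : Matrix ι ι F) *ᵥ _) ((g : Matrix ι ι F) *ᵥ y) = _ at h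
  rw [h2] at h
  exact h.symm

end Cfsg.Agent.Lib.helper6.UTP
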