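import Mathlib
import Cfsg.Agent.Lib.Helper19.AMO.Defs

set_option autoImplicit false
set_option linter.unusedVariables false
set_option linter.unusedSectionVars false

namespace Cfsg.Agent.Lib.Helper19.AMO

open Matrix Cfsg.Agent.Lib.Helper16.PG Cfsg.Agent.Lib.Helper16.AP Cfsg.Agent.Lib.Helper16.PU

universe u

section
variable {F : Type u} [Field F] [Fintype F]

theorem amoE2_orderOf_four {M : Type*} [Monoid M] (τ : M) (h : orderOf (τ * τ) = 2) :
    orderOf τ = 4 := by
  have h4 : τ ^ 4 = 1 := by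
    have := pow_orderOf_eq_one (τ * τ)
    rw [h] at this
    rw [← this, ← pow_two, ← pow_mul]
  have hdvd : orderOf τ ∣ 4 := orderOf_dvd_of_pow_eq_one h4
  have hne2 : ¬ orderOf τ ∣ 2 := by
    intro h2
    have : τ * τ = 1 := by
      rw [← pow_two]
      exact orderOf_dvd_iff_pow_eq_one.mp h2
    rw [this, orderOf_one] at h
    omega
  have hle : orderOf τ ≤ 4 := Nat.le_of_dvd (by norm_num) hdvd
  interval_cases hτ : orderOf τ
  · simp at hdvd
  · exact absurd (one_dvd 2) hne2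
  · exact absurd (dvd_refl 2) hne2
  · omega
  · rfl

/-- AMO-E2 -/
theorem four_le_qf_sq
    (hpow : ∀ σ : RingAut F, qf σ ^ orderOf σ = Fintype.card F)
    (τ : RingAut F) (h : orderOf (τ * τ) = 2) : 4 ≤ qf (τ * τ) := by
  have h4 : orderOf τ = 4 := amoE2_orderOf_four τ h
  have h1 := hpow τ
  have h2 := hpow (τ * τ)
  rw [h4] at h1
  rw [h] at h2
  have h3 : qf (τ * τ) ^ 2 = (qf τ ^ 2) ^ 2 := by
    rw [h2, ← h1, ← pow_mul]
  have h5 : qf (τ * τ) = qf τ ^ 2 := Nat.pow_left_injective (by norm_num : 2 ≠ 0) h3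
  have h6 : 2 ≤ qf τ := two_le_qf τ
  rw [h5]
  nlinarith

end

end Cfsg.Agent.Lib.Helper19.AMO
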