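import Mathlib
import Cfsg.Agent.Lib.Helper19.AMO.Defs

set_option autoImplicit false
set_option linter.unusedVariables false
set_option linter.unusedSectionVars false

namespace Cfsg.Agent.Lib.Helper19.AMO

open Matrix Cfsg.Agent.Lib.Helper16.PG Cfsg.Agent.Lib.Helper16.AP Cfsg.Agent.Lib.Helper16.PU

universe u

section
variable {n : ℕ} {F : Type u} [Field F]

/-- AMO-H2 -/
theorem graph_elt_props (g : GL (Fin n) F) :
    ((g * gTI n F g : GL (Fin n) F) : Matrix (Fin n) (Fin n) F).det = 1 ∧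
    (((g * gTI n F g)⁻¹ : GL (Fin n) F) : Matrix (Fin n) (Fin n) F).charpoly =
      ((g * gTI n F g : GL (Fin n) F) : Matrix (Fin n) (Fin n) F).charpoly := by
  constructor
  · rw [Units.val_mul, gTI_val, Matrix.det_mul, Matrix.det_transpose, ← Matrix.det_mul,
      ← Units.val_mul, mul_inv_cancel, Units.val_one, Matrix.det_one]
  · rw [_root_.mul_inv_rev, Units.val_mul, gTI_inv_val, Units.val_mul, gTI_val]
    rw [Matrix.charpoly_mul_comm]
    have h : (g⁻¹ : GL (Fin n) F).val * (g : Matrix (Fin n) (Fin n) F)ᵀ =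
        ((g : Matrix (Fin n) (Fin n) F) * ((g⁻¹ : GL (Fin n) F) : Matrix (Fin n) (Fin n) F)ᵀ)ᵀ := by
      rw [Matrix.transpose_mul, Matrix.transpose_transpose]
    rw [h, Matrix.charpoly_transpose]

end

end Cfsg.Agent.Lib.Helper19.AMO
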