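import Mathlib
import Cfsg.Agent.Lib.Helper19.AMO.Defs

set_option autoImplicit false
set_option linter.unusedVariables false
set_option linter.unusedSectionVars false

namespace Cfsg.Agent.Lib.Helper19.AMO

open Matrix Cfsg.Agent.Lib.Helper16.PG Cfsg.Agent.Lib.Helper16.AP Cfsg.Agent.Lib.Helper16.PU

universe u

section
variable {n : ℕ} {F : Type u} [Field F]

/-- AMO-H3 -/
theorem graph_field_elt_props (g : GL (Fin n) F) (τ : RingAut F) (h2 : τ * τ = 1) :
    ((((g * mapGL n τ (gTI n F g))⁻¹ : GL (Fin n) F) : Matrix (Fin n) (Fin n) F).charpoly).map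
        ((τ : F ≃+* F) : F →+* F) =
      ((g * mapGL n τ (gTI n F g) : GL (Fin n) F) : Matrix (Fin n) (Fin n) F).charpoly := by
  have hττ : ∀ x : F, τ (τ x) = x := by
    intro x
    have := congrArg (fun σ : RingAut F => σ x) h2
    simpa [RingAut.mul_apply] using this
  -- the inverse
  have hinv : (((g * mapGL n τ (gTI n F g))⁻¹ : GL (Fin n) F) : Matrix (Fin n) (Fin n) F) =
      ((g : Matrix (Fin n) (Fin n) F)ᵀ).map ⇑τ * ((g⁻¹ : GL (Fin n) F) : Matrix (Fin n) (Fin n) F) := by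
    rw [_root_.mul_inv_rev, Units.val_mul, mapGL_inv_val, gTI_inv_val]
  have hval : ((g * mapGL n τ (gTI n F g) : GL (Fin n) F) : Matrix (Fin n) (Fin n) F) =
      (g : Matrix (Fin n) (Fin n) F) *
        ((((g⁻¹ : GL (Fin n) F) : Matrix (Fin n) (Fin n) F))ᵀ).map ⇑τ := by
    rw [Units.val_mul, mapGL_val, gTI_val]
  rw [hinv, hval, ← Matrix.charpoly_map]
  have hmap : (((g : Matrix (Fin n) (Fin n) F)ᵀ).map ⇑τ *
      ((g⁻¹ : GL (Fin n) F) : Matrix (Fin n) (Fin n) F)).map (((τ : F ≃+* F) : F →+* F)) =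
      (g : Matrix (Fin n) (Fin n) F)ᵀ * (((g⁻¹ : GL (Fin n) F) : Matrix (Fin n) (Fin n) F)).map ⇑τ := by
    rw [Matrix.map_mul]
    congr 1
    ext i j
    simp only [Matrix.map_apply, RingHom.coe_coe]
    exact hττ _
  rw [hmap, Matrix.charpoly_mul_comm]
  have ht : (((g⁻¹ : GL (Fin n) F) : Matrix (Fin n) (Fin n) F)).map ⇑τ * (g : Matrix (Fin n) (Fin n) F)ᵀ =
      ((g : Matrix (Fin n) (Fin n) F) *
        ((((g⁻¹ : GL (Fin n) F) : Matrix (Fin n) (Fin n) F))ᵀ).map ⇑τ)ᵀ := by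
    rw [Matrix.transpose_mul, Matrix.transpose_map, Matrix.transpose_transpose]
  rw [ht, Matrix.charpoly_transpose]

end

end Cfsg.Agent.Lib.Helper19.AMO
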