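import Mathlib
import Cfsg.Agent.Lib.Helper19.S5954.DefsTop
import Cfsg.Agent.Lib.Helper19.S5954.G
import Cfsg.Agent.Lib.Helper19.S5954.X
import Cfsg.Agent.Lib.Helper19.S5954OBR
import Cfsg.Agent.Lib.helper3.S5953.Defs
import Cfsg.Agent.Lib.Helper27.S5953T5

/-! Project S5954 (designer helper19), part O, row OSUFF (helper6): CORE of the abstract sufficiency theorem `o_suff`.
Hypotheses `hdvd` (= the statement of OCYCDVD at `N = cycS`), `hmin2` / `hmin0` (= the statements of OMIN2 / OMIN0) for this `y`. -/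

set_option autoImplicit false

namespace Cfsg.Agent.Lib.Helper19.S5954

open Polynomial Module Cfsg.Agent.Lib.helper3
open Cfsg.Agent.Lib.helper3.S5953 (cc bb hermI fixS cycS HInv)

/-- arithmetic: `t = min (m / c) A`, `w0 = m - c t ≤ f0` -/
theorem s5954osuff_arith (c m n f0 A : ℕ) (_hc : 0 < c) (hmn : m ≤ n) (hn : f0 + c * A = n) (hk : m % c ≤ n % c) :
    ∃ t w0 : ℕ, t ≤ A ∧ w0 ≤ f0 ∧ w0 + c * t = m := by
  by_cases h : m / c ≤ A
  · refine ⟨m / c, m % c, h, ?_, ?_⟩
    · have h1 : n % c = f0 % c := by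
        rw [← hn, Nat.add_mul_mod_self_left]
      have h2 : f0 % c ≤ f0 := Nat.mod_le _ _
      omega
    · rw [add_comm]; exact Nat.div_add_mod m c
  · push Not at h
    refine ⟨A, m - c * A, le_refl _, ?_, ?_⟩
    · omega
    · have : c * A ≤ m := by
        have h1 : c * (A + 1) ≤ c * (m / c) := Nat.mul_le_mul_left c h
        have h2 : c * (m / c) ≤ m := Nat.mul_div_le m c
        have h3 : c * A ≤ c * (A + 1) := Nat.mul_le_mul_left c (Nat.le_succ A)
        omega
      omega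

/-- `c = cc i > 0` when `i > 0` -/
theorem s5954osuff_cc_pos (i : ℕ) (hi : 0 < i) : 0 < cc i := by
  unfold S5953.cc
  split_ifs with h1 h2
  · exact hi
  · omega
  · omega

/-- CORE of OSUFF -/
theorem s5954osuff_core {F : Type*} [Field F] [Fintype F] {p : ℕ} [Fact p.Prime] [CharP F p] {q n : ℕ}
    (hF : Fintype.card F = q ^ 2) {r : ℕ} [Fact r.Prime] (hrp : r ≠ p)
    {y : Module.End F (Fin n → F)} (h : S5953.HCtx q r 1 y) (m : ℕ) (hmn : m ≤ n)
    (hk : m % cc (orderOf (q : ZMod r)) ≤ n % cc (orderOf (q : ZMod r)))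
    (hcpos : 0 < cc (orderOf (q : ZMod r)))
    (hdvd : cc (orderOf (q : ZMod r)) ∣ finrank F (cycS r y))
    (hmin : ∀ N : Submodule F (Fin n → F), HInv y N → N ≤ cycS r y → S5953.HND q N → N ≠ ⊥ →
      ∃ U : Submodule F (Fin n → F), U ≤ N ∧ HInv y U ∧ S5953.HND q U ∧
        finrank F U = cc (orderOf (q : ZMod r))) :
    S5953.HNDd q y m := by
  obtain ⟨σ, hσ, hσσ, hne⟩ := x_frob hF
  obtain ⟨hctx, hnd, horth, hndd⟩ := o_bridge σ hσ hσσ hne n r y
  have hC : HCtx r σ (stdH n σ) y := hctx.mpr h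
  have hr0 : 0 < r := (Fact.out : r.Prime).pos
  obtain ⟨hO, hcompl, hfnd, hcnd⟩ := S5953.split hF hrp h
  set c := cc (orderOf (q : ZMod r)) with hcdef
  obtain ⟨A, hA⟩ := hdvd
  have hsum : finrank F (fixS y) + finrank F (cycS r y) = n := by
    have := Submodule.finrank_add_eq_of_isCompl hcompl
    rw [this, Module.finrank_fin_fun]
  obtain ⟨t, w0, htA, hw0, hm⟩ := s5954osuff_arith c m n (finrank F (fixS y)) A hcpos hmn (by rw [← hA]; exact hsum) hk
  -- invariance of fixS and cycS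
  have hfinv : HInv y (fixS y) := by
    intro v hv
    have : v ∈ S5953.fixS y := hv
    unfold S5953.fixS Cfsg.Agent.Lib.Helper13.S5955.fixS at this ⊢
    rw [LinearMap.mem_ker] at this ⊢
    have hcomm : aeval y (X - 1 : F[X]) (y v) = y (aeval y (X - 1 : F[X]) v) := by
      have : (aeval y (X - 1 : F[X])) * y = y * (aeval y (X - 1 : F[X])) := by
        have h1 : aeval y (X : F[X]) = y := aeval_X y
        nth_rewrite 2 [← h1]
        nth_rewrite 3 [← h1]
        rw [← map_mul, ← map_mul, mul_comm]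
      exact LinearMap.congr_fun this v
    rw [hcomm, this, map_zero]
  have hcinv : HInv y (cycS r y) := by
    intro v hv
    have : v ∈ S5953.cycS r y := hv
    unfold S5953.cycS Cfsg.Agent.Lib.Helper13.S5955.cycS at this ⊢
    rw [LinearMap.mem_ker] at this ⊢
    have hcomm : aeval y (cyclotomic r F) (y v) = y (aeval y (cyclotomic r F) v) := by
      have : (aeval y (cyclotomic r F)) * y = y * (aeval y (cyclotomic r F)) := by
        have h1 : aeval y (X : F[X]) = y := aeval_X y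
        nth_rewrite 2 [← h1]
        nth_rewrite 3 [← h1]
        rw [← map_mul, ← map_mul, mul_comm]
      exact LinearMap.congr_fun this v
    rw [hcomm, this, map_zero]
  -- the cyclotomic part
  obtain ⟨W1, hW1le, hW1inv, hW1nd, hW1dim⟩ := h_ladder hr0 hC c hcpos (cycS r y)
    (fun N hNY hN hNnd hN0 => by
      obtain ⟨U, hU1, hU2, hU3, hU4⟩ := hmin N hN hNY ((hnd N).mp hNnd) hN0
      exact ⟨U, hU1, hU2, (hnd U).mpr hU3, hU4⟩)
    (cycS r y) (le_refl _) hcinv ((hnd _).mpr hcnd) t (by rw [hA]; exact Nat.mul_le_mul_left c htA)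
  -- the fixed part
  obtain ⟨W0, hW0le, hW0inv, hW0nd, hW0dim⟩ := h_scal_all hr0 hC (fixS y) 1
    (fun v hv => by
      have : v ∈ S5953.fixS y := hv
      unfold S5953.fixS Cfsg.Agent.Lib.Helper13.S5955.fixS at this
      rw [LinearMap.mem_ker, map_sub, aeval_X, map_one, LinearMap.sub_apply, Module.End.one_apply, sub_eq_zero] at this
      rw [this, one_smul])
    (fixS y) (le_refl _) ((hnd _).mpr hfnd) w0 hw0
  -- orthogonal sum
  have hOW : HOrth (stdH n σ) W0 W1 := by
    rw [horth]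
    intro u hu w hw
    exact hO u (hW0le hu) w (hW1le hw)
  obtain ⟨hinv, hndW, hdim⟩ := h_sup_nd hC W0 W1 hW0inv hW1inv hW0nd hW1nd hOW
  refine ⟨W0 ⊔ W1, hinv, (hnd _).mp hndW, ?_⟩
  rw [hdim, hW0dim, hW1dim, hm]

/-- `i = orderOf (q : ZMod r) > 0` -/
theorem s5954osuff_ord_pos {F : Type*} [Field F] [Fintype F] {p : ℕ} [Fact p.Prime] [CharP F p] {q : ℕ}
    (hF : Fintype.card F = q ^ 2) {r : ℕ} [Fact r.Prime] (hrp : r ≠ p) : 0 < orderOf (q : ZMod r) := by
  have hr : r.Prime := Fact.out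
  have hp : p.Prime := Fact.out
  have hcop : Nat.Coprime q r := by
    rw [Nat.coprime_comm, Nat.Prime.coprime_iff_not_dvd hr]
    intro hdvd
    obtain ⟨k, -, hk⟩ := FiniteField.card F p
    have h1 : r ∣ q ^ 2 := dvd_pow hdvd (by norm_num)
    rw [← hF, hk] at h1
    have h2 : r ∣ p := hr.dvd_of_dvd_pow h1
    exact hrp ((Nat.prime_dvd_prime_iff_eq hr hp).mp h2)
  have h1 : orderOf ((ZMod.unitOfCoprime q hcop : (ZMod r)ˣ) : ZMod r) = orderOf (ZMod.unitOfCoprime q hcop) :=
    orderOf_units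
  rw [ZMod.coe_unitOfCoprime] at h1
  rw [h1]
  exact orderOf_pos _

/-- OSUFF from the statements of OCYCDVD / OMIN2 / OMIN0 for this `y` -/
theorem s5954osuff_core2 {F : Type*} [Field F] [Fintype F] {p : ℕ} [Fact p.Prime] [CharP F p] {q n : ℕ}
    (hF : Fintype.card F = q ^ 2) {r : ℕ} [Fact r.Prime] (hrp : r ≠ p)
    {y : Module.End F (Fin n → F)} (h : S5953.HCtx q r 1 y) (m : ℕ) (hmn : m ≤ n)
    (hk : m % cc (orderOf (q : ZMod r)) ≤ n % cc (orderOf (q : ZMod r)))
    (hdvd : ∀ N : Submodule F (Fin n → F), HInv y N → N ≤ cycS r y → S5953.HND q N →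
      cc (orderOf (q : ZMod r)) ∣ finrank F N)
    (hmin2 : orderOf (q : ZMod r) % 4 = 2 → ∀ N : Submodule F (Fin n → F), HInv y N → N ≤ cycS r y →
      S5953.HND q N → N ≠ ⊥ → ∃ U : Submodule F (Fin n → F), U ≤ N ∧ HInv y U ∧ S5953.HND q U ∧
        finrank F U = cc (orderOf (q : ZMod r)))
    (hmin0 : orderOf (q : ZMod r) % 4 ≠ 2 → ∀ N : Submodule F (Fin n → F), HInv y N → N ≤ cycS r y →
      S5953.HND q N → N ≠ ⊥ → ∃ U : Submodule F (Fin n → F), U ≤ N ∧ HInv y U ∧ S5953.HND q U ∧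
        finrank F U = cc (orderOf (q : ZMod r))) :
    S5953.HNDd q y m := by
  obtain ⟨-, -, -, hcnd⟩ := S5953.split hF hrp h
  have hcinv : HInv y (cycS r y) := by
    intro v hv
    have : v ∈ S5953.cycS r y := hv
    unfold S5953.cycS Cfsg.Agent.Lib.Helper13.S5955.cycS at this ⊢
    rw [LinearMap.mem_ker] at this ⊢
    have hcomm : aeval y (cyclotomic r F) (y v) = y (aeval y (cyclotomic r F) v) := by
      have : (aeval y (cyclotomic r F)) * y = y * (aeval y (cyclotomic r F)) := by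
        have h1 : aeval y (X : F[X]) = y := aeval_X y
        nth_rewrite 2 [← h1]
        nth_rewrite 3 [← h1]
        rw [← map_mul, ← map_mul, mul_comm]
      exact LinearMap.congr_fun this v
    rw [hcomm, this, map_zero]
  refine s5954osuff_core hF hrp h m hmn hk (s5954osuff_cc_pos _ (s5954osuff_ord_pos hF hrp))
    (hdvd _ hcinv (le_refl _) hcnd) ?_
  intro N hN hNc hNnd hN0
  by_cases hi : orderOf (q : ZMod r) % 4 = 2
  · exact hmin2 hi N hN hNc hNnd hN0
  · exact hmin0 hi N hN hNc hNnd hN0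

end Cfsg.Agent.Lib.Helper19.S5954
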