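import Mathlib
import Cfsg.Agent.Lib.Helper20.S3571.Defs

/-!
# Project S3571, piece C5 (helper6): an intransitive subgroup of `A_m` with the maximality
principle that contains a long cycle is the stabiliser of a set
-/

set_option autoImplicit false

namespace Cfsg.Agent.Lib.Helper20.S3571
open Equiv

/-- the subgroup of even permutations preserving `W` -/
def c5_stab (m : ℕ) (W : Finset (Fin m)) : Subgroup (Perm (Fin m)) where
  carrier := {g | g ∈ alternatingGroup (Fin m) ∧ ∀ x, x ∈ W ↔ g x ∈ W}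
  one_mem' := ⟨Subgroup.one_mem _, fun x => by simp⟩
  mul_mem' := by
    rintro a b ⟨ha, ha'⟩ ⟨hb, hb'⟩
    refine ⟨Subgroup.mul_mem _ ha hb, fun x => ?_⟩
    rw [hb' x, ha' (b x)]; rfl
  inv_mem' := by
    rintro a ⟨ha, ha'⟩
    refine ⟨Subgroup.inv_mem _ ha, fun x => ?_⟩
    rw [ha' (a⁻¹ x)]; simp

theorem c5_mem_stab {m : ℕ} {W : Finset (Fin m)} {g : Perm (Fin m)} :
    g ∈ c5_stab m W ↔ g ∈ alternatingGroup (Fin m) ∧ ∀ x, x ∈ W ↔ g x ∈ W := Iff.rfl

/-- C5 -/
theorem eq_stabilizer_of_intrans (m : ℕ) (hm : 5 ≤ m) (H : Subgroup (Perm (Fin m)))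
    (hHA : H ≤ alternatingGroup (Fin m)) (hMP : MP m H) (c : Perm (Fin m)) (hcH : c ∈ H)
    (hc : c.IsCycle) (hc2 : m < 2 * c.support.card)
    (hnt : ¬ MulAction.IsPretransitive ↥H (Fin m)) :
    ∃ W : Finset (Fin m), m < 2 * W.card ∧ W.card < m ∧
      ∀ g : Perm (Fin m), g ∈ H ↔ g ∈ alternatingGroup (Fin m) ∧ ∀ x, x ∈ W ↔ g x ∈ W := by
  classical
  have hc' : c.IsCycle := hc
  obtain ⟨x₀, hx₀, -⟩ := hc
  -- the orbit of `x₀`
  set W : Finset (Fin m) := Finset.univ.filter (fun y => ∃ h : Perm (Fin m), h ∈ H ∧ h x₀ = y)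
    with hWdef
  have hWmem : ∀ y, y ∈ W ↔ ∃ h : Perm (Fin m), h ∈ H ∧ h x₀ = y := by
    intro y; rw [hWdef, Finset.mem_filter]; simp
  have hx₀W : x₀ ∈ W := (hWmem x₀).mpr ⟨1, H.one_mem, rfl⟩
  -- `H` preserves `W`
  have hHW : ∀ g ∈ H, ∀ x, x ∈ W ↔ g x ∈ W := by
    intro g hg x
    rw [hWmem, hWmem]
    constructor
    · rintro ⟨h, hh, rfl⟩
      exact ⟨g * h, H.mul_mem hg hh, rfl⟩
    · rintro ⟨h, hh, hx⟩
      refine ⟨g⁻¹ * h, H.mul_mem (H.inv_mem hg) hh, ?_⟩
      rw [Perm.mul_apply, hx]; simp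
  -- the support of `c` lies in `W`
  have hsupp : c.support ⊆ W := by
    intro y hy
    obtain ⟨i, hi⟩ := hc'.exists_pow_eq hx₀ (Perm.mem_support.mp hy)
    exact (hWmem y).mpr ⟨c ^ i, H.pow_mem hcH i, hi⟩
  have hW2 : m < 2 * W.card := by
    have := Finset.card_le_card hsupp
    omega
  have hWle : W.card ≤ m := by
    have := Finset.card_le_univ W
    rwa [Fintype.card_fin] at this
  -- `W` is not everything
  have hWm : W.card < m := by
    rcases lt_or_eq_of_le hWle with h | h
    · exact h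
    · exfalso
      apply hnt
      have hW : W = Finset.univ := by
        apply Finset.eq_univ_of_card; rw [h, Fintype.card_fin]
      refine ⟨fun x y => ?_⟩
      have hx : x ∈ W := by rw [hW]; exact Finset.mem_univ _
      have hy : y ∈ W := by rw [hW]; exact Finset.mem_univ _
      obtain ⟨h1, hh1, rfl⟩ := (hWmem x).mp hx
      obtain ⟨h2, hh2, rfl⟩ := (hWmem y).mp hy
      refine ⟨⟨h2 * h1⁻¹, H.mul_mem hh2 (H.inv_mem hh1)⟩, ?_⟩
      show (h2 * h1⁻¹) (h1 x₀) = h2 x₀
      simp
  refine ⟨W, hW2, hWm, ?_⟩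
  -- the stabiliser
  have hHL : H ≤ c5_stab m W := fun g hg => ⟨hHA hg, hHW g hg⟩
  have hLA : c5_stab m W ≤ alternatingGroup (Fin m) := fun g hg => hg.1
  -- invariance under the normaliser of `H`
  have hinv : ∀ σ : Perm (Fin m), (∀ h : Perm (Fin m), h ∈ H ↔ σ * h * σ⁻¹ ∈ H) →
      ∀ l ∈ c5_stab m W, σ * l * σ⁻¹ ∈ c5_stab m W := by
    intro σ hσ
    -- `σ` preserves `W`
    have hσW : ∀ x, x ∈ W ↔ σ x ∈ W := by
      set W' : Finset (Fin m) := W.image σ with hW'
      have hcard' : W'.card = W.card := Finset.card_image_of_injective _ σ.injective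
      -- `W'` is `H`-invariant
      have hHW' : ∀ g ∈ H, ∀ y ∈ W', g y ∈ W' := by
        intro g hg y hy
        obtain ⟨x, hx, rfl⟩ := Finset.mem_image.mp hy
        have hh : σ⁻¹ * g * σ ∈ H := by
          rw [hσ]
          have : σ * (σ⁻¹ * g * σ) * σ⁻¹ = g := by group
          rw [this]; exact hg
        have : g (σ x) = σ ((σ⁻¹ * g * σ) x) := by simp [Perm.mul_apply]
        rw [this]
        exact Finset.mem_image_of_mem _ ((hHW _ hh x).mp hx)
      -- `W` and `W'` meet
      have hmeet : ∃ z, z ∈ W ∧ z ∈ W' := by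
        by_contra hcon
        push Not at hcon
        have hdisj : Disjoint W W' := Finset.disjoint_left.mpr hcon
        have h1 := Finset.card_union_of_disjoint hdisj
        have h2 := Finset.card_le_univ (W ∪ W')
        rw [Fintype.card_fin] at h2
        omega
      obtain ⟨z, hzW, hzW'⟩ := hmeet
      obtain ⟨h0, hh0, rfl⟩ := (hWmem z).mp hzW
      have hsub : W ⊆ W' := by
        intro y hy
        obtain ⟨h1, hh1, rfl⟩ := (hWmem y).mp hy
        have := hHW' (h1 * h0⁻¹) (H.mul_mem hh1 (H.inv_mem hh0)) _ hzW'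
        simpa [Perm.mul_apply] using this
      have heq : W = W' := Finset.eq_of_subset_of_card_le hsub (le_of_eq hcard')
      intro x
      constructor
      · intro hx
        rw [heq]; exact Finset.mem_image_of_mem _ hx
      · intro hx
        rw [heq] at hx
        obtain ⟨x', hx', hxx'⟩ := Finset.mem_image.mp hx
        rw [← σ.injective hxx']; exact hx'
    intro l hl
    refine ⟨?_, fun x => ?_⟩
    · have hn : (alternatingGroup (Fin m)).Normal := inferInstance
      exact hn.conj_mem l hl.1 σ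
    · have h1 : x ∈ W ↔ σ⁻¹ x ∈ W := by
        rw [hσW (σ⁻¹ x)]; simp
      have h2 := hl.2 (σ⁻¹ x)
      have h3 := hσW (l (σ⁻¹ x))
      rw [h1, h2, h3]; rfl
  -- the stabiliser is not the alternating group
  have hne : c5_stab m W ≠ alternatingGroup (Fin m) := by
    intro heq
    obtain ⟨y, hy⟩ : ∃ y, y ∉ W := by
      by_contra hcon
      push Not at hcon
      have : W = Finset.univ := Finset.eq_univ_iff_forall.mpr hcon
      rw [this, Finset.card_univ, Fintype.card_fin] at hWm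
      omega
    have h3 : 3 ≤ Nat.card (Fin m) := by
      rw [Nat.card_eq_fintype_card, Fintype.card_fin]; omega
    have := alternatingGroup.isPretransitive_of_three_le_card (Fin m) h3
    obtain ⟨g, hg⟩ := MulAction.exists_smul_eq (alternatingGroup (Fin m)) x₀ y
    have hgL : (g : Perm (Fin m)) ∈ c5_stab m W := by rw [heq]; exact g.2
    have := (hgL.2 x₀).mp hx₀W
    apply hy
    have hg' : (g : Perm (Fin m)) x₀ = y := hg
    rwa [hg'] at this
  rcases hMP (c5_stab m W) hHL hLA hinv with h | h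
  · intro g
    rw [← h]; exact c5_mem_stab
  · exact absurd h hne

end Cfsg.Agent.Lib.Helper20.S3571
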