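import Mathlib
import Cfsg.Agent.Lib.Helper20.S3571.Defs

/-!
# Project S3571, piece C6 (helper6): the stabiliser of a `w`-set in `A_m` has index `C(m,w)`
-/

set_option autoImplicit false

namespace Cfsg.Agent.Lib.Helper20.S3571
open Equiv
open scoped Pointwise

/-- `g • W = W` iff `g` preserves membership in `W` -/
theorem c6_smul_eq_iff {m : ℕ} (W : Finset (Fin m)) (g : Perm (Fin m)) :
    g • W = W ↔ ∀ x, x ∈ W ↔ g x ∈ W := by
  constructor
  · intro h x
    constructor
    · intro hx
      have : g • x ∈ g • W := Finset.smul_mem_smul_finset hx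
      rw [h] at this
      simpa using this
    · intro hx
      rw [← h] at hx
      obtain ⟨y, hy, hyx⟩ := Finset.mem_smul_finset.mp hx
      have : y = x := by
        apply g.injective
        simpa using hyx
      rw [← this]; exact hy
  · intro h
    apply Finset.eq_of_subset_of_card_le
    · intro y hy
      obtain ⟨x, hx, rfl⟩ := Finset.mem_smul_finset.mp hy
      simpa using (h x).mp hx
    · rw [Finset.card_smul_finset]

/-- C6: the stabiliser of a `w`-set in the alternating group has index `C(m,w)`. -/
theorem index_stabilizer (m : ℕ) (hm : 5 ≤ m) (W : Finset (Fin m)) (H : Subgroup (Perm (Fin m)))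
    (hH : ∀ g : Perm (Fin m), g ∈ H ↔ g ∈ alternatingGroup (Fin m) ∧ ∀ x, x ∈ W ↔ g x ∈ W)
    (hW0 : 0 < W.card) (hW : W.card < m) :
    Nat.card (alternatingGroup (Fin m)) = m.choose W.card * Nat.card H := by
  have hα : 3 ≤ Nat.card (Fin m) := by rw [Nat.card_eq_fintype_card, Fintype.card_fin]; omega
  haveI : MulAction.IsPretransitive (alternatingGroup (Fin m)) (Set.powersetCard (Fin m) W.card) :=
    Set.powersetCard.isPretransitive_alternatingGroup hα
  let s : Set.powersetCard (Fin m) W.card := ⟨W, rfl⟩
  have hidx : (MulAction.stabilizer (alternatingGroup (Fin m)) s).index = m.choose W.card := by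
    rw [MulAction.index_stabilizer_of_transitive, Set.powersetCard.card, Nat.card_eq_fintype_card,
      Fintype.card_fin]
  have hmem : ∀ g : alternatingGroup (Fin m),
      g ∈ MulAction.stabilizer (alternatingGroup (Fin m)) s ↔ (g : Perm (Fin m)) ∈ H := by
    intro g
    rw [MulAction.mem_stabilizer_iff, hH]
    constructor
    · intro h
      refine ⟨g.2, ?_⟩
      have h2 : ((g • s : Set.powersetCard (Fin m) W.card) : Finset (Fin m)) = W := by rw [h]
      have h3 := Set.powersetCard.coe_smul (g := g) (s := s)
      have h4 : (g : Perm (Fin m)) • W = W := h3.symm.trans h2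
      exact (c6_smul_eq_iff W (g : Perm (Fin m))).mp h4
    · intro h
      apply Subtype.ext
      have h3 := Set.powersetCard.coe_smul (g := g) (s := s)
      have h4 : (g : Perm (Fin m)) • W = W := (c6_smul_eq_iff W (g : Perm (Fin m))).mpr h.2
      exact h3.trans h4
  have hcard : Nat.card (MulAction.stabilizer (alternatingGroup (Fin m)) s) = Nat.card H := by
    apply Nat.card_congr
    refine ⟨fun g => ⟨(g.1 : Perm (Fin m)), (hmem g.1).mp g.2⟩,
      fun h => ⟨⟨h.1, ((hH h.1).mp h.2).1⟩, (hmem _).mpr h.2⟩, ?_, ?_⟩
    · intro g; rfl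
    · intro h; rfl
  rw [← hidx, ← hcard, mul_comm]
  exact (Subgroup.card_mul_index _).symm

end Cfsg.Agent.Lib.Helper20.S3571
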