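import Cfsg.Agent.Lib.helper7.SAP.Defs

/-! Project SAP (designer helper7), row PERM6 (`th_pow`, `th_comm_zh0`, `sign_th`), verbatim; cores on the statement of
PERM4 (`arc_nodup`) plus an own-name copy `sapperm6_arc_nodup` of it, so the file needs `SAP.Defs` only. -/

namespace Cfsg.Agent.Lib.helper7.SAP

open Equiv

universe u

section perm
variable (p k l : ℕ)

theorem sapperm6_length : (arcO p k l ++ arcE p k).length = l + k := by
  simp [arcO, arcE]

/-- the points of the gluing cycle -/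
theorem sapperm6_mem_arc (x : Pt p k) (hx : x ∈ arcO p k l ++ arcE p k) :
    (∃ j, j < l ∧ x = po (((j + 1 : ℕ) : ZMod p))) ∨ ∃ j : Fin k, x = pe j := by
  rw [List.mem_append] at hx
  rcases hx with hx | hx
  · left
    unfold arcO at hx
    rw [List.mem_map] at hx
    obtain ⟨j, hj, rfl⟩ := hx
    exact ⟨j, List.mem_range.mp hj, rfl⟩
  · right
    unfold arcE at hx
    rw [List.mem_map] at hx
    obtain ⟨j, _, rfl⟩ := hx
    exact ⟨j, rfl⟩

theorem sapperm6_po0_notMem [NeZero p] (hlp : l + 1 ≤ p) : (po (0 : ZMod p) : Pt p k) ∉ arcO p k l ++ arcE p k := by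
  intro hx
  rcases sapperm6_mem_arc p k l _ hx with ⟨j, hj, h⟩ | ⟨j, h⟩
  · have h' : (0 : ZMod p) = ((j + 1 : ℕ) : ZMod p) := by
      have := Sum.inl_injective (Sum.inl_injective h)
      exact this
    have h0 : ((j + 1 : ℕ) : ZMod p) = 0 := h'.symm
    rw [ZMod.natCast_eq_zero_iff] at h0
    have := Nat.le_of_dvd (Nat.succ_pos j) h0
    omega
  · exact absurd h (by simp [po, pe])

theorem sapperm6_ps1_notMem : (ps1 : Pt p k) ∉ arcO p k l ++ arcE p k := by
  intro hx
  rcases sapperm6_mem_arc p k l _ hx with ⟨j, _, h⟩ | ⟨j, h⟩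
  · exact absurd h (by simp [po, ps1])
  · exact absurd h (by simp [ps1, pe])

theorem sapperm6_ps2_notMem : (ps2 : Pt p k) ∉ arcO p k l ++ arcE p k := by
  intro hx
  rcases sapperm6_mem_arc p k l _ hx with ⟨j, _, h⟩ | ⟨j, h⟩
  · exact absurd h (by simp [po, ps2])
  · exact absurd h (by simp [ps2, pe])

/-- conjugation of `c3` (own copy of ALT1 `c3_conj`) -/
theorem sapperm6_c3_conj {α : Type*} [DecidableEq α] (σ : Perm α) (y s t : α) :
    σ * c3 y s t * σ⁻¹ = c3 (σ y) (σ s) (σ t) := by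
  unfold c3
  rw [Equiv.swap_apply_apply, Equiv.swap_apply_apply]
  group

/-- own copy of PERM4 `arc_nodup` (exact statement) -/
theorem sapperm6_arc_nodup [NeZero p] (hlp : l + 1 ≤ p) : (arcO p k l ++ arcE p k).Nodup := by
  rw [List.nodup_append]
  refine ⟨?_, ?_, ?_⟩
  · unfold arcO
    refine List.Nodup.map_on ?_ List.nodup_range
    intro j hj j' hj' h
    rw [List.mem_range] at hj hj'
    have h' : ((j + 1 : ℕ) : ZMod p) = ((j' + 1 : ℕ) : ZMod p) := Sum.inl_injective (Sum.inl_injective h)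
    rw [ZMod.natCast_eq_natCast_iff'] at h'
    rw [Nat.mod_eq_of_lt (by omega), Nat.mod_eq_of_lt (by omega)] at h'
    omega
  · unfold arcE
    exact List.Nodup.map (fun a b h => Sum.inr_injective h) (List.nodup_finRange k)
  · intro x hx y hy hxy
    unfold arcO at hx
    unfold arcE at hy
    rw [List.mem_map] at hx hy
    obtain ⟨j, _, rfl⟩ := hx
    obtain ⟨j', _, rfl⟩ := hy
    exact absurd hxy (by simp [po, pe])

/-- PERM6 core: `th ^ (l + k) = 1` from `arc_nodup`. -/
theorem sapperm6_th_pow_core (hnd : (arcO p k l ++ arcE p k).Nodup) : (th p k l) ^ (l + k) = 1 := by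
  have h := List.formPerm_pow_length_eq_one_of_nodup _ hnd
  rw [sapperm6_length] at h
  exact h

/-- PERM6 core: `th` commutes with `zh 0`. -/
theorem sapperm6_th_comm_core [NeZero p] (hlp : l + 1 ≤ p) :
    th p k l * zh (Sum.inl 0) = zh (Sum.inl 0 : Ix p k) * th p k l := by
  have h1 : th p k l (po 0) = po 0 := List.formPerm_apply_of_notMem (sapperm6_po0_notMem p k l hlp)
  have h2 : th p k l ps1 = ps1 := List.formPerm_apply_of_notMem (sapperm6_ps1_notMem p k l)
  have h3 : th p k l ps2 = ps2 := List.formPerm_apply_of_notMem (sapperm6_ps2_notMem p k l)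
  have hc := sapperm6_c3_conj (th p k l) (po (0 : ZMod p) : Pt p k) ps1 ps2
  rw [h1, h2, h3] at hc
  have hz : zh (Sum.inl 0 : Ix p k) = c3 (po (0 : ZMod p) : Pt p k) ps1 ps2 := rfl
  rw [hz]
  calc th p k l * c3 (po (0 : ZMod p) : Pt p k) ps1 ps2
      = (th p k l * c3 (po (0 : ZMod p) : Pt p k) ps1 ps2 * (th p k l)⁻¹) * th p k l := by group
    _ = _ := by rw [hc]

/-- PERM6 core: the sign of `th`. -/
theorem sapperm6_sign_core [NeZero p] (hnd : (arcO p k l ++ arcE p k).Nodup) (h2 : 2 ≤ l + k) :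
    Perm.sign (th p k l) = (-1) ^ (l + k + 1) := by
  have hlen := sapperm6_length p k l
  have hcyc : (th p k l).IsCycle := List.isCycle_formPerm hnd (by rw [hlen]; exact h2)
  have hsupp : (th p k l).support = (arcO p k l ++ arcE p k).toFinset := by
    apply List.support_formPerm_of_nodup _ hnd
    intro x hx
    rw [hx] at hlen
    simp at hlen
    omega
  rw [hcyc.sign, hsupp, List.toFinset_card_of_nodup hnd, hlen, pow_succ]
  simp

/-- PERM6 [M]: order, sign and commutation of `th`. -/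
theorem th_pow [NeZero p] (hlp : l + 1 ≤ p) : (th p k l) ^ (l + k) = 1 :=
  sapperm6_th_pow_core p k l (sapperm6_arc_nodup p k l hlp)

theorem th_comm_zh0 [NeZero p] (hlp : l + 1 ≤ p) :
    th p k l * zh (Sum.inl 0) = zh (Sum.inl 0 : Ix p k) * th p k l :=
  sapperm6_th_comm_core p k l hlp

theorem sign_th [NeZero p] (hlp : l + 1 ≤ p) (h2 : 2 ≤ l + k) :
    Perm.sign (th p k l) = (-1) ^ (l + k + 1) :=
  sapperm6_sign_core p k l (sapperm6_arc_nodup p k l hlp) h2

end perm

end Cfsg.Agent.Lib.helper7.SAP
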