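import Mathlib
import Cfsg.Agent.Lib.Helper20.GLO.Defs
import Cfsg.Agent.Lib.helper6.GLOYcore
import Cfsg.Agent.Lib.helper6.GLOY2
import Cfsg.Agent.Lib.helper6.GLOY4
import Cfsg.Agent.Lib.helper6.GLOY7
import Cfsg.Agent.Lib.Helper25.GLOI3
import Cfsg.Agent.Lib.Helper11.GLOC2
import Cfsg.Agent.Lib.Helper21.GLOY1core
import Cfsg.Agent.Lib.Helper16.GLOY5core

/-!
# Project GLO (designer helper20, block GLO-II of S2291), row Y8 (`iso_of_glue`) (helper6), VERBATIM vs `GLO/SkelA`: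
wrapper of `gloy8_core` (`helper6.GLOYcore`).  It does NOT wait for the verbatim Y1 / Y5: the conclusions of Y1 `xrs_comm` and Y5 `sysU_of_glue` are obtained from the landed cores
`gloy1_core` (Helper21) and `gloy5_core` (Helper16) on I3 I5 (Helper25.GLOI3), C3 C5 (Helper11.GLOC2), Y2 Y4 Y7 (helper6) as `gloy8_comm` / `gloy8_sysU` (own names).
-/

set_option autoImplicit false

namespace Cfsg.Agent.Lib.Helper20.GLO

open Cfsg.Agent.Lib.helper3.STC (ng ab)
open Cfsg.Agent.Lib.helper3.SPM (Pts pe sgm sn sig2 ptsFin pe2)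
open Cfsg.Agent.Lib.Helper27.STU
open Cfsg.Agent.Lib.helper17.SLP (cm)
open Cfsg.Agent.Lib.Helper20.GLE (lamC lamP)

universe u v w x v' y

section main
variable {F : Type u} [Field F] [StarRing F] {L : Type x} [Group L] {ι : Type w} [Fintype ι] [DecidableEq ι] {G : Type v} [Group G]
  (S₂ : SysU F True (Fin 2) L) (swL : L) (p : Pts ι) (ν : Equiv.Perm ι →* G) (lam : L →* G)

/-- own-name copy of the statement of Y1 `xrs_comm` (from Helper21's core) -/
theorem gloy8_comm (hF : Hyp F) (H : Glue S₂ swL p ν lam) (hU : UFacts S₂ swL) {a b c d : ι ⊕ ι} (hab : ab a ≠ ab b) (hcd : ab c ≠ ab d) (hbc : b ≠ c) (had : a ≠ d)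
    (hbd : b ≠ ng d) (hac : a ≠ ng c) (t u : F) :
    xrs S₂ p ν lam a b t * xrs S₂ p ν lam c d u = xrs S₂ p ν lam c d u * xrs S₂ p ν lam a b t :=
  gloy1_core S₂ p ν lam
    (fun hij _ _ _ _ ha hb hc hd hab hcd hbc had hbd hac t u =>
      xrs_comm_pair S₂ swL p ν lam H hU hij ha hb hc hd hab hcd hbc had hbd hac t u)
    (fun hab hbc hac => p2_gen S₂ swL p ν lam hF H hU hab hbc hac)
    (fun hab hac hae hbc hbe hce => p4_gen S₂ swL p ν lam hF H hU hab hac hae hbc hbe hce)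
    (fun hab t => xrs_sym S₂ swL p ν lam H hU hab t)
    hab hcd hbc had hbd hac t u

/-- own-name copy of the statement of Y5 `sysU_of_glue` (from Helper16's core) -/
theorem gloy8_sysU (hF : Hyp F) (H : Glue S₂ swL p ν lam) (hU : UFacts S₂ swL) :
    ∃ S : SysU F True ι G, (∀ a b t, S.xs a b t = xrs S₂ p ν lam a b t) ∧ ∀ a ξ, S.xl a ξ = xrl S₂ p ν lam a ξ :=
  gloy5_core S₂ swL p ν lam H hU
    (fun hab hcd hbc had hbd hac t u => gloy8_comm S₂ swL p ν lam hF H hU hab hcd hbc had hbd hac t u)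
    (fun hcd hca hda ξ u => xr_comm_ls S₂ swL p ν lam hF H hU hcd hca hda ξ u)
    (fun hab hbc hac => p1_gen S₂ swL p ν lam hF H hU hab hbc hac)
    (fun a => xrl_r1 S₂ p ν lam a)

/-- Y8 [M]  model GLE Y8 (`helper6/GLEYcore.lean`, mechanical): the isomorphism.  `S` from `sysU_of_glue`; `R : S.Rep V` := `R₀` with `φ := R₀.φ.comp π` (`hxs`: `π (S.xs a b t) = xrs S₂ p (π.comp ν) (π.comp lam) a b t` (`map_xrs`) `= S₀.xs a b t` (`hxs₀`), then `R₀.hxs`);
`R.φ` is injective by `hinj` (= STU K3 `SysU.Rep.injective`) with `gen_top`, hence so is `π`; surjective: the range of `π` contains the generators of `S₀.XQ ⊤` (`hgen₀`). -/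
theorem iso_of_glue (hF : Hyp F) (H : Glue S₂ swL p ν lam) (hU : UFacts S₂ swL)
    (hgen : Subgroup.closure (Set.range ν ∪ Set.range lam) = ⊤)
    {M : Type v'} [Group M] (S₀ : SysU F True ι M) {V : Type y} [AddCommGroup V] [Module F V] (R₀ : S₀.Rep V)
    (hgen₀ : S₀.XQ (fun _ _ => True) = ⊤) (π : G →* M)
    (hxs₀ : ∀ a b t, ab a ≠ ab b → xrs S₂ p (π.comp ν) (π.comp lam) a b t = S₀.xs a b t)
    (hxl₀ : ∀ a ξ, xrl S₂ p (π.comp ν) (π.comp lam) a ξ = S₀.xl a ξ)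
    (hinj : ∀ (S : SysU F True ι G) (R : S.Rep V), S.XQ (fun _ _ => True) = ⊤ → Function.Injective R.φ) :
    Function.Bijective π :=
  gloy8_core S₂ p ν lam (gloy8_sysU S₂ swL p ν lam hF H hU)
    (fun S hxs hxl => gen_top S₂ swL p ν lam H hU S hxs hxl hgen)
    S₀ R₀ hgen₀ π hxs₀ hxl₀ hinj

end main

end Cfsg.Agent.Lib.Helper20.GLO
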