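import Cfsg.Agent.Lib.Helper28.TOO.Defs2

/-!
# TOO row GH5a (helper6): an isometry which is the identity on `W^⊥` (`W` a totally singular plane) is `1 + c • N_W`.
-/

set_option autoImplicit false
set_option linter.unusedVariables false
set_option linter.unusedSectionVars false

namespace Cfsg.Agent.Lib.Helper28.TOO

open Matrix
open scoped Kronecker
open Cfsg.Agent.Lib.helper7.TP Cfsg.Agent.Lib.Helper21.TS

variable {F : Type*} [Field F]

/-- if `f(z, y) = 0` for all `y` then `z = 0`. -/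
theorem toogh5a_eq_zero {ι : Type*} [Fintype ι] [DecidableEq ι] {J : Matrix ι ι F} (hdet : J.det ≠ 0)
    (z : ι → F) (h : ∀ y : ι → F, bf J z y = 0) : z = 0 := by
  by_contra hz
  obtain ⟨y, hy⟩ := bf_nondeg hdet hz
  exact hy (h y)

/-- dual vectors of an independent pair. -/
theorem toogh5a_dual {ι : Type*} [Fintype ι] [DecidableEq ι] {J : Matrix ι ι F} (hdet : J.det ≠ 0)
    (w₁ w₂ : ι → F) (hind : ∀ c₁ c₂ : F, c₁ • w₁ + c₂ • w₂ = 0 → c₁ = 0 ∧ c₂ = 0) :
    ∃ d₁ d₂ : ι → F, bf J w₁ d₁ = 1 ∧ bf J w₂ d₁ = 0 ∧ bf J w₁ d₂ = 0 ∧ bf J w₂ d₂ = 1 := by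
  have hw1 : w₁ ≠ 0 := by
    intro h
    have := hind 1 0 (by rw [h, smul_zero, zero_smul, add_zero])
    exact one_ne_zero this.1
  obtain ⟨d0, hd0⟩ := bf_nondeg hdet hw1
  obtain ⟨d, h1d⟩ : ∃ d : ι → F, bf J w₁ d = 1 :=
    ⟨(bf J w₁ d0)⁻¹ • d0, by rw [bf_smul_right, inv_mul_cancel₀ hd0]⟩
  obtain ⟨w₂', hw2'⟩ : ∃ w₂' : ι → F, w₂' = w₂ - bf J w₂ d • w₁ := ⟨_, rfl⟩
  have hw2'0 : w₂' ≠ 0 := by
    intro h
    have := hind (-(bf J w₂ d)) 1 (by rw [← h, hw2', neg_smul, one_smul]; abel)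
    exact one_ne_zero this.2
  obtain ⟨e0, he0⟩ := bf_nondeg hdet hw2'0
  obtain ⟨e, h2e⟩ : ∃ e : ι → F, bf J w₂' e = 1 :=
    ⟨(bf J w₂' e0)⁻¹ • e0, by rw [bf_smul_right, inv_mul_cancel₀ he0]⟩
  have h2e' : bf J w₂ e - bf J w₂ d * bf J w₁ e = 1 := by
    rw [← h2e, hw2', bf_sub_left, bf_smul_left]
  obtain ⟨d₂, hd2⟩ : ∃ d₂ : ι → F, d₂ = e - bf J w₁ e • d := ⟨_, rfl⟩
  have h12 : bf J w₁ d₂ = 0 := by
    rw [hd2, bf_sub_right, bf_smul_right, h1d, mul_one, sub_self]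
  have h22 : bf J w₂ d₂ = 1 := by
    rw [hd2, bf_sub_right, bf_smul_right, ← h2e']
    ring
  refine ⟨d - bf J w₂ d • d₂, d₂, ?_, ?_, h12, h22⟩
  · rw [bf_sub_right, bf_smul_right, h12, h1d, mul_zero, sub_zero]
  · rw [bf_sub_right, bf_smul_right, h22, mul_one, sub_self]

/-- GH5a [M]. an isometry of `J2` which is the identity on `W^⊥` (`W` a totally singular plane) is `1 + c • N_W`. -/
theorem iso_trivial_on_perp {n : ℕ} {J : Matrix (Fin n) (Fin n) F} (h2 : (2 : F) ≠ 0) (hJ : Jᵀ = J) (hdet : J.det ≠ 0)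
    (w₁ w₂ : Fin n → F) (hw : IsTS J w₁ w₂) (β : Matrix (Fin n) (Fin n) F) (hiso : βᵀ * J * β = J)
    (h : ∀ y : Fin n → F, bf J w₁ y = 0 → bf J w₂ y = 0 → β *ᵥ y = y) :
    ∃ c : F, β = 1 + c • Nw J w₁ w₂ := by
  obtain ⟨h11, h12, h22, hind⟩ := hw
  have h21 : bf J w₂ w₁ = 0 := by rw [bf_symm hJ]; exact h12
  obtain ⟨d₁, d₂, e11, e21, e12, e22⟩ := toogh5a_dual hdet w₁ w₂ hind
  have hisoB : ∀ x y : Fin n → F, bf J (β *ᵥ x) (β *ᵥ y) = bf J x y := by
    intro x y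
    rw [bf_mulVec_left, bf_mulVec_right, hiso]
  set p : Fin n → F := β *ᵥ d₁ - d₁ with hp
  set q : Fin n → F := β *ᵥ d₂ - d₂ with hq
  have hβd1 : β *ᵥ d₁ = d₁ + p := by rw [hp]; abel
  have hβd2 : β *ᵥ d₂ = d₂ + q := by rw [hq]; abel
  -- decomposition
  have hdec : ∀ x : Fin n → F, β *ᵥ x = x + bf J w₁ x • p + bf J w₂ x • q := by
    intro x
    set x₀ : Fin n → F := x - bf J w₁ x • d₁ - bf J w₂ x • d₂ with hx0
    have hx01 : bf J w₁ x₀ = 0 := by
      rw [hx0, bf_sub_right, bf_sub_right, bf_smul_right, bf_smul_right, e11, e12]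
      ring
    have hx02 : bf J w₂ x₀ = 0 := by
      rw [hx0, bf_sub_right, bf_sub_right, bf_smul_right, bf_smul_right, e21, e22]
      ring
    have hfix := h x₀ hx01 hx02
    have hx : x = x₀ + bf J w₁ x • d₁ + bf J w₂ x • d₂ := by rw [hx0]; abel
    have : β *ᵥ x = β *ᵥ x₀ + bf J w₁ x • (β *ᵥ d₁) + bf J w₂ x • (β *ᵥ d₂) := by
      conv_lhs => rw [hx]
      rw [Matrix.mulVec_add, Matrix.mulVec_add, Matrix.mulVec_smul, Matrix.mulVec_smul]
    rw [this, hfix, hβd1, hβd2, hx0, smul_add, smul_add]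
    abel
  -- `p, q ∈ W`
  have hmemW : ∀ d : Fin n → F, β *ᵥ d - d = bf J (β *ᵥ d - d) d₁ • w₁ + bf J (β *ᵥ d - d) d₂ • w₂ := by
    intro d
    set r : Fin n → F := β *ᵥ d - d with hr
    have hz : r - (bf J r d₁ • w₁ + bf J r d₂ • w₂) = 0 := by
      apply toogh5a_eq_zero hdet
      intro y
      set y₀ : Fin n → F := y - bf J w₁ y • d₁ - bf J w₂ y • d₂ with hy0
      have hy01 : bf J w₁ y₀ = 0 := by
        rw [hy0, bf_sub_right, bf_sub_right, bf_smul_right, bf_smul_right, e11, e12]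
        ring
      have hy02 : bf J w₂ y₀ = 0 := by
        rw [hy0, bf_sub_right, bf_sub_right, bf_smul_right, bf_smul_right, e21, e22]
        ring
      have hfix := h y₀ hy01 hy02
      have hry0 : bf J r y₀ = 0 := by
        have := hisoB d y₀
        rw [hfix] at this
        rw [hr, bf_sub_left, this, sub_self]
      have hy : y = y₀ + bf J w₁ y • d₁ + bf J w₂ y • d₂ := by rw [hy0]; abel
      have hry : bf J r y = bf J w₁ y * bf J r d₁ + bf J w₂ y * bf J r d₂ := by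
        conv_lhs => rw [hy]
        rw [bf_add_right, bf_add_right, bf_smul_right, bf_smul_right, hry0, zero_add]
      rw [bf_sub_left, bf_add_left, bf_smul_left, bf_smul_left, hry]
      ring
    exact sub_eq_zero.mp hz
  have hpW := hmemW d₁
  have hqW := hmemW d₂
  rw [← hp] at hpW
  rw [← hq] at hqW
  set α₁ := bf J p d₁ with hα₁
  set β₁ := bf J p d₂ with hβ₁
  set α₂ := bf J q d₁ with hα₂
  set β₂ := bf J q d₂ with hβ₂
  -- forms among `p, q`
  have hpp : bf J p p = 0 := by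
    rw [hpW]
    simp only [bf_add_left, bf_add_right, bf_smul_left, bf_smul_right, h11, h12, h21, h22]
    ring
  have hqq : bf J q q = 0 := by
    rw [hqW]
    simp only [bf_add_left, bf_add_right, bf_smul_left, bf_smul_right, h11, h12, h21, h22]
    ring
  have hpq : bf J p q = 0 := by
    rw [hpW, hqW]
    simp only [bf_add_left, bf_add_right, bf_smul_left, bf_smul_right, h11, h12, h21, h22]
    ring
  -- the three relations
  have r1 : α₁ = 0 := by
    have := hisoB d₁ d₁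
    rw [hβd1] at this
    simp only [bf_add_left, bf_add_right, hpp] at this
    rw [bf_symm hJ d₁ p] at this
    have h3 : 2 * α₁ = 0 := by rw [hα₁]; linear_combination this
    rcases mul_eq_zero.mp h3 with h4 | h4
    · exact absurd h4 h2
    · exact h4
  have r2 : β₂ = 0 := by
    have := hisoB d₂ d₂
    rw [hβd2] at this
    simp only [bf_add_left, bf_add_right, hqq] at this
    rw [bf_symm hJ d₂ q] at this
    have h3 : 2 * β₂ = 0 := by rw [hβ₂]; linear_combination this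
    rcases mul_eq_zero.mp h3 with h4 | h4
    · exact absurd h4 h2
    · exact h4
  have r3 : α₂ = -β₁ := by
    have := hisoB d₁ d₂
    rw [hβd1, hβd2] at this
    simp only [bf_add_left, bf_add_right, hpq] at this
    rw [bf_symm hJ d₁ q] at this
    rw [hα₂, hβ₁]
    linear_combination this
  refine ⟨-β₁, ?_⟩
  apply Matrix.mulVec_injective
  funext x
  show β *ᵥ x = (1 + -β₁ • Nw J w₁ w₂) *ᵥ x
  rw [hdec x, hpW, hqW, r1, r2, r3, Matrix.add_mulVec, Matrix.one_mulVec, Matrix.smul_mulVec, Nw,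
    Matrix.sub_mulVec, opm_mulVec, opm_mulVec]
  module
end Cfsg.Agent.Lib.Helper28.TOO
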