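import Cfsg.Agent.Lib.Helper21.TOO.LDefs
import Cfsg.Agent.Lib.Helper21.TOO.LG1
import Cfsg.Agent.Lib.helper6.TOOLG4
import Cfsg.Agent.Lib.helper6.TSSIEG
import Cfsg.Agent.Lib.Helper13.TOOGA4
import Cfsg.Agent.Lib.Helper28.TOOGH3
import Cfsg.Agent.Lib.helper7.TP.MeetA

/-!
# TOO row LS2 (helper6): `stabPl_of_stabPt`, verbatim.
-/

set_option autoImplicit false
set_option linter.unusedSectionVars false
set_option linter.unusedVariables false

namespace Cfsg.Agent.Lib.Helper28.TOO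

open Matrix
open scoped Kronecker
open Cfsg.Agent.Lib.helper7.TP Cfsg.Agent.Lib.Helper21.TS Cfsg.Agent.Lib.helper7.TO

variable {ι : Type*} [Fintype ι] [DecidableEq ι] {a b : ℕ} {F : Type*} [Field F]
  {J1 : Matrix (Fin a) (Fin a) F} {J2 : Matrix (Fin b) (Fin b) F}
  {M : Subgroup (Matrix.GeneralLinearGroup (Fin a × Fin b) F)}

/-- `1 ⊗ γ` acts row-wise. -/
theorem tools2_one_kron_apply (γ : Matrix (Fin b) (Fin b) F) (v : Fin a × Fin b → F) (i : Fin a) (j : Fin b) :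
    (((1 : Matrix (Fin a) (Fin a) F) ⊗ₖ γ) *ᵥ v) (i, j) = (γ *ᵥ fun j' => v (i, j')) j := by
  simp only [Matrix.mulVec, dotProduct, Matrix.kroneckerMap_apply, Fintype.sum_prod_type, Matrix.one_apply]
  rw [Finset.sum_eq_single i]
  · simp
  · intro i' _ hi'
    simp [Ne.symm hi']
  · intro h
    exact absurd (Finset.mem_univ i) h

/-- if the image of `γ` lies in the line `F p` then the image of `1 ⊗ γ` lies in `A ⊗ p`. -/
theorem tools2_one_kron_line (γ : Matrix (Fin b) (Fin b) F) (p : Fin b → F)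
    (hγ : ∀ y : Fin b → F, ∃ c : F, γ *ᵥ y = c • p) (v : Fin a × Fin b → F) :
    ∃ u' : Fin a → F, ((1 : Matrix (Fin a) (Fin a) F) ⊗ₖ γ) *ᵥ v = ten u' p := by
  choose c hc using hγ
  refine ⟨fun i => c (fun j' => v (i, j')), ?_⟩
  funext q
  obtain ⟨i, j⟩ := q
  rw [tools2_one_kron_apply, hc]
  simp [ten]

/-- `α x ⊗ q = x ⊗ w'` for all `x`, `w' ≠ 0` ⇒ `α` is a scalar. -/
theorem tools2_scalar (ha : 1 ≤ a) (α : Matrix (Fin a) (Fin a) F) (q w' : Fin b → F) (hw' : w' ≠ 0)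
    (h : ∀ x : Fin a → F, ten (α *ᵥ x) q = ten x w') :
    ∃ s : F, α = s • (1 : Matrix (Fin a) (Fin a) F) := by
  obtain ⟨j₀, hj₀⟩ : ∃ j₀, w' j₀ ≠ 0 := by
    by_contra hcon
    push Not at hcon
    exact hw' (funext hcon)
  have he : ∀ (x : Fin a → F) (i : Fin a), (α *ᵥ x) i * q j₀ = x i * w' j₀ := by
    intro x i
    have := congrFun (h x) (i, j₀)
    simpa [ten] using this
  have hq : q j₀ ≠ 0 := by
    intro h0
    have := he (Pi.single ⟨0, ha⟩ 1) ⟨0, ha⟩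
    rw [h0, mul_zero, Pi.single_eq_same, one_mul] at this
    exact hj₀ this.symm
  refine ⟨w' j₀ / q j₀, ?_⟩
  rw [Matrix.ext_iff_mulVec]
  intro x
  funext i
  rw [Matrix.smul_mulVec, Matrix.one_mulVec, Pi.smul_apply, smul_eq_mul]
  have := he x i
  field_simp
  linear_combination this

/-- `(ρ_{w,z} - 1)² y = - f(z,z) f(w,y) w`. -/
theorem tools2_sieg_sq {J : Matrix ι ι F} (hJ : Jᵀ = J) {w z : ι → F} (hw : bf J w w = 0)
    (hz : bf J w z = 0) (y : ι → F) :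
    ((sieg J w z - 1) * (sieg J w z - 1)) *ᵥ y = (-(bf J z z) * bf J w y) • w := by
  have hzw : bf J z w = 0 := by rw [bf_symm hJ]; exact hz
  have h1 : ∀ x : ι → F, (sieg J w z - 1) *ᵥ x =
      bf J z x • w - bf J w x • z - (bf J z z / 2 * bf J w x) • w := by
    intro x
    rw [Matrix.sub_mulVec, Matrix.one_mulVec, sieg_mulVec]
    abel
  rw [← Matrix.mulVec_mulVec, h1 y, h1]
  simp only [bf_sub_right, bf_smul_right, hw, hz, hzw, mul_zero, sub_zero, zero_smul, zero_sub]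
  module

theorem tools2_ten_zero (w : Fin b → F) : ten (0 : Fin a → F) w = 0 := by
  funext p
  simp [ten]

theorem tools2_ten_ne_zero (ha : 1 ≤ a) {w : Fin b → F} (hw : w ≠ 0) :
    ten (Pi.single (⟨0, ha⟩ : Fin a) (1 : F)) w ≠ 0 := by
  obtain ⟨j₀, hj₀⟩ : ∃ j₀, w j₀ ≠ 0 := by
    by_contra hcon
    push Not at hcon
    exact hw (funext hcon)
  intro h
  have := congrFun h (⟨0, ha⟩, j₀)
  simp [ten] at this
  exact hj₀ this

/-- LS2 [M-L]. STAB(planes) from STAB(points). -/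
theorem stabPl_of_stabPt (C : OCtx J1 J2) (ha : 1 ≤ a) (hb : 5 ≤ b) (hT : T1 J1 J2 ≤ M) (hM : M ≤ OV J1 J2)
    (hS : StabPt J2 M) : StabPl J2 M := by
  intro g hg w₁ w₂ w₁' w₂' hW hW' hmap
  obtain ⟨h11, h12, h22, hind⟩ := hW
  obtain ⟨h11', h12', h22', hind'⟩ := hW'
  have hw10 : w₁ ≠ 0 := by
    intro h
    have := hind 1 0 (by rw [h, smul_zero, zero_smul, add_zero])
    exact one_ne_zero this.1
  have hw1'0 : w₁' ≠ 0 := by
    intro h
    have := hind' 1 0 (by rw [h, smul_zero, zero_smul, add_zero])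
    exact one_ne_zero this.1
  have hJ2 := C.sym2
  -- the Siegel element
  obtain ⟨z, hz1, hz2, hzz⟩ := exists_nonsing_perp2 C.sym2 C.two C.det2
    (by rw [Fintype.card_fin]; exact hb) hw10 h11 h22 h12
  obtain ⟨σ, hσ, hσm⟩ := sieg_mem_Om C.sym2 C.two C.det2 h11 hz1
  have hzw1 : bf J2 z w₁ = 0 := by rw [bf_symm hJ2]; exact hz1
  have hzw2 : bf J2 z w₂ = 0 := by rw [bf_symm hJ2]; exact hz2
  set h : Matrix.GeneralLinearGroup (Fin a × Fin b) F := kB a b F σ with hh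
  have hhM : h ∈ M := hT (Subgroup.mem_sup_right (Subgroup.mem_map_of_mem _ hσ))
  have hhval : (h : Matrix (Fin a × Fin b) (Fin a × Fin b) F) =
      (1 : Matrix (Fin a) (Fin a) F) ⊗ₖ sieg J2 w₁ z := by
    rw [hh, kB_coe, hσm]
  have hσ1 : sieg J2 w₁ z *ᵥ w₁ = w₁ := by
    rw [sieg_mulVec, hzw1, h11]
    simp
  have hσ2 : sieg J2 w₁ z *ᵥ w₂ = w₂ := by
    rw [sieg_mulVec, hzw2, h12]
    simp
  have hfix : ∀ v ∈ Lpl (a := a) w₁ w₂, (h : Matrix (Fin a × Fin b) (Fin a × Fin b) F) *ᵥ v = v := by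
    rintro v ⟨u₁, u₂, rfl⟩
    rw [hhval, Matrix.mulVec_add, kron_mulVec_ten, kron_mulVec_ten, Matrix.one_mulVec, Matrix.one_mulVec,
      hσ1, hσ2]
  -- `g L_W = L_{W'}`
  have himg : img g (Lpl (a := a) w₁ w₂) = Lpl (a := a) w₁' w₂' := by
    apply Submodule.eq_of_le_of_finrank_eq
    · intro v hv
      obtain ⟨s, hs, rfl⟩ := (mem_img g _ v).mp hv
      exact hmap s hs
    · rw [finrank_img, finrank_Lpl _ _ hind, finrank_Lpl _ _ hind']
  have hgi : ((g⁻¹ : Matrix.GeneralLinearGroup (Fin a × Fin b) F) : Matrix (Fin a × Fin b) (Fin a × Fin b) F) *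
      (g : Matrix (Fin a × Fin b) (Fin a × Fin b) F) = 1 := by
    rw [← Units.val_mul, inv_mul_cancel, Units.val_one]
  have hgi' : (g : Matrix (Fin a × Fin b) (Fin a × Fin b) F) *
      ((g⁻¹ : Matrix.GeneralLinearGroup (Fin a × Fin b) F) : Matrix (Fin a × Fin b) (Fin a × Fin b) F) = 1 := by
    rw [← Units.val_mul, mul_inv_cancel, Units.val_one]
  -- `h' = g h g⁻¹`
  set h' : Matrix.GeneralLinearGroup (Fin a × Fin b) F := g * h * g⁻¹ with hh'
  have hh'M : h' ∈ M := M.mul_mem (M.mul_mem hg hhM) (M.inv_mem hg)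
  have hh'val : (h' : Matrix (Fin a × Fin b) (Fin a × Fin b) F) =
      (g : Matrix (Fin a × Fin b) (Fin a × Fin b) F) * (h : Matrix (Fin a × Fin b) (Fin a × Fin b) F) *
        ((g⁻¹ : Matrix.GeneralLinearGroup (Fin a × Fin b) F) : Matrix (Fin a × Fin b) (Fin a × Fin b) F) := by
    rw [hh', Units.val_mul, Units.val_mul]
  have hfix' : ∀ v' ∈ Lpl (a := a) w₁' w₂', (h' : Matrix (Fin a × Fin b) (Fin a × Fin b) F) *ᵥ v' = v' := by
    intro v' hv'
    rw [← himg] at hv'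
    obtain ⟨s, hs, rfl⟩ := (mem_img g _ v').mp hv'
    rw [hh'val, Matrix.mulVec_mulVec, Matrix.mul_assoc, hgi, Matrix.mul_one, ← Matrix.mulVec_mulVec,
      hfix s hs]
  -- `h' ∈ K0`
  have hh'K : h' ∈ K0 a b F := by
    apply hS h' hh'M w₁' w₁' hw1'0 hw1'0 h11' h11'
    intro u
    refine ⟨u, ?_⟩
    apply hfix'
    exact ⟨u, 0, by rw [tools2_ten_zero, add_zero]⟩
  obtain ⟨α', β', hαβ⟩ := (mem_K0 h').mp hh'K
  -- `α'` is a scalar
  obtain ⟨s, hs⟩ := tools2_scalar ha (α' : Matrix (Fin a) (Fin a) F)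
    ((β' : Matrix (Fin b) (Fin b) F) *ᵥ w₁') w₁' hw1'0 (by
      intro x
      rw [← kron_mulVec_ten, ← hαβ]
      apply hfix'
      exact ⟨x, 0, by rw [tools2_ten_zero, add_zero]⟩)
  set ν : Matrix (Fin b) (Fin b) F := s • (β' : Matrix (Fin b) (Fin b) F) - 1 with hν
  have hh'1 : (h' : Matrix (Fin a × Fin b) (Fin a × Fin b) F) - 1 =
      (1 : Matrix (Fin a) (Fin a) F) ⊗ₖ ν := by
    have e1 : s • (β' : Matrix (Fin b) (Fin b) F) = ν + 1 := by rw [hν]; abel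
    rw [hαβ, hs, Matrix.smul_kronecker, ← Matrix.kronecker_smul, e1, Matrix.kronecker_add,
      Matrix.one_kronecker_one, add_sub_cancel_right]
  have hh1 : (h : Matrix (Fin a × Fin b) (Fin a × Fin b) F) - 1 =
      (1 : Matrix (Fin a) (Fin a) F) ⊗ₖ (sieg J2 w₁ z - 1) := by
    have e1 : sieg J2 w₁ z = (sieg J2 w₁ z - 1) + 1 := by abel
    rw [hhval]
    conv_lhs => rw [e1]
    rw [Matrix.kronecker_add, Matrix.one_kronecker_one, add_sub_cancel_right]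
  set γ : Matrix (Fin b) (Fin b) F := ν * ν with hγ
  set E₀ : Matrix (Fin b) (Fin b) F := (sieg J2 w₁ z - 1) * (sieg J2 w₁ z - 1) with hE₀
  -- the key relation
  have hR : ((1 : Matrix (Fin a) (Fin a) F) ⊗ₖ γ) * (g : Matrix (Fin a × Fin b) (Fin a × Fin b) F) =
      (g : Matrix (Fin a × Fin b) (Fin a × Fin b) F) * ((1 : Matrix (Fin a) (Fin a) F) ⊗ₖ E₀) := by
    have e1 : (1 : Matrix (Fin a) (Fin a) F) ⊗ₖ γ =
        ((h' : Matrix (Fin a × Fin b) (Fin a × Fin b) F) - 1) *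
          ((h' : Matrix (Fin a × Fin b) (Fin a × Fin b) F) - 1) := by
      rw [hh'1, ← Matrix.mul_kronecker_mul, Matrix.one_mul]
    have e2 : (1 : Matrix (Fin a) (Fin a) F) ⊗ₖ E₀ =
        ((h : Matrix (Fin a × Fin b) (Fin a × Fin b) F) - 1) *
          ((h : Matrix (Fin a × Fin b) (Fin a × Fin b) F) - 1) := by
      rw [hh1, ← Matrix.mul_kronecker_mul, Matrix.one_mul]
    have e3 : (h' : Matrix (Fin a × Fin b) (Fin a × Fin b) F) - 1 =
        (g : Matrix (Fin a × Fin b) (Fin a × Fin b) F) *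
          ((h : Matrix (Fin a × Fin b) (Fin a × Fin b) F) - 1) *
        ((g⁻¹ : Matrix.GeneralLinearGroup (Fin a × Fin b) F) : Matrix (Fin a × Fin b) (Fin a × Fin b) F) := by
      rw [hh'val, Matrix.mul_sub, Matrix.sub_mul, Matrix.mul_one, hgi']
    rw [e1, e2, e3]
    calc (g : Matrix (Fin a × Fin b) (Fin a × Fin b) F) *
          ((h : Matrix (Fin a × Fin b) (Fin a × Fin b) F) - 1) *
          ((g⁻¹ : Matrix.GeneralLinearGroup (Fin a × Fin b) F) : Matrix (Fin a × Fin b) (Fin a × Fin b) F) *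
          ((g : Matrix (Fin a × Fin b) (Fin a × Fin b) F) *
          ((h : Matrix (Fin a × Fin b) (Fin a × Fin b) F) - 1) *
          ((g⁻¹ : Matrix.GeneralLinearGroup (Fin a × Fin b) F) : Matrix (Fin a × Fin b) (Fin a × Fin b) F)) *
          (g : Matrix (Fin a × Fin b) (Fin a × Fin b) F)
        = (g : Matrix (Fin a × Fin b) (Fin a × Fin b) F) *
          ((h : Matrix (Fin a × Fin b) (Fin a × Fin b) F) - 1) *
          (((g⁻¹ : Matrix.GeneralLinearGroup (Fin a × Fin b) F) : Matrix (Fin a × Fin b) (Fin a × Fin b) F) *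
          (g : Matrix (Fin a × Fin b) (Fin a × Fin b) F)) *
          ((h : Matrix (Fin a × Fin b) (Fin a × Fin b) F) - 1) *
          (((g⁻¹ : Matrix.GeneralLinearGroup (Fin a × Fin b) F) : Matrix (Fin a × Fin b) (Fin a × Fin b) F) *
          (g : Matrix (Fin a × Fin b) (Fin a × Fin b) F)) := by simp only [Matrix.mul_assoc]
      _ = _ := by rw [hgi, Matrix.mul_one, Matrix.mul_one, Matrix.mul_assoc]
  have hRv : ∀ v : Fin a × Fin b → F, ((1 : Matrix (Fin a) (Fin a) F) ⊗ₖ γ) *ᵥ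
      ((g : Matrix (Fin a × Fin b) (Fin a × Fin b) F) *ᵥ v) =
      (g : Matrix (Fin a × Fin b) (Fin a × Fin b) F) *ᵥ (((1 : Matrix (Fin a) (Fin a) F) ⊗ₖ E₀) *ᵥ v) := by
    intro v
    rw [Matrix.mulVec_mulVec, hR, ← Matrix.mulVec_mulVec]
  have hE₀v : ∀ y : Fin b → F, E₀ *ᵥ y = (-(bf J2 z z) * bf J2 w₁ y) • w₁ :=
    fun y => tools2_sieg_sq hJ2 h11 hz1 y
  have hE₀line : ∀ v : Fin a × Fin b → F, ∃ r : Fin a → F,
      ((1 : Matrix (Fin a) (Fin a) F) ⊗ₖ E₀) *ᵥ v = ten r w₁ :=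
    fun v => tools2_one_kron_line E₀ w₁ (fun y => ⟨_, hE₀v y⟩) v
  have hginv : ∀ v : Fin a × Fin b → F, (g : Matrix (Fin a × Fin b) (Fin a × Fin b) F) *ᵥ
      (((g⁻¹ : Matrix.GeneralLinearGroup (Fin a × Fin b) F) : Matrix (Fin a × Fin b) (Fin a × Fin b) F) *ᵥ v) = v := by
    intro v
    rw [Matrix.mulVec_mulVec, hgi', Matrix.one_mulVec]
  have hginj : ∀ v : Fin a × Fin b → F, (g : Matrix (Fin a × Fin b) (Fin a × Fin b) F) *ᵥ v = 0 → v = 0 := by
    intro v hv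
    have := congrArg (fun x => ((g⁻¹ : Matrix.GeneralLinearGroup (Fin a × Fin b) F) :
      Matrix (Fin a × Fin b) (Fin a × Fin b) F) *ᵥ x) hv
    simpa [Matrix.mulVec_mulVec, hgi] using this
  -- every `x ⊗ γ y` lies in `g (A ⊗ w₁)`
  have hmemT : ∀ (x : Fin a → F) (y : Fin b → F), ∃ r : Fin a → F,
      ten x (γ *ᵥ y) = (g : Matrix (Fin a × Fin b) (Fin a × Fin b) F) *ᵥ ten r w₁ := by
    intro x y
    obtain ⟨r, hr⟩ := hE₀line (((g⁻¹ : Matrix.GeneralLinearGroup (Fin a × Fin b) F) :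
      Matrix (Fin a × Fin b) (Fin a × Fin b) F) *ᵥ ten x y)
    refine ⟨r, ?_⟩
    rw [← hr, ← hRv, hginv, kron_mulVec_ten, Matrix.one_mulVec]
  -- the image of `γ` is at most a line
  have hdep : ∀ y₁ y₂ : Fin b → F,
      ¬ (∀ c₁ c₂ : F, c₁ • (γ *ᵥ y₁) + c₂ • (γ *ᵥ y₂) = 0 → c₁ = 0 ∧ c₂ = 0) := by
    intro y₁ y₂ hi
    have hle : Lpl (a := a) (γ *ᵥ y₁) (γ *ᵥ y₂) ≤ img g (Bline (a := a) w₁) := by
      rintro v ⟨u₁, u₂, rfl⟩
      obtain ⟨r₁, hr₁⟩ := hmemT u₁ y₁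
      obtain ⟨r₂, hr₂⟩ := hmemT u₂ y₂
      rw [mem_img]
      refine ⟨ten (r₁ + r₂) w₁, (mem_Bline _ _).mpr ⟨_, rfl⟩, ?_⟩
      rw [ten_add_left, Matrix.mulVec_add, ← hr₁, ← hr₂]
    have h1 := Submodule.finrank_mono hle
    rw [finrank_Lpl _ _ hi, finrank_img, tpmeet_finrank_Bline w₁ hw10] at h1
    omega
  -- a vector `d` with `f(w₁,d) = 1`
  obtain ⟨d0, hd0⟩ := bf_nondeg C.det2 hw10
  obtain ⟨d, hd⟩ : ∃ d : Fin b → F, bf J2 w₁ d = 1 :=
    ⟨(bf J2 w₁ d0)⁻¹ • d0, by rw [bf_smul_right, inv_mul_cancel₀ hd0]⟩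
  have hc₀ : -(bf J2 z z) ≠ 0 := neg_ne_zero.mpr hzz
  have hK : ∀ u : Fin a → F, ((1 : Matrix (Fin a) (Fin a) F) ⊗ₖ γ) *ᵥ
      ((g : Matrix (Fin a × Fin b) (Fin a × Fin b) F) *ᵥ ten u d) =
      (-(bf J2 z z)) • ((g : Matrix (Fin a × Fin b) (Fin a × Fin b) F) *ᵥ ten u w₁) := by
    intro u
    rw [hRv, kron_mulVec_ten, Matrix.one_mulVec, hE₀v, hd, mul_one, ten_smul_right, Matrix.mulVec_smul]
  have hgw1 : (g : Matrix (Fin a × Fin b) (Fin a × Fin b) F) *ᵥ ten (Pi.single (⟨0, ha⟩ : Fin a) (1 : F)) w₁ ≠ 0 :=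
    fun h0 => tools2_ten_ne_zero ha hw10 (hginj _ h0)
  -- `γ ≠ 0`
  obtain ⟨y₀, hy₀⟩ : ∃ y₀ : Fin b → F, γ *ᵥ y₀ ≠ 0 := by
    by_contra hcon
    push Not at hcon
    obtain ⟨u', hu'⟩ := tools2_one_kron_line (a := a) γ 0 (fun y => ⟨0, by rw [hcon, smul_zero]⟩)
      ((g : Matrix (Fin a × Fin b) (Fin a × Fin b) F) *ᵥ ten (Pi.single (⟨0, ha⟩ : Fin a) (1 : F)) d)
    rw [hK] at hu'
    have h0 : ten u' (0 : Fin b → F) = 0 := by
      funext q
      simp [ten]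
    rw [h0] at hu'
    rcases smul_eq_zero.mp hu' with h1 | h1
    · exact hc₀ h1
    · exact hgw1 h1
  set p : Fin b → F := γ *ᵥ y₀ with hp
  have hline : ∀ y : Fin b → F, ∃ c : F, γ *ᵥ y = c • p := by
    intro y
    have := hdep y₀ y
    push Not at this
    obtain ⟨c₁, c₂, hc, hne⟩ := this
    have hc2 : c₂ ≠ 0 := by
      intro h0
      rw [h0, zero_smul, add_zero] at hc
      rcases smul_eq_zero.mp hc with h1 | h1
      · exact hne h1 h0
      · exact hy₀ h1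
    refine ⟨-(c₁ / c₂), ?_⟩
    have h3 : c₂ • (γ *ᵥ y) = c₂ • (-(c₁ / c₂)) • p := by
      rw [smul_smul, mul_neg, mul_div_cancel₀ _ hc2, neg_smul, hp]
      exact eq_neg_of_add_eq_zero_right hc
    exact smul_right_injective _ hc2 h3
  -- `g (A ⊗ w₁) ≤ A ⊗ p`
  have hstep : ∀ u : Fin a → F, ∃ u' : Fin a → F,
      (g : Matrix (Fin a × Fin b) (Fin a × Fin b) F) *ᵥ ten u w₁ = ten u' p := by
    intro u
    obtain ⟨u'', hu''⟩ := tools2_one_kron_line (a := a) γ p hline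
      ((g : Matrix (Fin a × Fin b) (Fin a × Fin b) F) *ᵥ ten u d)
    rw [hK] at hu''
    refine ⟨(-(bf J2 z z))⁻¹ • u'', ?_⟩
    rw [ten_smul_left, ← hu'', smul_smul, inv_mul_cancel₀ hc₀, one_smul]
  -- `p` is singular
  have hpp : bf J2 p p = 0 := by
    have heq : img g (Bline (a := a) w₁) = Bline (a := a) p := by
      apply Submodule.eq_of_le_of_finrank_eq
      · intro v hv
        obtain ⟨s', hs', rfl⟩ := (mem_img g _ v).mp hv
        obtain ⟨u, rfl⟩ := (mem_Bline _ _).mp hs'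
        obtain ⟨u', hu'⟩ := hstep u
        rw [hu']
        exact (mem_Bline _ _).mpr ⟨u', rfl⟩
      · rw [finrank_img, tpmeet_finrank_Bline w₁ hw10, tpmeet_finrank_Bline p hy₀]
    obtain ⟨u', _, hu'⟩ := toolg4_exists_nonsing C.sym1 C.two C.det1 (⊤ : Submodule F (Fin a → F)) (by
      rw [finrank_top, Module.finrank_fintype_fun_eq_card, Fintype.card_fin]
      omega)
    have hmem : ten u' p ∈ img g (Bline (a := a) w₁) := by
      rw [heq]
      exact (mem_Bline _ _).mpr ⟨u', rfl⟩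
    obtain ⟨s', hs', hs'eq⟩ := (mem_img g _ _).mp hmem
    obtain ⟨u, rfl⟩ := (mem_Bline _ _).mp hs'
    have hiso := (mem_Iso_iff_bf (JV J1 J2) g).mp (hM hg) (ten u w₁) (ten u w₁)
    rw [hs'eq, bf_JV_ten, bf_JV_ten, h11, mul_zero] at hiso
    rcases mul_eq_zero.mp hiso with h1 | h1
    · exact absurd h1 hu'
    · exact h1
  exact hS g hg w₁ p hw10 hy₀ h11 hpp hstep

end Cfsg.Agent.Lib.Helper28.TOO
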