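import Mathlib

/-!
# BURNCORE (helper6): the Frobenius partition via Burnside's transfer theorem

`burncore_main`: `X` an abelian `p`-subgroup of a finite group `G` which is TI and self-normalizing
(`hTI`: if `g x g⁻¹ ∈ X` for some `x ∈ X`, `x ≠ 1`, then `g ∈ X`), `3 ≤ |X|`.  Then for EVERY `y : G` there is
`x ∈ X`, `x ≠ 1`, such that `x * y` lies in a conjugate of `X`.
(Burnside: `G = Y ⋊ X`; choose `x` with `π (x y) ≠ 1`; the `p`-part of `x y` lies in a conjugate of `X`, TI.)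
-/

set_option autoImplicit false

namespace Cfsg.Agent.Lib.helper6.Burn

open Subgroup

variable {G : Type*} [Group G] [Finite G] (p : ℕ) [Fact p.Prime]

/-- a TI self-normalizing `p`-subgroup is a Sylow `p`-subgroup. -/
theorem burncore_max (X : Subgroup G)
    (hTI : ∀ g : G, (∃ x ∈ X, x ≠ 1 ∧ g * x * g⁻¹ ∈ X) → g ∈ X)
    (hne : ∃ x ∈ X, x ≠ 1) {Q : Subgroup G} (hQ : IsPGroup p Q) (hXQ : X ≤ Q) : Q = X := by
  by_contra hne'
  have hlt : X.subgroupOf Q < ⊤ := by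
    rw [lt_top_iff_ne_top]
    intro h
    apply hne'
    apply le_antisymm _ hXQ
    rw [Subgroup.subgroupOf_eq_top] at h
    exact h
  have hnil : Group.IsNilpotent Q := hQ.isNilpotent
  have hnc := Group.normalizerCondition_of_isNilpotent (G := Q) (X.subgroupOf Q) hlt
  obtain ⟨g, hgN, hgX⟩ := SetLike.exists_of_lt hnc
  apply hgX
  rw [Subgroup.mem_subgroupOf]
  apply hTI
  obtain ⟨x, hx, hx1⟩ := hne
  refine ⟨x, hx, hx1, ?_⟩
  rw [Subgroup.mem_normalizer_iff] at hgN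
  have := (hgN ⟨x, hXQ hx⟩).mp (by rw [Subgroup.mem_subgroupOf]; exact hx)
  rw [Subgroup.mem_subgroupOf] at this
  simpa using this

theorem burncore_main (X : Subgroup G) (hXp : IsPGroup p X)
    (hab : ∀ x ∈ X, ∀ x' ∈ X, x * x' = x' * x)
    (hTI : ∀ g : G, (∃ x ∈ X, x ≠ 1 ∧ g * x * g⁻¹ ∈ X) → g ∈ X)
    (hcard : 3 ≤ Nat.card X) (y : G) :
    ∃ x ∈ X, x ≠ 1 ∧ ∃ γ : G, γ⁻¹ * (x * y) * γ ∈ X := by
  classical
  have hne : ∃ x ∈ X, x ≠ 1 := by
    by_contra hcon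
    push Not at hcon
    have hbot : X = ⊥ := by
      rw [Subgroup.eq_bot_iff_forall]
      exact hcon
    rw [hbot, Subgroup.card_bot] at hcard
    omega
  -- the Sylow subgroup
  let P : Sylow p G :=
    { toSubgroup := X
      isPGroup' := hXp
      is_maximal' := fun {Q} hQ hXQ => burncore_max p X hTI hne hQ hXQ }
  have hPX : (P : Subgroup G) = X := rfl
  have hP : normalizer (P : Subgroup G) ≤ centralizer ((P : Subgroup G) : Set G) := by
    intro g hg
    rw [hPX] at hg ⊢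
    have hgX : g ∈ X := by
      apply hTI
      obtain ⟨x, hx, hx1⟩ := hne
      refine ⟨x, hx, hx1, ?_⟩
      rw [Subgroup.mem_normalizer_iff] at hg
      exact (hg x).mp hx
    rw [Subgroup.mem_centralizer_iff]
    intro x hx
    exact hab x hx g hgX
  let π : G →* P := MonoidHom.transferSylow P hP
  have hker : ∀ x ∈ X, π x = 1 → x = 1 := by
    intro x hx h1
    have hdis := MonoidHom.ker_transferSylow_disjoint P hP X hXp
    rw [Subgroup.disjoint_def] at hdis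
    exact hdis (MonoidHom.mem_ker.mpr h1) hx
  -- `π` restricted to `X` is injective, hence surjective
  have hinj : Function.Injective (fun x : P => π (x : G)) := by
    intro x x' h
    have h2 : π ((x : G) * (x' : G)⁻¹) = 1 := by
      rw [map_mul, map_inv]
      simp only at h
      rw [h, mul_inv_cancel]
    have h3 := hker _ (X.mul_mem x.2 (X.inv_mem x'.2)) h2
    apply Subtype.ext
    exact mul_inv_eq_one.mp h3
  have hsurj : Function.Surjective (fun x : P => π (x : G)) := Finite.surjective_of_injective hinj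
  obtain ⟨x₀, hx₀⟩ := hsurj (π y)⁻¹
  simp only at hx₀
  -- choose `x ∉ {1, x₀}`
  have hFP : Fintype P := Fintype.ofFinite P
  have hex : ∃ x : P, x ≠ 1 ∧ x ≠ x₀ := by
    by_contra hcon
    push Not at hcon
    have hsub : (Finset.univ : Finset P) ⊆ {1, x₀} := by
      intro x _
      by_cases h : x = 1
      · simp [h]
      · simp [hcon x h]
    have hc : Fintype.card P ≤ 2 := by
      calc Fintype.card P = (Finset.univ : Finset P).card := rfl
        _ ≤ ({1, x₀} : Finset P).card := Finset.card_le_card hsub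
        _ ≤ 2 := Finset.card_le_two
    have : Nat.card X = Fintype.card P := Nat.card_eq_fintype_card
    omega
  obtain ⟨x, hx1, hxx₀⟩ := hex
  have hxG : (x : G) ≠ 1 := fun h => hx1 (Subtype.ext h)
  refine ⟨x, x.2, hxG, ?_⟩
  set g₀ : G := (x : G) * y with hg₀
  have hπg₀ : π g₀ ≠ 1 := by
    intro h
    rw [hg₀, map_mul] at h
    apply hxx₀
    apply hinj
    simp only
    rw [hx₀]
    exact eq_inv_of_mul_eq_one_left h
  -- `p ∣ orderOf g₀`
  have hdvd : p ∣ orderOf g₀ := by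
    have h1 : orderOf (π g₀) ∣ orderOf g₀ := orderOf_map_dvd π g₀
    obtain ⟨k, hk⟩ := (IsPGroup.iff_orderOf.mp P.isPGroup') (π g₀)
    have hk0 : k ≠ 0 := by
      intro h0
      rw [h0, pow_zero, orderOf_eq_one_iff] at hk
      exact hπg₀ hk
    rw [hk] at h1
    exact (dvd_pow_self p hk0).trans h1
  have hord0 : orderOf g₀ ≠ 0 := (orderOf_pos g₀).ne'
  set υ : G := g₀ ^ (orderOf g₀ / p) with hυ
  have hυord : orderOf υ = p := orderOf_pow_orderOf_div hord0 hdvd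
  have hυ1 : υ ≠ 1 := by
    intro h
    rw [h, orderOf_one] at hυord
    exact (Fact.out : p.Prime).one_lt.ne hυord
  have hυp : IsPGroup p (Subgroup.zpowers υ) := by
    apply IsPGroup.of_card (n := 1)
    rw [Nat.card_zpowers, hυord, pow_one]
  obtain ⟨Q, hQ⟩ := hυp.exists_le_sylow
  obtain ⟨γ, hγ⟩ := MulAction.exists_smul_eq G P Q
  have hυQ : υ ∈ (Q : Subgroup G) := hQ (Subgroup.mem_zpowers υ)
  have hx₁ : γ⁻¹ * υ * γ ∈ X := by
    rw [← hγ, Sylow.coe_subgroup_smul, Subgroup.mem_pointwise_smul_iff_inv_smul_mem] at hυQ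
    simpa [MulAut.smul_def] using hυQ
  refine ⟨γ, ?_⟩
  apply hTI
  refine ⟨γ⁻¹ * υ * γ, hx₁, ?_, ?_⟩
  · intro h
    apply hυ1
    have : υ = γ * (γ⁻¹ * υ * γ) * γ⁻¹ := by group
    rw [this, h]
    group
  · have hcomm : g₀ * υ * g₀⁻¹ = υ := by
      rw [hυ]
      have : Commute g₀ (g₀ ^ (orderOf g₀ / p)) := Commute.pow_right (Commute.refl g₀) _
      rw [this.eq, mul_assoc, mul_inv_cancel, mul_one]
    have : γ⁻¹ * g₀ * γ * (γ⁻¹ * υ * γ) * (γ⁻¹ * g₀ * γ)⁻¹ = γ⁻¹ * (g₀ * υ * g₀⁻¹) * γ := by group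
    rw [this, hcomm]
    exact hx₁


/-- the same inside a finite subgroup `Γ` of an arbitrary group. -/
theorem burncore_sub {H : Type*} [Group H] (Γ X : Subgroup H) [Finite Γ] (hXΓ : X ≤ Γ)
    (hXp : IsPGroup p X)
    (hab : ∀ x ∈ X, ∀ x' ∈ X, x * x' = x' * x)
    (hTI : ∀ g ∈ Γ, (∃ x ∈ X, x ≠ 1 ∧ g * x * g⁻¹ ∈ X) → g ∈ X)
    (hcard : 3 ≤ Nat.card X) (y : H) (hy : y ∈ Γ) :
    ∃ x ∈ X, x ≠ 1 ∧ ∃ γ ∈ Γ, γ⁻¹ * (x * y) * γ ∈ X := by
  have hXp' : IsPGroup p (X.subgroupOf Γ) := by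
    intro g
    obtain ⟨k, hk⟩ := hXp ⟨(g : Γ), g.2⟩
    refine ⟨k, ?_⟩
    apply Subtype.ext
    apply Subtype.ext
    have := congrArg Subtype.val hk
    simpa using this
  have hcard' : 3 ≤ Nat.card (X.subgroupOf Γ) := by
    rw [Nat.card_congr (Subgroup.subgroupOfEquivOfLe hXΓ).toEquiv]
    exact hcard
  obtain ⟨x, hx, hx1, γ, hγ⟩ := burncore_main (G := Γ) p (X.subgroupOf Γ) hXp'
    (by
      intro x hx x' hx'
      apply Subtype.ext
      exact hab x hx x' hx')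
    (by
      rintro g ⟨x, hx, hx1, hgx⟩
      rw [Subgroup.mem_subgroupOf] at hx hgx ⊢
      apply hTI g g.2
      refine ⟨x, hx, ?_, ?_⟩
      · intro h
        apply hx1
        exact Subtype.ext h
      · simpa using hgx)
    hcard' ⟨y, hy⟩
  rw [Subgroup.mem_subgroupOf] at hx hγ
  refine ⟨x, hx, ?_, γ, γ.2, ?_⟩
  · intro h
    apply hx1
    exact Subtype.ext h
  · simpa using hγ


/-! ## The linear part: two opposite square-zero root elements -/

section Lin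

open Matrix

variable {ι F : Type*} [Fintype ι] [DecidableEq ι] [Field F]

/-- `g₀ = (1 + a N)(1 + N')`, `N² = 0 = N'²`, `im N ∩ im N' = 0`, `l ∈ ker N` with `N' N N' l ≠ 0`:
then `(g₀ - 1)² ≠ 0`. -/
theorem burncore_lin (N N' : Matrix ι ι F) (hN : N * N = 0) (hN' : N' * N' = 0)
    (hdisj : ∀ v w : ι → F, N *ᵥ v = N' *ᵥ w → N *ᵥ v = 0)
    (l : ι → F) (hl : N *ᵥ l = 0) (hgen : N' *ᵥ (N *ᵥ (N' *ᵥ l)) ≠ 0) (a : F) (ha : a ≠ 0) :
    ((1 + a • N) * (1 + N') - 1) * ((1 + a • N) * (1 + N') - 1) ≠ 0 := by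
  intro h0
  have hZ : (1 + a • N) * (1 + N') - 1 = a • N + N' + a • (N * N') := by
    rw [Matrix.add_mul, Matrix.mul_add, Matrix.mul_add, Matrix.one_mul, Matrix.one_mul,
      Matrix.mul_one, Matrix.smul_mul]
    abel
  rw [hZ] at h0
  have hNN : ∀ v : ι → F, N *ᵥ (N *ᵥ v) = 0 := by
    intro v
    rw [Matrix.mulVec_mulVec, hN, Matrix.zero_mulVec]
  have hN'N' : ∀ v : ι → F, N' *ᵥ (N' *ᵥ v) = 0 := by
    intro v
    rw [Matrix.mulVec_mulVec, hN', Matrix.zero_mulVec]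
  have hZv : ∀ v : ι → F, (a • N + N' + a • (N * N')) *ᵥ v =
      a • (N *ᵥ v) + N' *ᵥ v + a • (N *ᵥ (N' *ᵥ v)) := by
    intro v
    rw [Matrix.add_mulVec, Matrix.add_mulVec, Matrix.smul_mulVec, Matrix.smul_mulVec,
      Matrix.mulVec_mulVec]
  have h1 := congrArg (fun Z : Matrix ι ι F => Z *ᵥ l) h0
  simp only [Matrix.zero_mulVec] at h1
  rw [← Matrix.mulVec_mulVec, hZv l, hl, smul_zero, zero_add, hZv] at h1
  simp only [Matrix.mulVec_add, Matrix.mulVec_smul, hNN, hN'N', smul_zero, add_zero, zero_add] at h1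
  -- h1 : a • N (N' l) + a • N' (N (N' l)) + a • (a • N (N' (N (N' l)))) = 0
  have h2 : N *ᵥ (a • (N' *ᵥ l) + (a * a) • (N' *ᵥ (N *ᵥ (N' *ᵥ l)))) =
      N' *ᵥ (-(a • (N *ᵥ (N' *ᵥ l)))) := by
    rw [Matrix.mulVec_add, Matrix.mulVec_smul, Matrix.mulVec_smul, Matrix.mulVec_neg,
      Matrix.mulVec_smul, eq_neg_iff_add_eq_zero, ← h1, smul_smul]
    abel
  have h3 := hdisj _ _ h2
  rw [h3] at h2
  rw [Matrix.mulVec_neg, Matrix.mulVec_smul, eq_comm, neg_eq_zero, smul_eq_zero] at h2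
  rcases h2 with h2 | h2
  · exact ha h2
  · exact hgen h2

/-- **The Burnside finish.**  `Γ` a finite subgroup of `GL`, `char F = p`, `X = {1 + c N}` (`N² = 0`) a TI, self-normalizing
subgroup of `Γ` with at least `3` elements, `y = 1 + N' ∈ Γ` (`N'² = 0`) in generic position (`im N ∩ im N' = 0` and some
`l ∈ ker N` with `N' N N' l ≠ 0`): impossible. -/
theorem burncore_false (p : ℕ) [Fact p.Prime] [CharP F p]
    (Γ X : Subgroup (Matrix.GeneralLinearGroup ι F)) [Finite Γ] (hXΓ : X ≤ Γ)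
    (N N' : Matrix ι ι F) (hN : N * N = 0) (hN' : N' * N' = 0)
    (hX : ∀ g : Matrix.GeneralLinearGroup ι F, g ∈ X ↔ ∃ c : F, (g : Matrix ι ι F) = 1 + c • N)
    (hcard : 3 ≤ Nat.card X)
    (hTI : ∀ g ∈ Γ, (∃ x ∈ X, x ≠ 1 ∧ g * x * g⁻¹ ∈ X) → g ∈ X)
    (y : Matrix.GeneralLinearGroup ι F) (hy : y ∈ Γ) (hyN : (y : Matrix ι ι F) = 1 + N')
    (hdisj : ∀ v w : ι → F, N *ᵥ v = N' *ᵥ w → N *ᵥ v = 0)
    (l : ι → F) (hl : N *ᵥ l = 0) (hgen : N' *ᵥ (N *ᵥ (N' *ᵥ l)) ≠ 0) : False := by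
  have hpow : ∀ (c : F) (n : ℕ), (1 + c • N) ^ n = 1 + ((n : F) * c) • N := by
    intro c n
    induction n with
    | zero => simp
    | succ n ih =>
      rw [pow_succ, ih]
      simp only [Matrix.add_mul, Matrix.mul_add, Matrix.one_mul, Matrix.mul_one, Matrix.smul_mul,
        Matrix.mul_smul, hN, smul_zero, add_zero]
      rw [Nat.cast_succ, add_mul, one_mul, add_smul, add_assoc]
  have hXp : IsPGroup p X := by
    intro g
    refine ⟨1, ?_⟩
    obtain ⟨c, hc⟩ := (hX g).mp g.2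
    apply Subtype.ext
    apply Units.ext
    rw [pow_one]
    show ((g : Matrix.GeneralLinearGroup ι F) ^ p : Matrix.GeneralLinearGroup ι F).val = 1
    rw [Units.val_pow_eq_pow_val, hc, hpow, CharP.cast_eq_zero, zero_mul, zero_smul, add_zero]
  have hab : ∀ x ∈ X, ∀ x' ∈ X, x * x' = x' * x := by
    intro x hx x' hx'
    obtain ⟨c, hc⟩ := (hX x).mp hx
    obtain ⟨c', hc'⟩ := (hX x').mp hx'
    apply Units.ext
    rw [Units.val_mul, Units.val_mul, hc, hc']
    simp only [Matrix.add_mul, Matrix.mul_add, Matrix.one_mul, Matrix.mul_one, Matrix.smul_mul,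
      Matrix.mul_smul, hN, smul_zero, add_zero]
    abel
  obtain ⟨x, hx, hx1, γ, hγΓ, hγ⟩ := burncore_sub p Γ X hXΓ hXp hab hTI hcard y hy
  obtain ⟨a, ha⟩ := (hX x).mp hx
  have ha0 : a ≠ 0 := by
    intro h
    apply hx1
    apply Units.ext
    rw [ha, h, zero_smul, add_zero]
    rfl
  obtain ⟨c, hc⟩ := (hX _).mp hγ
  apply burncore_lin N N' hN hN' hdisj l hl hgen a ha0
  have hγi : ((γ⁻¹ : Matrix.GeneralLinearGroup ι F) : Matrix ι ι F) * (γ : Matrix ι ι F) = 1 := by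
    rw [← Units.val_mul, inv_mul_cancel, Units.val_one]
  have hγi' : (γ : Matrix ι ι F) * ((γ⁻¹ : Matrix.GeneralLinearGroup ι F) : Matrix ι ι F) = 1 := by
    rw [← Units.val_mul, mul_inv_cancel, Units.val_one]
  have hxy : (1 + a • N) * (1 + N') =
      (γ : Matrix ι ι F) * (1 + c • N) * ((γ⁻¹ : Matrix.GeneralLinearGroup ι F) : Matrix ι ι F) := by
    rw [← hc, ← ha, ← hyN]
    simp only [Units.val_mul]
    calc (x : Matrix ι ι F) * (y : Matrix ι ι F)
        = ((γ : Matrix ι ι F) * ((γ⁻¹ : Matrix.GeneralLinearGroup ι F) : Matrix ι ι F)) *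
            ((x : Matrix ι ι F) * (y : Matrix ι ι F)) *
            ((γ : Matrix ι ι F) * ((γ⁻¹ : Matrix.GeneralLinearGroup ι F) : Matrix ι ι F)) := by
          rw [hγi', Matrix.one_mul, Matrix.mul_one]
      _ = _ := by simp only [Matrix.mul_assoc]
  have hsub : (1 + a • N) * (1 + N') - 1 =
      (γ : Matrix ι ι F) * (c • N) * ((γ⁻¹ : Matrix.GeneralLinearGroup ι F) : Matrix ι ι F) := by
    rw [hxy, Matrix.mul_add, Matrix.add_mul, Matrix.mul_one, hγi', add_sub_cancel_left]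
  rw [hsub]
  calc (γ : Matrix ι ι F) * (c • N) * ((γ⁻¹ : Matrix.GeneralLinearGroup ι F) : Matrix ι ι F) *
        ((γ : Matrix ι ι F) * (c • N) * ((γ⁻¹ : Matrix.GeneralLinearGroup ι F) : Matrix ι ι F))
      = (γ : Matrix ι ι F) * ((c • N) * (((γ⁻¹ : Matrix.GeneralLinearGroup ι F) : Matrix ι ι F) *
          (γ : Matrix ι ι F)) * (c • N)) * ((γ⁻¹ : Matrix.GeneralLinearGroup ι F) : Matrix ι ι F) := by
        simp only [Matrix.mul_assoc]
    _ = 0 := by
        simp only [hγi, Matrix.mul_one, Matrix.smul_mul, Matrix.mul_smul, hN, smul_zero,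
          Matrix.mul_zero, Matrix.zero_mul]

end Lin

end Cfsg.Agent.Lib.helper6.Burn
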