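import Cfsg.Agent.Lib.helper6.TS4BURNTI
import Cfsg.Agent.Lib.helper6.BURNCORE
import Cfsg.Agent.Lib.Helper28.TS4MEET

/-! # Project TS4, piece BURN: no generic `S = g L_{u₀}` exists (Burnside's transfer theorem) -/

set_option autoImplicit false
set_option linter.unusedSectionVars false
set_option linter.unusedVariables false

namespace Cfsg.Agent.Lib.Helper21.TS

open Matrix
open scoped Kronecker
open Cfsg.Agent.Lib.helper7.TP

variable {a b : ℕ} {F : Type*} [Field F]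
variable {J1 : Matrix (Fin a) (Fin a) F} {J2 : Matrix (Fin b) (Fin b) F}

theorem ts4burn_xA_mem_T0 (C : Ctx J1 J2) (w : Fin a → F) (c : F) : xA C w c ∈ T0 J1 J2 := by
  have hww : bf J1 w w = 0 := bf_self_alt C.alt C.two w
  have hxeq : xA C w c = kronG (tvG J1 w hww c) (1 : Matrix.GeneralLinearGroup (Fin b) F) := by
    apply Units.ext
    rw [xA_coe, kronG_coe, XAm_scalar, tvG_coe, Units.val_one]
  rw [hxeq]
  exact kronG_mem_T0 (tvG_mem_Iso C.alt w hww c) (Subgroup.one_mem _)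

/-- the subgroup `X_u = {x_u(c)}`. -/
def ts4burn_X (C : Ctx J1 J2) (u : Fin a → F) :
    Subgroup (Matrix.GeneralLinearGroup (Fin a × Fin b) F) where
  carrier := {h | ∃ c : F, h = xA C u c}
  one_mem' := by
    refine ⟨0, ?_⟩
    apply Units.ext
    rw [xA_coe, zero_smul, XAm_zero, Units.val_one]
  mul_mem' := by
    rintro h h' ⟨c, rfl⟩ ⟨c', rfl⟩
    refine ⟨c + c', ?_⟩
    apply Units.ext
    rw [Units.val_mul, xA_coe, xA_coe, xA_coe, XAm_mul J1 u (bf_self_alt C.alt C.two u), add_smul]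
  inv_mem' := by
    rintro h ⟨c, rfl⟩
    refine ⟨-c, ?_⟩
    apply Units.ext
    rw [xA_coe, neg_smul]
    rfl

/-- the pointwise stabiliser of `L_u^⊥ ∩ S^⊥`. -/
def ts4burn_Fix (J1 : Matrix (Fin a) (Fin a) F) (J2 : Matrix (Fin b) (Fin b) F)
    (g : Matrix.GeneralLinearGroup (Fin a × Fin b) F) (u₀ u : Fin a → F) :
    Subgroup (Matrix.GeneralLinearGroup (Fin a × Fin b) F) where
  carrier := {h | ∀ v : Fin a × Fin b → F, (∀ y' : Fin b → F, bf (JV J1 J2) v (ten u y') = 0) →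
      (∀ y' : Fin b → F, bf (JV J1 J2) v
        ((g : Matrix (Fin a × Fin b) (Fin a × Fin b) F) *ᵥ ten u₀ y') = 0) →
      (h : Matrix (Fin a × Fin b) (Fin a × Fin b) F) *ᵥ v = v}
  one_mem' := by
    intro v _ _
    rw [Units.val_one, Matrix.one_mulVec]
  mul_mem' := by
    intro h h' hh hh' v hv1 hv2
    rw [Units.val_mul, ← Matrix.mulVec_mulVec, hh' v hv1 hv2, hh v hv1 hv2]
  inv_mem' := by
    intro h hh v hv1 hv2
    have := hh v hv1 hv2
    conv_lhs => rw [← this]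
    rw [Matrix.mulVec_mulVec, ← Units.val_mul, inv_mul_cancel, Units.val_one, Matrix.one_mulVec]

/-- BURN. -/
theorem burn_false [Fintype F] (p : ℕ) [Fact p.Prime] [CharP F p] (C : Ctx J1 J2) (ha : 3 ≤ a)
    (hb : 1 ≤ b) (M : Subgroup (Matrix.GeneralLinearGroup (Fin a × Fin b) F)) (hT0 : T0 J1 J2 ≤ M)
    (hMS : M ≤ SpV J1 J2) (hS : StabA M)
    (g : Matrix.GeneralLinearGroup (Fin a × Fin b) F) (hg : g ∈ M)
    (u₀ : Fin a → F) (hu₀ : u₀ ≠ 0) (hG : GenA J1 J2 g u₀) : False := by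
  classical
  have hgS : g ∈ SpV J1 J2 := hMS hg
  have huu : bf J1 u₀ u₀ = 0 := bf_self_alt C.alt C.two u₀
  obtain ⟨z', hz'⟩ := bf_nondeg C.det1 hu₀
  set x' : Fin a → F := (bf J1 u₀ z')⁻¹ • z' with hx'
  have hux' : bf J1 u₀ x' = 1 := by rw [hx', bf_smul_right, inv_mul_cancel₀ hz']
  obtain ⟨y₀, hy₀⟩ : ∃ y₀ : Fin b → F, y₀ ≠ 0 := by
    refine ⟨Pi.single ⟨0, hb⟩ 1, fun h0 => ?_⟩
    have := congrFun h0 ⟨0, hb⟩
    simp at this
  -- the nilpotent matrices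
  set N : Matrix (Fin a × Fin b) (Fin a × Fin b) F :=
    opm J1 u₀ u₀ ⊗ₖ (1 : Matrix (Fin b) (Fin b) F) with hN
  have hXN : ∀ c : F, XAm J1 u₀ (c • (1 : Matrix (Fin b) (Fin b) F)) = 1 + c • N := by
    intro c
    rw [XAm, Matrix.kronecker_smul]
  have hNv : ∀ v : Fin a × Fin b → F, N *ᵥ v = ten u₀ (tsP J1 u₀ v) := by
    intro v
    have h1 := tsnta_XAm_mulVec J1 u₀ ((1 : F) • (1 : Matrix (Fin b) (Fin b) F)) v
    rw [hXN, Matrix.add_mulVec, Matrix.one_mulVec, one_smul, one_smul, Matrix.one_mulVec] at h1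
    exact add_left_cancel h1
  have hNN : N * N = 0 := by
    rw [hN, ← Matrix.mul_kronecker_mul, opm_mul_opm, huu, zero_smul, Matrix.zero_kronecker]
  set gi : Matrix (Fin a × Fin b) (Fin a × Fin b) F :=
    ((g⁻¹ : Matrix.GeneralLinearGroup (Fin a × Fin b) F) :
      Matrix (Fin a × Fin b) (Fin a × Fin b) F) with hgi
  have hgig : gi * (g : Matrix (Fin a × Fin b) (Fin a × Fin b) F) = 1 := by
    rw [hgi, ← Units.val_mul, inv_mul_cancel, Units.val_one]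
  have hggi : (g : Matrix (Fin a × Fin b) (Fin a × Fin b) F) * gi = 1 := by
    rw [hgi, ← Units.val_mul, mul_inv_cancel, Units.val_one]
  set N' : Matrix (Fin a × Fin b) (Fin a × Fin b) F :=
    (g : Matrix (Fin a × Fin b) (Fin a × Fin b) F) * N * gi with hN'
  have hN'N' : N' * N' = 0 := by
    rw [hN']
    calc (g : Matrix (Fin a × Fin b) (Fin a × Fin b) F) * N * gi *
          ((g : Matrix (Fin a × Fin b) (Fin a × Fin b) F) * N * gi)
        = (g : Matrix (Fin a × Fin b) (Fin a × Fin b) F) * (N * (gi *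
            (g : Matrix (Fin a × Fin b) (Fin a × Fin b) F)) * N) * gi := by
          simp only [Matrix.mul_assoc]
      _ = 0 := by rw [hgig, Matrix.mul_one, hNN, Matrix.mul_zero, Matrix.zero_mul]
  have hN'v : ∀ v : Fin a × Fin b → F, N' *ᵥ v =
      (g : Matrix (Fin a × Fin b) (Fin a × Fin b) F) *ᵥ ten u₀ (tsP J1 u₀ (gi *ᵥ v)) := by
    intro v
    rw [hN', ← Matrix.mulVec_mulVec, ← Matrix.mulVec_mulVec, hNv]
  -- perpendicularity
  have hperpL : ∀ v : Fin a × Fin b → F,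
      (∀ y' : Fin b → F, bf (JV J1 J2) v (ten u₀ y') = 0) → N *ᵥ v = 0 := by
    intro v hv
    rw [hNv, ts4meet_tsP_zero C u₀ v hv, ts4meet_ten_zero]
  have hiso : ∀ v w : Fin a × Fin b → F, bf (JV J1 J2) v
      ((g : Matrix (Fin a × Fin b) (Fin a × Fin b) F) *ᵥ w) = bf (JV J1 J2) (gi *ᵥ v) w := by
    intro v w
    have h1 := (mem_Iso_iff_bf (JV J1 J2) g).mp hgS (gi *ᵥ v) w
    rw [Matrix.mulVec_mulVec, hggi, Matrix.one_mulVec] at h1
    exact h1
  have hperpS : ∀ v : Fin a × Fin b → F,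
      (∀ y' : Fin b → F, bf (JV J1 J2) v
        ((g : Matrix (Fin a × Fin b) (Fin a × Fin b) F) *ᵥ ten u₀ y') = 0) → N' *ᵥ v = 0 := by
    intro v hv
    have h1 : tsP J1 u₀ (gi *ᵥ v) = 0 := by
      apply ts4meet_tsP_zero C u₀
      intro y'
      rw [← hiso, hv]
    rw [hN'v, h1, ts4meet_ten_zero, Matrix.mulVec_zero]
  -- if `N s = 0` then `s ⊥ L_{u₀}`
  have hperpL' : ∀ s : Fin a × Fin b → F, N *ᵥ s = 0 →
      ∀ y' : Fin b → F, bf (JV J1 J2) s (ten u₀ y') = 0 := by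
    intro s hs y'
    rw [hNv] at hs
    have h1 : tsP J1 u₀ s = 0 := ts4bti_ten_eq_zero hs hu₀
    rw [ts4pair_bf_anti C, tsnta_bf_left, h1, bf_zero_right, neg_zero]
  -- the groups
  set X : Subgroup (Matrix.GeneralLinearGroup (Fin a × Fin b) F) := ts4burn_X C u₀ with hXdef
  set Γ : Subgroup (Matrix.GeneralLinearGroup (Fin a × Fin b) F) :=
    M ⊓ ts4burn_Fix J1 J2 g u₀ u₀ with hΓdef
  have hXmem : ∀ h : Matrix.GeneralLinearGroup (Fin a × Fin b) F, h ∈ X ↔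
      ∃ c : F, (h : Matrix (Fin a × Fin b) (Fin a × Fin b) F) = 1 + c • N := by
    intro h
    constructor
    · rintro ⟨c, rfl⟩
      exact ⟨c, by rw [xA_coe, hXN]⟩
    · rintro ⟨c, hc⟩
      refine ⟨c, ?_⟩
      apply Units.ext
      rw [hc, xA_coe, hXN]
  have hXΓ : X ≤ Γ := by
    rintro h ⟨c, rfl⟩
    refine Subgroup.mem_inf.mpr ⟨hT0 (ts4burn_xA_mem_T0 C u₀ c), ?_⟩
    intro v hv1 _
    rw [xA_coe, hXN, Matrix.add_mulVec, Matrix.one_mulVec, Matrix.smul_mulVec, hperpL v hv1,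
      smul_zero, add_zero]
  -- the element `y`
  set y : Matrix.GeneralLinearGroup (Fin a × Fin b) F := g * xA C u₀ 1 * g⁻¹ with hy
  have hyN : (y : Matrix (Fin a × Fin b) (Fin a × Fin b) F) = 1 + N' := by
    rw [hy, Units.val_mul, Units.val_mul, xA_coe, hXN, one_smul, hN', Matrix.mul_add,
      Matrix.add_mul, Matrix.mul_one, hggi]
  have hyΓ : y ∈ Γ := by
    refine Subgroup.mem_inf.mpr ⟨?_, ?_⟩
    · exact M.mul_mem (M.mul_mem hg (hT0 (ts4burn_xA_mem_T0 C u₀ 1))) (M.inv_mem hg)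
    · intro v _ hv2
      rw [hyN, Matrix.add_mulVec, Matrix.one_mulVec, hperpS v hv2, add_zero]
  -- `N ≠ 0`, cardinality
  have hNx' : N *ᵥ ten x' y₀ = ten u₀ y₀ := by
    rw [hNv, tsP_ten, hux', one_smul]
  have hu₀y₀ : ten u₀ y₀ ≠ 0 := fun h0 => hy₀ (ts4bti_ten_eq_zero h0 hu₀)
  have hinj : ∀ c c' : F, xA C u₀ c = xA C u₀ c' → c = c' := by
    intro c c' hcc
    have h1 := congrArg (fun h : Matrix.GeneralLinearGroup (Fin a × Fin b) F =>
      (h : Matrix (Fin a × Fin b) (Fin a × Fin b) F) *ᵥ ten x' y₀) hcc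
    simp only [xA_coe, hXN, Matrix.add_mulVec, Matrix.one_mulVec, Matrix.smul_mulVec, hNx'] at h1
    have h2 : (c - c') • ten u₀ y₀ = 0 := by
      rw [sub_smul, add_left_cancel h1, sub_self]
    rcases smul_eq_zero.mp h2 with h3 | h3
    · exact sub_eq_zero.mp h3
    · exact absurd h3 hu₀y₀
  have hcard : 3 ≤ Nat.card X := by
    let f : Fin 3 → X := fun i =>
      ⟨xA C u₀ (if i = 0 then 0 else if i = 1 then 1 else -1), ⟨_, rfl⟩⟩
    have hf : Function.Injective f := by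
      intro i j hij
      have h1 := hinj _ _ (congrArg Subtype.val hij)
      have h12 : (1 : F) ≠ -1 := by
        intro h
        have : (2 : F) = 0 := by
          have h2 : (1 : F) + 1 = 0 := by nth_rewrite 2 [h]; ring
          rw [← h2]; norm_num
        exact C.two this
      fin_cases i <;> fin_cases j <;> simp at h1 ⊢ <;> first | exact absurd h1 h12 | exact absurd h1.symm h12
    have := Nat.card_le_card_of_injective f hf
    simpa using this
  -- TI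
  have hTI : ∀ h ∈ Γ, (∃ x ∈ X, x ≠ 1 ∧ h * x * h⁻¹ ∈ X) → h ∈ X := by
    rintro h hhΓ ⟨x, ⟨c, rfl⟩, hx1, ⟨c', hc'⟩⟩
    have hhM : h ∈ M := (Subgroup.mem_inf.mp hhΓ).1
    have hhF : h ∈ ts4burn_Fix J1 J2 g u₀ u₀ := (Subgroup.mem_inf.mp hhΓ).2
    have hc0 : c ≠ 0 := by
      rintro rfl
      apply hx1
      apply Units.ext
      rw [xA_coe, zero_smul, XAm_zero, Units.val_one]
    -- `c h N = c' N h`
    have hcomm : c • ((h : Matrix (Fin a × Fin b) (Fin a × Fin b) F) * N) =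
        c' • (N * (h : Matrix (Fin a × Fin b) (Fin a × Fin b) F)) := by
      have h1 : h * xA C u₀ c = xA C u₀ c' * h := by
        rw [← hc']; group
      have h2 := congrArg (fun k : Matrix.GeneralLinearGroup (Fin a × Fin b) F =>
        (k : Matrix (Fin a × Fin b) (Fin a × Fin b) F)) h1
      simp only [Units.val_mul, xA_coe, hXN, Matrix.mul_add, Matrix.add_mul, Matrix.mul_one,
        Matrix.one_mul, Matrix.mul_smul, Matrix.smul_mul] at h2
      exact add_left_cancel h2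
    have hL : ∀ yy : Fin b → F, ∃ y' : Fin b → F,
        (h : Matrix (Fin a × Fin b) (Fin a × Fin b) F) *ᵥ ten u₀ yy = ten u₀ y' := by
      intro yy
      have h1 : N *ᵥ ten x' yy = ten u₀ yy := by rw [hNv, tsP_ten, hux', one_smul]
      have h2 := congrArg (fun Z : Matrix (Fin a × Fin b) (Fin a × Fin b) F => Z *ᵥ ten x' yy) hcomm
      simp only [Matrix.smul_mulVec, ← Matrix.mulVec_mulVec, h1, hNv] at h2
      refine ⟨(c⁻¹ * c') • tsP J1 u₀ ((h : Matrix (Fin a × Fin b) (Fin a × Fin b) F) *ᵥ ten x' yy), ?_⟩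
      rw [ten_smul_right, mul_smul, ← h2, smul_smul, inv_mul_cancel₀ hc0, one_smul]
    have hhK : h ∈ K0 a b F := hS h hhM u₀ u₀ hu₀ hu₀ hL
    obtain ⟨c'', hc''⟩ := burnTI_of_genA C ha hb g hgS u₀ hu₀ hG u₀ hu₀ h hhK (hMS hhM) hL hhF
    exact (hXmem h).mpr ⟨c'', by rw [hc'', hXN]⟩
  -- disjointness
  have hdisj : ∀ v w : Fin a × Fin b → F, N *ᵥ v = N' *ᵥ w → N *ᵥ v = 0 := by
    intro v w hvw
    rw [hNv, hN'v] at hvw
    have h1 : tsP J1 u₀ (gi *ᵥ w) = 0 := by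
      apply hG u₀ hu₀
      intro y'
      rw [← hvw, bf_JV_ten, huu, zero_mul]
    rw [hNv, hvw, h1, ts4meet_ten_zero, Matrix.mulVec_zero]
  -- the vector `l`
  set v₁ : Fin a × Fin b → F :=
    (g : Matrix (Fin a × Fin b) (Fin a × Fin b) F) *ᵥ ten x' y₀ with hv₁
  set s₁ : Fin a × Fin b → F :=
    (g : Matrix (Fin a × Fin b) (Fin a × Fin b) F) *ᵥ ten u₀ y₀ with hs₁
  have hgiv : ∀ w : Fin a × Fin b → F,
      gi *ᵥ ((g : Matrix (Fin a × Fin b) (Fin a × Fin b) F) *ᵥ w) = w := by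
    intro w
    rw [Matrix.mulVec_mulVec, hgig, Matrix.one_mulVec]
  obtain ⟨-, ⟨y₂, hy₂⟩⟩ := pair_of_genA C g hgS u₀ hu₀ hG u₀ hu₀ v₁
  set l : Fin a × Fin b → F :=
    v₁ - (g : Matrix (Fin a × Fin b) (Fin a × Fin b) F) *ᵥ ten u₀ y₂ with hl
  have hNl : N *ᵥ l = 0 := hperpL l hy₂
  have hN'l : N' *ᵥ l = s₁ := by
    rw [hN'v, hl, Matrix.mulVec_sub, hgiv, hgiv, tsP_sub, tsP_ten, tsP_ten, hux', huu, one_smul,
      zero_smul, sub_zero]
  have hNs₁ : N *ᵥ s₁ ≠ 0 := by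
    intro h0
    exact hy₀ (hG u₀ hu₀ y₀ (hperpL' s₁ h0))
  have hgen : N' *ᵥ (N *ᵥ (N' *ᵥ l)) ≠ 0 := by
    rw [hN'l]
    intro h0
    rw [hNv] at h0 hNs₁
    set y₃ : Fin b → F := tsP J1 u₀ s₁ with hy₃
    -- `ten u₀ y₃ ⊥ S`
    have hperp3 : ∀ y' : Fin b → F, bf (JV J1 J2)
        ((g : Matrix (Fin a × Fin b) (Fin a × Fin b) F) *ᵥ ten u₀ y') (ten u₀ y₃) = 0 := by
      intro y'
      rw [hN'v] at h0
      have h1 : ten u₀ (tsP J1 u₀ (gi *ᵥ ten u₀ y₃)) = 0 := by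
        have := congrArg (fun w => gi *ᵥ w) h0
        simp only [hgiv, Matrix.mulVec_zero] at this
        exact this
      have h2 : tsP J1 u₀ (gi *ᵥ ten u₀ y₃) = 0 := ts4bti_ten_eq_zero h1 hu₀
      rw [ts4pair_bf_anti C, hiso, ts4pair_bf_anti C, neg_neg, tsnta_bf_left, h2, bf_zero_right]
    have hy₃0 : y₃ ≠ 0 := by
      intro h
      apply hNs₁
      rw [h, ts4meet_ten_zero]
    obtain ⟨y₄, hy₄⟩ := bf_nondeg' C.det2 hy₃0
    obtain ⟨-, ⟨y₅, hy₅⟩⟩ := pair_of_genA C g hgS u₀ hu₀ hG u₀ hu₀ (ten x' y₄)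
    have h3 := hy₅ y₃
    rw [bf_sub_left, hperp3, sub_zero, bf_JV_ten] at h3
    have hx'u : bf J1 x' u₀ = -1 := by rw [bf_alt C.alt, hux']
    rw [hx'u] at h3
    apply hy₄
    have : bf J2 y₄ y₃ = -(-1 * bf J2 y₄ y₃) := by ring
    rw [this, h3, neg_zero]
  exact Cfsg.Agent.Lib.helper6.Burn.burncore_false p Γ X hXΓ N N' hNN hN'N' hXmem hcard hTI y hyΓ
    hyN hdisj l hNl hgen

end Cfsg.Agent.Lib.Helper21.TS
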