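import Mathlib
import Cfsg.Agent.Lib.helper3.BSZ.Defs
import Cfsg.Agent.Lib.helper6.BSZA04

set_option autoImplicit false

/-!
# BSZ row A07 (`four_point`): the four-point criterion
-/

namespace Cfsg.Agent.Lib.helper3.BSZ

open Cfsg Cfsg.Agent.Lib.helper3

/-- A07 -/
theorem four_point {G : Type*} [Group G] (H : Subgroup G) (hB : BinH H) (g a b g₁ g₂ g₃ : G)
    (h1 : g₁ ∈ H) (h1' : g⁻¹ * g₁ * g ∈ H) (h2' : g⁻¹ * (a⁻¹ * g₂ * a) * g ∈ H)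
    (h3' : g⁻¹ * (b⁻¹ * g₃ * b) * g ∈ H) (hp : g₁ * g₂ * g₃ = 1) :
    ∃ k ∈ H, g⁻¹ * k * g ∈ H ∧ g⁻¹ * (b⁻¹ * k * b) * g ∈ H ∧
      g⁻¹ * (a⁻¹ * (k⁻¹ * g₁) * a) * g ∈ H := by
  have hg3 : g₃⁻¹ = g₁ * g₂ := by
    rw [inv_eq_iff_eq_inv, eq_inv_iff_mul_eq_one, mul_eq_one_iff_eq_inv.mp hp]
    group
  -- `1` fixes everything
  have o0 : (1 : G) • (QuotientGroup.mk 1 : G ⧸ H) = QuotientGroup.mk 1 := one_smul _ _
  have o1 : (1 : G) • (QuotientGroup.mk g : G ⧸ H) = QuotientGroup.mk g := one_smul _ _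
  have o2 : (1 : G) • (QuotientGroup.mk (b * g) : G ⧸ H) = QuotientGroup.mk (b * g) :=
    one_smul _ _
  -- `g₁` fixes `mk 1` and `mk g`
  have f0 : g₁ • (QuotientGroup.mk 1 : G ⧸ H) = QuotientGroup.mk 1 := by
    rw [bsza04_smul_mk_eq_iff]
    simpa using H.inv_mem h1
  have f1 : g₁ • (QuotientGroup.mk g : G ⧸ H) = QuotientGroup.mk g := by
    rw [bsza04_smul_mk_eq_iff]
    have e : g⁻¹ * g₁⁻¹ * g = (g⁻¹ * g₁ * g)⁻¹ := by group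
    rw [e]
    exact H.inv_mem h1'
  -- `g₃⁻¹` fixes `mk (b * g)` and agrees with `g₁` at `mk (a * g)`
  have f2 : g₃⁻¹ • (QuotientGroup.mk (b * g) : G ⧸ H) = QuotientGroup.mk (b * g) := by
    rw [bsza04_smul_mk_eq_iff, inv_inv]
    have e : (b * g)⁻¹ * g₃ * (b * g) = g⁻¹ * (b⁻¹ * g₃ * b) * g := by group
    rw [e]
    exact h3'
  have f3 : g₃⁻¹ • (QuotientGroup.mk (a * g) : G ⧸ H) =
      g₁ • (QuotientGroup.mk (a * g) : G ⧸ H) := by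
    rw [bsza04_smul_mk_eq_smul_iff, hg3]
    have e : (a * g)⁻¹ * (g₁ * g₂)⁻¹ * (g₁ * (a * g)) = (g⁻¹ * (a⁻¹ * g₂ * a) * g)⁻¹ := by group
    rw [e]
    exact H.inv_mem h2'
  set I : Fin 4 → G ⧸ H := ![QuotientGroup.mk 1, QuotientGroup.mk g, QuotientGroup.mk (b * g),
    QuotientGroup.mk (a * g)] with hI
  set J : Fin 4 → G ⧸ H := ![QuotientGroup.mk 1, QuotientGroup.mk g, QuotientGroup.mk (b * g),
    g₁ • (QuotientGroup.mk (a * g) : G ⧸ H)] with hJ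
  have hpair : ∀ i j : Fin 4, i ≠ j → ∃ x : G, x • I i = J i ∧ x • I j = J j := by
    intro i j hij
    fin_cases i <;> fin_cases j
    · exact absurd rfl hij
    · exact ⟨1, o0, o1⟩
    · exact ⟨1, o0, o2⟩
    · exact ⟨g₁, f0, rfl⟩
    · exact ⟨1, o1, o0⟩
    · exact absurd rfl hij
    · exact ⟨1, o1, o2⟩
    · exact ⟨g₁, f1, rfl⟩
    · exact ⟨1, o2, o0⟩
    · exact ⟨1, o2, o1⟩
    · exact absurd rfl hij
    · exact ⟨g₃⁻¹, f2, f3⟩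
    · exact ⟨g₁, rfl, f0⟩
    · exact ⟨g₁, rfl, f1⟩
    · exact ⟨g₃⁻¹, f3, f2⟩
    · exact absurd rfl hij
  obtain ⟨k, hk⟩ := hB 4 I J (by norm_num) hpair
  have k0 : k • (QuotientGroup.mk 1 : G ⧸ H) = QuotientGroup.mk 1 := hk 0
  have k1 : k • (QuotientGroup.mk g : G ⧸ H) = QuotientGroup.mk g := hk 1
  have k2 : k • (QuotientGroup.mk (b * g) : G ⧸ H) = QuotientGroup.mk (b * g) := hk 2
  have k3 : k • (QuotientGroup.mk (a * g) : G ⧸ H) = g₁ • (QuotientGroup.mk (a * g) : G ⧸ H) :=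
    hk 3
  rw [bsza04_smul_mk_eq_iff] at k0 k1 k2
  rw [bsza04_smul_mk_eq_smul_iff] at k3
  refine ⟨k, ?_, ?_, ?_, ?_⟩
  · have := H.inv_mem k0
    simpa using this
  · have := H.inv_mem k1
    have e : (g⁻¹ * k⁻¹ * g)⁻¹ = g⁻¹ * k * g := by group
    rwa [e] at this
  · have := H.inv_mem k2
    have e : ((b * g)⁻¹ * k⁻¹ * (b * g))⁻¹ = g⁻¹ * (b⁻¹ * k * b) * g := by group
    rwa [e] at this
  · have e : (a * g)⁻¹ * k⁻¹ * (g₁ * (a * g)) = g⁻¹ * (a⁻¹ * (k⁻¹ * g₁) * a) * g := by group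
    rwa [e] at k3

end Cfsg.Agent.Lib.helper3.BSZ
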