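import Mathlib
import Cfsg.Agent.Lib.helper3.BSZ.Defs
import Cfsg.Agent.Lib.helper6.BSZA04

set_option autoImplicit false

/-!
# BSZ row C07 (`f20_case`): core on the statements of C04 `f20_all` and C06 `sylow_ti_fpf`
-/

namespace Cfsg.Agent.Lib.helper3.BSZ

open Cfsg Cfsg.Agent.Lib.helper3

/-- own-name copy of C01 `five_dvd` -/
theorem bszc07_five_dvd (m : ℕ) : 5 ∣ (2 ^ (2 * m + 1)) ^ 2 + 1 := by
  have h : ∀ m : ℕ, 4 ^ m % 5 = 1 ∨ 4 ^ m % 5 = 4 := by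
    intro m
    induction m with
    | zero => left; norm_num
    | succ n ih =>
      rw [pow_succ, Nat.mul_mod]
      rcases ih with h | h <;> rw [h] <;> norm_num
  have e : (2 ^ (2 * m + 1)) ^ 2 + 1 = 4 * (4 ^ m) ^ 2 + 1 := by
    have : (2 : ℕ) ^ (2 * m + 1) = 2 * 4 ^ m := by
      rw [pow_succ, pow_mul]
      norm_num
      ring
    rw [this]
    ring
  rw [e]
  apply Nat.dvd_of_mod_eq_zero
  rw [Nat.add_mod, Nat.mul_mod, Nat.pow_mod]
  rcases h m with h | h <;> rw [h]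

/-- own-name copy of C05 `f20_triangle` (a group identity in `C₅ : C₄`) -/
theorem bszc07_triangle {G : Type*} [Group G] {f y : G} (hy : y ^ 5 = 1)
    (hf : (f * f) * (f * f) = 1) (h : f * y * f⁻¹ = y ^ 2) :
    f * (y * f * y⁻¹) * (y⁻¹ * (f * f) * y) = 1 := by
  have h1 : f * y = y ^ 2 * f := by
    rw [← h]
    group
  have hpow : ∀ n : ℕ, f * y ^ n = y ^ (2 * n) * f := by
    intro n
    induction n with
    | zero => simp
    | succ n ih =>
      rw [pow_succ, ← mul_assoc, ih, mul_assoc, h1, ← mul_assoc, ← pow_add]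
      congr 2
  have hff : ∀ n : ℕ, (f * f) * y ^ n = y ^ (4 * n) * (f * f) := by
    intro n
    rw [mul_assoc, hpow, ← mul_assoc, hpow, mul_assoc]
    congr 2
    ring
  have hyinv : y⁻¹ = y ^ 4 := by
    rw [inv_eq_iff_mul_eq_one, ← pow_succ', hy]
  have e1 : f * (y * f * y⁻¹) * (y⁻¹ * (f * f) * y) =
      (f * y ^ 1) * (f * y ^ 8) * ((f * f) * y ^ 1) := by
    rw [hyinv]
    group
  rw [e1, hpow 1, hpow 8, hff 1]
  have e2 : y ^ (2 * 1) * f * (y ^ (2 * 8) * f) * (y ^ (4 * 1) * (f * f)) =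
      y ^ 2 * (f * y ^ 16) * f * y ^ 4 * (f * f) := by
    group
  rw [e2, hpow 16]
  have e3 : y ^ 2 * (y ^ (2 * 16) * f) * f * y ^ 4 * (f * f) =
      y ^ 34 * ((f * f) * y ^ 4) * (f * f) := by
    group
  rw [e3, hff 4]
  have e4 : y ^ 34 * (y ^ (4 * 4) * (f * f)) * (f * f) = y ^ 50 * ((f * f) * (f * f)) := by
    group
  rw [e4, hf, mul_one]
  have : y ^ 50 = (y ^ 5) ^ 10 := by
    rw [← pow_mul]
  rw [this, hy, one_pow]


variable {F : Type*} [Field F] [Fintype F] {m : ℕ}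

/-- C07 core: hypotheses = the statements of C04 `f20_all` and C06 `sylow_ti_fpf` -/
theorem bszc07_core (hF : Fintype.card F = 2 ^ (2 * m + 1)) (hm : 1 ≤ m)
    (hC04 : ∀ {f : Sz F m}, f * f ≠ 1 → (f * f) * (f * f) = 1 →
      ∃ y : Sz F m, orderOf y = 5 ∧ (f * y * f⁻¹ = y ^ 2 ∨ f⁻¹ * y * f = y ^ 2))
    (hC06 : ∀ (P : Sylow 2 (Sz F m)) {y k : Sz F m}, Fpf y → k ∈ P → y * k * y⁻¹ ∈ P → k = 1)
    (P : Sylow 2 (Sz F m))
    (H : Subgroup (Sz F m)) (hHP : H ≤ (P : Subgroup (Sz F m))) {f : Sz F m} (hf : f ∈ H)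
    (hf2 : f * f ≠ 1) : ¬ BinH H := by
  intro hB
  -- exponent 4
  have hexp : ∀ x : Sz F m, x ∈ (P : Subgroup (Sz F m)) → (x * x) * (x * x) = 1 := by
    intro x hx
    have h4 := (sylow_two_structure hF hm P).2.1
    have h1 : (⟨x, hx⟩ : ↥(P : Subgroup (Sz F m))) ^ 4 = 1 := by
      have := Monoid.pow_exponent_eq_one (⟨x, hx⟩ : ↥(P : Subgroup (Sz F m)))
      rwa [h4] at this
    have h2 : x ^ 4 = 1 := by
      have := congrArg Subtype.val h1
      simpa using this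
    rw [← h2]
    simp only [pow_succ, pow_zero, one_mul, mul_assoc]
  have hf4 : (f * f) * (f * f) = 1 := hexp f (hHP hf)
  obtain ⟨y, hy5, hy⟩ := hC04 hf2 hf4
  -- normalise to `f' * y * f'⁻¹ = y ^ 2`
  obtain ⟨f', hf', hf'2, hf'4, hconj⟩ : ∃ f' : Sz F m, f' ∈ H ∧ f' * f' ≠ 1 ∧
      (f' * f') * (f' * f') = 1 ∧ f' * y * f'⁻¹ = y ^ 2 := by
    rcases hy with h | h
    · exact ⟨f, hf, hf2, hf4, h⟩
    · refine ⟨f⁻¹, H.inv_mem hf, ?_, ?_, ?_⟩
      · intro h1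
        apply hf2
        have : (f * f)⁻¹ = 1 := by rw [← h1]; group
        exact inv_eq_one.mp this
      · have : f⁻¹ * f⁻¹ * (f⁻¹ * f⁻¹) = ((f * f) * (f * f))⁻¹ := by group
        rw [this, hf4, inv_one]
      · rw [inv_inv]
        exact h
  have hy1 : y ≠ 1 := by
    intro h
    rw [h, orderOf_one] at hy5
    norm_num at hy5
  have hyi1 : y⁻¹ ≠ 1 := fun h => hy1 (inv_eq_one.mp h)
  have hfpf : Fpf y := fpf_of_order hF hm hy1 (by rw [hy5]; exact bszc07_five_dvd m)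
  have hfpf' : Fpf y⁻¹ := fpf_of_order hF hm hyi1 (by rw [orderOf_inv, hy5]; exact bszc07_five_dvd m)
  have hy5' : y ^ 5 = 1 := by rw [← hy5]; exact pow_orderOf_eq_one y
  have htri := bszc07_triangle hy5' hf'4 hconj
  obtain ⟨k, hkH, hk1, hk2⟩ := three_point H hB y y⁻¹ f' (y * f' * y⁻¹) (y⁻¹ * (f' * f') * y)
    hf' (by
      have : y⁻¹ * (y * f' * y⁻¹) * y = f' := by group
      rw [this]
      exact hf')
    (by
      have : y⁻¹⁻¹ * (y⁻¹ * (f' * f') * y) * y⁻¹ = f' * f' := by group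
      rw [this]
      exact H.mul_mem hf' hf')
    htri
  rw [inv_inv] at hk1
  have hk : k = 1 := hC06 P hfpf (hHP hkH) (hHP hk1)
  rw [hk, inv_one, one_mul] at hk2
  have hf'1 : f' = 1 := hC06 P hfpf' (hHP hf') (by
    rw [inv_inv]
    exact hHP hk2)
  apply hf'2
  rw [hf'1, one_mul]

end Cfsg.Agent.Lib.helper3.BSZ
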