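import Mathlib
import Cfsg.Agent.Lib.helper3.BSZ.Defs
import Cfsg.Agent.Lib.helper3.SuzukiMultC
import Cfsg.Agent.Lib.helper6.BSZA04

set_option autoImplicit false

/-!
# BSZ row W09 (`lemW_case`): core on the statement of W08 `lemma_W`
-/

namespace Cfsg.Agent.Lib.helper3.BSZ

open Cfsg Cfsg.Agent.Lib.helper3

/-- the additive subgroup `{b | gT 0 b ∈ H}` of `F` -/
def bszw09_W {F : Type*} [Field F] [Fintype F] {m : ℕ} (hF : Fintype.card F = 2 ^ (2 * m + 1))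
    (H : Subgroup (Sz F m)) : AddSubgroup F where
  carrier := {b | gT hF 0 b ∈ H}
  zero_mem' := by
    change gT hF 0 0 ∈ H
    rw [gT_zero]
    exact H.one_mem
  add_mem' := by
    intro a b ha hb
    change gT hF 0 (a + b) ∈ H
    rw [← gT_zero_mul]
    exact H.mul_mem ha hb
  neg_mem' := by
    intro a ha
    change gT hF 0 (-a) ∈ H
    have h2 := sz_two hF
    have : -a = a := by
      rw [neg_eq_iff_add_eq_zero, ← two_mul, h2, zero_mul]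
    rw [this]
    exact ha

theorem bszw09_mem_W {F : Type*} [Field F] [Fintype F] {m : ℕ}
    (hF : Fintype.card F = 2 ^ (2 * m + 1)) (H : Subgroup (Sz F m)) (b : F) :
    b ∈ bszw09_W hF H ↔ gT hF 0 b ∈ H := Iff.rfl

/-- `(gD k)⁻¹ * gT 0 (ν k * b) * gD k = gT 0 b` -/
theorem bszw09_conj_back {F : Type*} [Field F] [Fintype F] {m : ℕ}
    (hF : Fintype.card F = 2 ^ (2 * m + 1)) (k : Fˣ) (b : F) :
    (gD hF k)⁻¹ * gT hF 0 ((k : F) ^ 2 * szθ m (k : F) ^ 2 * b) * gD hF k = gT hF 0 b := by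
  rw [← gD_conj_gT_zero]
  group

/-- W09 core: hypothesis = the statement of W08 `lemma_W` (for this field) -/
theorem bszw09_core {F : Type*} [Field F] [Fintype F] {m : ℕ}
    (hF : Fintype.card F = 2 ^ (2 * m + 1)) (hm : 1 ≤ m)
    (hW : ∀ W : AddSubgroup F, W ≠ ⊥ → W ≠ ⊤ →
      ∃ l μ : F, l ≠ 0 ∧ μ ≠ 0 ∧ ∃ w₁ ∈ W, ∃ w₂ ∈ W, l * w₁ + μ * w₂ ∈ W ∧
        ∀ κ ∈ W, ∀ κ' ∈ W, (∃ w ∈ W, κ = μ * w) → (∃ w ∈ W, κ' = l * w) →
          l * w₁ + μ * w₂ ≠ κ + κ')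
    (H : Subgroup (Sz F m)) (hH : H ≤ Zs hF) (h0 : H ≠ ⊥) (h1 : H ≠ Zs hF) : ¬ BinH H := by
  intro hB
  have h2 := sz_two hF
  have hadd : ∀ x : F, x + x = 0 := by
    intro x
    rw [← two_mul, h2, zero_mul]
  set W := bszw09_W hF H with hWdef
  have hW0 : W ≠ ⊥ := by
    intro hbot
    apply h0
    rw [Subgroup.eq_bot_iff_forall]
    intro h hh
    obtain ⟨b, rfl⟩ := (mem_Zs hF).mp (hH hh)
    have hb : b ∈ W := hh
    rw [hbot, AddSubgroup.mem_bot] at hb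
    rw [hb, gT_zero]
  have hW1 : W ≠ ⊤ := by
    intro htop
    apply h1
    apply le_antisymm hH
    intro g hg
    obtain ⟨b, rfl⟩ := (mem_Zs hF).mp hg
    have hb : b ∈ W := by
      rw [htop]
      exact AddSubgroup.mem_top b
    exact hb
  obtain ⟨l, μ, hl, hμ, w₁, hw₁, w₂, hw₂, ht, hne⟩ := hW W hW0 hW1
  obtain ⟨k₁, hk₁⟩ := exists_nu_eq hF hl
  obtain ⟨k₂, hk₂⟩ := exists_nu_eq hF hμ
  set t := l * w₁ + μ * w₂ with htdef
  obtain ⟨k, hkH, hkb, hka⟩ := three_point H hB (gD hF k₁) (gD hF k₂) (gT hF 0 t)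
    (gT hF 0 (l * w₁)) (gT hF 0 (μ * w₂)) ht
    (by
      rw [← hk₁, bszw09_conj_back]
      exact hw₁)
    (by
      rw [← hk₂, bszw09_conj_back]
      exact hw₂)
    (by
      rw [gT_zero_mul, gT_zero_mul, htdef]
      have : l * w₁ + μ * w₂ + l * w₁ + μ * w₂ = (l * w₁ + μ * w₂) + (l * w₁ + μ * w₂) := by ring
      rw [this, hadd, gT_zero])
  -- `k = gT 0 κ`
  obtain ⟨κ, rfl⟩ := (mem_Zs hF).mp (hH hkH)
  have hκ : κ ∈ W := hkH
  -- `κ = μ * w`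
  obtain ⟨w, hwdef⟩ := (mem_Zs hF).mp (hH hkb)
  have hw : w ∈ W := by
    change gT hF 0 w ∈ H
    rw [← hwdef]
    exact hkb
  have hκw : κ = μ * w := by
    have e1 : gT hF 0 κ = gD hF k₂ * gT hF 0 w * (gD hF k₂)⁻¹ := by
      rw [← hwdef]
      group
    rw [gD_conj_gT_zero, hk₂] at e1
    exact (gT_injective hF e1).2
  -- `κ' = κ + t`
  have hinv : (gT hF 0 κ)⁻¹ * gT hF 0 t = gT hF 0 (κ + t) := by
    rw [gT_inv, zero_mul, add_zero, gT_zero_mul]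
  rw [hinv] at hka
  have hκ' : κ + t ∈ W := W.add_mem hκ ht
  obtain ⟨w', hw'def⟩ := (mem_Zs hF).mp (hH hka)
  have hw' : w' ∈ W := by
    change gT hF 0 w' ∈ H
    rw [← hw'def]
    exact hka
  have hκ'w : κ + t = l * w' := by
    have e1 : gT hF 0 (κ + t) = gD hF k₁ * gT hF 0 w' * (gD hF k₁)⁻¹ := by
      rw [← hw'def]
      group
    rw [gD_conj_gT_zero, hk₁] at e1
    exact (gT_injective hF e1).2
  apply hne κ hκ (κ + t) hκ' ⟨w, hw, hκw⟩ ⟨w', hw', hκ'w⟩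
  have : κ + (κ + t) = (κ + κ) + t := by ring
  rw [this, hadd, zero_add]

end Cfsg.Agent.Lib.helper3.BSZ
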