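import Mathlib
import Cfsg.Agent.Lib.helper3.BSZ.Defs
import Cfsg.Agent.Lib.Helper16.BSZW08
import Cfsg.Agent.Lib.helper6.BSZW09core

set_option autoImplicit false

/-!
# BSZ row W09 (`lemW_case`), verbatim: `bszw09_core` + the landed W08 `lemma_W`
-/

namespace Cfsg.Agent.Lib.helper3.BSZ

open Cfsg Cfsg.Agent.Lib.helper3

/-- W09 -/
theorem lemW_case {F : Type*} [Field F] [Fintype F] {m : ℕ} (hF : Fintype.card F = 2 ^ (2 * m + 1)) (hm : 1 ≤ m)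
    (H : Subgroup (Sz F m)) (hH : H ≤ Zs hF) (h0 : H ≠ ⊥) (h1 : H ≠ Zs hF) : ¬ BinH H :=
  bszw09_core hF hm (fun W a b => lemma_W hF W a b) H hH h0 h1

end Cfsg.Agent.Lib.helper3.BSZ
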