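import Mathlib
import Cfsg.Agent.Lib.helper3.BSZ.Defs
import Cfsg.Agent.Lib.Helper5.BSZA01
import Cfsg.Agent.Lib.Helper16.BSZA05
import Cfsg.Agent.Lib.helper17.BSZA11

set_option autoImplicit false

/-!
# BSZ row F04 (`sub_case`): binary subgroups of a subfield subgroup
-/

namespace Cfsg.Agent.Lib.helper3.BSZ

open Cfsg Cfsg.Agent.Lib.helper3

variable {F : Type*} [Field F] [Fintype F] {m : ℕ}

/-- F04 -/
theorem sub_case (hF : Fintype.card F = 2 ^ (2 * m + 1)) (hm : 1 ≤ m)
    (IH : ∀ (K : Type) [Field K] [Fintype K] (k : ℕ), Fintype.card K = 2 ^ (2 * k + 1) → 1 ≤ k → k < m →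
      ∀ H' : Subgroup (Sz K k), H' ≠ ⊤ → BinH H' → (H' = ⊥ ∨ IsSylCen H'))
    (K' : Subfield F) (k : ℕ) (hk : 1 ≤ k) (hkm : k < m) (hK' : Nat.card K' = 2 ^ (2 * k + 1))
    (H : Subgroup (Sz F m)) (hH : H ≤ subStab m K') (hB : BinH H) :
    H = ⊥ ∨ IsPGroup 2 H ∨ H = subStab m K' := by
  obtain ⟨K, instK, instK', hK, -, ⟨e⟩⟩ := subStab_iso hF hm K' k hk hK'
  have hB0 : BinH (H.subgroupOf (subStab m K')) := binary_sub H (subStab m K') hH hB
  have hBL : BinH ((H.subgroupOf (subStab m K')).map e.toMonoidHom) :=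
    (binary_iso e _).mp hB0
  by_cases htop : (H.subgroupOf (subStab m K')).map e.toMonoidHom = ⊤
  · right; right
    have h0 : H.subgroupOf (subStab m K') = ⊤ := by
      rw [eq_top_iff]
      intro x _
      have hx : e x ∈ (H.subgroupOf (subStab m K')).map e.toMonoidHom := by
        rw [htop]
        exact Subgroup.mem_top _
      obtain ⟨y, hy, hyx⟩ := Subgroup.mem_map.mp hx
      have : y = x := e.injective hyx
      rwa [this] at hy
    exact le_antisymm hH (Subgroup.subgroupOf_eq_top.mp h0)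
  · rcases IH K k hK hk hkm _ htop hBL with hbot | hsyl
    · left
      have h0 : H.subgroupOf (subStab m K') = ⊥ := by
        rw [Subgroup.eq_bot_iff_forall]
        intro x hx
        have hx' : e x ∈ (H.subgroupOf (subStab m K')).map e.toMonoidHom :=
          Subgroup.mem_map.mpr ⟨x, hx, rfl⟩
        rw [hbot, Subgroup.mem_bot] at hx'
        exact e.injective (by rw [hx', map_one])
      rw [Subgroup.eq_bot_iff_forall]
      intro x hx
      have hx' : (⟨x, hH hx⟩ : ↥(subStab m K')) ∈ H.subgroupOf (subStab m K') :=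
        Subgroup.mem_subgroupOf.mpr hx
      rw [h0, Subgroup.mem_bot] at hx'
      exact congrArg Subtype.val hx'
    · right; left
      have h1 : IsPGroup 2 ↥((H.subgroupOf (subStab m K')).map e.toMonoidHom) :=
        isSylCen_isPGroup hsyl
      have h2 : IsPGroup 2 ↥(H.subgroupOf (subStab m K')) :=
        h1.of_equiv (Subgroup.equivMapOfInjective _ e.toMonoidHom e.injective).symm
      exact h2.of_equiv (Subgroup.subgroupOfEquivOfLe hH)

end Cfsg.Agent.Lib.helper3.BSZ
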