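import Mathlib
import Cfsg.Agent.Lib.helper7.CED.Defs
import Cfsg.Agent.Lib.Helper24.STCI1

/-!
# Project CED (designer helper7; SPN, S2096 + S2097), row T5 (`t4_torus`) (helper6), VERBATIM vs `helper7/CED/Skel`.
Extras: `cedt5_ne` (unpacking `ab a ≠ ab b`), `cedt5_CL_tor` (own-name EXACT copy of G3 `CL_tor`), `cedt5_dhs_of_ne`, `cedt5_dhs_a`, `cedt5_dhs_b`.
-/

set_option autoImplicit false

namespace Cfsg.Agent.Lib.helper7.CED

open Cfsg.Agent.Lib.helper15.St2 Cfsg.Agent.Lib.helper7.Ce Cfsg.Agent.Lib.helper3.STC Cfsg.Agent.Lib.Lead.STD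
  Cfsg.Agent.Lib.helper7.CEC

section T

variable {K : Type*} [Field K] {ι : Type*} {Γ G : Type*} [Group Γ] [Group G] {S : SysD K ι G} {σ : Γ →* G}

theorem cedt5_ne {a b : ι ⊕ ι} (h : ab a ≠ ab b) : a ≠ b ∧ a ≠ ng b ∧ b ≠ a ∧ b ≠ ng a := by
  refine ⟨?_, ?_, ?_, ?_⟩
  · rintro rfl; exact h rfl
  · intro e; exact h (ab_eq_iff.mpr (Or.inr e))
  · rintro rfl; exact h rfl
  · intro e
    apply h
    rw [e, ab_ng]

/-- own-name EXACT copy of G3 `CL_tor` -/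
theorem cedt5_CL_tor (h : IsCE σ) {a b c d : ι ⊕ ι} (hab : a ≠ b) (hcd : c ≠ d) (hcd' : c ≠ ng d) (g : G) (dd : ι ⊕ ι → K) (hg : S.IsMon g 1 dd)
    (hfix : dd a * (dd b)⁻¹ = 1) (hsc : dd c * (dd d)⁻¹ ≠ 1)
    (hcomm : ∀ t u, S.x a b t * S.x c d u = S.x c d u * S.x a b t) (t u : K) :
    CL σ (S.x a b t) (S.x c d u) := by
  have key := h.torus (fun s => S.x c d s) (fun s s' => (S.add c d hcd hcd' s s').symm) (S.x a b t) g
    (dd c * (dd d)⁻¹) hsc (fun s => (hcomm t s).symm)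
    (fun s => by
      have := hg.2 c d hcd s
      simpa using this)
    (by
      have := hg.2 a b hab t
      rw [hfix, one_mul] at this
      simpa using this)
  exact (key u).symm

theorem cedt5_dhs_of_ne [DecidableEq ι] {c d k : ι ⊕ ι} (v : K) (h1 : k ≠ c) (h2 : k ≠ ng d) (h3 : k ≠ d) (h4 : k ≠ ng c) :
    dhs c d v k = 1 := by
  unfold dhs
  rw [if_neg (by rintro (e | e); exact h1 e; exact h2 e), if_neg (by rintro (e | e); exact h3 e; exact h4 e)]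

theorem cedt5_dhs_a [DecidableEq ι] (c d : ι ⊕ ι) (v : K) : dhs c d v c = v := by
  unfold dhs
  rw [if_pos (Or.inl rfl)]

theorem cedt5_dhs_b [DecidableEq ι] {c d : ι ⊕ ι} (hcd : c ≠ d) (v : K) : dhs c d v d = v⁻¹ := by
  unfold dhs
  rw [if_neg (by rintro (e | e); exact hcd e.symm; exact ne_ng d e), if_pos (Or.inl rfl)]

/-- T5 [S-M]  model CEC T4 `t3r_torus` (`Helper9.CECT4`): `g := S.h c d v` (`hH c d hcd hcd' v hv0`: coefficients `dhs c d v`) fixes `x a b` (all of `a, b` differ from `c, d, ng c, ng d`)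
and scales `x c d` by `v * (v⁻¹)⁻¹ = v ^ 2`; `CL_tor`. -/
theorem t4_torus [DecidableEq ι] (h : IsCE σ) (hH : S.HH) (v : K) (hv0 : v ≠ 0) (hv2 : v ^ 2 ≠ 1) :
    ∀ a b c d : ι ⊕ ι, ab a ≠ ab b → ab c ≠ ab d → ab a ≠ ab c → ab a ≠ ab d → ab b ≠ ab c → ab b ≠ ab d →
      ∀ t u : K, CL σ (S.x a b t) (S.x c d u) := by
  intro a b c d hab hcd hac had hbc hbd t u
  obtain ⟨ab1, ab2, ba1, ba2⟩ := cedt5_ne hab
  obtain ⟨cd1, cd2, dc1, dc2⟩ := cedt5_ne hcd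
  obtain ⟨ac1, ac2, ca1, ca2⟩ := cedt5_ne hac
  obtain ⟨ad1, ad2, da1, da2⟩ := cedt5_ne had
  obtain ⟨bc1, bc2, cb1, cb2⟩ := cedt5_ne hbc
  obtain ⟨bd1, bd2, db1, db2⟩ := cedt5_ne hbd
  have hg := hH c d cd1 cd2 v hv0
  apply cedt5_CL_tor h ab1 cd1 cd2 (S.h c d v) (dhs c d v) hg
  · rw [cedt5_dhs_of_ne v ac1 ad2 ad1 ac2, cedt5_dhs_of_ne v bc1 bd2 bd1 bc2]
    simp
  · rw [cedt5_dhs_a, cedt5_dhs_b cd1, inv_inv]
    intro hv
    apply hv2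
    rw [pow_two]; exact hv
  · intro t u
    exact S.comm a b c d ab1 ab2 cd1 cd2 bc1 ad1 bd2 ac2 t u

end T

end Cfsg.Agent.Lib.helper7.CED
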