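import Mathlib
import Cfsg.Agent.Lib.helper7.CED.Defs
import Cfsg.Agent.Lib.Helper24.STCI1
import Cfsg.Agent.Lib.helper6.CEDT5

/-!
# Project CED (designer helper7; SPN, S2096 + S2097), row T7 (`HC_of_HT`) VERBATIM + CORES of row T8 (`HT_five`, `HT_four`, `HT_four_three` with the statements of
T1 `t1_milnor`, T3 `t3r_milnor` `t3c_milnor`, T4 `t4_milnor`, T6 `t4_three` as hypotheses) (helper6).
Extras: `cedt7_sw`, `cedt7_ne`, `cedt8_I4_of_I5`, `cedt8_I3_of_I4`.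
-/

set_option autoImplicit false

namespace Cfsg.Agent.Lib.helper7.CED

open Cfsg.Agent.Lib.helper15.St2 Cfsg.Agent.Lib.helper7.Ce Cfsg.Agent.Lib.helper3.STC Cfsg.Agent.Lib.Lead.STD
  Cfsg.Agent.Lib.helper7.CEC

section T

variable {K : Type*} [Field K] {ι : Type*} {Γ G : Type*} [Group Γ] [Group G] {S : SysD K ι G} {σ : Γ →* G}

theorem cedt7_sw {a b : ι ⊕ ι} (h : a ≠ ng b) : b ≠ ng a := by
  intro h'
  apply h
  rw [h', ng_ng]

theorem cedt7_ne {a b : ι ⊕ ι} (h1 : a ≠ b) (h2 : a ≠ ng b) : ab a ≠ ab b :=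
  fun h => (ab_eq_iff.1 h).elim h1 h2

/-- T7 [M]  model CEC T10 `HC_of_HT` (`Helper24.CECT10`), short roots only.  `c = a`: `d = b`: `t1`; else `t3r` (`d ≠ ng b` by `b ≠ ng d`).  `c = ng b`: rewrite `x (ng b) d u = x (ng d) b (-u)` by `S.sym`: `d = ng a`: `t1`;
else `t3c`.  `ab c ∉ {ab a, ab b}`: `d = ng a` (`S.sym`: `x c (ng a) u = x a (ng c) (-u)`, `t3r`), `d = b` (`t3c`), else `t4`.  The hypotheses `b ≠ c`, `a ≠ d`, `b ≠ ng d`, `a ≠ ng c` exclude the other cases. -/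
theorem HC_of_HT (hT : HT S σ) : HC S σ := by
  intro a b c d hab hab' hcd hcd' hbc had hbd hac t u
  have sAB := cedt7_ne hab hab'
  have sCD := cedt7_ne hcd hcd'
  by_cases hca : c = a
  · subst hca
    by_cases hdb : d = b
    · subst hdb
      exact hT.t1 c d sAB t u
    · exact hT.t3r c b d sAB sCD (cedt7_ne (Ne.symm hdb) hbd) t u
  · by_cases hcb : c = ng b
    · subst hcb
      rw [S.sym (ng b) d hcd hcd' u, ng_ng]
      have hdb : d ≠ b := fun e => hcd' (by rw [e])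
      have hdb' : d ≠ ng b := fun e => hcd e.symm
      by_cases hda : d = ng a
      · subst hda
        rw [ng_ng]
        exact hT.t1 a b sAB t _
      · refine hT.t3c a b (ng d) sAB ?_ ?_ t _
        · rw [ab_ng]
          exact cedt7_ne hdb hdb'
        · rw [ab_ng]
          exact cedt7_ne had (cedt7_sw hda)
    · have sAC : ab a ≠ ab c := cedt7_ne (Ne.symm hca) hac
      have sBC : ab b ≠ ab c := cedt7_ne hbc (cedt7_sw hcb)
      by_cases hda : d = ng a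
      · subst hda
        rw [S.sym c (ng a) hcd hcd' u, ng_ng]
        refine hT.t3r a b (ng c) sAB ?_ ?_ t _
        · rw [ab_ng]; exact sAC
        · rw [ab_ng]; exact sBC
      · by_cases hdb : d = b
        · subst hdb
          exact hT.t3c a d c sAB (Ne.symm sBC) sAC t u
        · exact hT.t4 a b c d sAB sCD sAC (cedt7_ne had (cedt7_sw hda)) sBC
            (cedt7_ne (Ne.symm hdb) hbd) t u

/-! ## T8, cores -/

theorem cedt8_I4_of_I5 (h5 : I5 ι) : I4 ι := fun a b c => by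
  obtain ⟨e, h1, h2, h3, -⟩ := h5 a b c c
  exact ⟨e, h1, h2, h3⟩

theorem cedt8_I3_of_I4 (h4 : I4 ι) : I3 ι := fun a b => by
  obtain ⟨e, h1, h2, -⟩ := h4 a b b
  exact ⟨e, h1, h2⟩

/-- T8 `HT_five`, core: `h1` `h3r` `h3c` `h4m` = the statements of T1, T3, T4. -/
theorem cedt8_five_core (h : IsCE σ) (h5 : I5 ι)
    (h1 : IsCE σ → I3 ι → ∀ a b : ι ⊕ ι, ab a ≠ ab b → ∀ t u : K, CL σ (S.x a b t) (S.x a b u))
    (h3r : IsCE σ → I4 ι → ∀ a b d : ι ⊕ ι, ab a ≠ ab b → ab a ≠ ab d → ab b ≠ ab d → ∀ t u : K, CL σ (S.x a b t) (S.x a d u))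
    (h3c : IsCE σ → I4 ι → ∀ a b c : ι ⊕ ι, ab a ≠ ab b → ab c ≠ ab b → ab a ≠ ab c → ∀ t u : K, CL σ (S.x a b t) (S.x c b u))
    (h4m : IsCE σ → I5 ι → ∀ a b c d : ι ⊕ ι, ab a ≠ ab b → ab c ≠ ab d → ab a ≠ ab c → ab a ≠ ab d → ab b ≠ ab c → ab b ≠ ab d →
      ∀ t u : K, CL σ (S.x a b t) (S.x c d u)) : HT S σ :=
  ⟨h1 h (cedt8_I3_of_I4 (cedt8_I4_of_I5 h5)), h3r h (cedt8_I4_of_I5 h5), h3c h (cedt8_I4_of_I5 h5), h4m h h5⟩

/-- T8 `HT_four`, core: `h1` `h3r` `h3c` = the statements of T1, T3 (T5 `t4_torus` is cited). -/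
theorem cedt8_four_core [DecidableEq ι] (h : IsCE σ) (h4 : I4 ι) (hH : S.HH) (v : K) (hv0 : v ≠ 0) (hv2 : v ^ 2 ≠ 1)
    (h1 : IsCE σ → I3 ι → ∀ a b : ι ⊕ ι, ab a ≠ ab b → ∀ t u : K, CL σ (S.x a b t) (S.x a b u))
    (h3r : IsCE σ → I4 ι → ∀ a b d : ι ⊕ ι, ab a ≠ ab b → ab a ≠ ab d → ab b ≠ ab d → ∀ t u : K, CL σ (S.x a b t) (S.x a d u))
    (h3c : IsCE σ → I4 ι → ∀ a b c : ι ⊕ ι, ab a ≠ ab b → ab c ≠ ab b → ab a ≠ ab c → ∀ t u : K, CL σ (S.x a b t) (S.x c b u)) :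
    HT S σ :=
  ⟨h1 h (cedt8_I3_of_I4 h4), h3r h h4, h3c h h4, t4_torus h hH v hv0 hv2⟩

/-- T8 `HT_four_three`, core: `h1` `h3r` `h3c` `h43` = the statements of T1, T3, T6. -/
theorem cedt8_four_three_core (h : IsCE σ) (h4 : I4 ι)
    (h1 : IsCE σ → I3 ι → ∀ a b : ι ⊕ ι, ab a ≠ ab b → ∀ t u : K, CL σ (S.x a b t) (S.x a b u))
    (h3r : IsCE σ → I4 ι → ∀ a b d : ι ⊕ ι, ab a ≠ ab b → ab a ≠ ab d → ab b ≠ ab d → ∀ t u : K, CL σ (S.x a b t) (S.x a d u))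
    (h3c : IsCE σ → I4 ι → ∀ a b c : ι ⊕ ι, ab a ≠ ab b → ab c ≠ ab b → ab a ≠ ab c → ∀ t u : K, CL σ (S.x a b t) (S.x c b u))
    (h43 : ∀ a b c d : ι ⊕ ι, ab a ≠ ab b → ab c ≠ ab d → ab a ≠ ab c → ab a ≠ ab d → ab b ≠ ab c → ab b ≠ ab d →
      ∀ t u : K, CL σ (S.x a b t) (S.x c d u)) : HT S σ :=
  ⟨h1 h (cedt8_I3_of_I4 h4), h3r h h4, h3c h h4, h43⟩

end T

end Cfsg.Agent.Lib.helper7.CED
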