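import Mathlib
import Cfsg.Agent.Lib.helper7.CED.Defs
import Cfsg.Agent.Lib.Helper24.STCI1
import Cfsg.Agent.Lib.Helper16.STDX2
import Cfsg.Agent.Lib.helper6.STDW14
import Cfsg.Agent.Lib.helper6.CEDT5

/-!
# Project CED (designer helper7; SPN, S2096 + S2097), row T6 (`t4_three`) (helper6), VERBATIM vs `helper7/CED/Skel`: two orthogonal roots over the field with three elements
(port of `Helper26/CECZ1.lean`).  Extras `cedt6_*`: the commutator `cedt6_kap` of the chosen lifts of two orthogonal root elements is central, additive in both arguments and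
antisymmetric under the Weyl swap `w b d 1 * w a c 1` (`cedt6_kap_swap`).
-/

set_option autoImplicit false

namespace Cfsg.Agent.Lib.helper7.CED

open Cfsg.Agent.Lib.helper15.St2 Cfsg.Agent.Lib.helper7.Ce Cfsg.Agent.Lib.helper3.STC Cfsg.Agent.Lib.Lead.STD
  Cfsg.Agent.Lib.helper7.CEC

section T

variable {K : Type*} [Field K] {ι : Type*} {Γ G : Type*} [Group Γ] [Group G] {S : SysD K ι G} {σ : Γ →* G}

/-- four indices with pairwise different absolute values, in the order of the statement of T4 -/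
def cedt6_Orth (a b c d : ι ⊕ ι) : Prop :=
  ab a ≠ ab b ∧ ab c ≠ ab d ∧ ab a ≠ ab c ∧ ab a ≠ ab d ∧ ab b ≠ ab c ∧ ab b ≠ ab d

/-- additivity of the commutator on the left when one of the values is central -/
theorem cedt6_cm_mul_left (h : IsCE σ) {p q b : Γ} (hq : σ (cm q b) = 1) : cm (p * q) b = cm p b * cm q b := by
  rw [cm_mul_left]
  have e1 := h.cj_of_map_one hq p
  unfold cj at e1
  rw [e1]
  exact h.comm_of_map_one hq (cm p b)

/-- additivity of the commutator on the right when one of the values is central -/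
theorem cedt6_cm_mul_right (h : IsCE σ) {a b c : Γ} (hc : σ (cm a c) = 1) : cm a (b * c) = cm a b * cm a c := by
  rw [cm_mul_right]
  have e1 := h.cj_of_map_one hc b
  unfold cj at e1
  rw [e1]

/-- the commutator of the chosen lifts of two root elements -/
noncomputable def cedt6_kap (S : SysD K ι G) (h : IsCE σ) (a b c d : ι ⊕ ι) (t u : K) : Γ :=
  cm (lf h (S.x a b t)) (lf h (S.x c d u))

theorem cedt6_comm {a b c d : ι ⊕ ι} (ho : cedt6_Orth a b c d) (t u : K) :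
    S.x a b t * S.x c d u = S.x c d u * S.x a b t := by
  obtain ⟨hab, hcd, hac, had, hbc, hbd⟩ := ho
  obtain ⟨ab1, ab2, -, -⟩ := cedt5_ne hab
  obtain ⟨cd1, cd2, -, -⟩ := cedt5_ne hcd
  obtain ⟨-, ac2, -, -⟩ := cedt5_ne hac
  obtain ⟨ad1, -, -, -⟩ := cedt5_ne had
  obtain ⟨bc1, -, -, -⟩ := cedt5_ne hbc
  obtain ⟨-, bd2, -, -⟩ := cedt5_ne hbd
  exact S.comm a b c d ab1 ab2 cd1 cd2 bc1 ad1 bd2 ac2 t u

theorem cedt6_kap_eq (h : IsCE σ) {a b c d : ι ⊕ ι} {t u : K} {p q : Γ} (hp : σ p = S.x a b t) (hq : σ q = S.x c d u) :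
    cm p q = cedt6_kap S h a b c d t u := by
  unfold cedt6_kap
  exact h.cm_congr (by rw [hp, map_lf]) (by rw [hq, map_lf])

theorem cedt6_map_cm {a b c d : ι ⊕ ι} (ho : cedt6_Orth a b c d) {t u : K} {p q : Γ} (hp : σ p = S.x a b t) (hq : σ q = S.x c d u) :
    σ (cm p q) = 1 := by
  rw [map_cm, hp, hq, cm_eq_one_iff]
  exact cedt6_comm ho t u

theorem cedt6_kap_map (h : IsCE σ) {a b c d : ι ⊕ ι} (ho : cedt6_Orth a b c d) (t u : K) : σ (cedt6_kap S h a b c d t u) = 1 :=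
  cedt6_map_cm ho (map_lf h _) (map_lf h _)

theorem cedt6_kap_add_left (h : IsCE σ) {a b c d : ι ⊕ ι} (ho : cedt6_Orth a b c d) (t t' u : K) :
    cedt6_kap S h a b c d (t + t') u = cedt6_kap S h a b c d t u * cedt6_kap S h a b c d t' u := by
  obtain ⟨ab1, ab2, -, -⟩ := cedt5_ne ho.1
  have e1 : σ (lf h (S.x a b t) * lf h (S.x a b t')) = S.x a b (t + t') := by
    rw [map_mul, map_lf, map_lf, S.add a b ab1 ab2]
  rw [← cedt6_kap_eq h e1 (map_lf h (S.x c d u)),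
    cedt6_cm_mul_left h (cedt6_map_cm ho (map_lf h _) (map_lf h _))]
  rfl

theorem cedt6_kap_add_right (h : IsCE σ) {a b c d : ι ⊕ ι} (ho : cedt6_Orth a b c d) (t u u' : K) :
    cedt6_kap S h a b c d t (u + u') = cedt6_kap S h a b c d t u * cedt6_kap S h a b c d t u' := by
  obtain ⟨cd1, cd2, -, -⟩ := cedt5_ne ho.2.1
  have e1 : σ (lf h (S.x c d u) * lf h (S.x c d u')) = S.x c d (u + u') := by
    rw [map_mul, map_lf, map_lf, S.add c d cd1 cd2]
  rw [← cedt6_kap_eq h (map_lf h (S.x a b t)) e1,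
    cedt6_cm_mul_right h (cedt6_map_cm ho (map_lf h _) (map_lf h _))]
  rfl

theorem cedt6_kap_zero_left (h : IsCE σ) {a b c d : ι ⊕ ι} (ho : cedt6_Orth a b c d) (u : K) : cedt6_kap S h a b c d 0 u = 1 := by
  have := cedt6_kap_add_left (S := S) h ho 0 0 u
  rw [add_zero] at this
  exact mul_eq_left.1 this.symm

theorem cedt6_kap_zero_right (h : IsCE σ) {a b c d : ι ⊕ ι} (ho : cedt6_Orth a b c d) (t : K) : cedt6_kap S h a b c d t 0 = 1 := by
  have := cedt6_kap_add_right (S := S) h ho t 0 0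
  rw [add_zero] at this
  exact mul_eq_left.1 this.symm

theorem cedt6_kap_neg_left (h : IsCE σ) {a b c d : ι ⊕ ι} (ho : cedt6_Orth a b c d) (t u : K) :
    cedt6_kap S h a b c d (-t) u = (cedt6_kap S h a b c d t u)⁻¹ := by
  have := cedt6_kap_add_left (S := S) h ho (-t) t u
  rw [neg_add_cancel, cedt6_kap_zero_left h ho] at this
  exact eq_inv_of_mul_eq_one_left this.symm

theorem cedt6_kap_neg_right (h : IsCE σ) {a b c d : ι ⊕ ι} (ho : cedt6_Orth a b c d) (t u : K) :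
    cedt6_kap S h a b c d t (-u) = (cedt6_kap S h a b c d t u)⁻¹ := by
  have := cedt6_kap_add_right (S := S) h ho t (-u) u
  rw [neg_add_cancel, cedt6_kap_zero_right h ho] at this
  exact eq_inv_of_mul_eq_one_left this.symm

/-- the action of `w b d 1 * w a c 1` on `x a b t` and on `x c d u` -/
theorem cedt6_cj_ab [DecidableEq ι] (hW : S.HW) {a b c d : ι ⊕ ι} (ho : cedt6_Orth a b c d) (t : K) :
    cj (S.w b d 1 * S.w a c 1) (S.x a b t) = S.x c d t := by
  obtain ⟨hab, hcd, hac, had, hbc, hbd⟩ := ho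
  obtain ⟨ab1, ab2, ba1, ba2⟩ := cedt5_ne hab
  obtain ⟨cd1, cd2, dc1, dc2⟩ := cedt5_ne hcd
  obtain ⟨ac1, ac2, ca1, ca2⟩ := cedt5_ne hac
  obtain ⟨ad1, ad2, da1, da2⟩ := cedt5_ne had
  obtain ⟨bc1, bc2, cb1, cb2⟩ := cedt5_ne hbc
  obtain ⟨bd1, bd2, db1, db2⟩ := cedt5_ne hbd
  have h1 := hW a c ac1 ac2 1 one_ne_zero
  have h2 := hW b d bd1 bd2 1 one_ne_zero
  rw [← cj_cj, h1.2 a b ab1 t, SysD.sws_left ac1 ac2, SysD.sws_of_ne ba1 bc1 ba2 bc2,
    h2.2 c b cb1, SysD.sws_of_ne cb1 cd1 cb2 cd2, SysD.sws_left bd1 bd2,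
    stdw14_dwd_a, stdw14_dwd_of_ne ba1 bc1 ba2 bc2, stdw14_dwd_of_ne cb1 cd1 cb2 cd2, stdw14_dwd_a]
  congr 1
  simp

theorem cedt6_cj_cd [DecidableEq ι] (hW : S.HW) {a b c d : ι ⊕ ι} (ho : cedt6_Orth a b c d) (u : K) :
    cj (S.w b d 1 * S.w a c 1) (S.x c d u) = S.x a b u := by
  obtain ⟨hab, hcd, hac, had, hbc, hbd⟩ := ho
  obtain ⟨ab1, ab2, ba1, ba2⟩ := cedt5_ne hab
  obtain ⟨cd1, cd2, dc1, dc2⟩ := cedt5_ne hcd
  obtain ⟨ac1, ac2, ca1, ca2⟩ := cedt5_ne hac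
  obtain ⟨ad1, ad2, da1, da2⟩ := cedt5_ne had
  obtain ⟨bc1, bc2, cb1, cb2⟩ := cedt5_ne hbc
  obtain ⟨bd1, bd2, db1, db2⟩ := cedt5_ne hbd
  have h1 := hW a c ac1 ac2 1 one_ne_zero
  have h2 := hW b d bd1 bd2 1 one_ne_zero
  rw [← cj_cj, h1.2 c d cd1 u, SysD.sws_right ac1 ac2, SysD.sws_of_ne da1 dc1 da2 dc2,
    h2.2 a d ad1, SysD.sws_of_ne ab1 ad1 ab2 ad2, SysD.sws_right bd1 bd2,
    stdw14_dwd_b ac1, stdw14_dwd_of_ne da1 dc1 da2 dc2, stdw14_dwd_of_ne ab1 ad1 ab2 ad2, stdw14_dwd_b bd1]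
  congr 1
  simp

/-- the Weyl swap of the two orthogonal roots -/
theorem cedt6_kap_swap [DecidableEq ι] (h : IsCE σ) (hW : S.HW) {a b c d : ι ⊕ ι} (ho : cedt6_Orth a b c d) (t u : K) :
    cedt6_kap S h a b c d t u = (cedt6_kap S h a b c d u t)⁻¹ := by
  set e := lf h (S.w b d 1 * S.w a c 1) with he
  have se : σ e = S.w b d 1 * S.w a c 1 := map_lf h _
  have s1 : σ (cj e (lf h (S.x a b t))) = S.x c d t := by
    rw [map_cj, se, map_lf, cedt6_cj_ab hW ho]
  have s2 : σ (cj e (lf h (S.x c d u))) = S.x a b u := by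
    rw [map_cj, se, map_lf, cedt6_cj_cd hW ho]
  have e1 : cj e (cedt6_kap S h a b c d t u) = cedt6_kap S h a b c d t u := h.cj_of_map_one (cedt6_kap_map h ho t u) e
  rw [← e1]
  unfold cedt6_kap
  rw [cj_cm, cm_inv_swap]
  exact h.cm_congr (by rw [s1, map_lf]) (by rw [s2, map_lf])

/-- T6 [M-L]  two orthogonal roots over `F_3`; model CEC Z1 `t7_three` (`Helper26.CECZ1`).  `κ t u := cm (lf h (x a b t)) (lf h (x c d u))` lies in `σ.ker` (`S.comm`), hence is central.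
It is additive in `t` and in `u` (`IsCE.cm_congr` to replace `lf h (x (t + t'))` by `lf h (x t) * lf h (x t')`, `S.add`; `cm_mul_left` / `cm_mul_right`, central values), so `κ t u ^ 3 = κ (3 t) u = κ 0 u = 1`
(`lf h (x 0)` is a lift of `1`: central) and `κ (-t) u = (κ t u)⁻¹ = κ t (-u)`.  Conjugation by `e := lf h (S.w b d 1 * S.w a c 1)` (`hW`: `IsMon.mul`; `w a c 1` sends `x a b t ↦ x c b (-t)`, `x c d u ↦ x a d u`
(`dwd a c 1`: `-1` at `a`, `1` at `c`); then `w b d 1` sends `x c b (-t) ↦ x c d t`, `x a d u ↦ x a b u` (`dwd b d 1`: `-1` at `b`, `1` at `d`)): `cj e (lf h (x a b t))` is a lift of `x c d t` and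
`cj e (lf h (x c d u))` is a lift of `x a b u`; `κ t u` is central, so by `cj_cm`, `IsCE.cm_congr`, `cm_inv_swap`: `κ t u = (κ u t)⁻¹`.  Hence `κ t t ^ 2 = 1`, with `κ t t ^ 3 = 1`: `κ t t = 1`, `κ t (-t) = 1`,
`κ 0 u = κ t 0 = 1`: by `hK` all cases. -/
theorem t4_three [DecidableEq ι] (h : IsCE σ) (hW : S.HW) (h3 : (3 : K) = 0) (hK : ∀ t : K, t = 0 ∨ t = 1 ∨ t = -1) :
    ∀ a b c d : ι ⊕ ι, ab a ≠ ab b → ab c ≠ ab d → ab a ≠ ab c → ab a ≠ ab d → ab b ≠ ab c → ab b ≠ ab d →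
      ∀ t u : K, CL σ (S.x a b t) (S.x c d u) := by
  intro a b c d hab hcd hac had hbc hbd
  have ho : cedt6_Orth a b c d := ⟨hab, hcd, hac, had, hbc, hbd⟩
  -- the value at `(1, 1)`
  have h11 : cedt6_kap S h a b c d 1 1 = 1 := by
    have hsw : cedt6_kap S h a b c d 1 1 = (cedt6_kap S h a b c d 1 1)⁻¹ := cedt6_kap_swap h hW ho (1 : K) 1
    have hcube : cedt6_kap S h a b c d 1 1 * cedt6_kap S h a b c d 1 1 * cedt6_kap S h a b c d 1 1 = 1 := by
      rw [← cedt6_kap_add_left h ho, ← cedt6_kap_add_left h ho]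
      have : (1 + 1 + 1 : K) = 0 := by rw [← h3]; norm_num
      rw [this, cedt6_kap_zero_left h ho]
    have hsq : cedt6_kap S h a b c d 1 1 * cedt6_kap S h a b c d 1 1 = 1 := by
      nth_rewrite 1 [hsw]
      exact inv_mul_cancel _
    rw [hsq, one_mul] at hcube
    exact hcube
  have hall : ∀ t u : K, cedt6_kap S h a b c d t u = 1 := by
    intro t u
    rcases hK t with rfl | rfl | rfl
    · exact cedt6_kap_zero_left h ho u
    · rcases hK u with rfl | rfl | rfl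
      · exact cedt6_kap_zero_right h ho _
      · exact h11
      · rw [cedt6_kap_neg_right h ho, h11, inv_one]
    · rcases hK u with rfl | rfl | rfl
      · exact cedt6_kap_zero_right h ho _
      · rw [cedt6_kap_neg_left h ho, h11, inv_one]
      · rw [cedt6_kap_neg_left h ho, cedt6_kap_neg_right h ho, h11, inv_one, inv_one]
  intro t u p q hp hq
  rw [← cm_eq_one_iff, cedt6_kap_eq h hp hq]
  exact hall t u

end T

end Cfsg.Agent.Lib.helper7.CED
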