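import Mathlib
import Cfsg.Agent.Lib.helper7.CED.Defs
import Cfsg.Agent.Lib.helper6.CEDT5
import Cfsg.Agent.Lib.helper6.CEDT6
import Cfsg.Agent.Lib.helper6.CEDT7
import Cfsg.Agent.Lib.Helper26.CEDT1
import Cfsg.Agent.Lib.helper14.CEDT3

/-!
# Project CED (designer helper7; SPN, S2096 + S2097), row T8 (`HT_five`, `HT_four`, `HT_four_three`) (helper6), VERBATIM vs `helper7/CED/Skel`:
wrappers of the cores of `helper6.CEDT7` on T1 (Helper26.CEDT1), T3 T4 (helper14.CEDT3), T5 T6 (helper6.CEDT5 / CEDT6).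
-/

set_option autoImplicit false

namespace Cfsg.Agent.Lib.helper7.CED

open Cfsg.Agent.Lib.helper15.St2 Cfsg.Agent.Lib.helper7.Ce Cfsg.Agent.Lib.helper3.STC Cfsg.Agent.Lib.Lead.STD
  Cfsg.Agent.Lib.helper7.CEC

section T

variable {K : Type*} [Field K] {ι : Type*} {Γ G : Type*} [Group Γ] [Group G] {S : SysD K ι G} {σ : Γ →* G}

/-- T8 [S]  the three regimes.  `HT_five`: `I3`, `I4` from `I5` (take `d := c`, …); `t1_milnor`, `t3r_milnor`, `t3c_milnor`, `t4_milnor`. -/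
theorem HT_five (h : IsCE σ) (h5 : I5 ι) : HT S σ :=
  cedt8_five_core h h5 (fun h h3 => t1_milnor h h3) (fun h h4 => t3r_milnor h h4) (fun h h4 => t3c_milnor h h4)
    (fun h h5 => t4_milnor h h5)

/-- T8 [S]  four indices, `q ≥ 4`: `t1_milnor` (`I3` from `I4`), `t3r_milnor`, `t3c_milnor`, `t4_torus`. -/
theorem HT_four [DecidableEq ι] (h : IsCE σ) (h4 : I4 ι) (hH : S.HH) (v : K) (hv0 : v ≠ 0) (hv2 : v ^ 2 ≠ 1) : HT S σ :=
  cedt8_four_core h h4 hH v hv0 hv2 (fun h h3 => t1_milnor h h3) (fun h h4 => t3r_milnor h h4) (fun h h4 => t3c_milnor h h4)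

/-- T8 [S]  four indices, `q = 3`: `t1_milnor`, `t3r_milnor`, `t3c_milnor`, `t4_three`. -/
theorem HT_four_three [DecidableEq ι] (h : IsCE σ) (h4 : I4 ι) (hW : S.HW) (h3 : (3 : K) = 0) (hK : ∀ t : K, t = 0 ∨ t = 1 ∨ t = -1) :
    HT S σ :=
  cedt8_four_three_core h h4 (fun h h3 => t1_milnor h h3) (fun h h4 => t3r_milnor h h4) (fun h h4 => t3c_milnor h h4)
    (t4_three h hW h3 hK)

end T

end Cfsg.Agent.Lib.helper7.CED
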