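import Mathlib

set_option autoImplicit false

namespace Cfsg.Agent.Lib.helper6.RegLin

open scoped IsMulCommutative

variable {p : ℕ} [Fact p.Prime] {V : Type*} [AddCommGroup V] [Module (ZMod p) V]
  {H : Subgroup (V ≃ₗ[ZMod p] V)}

/-- `W` is invariant under the subgroup `A` of `H`. -/
def Inv (A : Subgroup H) (W : Submodule (ZMod p) V) : Prop :=
  ∀ a ∈ A, ∀ v ∈ W, ((a : H) : V ≃ₗ[ZMod p] V) v ∈ W

theorem eq_one_of_fix
    (hreg : ∀ v w : V, v ≠ 0 → w ≠ 0 → ∃! h : H, (h : V ≃ₗ[ZMod p] V) v = w)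
    {h : H} {v : V} (hv : v ≠ 0) (hfix : (h : V ≃ₗ[ZMod p] V) v = v) : h = 1 := by
  obtain ⟨h0, -, huniq⟩ := hreg v v hv hv
  rw [huniq h hfix, huniq 1 (by simp)]

instance finite_linearEquiv [Finite V] : Finite (V ≃ₗ[ZMod p] V) :=
  Finite.of_injective (fun f => (f : V → V)) DFunLike.coe_injective

theorem exists_min [Finite V] (A : Subgroup H) (W₀ : Submodule (ZMod p) V) (hW₀ : W₀ ≠ ⊥)
    (hinv : Inv A W₀) :
    ∃ W : Submodule (ZMod p) V, W ≤ W₀ ∧ W ≠ ⊥ ∧ Inv A W ∧
      ∀ W' : Submodule (ZMod p) V, W' ≤ W → Inv A W' → W' = ⊥ ∨ W' = W := by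
  classical
  haveI : Finite (Submodule (ZMod p) V) :=
    Finite.of_injective (fun W => (W : Set V)) SetLike.coe_injective
  let S : Set (Submodule (ZMod p) V) := {W | W ≤ W₀ ∧ W ≠ ⊥ ∧ Inv A W}
  have hS : S.Nonempty := ⟨W₀, le_rfl, hW₀, hinv⟩
  obtain ⟨W, hWS, hWmin⟩ := (Set.toFinite S).exists_minimal hS
  obtain ⟨h1, h2, h3⟩ := hWS
  refine ⟨W, h1, h2, h3, ?_⟩
  intro W' hW'W hW'inv
  by_cases hb : W' = ⊥
  · exact Or.inl hb
  · right
    have hW'S : W' ∈ S := ⟨hW'W.trans h1, hb, hW'inv⟩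
    exact le_antisymm hW'W (hWmin hW'S hW'W)

/-- restriction of `A` to an invariant subspace -/
def restr (A : Subgroup H) (W : Submodule (ZMod p) V) (hinv : Inv A W) :
    A →* Module.End (ZMod p) W where
  toFun a := (((a : H) : V ≃ₗ[ZMod p] V) : V →ₗ[ZMod p] V).restrict
    (fun v hv => hinv (a : H) a.2 v hv)
  map_one' := by
    ext w
    simp
  map_mul' a b := by
    ext w
    simp

theorem restr_apply (A : Subgroup H) (W : Submodule (ZMod p) V) (hinv : Inv A W) (a : A) (w : W) :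
    ((restr A W hinv a) w : V) = ((a : H) : V ≃ₗ[ZMod p] V) (w : V) := rfl

theorem cyclic_of_min [Finite V]
    (hreg : ∀ v w : V, v ≠ 0 → w ≠ 0 → ∃! h : H, (h : V ≃ₗ[ZMod p] V) v = w)
    (A : Subgroup H) (hAc : ∀ a ∈ A, ∀ b ∈ A, a * b = b * a)
    (W : Submodule (ZMod p) V) (hW : W ≠ ⊥) (hinv : Inv A W)
    (hmin : ∀ W' : Submodule (ZMod p) V, W' ≤ W → Inv A W' → W' = ⊥ ∨ W' = W) :
    IsCyclic A := by
  classical
  set ρ := restr A W hinv with hρ
  have hcomm : ∀ x ∈ Set.range ρ, ∀ y ∈ Set.range ρ, x * y = y * x := by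
    rintro _ ⟨a, rfl⟩ _ ⟨b, rfl⟩
    rw [← map_mul, ← map_mul]
    congr 1
    exact Subtype.ext (hAc a a.2 b b.2)
  let R := Algebra.adjoin (ZMod p) (Set.range ρ)
  haveI := Algebra.isMulCommutative_adjoin (ZMod p) hcomm
  have hρR : ∀ a : A, ρ a ∈ R := fun a => Algebra.subset_adjoin ⟨a, rfl⟩
  -- nonzero vector in W
  obtain ⟨w0, hw0W, hw00⟩ := (Submodule.ne_bot_iff W).mp hW
  have hinjective : ∀ r : R, r ≠ 0 → Function.Injective (r : Module.End (ZMod p) W) := by
    intro r hr
    let K : Submodule (ZMod p) V := (LinearMap.ker (r : Module.End (ZMod p) W)).map W.subtype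
    have hKW : K ≤ W := by
      rintro _ ⟨w, -, rfl⟩
      exact w.2
    have hKinv : Inv A K := by
      rintro a ha _ ⟨w, hw, rfl⟩
      refine ⟨ρ ⟨a, ha⟩ w, ?_, rfl⟩
      rw [SetLike.mem_coe, LinearMap.mem_ker] at hw ⊢
      have hc : (r : Module.End (ZMod p) W) * ρ ⟨a, ha⟩ = ρ ⟨a, ha⟩ * (r : Module.End (ZMod p) W) :=
        congrArg Subtype.val (mul_comm r ⟨ρ ⟨a, ha⟩, hρR _⟩)
      have := congrArg (fun f => f w) hc
      simp only [Module.End.mul_apply] at this
      rw [this, hw, map_zero]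
    rcases hmin K hKW hKinv with hK | hK
    · rw [← LinearMap.ker_eq_bot, eq_bot_iff]
      intro w hw
      have h1 : (w : V) ∈ K := ⟨w, hw, rfl⟩
      rw [hK, Submodule.mem_bot] at h1
      rw [Submodule.mem_bot]
      exact Subtype.ext h1
    · exfalso
      apply hr
      apply Subtype.ext
      apply LinearMap.ext
      intro w
      have : (w : V) ∈ K := by rw [hK]; exact w.2
      obtain ⟨w', hw', hww'⟩ := this
      have : w' = w := Subtype.ext hww'
      rw [← this]
      exact LinearMap.mem_ker.mp hw'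
  haveI : Nontrivial R := by
    refine ⟨⟨1, 0, ?_⟩⟩
    intro h
    have := congrArg (fun r : R => (r : Module.End (ZMod p) W) ⟨w0, hw0W⟩) h
    simp at this
    exact hw00 this
  haveI : NoZeroDivisors R := by
    refine ⟨?_⟩
    intro r s hrs
    by_contra hcon
    push Not at hcon
    obtain ⟨hr, hs⟩ := hcon
    apply hs
    apply Subtype.ext
    apply LinearMap.ext
    intro w
    apply hinjective r hr
    have := congrArg (fun r : R => (r : Module.End (ZMod p) W) w) hrs
    simpa using this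
  haveI : IsDomain R := NoZeroDivisors.to_isDomain R
  let ρ' : A →* R :=
    { toFun := fun a => ⟨ρ a, hρR a⟩
      map_one' := Subtype.ext (map_one ρ)
      map_mul' := fun a b => Subtype.ext (map_mul ρ a b) }
  have hinj : Function.Injective ρ' := by
    intro a b hab
    have h1 : ρ a = ρ b := congrArg Subtype.val hab
    have h2 := congrArg (fun f => ((f ⟨w0, hw0W⟩ : W) : V)) h1
    simp only [hρ, restr_apply] at h2
    -- (a⁻¹ * b) fixes w0
    have h3 : (((a : H)⁻¹ * (b : H) : H) : V ≃ₗ[ZMod p] V) w0 = w0 := by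
      simp only [Subgroup.coe_mul, Subgroup.coe_inv, LinearEquiv.mul_apply]
      rw [← h2]
      simp
    have h4 := eq_one_of_fix hreg hw00 h3
    apply Subtype.ext
    rw [inv_mul_eq_one] at h4
    exact h4
  haveI : Finite A := inferInstance
  exact isCyclic_of_injective_ringHom ρ' hinj

/-- A subgroup of a regular linear group acts freely on the non-zero vectors of an invariant
subspace, so its order divides `p ^ dim - 1`. -/
theorem card_dvd [Finite V]
    (hreg : ∀ v w : V, v ≠ 0 → w ≠ 0 → ∃! h : H, (h : V ≃ₗ[ZMod p] V) v = w)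
    (A : Subgroup H) (W : Submodule (ZMod p) V) (hinv : Inv A W) :
    Nat.card A ∣ p ^ Module.finrank (ZMod p) W - 1 := by
  classical
  let X : SubMulAction A V :=
    { carrier := (W : Set V) \ {0}
      smul_mem' := by
        rintro a v ⟨hvW, hv0⟩
        refine ⟨hinv (a : H) a.2 v hvW, ?_⟩
        intro h
        apply hv0
        rw [Set.mem_singleton_iff] at h ⊢
        have h' : ((a : H) : V ≃ₗ[ZMod p] V) v = 0 := h
        exact (LinearEquiv.map_eq_zero_iff _).mp h' }
  have hfree : ∀ x : X, MulAction.stabilizer A x = ⊥ := by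
    intro x
    rw [eq_bot_iff]
    intro a ha
    rw [MulAction.mem_stabilizer_iff] at ha
    have h1 : ((a : H) : V ≃ₗ[ZMod p] V) (x : V) = (x : V) := congrArg Subtype.val ha
    have hx0 : (x : V) ≠ 0 := fun h => x.2.2 (Set.mem_singleton_iff.mpr h)
    have := eq_one_of_fix hreg hx0 h1
    rw [Subgroup.mem_bot]
    exact Subtype.ext this
  have e := MulAction.selfEquivOrbitsQuotientProd hfree
  have hcard : Nat.card X = Nat.card (Quotient (MulAction.orbitRel A X)) * Nat.card A := by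
    rw [Nat.card_congr e, Nat.card_prod]
  have hX : Nat.card X = p ^ Module.finrank (ZMod p) W - 1 := by
    have h1 : Nat.card X = ((W : Set V) \ {0}).ncard := Nat.card_coe_set_eq _
    rw [h1, Set.ncard_diff_singleton_of_mem (Submodule.zero_mem W), ← Nat.card_coe_set_eq]
    have h2 : Nat.card (W : Set V) = Nat.card W := rfl
    rw [h2, Module.natCard_eq_pow_finrank (K := ZMod p), Nat.card_zmod]
  rw [← hX, hcard]
  exact dvd_mul_left _ _

end Cfsg.Agent.Lib.helper6.RegLin
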