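import Mathlib
import Cfsg.Agent.Lib.helper6.RegLin

set_option autoImplicit false

namespace Cfsg.Agent.Lib.helper6.RegLinC

open Cfsg.Agent.Lib.helper6.RegLin

theorem card_le_centralizer_mul_aut {G : Type*} [Group G] [Finite G] (A : Subgroup G) [A.Normal] :
    Nat.card G ≤ Nat.card (Subgroup.centralizer (A : Set G)) * Nat.card (MulAut A) := by
  let φ : G →* MulAut A := MulAut.conjNormal
  have hker : φ.ker = Subgroup.centralizer (A : Set G) := by
    ext g
    rw [MonoidHom.mem_ker, Subgroup.mem_centralizer_iff]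
    constructor
    · intro h a ha
      have h1 := congrArg (fun f : MulAut A => ((f ⟨a, ha⟩ : A) : G)) h
      simp only [φ, MulAut.conjNormal_apply, MulAut.one_apply] at h1
      calc a * g = (g * a * g⁻¹) * g := by rw [h1]
        _ = g * a := by group
    · intro h
      ext a
      rw [MulAut.conjNormal_apply, MulAut.one_apply]
      have := h a a.2
      calc g * a * g⁻¹ = (a * g) * g⁻¹ := by rw [this]
        _ = a := by group
  have h1 : Nat.card φ.ker * Nat.card φ.range = Nat.card G := by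
    rw [← Subgroup.index_ker]; exact Subgroup.card_mul_index _
  have h2 : Nat.card φ.range ≤ Nat.card (MulAut A) := Subgroup.card_le_card_group _
  rw [← h1, hker]
  exact Nat.mul_le_mul_left _ h2

variable {p : ℕ} [Fact p.Prime] {V : Type*} [AddCommGroup V] [Module (ZMod p) V]
  {H : Subgroup (V ≃ₗ[ZMod p] V)}

/-- a regular linear group has order `|V| - 1` -/
theorem card_regular [Finite V]
    (hreg : ∀ v w : V, v ≠ 0 → w ≠ 0 → ∃! h : H, (h : V ≃ₗ[ZMod p] V) v = w)
    {v0 : V} (hv0 : v0 ≠ 0) : Nat.card H = p ^ Module.finrank (ZMod p) V - 1 := by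
  classical
  have e : H ≃ {w : V // w ≠ 0} :=
    Equiv.ofBijective (fun h => ⟨(h : V ≃ₗ[ZMod p] V) v0, fun h0 =>
      hv0 ((LinearEquiv.map_eq_zero_iff _).mp h0)⟩) (by
      constructor
      · intro h h' hh
        have h1 : (h : V ≃ₗ[ZMod p] V) v0 = (h' : V ≃ₗ[ZMod p] V) v0 := congrArg Subtype.val hh
        have hne : (h' : V ≃ₗ[ZMod p] V) v0 ≠ 0 := fun h0 =>
          hv0 ((LinearEquiv.map_eq_zero_iff _).mp h0)
        obtain ⟨h0, -, huniq⟩ := hreg v0 _ hv0 hne
        rw [huniq h h1, huniq h' rfl]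
      · rintro ⟨w, hw⟩
        obtain ⟨h, hh, -⟩ := hreg v0 w hv0 hw
        exact ⟨h, Subtype.ext hh⟩)
  rw [Nat.card_congr e]
  have h1 : Nat.card {w : V // w ≠ 0} = ((Set.univ : Set V) \ {0}).ncard := by
    rw [← Nat.card_coe_set_eq]
    apply Nat.card_congr
    exact Equiv.subtypeEquivRight (fun w => by simp)
  rw [h1, Set.ncard_diff_singleton_of_mem (Set.mem_univ _), Set.ncard_univ,
    Module.natCard_eq_pow_finrank (K := ZMod p), Nat.card_zmod]

theorem two_mul_finrank_le [Finite V]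
    (hreg : ∀ v w : V, v ≠ 0 → w ≠ 0 → ∃! h : H, (h : V ≃ₗ[ZMod p] V) v = w)
    (A : Subgroup H) (hAn : A.Normal) (W : Submodule (ZMod p) V) (hW : W ≠ ⊥) (hWt : W ≠ ⊤)
    (hinv : Inv A W)
    (hmin : ∀ W' : Submodule (ZMod p) V, W' ≤ W → Inv A W' → W' = ⊥ ∨ W' = W) :
    2 * Module.finrank (ZMod p) W ≤ Module.finrank (ZMod p) V := by
  classical
  haveI : Module.Finite (ZMod p) V := Module.Finite.of_finite
  obtain ⟨w0, hw0W, hw00⟩ := (Submodule.ne_bot_iff W).mp hW
  obtain ⟨v0, hv0⟩ : ∃ v : V, v ∉ W := by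
    by_contra h
    push Not at h
    exact hWt (eq_top_iff.mpr fun v _ => h v)
  have hv00 : v0 ≠ 0 := fun h => hv0 (h ▸ W.zero_mem)
  obtain ⟨h, hh, -⟩ := hreg w0 v0 hw00 hv00
  set W' : Submodule (ZMod p) V := W.map (((h : V ≃ₗ[ZMod p] V)) : V →ₗ[ZMod p] V) with hW'
  have hv0W' : v0 ∈ W' := ⟨w0, hw0W, hh⟩
  have hW'inv : Inv A W' := by
    rintro a ha _ ⟨w, hw, rfl⟩
    have hconj : h⁻¹ * a * h ∈ A := by
      have := hAn.conj_mem a ha h⁻¹
      rwa [inv_inv] at this
    refine ⟨((h⁻¹ * a * h : H) : V ≃ₗ[ZMod p] V) w, hinv _ hconj w hw, ?_⟩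
    simp only [Subgroup.coe_mul, Subgroup.coe_inv, LinearEquiv.mul_apply, LinearEquiv.coe_coe]
    have : ((h : V ≃ₗ[ZMod p] V) * (h : V ≃ₗ[ZMod p] V)⁻¹) = 1 := mul_inv_cancel _
    have h2 := congrArg (fun f : V ≃ₗ[ZMod p] V => f ((a : V ≃ₗ[ZMod p] V) ((h : V ≃ₗ[ZMod p] V) w))) this
    simpa using h2
  have hdisj : Disjoint W W' := by
    rw [disjoint_iff]
    have hle : W ⊓ W' ≤ W := inf_le_left
    have hinv' : Inv A (W ⊓ W') := fun a ha v hv =>
      ⟨hinv a ha v hv.1, hW'inv a ha v hv.2⟩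
    rcases hmin _ hle hinv' with h1 | h1
    · exact h1
    · exfalso
      have hWW' : W ≤ W' := by rw [← h1]; exact inf_le_right
      have hfr : Module.finrank (ZMod p) W' = Module.finrank (ZMod p) W :=
        LinearEquiv.finrank_map_eq (h : V ≃ₗ[ZMod p] V) W
      have := Submodule.eq_of_le_of_finrank_eq hWW' hfr.symm
      rw [← this] at hv0W'
      exact hv0 hv0W'
  have h1 := Submodule.finrank_add_finrank_le_of_disjoint hdisj
  have hfr : Module.finrank (ZMod p) W' = Module.finrank (ZMod p) W :=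
    LinearEquiv.finrank_map_eq (h : V ≃ₗ[ZMod p] V) W
  omega

theorem main685 [Finite V]
    (hreg : ∀ v w : V, v ≠ 0 → w ≠ 0 → ∃! h : H, (h : V ≃ₗ[ZMod p] V) v = w)
    (hI : ∀ A : Subgroup H, A.Normal → IsCyclic A → ∃ W : Submodule (ZMod p) V, W ≠ ⊥ ∧ W ≠ ⊤ ∧
      ∀ a ∈ A, ∀ v ∈ W, ((a : H) : V ≃ₗ[ZMod p] V) v ∈ W)
    (A : Subgroup H) (hAn : A.Normal) (hAc : IsMulCommutative A)
    (hAmax : ∀ B : Subgroup H, B.Normal → IsMulCommutative B → A ≤ B → B = A) :
    A < Subgroup.centralizer (A : Set H) ∧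
      ¬ IsMulCommutative (Subgroup.centralizer (A : Set H)) := by
  classical
  haveI : Module.Finite (ZMod p) V := Module.Finite.of_finite
  have hAc' : ∀ a ∈ A, ∀ b ∈ A, a * b = b * a := fun a ha b hb =>
    congrArg Subtype.val (hAc.1.1 ⟨a, ha⟩ ⟨b, hb⟩)
  have hAC : A ≤ Subgroup.centralizer (A : Set H) := by
    intro a ha
    rw [Subgroup.mem_centralizer_iff]
    intro b hb
    exact hAc' b hb a ha
  have htop : (⊤ : Submodule (ZMod p) V) ≠ ⊥ := by
    obtain ⟨W, hW, -, -⟩ := hI ⊥ inferInstance inferInstance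
    intro h
    apply hW
    rw [eq_bot_iff, ← h]
    exact le_top
  have hinvtop : Inv A (⊤ : Submodule (ZMod p) V) := fun a _ v _ => Submodule.mem_top
  obtain ⟨W₁, -, hW₁, hW₁inv, hW₁min⟩ := exists_min A ⊤ htop hinvtop
  have hcyc : IsCyclic A := cyclic_of_min hreg A hAc' W₁ hW₁ hW₁inv hW₁min
  obtain ⟨W₀, hW₀b, hW₀t, hW₀inv⟩ := hI A hAn hcyc
  obtain ⟨W, hWW₀, hW, hWinv, hWmin⟩ := exists_min A W₀ hW₀b hW₀inv
  have hWt : W ≠ ⊤ := by
    intro h
    apply hW₀t
    rw [eq_top_iff, ← h]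
    exact hWW₀
  have hdvd := card_dvd hreg A W hWinv
  have h2k := two_mul_finrank_le hreg A hAn W hW hWt hWinv hWmin
  obtain ⟨w0, hw0W, hw00⟩ := (Submodule.ne_bot_iff W).mp hW
  have hHcard := card_regular hreg hw00
  have hlt : A < Subgroup.centralizer (A : Set H) := by
    refine lt_of_le_of_ne hAC ?_
    intro heq
    haveI := hAn
    have h1 := card_le_centralizer_mul_aut A
    rw [← heq, IsCyclic.card_mulAut, hHcard] at h1
    set k := Module.finrank (ZMod p) W with hk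
    set n := Module.finrank (ZMod p) V with hn
    set m := Nat.card A with hm
    have hk1 : 1 ≤ k := by
      rw [hk, Nat.one_le_iff_ne_zero]
      intro h0
      apply hW
      exact Submodule.finrank_eq_zero.mp h0
    have hp2 : 2 ≤ p := (Fact.out : p.Prime).two_le
    have hP : 2 ≤ p ^ k := by
      calc 2 ≤ p := hp2
        _ = p ^ 1 := (pow_one p).symm
        _ ≤ p ^ k := Nat.pow_le_pow_right (by omega) hk1
    have hmle : m ≤ p ^ k - 1 := Nat.le_of_dvd (by omega) hdvd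
    have htot : Nat.totient m ≤ m := Nat.totient_le m
    have hpn : p ^ k * p ^ k ≤ p ^ n := by
      rw [← pow_add]
      exact Nat.pow_le_pow_right (by omega) (by omega)
    have h3 : m * Nat.totient m ≤ (p ^ k - 1) * (p ^ k - 1) :=
      Nat.mul_le_mul hmle (htot.trans hmle)
    obtain ⟨P, hPdef⟩ : ∃ P, p ^ k = P + 2 := ⟨p ^ k - 2, by omega⟩
    rw [hPdef] at h3 hpn
    have e1 : P + 2 - 1 = P + 1 := by omega
    rw [e1] at h3
    have : (P + 1) * (P + 1) + 1 < (P + 2) * (P + 2) := by nlinarith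
    omega
  refine ⟨hlt, ?_⟩
  intro hCc
  have hCn : (Subgroup.centralizer (A : Set H)).Normal := by
    haveI := hAn
    exact Subgroup.normal_centralizer
  have := hAmax _ hCn hCc hAC
  rw [this] at hlt
  exact lt_irrefl _ hlt

end Cfsg.Agent.Lib.helper6.RegLinC
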