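import Mathlib
import Cfsg.Prelude.Def_Classical
import Cfsg.Agent.Lib.helper3.O9A.Defs
import Cfsg.Agent.Lib.helper4.O9AFIXSPLIT
import Cfsg.Agent.Lib.helper4.O9ADETSPLIT
import Cfsg.Agent.Lib.Helper18.O9ADETM

set_option autoImplicit false

/-!
# Project O9A, row FIXODD (helper6): the fixed space of an isometry `y` of an odd-dimensional nondegenerate quadratic space with
`y^m = 1`, `m ≠ 0` in `F`, `det y = 1` has odd dimension.
-/

namespace Cfsg.Agent.Lib.helper3.O9A

open Matrix Module Polynomial Cfsg.Agent.Lib.Helper1.S8U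

/-- FIXODD -/
theorem fix_odd {F : Type*} [Field F] (h2 : (2 : F) ≠ 0) {V : Type*} [AddCommGroup V] [Module F V] [FiniteDimensional F V] (Q : QuadraticForm F V)
    (hQ : (QuadraticMap.polarBilin Q).Nondegenerate) (y : Module.End F V) (hy : ∀ v, Q (y v) = Q v) (m : ℕ) (hm : (m : F) ≠ 0) (hym : y ^ m = 1)
    (hdet : LinearMap.det y = 1) (hodd : Odd (finrank F V)) : Odd (finrank F ↥(LinearMap.ker (y - 1))) := by
  obtain ⟨hc, hperp⟩ := fix_split Q y hy m hm hym
  have hKfix : ∀ x ∈ LinearMap.ker (y - 1), y x = x := by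
    intro x hx
    have := LinearMap.mem_ker.1 hx
    rwa [LinearMap.sub_apply, Module.End.one_apply, sub_eq_zero] at this
  have hK : ∀ x ∈ LinearMap.ker (y - 1), y x ∈ LinearMap.ker (y - 1) := by
    intro x hx
    rw [hKfix x hx]
    exact hx
  have hW : ∀ x ∈ LinearMap.range (y - 1), y x ∈ LinearMap.range (y - 1) := by
    rintro x ⟨x', rfl⟩
    refine ⟨y x', ?_⟩
    simp only [LinearMap.sub_apply, Module.End.one_apply, map_sub]
  have hds := det_split y (LinearMap.ker (y - 1)) (LinearMap.range (y - 1)) hc hK hW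
  have h1 : y.restrict hK = LinearMap.id := by
    apply LinearMap.ext
    intro x
    apply Subtype.ext
    exact hKfix x x.2
  rw [h1, LinearMap.det_id, one_mul, hdet] at hds
  -- the form on `W`
  have hsubW : ∀ u w : ↥(LinearMap.range (y - 1)),
      QuadraticMap.polarBilin (Q.comp (LinearMap.range (y - 1)).subtype) u w =
        QuadraticMap.polar Q (u : V) (w : V) := by
    intro u w
    simp only [QuadraticMap.polarBilin_apply_apply]
    unfold QuadraticMap.polar
    simp only [QuadraticMap.comp_apply, Submodule.subtype_apply, Submodule.coe_add]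
  have hleft : ∀ u : ↥(LinearMap.range (y - 1)),
      (∀ w : ↥(LinearMap.range (y - 1)), QuadraticMap.polar Q (u : V) (w : V) = 0) → u = 0 := by
    intro u hu
    apply Subtype.ext
    apply hQ.1 (u : V)
    intro v
    rw [QuadraticMap.polarBilin_apply_apply]
    have hv : v ∈ LinearMap.ker (y - 1) ⊔ LinearMap.range (y - 1) := by
      rw [hc.sup_eq_top]
      exact Submodule.mem_top
    obtain ⟨k, hk, w, hw, rfl⟩ := Submodule.mem_sup.mp hv
    rw [QuadraticMap.polar_add_right, QuadraticMap.polar_comm Q (u : V) k, hperp k hk (u : V) u.2,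
      hu ⟨w, hw⟩, add_zero]
  have hQW : (QuadraticMap.polarBilin (Q.comp (LinearMap.range (y - 1)).subtype)).Nondegenerate := by
    constructor
    · intro u hu
      apply hleft u
      intro w
      rw [← hsubW]
      exact hu w
    · intro u hu
      apply hleft u
      intro w
      rw [QuadraticMap.polar_comm, ← hsubW]
      exact hu w
  have hyW : ∀ v : ↥(LinearMap.range (y - 1)),
      (Q.comp (LinearMap.range (y - 1)).subtype) (y.restrict hW v) =
        (Q.comp (LinearMap.range (y - 1)).subtype) v := by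
    intro v
    exact hy (v : V)
  have hfixW : LinearMap.ker (y.restrict hW - 1) = ⊥ := by
    rw [LinearMap.ker_eq_bot']
    intro x hx
    rw [LinearMap.sub_apply, Module.End.one_apply, sub_eq_zero] at hx
    have hx' : y (x : V) = (x : V) := congrArg Subtype.val hx
    have hxK : (x : V) ∈ LinearMap.ker (y - 1) := by
      rw [LinearMap.mem_ker, LinearMap.sub_apply, Module.End.one_apply, hx', sub_self]
    have hmem : (x : V) ∈ LinearMap.ker (y - 1) ⊓ LinearMap.range (y - 1) := ⟨hxK, x.2⟩
    rw [hc.inf_eq_bot, Submodule.mem_bot] at hmem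
    exact Subtype.ext hmem
  have hdW := det_fpf (Q.comp (LinearMap.range (y - 1)).subtype) hQW (y.restrict hW) hyW hfixW
  rw [hdW] at hds
  have heven : Even (finrank F ↥(LinearMap.range (y - 1))) := by
    by_contra h
    rw [Nat.not_even_iff_odd] at h
    rw [h.neg_one_pow] at hds
    apply h2
    have : (2 : F) = 1 - (-1) := by norm_num
    rw [this, ← hds, sub_self]
  have hsum := Submodule.finrank_add_eq_of_isCompl hc
  rw [← hsum] at hodd
  rcases Nat.even_or_odd (finrank F ↥(LinearMap.ker (y - 1))) with h | h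
  · exact absurd (h.add heven) (Nat.not_even_iff_odd.mpr hodd)
  · exact h

end Cfsg.Agent.Lib.helper3.O9A
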