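import Mathlib
import Cfsg.Agent.Lib.Helper22.S6002.Defs
import Cfsg.Agent.Lib.helper6.S6002N2
import Cfsg.Agent.Lib.helper6.S6002N4
import Cfsg.Agent.Lib.helper6.S6002N5
import Cfsg.Agent.Lib.helper6.S6002N7

/-! Project S6002 (designer helper22), rows N9 (`three_cent`) and N11 (`three_trace`) (helper6). -/

set_option autoImplicit false
open scoped MatrixGroups

namespace Cfsg.Agent.Lib.Helper22.S6002

variable {ι : Type} [Fintype ι] [DecidableEq ι] {F : Type*} [Field F]

/-- a centralizer of order 2 is `{1, -1}` -/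
theorem s6002n9_cent2 {R : Subgroup (GL ι F)} (hE : ECtx R) (g : GL ι F) (h2 : Nat.card (centR R g) = 2)
    (x : GL ι F) (hx : x ∈ centR R g) : x = 1 ∨ x = -1 := by
  by_contra hcon
  push Not at hcon
  obtain ⟨hx1, hx2⟩ := hcon
  have hne := s6002n4_one_ne_neg hE
  have m1 : (1 : GL ι F) ∈ centR R g := (centR R g).one_mem
  have m2 : (-1 : GL ι F) ∈ centR R g := ⟨hE.neg, by rw [mul_neg, neg_mul, mul_one, one_mul]⟩
  obtain ⟨u, v, huv, huniv⟩ := Nat.card_eq_two_iff.mp h2
  have mem : ∀ t : centR R g, t = u ∨ t = v := by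
    intro t
    have : t ∈ ({u, v} : Set (centR R g)) := by rw [huniv]; exact Set.mem_univ t
    simpa using this
  have e12 : (⟨1, m1⟩ : centR R g) ≠ ⟨-1, m2⟩ := fun h => hne (congrArg Subtype.val h)
  have e13 : (⟨1, m1⟩ : centR R g) ≠ ⟨x, hx⟩ := fun h => hx1 (congrArg Subtype.val h).symm
  have e23 : (⟨-1, m2⟩ : centR R g) ≠ ⟨x, hx⟩ := fun h => hx2 (congrArg Subtype.val h).symm
  rcases mem ⟨1, m1⟩ with h1 | h1 <;> rcases mem ⟨-1, m2⟩ with h2' | h2' <;> rcases mem ⟨x, hx⟩ with h3 | h3
  · exact e12 (h1.trans h2'.symm)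
  · exact e12 (h1.trans h2'.symm)
  · exact e13 (h1.trans h3.symm)
  · exact e23 (h2'.trans h3.symm)
  · exact e23 (h2'.trans h3.symm)
  · exact e13 (h1.trans h3.symm)
  · exact e12 (h1.trans h2'.symm)
  · exact e12 (h1.trans h2'.symm)

/-- N9 -/
theorem three_cent {R : Subgroup (GL ι F)} (hE : ECtx R) (hK : NoKlein R)
    (a : GL ι F) (ha : a ∈ R) (ha2 : a * a = 1) (ha1 : a ≠ 1) (ha1' : a ≠ -1)
    (g : GL ι F) (hg : g ∈ Nrm R) (hgr : IsScal (g ^ 3)) (hgs : ¬ IsScal g) :
    Nat.card (centR R g) = 8 := by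
  have hfin := s6002n7_finite hE
  obtain ⟨⟨k, hk1, hk5, hk⟩, hscal⟩ := cent_card hE g
  have hmod := orbit_count R g hg 3 (by norm_num) hgr
  rw [hE.card, hk] at hmod
  have hodd := hodd_of_pow hE g 3 (by decide) hgr
  rw [hk]
  interval_cases k
  · -- `k = 1`
    exfalso
    have hC2 : Nat.card (centR R g) = 2 := by rw [hk]; norm_num
    have hC := s6002n9_cent2 hE g hC2
    have hnrm : ∀ x : GL ι F, x ∈ R → g * x * g⁻¹ ∈ R := fun x hx =>
      (Subgroup.mem_normalizer_iff.mp hg x).mp hx
    obtain ⟨c, hc⟩ := hgr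
    have hz : ∀ x : GL ι F, g ^ 3 * x = x * g ^ 3 := by
      intro x
      apply Units.ext
      rw [Units.val_mul, Units.val_mul, hc, Matrix.smul_mul, Matrix.mul_smul, Matrix.one_mul, Matrix.mul_one]
    set a' : GL ι F := g * a * g⁻¹ with ha'def
    set a'' : GL ι F := g * a' * g⁻¹ with ha''def
    have ha' : a' ∈ R := hnrm a ha
    have ha'' : a'' ∈ R := hnrm a' ha'
    have hback : g * a'' * g⁻¹ = a := by
      have e1 : g * a'' * g⁻¹ = g ^ 3 * a * (g ^ 3)⁻¹ := by
        rw [ha''def, ha'def]; simp only [pow_succ, pow_zero, one_mul, mul_inv_rev, mul_assoc]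
      rw [e1, hz, mul_assoc, mul_inv_cancel, mul_one]
    have ha'2 : a' * a' = 1 := by
      have e1 : a' * a' = g * (a * a) * g⁻¹ := by rw [ha'def]; group
      rw [e1, ha2, mul_one, mul_inv_cancel]
    have ha''2 : a'' * a'' = 1 := by
      have e1 : a'' * a'' = g * (a' * a') * g⁻¹ := by rw [ha''def]; group
      rw [e1, ha'2, mul_one, mul_inv_cancel]
    set w : GL ι F := a * a' * a'' with hwdef
    have hw : w ∈ R := R.mul_mem (R.mul_mem ha ha') ha''
    have hcw : g * w * g⁻¹ = a' * a'' * a := by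
      have e1 : g * w * g⁻¹ = (g * a * g⁻¹) * (g * a' * g⁻¹) * (g * a'' * g⁻¹) := by
        rw [hwdef]; group
      rw [e1, hback]
    have hsign : a' * a'' * a = w ∨ a' * a'' * a = -w := by
      rcases hE.comm a ha a' ha' with h | h <;> rcases hE.comm a ha a'' ha'' with h' | h'
      · left
        rw [hwdef, mul_assoc a' a'' a, ← h', ← mul_assoc, ← h]
      · right
        have h'' : a'' * a = -(a * a'') := by rw [h', neg_neg]
        rw [hwdef, mul_assoc a' a'' a, h'', mul_neg, ← mul_assoc, ← h]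
      · right
        have h'' : a' * a = -(a * a') := by rw [h, neg_neg]
        rw [hwdef, mul_assoc a' a'' a, ← h', ← mul_assoc, h'', neg_mul]
      · left
        have h'' : a'' * a = -(a * a'') := by rw [h', neg_neg]
        have h''' : a' * a = -(a * a') := by rw [h, neg_neg]
        rw [hwdef, mul_assoc a' a'' a, h'', mul_neg, ← mul_assoc, h''', neg_mul, neg_neg]
    have hwC : w ∈ centR R g := by
      refine ⟨hw, ?_⟩
      rcases hsign with h | h
      · rw [h] at hcw
        have := congrArg (fun t => t * g) hcw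
        simp only [mul_assoc, inv_mul_cancel, mul_one] at this
        exact this
      · rw [h] at hcw
        exact absurd hcw (hodd w hw)
    have hsq : a * a' * (a * a') = 1 := by
      have hinv : a''⁻¹ = a'' := by
        rw [inv_eq_iff_mul_eq_one]; exact ha''2
      rcases hC w hwC with h | h
      · have e1 : a * a' = a''⁻¹ := by
          rw [eq_inv_iff_mul_eq_one]; exact h
        rw [e1, hinv, ha''2]
      · have e1 : a * a' = -a''⁻¹ := by
          have : a * a' * a'' * a''⁻¹ = -1 * a''⁻¹ := by rw [← hwdef, h]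
          rw [mul_assoc, mul_inv_cancel, mul_one, neg_mul, one_mul] at this
          exact this
        rw [e1, hinv, neg_mul_neg, ha''2]
    have hcomm : a * a' = a' * a := by
      have e1 : a' * a = a * (a * a' * (a * a')) * a' := by
        calc a' * a = (a * a) * a' * a * (a' * a') := by rw [ha2, ha'2, one_mul, mul_one]
          _ = a * (a * a' * (a * a')) * a' := by simp only [mul_assoc]
      rw [hsq, mul_one] at e1
      exact e1.symm
    rcases hK a ha a' ha' ha2 ha'2 hcomm with h | h | h | h | h | h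
    · exact ha1 h
    · exact ha1' h
    · -- `a' = 1`
      apply ha1
      have : a = g⁻¹ * a' * g := by rw [ha'def]; group
      rw [this, h, mul_one, inv_mul_cancel]
    · -- `a' = -1`
      apply ha1'
      have : a = g⁻¹ * a' * g := by rw [ha'def]; group
      rw [this, h, mul_neg, mul_one, neg_mul, inv_mul_cancel]
    · -- `a = a'`
      have haC : a ∈ centR R g := by
        refine ⟨ha, ?_⟩
        have := congrArg (fun t => t * g) h
        simp only [ha'def, mul_assoc, inv_mul_cancel, mul_one] at this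
        exact this.symm
      rcases hC a haC with h' | h'
      · exact ha1 h'
      · exact ha1' h'
    · -- `a = -a'`
      apply hodd a ha
      show a' = -a
      rw [h, neg_neg]
  · exact absurd hmod (by decide)
  · norm_num
  · exact absurd hmod (by decide)
  · exact absurd (hscal (by rw [hk]; norm_num)) hgs

/-- N11 -/
theorem three_trace {R : Subgroup (GL ι F)} (hE : ECtx R) (hK : NoKlein R) (hι : Fintype.card ι = 4)
    (a : GL ι F) (ha : a ∈ R) (ha2 : a * a = 1) (ha1 : a ≠ 1) (ha1' : a ≠ -1)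
    (g : GL ι F) (hg : g ∈ Nrm R) (hgr : IsScal (g ^ 3)) (hgs : ¬ IsScal g) :
    Matrix.trace (g : Matrix ι ι F) * Matrix.trace ((g⁻¹ : GL ι F) : Matrix ι ι F) = 4 := by
  have h := trace_formula hE hι g hg (hodd_of_pow hE g 3 (by decide) hgr)
  rw [three_cent hE hK a ha ha2 ha1 ha1' g hg hgr hgs] at h
  have h2 := hE.two
  apply mul_left_cancel₀ h2
  rw [← mul_assoc, h]
  norm_num

end Cfsg.Agent.Lib.Helper22.S6002
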