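import Mathlib

set_option autoImplicit false

/-!
# Fixed-point-free linear groups over `ZMod r`: basic facts
-/

namespace Cfsg.Agent.Lib.helper6.ZP

open Finset

variable {r : ℕ} [hr : Fact r.Prime] {V : Type*} [AddCommGroup V] [Module (ZMod r) V]
variable {G : Type*} [Group G]

/-- A fixed-point-free linear action. -/
def FPF (ρ : G →* Module.End (ZMod r) V) : Prop :=
  ∀ g : G, g ≠ 1 → ∀ v : V, ρ g v = v → v = 0

namespace FPF

variable {ρ : G →* Module.End (ZMod r) V}

theorem comp_subtype (h : FPF ρ) (H : Subgroup G) : FPF (ρ.comp H.subtype) := by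
  intro g hg v hv
  exact h (g : G) (fun hc => hg (Subtype.ext hc)) v hv

theorem comp_injective {H : Type*} [Group H] (h : FPF ρ) (f : H →* G)
    (hf : Function.Injective f) : FPF (ρ.comp f) := by
  intro g hg v hv
  exact h (f g) (fun hc => hg (hf (by rw [hc, map_one]))) v hv

theorem injective [Nontrivial V] (h : FPF ρ) : Function.Injective ρ := by
  intro a b hab
  by_contra hne
  have h1 : a⁻¹ * b ≠ 1 := by
    intro hc
    apply hne
    have := congrArg (fun t => a * t) hc
    simpa using this.symm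
  obtain ⟨v, hv⟩ := exists_ne (0 : V)
  apply hv
  apply h (a⁻¹ * b) h1 v
  have e : ρ (a⁻¹ * b) = 1 := by
    have h2 : ρ a * ρ (a⁻¹ * b) = ρ a * 1 := by
      rw [← map_mul, mul_inv_cancel_left, mul_one, hab]
    have h3 : ρ a⁻¹ * (ρ a * ρ (a⁻¹ * b)) = ρ a⁻¹ * (ρ a * 1) := by rw [h2]
    rw [← mul_assoc, ← mul_assoc, ← map_mul, inv_mul_cancel, map_one, one_mul, one_mul] at h3
    exact h3
  rw [e]
  rfl

theorem isUnit_sub_one [Finite V] (h : FPF ρ) {g : G} (hg : g ≠ 1) : IsUnit (ρ g - 1) := by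
  haveI : Module.Finite (ZMod r) V := Module.Finite.of_finite
  rw [LinearMap.isUnit_iff_ker_eq_bot, LinearMap.ker_eq_bot']
  intro v hv
  apply h g hg v
  have : ρ g v - v = 0 := by simpa using hv
  exact sub_eq_zero.mp this

theorem geom_sum_eq_zero [Finite V] (h : FPF ρ) {g : G} (hg : g ≠ 1) {n : ℕ} (hn : g ^ n = 1) :
    ∑ k ∈ range n, ρ g ^ k = 0 := by
  have h1 : (ρ g - 1) * ∑ k ∈ range n, ρ g ^ k = 0 := by
    rw [mul_geom_sum, ← map_pow, hn, map_one, sub_self]
  exact (h.isUnit_sub_one hg).mul_right_eq_zero.mp h1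

theorem eq_neg_one [Finite V] (h : FPF ρ) {g : G} (hg : g ≠ 1) (h2 : g ^ 2 = 1) : ρ g = -1 := by
  have := h.geom_sum_eq_zero hg h2
  rw [sum_range_succ, sum_range_one, pow_zero, pow_one] at this
  exact (eq_neg_of_add_eq_zero_right this)

theorem invol_unique [Finite V] [Nontrivial V] (h : FPF ρ) {g k : G} (hg : g ≠ 1) (hg2 : g ^ 2 = 1)
    (hk : k ≠ 1) (hk2 : k ^ 2 = 1) : g = k :=
  h.injective ((h.eq_neg_one hg hg2).trans (h.eq_neg_one hk hk2).symm)

theorem invol_central [Finite V] [Nontrivial V] (h : FPF ρ) {g : G} (hg : g ≠ 1) (hg2 : g ^ 2 = 1)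
    (x : G) : x * g = g * x := by
  apply h.injective
  rw [map_mul, map_mul, h.eq_neg_one hg hg2]
  simp

theorem two_ne_zero [Finite V] [Nontrivial V] (h : FPF ρ) {g : G} (hg : g ≠ 1) (hg2 : g ^ 2 = 1) :
    (2 : ZMod r) ≠ 0 := by
  intro h2
  apply hg
  apply h.injective
  rw [h.eq_neg_one hg hg2, map_one]
  have : (2 : Module.End (ZMod r) V) = 0 := by
    have h3 : (2 : Module.End (ZMod r) V) = algebraMap (ZMod r) _ 2 := (map_ofNat _ 2).symm
    rw [h3, h2, map_zero]
  have h4 : (1 : Module.End (ZMod r) V) + 1 = 0 := by rw [one_add_one_eq_two, this]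
  exact (eq_neg_of_add_eq_zero_left h4).symm

theorem sq_eq_neg_one [Finite V] (h : FPF ρ) {g : G} (hg : orderOf g = 4) : ρ g * ρ g = -1 := by
  have h1 : g ^ 2 ≠ 1 := by
    intro hc
    have := orderOf_dvd_of_pow_eq_one hc
    rw [hg] at this
    omega
  have h2 : (g ^ 2) ^ 2 = 1 := by
    rw [← pow_mul]
    have : g ^ orderOf g = 1 := pow_orderOf_eq_one g
    rwa [hg] at this
  have := h.eq_neg_one h1 h2
  rw [map_pow, pow_two] at this
  exact this

theorem order_three [Finite V] (h : FPF ρ) {g : G} (hg : orderOf g = 3) :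
    ρ g * ρ g + ρ g + 1 = 0 := by
  have h1 : g ≠ 1 := by
    intro hc
    rw [hc, orderOf_one] at hg
    omega
  have h3 : g ^ 3 = 1 := by rw [← hg]; exact pow_orderOf_eq_one g
  have := h.geom_sum_eq_zero h1 h3
  rw [sum_range_succ, sum_range_succ, sum_range_one, pow_zero, pow_one, pow_two] at this
  rw [← this]
  abel

end FPF

end Cfsg.Agent.Lib.helper6.ZP
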