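import Mathlib
import Cfsg.Agent.Lib.helper6.ZPa

set_option autoImplicit false

namespace Cfsg.Agent.Lib.helper6.ZP

open Finset

variable {r : ℕ} [hr : Fact r.Prime] {V : Type*} [AddCommGroup V] [Module (ZMod r) V]
variable {G : Type*} [Group G]

namespace FPF

variable {ρ : G →* Module.End (ZMod r) V}

theorem algebraMap_injective [Nontrivial V] :
    Function.Injective (algebraMap (ZMod r) (Module.End (ZMod r) V)) :=
  (algebraMap (ZMod r) (Module.End (ZMod r) V)).injective

instance charP_end [Nontrivial V] : CharP (Module.End (ZMod r) V) r :=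
  charP_of_injective_algebraMap algebraMap_injective r

/-- no element of order `r` -/
theorem orderOf_ne_char [Finite V] [Nontrivial V] (h : FPF ρ) (g : G) : orderOf g ≠ r := by
  intro hg
  have hg1 : g ≠ 1 := by
    intro hc
    rw [hc, orderOf_one] at hg
    exact hr.out.one_lt.ne hg
  have hu := h.isUnit_sub_one hg1
  have hgr : g ^ r = 1 := by
    have := pow_orderOf_eq_one g
    rwa [hg] at this
  have h1 : (ρ g - 1) ^ r = 0 := by
    rw [sub_pow_char_of_commute _ (Commute.one_right _), one_pow, ← map_pow, hgr, map_one,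
      sub_self]
  have h2 : IsUnit ((ρ g - 1) ^ r) := hu.pow r
  rw [h1] at h2
  exact not_isUnit_zero h2

/-- two commuting elements of the same prime order generate the same subgroup -/
theorem mem_zpowers_of_commute [Finite V] [Nontrivial V] (h : FPF ρ) {p : ℕ} (hp : p.Prime)
    {a b : G} (hab : Commute a b) (ha : orderOf a = p) (hb : orderOf b = p) :
    a ∈ Subgroup.zpowers b := by
  by_contra hcon
  have hne : ∀ j : ℕ, a * b ^ j ≠ 1 := by
    intro j hc
    apply hcon
    have : a = (b ^ j)⁻¹ := eq_inv_of_mul_eq_one_left hc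
    rw [this]
    exact Subgroup.inv_mem _ (Subgroup.pow_mem _ (Subgroup.mem_zpowers b) j)
  have hpow : ∀ j : ℕ, (a * b ^ j) ^ p = 1 := by
    intro j
    rw [(hab.pow_right j).mul_pow, ← ha, pow_orderOf_eq_one, one_mul, ← pow_mul, mul_comm, pow_mul,
      ha, ← hb, pow_orderOf_eq_one, one_pow]
  have hsum : ∀ j : ℕ, ∑ k ∈ range p, ρ (a * b ^ j) ^ k = 0 := fun j =>
    h.geom_sum_eq_zero (hne j) (hpow j)
  have hbk : ∀ k : ℕ, 0 < k → k < p → ∑ j ∈ range p, ρ (b ^ k) ^ j = 0 := by
    intro k hk0 hkp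
    apply h.geom_sum_eq_zero
    · intro hc
      have := orderOf_dvd_of_pow_eq_one hc
      rw [hb] at this
      exact absurd (Nat.le_of_dvd hk0 this) (by omega)
    · rw [← pow_mul, mul_comm, pow_mul, ← hb, pow_orderOf_eq_one, one_pow]
  have htot : ∑ j ∈ range p, ∑ k ∈ range p, ρ (a * b ^ j) ^ k = 0 :=
    Finset.sum_eq_zero (fun j _ => hsum j)
  rw [Finset.sum_comm] at htot
  have hterm : ∀ k ∈ range p, ∑ j ∈ range p, ρ (a * b ^ j) ^ k =
      if k = 0 then (p : Module.End (ZMod r) V) else 0 := by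
    intro k hk
    rw [mem_range] at hk
    split_ifs with h0
    · subst h0
      simp
    · have e : ∀ j ∈ range p, ρ (a * b ^ j) ^ k = ρ a ^ k * ρ (b ^ k) ^ j := by
        intro j _
        rw [← map_pow, ← map_pow, ← map_pow, ← map_mul, (hab.pow_right j).mul_pow, ← pow_mul,
          ← pow_mul, mul_comm j k]
      rw [Finset.sum_congr rfl e, ← Finset.mul_sum, hbk k (Nat.pos_of_ne_zero h0) hk, mul_zero]
  rw [Finset.sum_congr rfl hterm, Finset.sum_ite_eq' (range p) 0] at htot
  rw [if_pos (mem_range.mpr hp.pos)] at htot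
  have h3 : ((p : ZMod r)) = 0 := by
    apply algebraMap_injective (V := V)
    rw [map_natCast, htot, map_zero]
  have h4 : r ∣ p := (ZMod.natCast_eq_zero_iff p r).mp h3
  have h5 : r = p := (Nat.prime_dvd_prime_iff_eq hr.out hp).mp h4
  exact h.orderOf_ne_char a (ha.trans h5.symm)

/-- commuting elements of order four are equal or inverse -/
theorem eq_or_eq_inv_of_commute [Finite V] [Nontrivial V] (h : FPF ρ) {s t : G}
    (hs : orderOf s = 4) (ht : orderOf t = 4) (hst : Commute s t) : s = t ∨ s = t⁻¹ := by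
  have hs2 := h.sq_eq_neg_one hs
  have ht2 := h.sq_eq_neg_one ht
  have e : s ^ 2 = t ^ 2 := by
    apply h.injective
    rw [map_pow, map_pow, pow_two, pow_two, hs2, ht2]
  by_cases hc : s * t⁻¹ = 1
  · left
    exact mul_inv_eq_one.mp hc
  · right
    have h2 : (s * t⁻¹) ^ 2 = 1 := by
      rw [(hst.inv_right).mul_pow, e, inv_pow, mul_inv_cancel]
    have ht1 : t ^ 2 ≠ 1 := by
      intro hc2
      have := orderOf_dvd_of_pow_eq_one hc2
      rw [ht] at this
      omega
    have ht4 : (t ^ 2) ^ 2 = 1 := by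
      rw [← pow_mul]
      have := pow_orderOf_eq_one t
      rwa [ht] at this
    have h3 := h.invol_unique hc h2 ht1 ht4
    calc s = s * t⁻¹ * t := by group
      _ = t ^ 2 * t := by rw [h3]
      _ = t⁻¹ * (t ^ 2 * t ^ 2) := by group
      _ = t⁻¹ := by rw [← pow_two, ht4, mul_one]

end FPF

end Cfsg.Agent.Lib.helper6.ZP
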