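import Mathlib
import Cfsg.Agent.Lib.helper6.ZPa2
import Cfsg.Agent.S0016

set_option autoImplicit false

namespace Cfsg.Agent.Lib.helper6.ZP

open Finset

variable {r : ℕ} [hr : Fact r.Prime] {V : Type*} [AddCommGroup V] [Module (ZMod r) V]
variable {G : Type*} [Group G]

namespace FPF

variable {ρ : G →* Module.End (ZMod r) V}

theorem eq_zpowers_of_card [Finite G] [Finite V] [Nontrivial V] (h : FPF ρ) {p : ℕ}
    [hp : Fact p.Prime] (c : G) (hc : orderOf c = p) (hcc : ∀ x : G, Commute x c)
    (H : Subgroup G) (hH : Nat.card H = p) : H = Subgroup.zpowers c := by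
  haveI : IsCyclic H := isCyclic_of_prime_card hH
  obtain ⟨x, hx⟩ := IsCyclic.exists_generator (α := H)
  have hxo : orderOf x = p := by
    rw [orderOf_eq_card_of_forall_mem_zpowers hx, hH]
  have hxo' : orderOf (x : G) = p := by rw [Subgroup.orderOf_coe, hxo]
  have h1 : (x : G) ∈ Subgroup.zpowers c :=
    h.mem_zpowers_of_commute hp.out (hcc x) hxo' hc
  have hle : H ≤ Subgroup.zpowers c := by
    intro y hy
    obtain ⟨k, hk⟩ := Subgroup.mem_zpowers_iff.mp (hx ⟨y, hy⟩)
    have : y = (x : G) ^ k := by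
      have := congrArg Subtype.val hk
      simpa using this.symm
    rw [this]
    exact Subgroup.zpow_mem _ h1 k
  apply Subgroup.eq_of_le_of_card_ge hle
  rw [hH, Nat.card_zpowers, hc]

theorem unique_order_p [Finite G] [Finite V] [Nontrivial V] (h : FPF ρ) {p : ℕ}
    [hp : Fact p.Prime] (hG : IsPGroup p G) (H K : Subgroup G) (hH : Nat.card H = p)
    (hK : Nat.card K = p) : H = K := by
  haveI : Nontrivial G := by
    haveI : Nontrivial H := by
      rw [← Finite.one_lt_card_iff_nontrivial, hH]; exact hp.out.one_lt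
    obtain ⟨x, hx⟩ := exists_ne (1 : H)
    exact ⟨⟨(x : G), 1, fun hc => hx (Subtype.ext hc)⟩⟩
  haveI := hG.center_nontrivial
  have hcard : p ∣ Nat.card (Subgroup.center G) := by
    obtain ⟨n, hn⟩ := (hG.to_subgroup (Subgroup.center G)).exists_card_eq
    have hn0 : n ≠ 0 := by
      intro h0
      rw [h0, pow_zero] at hn
      have := Finite.one_lt_card (α := Subgroup.center G)
      omega
    rw [hn]
    exact dvd_pow_self p hn0
  obtain ⟨c, hc⟩ := exists_prime_orderOf_dvd_card' p hcard
  have hc' : orderOf (c : G) = p := by rw [Subgroup.orderOf_coe, hc]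
  have hcc : ∀ x : G, Commute x (c : G) := fun x => (Subgroup.mem_center_iff.mp c.2 x)
  rw [h.eq_zpowers_of_card (c : G) hc' hcc H hH, h.eq_zpowers_of_card (c : G) hc' hcc K hK]

/-- `p`-subgroups of a fixed-point-free group are cyclic or generalized quaternion -/
theorem pgroup_structure [Finite G] [Finite V] [Nontrivial V] (h : FPF ρ) {p : ℕ}
    [hp : Fact p.Prime] (P : Subgroup G) (hP : IsPGroup p P) :
    IsCyclic P ∨ (p = 2 ∧ ∃ n : ℕ, Nonempty (P ≃* QuaternionGroup (2 ^ n))) := by
  apply Cfsg.Agent.S0016.result p hP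
  intro H K hH hK
  exact (h.comp_subtype P).unique_order_p hP H K hH hK

end FPF

end Cfsg.Agent.Lib.helper6.ZP
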