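import Mathlib

set_option autoImplicit false

/-!
# Embedding lemma: groups of units of a quaternion algebra over a finite commutative ring
-/

namespace Cfsg.Agent.Lib.helper6.ZP

open Quaternion

/-- the quaternion ring used here: `i² = -1`, `j² = γ` -/
abbrev HQ (C : Type*) [CommRing C] (γ : C) := ℍ[C,-1,0,γ]

section quat

variable {C : Type*} [CommRing C] (γ : C)

theorem quat_four_re (q : HQ C γ) :
    γ • (q - (⟨0, 1, 0, 0⟩ : HQ C γ) * q * ⟨0, 1, 0, 0⟩)
      + (⟨0, 0, 1, 0⟩ : HQ C γ) * (q - (⟨0, 1, 0, 0⟩ : HQ C γ) * q * ⟨0, 1, 0, 0⟩) * ⟨0, 0, 1, 0⟩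
      = (⟨4 * γ * q.re, 0, 0, 0⟩ : HQ C γ) := by
  ext <;> simp <;> ring

theorem quat_mul_i_re (q : HQ C γ) : (q * (⟨0, 1, 0, 0⟩ : HQ C γ)).re = - q.imI := by simp
theorem quat_mul_j_re (q : HQ C γ) : (q * (⟨0, 0, 1, 0⟩ : HQ C γ)).re = γ * q.imJ := by simp
theorem quat_mul_k_re (q : HQ C γ) : (q * (⟨0, 0, 0, 1⟩ : HQ C γ)).re = γ * q.imK := by simp

/-- norm form -/
def nsq (q : HQ C γ) : C := q.re ^ 2 + q.imI ^ 2 - γ * q.imJ ^ 2 - γ * q.imK ^ 2

theorem mul_star_eq (q : HQ C γ) : q * star q = (⟨nsq γ q, 0, 0, 0⟩ : HQ C γ) := by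
  ext <;> simp [nsq] <;> ring

theorem star_mul_eq (q : HQ C γ) : star q * q = (⟨nsq γ q, 0, 0, 0⟩ : HQ C γ) := by
  ext <;> simp [nsq] <;> ring

theorem nsq_mul (p q : HQ C γ) : nsq γ (p * q) = nsq γ p * nsq γ q := by
  simp [nsq]; ring

theorem nsq_one : nsq γ (1 : HQ C γ) = 1 := by simp [nsq]

end quat

section core

variable {C : Type*} [CommRing C] {A : Type*} [Ring A] [Algebra C A] (γ : C)

/-- quaternion basis from anticommuting `I`, `J` -/
def qbasis (I J : A) (hI : I * I = -1) (hJ : J * J = algebraMap C A γ)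
    (hIJ : J * I = -(I * J)) :
    QuaternionAlgebra.Basis A (-1 : C) 0 γ where
  i := I
  j := J
  k := I * J
  i_mul_i := by rw [hI]; simp
  j_mul_j := by rw [hJ, Algebra.algebraMap_eq_smul_one]
  i_mul_j := rfl
  j_mul_i := by rw [hIJ]; simp

variable (I J : A) (hI : I * I = -1) (hJ : J * J = algebraMap C A γ) (hIJ : J * I = -(I * J))

/-- the lift of the quaternion ring -/
def qlift : HQ C γ →ₐ[C] A := (qbasis γ I J hI hJ hIJ).liftHom

theorem qlift_apply (q : HQ C γ) : qlift γ I J hI hJ hIJ q =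
    algebraMap C _ q.re + q.imI • I + q.imJ • J + q.imK • (I * J) := rfl

theorem qlift_i : qlift γ I J hI hJ hIJ ⟨0, 1, 0, 0⟩ = I := by simp [qlift_apply]
theorem qlift_j : qlift γ I J hI hJ hIJ ⟨0, 0, 1, 0⟩ = J := by simp [qlift_apply]
theorem qlift_coe (c : C) : qlift γ I J hI hJ hIJ ⟨c, 0, 0, 0⟩ = algebraMap C A c := by
  simp [qlift_apply]

theorem qlift_injective (hfaith : Function.Injective (algebraMap C A)) (h2 : IsUnit (2 : C))
    (hγ : IsUnit γ) :
    Function.Injective (qlift γ I J hI hJ hIJ) := by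
  rw [injective_iff_map_eq_zero]
  intro q hq
  have key : ∀ p : HQ C γ, qlift γ I J hI hJ hIJ p = 0 → p.re = 0 := by
    intro p hp
    have h1 := congrArg (qlift γ I J hI hJ hIJ) (quat_four_re γ p)
    simp only [map_sub, map_mul, map_add, map_smul, hp, mul_zero, zero_mul, sub_zero, smul_zero,
      add_zero] at h1
    rw [qlift_coe] at h1
    have h4 : 4 * γ * p.re = 0 := by
      apply hfaith
      rw [← h1, map_zero]
    have h5 : IsUnit (4 * γ : C) := by
      have : (4 : C) = 2 * 2 := by norm_num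
      rw [this]
      exact (h2.mul h2).mul hγ
    exact (h5.mul_right_eq_zero).mp h4
  have e0 := key q hq
  have e1 := key (q * ⟨0, 1, 0, 0⟩) (by rw [map_mul, hq, zero_mul])
  have e2 := key (q * ⟨0, 0, 1, 0⟩) (by rw [map_mul, hq, zero_mul])
  have e3 := key (q * ⟨0, 0, 0, 1⟩) (by rw [map_mul, hq, zero_mul])
  rw [quat_mul_i_re] at e1
  rw [quat_mul_j_re] at e2
  rw [quat_mul_k_re] at e3
  ext
  · exact e0
  · exact neg_eq_zero.mp e1
  · exact (hγ.mul_right_eq_zero).mp e2
  · exact (hγ.mul_right_eq_zero).mp e3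

/-- if the lift of `q` is a unit then the norm form of `q` is a unit -/
theorem isUnit_nsq [Finite C] (hfaith : Function.Injective (algebraMap C A))
    (h2 : IsUnit (2 : C)) (hγ : IsUnit γ) (q : HQ C γ)
    (hq : IsUnit (qlift γ I J hI hJ hIJ q)) : IsUnit (nsq γ q) := by
  rw [isUnit_iff_mem_nonZeroDivisors_of_finite, mem_nonZeroDivisors_iff_right]
  intro c hc
  have hinj := qlift_injective γ I J hI hJ hIJ hfaith h2 hγ
  -- c • (q * star q) = 0
  have h1 : c • (q * star q) = 0 := by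
    rw [mul_star_eq]
    ext <;> simp [hc]
  have h3 : c • (qlift γ I J hI hJ hIJ q * qlift γ I J hI hJ hIJ (star q)) = 0 := by
    rw [← map_mul, ← map_smul, h1, map_zero]
  rw [← mul_smul_comm] at h3
  have h4 : c • qlift γ I J hI hJ hIJ (star q) = 0 := hq.mul_right_eq_zero.mp h3
  rw [← map_smul] at h4
  have h5 : c • star q = 0 := hinj (by rw [h4, map_zero])
  have h6 : c • q = 0 := by
    have := congrArg star h5
    rw [QuaternionAlgebra.star_smul, star_star, star_zero] at this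
    exact this
  have h7 : c • qlift γ I J hI hJ hIJ q = 0 := by rw [← map_smul, h6, map_zero]
  obtain ⟨u, hu⟩ := hq
  have h8 : c • (1 : A) = 0 := by
    have : c • (qlift γ I J hI hJ hIJ q * ((u⁻¹ : Aˣ) : A)) = 0 := by
      rw [← smul_mul_assoc, h7, zero_mul]
    rw [← hu, Units.mul_inv] at this
    exact this
  apply hfaith
  rw [map_zero, Algebra.algebraMap_eq_smul_one, h8]

end core

end Cfsg.Agent.Lib.helper6.ZP
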