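import Mathlib
import Cfsg.Agent.Lib.helper6.ZPb

set_option autoImplicit false

namespace Cfsg.Agent.Lib.helper6.ZP

open Quaternion

section mat

variable {C : Type*} [CommRing C] {E : Type*} [Field E] [Algebra C E] (γ : C)

/-- the standard quaternion basis of `M₂(E)` attached to a solution of `a² + b² = γ` -/
def mbasis (a b : E) (hab : a ^ 2 + b ^ 2 = algebraMap C E γ) :
    QuaternionAlgebra.Basis (Matrix (Fin 2) (Fin 2) E) (-1 : C) 0 γ where
  i := !![0, -1; 1, 0]
  j := !![a, b; b, -a]
  k := !![0, -1; 1, 0] * !![a, b; b, -a]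
  i_mul_i := by
    ext i j
    fin_cases i <;> fin_cases j <;> simp
  j_mul_j := by
    rw [← algebraMap_smul E γ]
    ext i j
    fin_cases i <;> fin_cases j <;> simp <;> first | ring1 | linear_combination hab
  i_mul_j := rfl
  j_mul_i := by
    ext i j
    fin_cases i <;> fin_cases j <;> simp

/-- the lift of the quaternion ring to matrices -/
def mlift (a b : E) (hab : a ^ 2 + b ^ 2 = algebraMap C E γ) :
    HQ C γ →ₐ[C] Matrix (Fin 2) (Fin 2) E :=
  (mbasis γ a b hab).liftHom

theorem mlift_apply (a b : E) (hab : a ^ 2 + b ^ 2 = algebraMap C E γ) (q : HQ C γ) :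
    mlift γ a b hab q =
      algebraMap C _ q.re + q.imI • (!![0, -1; 1, 0] : Matrix (Fin 2) (Fin 2) E)
      + q.imJ • (!![a, b; b, -a] : Matrix (Fin 2) (Fin 2) E)
      + q.imK • ((!![0, -1; 1, 0] : Matrix (Fin 2) (Fin 2) E) * !![a, b; b, -a]) := rfl

theorem mlift_eq (a b : E) (hab : a ^ 2 + b ^ 2 = algebraMap C E γ) (q : HQ C γ) :
    mlift γ a b hab q =
      !![algebraMap C E q.re + algebraMap C E q.imJ * a - algebraMap C E q.imK * b,
         - algebraMap C E q.imI + algebraMap C E q.imJ * b + algebraMap C E q.imK * a;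
         algebraMap C E q.imI + algebraMap C E q.imJ * b + algebraMap C E q.imK * a,
         algebraMap C E q.re - algebraMap C E q.imJ * a + algebraMap C E q.imK * b] := by
  rw [mlift_apply]
  rw [← algebraMap_smul E q.imI, ← algebraMap_smul E q.imJ, ← algebraMap_smul E q.imK]
  ext i j
  fin_cases i <;> fin_cases j <;>
    simp [Matrix.add_apply, Matrix.algebraMap_matrix_apply] <;> simp only [Algebra.smul_def] <;>
    ring

theorem det_mlift (a b : E) (hab : a ^ 2 + b ^ 2 = algebraMap C E γ) (q : HQ C γ) :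
    (mlift γ a b hab q).det = algebraMap C E (nsq γ q) := by
  rw [mlift_eq, Matrix.det_fin_two_of, nsq]
  simp only [map_add, map_sub, map_mul, map_pow]
  linear_combination (-(algebraMap C E q.imJ) ^ 2 - (algebraMap C E q.imK) ^ 2) * hab

end mat

end Cfsg.Agent.Lib.helper6.ZP
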