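import Mathlib
import Cfsg.Agent.Lib.helper6.ZPb2

set_option autoImplicit false

namespace Cfsg.Agent.Lib.helper6.ZP

open Quaternion Polynomial

universe u v w

/-- every element of a finite field of odd characteristic is a sum of two squares -/
theorem exists_sq_add_sq {E : Type*} [Field E] [Fintype E] (h2 : ringChar E ≠ 2) (x : E) :
    ∃ a b : E, a ^ 2 + b ^ 2 = x := by
  let f : E[X] := X ^ 2
  let g : E[X] := X ^ 2 - C x
  obtain ⟨a, b, hab⟩ : ∃ a b, f.eval a + g.eval b = 0 :=
    @FiniteField.exists_root_sum_quadratic _ _ _ _ f g (degree_X_pow 2)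
      (degree_X_pow_sub_C (by decide) _) (FiniteField.odd_card_of_char_ne_two h2)
  refine ⟨a, b, ?_⟩
  rw [← sub_eq_zero]
  simpa only [f, g, eval_C, eval_X, eval_pow, eval_sub, ← add_sub_assoc] using hab

theorem charP_of_prime_cast_zero {E : Type*} [Ring E] [Nontrivial E] (r : ℕ) (hr : r.Prime)
    (h0 : (r : E) = 0) : CharP E r := by
  have h1 : ringChar E ∣ r := ringChar.dvd h0
  rcases (Nat.dvd_prime hr).mp h1 with h | h
  · exact absurd h (CharP.ringChar_ne_one)
  · have := ringChar.charP E
    rwa [h] at this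

theorem embed {C : Type u} [CommRing C] [Finite C] {A : Type v} [Ring A] [Algebra C A]
    [Nontrivial A] (γ : C) (hγ : IsUnit γ)
    (r : ℕ) [Fact r.Prime] (hr2 : r ≠ 2) (hrC : (r : C) = 0)
    (hfaith : Function.Injective (algebraMap C A))
    (I J : A) (hI : I * I = -1) (hJ : J * J = algebraMap C A γ) (hIJ : J * I = -(I * J))
    {X : Type w} [Group X] (ρ : X →* A)
    (hfree : ∀ g : X, g ≠ 1 → IsUnit (ρ g - 1))
    (hmem : ∀ g : X, ∃ q : HQ C γ, nsq γ q = 1 ∧ qlift γ I J hI hJ hIJ q = ρ g) :
    ∃ (E : Type u) (_ : Field E) (_ : Fintype E) (_ : CharP E r)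
      (φ : X →* Matrix.SpecialLinearGroup (Fin 2) E),
      Function.Injective φ ∧ (∀ g, ρ g = -1 → φ g = -1) := by
  classical
  have hrP : r.Prime := Fact.out
  haveI : Nontrivial C := by
    refine ⟨⟨0, 1, fun h => ?_⟩⟩
    have := congrArg (algebraMap C A) h
    rw [map_zero, map_one] at this
    exact zero_ne_one this
  have h2 : IsUnit (2 : C) := by
    obtain ⟨k, hk⟩ := hrP.eq_two_or_odd'.resolve_left hr2
    refine IsUnit.of_mul_eq_one ((k : C) + 1) ?_
    have : ((2 * k + 1 : ℕ) : C) = 0 := by rw [← hk]; exact hrC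
    push_cast at this
    linear_combination this
  obtain ⟨𝔪, h𝔪⟩ := Ideal.exists_maximal C
  haveI := h𝔪
  let E := C ⧸ 𝔪
  letI : Field E := Ideal.Quotient.field 𝔪
  haveI : Finite E := by
    exact Finite.of_surjective (Ideal.Quotient.mk 𝔪) Ideal.Quotient.mk_surjective
  haveI : Fintype E := Fintype.ofFinite E
  have hrE : (r : E) = 0 := by
    have := congrArg (Ideal.Quotient.mk 𝔪) hrC
    rwa [map_natCast, map_zero] at this
  haveI hch : CharP E r := charP_of_prime_cast_zero r hrP hrE
  have hrc : ringChar E = r := ringChar.eq E r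
  obtain ⟨a, b, hab⟩ := exists_sq_add_sq (E := E) (by rw [hrc]; exact hr2) (algebraMap C E γ)
  have hinj := qlift_injective γ I J hI hJ hIJ hfaith h2 hγ
  choose qf hq1 hq2 using hmem
  have hmul : ∀ g h, qf (g * h) = qf g * qf h := by
    intro g h
    apply hinj
    rw [map_mul, hq2, hq2, hq2, map_mul]
  have hone : qf 1 = 1 := by
    apply hinj
    rw [hq2, map_one, map_one]
  let φ : X →* Matrix.SpecialLinearGroup (Fin 2) E :=
    { toFun := fun g => ⟨mlift γ a b hab (qf g), by rw [det_mlift, hq1, map_one]⟩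
      map_one' := by
        apply Subtype.ext
        simp only [hone, map_one, Matrix.SpecialLinearGroup.coe_one]
      map_mul' := by
        intro g h
        apply Subtype.ext
        simp only [hmul, map_mul]
        rfl }
  refine ⟨E, inferInstance, inferInstance, hch, φ, ?_, ?_⟩
  · rw [injective_iff_map_eq_one]
    intro g hg
    by_contra hne
    have h1 : IsUnit (ρ g - 1) := hfree g hne
    have h3 : ρ g - 1 = qlift γ I J hI hJ hIJ (qf g - 1) := by rw [map_sub, hq2, map_one]
    rw [h3] at h1
    have h4 := isUnit_nsq γ I J hI hJ hIJ hfaith h2 hγ _ h1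
    have h5 : (mlift γ a b hab (qf g - 1)).det = 0 := by
      have : mlift γ a b hab (qf g) = 1 := congrArg Subtype.val hg
      rw [map_sub, this, map_one, sub_self, Matrix.det_zero]
    rw [det_mlift] at h5
    have h6 : IsUnit (algebraMap C E (nsq γ (qf g - 1))) := h4.map _
    rw [h5] at h6
    exact not_isUnit_zero h6
  · intro g hg
    have : qf g = -1 := by
      apply hinj
      rw [hq2, hg, map_neg, map_one]
    apply Subtype.ext
    show mlift γ a b hab (qf g) = _
    rw [this, map_neg, map_one]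
    simp

end Cfsg.Agent.Lib.helper6.ZP
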