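import Mathlib
import Cfsg.Agent.Lib.helper6.DicksonMain
import Cfsg.Agent.Lib.helper6.PSL2Index
import Cfsg.Agent.Lib.helper3.DicksonConcB
import Cfsg.Agent.Lib.helper3.DicksonAsm

set_option autoImplicit false

namespace Cfsg.Agent.Lib.helper6.ZP

open MulAction Cfsg.Agent.Lib.helper6.Dickson Cfsg.Agent.Lib.helper6.PSL2Index

universe u

/-- Dickson's theorem in the coprime case -/
theorem dickson_coprime {H X : Type*} [Group H] [Finite H] [MulAction H X] {p : ℕ}
    [Fact p.Prime] (D : DAct H X p) (hp : ¬ p ∣ Nat.card H) :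
    IsCyclic H ∨ (∃ n : ℕ, Nonempty (H ≃* DihedralGroup n)) ∨
    Nonempty (H ≃* alternatingGroup (Fin 4)) ∨ Nonempty (H ≃* Equiv.Perm (Fin 4)) ∨
    Nonempty (H ≃* alternatingGroup (Fin 5)) := by
  classical
  have hpP : p.Prime := Fact.out
  rcases dickson_abstract D with h | h | h | h | h | h | h
  · exact Or.inl h.1
  · obtain ⟨s₀, h1, -⟩ := h
    exact Or.inr (Or.inl ⟨_, h1⟩)
  · exfalso
    obtain ⟨r', -, hQ⟩ := h
    obtain ⟨h, hh, hne⟩ : ∃ h ∈ D.Q r', h ≠ 1 := by
      by_contra hcon
      push Not at hcon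
      exact hQ ((Subgroup.eq_bot_iff_forall _).mpr hcon)
    rcases hh with hh | hh
    · exact hne hh
    · have h1 := D.par_pow r' h hh
      have h2 : orderOf h = p := orderOf_eq_prime h1 hne
      apply hp
      rw [← h2]
      exact orderOf_dvd_natCard h
  · exact Or.inr (Or.inr (Or.inl h))
  · exact Or.inr (Or.inr (Or.inr (Or.inl h)))
  · exact Or.inr (Or.inr (Or.inr (Or.inr h)))
  · exfalso
    obtain ⟨K, instK, instKf, a, h, hK, hrest⟩ := h
    have ha1 : 1 ≤ a := by
      rcases Nat.eq_zero_or_pos a with h0 | h0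
      · exfalso
        rw [h0, pow_zero] at hK
        have := Fintype.one_lt_card (α := K)
        omega
      · exact h0
    have hpq : p ∣ Fintype.card K := by rw [hK]; exact dvd_pow_self p (by omega)
    have hq1 : 1 ≤ Fintype.card K := Fintype.card_pos
    rcases hrest with ⟨⟨eM⟩, -⟩ | ⟨⟨eM⟩, -⟩
    · have h1 := card_PSL2_mul (F := K)
      rw [← Nat.card_congr eM.toEquiv] at h1
      have h2 : p ∣ Nat.card H * Nat.gcd 2 (Fintype.card K - 1) := by
        rw [h1]; exact Dvd.dvd.mul_right hpq _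
      rcases (Nat.Prime.dvd_mul hpP).mp h2 with h3 | h3
      · exact hp h3
      · have h4 : p ∣ Fintype.card K - 1 := dvd_trans h3 (Nat.gcd_dvd_right _ _)
        have h5 : p ∣ 1 := by
          have := Nat.dvd_sub hpq h4
          rwa [Nat.sub_sub_self hq1] at this
        exact hpP.one_lt.ne' (Nat.dvd_one.mp h5)
    · have h1 := card_PGL2 (F := K)
      rw [← Nat.card_congr eM.toEquiv] at h1
      apply hp
      rw [h1]
      exact Dvd.dvd.mul_right hpq _

/-- finite subgroups of `SL₂(E)` of order prime to the characteristic, modulo `±1` -/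
theorem sl2_coprime {E : Type u} [Field E] [Fintype E] (r : ℕ) [Fact r.Prime] [CharP E r]
    {X : Type*} [Group X] [Finite X] (φ : X →* Matrix.SpecialLinearGroup (Fin 2) E)
    (hr : ¬ r ∣ Nat.card X) :
    ∃ (H : Type u) (_ : Group H) (π : X →* H), Function.Surjective π ∧
      (∀ g, π g = 1 ↔ (φ g = 1 ∨ φ g = -1)) ∧
      (IsCyclic H ∨ (∃ n : ℕ, Nonempty (H ≃* DihedralGroup n)) ∨
        Nonempty (H ≃* alternatingGroup (Fin 4)) ∨ Nonempty (H ≃* Equiv.Perm (Fin 4)) ∨
        Nonempty (H ≃* alternatingGroup (Fin 5))) := by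
  classical
  obtain ⟨Y, instY, D⟩ := Cfsg.Agent.Lib.helper3.psl2_dact (F := E) r
  let π₀ : X →* Matrix.ProjectiveSpecialLinearGroup (Fin 2) E :=
    (QuotientGroup.mk' (Subgroup.center (Matrix.SpecialLinearGroup (Fin 2) E))).comp φ
  refine ⟨π₀.range, inferInstance, π₀.rangeRestrict, π₀.rangeRestrict_surjective, ?_, ?_⟩
  · intro g
    have h1 : π₀.rangeRestrict g = 1 ↔ π₀ g = 1 := by
      rw [← MonoidHom.mem_ker, MonoidHom.ker_rangeRestrict, MonoidHom.mem_ker]
    rw [h1]
    show (QuotientGroup.mk' (Subgroup.center (Matrix.SpecialLinearGroup (Fin 2) E))) (φ g) = 1 ↔ _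
    rw [← MonoidHom.mem_ker, QuotientGroup.ker_mk', Matrix.SpecialLinearGroup.mem_center_iff]
    constructor
    · rintro ⟨c, hc, hcg⟩
      have hc2 : c ^ 2 = 1 := by simpa using hc
      have hc3 : (c - 1) * (c + 1) = 0 := by linear_combination hc2
      rcases mul_eq_zero.mp hc3 with h | h
      · left
        apply Subtype.ext
        rw [← hcg, sub_eq_zero.mp h]
        simp
      · right
        apply Subtype.ext
        rw [← hcg, eq_neg_of_add_eq_zero_left h]
        ext i j
        fin_cases i <;> fin_cases j <;> simp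
    · rintro (h | h)
      · exact ⟨1, by simp, by rw [h]; simp⟩
      · refine ⟨-1, by simp, ?_⟩
        rw [h]
        ext i j
        fin_cases i <;> fin_cases j <;> simp
  · apply dickson_coprime (Cfsg.Agent.Lib.helper3.dk_restrict D π₀.range)
    intro hdiv
    apply hr
    refine dvd_trans hdiv ?_
    have := Subgroup.card_range_dvd π₀
    exact this

end Cfsg.Agent.Lib.helper6.ZP
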