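import Mathlib
import Cfsg.Agent.Lib.helper6.ZPb3
import Cfsg.Agent.Lib.helper6.ZPc

set_option autoImplicit false

namespace Cfsg.Agent.Lib.helper6.ZP

open Quaternion

universe u v w

/-- the five possible shapes of a coprime subgroup of `PSL₂` -/
def FiveCases (H : Type u) [Group H] : Prop :=
  IsCyclic H ∨ (∃ n : ℕ, Nonempty (H ≃* DihedralGroup n)) ∨
    Nonempty (H ≃* alternatingGroup (Fin 4)) ∨ Nonempty (H ≃* Equiv.Perm (Fin 4)) ∨
    Nonempty (H ≃* alternatingGroup (Fin 5))

/-- membership in the quaternion ring over `C` propagates to the closure -/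
theorem hmem_closure {C : Type u} [CommRing C] {A : Type v} [Ring A] [Algebra C A]
    (γ : C) (I J : A) (hI : I * I = -1) (hJ : J * J = algebraMap C A γ) (hIJ : J * I = -(I * J))
    {G₀ : Type w} [Group G₀] (ρ : G₀ →* A) (S : Set G₀)
    (hmem : ∀ g ∈ S, ∃ q : HQ C γ, nsq γ q = 1 ∧ qlift γ I J hI hJ hIJ q = ρ g) :
    ∀ g ∈ Subgroup.closure S, ∃ q : HQ C γ, nsq γ q = 1 ∧ qlift γ I J hI hJ hIJ q = ρ g := by
  intro g hg
  induction hg using Subgroup.closure_induction with
  | mem x hx => exact hmem x hx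
  | one => exact ⟨1, nsq_one γ, by rw [map_one, map_one]⟩
  | mul x y _ _ hx hy =>
    obtain ⟨p, hp1, hp2⟩ := hx
    obtain ⟨q, hq1, hq2⟩ := hy
    exact ⟨p * q, by rw [nsq_mul, hp1, hq1, one_mul], by rw [map_mul, map_mul, hp2, hq2]⟩
  | inv x _ hx =>
    obtain ⟨p, hp1, hp2⟩ := hx
    refine ⟨star p, ?_, ?_⟩
    · simp only [nsq] at hp1 ⊢
      simpa using hp1
    · have h1 : qlift γ I J hI hJ hIJ (star p) * ρ x = 1 := by
        rw [← hp2, ← map_mul, star_mul_eq, hp1]
        have : (⟨1, 0, 0, 0⟩ : HQ C γ) = 1 := rfl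
        rw [this, map_one]
      have h2 : ρ x * ρ x⁻¹ = 1 := by rw [← map_mul, mul_inv_cancel, map_one]
      calc qlift γ I J hI hJ hIJ (star p) = qlift γ I J hI hJ hIJ (star p) * (ρ x * ρ x⁻¹) := by
            rw [h2, mul_one]
        _ = ρ x⁻¹ := by rw [← mul_assoc, h1, one_mul]

/-- a finite group of norm one units of a quaternion ring over a finite commutative ring acting
freely, modulo `±1`, is one of five shapes -/
theorem qgroup {C : Type u} [CommRing C] [Finite C] {A : Type v} [Ring A] [Algebra C A]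
    [Nontrivial A] (γ : C) (hγ : IsUnit γ)
    (r : ℕ) [Fact r.Prime] (hr2 : r ≠ 2) (hrC : (r : C) = 0)
    (hfaith : Function.Injective (algebraMap C A))
    (I J : A) (hI : I * I = -1) (hJ : J * J = algebraMap C A γ) (hIJ : J * I = -(I * J))
    {X : Type w} [Group X] [Finite X] (ρ : X →* A)
    (hfree : ∀ g : X, g ≠ 1 → IsUnit (ρ g - 1))
    (hmem : ∀ g : X, ∃ q : HQ C γ, nsq γ q = 1 ∧ qlift γ I J hI hJ hIJ q = ρ g)
    (z : X) (hz : ρ z = -1) :
    ∃ (H : Type u) (_ : Group H) (π : X →* H), Function.Surjective π ∧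
      (∀ g, π g = 1 ↔ (g = 1 ∨ g = z)) ∧ FiveCases H := by
  classical
  have hrP : r.Prime := Fact.out
  obtain ⟨E, instE, instEf, instEc, φ, hφ, hφz⟩ :=
    embed γ hγ r hr2 hrC hfaith I J hI hJ hIJ ρ hfree hmem
  have hrX : ¬ r ∣ Nat.card X := by
    intro hdiv
    obtain ⟨g, hg⟩ := exists_prime_orderOf_dvd_card' r hdiv
    have hg1 : g ≠ 1 := by
      intro h
      rw [h, orderOf_one] at hg
      exact hrP.one_lt.ne hg
    have hu := hfree g hg1
    have hrA : (r : A) = 0 := by
      have := congrArg (algebraMap C A) hrC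
      rwa [map_natCast, map_zero] at this
    haveI : CharP A r := charP_of_prime_cast_zero r hrP hrA
    have h1 : (ρ g - 1) ^ r = 0 := by
      rw [sub_pow_char_of_commute r (Commute.one_right (ρ g)), one_pow, ← map_pow, ← hg,
        pow_orderOf_eq_one, map_one, sub_self]
    have h2 : IsUnit ((ρ g - 1) ^ r) := hu.pow r
    rw [h1] at h2
    exact not_isUnit_zero h2
  obtain ⟨H, instH, π, hπs, hπk, hfive⟩ := sl2_coprime r φ hrX
  refine ⟨H, instH, π, hπs, ?_, hfive⟩
  intro g
  rw [hπk]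
  have hz' := hφz z hz
  constructor
  · rintro (h | h)
    · left
      apply hφ
      rw [h, map_one]
    · right
      apply hφ
      rw [h, hz']
  · rintro (h | h)
    · left; rw [h, map_one]
    · right; rw [h, hz']

end Cfsg.Agent.Lib.helper6.ZP
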