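import Mathlib
import Cfsg.Agent.Lib.helper6.ZPc2

set_option autoImplicit false

namespace Cfsg.Agent.Lib.helper6.ZP

open Quaternion

universe u v w

set_option linter.deprecated false

section adapter

variable {F : Type*} [Field F] {B : Type u} [Ring B] [Algebra F B]

/-- inverses of units in a centralizer are in the centralizer -/
theorem isUnit_centralizer (cs : Set B) (x : Subalgebra.centralizer F cs) (hx : IsUnit (x : B)) :
    IsUnit x := by
  obtain ⟨u, hu⟩ := hx
  have hmem : ((u⁻¹ : Bˣ) : B) ∈ Subalgebra.centralizer F cs := by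
    rw [Subalgebra.mem_centralizer_iff]
    intro c hc
    have h1 : c * (x : B) = (x : B) * c := (Subalgebra.mem_centralizer_iff F).mp x.2 c hc
    rw [← hu] at h1
    calc c * ((u⁻¹ : Bˣ) : B) = ((u⁻¹ : Bˣ) : B) * ((u : B) * c) * ((u⁻¹ : Bˣ) : B) := by
          rw [← mul_assoc, Units.inv_mul, one_mul]
      _ = ((u⁻¹ : Bˣ) : B) * (c * (u : B)) * ((u⁻¹ : Bˣ) : B) := by rw [h1]
      _ = ((u⁻¹ : Bˣ) : B) * c := by
          rw [mul_assoc, mul_assoc, Units.mul_inv, mul_one]
  refine ⟨⟨x, ⟨_, hmem⟩, ?_, ?_⟩, rfl⟩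
  · apply Subtype.ext
    show (x : B) * ((u⁻¹ : Bˣ) : B) = 1
    rw [← hu, Units.mul_inv]
  · apply Subtype.ext
    show ((u⁻¹ : Bˣ) : B) * (x : B) = 1
    rw [← hu, Units.inv_mul]

/-- the algebra structure of the centralizer over a commutative subalgebra -/
@[reducible] def centAlg (cs : Set B) (hcs : ∀ a ∈ cs, ∀ b ∈ cs, a * b = b * a) :
    letI : CommRing (Algebra.adjoin F cs) := Algebra.adjoinCommRingOfComm F hcs
    Algebra (Algebra.adjoin F cs) (Subalgebra.centralizer F cs) :=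
  letI : CommRing (Algebra.adjoin F cs) := Algebra.adjoinCommRingOfComm F hcs
  have hle : Algebra.adjoin F cs ≤ Subalgebra.centralizer F cs :=
    Algebra.adjoin_le (fun a ha => (Subalgebra.mem_centralizer_iff F).mpr (fun b hb => hcs b hb a ha))
  RingHom.toAlgebra' (Subalgebra.inclusion hle).toRingHom (by
    intro c x
    apply Subtype.ext
    show (c : B) * (x : B) = (x : B) * (c : B)
    have h1 := Algebra.adjoin_le_centralizer_centralizer F cs c.2
    exact ((Subalgebra.mem_centralizer_iff F).mp h1 x x.2).symm)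

end adapter

section main

variable {r : ℕ} [Fact r.Prime] {B : Type u} [Ring B] [Algebra (ZMod r) B] [Finite B]
  [Nontrivial B]

set_option maxHeartbeats 1000000 in
/-- concrete form of `qgroup`: everything takes place inside a finite `ZMod r`-algebra `B`,
with coefficients in the subalgebra generated by a commuting family `cs` centralizing `I`, `J` -/
theorem qgroup_concrete (hr2 : r ≠ 2)
    (cs : Set B) (hcs : ∀ a ∈ cs, ∀ b ∈ cs, a * b = b * a)
    (γ : B) (hγm : γ ∈ Algebra.adjoin (ZMod r) cs) (hγu : IsUnit γ)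
    (I J : B) (hI : I * I = -1) (hJ : J * J = γ) (hIJ : J * I = -(I * J))
    (hIc : ∀ c ∈ cs, c * I = I * c) (hJc : ∀ c ∈ cs, c * J = J * c)
    {G₀ : Type w} [Group G₀] (ρ : G₀ →* B) (S : Set G₀) [Finite (Subgroup.closure S)]
    (hfree : ∀ g ∈ Subgroup.closure S, g ≠ 1 → IsUnit (ρ g - 1))
    (hmem : ∀ g ∈ S, ∃ c0 c1 c2 c3 : B, c0 ∈ Algebra.adjoin (ZMod r) cs ∧
      c1 ∈ Algebra.adjoin (ZMod r) cs ∧ c2 ∈ Algebra.adjoin (ZMod r) cs ∧
      c3 ∈ Algebra.adjoin (ZMod r) cs ∧ ρ g = c0 + c1 * I + c2 * J + c3 * (I * J) ∧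
      c0 ^ 2 + c1 ^ 2 - γ * c2 ^ 2 - γ * c3 ^ 2 = 1)
    (z : G₀) (hzS : z ∈ Subgroup.closure S) (hz : ρ z = -1) :
    ∃ (H : Type u) (_ : Group H) (π : Subgroup.closure S →* H), Function.Surjective π ∧
      (∀ g, π g = 1 ↔ (g = 1 ∨ (g : G₀) = z)) ∧ FiveCases H := by
  classical
  letI instC : CommRing (Algebra.adjoin (ZMod r) cs) := Algebra.adjoinCommRingOfComm (ZMod r) hcs
  letI instAlg : Algebra (Algebra.adjoin (ZMod r) cs) (Subalgebra.centralizer (ZMod r) cs) :=
    centAlg cs hcs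
  have hle : Algebra.adjoin (ZMod r) cs ≤ Subalgebra.centralizer (ZMod r) cs :=
    Algebra.adjoin_le (fun a ha => (Subalgebra.mem_centralizer_iff (ZMod r)).mpr
      (fun b hb => hcs b hb a ha))
  have halg : ∀ c : Algebra.adjoin (ZMod r) cs,
      ((algebraMap (Algebra.adjoin (ZMod r) cs) (Subalgebra.centralizer (ZMod r) cs) c :
        Subalgebra.centralizer (ZMod r) cs) : B) = (c : B) := fun c => rfl
  have hIm : I ∈ Subalgebra.centralizer (ZMod r) cs :=
    (Subalgebra.mem_centralizer_iff (ZMod r)).mpr hIc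
  have hJm : J ∈ Subalgebra.centralizer (ZMod r) cs :=
    (Subalgebra.mem_centralizer_iff (ZMod r)).mpr hJc
  -- images lie in the centralizer
  have hρS : ∀ g ∈ S, ρ g ∈ Subalgebra.centralizer (ZMod r) cs := by
    intro g hg
    obtain ⟨c0, c1, c2, c3, h0, h1, h2, h3, hg', -⟩ := hmem g hg
    rw [hg']
    exact Subalgebra.add_mem _ (Subalgebra.add_mem _ (Subalgebra.add_mem _ (hle h0)
      (Subalgebra.mul_mem _ (hle h1) hIm)) (Subalgebra.mul_mem _ (hle h2) hJm))
      (Subalgebra.mul_mem _ (hle h3) (Subalgebra.mul_mem _ hIm hJm))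
  have hρ : ∀ g ∈ Subgroup.closure S, ρ g ∈ Subalgebra.centralizer (ZMod r) cs := by
    intro g hg
    induction hg using Subgroup.closure_induction with
    | mem x hx => exact hρS x hx
    | one => rw [map_one]; exact Subalgebra.one_mem _
    | mul x y _ _ hx hy => rw [map_mul]; exact Subalgebra.mul_mem _ hx hy
    | inv x _ hx =>
      have hu : IsUnit (⟨ρ x, hx⟩ : Subalgebra.centralizer (ZMod r) cs) := by
        apply isUnit_centralizer
        exact ⟨⟨ρ x, ρ x⁻¹, by rw [← map_mul, mul_inv_cancel, map_one],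
          by rw [← map_mul, inv_mul_cancel, map_one]⟩, rfl⟩
      obtain ⟨u, hu⟩ := hu
      have h1 : ((u⁻¹ : (Subalgebra.centralizer (ZMod r) cs)ˣ) :
          Subalgebra.centralizer (ZMod r) cs).1 = ρ x⁻¹ := by
        have h2 : ρ x * ((u⁻¹ : (Subalgebra.centralizer (ZMod r) cs)ˣ) :
          Subalgebra.centralizer (ZMod r) cs).1 = 1 := by
          have := congrArg Subtype.val (Units.mul_inv u)
          rw [hu] at this
          exact this
        calc ((u⁻¹ : (Subalgebra.centralizer (ZMod r) cs)ˣ) :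
              Subalgebra.centralizer (ZMod r) cs).1
            = (ρ x⁻¹ * ρ x) * ((u⁻¹ : (Subalgebra.centralizer (ZMod r) cs)ˣ) :
              Subalgebra.centralizer (ZMod r) cs).1 := by
              rw [← map_mul, inv_mul_cancel, map_one, one_mul]
          _ = ρ x⁻¹ := by rw [mul_assoc, h2, mul_one]
      rw [← h1]
      exact Subtype.property _
  let ρ' : Subgroup.closure S →* Subalgebra.centralizer (ZMod r) cs :=
    MonoidHom.codRestrict (ρ.comp (Subgroup.closure S).subtype) (Subalgebra.centralizer (ZMod r) cs)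
      (fun g => hρ g.1 g.2)
  have hρ' : ∀ g, ((ρ' g : Subalgebra.centralizer (ZMod r) cs) : B) = ρ g.1 := fun g => rfl
  haveI : Nontrivial (Subalgebra.centralizer (ZMod r) cs) :=
    ⟨⟨0, 1, fun h => zero_ne_one (congrArg Subtype.val h)⟩⟩
  have hrP : r.Prime := Fact.out
  have hrC : ((r : ℕ) : Algebra.adjoin (ZMod r) cs) = 0 := by
    apply Subtype.ext
    have : ((r : ℕ) : B) = 0 := by
      have := congrArg (algebraMap (ZMod r) B) (CharP.cast_eq_zero (ZMod r) r)
      rwa [map_natCast, map_zero] at this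
    simpa using this
  let γ' : Algebra.adjoin (ZMod r) cs := ⟨γ, hγm⟩
  have hγ' : IsUnit γ' := by
    rw [isUnit_iff_mem_nonZeroDivisors_of_finite, mem_nonZeroDivisors_iff_right]
    intro c hc
    have h1 : (c : B) * γ = 0 := congrArg Subtype.val hc
    apply Subtype.ext
    exact hγu.mul_left_eq_zero.mp h1
  have hfaith : Function.Injective (algebraMap (Algebra.adjoin (ZMod r) cs)
      (Subalgebra.centralizer (ZMod r) cs)) := by
    intro a b hab
    apply Subtype.ext
    rw [← halg a, ← halg b, hab]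
  let I' : Subalgebra.centralizer (ZMod r) cs := ⟨I, hIm⟩
  let J' : Subalgebra.centralizer (ZMod r) cs := ⟨J, hJm⟩
  have hI' : I' * I' = -1 := Subtype.ext hI
  have hJ' : J' * J' = algebraMap _ _ γ' := Subtype.ext hJ
  have hIJ' : J' * I' = -(I' * J') := Subtype.ext hIJ
  have hfree' : ∀ g : Subgroup.closure S, g ≠ 1 → IsUnit (ρ' g - 1) := by
    intro g hg
    apply isUnit_centralizer
    exact hfree g.1 g.2 (fun h => hg (Subtype.ext h))
  -- membership on generators
  have hmemS : ∀ g ∈ ((Subtype.val : Subgroup.closure S → G₀) ⁻¹' S : Set (Subgroup.closure S)),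
      ∃ q : HQ (Algebra.adjoin (ZMod r) cs) γ', nsq γ' q = 1 ∧ qlift γ' I' J' hI' hJ' hIJ' q = ρ' g := by
    intro g hg
    obtain ⟨c0, c1, c2, c3, h0, h1, h2, h3, hg', hn⟩ := hmem g.1 hg
    refine ⟨⟨⟨c0, h0⟩, ⟨c1, h1⟩, ⟨c2, h2⟩, ⟨c3, h3⟩⟩, ?_, ?_⟩
    · apply Subtype.ext
      simp only [nsq]
      exact hn
    · apply Subtype.ext
      rw [hρ', hg', qlift_apply]
      simp only [Algebra.smul_def]
      rfl
  have hmem' : ∀ g : Subgroup.closure S,
      ∃ q : HQ (Algebra.adjoin (ZMod r) cs) γ', nsq γ' q = 1 ∧ qlift γ' I' J' hI' hJ' hIJ' q = ρ' g := by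
    intro g
    apply hmem_closure γ' I' J' hI' hJ' hIJ' ρ' _ hmemS g
    rw [Subgroup.closure_closure_coe_preimage]
    exact Subgroup.mem_top g
  have hz' : ρ' ⟨z, hzS⟩ = -1 := Subtype.ext hz
  obtain ⟨H, instH, π, h1, h2, h3⟩ := qgroup γ' hγ' r hr2 hrC hfaith I' J' hI' hJ' hIJ' ρ' hfree' hmem'
    ⟨z, hzS⟩ hz'
  refine ⟨H, instH, π, h1, ?_, h3⟩
  intro g
  rw [h2]
  constructor
  · rintro (h | h)
    · left; exact h
    · right; rw [h]
  · rintro (h | h)
    · left; exact h
    · right; exact Subtype.ext h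

end main

end Cfsg.Agent.Lib.helper6.ZP
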