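import Mathlib
import Cfsg.Agent.Lib.helper6.ZPc2

set_option autoImplicit false

namespace Cfsg.Agent.Lib.helper6.ZP

universe u

theorem exp_A4 : ∀ h : alternatingGroup (Fin 4), h ^ 3 = 1 ∨ h ^ 4 = 1 ∨ h ^ 5 = 1 := by
  decide +kernel

theorem exp_S4 : ∀ h : Equiv.Perm (Fin 4), h ^ 3 = 1 ∨ h ^ 4 = 1 ∨ h ^ 5 = 1 := by
  decide +kernel

theorem exp_A5 : ∀ h : alternatingGroup (Fin 5), h ^ 3 = 1 ∨ h ^ 4 = 1 ∨ h ^ 5 = 1 := by
  decide +kernel

/-- the existence of a Klein four group with an element of order three permuting it -/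
def HasTypeA (H : Type*) [Group H] : Prop :=
  ∃ u v w : H, u ≠ 1 ∧ v ≠ 1 ∧ u ≠ v ∧ u ^ 2 = 1 ∧ v ^ 2 = 1 ∧ u * v = v * u ∧ w ^ 3 = 1 ∧
    w * u * w⁻¹ = v ∧ w * v * w⁻¹ = u * v

theorem typeA_A4 : HasTypeA (alternatingGroup (Fin 4)) := by
  unfold HasTypeA
  decide +kernel

theorem typeA_S4 : HasTypeA (Equiv.Perm (Fin 4)) := by
  unfold HasTypeA
  decide +kernel

theorem typeA_A5 : HasTypeA (alternatingGroup (Fin 5)) := by
  unfold HasTypeA
  decide +kernel

theorem HasTypeA.of_equiv {H K : Type*} [Group H] [Group K] (e : H ≃* K) (h : HasTypeA K) :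
    HasTypeA H := by
  obtain ⟨u, v, w, h1, h2, h3, h4, h5, h6, h7, h8, h9⟩ := h
  refine ⟨e.symm u, e.symm v, e.symm w, ?_, ?_, ?_, ?_, ?_, ?_, ?_, ?_, ?_⟩
  · simpa using h1
  · simpa using h2
  · simpa using h3
  · rw [← map_pow, h4, map_one]
  · rw [← map_pow, h5, map_one]
  · rw [← map_mul, ← map_mul, h6]
  · rw [← map_pow, h7, map_one]
  · rw [← map_inv, ← map_mul, ← map_mul, h8]
  · rw [← map_inv, ← map_mul, ← map_mul, ← map_mul, h9]

/-- the three non-cyclic non-dihedral cases -/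
def ThreeCases (H : Type u) [Group H] : Prop :=
  Nonempty (H ≃* alternatingGroup (Fin 4)) ∨ Nonempty (H ≃* Equiv.Perm (Fin 4)) ∨
    Nonempty (H ≃* alternatingGroup (Fin 5))

theorem ThreeCases.hasTypeA {H : Type u} [Group H] (h : ThreeCases H) : HasTypeA H := by
  rcases h with ⟨⟨e⟩⟩ | ⟨⟨e⟩⟩ | ⟨⟨e⟩⟩
  · exact typeA_A4.of_equiv e
  · exact typeA_S4.of_equiv e
  · exact typeA_A5.of_equiv e

theorem ThreeCases.exp {H : Type u} [Group H] (h : ThreeCases H) (x : H) :
    x ^ 3 = 1 ∨ x ^ 4 = 1 ∨ x ^ 5 = 1 := by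
  have key : ∀ {K : Type} [Group K] (e : H ≃* K),
      (∀ y : K, y ^ 3 = 1 ∨ y ^ 4 = 1 ∨ y ^ 5 = 1) → x ^ 3 = 1 ∨ x ^ 4 = 1 ∨ x ^ 5 = 1 := by
    intro K _ e hK
    rcases hK (e x) with h | h | h
    · left; apply e.injective; rw [map_pow, h, map_one]
    · right; left; apply e.injective; rw [map_pow, h, map_one]
    · right; right; apply e.injective; rw [map_pow, h, map_one]
  rcases h with ⟨⟨e⟩⟩ | ⟨⟨e⟩⟩ | ⟨⟨e⟩⟩
  · exact key e exp_A4
  · exact key e exp_S4
  · exact key e exp_A5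

theorem cyc_comm {G : Type*} [Group G] [IsCyclic G] (a b : G) : a * b = b * a := by
  obtain ⟨g, hg⟩ := IsCyclic.exists_generator (α := G)
  obtain ⟨i, rfl⟩ := Subgroup.mem_zpowers_iff.mp (hg a)
  obtain ⟨j, rfl⟩ := Subgroup.mem_zpowers_iff.mp (hg b)
  rw [← zpow_add, ← zpow_add, add_comm]

theorem cent_A4' : ∀ u x : alternatingGroup (Fin 4), u = 1 ∨ u ^ 2 ≠ 1 ∨ u * x ≠ x * u ∨
    x ^ 4 = 1 := by
  decide +kernel

theorem cent_A4 : ∀ u x : alternatingGroup (Fin 4), u ≠ 1 → u ^ 2 = 1 → u * x = x * u →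
    x ^ 4 = 1 := by
  intro u x h1 h2 h3
  rcases cent_A4' u x with h | h | h | h
  · exact absurd h h1
  · exact absurd h2 h
  · exact absurd h3 h
  · exact h

theorem cent_S4 : ∀ u x : Equiv.Perm (Fin 4), u ≠ 1 → u ^ 2 = 1 → u * x = x * u →
    x ^ 4 = 1 := by
  decide +kernel

theorem cent_A5' : ∀ u x : alternatingGroup (Fin 5), u = 1 ∨ u ^ 2 ≠ 1 ∨ u * x ≠ x * u ∨
    x ^ 4 = 1 := by
  decide +kernel

theorem cent_A5 : ∀ u x : alternatingGroup (Fin 5), u ≠ 1 → u ^ 2 = 1 → u * x = x * u →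
    x ^ 4 = 1 := by
  intro u x h1 h2 h3
  rcases cent_A5' u x with h | h | h | h
  · exact absurd h h1
  · exact absurd h2 h
  · exact absurd h3 h
  · exact h

/-- centralizers of involutions have exponent dividing four -/
theorem ThreeCases.cent_invol {H : Type u} [Group H] (h : ThreeCases H) (u x : H) (hu : u ≠ 1)
    (hu2 : u ^ 2 = 1) (hc : u * x = x * u) : x ^ 4 = 1 := by
  have key : ∀ {K : Type} [Group K] (e : H ≃* K),
      (∀ u x : K, u ≠ 1 → u ^ 2 = 1 → u * x = x * u → x ^ 4 = 1) → x ^ 4 = 1 := by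
    intro K _ e hK
    apply e.injective
    rw [map_pow, map_one]
    apply hK (e u) (e x)
    · intro h1
      apply hu
      apply e.injective
      rw [h1, map_one]
    · rw [← map_pow, hu2, map_one]
    · rw [← map_mul, ← map_mul, hc]
  rcases h with ⟨⟨e⟩⟩ | ⟨⟨e⟩⟩ | ⟨⟨e⟩⟩
  · exact key e cent_A4
  · exact key e cent_S4
  · exact key e cent_A5

/-- elements of order dividing three in a dihedral group are rotations -/
theorem dihedral_cube {n : ℕ} (w : DihedralGroup n) (hw : w ^ 3 = 1) : ∃ k, w = DihedralGroup.r k := by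
  rcases w with k | k
  · exact ⟨k, rfl⟩
  · exfalso
    have h1 : (DihedralGroup.sr k : DihedralGroup n) ^ 2 = 1 := by
      rw [sq, DihedralGroup.sr_mul_self]
    have h2 : (DihedralGroup.sr k : DihedralGroup n) = 1 := by
      calc (DihedralGroup.sr k : DihedralGroup n)
          = (DihedralGroup.sr k) ^ 3 * ((DihedralGroup.sr k) ^ 2)⁻¹ := by group
        _ = 1 := by rw [hw, h1]; simp
    rw [DihedralGroup.one_def] at h2
    cases h2

/-- criterion A: no Klein four group permuted nontrivially by an element of order three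
in a dihedral group -/
theorem dihedral_critA {n : ℕ} (u w : DihedralGroup n) (hw : w ^ 3 = 1)
    (hc : Commute u (w * u * w⁻¹)) : w * u * w⁻¹ = u := by
  obtain ⟨k, rfl⟩ := dihedral_cube w hw
  have h3 : (3 : ℕ) • k = 0 := by
    rw [DihedralGroup.r_pow, DihedralGroup.one_def] at hw
    have := DihedralGroup.r.inj hw
    simpa [mul_comm] using this
  rcases u with m | m
  · simp [DihedralGroup.r_mul_r]
  · have h4 : (DihedralGroup.r k : DihedralGroup n) * DihedralGroup.sr m * (DihedralGroup.r k)⁻¹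
        = DihedralGroup.sr (m - 2 • k) := by
      simp
      ring
    rw [h4] at hc ⊢
    have h5 := hc.eq
    simp only [DihedralGroup.sr_mul_sr] at h5
    have h6 := DihedralGroup.r.inj h5
    -- m - 2k - m = m - (m - 2k) → -2k = 2k → 4k = 0
    have h7 : (4 : ℕ) • k = 0 := by
      have : (m - 2 • k - m) - (m - (m - 2 • k)) = 0 := sub_eq_zero.mpr h6
      have e : (m - 2 • k - m) - (m - (m - 2 • k)) = - ((4 : ℕ) • k) := by
        simp only [nsmul_eq_mul]; push_cast; ring
      rw [e, neg_eq_zero] at this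
      exact this
    have h8 : k = 0 := by
      have : (4 : ℕ) • k - (3 : ℕ) • k = 0 := by rw [h7, h3, sub_zero]
      have e : (4 : ℕ) • k - (3 : ℕ) • k = k := by
        simp only [nsmul_eq_mul]; push_cast; ring
      rw [e] at this
      exact this
    rw [h8]
    simp

/-- criterion B: subgroups of order three are normal in a dihedral group -/
theorem dihedral_critB {n : ℕ} (x t : DihedralGroup n) (hx : x ^ 3 = 1) :
    t * x * t⁻¹ = x ∨ t * x * t⁻¹ = x⁻¹ := by
  obtain ⟨k, rfl⟩ := dihedral_cube x hx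
  rcases t with m | m
  · left
    simp [DihedralGroup.r_mul_r]
  · right
    simp

theorem FiveCases.critA {H : Type u} [Group H] (h : FiveCases H)
    (hex : ∃ u w : H, w ^ 3 = 1 ∧ Commute u (w * u * w⁻¹) ∧ w * u * w⁻¹ ≠ u) : ThreeCases H := by
  obtain ⟨u, w, hw, hc, hne⟩ := hex
  rcases h with h | ⟨n, ⟨e⟩⟩ | h
  · exfalso
    apply hne
    haveI := h
    have : w * u = u * w := (cyc_comm w u)
    rw [this, mul_inv_cancel_right]
  · exfalso
    apply hne
    apply e.injective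
    have h1 := dihedral_critA (e u) (e w) (by rw [← map_pow, hw, map_one])
      (by
        have := hc.map e
        simpa using this)
    simpa using h1
  · exact h

theorem FiveCases.critB {H : Type u} [Group H] (h : FiveCases H)
    (hex : ∃ x t : H, x ^ 3 = 1 ∧ t * x * t⁻¹ ≠ x ∧ t * x * t⁻¹ ≠ x⁻¹) : ThreeCases H := by
  obtain ⟨x, t, hx, hne1, hne2⟩ := hex
  rcases h with h | ⟨n, ⟨e⟩⟩ | h
  · exfalso
    apply hne1
    haveI := h
    have : t * x = x * t := (cyc_comm t x)
    rw [this, mul_inv_cancel_right]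
  · exfalso
    rcases dihedral_critB (e x) (e t) (by rw [← map_pow, hx, map_one]) with h1 | h1
    · apply hne1
      apply e.injective
      simpa using h1
    · apply hne2
      apply e.injective
      simpa using h1
  · exact h

end Cfsg.Agent.Lib.helper6.ZP
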