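import Mathlib
import Cfsg.Agent.Lib.helper6.ZPa3
import Cfsg.Agent.Lib.helper6.ZPc3
import Cfsg.Agent.Lib.helper6.ZPc4

set_option autoImplicit false

namespace Cfsg.Agent.Lib.helper6.ZP

open Finset

section klalg

variable {F : Type*} [Field F] {B : Type*} [Ring B] [Algebra F B]

theorem kl_algebra (h2 : (2 : F) ≠ 0) (Cc Cc' I J : B) (hCC' : Cc * Cc' = 1) (hC'C : Cc' * Cc = 1)
    (hCI : Cc * I = I * Cc) (hC'I : Cc' * I = I * Cc') (hI : I * I = -1)
    (hJI : J * I = -(I * J)) (hJC : J * Cc = Cc' * J) (hJC' : J * Cc' = Cc * J) :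
    ∃ c0 c1 : B, c0 * c1 = c1 * c0 ∧ c0 * I = I * c0 ∧ c1 * I = I * c1 ∧ c0 * J = J * c0 ∧
      c1 * J = J * c1 ∧ Cc = c0 + c1 * I ∧ c0 ^ 2 + c1 ^ 2 = 1 := by
  have hSI : (Cc + Cc') * I = I * (Cc + Cc') := by rw [add_mul, mul_add, hCI, hC'I]
  have hDI : (Cc - Cc') * I = I * (Cc - Cc') := by rw [sub_mul, mul_sub, hCI, hC'I]
  have hSD : (Cc + Cc') * (Cc - Cc') = (Cc - Cc') * (Cc + Cc') := by
    simp only [mul_add, add_mul, mul_sub, sub_mul]
    rw [hCC', hC'C]
    abel
  have hk : (2 : F)⁻¹ + (2 : F)⁻¹ = 1 := by field_simp; norm_num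
  refine ⟨(2 : F)⁻¹ • (Cc + Cc'), -((2 : F)⁻¹ • ((Cc - Cc') * I)), ?_, ?_, ?_, ?_, ?_, ?_, ?_⟩
  · simp only [mul_neg, neg_mul, smul_mul_assoc, mul_smul_comm, smul_neg]
    congr 3
    rw [← mul_assoc, hSD, mul_assoc, hSI, ← mul_assoc]
  · rw [smul_mul_assoc, mul_smul_comm, hSI]
  · rw [neg_mul, mul_neg, smul_mul_assoc, mul_smul_comm, ← mul_assoc I, ← hDI]
  · rw [smul_mul_assoc, mul_smul_comm]
    congr 1
    rw [add_mul, mul_add, hJC, hJC', add_comm]
  · rw [neg_mul, mul_neg, smul_mul_assoc, mul_smul_comm]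
    congr 2
    have e1 : J * (Cc * I) = -(Cc' * (I * J)) := by
      rw [← mul_assoc, hJC, mul_assoc, hJI, mul_neg]
    have e2 : J * (Cc' * I) = -(Cc * (I * J)) := by
      rw [← mul_assoc, hJC', mul_assoc, hJI, mul_neg]
    simp only [sub_mul, mul_sub, mul_assoc]
    rw [e1, e2]
    abel
  · rw [neg_mul, smul_mul_assoc, mul_assoc, hI]
    have : Cc = ((2 : F)⁻¹ + (2 : F)⁻¹) • Cc := by rw [hk, one_smul]
    rw [add_smul] at this
    rw [mul_neg, mul_one, smul_neg, neg_neg, smul_add, smul_sub]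
    nth_rewrite 1 [this]
    abel
  · have e1 : (Cc - Cc') * I * ((Cc - Cc') * I) = -((Cc - Cc') * (Cc - Cc')) := by
      generalize Cc - Cc' = D at hDI ⊢
      calc D * I * (D * I) = D * (I * D) * I := by simp only [mul_assoc]
        _ = D * (D * I) * I := by rw [← hDI]
        _ = D * D * (I * I) := by simp only [mul_assoc]
        _ = -(D * D) := by rw [hI]; simp
    rw [pow_two, pow_two, neg_mul_neg, smul_mul_smul_comm, smul_mul_smul_comm, e1, smul_neg,
      ← sub_eq_add_neg, ← smul_sub]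
    have e2 : (Cc + Cc') * (Cc + Cc') - (Cc - Cc') * (Cc - Cc') = (4 : F) • (1 : B) := by
      have : (Cc + Cc') * (Cc + Cc') - (Cc - Cc') * (Cc - Cc') =
          (2 : ℕ) • (Cc * Cc') + (2 : ℕ) • (Cc' * Cc) := by
        simp only [mul_add, add_mul, mul_sub, sub_mul]
        abel
      rw [this, hCC', hC'C]
      rw [← add_smul]
      norm_num
      rw [Algebra.smul_def, mul_one, map_ofNat]
    rw [e2, smul_smul]
    have : (2 : F)⁻¹ * (2 : F)⁻¹ * 4 = 1 := by field_simp; norm_num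
    rw [this, one_smul]

end klalg

section f3alg

variable {B : Type*} [Ring B]

theorem f3_algebra (A I J : B) (hI : I * I = -1) (hJ : J * J = -1) (hJI : J * I = -(I * J))
    (hAI : A * I = J * A) (hAA : A * A + A + 1 = 0) (hAIAI : A * I * (A * I) - A * I + 1 = 0) :
    A + A = -(1 + I + J + I * J) := by
  have hAA' : A * A = -A - 1 := by
    have h1 : A * A = A * A + A + 1 - A - 1 := by abel
    rw [h1, hAA]; abel
  have s1 : A * I * (A * I) = A + I * J := by
    calc A * I * (A * I) = J * A * (A * I) := by rw [hAI]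
      _ = J * (A * A) * I := by simp only [mul_assoc]
      _ = J * (-A - 1) * I := by rw [hAA']
      _ = -(J * (A * I)) - J * I := by
          simp only [mul_sub, sub_mul, mul_neg, neg_mul, mul_one, mul_assoc]
      _ = -(J * (J * A)) - J * I := by rw [hAI]
      _ = -((J * J) * A) - J * I := by rw [mul_assoc]
      _ = A + I * J := by rw [hJ, hJI]; simp
  rw [s1] at hAIAI
  have s2 : (A + I * J - A * I + 1) * (1 + I) = A + A + (1 + I + J + I * J) := by
    have e1 : A * I * I = -A := by rw [mul_assoc, hI]; simp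
    have e2 : I * J * I = J := by
      rw [mul_assoc, hJI, mul_neg, ← mul_assoc, hI]; simp
    simp only [mul_add, add_mul, sub_mul, mul_one, one_mul]
    rw [e1, e2]
    abel
  rw [hAIAI, zero_mul] at s2
  exact eq_neg_of_add_eq_zero_left s2.symm

end f3alg

/-- a quaternion group `⟨i, j⟩` with an element `a` of order three permuting `i, j, ij` -/
structure TypeA {G : Type*} [Group G] (z i j a : G) : Prop where
  hz1 : z ≠ 1
  hz2 : z ^ 2 = 1
  hzc : ∀ x : G, x * z = z * x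
  hi : i * i = z
  ha : a ^ 3 = 1
  hai : a * i * a⁻¹ = j
  haj : a * j * a⁻¹ = i * j
  hji : j * i = z * (i * j)

namespace TypeA

variable {G : Type*} [Group G] {z i j a : G}

theorem hj (h : TypeA z i j a) : j * j = z := by
  rw [← h.hai]
  calc a * i * a⁻¹ * (a * i * a⁻¹) = a * (i * i) * a⁻¹ := by group
    _ = z := by rw [h.hi, h.hzc a, mul_inv_cancel_right]

theorem zz (h : TypeA z i j a) : z * z = 1 := by rw [← pow_two, h.hz2]

theorem a_ij (h : TypeA z i j a) : a * (i * j) * a⁻¹ = j * (i * j) := by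
  calc a * (i * j) * a⁻¹ = (a * i * a⁻¹) * (a * j * a⁻¹) := by group
    _ = j * (i * j) := by rw [h.hai, h.haj]

theorem ai_cube (h : TypeA z i j a) : (a * i) ^ 3 = z := by
  have e1 : (a * i) ^ 3 = (a * i * a⁻¹) * (a * (a * i * a⁻¹) * a⁻¹) *
      (a * (a * (a * i * a⁻¹) * a⁻¹) * a⁻¹) * a ^ 3 := by
    rw [pow_succ, pow_succ, pow_one, pow_succ, pow_succ, pow_one]; group
  rw [e1, h.hai, h.haj, h.a_ij, h.ha, mul_one]
  -- j * (i * j) * (j * (i * j)) = z
  calc j * (i * j) * (j * (i * j)) = j * i * (j * j) * (i * j) := by group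
    _ = j * i * z * (i * j) := by rw [h.hj]
    _ = z * (j * (i * i) * j) := by
        rw [h.hzc (j * i)]; group
    _ = z * (j * z * j) := by rw [h.hi]
    _ = z * (z * (j * j)) := by rw [h.hzc j]; group
    _ = z * (z * z) := by rw [h.hj]
    _ = z := by rw [h.zz, mul_one]

theorem i_ne_j (h : TypeA z i j a) : i ≠ j := by
  intro hij
  have h1 := h.hji
  rw [← hij] at h1
  have : z = 1 := by
    have h2 : i * i = z * (i * i) := h1
    have := mul_right_cancel (b := i * i) (a := 1) (c := z) (by rw [one_mul]; exact h2)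
    exact this.symm
  exact h.hz1 this

theorem a_ne_one (h : TypeA z i j a) : a ≠ 1 := by
  intro ha
  apply h.i_ne_j
  have := h.hai
  rw [ha] at this
  simpa using this

end TypeA

section rep

variable {r : ℕ} [hr : Fact r.Prime] {V : Type*} [AddCommGroup V] [Module (ZMod r) V] [Finite V]
  [Nontrivial V]
variable {G : Type*} [Group G] {ρ : G →* Module.End (ZMod r) V} {z i j a : G}

namespace TypeA

theorem rho_z (h : TypeA z i j a) (hf : FPF ρ) : ρ z = -1 := hf.eq_neg_one h.hz1 h.hz2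

theorem rho_II (h : TypeA z i j a) (hf : FPF ρ) : ρ i * ρ i = -1 := by
  rw [← map_mul, h.hi, h.rho_z hf]

theorem rho_JJ (h : TypeA z i j a) (hf : FPF ρ) : ρ j * ρ j = -1 := by
  rw [← map_mul, h.hj, h.rho_z hf]

theorem rho_JI (h : TypeA z i j a) (hf : FPF ρ) : ρ j * ρ i = -(ρ i * ρ j) := by
  rw [← map_mul, h.hji, map_mul, h.rho_z hf, map_mul]
  simp

theorem rho_AI (h : TypeA z i j a) : ρ a * ρ i = ρ j * ρ a := by
  rw [← map_mul, ← map_mul]
  congr 1
  rw [← h.hai]
  group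

theorem rho_AA (h : TypeA z i j a) (hf : FPF ρ) : ρ a * ρ a + ρ a + 1 = 0 := by
  have := hf.geom_sum_eq_zero h.a_ne_one h.ha
  rw [sum_range_succ, sum_range_succ, sum_range_one, pow_zero, pow_one, pow_two] at this
  rw [← this]
  abel

theorem rho_AIAI (h : TypeA z i j a) (hf : FPF ρ) :
    ρ a * ρ i * (ρ a * ρ i) - ρ a * ρ i + 1 = 0 := by
  have h1 : z * (a * i) ≠ 1 := by
    intro hc
    apply h.i_ne_j
    have e1 : a = z⁻¹ * i⁻¹ := by
      have : a * i = z⁻¹ := by
        have := congrArg (fun t => z⁻¹ * t) hc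
        simpa using this
      rw [← this]; group
    have e2 := h.hai
    rw [e1] at e2
    rw [← e2]
    have hzi : z⁻¹ * i⁻¹ * i * (z⁻¹ * i⁻¹)⁻¹ = z⁻¹ * i * z := by group
    rw [hzi, mul_assoc, h.hzc i, ← mul_assoc, inv_mul_cancel, one_mul]
  have h2 : (z * (a * i)) ^ 3 = 1 := by
    have hc : Commute z (a * i) := (h.hzc (a * i)).symm
    rw [hc.mul_pow, h.ai_cube]
    calc z ^ 3 * z = (z ^ 2) ^ 2 := by group
      _ = 1 := by rw [h.hz2, one_pow]
  have := hf.geom_sum_eq_zero h1 h2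
  rw [sum_range_succ, sum_range_succ, sum_range_one, pow_zero, pow_one, pow_two, map_mul,
    h.rho_z hf, map_mul] at this
  rw [← this]
  simp only [neg_mul, one_mul, mul_neg, neg_neg]
  abel

/-- the element of order three is forced -/
theorem rho_a_two (h : TypeA z i j a) (hf : FPF ρ) :
    ρ a + ρ a = -(1 + ρ i + ρ j + ρ i * ρ j) :=
  f3_algebra (ρ a) (ρ i) (ρ j) (h.rho_II hf) (h.rho_JJ hf) (h.rho_JI hf) h.rho_AI (h.rho_AA hf)
    (h.rho_AIAI hf)

theorem two_ne (h : TypeA z i j a) (hf : FPF ρ) : (2 : ZMod r) ≠ 0 := hf.two_ne_zero h.hz1 h.hz2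

theorem rho_a (h : TypeA z i j a) (hf : FPF ρ) :
    ρ a = algebraMap (ZMod r) (Module.End (ZMod r) V) (-(2 : ZMod r)⁻¹) +
      algebraMap (ZMod r) (Module.End (ZMod r) V) (-(2 : ZMod r)⁻¹) * ρ i +
      algebraMap (ZMod r) (Module.End (ZMod r) V) (-(2 : ZMod r)⁻¹) * ρ j +
      algebraMap (ZMod r) (Module.End (ZMod r) V) (-(2 : ZMod r)⁻¹) * (ρ i * ρ j) := by
  have h2 := h.two_ne hf
  have h3 := h.rho_a_two hf
  have h4 : (2 : ZMod r) • ρ a = -(1 + ρ i + ρ j + ρ i * ρ j) := by rw [two_smul, h3]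
  have h5 : ρ a = (2 : ZMod r)⁻¹ • -(1 + ρ i + ρ j + ρ i * ρ j) := by
    rw [← h4, smul_smul, inv_mul_cancel₀ h2, one_smul]
  rw [h5]
  simp only [map_neg, Algebra.algebraMap_eq_smul_one, neg_mul, smul_mul_assoc, one_mul, smul_neg,
    smul_add, neg_add]

end TypeA

end rep

end Cfsg.Agent.Lib.helper6.ZP
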