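import Mathlib
import Cfsg.Agent.Lib.helper6.ZPd

set_option autoImplicit false

namespace Cfsg.Agent.Lib.helper6.ZP

open Finset

section rep

universe uV

variable {r : ℕ} [hr : Fact r.Prime] {V : Type uV} [AddCommGroup V] [Module (ZMod r) V] [Finite V]
  [Nontrivial V]
variable {G : Type*} [Group G] {ρ : G →* Module.End (ZMod r) V} {z i j a : G}

instance finite_end : Finite (Module.End (ZMod r) V) :=
  Finite.of_injective (fun f : Module.End (ZMod r) V => (f : V → V)) DFunLike.coe_injective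

theorem r_ne_two_of (h2 : (2 : ZMod r) ≠ 0) : r ≠ 2 := by
  intro hr2
  apply h2
  subst hr2
  rfl

namespace TypeA

set_option maxHeartbeats 800000 in
/-- the projection data attached to a type A configuration and an extra element -/
theorem proj [Finite G] (h : TypeA z i j a) (hf : FPF ρ) (c : G) (hci : c * i = i * c)
    (hcj : j * c * j⁻¹ = c⁻¹) :
    ∃ (H : Type uV) (_ : Group H) (π : Subgroup.closure ({i, j, a, c} : Set G) →* H),
      Function.Surjective π ∧ (∀ g, π g = 1 ↔ (g = 1 ∨ (g : G) = z)) ∧ FiveCases H := by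
  have h2 := h.two_ne hf
  have hr2 : r ≠ 2 := r_ne_two_of h2
  have hCC' : ρ c * ρ c⁻¹ = 1 := by rw [← map_mul, mul_inv_cancel, map_one]
  have hC'C : ρ c⁻¹ * ρ c = 1 := by rw [← map_mul, inv_mul_cancel, map_one]
  have hCI : ρ c * ρ i = ρ i * ρ c := by rw [← map_mul, hci, map_mul]
  have hC'I : ρ c⁻¹ * ρ i = ρ i * ρ c⁻¹ := by
    rw [← map_mul, ← map_mul]
    congr 1
    calc c⁻¹ * i = c⁻¹ * (i * c) * c⁻¹ := by group
      _ = i * c⁻¹ := by rw [← hci]; group
  have hjc : j * c = c⁻¹ * j := by rw [← hcj]; group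
  have hjc' : j * c⁻¹ = c * j := by
    have : c = j * c⁻¹ * j⁻¹ := by
      calc c = (c⁻¹)⁻¹ := by group
        _ = (j * c * j⁻¹)⁻¹ := by rw [hcj]
        _ = j * c⁻¹ * j⁻¹ := by group
    nth_rewrite 2 [this]
    group
  have hJC : ρ j * ρ c = ρ c⁻¹ * ρ j := by rw [← map_mul, hjc, map_mul]
  have hJC' : ρ j * ρ c⁻¹ = ρ c * ρ j := by rw [← map_mul, hjc', map_mul]
  obtain ⟨c0, c1, k1, k2, k3, k4, k5, k6, k7⟩ := kl_algebra h2 (ρ c) (ρ c⁻¹) (ρ i) (ρ j) hCC' hC'C
    hCI hC'I (h.rho_II hf) (h.rho_JI hf) hJC hJC'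
  have hcs : ∀ x ∈ ({c0, c1} : Set (Module.End (ZMod r) V)), ∀ y ∈
      ({c0, c1} : Set (Module.End (ZMod r) V)), x * y = y * x := by
    rintro x (rfl | rfl) y (rfl | rfl)
    · rfl
    · exact k1
    · exact k1.symm
    · rfl
  have hγm : (-1 : Module.End (ZMod r) V) ∈ Algebra.adjoin (ZMod r)
      ({c0, c1} : Set (Module.End (ZMod r) V)) := Subalgebra.neg_mem _ (Subalgebra.one_mem _)
  have hc0m : c0 ∈ Algebra.adjoin (ZMod r) ({c0, c1} : Set (Module.End (ZMod r) V)) :=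
    Algebra.subset_adjoin (by simp)
  have hc1m : c1 ∈ Algebra.adjoin (ZMod r) ({c0, c1} : Set (Module.End (ZMod r) V)) :=
    Algebra.subset_adjoin (by simp)
  have h0m : (0 : Module.End (ZMod r) V) ∈ Algebra.adjoin (ZMod r)
      ({c0, c1} : Set (Module.End (ZMod r) V)) := Subalgebra.zero_mem _
  have h1m : (1 : Module.End (ZMod r) V) ∈ Algebra.adjoin (ZMod r)
      ({c0, c1} : Set (Module.End (ZMod r) V)) := Subalgebra.one_mem _
  have hIc : ∀ x ∈ ({c0, c1} : Set (Module.End (ZMod r) V)), x * ρ i = ρ i * x := by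
    rintro x (rfl | rfl)
    · exact k2
    · exact k3
  have hJc : ∀ x ∈ ({c0, c1} : Set (Module.End (ZMod r) V)), x * ρ j = ρ j * x := by
    rintro x (rfl | rfl)
    · exact k4
    · exact k5
  have hzS : z ∈ Subgroup.closure ({i, j, a, c} : Set G) := by
    rw [← h.hi]
    have : i ∈ Subgroup.closure ({i, j, a, c} : Set G) := Subgroup.subset_closure (by simp)
    exact Subgroup.mul_mem _ this this
  refine qgroup_concrete hr2 ({c0, c1} : Set (Module.End (ZMod r) V)) hcs (-1) hγm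
    isUnit_one.neg (ρ i) (ρ j) (h.rho_II hf) (h.rho_JJ hf) (h.rho_JI hf) hIc hJc ρ
    ({i, j, a, c} : Set G) (fun g _ hg => hf.isUnit_sub_one hg) ?_ z hzS (h.rho_z hf)
  rintro g (rfl | rfl | rfl | rfl)
  · exact ⟨0, 1, 0, 0, h0m, h1m, h0m, h0m, by simp, by simp⟩
  · exact ⟨0, 0, 1, 0, h0m, h0m, h1m, h0m, by simp, by simp⟩
  · refine ⟨_, _, _, _, Subalgebra.algebraMap_mem _ (-(2 : ZMod r)⁻¹),
      Subalgebra.algebraMap_mem _ (-(2 : ZMod r)⁻¹), Subalgebra.algebraMap_mem _ (-(2 : ZMod r)⁻¹),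
      Subalgebra.algebraMap_mem _ (-(2 : ZMod r)⁻¹), h.rho_a hf, ?_⟩
    simp only [neg_mul, one_mul, sub_neg_eq_add, ← map_pow, ← map_add]
    have : (-(2 : ZMod r)⁻¹) ^ 2 + (-(2 : ZMod r)⁻¹) ^ 2 + (-(2 : ZMod r)⁻¹) ^ 2 +
        (-(2 : ZMod r)⁻¹) ^ 2 = 1 := by
      field_simp
      norm_num
    rw [this, map_one]
  · refine ⟨c0, c1, 0, 0, hc0m, hc1m, h0m, h0m, ?_, ?_⟩
    · rw [k6]; simp
    · rw [← k7]; simp

theorem i_ne_one (h : TypeA z i j a) : i ≠ 1 := by
  intro hi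
  apply h.hz1
  rw [← h.hi, hi, one_mul]

theorem i_ne_z (h : TypeA z i j a) : i ≠ z := by
  intro hi
  apply h.hz1
  have := h.hi
  rw [hi, h.zz] at this
  exact this.symm

/-- the key lemma: an element centralizing `i` and inverted by `j` has order dividing eight -/
theorem key_lemma [Finite G] (h : TypeA z i j a) (hf : FPF ρ) (c : G) (hci : c * i = i * c)
    (hcj : j * c * j⁻¹ = c⁻¹) : c ^ 8 = 1 := by
  obtain ⟨H, instH, π, -, hk, h5⟩ := h.proj hf c hci hcj
  have him : i ∈ Subgroup.closure ({i, j, a, c} : Set G) := Subgroup.subset_closure (by simp)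
  have hjm : j ∈ Subgroup.closure ({i, j, a, c} : Set G) := Subgroup.subset_closure (by simp)
  have ham : a ∈ Subgroup.closure ({i, j, a, c} : Set G) := Subgroup.subset_closure (by simp)
  have hcm : c ∈ Subgroup.closure ({i, j, a, c} : Set G) := Subgroup.subset_closure (by simp)
  have hzm : z ∈ Subgroup.closure ({i, j, a, c} : Set G) := by
    rw [← h.hi]; exact Subgroup.mul_mem _ him him
  have hπz : π ⟨z, hzm⟩ = 1 := (hk _).mpr (Or.inr rfl)
  have hπj : π ⟨a, ham⟩ * π ⟨i, him⟩ * (π ⟨a, ham⟩)⁻¹ = π ⟨j, hjm⟩ := by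
    rw [← map_inv, ← map_mul, ← map_mul]
    congr 1
    exact Subtype.ext h.hai
  have hcomm : π ⟨i, him⟩ * π ⟨j, hjm⟩ = π ⟨j, hjm⟩ * π ⟨i, him⟩ := by
    have e : (⟨j, hjm⟩ : Subgroup.closure ({i, j, a, c} : Set G)) * ⟨i, him⟩ =
        ⟨z, hzm⟩ * (⟨i, him⟩ * ⟨j, hjm⟩) := Subtype.ext h.hji
    rw [← map_mul (f := π) ⟨j, hjm⟩, e, map_mul, hπz, one_mul, map_mul]
  have hne : π ⟨j, hjm⟩ ≠ π ⟨i, him⟩ := by
    intro he
    have h1 : π (⟨j, hjm⟩ * ⟨i, him⟩⁻¹) = 1 := by rw [map_mul, map_inv, he, mul_inv_cancel]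
    have hcomm' : j * i = i * j := by
      rcases (hk _).mp h1 with h2 | h2
      · have h3 : j * i⁻¹ = 1 := congrArg Subtype.val h2
        have : j = i := by
          have := congrArg (fun t => t * i) h3
          simpa using this
        rw [this]
      · have h3 : j * i⁻¹ = z := h2
        have : j = z * i := by
          have := congrArg (fun t => t * i) h3
          simpa using this
        rw [this, mul_assoc, ← mul_assoc i z i, h.hzc i, mul_assoc]
    have h4 := h.hji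
    rw [hcomm'] at h4
    apply h.hz1
    have := mul_right_cancel (b := i * j) (a := 1) (c := z) (by rw [one_mul]; exact h4)
    exact this.symm
  have h3 : ThreeCases H := by
    apply h5.critA
    refine ⟨π ⟨i, him⟩, π ⟨a, ham⟩, ?_, ?_, ?_⟩
    · rw [← map_pow]
      have : (⟨a, ham⟩ : Subgroup.closure ({i, j, a, c} : Set G)) ^ 3 = 1 := Subtype.ext h.ha
      rw [this, map_one]
    · rw [hπj]; exact hcomm
    · rw [hπj]; exact hne
  have hi1 : π ⟨i, him⟩ ≠ 1 := by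
    intro hc
    rcases (hk _).mp hc with h2 | h2
    · exact h.i_ne_one (congrArg Subtype.val h2)
    · exact h.i_ne_z h2
  have hi2 : π ⟨i, him⟩ ^ 2 = 1 := by
    rw [← map_pow]
    have : (⟨i, him⟩ : Subgroup.closure ({i, j, a, c} : Set G)) ^ 2 = ⟨z, hzm⟩ := by
      apply Subtype.ext
      show i ^ 2 = z
      rw [pow_two, h.hi]
    rw [this, hπz]
  have hic : π ⟨i, him⟩ * π ⟨c, hcm⟩ = π ⟨c, hcm⟩ * π ⟨i, him⟩ := by
    rw [← map_mul, ← map_mul]
    congr 1
    exact Subtype.ext hci.symm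
  have h4 := h3.cent_invol _ _ hi1 hi2 hic
  rw [← map_pow] at h4
  rcases (hk _).mp h4 with h6 | h6
  · have : c ^ 4 = 1 := congrArg Subtype.val h6
    calc c ^ 8 = (c ^ 4) ^ 2 := by rw [← pow_mul]
      _ = 1 := by rw [this, one_pow]
  · have : c ^ 4 = z := h6
    calc c ^ 8 = (c ^ 4) ^ 2 := by rw [← pow_mul]
      _ = 1 := by rw [this, h.hz2]

end TypeA

end rep

end Cfsg.Agent.Lib.helper6.ZP
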