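import Mathlib
import Cfsg.Agent.Lib.helper6.ZPd2

set_option autoImplicit false

namespace Cfsg.Agent.Lib.helper6.ZP

open Finset

section mixalg

variable {B : Type*} [Ring B]

/-- algebra of a mixed pair: `T² = -1`, `X² + X + 1 = 0` -/
theorem mixed_algebra (T X : B) (hT : T * T = -1) (hX : X * X + X + 1 = 0) :
    ∃ σ s' : B, σ * T = T * σ ∧ σ * s' = s' * σ ∧ s' * T = -(T * s') ∧
      s' * s' = σ * σ - 3 ∧ T * s' = T * X - X * T ∧ X + X = -1 - σ * T + s' := by
  have hXX : X * X = -X - 1 := by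
    have h1 : X * X = X * X + X + 1 - X - 1 := by abel
    rw [h1, hX]; abel
  obtain ⟨σ, hσ⟩ : ∃ σ, σ = X * T + T * X + T := ⟨_, rfl⟩
  have hσT : σ * T = T * σ := by
    rw [hσ]
    simp only [add_mul, mul_add, mul_assoc]
    rw [hT, ← mul_assoc T T X, hT]
    simp
    abel
  have hσX : σ * X = X * σ := by
    rw [hσ]
    simp only [add_mul, mul_add, mul_assoc]
    rw [hXX, ← mul_assoc X X T, hXX]
    simp only [mul_sub, sub_mul, mul_neg, neg_mul, mul_one, one_mul]
    abel
  obtain ⟨s, hs⟩ : ∃ s, s = X + X + 1 := ⟨_, rfl⟩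
  have hσs : σ * s = s * σ := by
    rw [hs, mul_add, mul_add, add_mul, add_mul, hσX, mul_one, one_mul]
  have h3 : (3 : B) = 1 + 1 + 1 := by norm_num
  have hss : s * s = -3 := by
    have : s * s = (X * X + X + 1) + (X * X + X + 1) + (X * X + X + 1) + (X * X + X + 1) - 3 := by
      rw [hs, h3]
      simp only [add_mul, mul_add, mul_one, one_mul]
      abel
    rw [this, hX]; abel
  have hsT : s * T + T * s = σ + σ := by
    rw [hs, hσ]
    simp only [add_mul, mul_add, mul_one, one_mul]
    abel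
  have e1 : σ * T * T = -σ := by rw [mul_assoc, hT]; simp
  have e2 : T * (σ * T) = -σ := by rw [← mul_assoc, ← hσT, e1]
  refine ⟨σ, s + σ * T, hσT, ?_, ?_, ?_, ?_, ?_⟩
  · rw [mul_add, add_mul, hσs, ← mul_assoc, mul_assoc σ σ T, hσT, ← mul_assoc, hσT]
  · apply eq_neg_of_add_eq_zero_left
    have : (s + σ * T) * T + T * (s + σ * T) = (s * T + T * s) + σ * T * T + T * (σ * T) := by
      rw [add_mul, mul_add]; abel
    rw [this, hsT, e1, e2]; abel
  · have : (s + σ * T) * (s + σ * T) = s * s + σ * (s * T + T * s) + σ * (T * (σ * T)) := by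
      rw [add_mul, mul_add, mul_add, mul_add σ, ← mul_assoc s σ T, ← hσs]
      simp only [mul_assoc]
      abel
    rw [this, hss, hsT, e2]
    simp only [mul_add, mul_neg]
    abel
  · have : T * (s + σ * T) = T * s + T * (σ * T) := mul_add _ _ _
    rw [this, e2, hs, hσ]
    simp only [mul_add, mul_one]
    abel
  · rw [hs]; abel

end mixalg

section lift

variable {X H : Type*} [Group X] [Group H]

/-- lifting a type A configuration through a central extension by the unique involution -/
theorem lift_typeA_core {z : X} (hz1 : z ≠ 1) (hz2 : z ^ 2 = 1) (hzc : ∀ x : X, x * z = z * x)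
    (huniq : ∀ g : X, g ^ 2 = 1 → g = 1 ∨ g = z) (π : X →* H) (hs : Function.Surjective π)
    (hk : ∀ g, π g = 1 ↔ (g = 1 ∨ g = z)) (hH : HasTypeA H) :
    ∃ i j a : X, TypeA z i j a := by
  obtain ⟨ub, vb, wb, hu1, hv1, huv, hu2, hv2, hcomm, hw3, hwu, hwv⟩ := hH
  obtain ⟨u, rfl⟩ := hs ub
  obtain ⟨w₀, rfl⟩ := hs wb
  have hzz : z * z = 1 := by rw [← pow_two, hz2]
  have hzinv : z⁻¹ = z := inv_eq_of_mul_eq_one_right hzz
  have hπz : π z = 1 := (hk z).mpr (Or.inr rfl)
  -- from equal images to equality up to z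
  have hker : ∀ g g' : X, π g = π g' → g = g' ∨ g = z * g' := by
    intro g g' hgg
    have h1 : π (g * g'⁻¹) = 1 := by rw [map_mul, map_inv, hgg, mul_inv_cancel]
    rcases (hk _).mp h1 with h2 | h2
    · left
      have := congrArg (fun t => t * g') h2
      simpa using this
    · right
      have := congrArg (fun t => t * g') h2
      simpa using this
  have huu : u * u = z := by
    have h1 : π (u * u) = 1 := by rw [map_mul, ← pow_two, hu2]
    rcases (hk _).mp h1 with h2 | h2
    · exfalso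
      rcases huniq u (by rw [pow_two, h2]) with h3 | h3
      · exact hu1 (by rw [h3, map_one])
      · exact hu1 (by rw [h3, hπz])
    · exact h2
  -- adjust w
  obtain ⟨w, hw3', hπw⟩ : ∃ w : X, w ^ 3 = 1 ∧ π w = π w₀ := by
    have h1 : π (w₀ ^ 3) = 1 := by rw [map_pow, hw3]
    rcases (hk _).mp h1 with h2 | h2
    · exact ⟨w₀, h2, rfl⟩
    · refine ⟨z * w₀, ?_, by rw [map_mul, hπz, one_mul]⟩
      have hc : Commute z w₀ := (hzc w₀).symm
      rw [hc.mul_pow, h2]
      calc z ^ 3 * z = (z ^ 2) ^ 2 := by group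
        _ = 1 := by rw [hz2, one_pow]
  have hπj : π (w * u * w⁻¹) = vb := by
    rw [map_mul, map_mul, map_inv, hπw, hwu]
  have hjj : (w * u * w⁻¹) * (w * u * w⁻¹) = z := by
    calc (w * u * w⁻¹) * (w * u * w⁻¹) = w * (u * u) * w⁻¹ := by group
      _ = z := by rw [huu, hzc w, mul_inv_cancel_right]
  obtain ⟨j, hj⟩ : ∃ j, j = w * u * w⁻¹ := ⟨_, rfl⟩
  rw [← hj] at hπj hjj
  -- the commutation relation
  have hji : j * u = z * (u * j) := by
    have h1 : π (j * u) = π (u * j) := by rw [map_mul, map_mul, hπj, hcomm]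
    rcases hker _ _ h1 with h2 | h2
    · exfalso
      have h3 : (u * j) ^ 2 = 1 := by
        calc (u * j) ^ 2 = u * (j * u) * j := by rw [pow_two]; group
          _ = u * (u * j) * j := by rw [h2]
          _ = (u * u) * (j * j) := by group
          _ = 1 := by rw [huu, hjj, hzz]
      have h4 : π (u * j) = 1 := by
        rcases huniq _ h3 with h5 | h5
        · rw [h5, map_one]
        · rw [h5, hπz]
      rw [map_mul, hπj] at h4
      apply huv
      calc π u = π u * (vb * vb) := by rw [← pow_two, hv2, mul_one]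
        _ = (π u * vb) * vb := by group
        _ = vb := by rw [h4, one_mul]
    · exact h2
  have h1 : π (w * j * w⁻¹) = π (u * j) := by
    rw [map_mul, map_mul, map_inv, hπw, hπj, hwv, map_mul, hπj]
  rcases hker _ _ h1 with h2 | h2
  · exact ⟨u, j, w, hz1, hz2, hzc, huu, hw3', hj.symm, h2, hji⟩
  · refine ⟨u⁻¹, j⁻¹, w, hz1, hz2, hzc, ?_, hw3', ?_, ?_, ?_⟩
    · calc u⁻¹ * u⁻¹ = (u * u)⁻¹ := by group
        _ = z := by rw [huu, hzinv]
    · calc w * u⁻¹ * w⁻¹ = (w * u * w⁻¹)⁻¹ := by group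
        _ = j⁻¹ := by rw [← hj]
    · calc w * j⁻¹ * w⁻¹ = (w * j * w⁻¹)⁻¹ := by group
        _ = (z * (u * j))⁻¹ := by rw [h2]
        _ = (j * u)⁻¹ := by rw [hji]
        _ = u⁻¹ * j⁻¹ := by group
    · have h3 : u * j = z * (j * u) := by
        rw [hji, ← mul_assoc, hzz, one_mul]
      calc j⁻¹ * u⁻¹ = (u * j)⁻¹ := by group
        _ = (z * (j * u))⁻¹ := by rw [h3]
        _ = (j * u)⁻¹ * z⁻¹ := by group
        _ = z * (j * u)⁻¹ := by rw [hzinv, hzc]
        _ = z * (u⁻¹ * j⁻¹) := by group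

end lift

theorem TypeA.coe_subgroup {G : Type*} [Group G] {X : Subgroup G} {z i j a : X}
    (h : TypeA z i j a) (hzc : ∀ x : G, x * (z : G) = (z : G) * x) :
    TypeA (z : G) (i : G) (j : G) (a : G) where
  hz1 := fun hc => h.hz1 (Subtype.ext hc)
  hz2 := by
    have := congrArg Subtype.val h.hz2
    simpa using this
  hzc := hzc
  hi := congrArg Subtype.val h.hi
  ha := by
    have := congrArg Subtype.val h.ha
    simpa using this
  hai := congrArg Subtype.val h.hai
  haj := congrArg Subtype.val h.haj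
  hji := congrArg Subtype.val h.hji

section rep

universe uV

variable {r : ℕ} [hr : Fact r.Prime] {V : Type uV} [AddCommGroup V] [Module (ZMod r) V] [Finite V]
  [Nontrivial V]
variable {G : Type*} [Group G] {ρ : G →* Module.End (ZMod r) V}

set_option maxHeartbeats 1000000 in
/-- the mixed pair lemma: an element of order four and an element of order three which do not
generate a metacyclic group give a type A configuration -/
theorem mixed_pair [Finite G] (hf : FPF ρ) {z t x : G} (hz1 : z ≠ 1) (hz2 : z ^ 2 = 1)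
    (ht : t * t = z) (hx : orderOf x = 3) (hn : t * x * t⁻¹ ∉ Subgroup.zpowers x) :
    ∃ i j a : G, TypeA z i j a := by
  have hzc : ∀ y : G, y * z = z * y := fun y => hf.invol_central hz1 hz2 y
  have h2 : (2 : ZMod r) ≠ 0 := hf.two_ne_zero hz1 hz2
  have hr2 : r ≠ 2 := r_ne_two_of h2
  have hρz : ρ z = -1 := hf.eq_neg_one hz1 hz2
  have hT : ρ t * ρ t = -1 := by rw [← map_mul, ht, hρz]
  have hX : ρ x * ρ x + ρ x + 1 = 0 := hf.order_three hx
  have hx3 : x ^ 3 = 1 := by rw [← hx]; exact pow_orderOf_eq_one x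
  obtain ⟨σ, s', k1, k2, k3, k4, k5, k6⟩ := mixed_algebra (ρ t) (ρ x) hT hX
  have htx : t * x ≠ x * t := by
    intro hc
    apply hn
    rw [hc, mul_inv_cancel_right]
    exact Subgroup.mem_zpowers x
  -- s' is a unit
  have hTu : IsUnit (ρ t) := ⟨⟨ρ t, ρ t⁻¹, by rw [← map_mul, mul_inv_cancel, map_one],
    by rw [← map_mul, inv_mul_cancel, map_one]⟩, rfl⟩
  have hTs : IsUnit (ρ t * s') := by
    rw [k5]
    have h1 : (x * t)⁻¹ * (t * x) ≠ 1 := by
      intro hc
      exact htx (inv_mul_eq_one.mp hc).symm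
    have h3 := hf.isUnit_sub_one h1
    have h4 : IsUnit (ρ (x * t)) := ⟨⟨ρ (x * t), ρ (x * t)⁻¹,
      by rw [← map_mul, mul_inv_cancel, map_one], by rw [← map_mul, inv_mul_cancel, map_one]⟩, rfl⟩
    have h5 : ρ t * ρ x - ρ x * ρ t = ρ (x * t) * (ρ ((x * t)⁻¹ * (t * x)) - 1) := by
      symm
      calc ρ (x * t) * (ρ ((x * t)⁻¹ * (t * x)) - 1)
          = ρ (x * t) * ρ ((x * t)⁻¹ * (t * x)) - ρ (x * t) := by rw [mul_sub, mul_one]
        _ = ρ ((x * t) * ((x * t)⁻¹ * (t * x))) - ρ (x * t) := by rw [map_mul ρ (x * t)]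
        _ = ρ (t * x) - ρ (x * t) := by rw [mul_inv_cancel_left]
        _ = ρ t * ρ x - ρ x * ρ t := by rw [map_mul, map_mul]
    rw [h5]
    exact h4.mul h3
  have hsu : IsUnit s' := by
    obtain ⟨u, hu⟩ := hTu
    have : s' = ((u⁻¹ : (Module.End (ZMod r) V)ˣ) : Module.End (ZMod r) V) * (ρ t * s') := by
      rw [← mul_assoc, ← hu, Units.inv_mul, one_mul]
    rw [this]
    exact (Units.isUnit _).mul hTs
  have hγu : IsUnit (σ * σ - 3) := by
    rw [← k4]
    exact hsu.mul hsu
  have hσm : σ ∈ Algebra.adjoin (ZMod r) ({σ} : Set (Module.End (ZMod r) V)) :=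
    Algebra.subset_adjoin (by simp)
  have h0m : (0 : Module.End (ZMod r) V) ∈ Algebra.adjoin (ZMod r)
      ({σ} : Set (Module.End (ZMod r) V)) := Subalgebra.zero_mem _
  have h1m : (1 : Module.End (ZMod r) V) ∈ Algebra.adjoin (ZMod r)
      ({σ} : Set (Module.End (ZMod r) V)) := Subalgebra.one_mem _
  have h3m : (3 : Module.End (ZMod r) V) ∈ Algebra.adjoin (ZMod r)
      ({σ} : Set (Module.End (ZMod r) V)) := by
    have : (3 : Module.End (ZMod r) V) = 1 + 1 + 1 := by norm_num
    rw [this]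
    exact Subalgebra.add_mem _ (Subalgebra.add_mem _ h1m h1m) h1m
  have hγm : σ * σ - 3 ∈ Algebra.adjoin (ZMod r) ({σ} : Set (Module.End (ZMod r) V)) :=
    Subalgebra.sub_mem _ (Subalgebra.mul_mem _ hσm hσm) h3m
  have hcs : ∀ a ∈ ({σ} : Set (Module.End (ZMod r) V)), ∀ b ∈
      ({σ} : Set (Module.End (ZMod r) V)), a * b = b * a := by
    rintro a rfl b rfl
    rfl
  have hIc : ∀ c ∈ ({σ} : Set (Module.End (ZMod r) V)), c * ρ t = ρ t * c := by
    rintro c rfl
    exact k1
  have hJc : ∀ c ∈ ({σ} : Set (Module.End (ZMod r) V)), c * s' = s' * c := by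
    rintro c rfl
    exact k2
  have htm : t ∈ Subgroup.closure ({t, x} : Set G) := Subgroup.subset_closure (by simp)
  have hxm : x ∈ Subgroup.closure ({t, x} : Set G) := Subgroup.subset_closure (by simp)
  have hzm : z ∈ Subgroup.closure ({t, x} : Set G) := by
    rw [← ht]; exact Subgroup.mul_mem _ htm htm
  obtain ⟨H, instH, π, hs, hk, h5⟩ := qgroup_concrete hr2 ({σ} : Set (Module.End (ZMod r) V)) hcs
    (σ * σ - 3) hγm hγu (ρ t) s' hT k4 k3 hIc hJc ρ ({t, x} : Set G)
    (fun g _ hg => hf.isUnit_sub_one hg) (by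
      rintro g (rfl | rfl)
      · exact ⟨0, 1, 0, 0, h0m, h1m, h0m, h0m, by simp, by simp⟩
      · refine ⟨-((2 : ZMod r)⁻¹ • 1), -((2 : ZMod r)⁻¹ • σ), (2 : ZMod r)⁻¹ • 1, 0,
          Subalgebra.neg_mem _ (Subalgebra.smul_mem _ h1m _),
          Subalgebra.neg_mem _ (Subalgebra.smul_mem _ hσm _), Subalgebra.smul_mem _ h1m _, h0m,
          ?_, ?_⟩
        · have h4 : (2 : ZMod r) • ρ g = -1 - σ * ρ t + s' := by rw [two_smul, k6]
          have h6 : ρ g = (2 : ZMod r)⁻¹ • (-1 - σ * ρ t + s') := by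
            rw [← h4, smul_smul, inv_mul_cancel₀ h2, one_smul]
          rw [h6]
          simp only [neg_mul, smul_mul_assoc, one_mul, zero_mul, add_zero, smul_add, smul_sub,
            smul_neg]
          abel
        · rw [neg_sq, neg_sq]
          simp only [pow_two, smul_mul_assoc, mul_one, one_mul, mul_smul_comm, mul_zero, sub_zero,
            smul_smul]
          rw [← smul_add, ← smul_sub]
          have : (1 : Module.End (ZMod r) V) + σ * σ - (σ * σ - 3) = (4 : ZMod r) • 1 := by
            rw [Algebra.smul_def, mul_one, map_ofNat]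
            have h3' : (3 : Module.End (ZMod r) V) = 1 + 1 + 1 := by norm_num
            have h4' : (4 : Module.End (ZMod r) V) = 1 + 1 + 1 + 1 := by norm_num
            rw [h3', h4']
            abel
          rw [this, smul_smul]
          have : (2 : ZMod r)⁻¹ * (2 : ZMod r)⁻¹ * 4 = 1 := by field_simp; norm_num
          rw [this, one_smul])
    z hzm hρz
  -- exclude cyclic and dihedral
  have hcube : ∀ e : G, e ^ 3 = z → (t * x * t⁻¹) ≠ e := by
    intro e he hc
    apply hz1
    rw [← he, ← hc]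
    calc (t * x * t⁻¹) ^ 3 = t * x ^ 3 * t⁻¹ := by
          rw [pow_succ, pow_succ, pow_one, pow_succ, pow_succ, pow_one]; group
      _ = 1 := by rw [hx3]; group
  have hzx : (z * x) ^ 3 = z := by
    have hc : Commute z x := (hzc x).symm
    rw [hc.mul_pow, hx3, mul_one]
    calc z ^ 3 = z ^ 2 * z := by group
      _ = z := by rw [hz2, one_mul]
  have hzx' : (z * x⁻¹) ^ 3 = z := by
    have hc : Commute z x⁻¹ := (hzc x⁻¹).symm
    rw [hc.mul_pow, inv_pow, hx3, inv_one, mul_one]
    calc z ^ 3 = z ^ 2 * z := by group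
      _ = z := by rw [hz2, one_mul]
  have h3 : ThreeCases H := by
    apply h5.critB
    refine ⟨π ⟨x, hxm⟩, π ⟨t, htm⟩, ?_, ?_, ?_⟩
    · rw [← map_pow]
      have : (⟨x, hxm⟩ : Subgroup.closure ({t, x} : Set G)) ^ 3 = 1 := Subtype.ext hx3
      rw [this, map_one]
    · intro hc
      have h1 : π (⟨t, htm⟩ * ⟨x, hxm⟩ * ⟨t, htm⟩⁻¹ * ⟨x, hxm⟩⁻¹) = 1 := by
        rw [map_mul, map_inv (f := π) ⟨x, hxm⟩, map_mul, map_mul, map_inv, hc, mul_inv_cancel]
      rcases (hk _).mp h1 with h6 | h6
      · apply hn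
        have h7 : t * x * t⁻¹ * x⁻¹ = 1 := congrArg Subtype.val h6
        have : t * x * t⁻¹ = x := by
          have := congrArg (fun y => y * x) h7
          simpa using this
        rw [this]
        exact Subgroup.mem_zpowers x
      · have h7 : t * x * t⁻¹ * x⁻¹ = z := h6
        have : t * x * t⁻¹ = z * x := by
          have := congrArg (fun y => y * x) h7
          simpa using this
        exact hcube _ hzx this
    · intro hc
      have h1 : π (⟨t, htm⟩ * ⟨x, hxm⟩ * ⟨t, htm⟩⁻¹ * ⟨x, hxm⟩) = 1 := by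
        rw [map_mul, map_mul, map_mul, map_inv, hc, inv_mul_cancel]
      rcases (hk _).mp h1 with h6 | h6
      · apply hn
        have h7 : t * x * t⁻¹ * x = 1 := congrArg Subtype.val h6
        have : t * x * t⁻¹ = x⁻¹ := by
          have := congrArg (fun y => y * x⁻¹) h7
          simpa using this
        rw [this]
        exact Subgroup.inv_mem _ (Subgroup.mem_zpowers x)
      · have h7 : t * x * t⁻¹ * x = z := h6
        have : t * x * t⁻¹ = z * x⁻¹ := by
          have := congrArg (fun y => y * x⁻¹) h7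
          simpa using this
        exact hcube _ hzx' this
  -- lift
  obtain ⟨i, j, a, hA⟩ := lift_typeA_core (X := Subgroup.closure ({t, x} : Set G))
    (z := ⟨z, hzm⟩) (fun hc => hz1 (congrArg Subtype.val hc)) (Subtype.ext (by simpa using hz2))
    (fun y => Subtype.ext (hzc y)) (by
      intro g hg
      by_cases hg1 : g = 1
      · left; exact hg1
      · right
        apply Subtype.ext
        have hg2 : (g : G) ^ 2 = 1 := by
          have := congrArg Subtype.val hg
          simpa using this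
        exact hf.invol_unique (fun hc => hg1 (Subtype.ext hc)) hg2 hz1 hz2) π hs
    (by
      intro g
      rw [hk]
      constructor
      · rintro (h | h)
        · left; exact h
        · right; exact Subtype.ext h
      · rintro (h | h)
        · left; exact h
        · right; rw [h]) h3.hasTypeA
  exact ⟨i, j, a, hA.coe_subgroup hzc⟩

end rep

end Cfsg.Agent.Lib.helper6.ZP
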