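import Mathlib
import Cfsg.Agent.S0016

set_option autoImplicit false

namespace Cfsg.Agent.Lib.helper6.QAut

open QuaternionGroup

theorem gcd_odd_two_pow {k : ℕ} (hk : Odd k) (m : ℕ) : Nat.gcd k (2 ^ m) = 1 :=
  Nat.Coprime.pow_right m (Nat.coprime_two_right.mpr hk)

/-- an automorphism of odd order of a cyclic 2-group is trivial -/
theorem cyclic_aut {R : Type*} [Group R] [Finite R] [IsCyclic R] (hR : IsPGroup 2 R)
    (β : MulAut R) {k : ℕ} (hk : Odd k) (hβ : β ^ k = 1) : β = 1 := by
  have h1 : orderOf β ∣ k := orderOf_dvd_of_pow_eq_one hβ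
  obtain ⟨m, hm⟩ := hR.exists_card_eq
  have hfin : Finite (MulAut R) := by
    apply Nat.finite_of_card_ne_zero
    rw [IsCyclic.card_mulAut, hm]
    exact (Nat.totient_pos.mpr (pow_pos (by norm_num) m)).ne'
  have h2 : orderOf β ∣ Nat.card (MulAut R) := orderOf_dvd_natCard β
  rw [IsCyclic.card_mulAut, hm] at h2
  have h3 : orderOf β ∣ 2 ^ m := by
    rcases Nat.eq_zero_or_pos m with h0 | h0
    · rw [h0, pow_zero, Nat.totient_one] at h2
      rw [Nat.dvd_one.mp h2]; exact one_dvd _
    · rw [Nat.totient_prime_pow Nat.prime_two h0] at h2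
      have : orderOf β ∣ 2 ^ (m - 1) := by simpa using h2
      exact this.trans (pow_dvd_pow 2 (by omega))
  have h4 : orderOf β ∣ Nat.gcd k (2 ^ m) := Nat.dvd_gcd h1 h3
  rw [gcd_odd_two_pow hk, Nat.dvd_one] at h4
  exact orderOf_eq_one_iff.mp h4

section Large

variable {n : ℕ}

theorem a_pow (j : ZMod (2 * n)) (r : ℕ) :
    (a j : QuaternionGroup n) ^ r = a ((r : ZMod (2 * n)) * j) := by
  induction r with
  | zero => rw [pow_zero, Nat.cast_zero, zero_mul, a_zero]
  | succ r ih =>
    rw [pow_succ, ih, a_mul_a]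
    congr 1
    push_cast; ring

theorem a_eq_pow [NeZero n] (i : ZMod (2 * n)) : (a i : QuaternionGroup n) = a 1 ^ i.val := by
  rw [a_pow, mul_one, ZMod.natCast_zmod_val]

end Large

/-- an automorphism of odd order of a generalised quaternion group of order at least 16 is
trivial -/
theorem quat_large {n : ℕ} (hn : 2 ≤ n) (β : MulAut (QuaternionGroup (2 ^ n))) {k : ℕ}
    (hk : Odd k) (hβ : β ^ k = 1) : β = 1 := by
  haveI : NeZero (2 ^ n) := ⟨by positivity⟩
  have h4le : 4 ≤ 2 ^ n := by
    calc 4 = 2 ^ 2 := by norm_num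
      _ ≤ 2 ^ n := Nat.pow_le_pow_right (by norm_num) hn
  -- image of a 1
  have ho : orderOf (β (a 1)) = 2 * 2 ^ n := by
    rw [MulEquiv.orderOf_eq, orderOf_a_one]
  obtain ⟨j, hj⟩ : ∃ j, β (a 1) = a j := by
    rcases hb : β (a 1) with j | j
    · exact ⟨j, rfl⟩
    · rw [hb, orderOf_xa] at ho
      omega
  have ha : ∀ i, β (a i) = a (j * i) := by
    intro i
    rw [a_eq_pow i, map_pow, hj, a_pow, ZMod.natCast_zmod_val, mul_comm]
  -- iterate
  have hit : ∀ r : ℕ, (β ^ r) (a 1) = a (j ^ r) := by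
    intro r
    induction r with
    | zero => simp
    | succ r ih =>
      rw [pow_succ', MulAut.mul_apply, ih, ha, pow_succ']
  have hjk : j ^ k = 1 := by
    have := hit k
    rw [hβ, MulAut.one_apply] at this
    exact (a.inj this).symm
  -- j = 1
  have hk0 : k ≠ 0 := by
    rintro rfl
    simp at hk
  have hju : IsUnit j := by
    apply IsUnit.of_pow_eq_one hjk hk0
  obtain ⟨u, rfl⟩ := hju
  have hu : u ^ k = 1 := by
    apply Units.ext
    push_cast
    exact hjk
  have hu1 : u = 1 := by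
    have h1 : orderOf u ∣ k := orderOf_dvd_of_pow_eq_one hu
    have h2 : orderOf u ∣ Fintype.card (ZMod (2 * 2 ^ n))ˣ := orderOf_dvd_card
    have htot : Nat.totient (2 * 2 ^ n) = 2 ^ n := by
      rw [show 2 * 2 ^ n = 2 ^ (n + 1) by ring,
        Nat.totient_prime_pow Nat.prime_two (by omega)]
      simp
    rw [ZMod.card_units_eq_totient, htot] at h2
    have h4 : orderOf u ∣ Nat.gcd k (2 ^ n) := Nat.dvd_gcd h1 h2
    rw [gcd_odd_two_pow hk, Nat.dvd_one] at h4
    exact orderOf_eq_one_iff.mp h4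
  subst hu1
  have ha' : ∀ i, β (a i) = a i := by
    intro i; rw [ha]; simp
  -- image of xa 0
  obtain ⟨l, hl⟩ : ∃ l, β (xa 0) = xa l := by
    rcases hb : β (xa 0) with l | l
    · exfalso
      have h1 : β (xa 0 * a 1) = β (a 1 * xa 0) := by
        rw [map_mul, map_mul, hb, ha', a_mul_a, a_mul_a, add_comm]
      have h2 := β.injective h1
      rw [xa_mul_a, a_mul_xa] at h2
      have h3 : (0 : ZMod (2 * 2 ^ n)) + 1 = 0 - 1 := xa.inj h2
      have h4 : ((2 : ℕ) : ZMod (2 * 2 ^ n)) = 0 := by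
        have : (2 : ZMod (2 * 2 ^ n)) = (0 + 1) - (0 - 1) := by ring
        rw [h3] at this
        push_cast
        rw [this]; ring
      rw [ZMod.natCast_eq_zero_iff] at h4
      have := Nat.le_of_dvd (by norm_num) h4
      omega
    · exact ⟨l, rfl⟩
  have hx : ∀ i, β (xa i) = xa (l + i) := by
    intro i
    have : (xa i : QuaternionGroup (2 ^ n)) = xa 0 * a i := by rw [xa_mul_a, zero_add]
    rw [this, map_mul, hl, ha', xa_mul_a]
  have hitx : ∀ r : ℕ, (β ^ r) (xa 0) = xa ((r : ZMod (2 * 2 ^ n)) * l) := by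
    intro r
    induction r with
    | zero => simp
    | succ r ih =>
      rw [pow_succ', MulAut.mul_apply, ih, hx]
      congr 1
      push_cast; ring
  have hkl : (k : ZMod (2 * 2 ^ n)) * l = 0 := by
    have := hitx k
    rw [hβ, MulAut.one_apply] at this
    exact (xa.inj this).symm
  have hl0 : l = 0 := by
    have hcop : Nat.Coprime k (2 * 2 ^ n) := by
      rw [show 2 * 2 ^ n = 2 ^ (n + 1) by ring]
      exact gcd_odd_two_pow hk _
    have hunit : IsUnit (k : ZMod (2 * 2 ^ n)) := (ZMod.isUnit_iff_coprime k _).mpr hcop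
    exact (hunit.mul_right_eq_zero).mp hkl
  subst hl0
  ext x
  rcases x with i | i
  · rw [ha']; rfl
  · rw [hx, zero_add]; rfl


/-- candidate endomorphism of `Q₈` determined by images of generators -/
def F8 (u v : QuaternionGroup 2) : QuaternionGroup 2 → QuaternionGroup 2
  | a i => u ^ i.val
  | xa i => v * u ^ i.val

set_option maxRecDepth 100000 in
theorem F8_iter : ∀ u v : QuaternionGroup 2, u ^ 4 = 1 → u ^ 2 ≠ 1 → v ^ 4 = 1 → v ^ 2 ≠ 1 →
    v ≠ u → v ≠ u⁻¹ → ∀ x, (F8 u v)^[12] x = x := by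
  decide

/-- every automorphism of `Q₈` has order dividing 12 -/
theorem quat8_pow (β : MulAut (QuaternionGroup 2)) : β ^ 12 = 1 := by
  have hF : ∀ x, β x = F8 (β (a 1)) (β (xa 0)) x := by
    intro x
    rcases x with i | i
    · change β (a i) = β (a 1) ^ i.val
      rw [← map_pow, ← a_eq_pow]
    · change β (xa i) = β (xa 0) * β (a 1) ^ i.val
      rw [← map_pow, ← a_eq_pow, ← map_mul, xa_mul_a, zero_add]
  have hiter : ∀ r : ℕ, ∀ x, (β ^ r) x = (F8 (β (a 1)) (β (xa 0)))^[r] x := by
    intro r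
    induction r with
    | zero => intro x; simp
    | succ r ih =>
      intro x
      rw [pow_succ', MulAut.mul_apply, ih, hF, Function.iterate_succ_apply']
  have h1 : (β (a 1)) ^ 4 = 1 := by
    rw [← map_pow]
    have : (a 1 : QuaternionGroup 2) ^ 4 = 1 := by decide
    rw [this, map_one]
  have h2 : (β (a 1)) ^ 2 ≠ 1 := by
    rw [← map_pow]
    intro h
    have : (a 1 : QuaternionGroup 2) ^ 2 = 1 := β.injective (by rw [h, map_one])
    revert this; decide
  have h3 : (β (xa 0)) ^ 4 = 1 := by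
    rw [← map_pow]
    have : (xa 0 : QuaternionGroup 2) ^ 4 = 1 := by decide
    rw [this, map_one]
  have h4 : (β (xa 0)) ^ 2 ≠ 1 := by
    rw [← map_pow]
    intro h
    have : (xa 0 : QuaternionGroup 2) ^ 2 = 1 := β.injective (by rw [h, map_one])
    revert this; decide
  have h5 : β (xa 0) ≠ β (a 1) := by
    intro h
    have := β.injective h
    revert this; decide
  have h6 : β (xa 0) ≠ (β (a 1))⁻¹ := by
    intro h
    rw [← map_inv] at h
    have := β.injective h
    revert this; decide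
  ext x
  rw [hiter, F8_iter _ _ h1 h2 h3 h4 h5 h6]
  rfl

/-- an automorphism of odd order of `Q₈` has order dividing 3 -/
theorem quat8 (β : MulAut (QuaternionGroup 2)) {k : ℕ} (hk : Odd k) (hβ : β ^ k = 1) :
    β ^ 3 = 1 := by
  have h1 : β ^ Nat.gcd 12 k = 1 := pow_gcd_eq_one.mpr ⟨quat8_pow β, hβ⟩
  have h2 : Nat.gcd 12 k ∣ 3 := by
    have h3 : Nat.gcd 12 k ∣ 4 * 3 := Nat.gcd_dvd_left _ _
    have h4 : Nat.gcd 12 k ∣ k := Nat.gcd_dvd_right _ _
    have h5 : Nat.Coprime k 4 := by
      have : Nat.Coprime k (2 ^ 2) := gcd_odd_two_pow hk 2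
      simpa using this
    exact (Nat.Coprime.coprime_dvd_left h4 h5).dvd_of_dvd_mul_left h3
  obtain ⟨c, hc⟩ := h2
  rw [hc, pow_mul, h1, one_pow]


/-- Main automorphism lemma: an automorphism of odd order of a finite 2-group with a unique
involution has order dividing 3, and is trivial unless the group has order 8. -/
theorem main {R : Type*} [Group R] [Finite R] (hR : IsPGroup 2 R)
    (huniq : ∀ x y : R, orderOf x = 2 → orderOf y = 2 → x = y)
    (α : MulAut R) {k : ℕ} (hk : Odd k) (hα : α ^ k = 1) :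
    (Nat.card R ≠ 8 → α = 1) ∧ α ^ 3 = 1 := by
  haveI : Fact (Nat.Prime 2) := ⟨Nat.prime_two⟩
  have huniq' : ∀ H K : Subgroup R, Nat.card H = 2 → Nat.card K = 2 → H = K := by
    have key : ∀ H : Subgroup R, Nat.card H = 2 → ∃ x : R, orderOf x = 2 ∧
        H = Subgroup.zpowers x := by
      intro H hH
      haveI : Nontrivial H := by
        rw [← Finite.one_lt_card_iff_nontrivial, hH]; norm_num
      obtain ⟨x, hx⟩ := exists_ne (1 : H)
      have hx1 : (x : R) ≠ 1 := fun h => hx (Subtype.ext h)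
      have ho : orderOf x ∣ 2 := by
        rw [← hH]; exact orderOf_dvd_natCard x
      have ho2 : orderOf (x : R) = 2 := by
        rw [Subgroup.orderOf_coe]
        rcases (Nat.dvd_prime Nat.prime_two).mp ho with h | h
        · exact absurd (orderOf_eq_one_iff.mp h) hx
        · exact h
      refine ⟨x, ho2, ?_⟩
      symm
      apply Subgroup.eq_of_le_of_card_ge
      · rw [Subgroup.zpowers_le]; exact x.2
      · rw [hH, Nat.card_zpowers, ho2]
    intro H K hH hK
    obtain ⟨x, hx, rfl⟩ := key H hH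
    obtain ⟨y, hy, rfl⟩ := key K hK
    rw [huniq x y hx hy]
  rcases Cfsg.Agent.S0016.result 2 hR huniq' with hc | ⟨-, n, ⟨e⟩⟩
  · have := cyclic_aut hR α hk hα
    subst this
    exact ⟨fun _ => rfl, one_pow 3⟩
  · set β := MulAut.congr e α with hβdef
    have hβ : β ^ k = 1 := by
      rw [hβdef, ← map_pow, hα, map_one]
    have hback : ∀ r : ℕ, β ^ r = 1 → α ^ r = 1 := by
      intro r hr
      apply (MulAut.congr e).injective
      rw [map_pow, map_one]; exact hr
    rcases Nat.lt_or_ge n 2 with hn | hn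
    · interval_cases n
      · -- cyclic of order 4
        haveI : IsCyclic R := by
          haveI := quaternionGroup_one_isCyclic
          exact isCyclic_of_surjective e.symm.toMonoidHom e.symm.surjective
        have := cyclic_aut hR α hk hα
        subst this
        exact ⟨fun _ => rfl, one_pow 3⟩
      · -- Q8
        have hcard : Nat.card R = 8 := by
          rw [Nat.card_congr e.toEquiv, Nat.card_eq_fintype_card, QuaternionGroup.card]
          norm_num
        refine ⟨fun h => absurd hcard h, ?_⟩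
        exact hback 3 (quat8 β hk hβ)
    · have hβ1 : β = 1 := quat_large hn β hk hβ
      have hα1 : α = 1 := by
        have := hback 1 (by rw [pow_one]; exact hβ1)
        rwa [pow_one] at this
      subst hα1
      exact ⟨fun _ => rfl, one_pow 3⟩


/-- Conjugation form of the automorphism lemma. -/
theorem conj_lemma {G : Type*} [Group G] (R : Subgroup G) [Finite R] (hR : IsPGroup 2 R)
    (huniq : ∀ x ∈ R, ∀ y ∈ R, orderOf x = 2 → orderOf y = 2 → x = y)
    (g : G) (hg : g ∈ Subgroup.normalizer (R : Set G)) {k : ℕ} (hk : Odd k) (hgk : g ^ k = 1) :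
    (Nat.card R ≠ 8 → ∀ x ∈ R, g * x * g⁻¹ = x) ∧
      (∀ x ∈ R, g ^ 3 * x * (g ^ 3)⁻¹ = x) := by
  set α : MulAut R := R.normalizerMonoidHom ⟨g, hg⟩ with hαdef
  have hα : α ^ k = 1 := by
    rw [hαdef, ← map_pow]
    have : (⟨g, hg⟩ : Subgroup.normalizer (R : Set G)) ^ k = 1 := by
      apply Subtype.ext
      simp [hgk]
    rw [this, map_one]
  have huniq' : ∀ x y : R, orderOf x = 2 → orderOf y = 2 → x = y := by
    intro x y hx hy
    apply Subtype.ext
    apply huniq x x.2 y y.2
    · rw [Subgroup.orderOf_coe]; exact hx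
    · rw [Subgroup.orderOf_coe]; exact hy
  obtain ⟨h1, h2⟩ := main hR huniq' α hk hα
  constructor
  · intro hc x hx
    have := h1 hc
    have h3 : α ⟨x, hx⟩ = ⟨x, hx⟩ := by rw [this]; rfl
    have h4 := congrArg Subtype.val h3
    simpa [hαdef] using h4
  · intro x hx
    have h3 : (α ^ 3) ⟨x, hx⟩ = ⟨x, hx⟩ := by rw [h2]; rfl
    have h5 : α ^ 3 = R.normalizerMonoidHom (⟨g, hg⟩ ^ 3) := by
      rw [hαdef, map_pow]
    rw [h5] at h3
    have h4 := congrArg Subtype.val h3
    simpa using h4

end Cfsg.Agent.Lib.helper6.QAut
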