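import Mathlib
import Cfsg.Agent.S0071
import Cfsg.Agent.S0016
import Cfsg.Agent.S2910
import Cfsg.Agent.Lib.helper6.QAut

set_option autoImplicit false

namespace Cfsg.Agent.Lib.helper6.NPC23

/-- A finite group of order prime to 3 in which any two involutions are equal has a normal
2-complement. -/
theorem normal_two_complement {G : Type*} [Group G] [Finite G]
    (huniq : ∀ x y : G, orderOf x = 2 → orderOf y = 2 → x = y)
    (h3 : ¬ 3 ∣ Nat.card G) (P : Sylow 2 G) :
    ∃ N : Subgroup G, N.Normal ∧ N.IsComplement' (P : Subgroup G) := by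
  rw [Cfsg.Agent.S0071.result P]
  intro R hR g hg hcop
  have hRp : IsPGroup 2 R := P.2.to_le hR
  have hodd : Odd (orderOf g) := Nat.coprime_two_right.mp hcop
  have hgk : g ^ orderOf g = 1 := pow_orderOf_eq_one g
  obtain ⟨-, h2⟩ := QAut.conj_lemma R hRp (fun x _ y _ hx hy => huniq x y hx hy) g hg hodd hgk
  have hc3 : Nat.Coprime 3 (orderOf g) := by
    rw [Nat.Prime.coprime_iff_not_dvd Nat.prime_three]
    intro hd
    exact h3 (hd.trans (orderOf_dvd_natCard g))
  obtain ⟨m, hm⟩ := exists_pow_eq_self_of_coprime hc3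
  rw [Subgroup.mem_centralizer_iff]
  intro x hx
  have h4 : ∀ r : ℕ, (g ^ 3) ^ r * x * ((g ^ 3) ^ r)⁻¹ = x := by
    intro r
    induction r with
    | zero => simp
    | succ r ih =>
      calc (g ^ 3) ^ (r + 1) * x * ((g ^ 3) ^ (r + 1))⁻¹
          = (g ^ 3) * ((g ^ 3) ^ r * x * ((g ^ 3) ^ r)⁻¹) * (g ^ 3)⁻¹ := by
            rw [pow_succ']; group
        _ = x := by rw [ih, h2 x hx]
  have h5 := h4 m
  rw [hm] at h5
  calc x * g = (g * x * g⁻¹) * g := by rw [h5]
    _ = g * x := by group

/-- A finite group in which all elements of order 3 are central has a normal 3-complement. -/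
theorem normal_three_complement {G : Type*} [Group G] [Finite G]
    (hcen : ∀ x : G, orderOf x = 3 → x ∈ Subgroup.center G) :
    ∃ (P : Sylow 3 G) (N : Subgroup G), N.Normal ∧ N.IsComplement' (P : Subgroup G) := by
  haveI : Fact (Nat.Prime 3) := ⟨Nat.prime_three⟩
  by_cases h3 : 3 ∣ Nat.card G
  · obtain ⟨P⟩ : Nonempty (Sylow 3 G) := inferInstance
    have hZ : Cfsg.omegaOne 3 (P : Subgroup G) ≤ Subgroup.center G := by
      unfold Cfsg.omegaOne
      rw [Subgroup.closure_le]
      rintro x ⟨-, hx3⟩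
      by_cases hx1 : x = 1
      · subst hx1; exact Subgroup.one_mem _
      · apply hcen
        exact orderOf_eq_prime hx3 hx1
    exact (Cfsg.Agent.S2910.result (by norm_num) h3 P hZ).1
  · obtain ⟨P⟩ : Nonempty (Sylow 3 G) := inferInstance
    refine ⟨P, ⊤, inferInstance, ?_⟩
    have hP : (P : Subgroup G) = ⊥ := by
      rw [← Subgroup.card_eq_one]
      obtain ⟨n, hn⟩ := P.2.exists_card_eq
      rcases Nat.eq_zero_or_pos n with h0 | h0
      · rw [hn, h0, pow_zero]
      · exfalso
        apply h3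
        calc 3 ∣ 3 ^ n := dvd_pow_self 3 (by omega)
          _ = Nat.card P := hn.symm
          _ ∣ Nat.card G := Subgroup.card_subgroup_dvd_card _
    rw [hP]
    exact Subgroup.isComplement'_top_bot

end Cfsg.Agent.Lib.helper6.NPC23
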