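import Mathlib
import Cfsg.Agent.Lib.helper6.ZPa3

set_option autoImplicit false

namespace Cfsg.Agent.Lib.helper6.ZP

/-- a homomorphism from a perfect group to a solvable group is trivial -/
theorem perfect_hom_trivial {G A : Type*} [Group G] [Group A] (hperf : commutator G = ⊤)
    [hA : Group.IsSolvable A] (φ : G →* A) (g : G) : φ g = 1 := by
  have h1 : ∀ n, derivedSeries G n = ⊤ := by
    intro n
    induction n with
    | zero => rfl
    | succ n ih => rw [derivedSeries_succ, ih, ← commutator_def, hperf]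
  obtain ⟨n, hn⟩ := hA.solvable
  have h2 := map_derivedSeries_le_derivedSeries φ n
  rw [h1, hn] at h2
  have : φ g ∈ (⊤ : Subgroup G).map φ := Subgroup.mem_map_of_mem φ (Subgroup.mem_top g)
  exact (Subgroup.mem_bot).mp (h2 this)

/-- a finite group which is not solvable has a nontrivial perfect subgroup -/
theorem exists_perfect_of_not_solvable {M : Type*} [Group M] [Finite M] (h : ¬ Group.IsSolvable M) :
    ∃ K : Subgroup M, K ≠ ⊥ ∧ ⁅K, K⁆ = K := by
  have hne : ∀ n, derivedSeries M n ≠ ⊥ := fun n hn => h ⟨⟨n, hn⟩⟩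
  by_contra hcon
  push Not at hcon
  have hlt : ∀ n, Nat.card (derivedSeries M (n + 1)) < Nat.card (derivedSeries M n) := by
    intro n
    have hle : derivedSeries M (n + 1) ≤ derivedSeries M n := by
      rw [derivedSeries_succ]
      exact Subgroup.commutator_le_left _ _
    have hne' : derivedSeries M (n + 1) ≠ derivedSeries M n := by
      rw [derivedSeries_succ]
      exact hcon _ (hne n)
    have hlt' := lt_of_le_of_ne hle hne'
    exact Set.ncard_lt_ncard (SetLike.coe_ssubset_coe.mpr hlt') (Set.toFinite _)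
  have hbound : ∀ n, Nat.card (derivedSeries M n) + n ≤ Nat.card (derivedSeries M 0) := by
    intro n
    induction n with
    | zero => simp
    | succ n ih =>
      have := hlt n
      omega
  have := hbound (Nat.card (derivedSeries M 0) + 1)
  omega

/-- a nonzero number whose prime factors are two and three -/
theorem eq_two_pow_mul_three_pow : ∀ n : ℕ, n ≠ 0 →
    (∀ p, p.Prime → p ∣ n → p = 2 ∨ p = 3) → ∃ a b, n = 2 ^ a * 3 ^ b := by
  intro n
  induction n using Nat.strong_induction_on with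
  | _ n ih =>
    intro hn h
    by_cases h1 : n = 1
    · exact ⟨0, 0, by rw [h1]; rfl⟩
    · obtain ⟨p, hp, hpn⟩ := Nat.exists_prime_and_dvd h1
      obtain ⟨m, rfl⟩ := hpn
      have hm0 : m ≠ 0 := by
        intro h0
        apply hn
        rw [h0, mul_zero]
      have hmlt : m < p * m := by
        have := hp.two_le
        have hmpos : 0 < m := Nat.pos_of_ne_zero hm0
        nlinarith
      obtain ⟨a, b, hab⟩ := ih m hmlt hm0 (fun q hq hqm => h q hq (Dvd.dvd.mul_left hqm p))
      rcases h p hp (Dvd.intro m rfl) with h2 | h3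
      · exact ⟨a + 1, b, by rw [hab, h2]; ring⟩
      · exact ⟨a, b + 1, by rw [hab, h3]; ring⟩

theorem quat_noncomm (n : ℕ) (hn : 1 ≤ n) :
    ∃ x y : QuaternionGroup (2 ^ n), x * y ≠ y * x := by
  refine ⟨QuaternionGroup.xa 0, QuaternionGroup.a 1, ?_⟩
  rw [QuaternionGroup.xa_mul_a, QuaternionGroup.a_mul_xa]
  intro h
  have h1 := QuaternionGroup.xa.inj h
  have h2 : (2 : ZMod (2 * 2 ^ n)) = 0 := by
    have : (0 : ZMod (2 * 2 ^ n)) + 1 - (0 - 1) = 0 := by rw [h1]; ring
    rw [← this]; ring
  have h3 : ((2 : ℕ) : ZMod (2 * 2 ^ n)) = 0 := by exact_mod_cast h2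
  rw [ZMod.natCast_eq_zero_iff] at h3
  have h4 : 2 * 2 ^ n ≤ 2 := Nat.le_of_dvd (by norm_num) h3
  have h5 : 2 ^ 1 ≤ 2 ^ n := Nat.pow_le_pow_right (by norm_num) hn
  omega

/-- two elements of order four in a quaternion group which are neither equal nor inverse -/
theorem quat_two_order_four (n : ℕ) (hn : 1 ≤ n) :
    ∃ x y : QuaternionGroup (2 ^ n), orderOf x = 4 ∧ orderOf y = 4 ∧ x ≠ y ∧ x ≠ y⁻¹ := by
  haveI : NeZero (2 ^ n) := ⟨by positivity⟩
  refine ⟨QuaternionGroup.xa 0, QuaternionGroup.xa 1, QuaternionGroup.orderOf_xa 0,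
    QuaternionGroup.orderOf_xa 1, ?_, ?_⟩
  · intro h
    have h1 := QuaternionGroup.xa.inj h
    have h5 : 2 ^ 1 ≤ 2 ^ n := Nat.pow_le_pow_right (by norm_num) hn
    haveI : Fact (1 < 2 * 2 ^ n) := ⟨by omega⟩
    exact zero_ne_one h1
  · intro h
    have h0 : QuaternionGroup.xa (0 : ZMod (2 * 2 ^ n)) * QuaternionGroup.xa 1 = 1 := by
      rw [h, inv_mul_cancel]
    rw [QuaternionGroup.xa_mul_xa, QuaternionGroup.one_def] at h0
    have h1 := QuaternionGroup.a.inj h0
    -- 2^n + 1 = 0
    have h3 : ((2 ^ n + 1 : ℕ) : ZMod (2 * 2 ^ n)) = 0 := by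
      rw [← h1]
      push_cast
      ring
    rw [ZMod.natCast_eq_zero_iff] at h3
    have h4 : 2 * 2 ^ n ≤ 2 ^ n + 1 := Nat.le_of_dvd (by positivity) h3
    have h5 : 2 ^ 1 ≤ 2 ^ n := Nat.pow_le_pow_right (by norm_num) hn
    omega

section rep

variable {r : ℕ} [hr : Fact r.Prime] {V : Type*} [AddCommGroup V] [Module (ZMod r) V] [Finite V]
  [Nontrivial V]
variable {G : Type*} [Group G] [Finite G] {ρ : G →* Module.End (ZMod r) V}

namespace FPF

/-- commutative `p`-subgroups are cyclic -/
theorem isCyclic_of_comm (h : FPF ρ) {p : ℕ} [hp : Fact p.Prime] (P : Subgroup G)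
    (hP : IsPGroup p P) (hc : ∀ x y : P, x * y = y * x) : IsCyclic P := by
  rcases h.pgroup_structure P hP with h1 | ⟨-, n, ⟨e⟩⟩
  · exact h1
  · rcases Nat.eq_zero_or_pos n with h0 | h0
    · subst h0
      haveI := QuaternionGroup.quaternionGroup_one_isCyclic
      exact isCyclic_of_surjective e.symm e.symm.surjective
    · exfalso
      obtain ⟨x, y, hxy⟩ := quat_noncomm n h0
      apply hxy
      have := hc (e.symm x) (e.symm y)
      rw [← map_mul, ← map_mul] at this
      exact e.symm.injective this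

/-- abelian subgroups are cyclic -/
theorem isCyclic_of_comm' (h : FPF ρ) (A : Subgroup G) (hc : ∀ x y : A, x * y = y * x) :
    IsCyclic A := by
  haveI : IsZGroup A := by
    refine ⟨fun p hp P => ?_⟩
    haveI : Fact p.Prime := ⟨hp⟩
    have h1 := (h.comp_subtype A).isCyclic_of_comm (P : Subgroup A) P.2
      (fun x y => Subtype.ext (hc x y))
    exact h1
  haveI : Group.IsNilpotent A := by
    letI : CommGroup A := { (inferInstance : Group A) with mul_comm := hc }
    infer_instance
  infer_instance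

end FPF

end rep

end Cfsg.Agent.Lib.helper6.ZP
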