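import Mathlib
import Cfsg.Agent.Lib.helper6.ZPf
import Cfsg.Agent.Lib.helper6.NPC23

set_option autoImplicit false

namespace Cfsg.Agent.Lib.helper6.ZP

section rep

variable {r : ℕ} [hr : Fact r.Prime] {V : Type*} [AddCommGroup V] [Module (ZMod r) V] [Finite V]
  [Nontrivial V]
variable {G : Type*} [Group G] [Finite G] {ρ : G →* Module.End (ZMod r) V}

/-- the Sylow 2-subgroups of a perfect fixed-point-free group are generalized quaternion of order
at least 8 -/
theorem FPF.exists_quat_sylow (h : FPF ρ) (hperf : commutator G = ⊤) [Nontrivial G] :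
    ∃ (S : Sylow 2 G) (k : ℕ), Nonempty ((S : Subgroup G) ≃* QuaternionGroup (2 ^ (k + 1))) := by
  by_contra hcon
  push Not at hcon
  have hZ : IsZGroup G := by
    refine ⟨fun p hp P => ?_⟩
    haveI : Fact p.Prime := ⟨hp⟩
    rcases h.pgroup_structure (P : Subgroup G) P.2 with h1 | ⟨h2, n, ⟨e⟩⟩
    · exact h1
    · subst h2
      rcases Nat.eq_zero_or_pos n with h0 | h0
      · subst h0
        haveI := QuaternionGroup.quaternionGroup_one_isCyclic
        exact isCyclic_of_surjective e.symm e.symm.surjective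
      · exfalso
        obtain ⟨m, rfl⟩ : ∃ m, n = m + 1 := ⟨n - 1, by omega⟩
        exact (hcon P m).false e
  have := IsZGroup.commutator_lt (G := G)
  rw [hperf] at this
  exact lt_irrefl _ this

/-- the standing hypotheses: a perfect fixed-point-free group with its involution `z` -/
structure Ctx (ρ : G →* Module.End (ZMod r) V) (z : G) : Prop where
  hf : FPF ρ
  hperf : commutator G = ⊤
  hz1 : z ≠ 1
  hz2 : z ^ 2 = 1

theorem FPF.exists_ctx (h : FPF ρ) (hperf : commutator G = ⊤) [Nontrivial G] :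
    ∃ z : G, Ctx ρ z := by
  haveI : Fact (Nat.Prime 2) := ⟨Nat.prime_two⟩
  obtain ⟨S, k, ⟨e⟩⟩ := h.exists_quat_sylow hperf
  have hcard : Nat.card (S : Subgroup G) = 4 * 2 ^ (k + 1) := by
    haveI : NeZero (2 ^ (k + 1)) := ⟨by positivity⟩
    rw [Nat.card_congr e.toEquiv, Nat.card_eq_fintype_card, QuaternionGroup.card]
  have h2 : 2 ∣ Nat.card G := by
    refine dvd_trans ?_ (Subgroup.card_subgroup_dvd_card (S : Subgroup G))
    rw [hcard]
    exact ⟨2 * 2 ^ (k + 1), by ring⟩
  obtain ⟨z, hz⟩ := exists_prime_orderOf_dvd_card' 2 h2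
  refine ⟨z, h, hperf, ?_, ?_⟩
  · intro h1
    rw [h1, orderOf_one] at hz
    omega
  · rw [← hz]; exact pow_orderOf_eq_one z

namespace Ctx

variable {z : G}

theorem zc (c : Ctx ρ z) (x : G) : x * z = z * x := c.hf.invol_central c.hz1 c.hz2 x

theorem invol_eq (c : Ctx ρ z) {g : G} (hg : g ≠ 1) (hg2 : g ^ 2 = 1) : g = z :=
  c.hf.invol_unique hg hg2 c.hz1 c.hz2

theorem orderOf_z (c : Ctx ρ z) : orderOf z = 2 := orderOf_eq_prime c.hz2 c.hz1

theorem eq_z_of_orderOf (c : Ctx ρ z) {g : G} (hg : orderOf g = 2) : g = z := by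
  apply c.invol_eq
  · intro h
    rw [h, orderOf_one] at hg
    omega
  · rw [← hg]; exact pow_orderOf_eq_one g

theorem hom_trivial (c : Ctx ρ z) {A : Type*} [Group A] [Group.IsSolvable A] (φ : G →* A) (g : G) :
    φ g = 1 := perfect_hom_trivial c.hperf φ g

/-- the Sylow 2-subgroups are generalized quaternion of order at least 8 -/
theorem exists_sylow (c : Ctx ρ z) :
    ∃ (S : Sylow 2 G) (k : ℕ), Nonempty ((S : Subgroup G) ≃* QuaternionGroup (2 ^ (k + 1))) := by
  haveI : Nontrivial G := ⟨⟨z, 1, c.hz1⟩⟩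
  exact c.hf.exists_quat_sylow c.hperf

/-- three divides the order -/
theorem three_dvd (c : Ctx ρ z) : 3 ∣ Nat.card G := by
  by_contra h3
  haveI : Fact (Nat.Prime 2) := ⟨Nat.prime_two⟩
  obtain ⟨S, k, ⟨e⟩⟩ := c.exists_sylow
  have huniq : ∀ x y : G, orderOf x = 2 → orderOf y = 2 → x = y := by
    intro x y hx hy
    rw [c.eq_z_of_orderOf hx, c.eq_z_of_orderOf hy]
  obtain ⟨N, hN, hcomp⟩ := Cfsg.Agent.Lib.helper6.NPC23.normal_two_complement huniq h3 S
  haveI := hN
  -- G ⧸ N is a 2-group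
  have hidx : N.index = Nat.card (S : Subgroup G) := by
    have h1 := hcomp.card_mul_card
    have h2 := N.card_mul_index
    have hpos : 0 < Nat.card N := Nat.card_pos
    nlinarith
  have hp : IsPGroup 2 (G ⧸ N) := by
    obtain ⟨m, hm⟩ := S.2.exists_card_eq
    apply IsPGroup.of_card (n := m)
    rw [← Subgroup.index_eq_card, hidx, hm]
  haveI : Group.IsNilpotent (G ⧸ N) := hp.isNilpotent
  have htop : N = ⊤ := by
    rw [eq_top_iff]
    intro g _
    have := c.hom_trivial (QuotientGroup.mk' N) g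
    exact (QuotientGroup.eq_one_iff g).mp this
  rw [htop] at hidx
  rw [Subgroup.index_top] at hidx
  have hcard : Nat.card (S : Subgroup G) = 4 * 2 ^ (k + 1) := by
    haveI : NeZero (2 ^ (k + 1)) := ⟨by positivity⟩
    rw [Nat.card_congr e.toEquiv, Nat.card_eq_fintype_card, QuaternionGroup.card]
  have : 0 < 2 ^ (k + 1) := by positivity
  omega

/-- no central element of odd prime order -/
theorem no_central_odd (c : Ctx ρ z) {p : ℕ} (hp : p.Prime) (hp2 : p ≠ 2) (x : G)
    (hx : ∀ g : G, g * x = x * g) (hxo : orderOf x = p) : False := by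
  haveI : Fact p.Prime := ⟨hp⟩
  obtain ⟨P⟩ : Nonempty (Sylow p G) := inferInstance
  have hcyc : IsCyclic (P : Subgroup G) := by
    rcases c.hf.pgroup_structure (P : Subgroup G) P.2 with h1 | ⟨h2, -⟩
    · exact h1
    · exact absurd h2 hp2
  letI : CommGroup (P : Subgroup G) := IsCyclic.commGroup
  have key : ∀ (k : ℕ) (g₀ : G), g₀⁻¹ * x ^ k * g₀ ∈ (P : Subgroup G) →
      g₀⁻¹ * x ^ k * g₀ = x ^ k := by
    intro k g₀ _
    have h1 : g₀ * x ^ k = x ^ k * g₀ := by
      have : Commute g₀ x := hx g₀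
      exact (this.pow_right k).eq
    rw [mul_assoc, ← h1, inv_mul_cancel_left]
  have h1 := MonoidHom.transfer_eq_pow (MonoidHom.id (P : Subgroup G)) x key
  have h2 := c.hom_trivial (MonoidHom.transfer (MonoidHom.id (P : Subgroup G))) x
  rw [h2] at h1
  have h3 : x ^ (P : Subgroup G).index = 1 := by
    have := congrArg Subtype.val h1.symm
    simpa using this
  have h4 : p ∣ (P : Subgroup G).index := by
    have := orderOf_dvd_of_pow_eq_one h3
    rwa [hxo] at this
  exact P.not_dvd_index h4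

end Ctx

end rep

end Cfsg.Agent.Lib.helper6.ZP
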