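import Mathlib
import Cfsg.Agent.Lib.helper6.ZPf2
import Cfsg.Agent.Lib.helper6.QAut
import Cfsg.Agent.S0144

set_option autoImplicit false

namespace Cfsg.Agent.Lib.helper6.ZP

section rep

variable {r : ℕ} [hr : Fact r.Prime] {V : Type*} [AddCommGroup V] [Module (ZMod r) V] [Finite V]
  [Nontrivial V]
variable {G : Type*} [Group G] [Finite G] {ρ : G →* Module.End (ZMod r) V}

namespace Ctx

variable {z : G}

/-- the center is `{1, z}` -/
theorem center_le (c : Ctx ρ z) (x : G) (hx : ∀ g : G, g * x = x * g) : x = 1 ∨ x = z := by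
  have hn0 : orderOf x ≠ 0 := (orderOf_pos x).ne'
  rcases Nat.eq_two_pow_or_exists_odd_prime_and_dvd (orderOf x) with ⟨m, hm⟩ | ⟨p, hp, hpd, hodd⟩
  · rcases m with _ | _ | m
    · left
      rw [pow_zero] at hm
      exact orderOf_eq_one_iff.mp hm
    · right
      exact c.eq_z_of_orderOf (by rw [hm]; rfl)
    · exfalso
      -- an element of order four in the center
      have h4 : 4 ∣ orderOf x := by
        rw [hm]
        exact ⟨2 ^ m, by ring⟩
      have hy : orderOf (x ^ (orderOf x / 4)) = 4 := orderOf_pow_orderOf_div hn0 h4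
      obtain ⟨y, hyd⟩ : ∃ y, y = x ^ (orderOf x / 4) := ⟨_, rfl⟩
      rw [← hyd] at hy
      have hyc : ∀ g : G, Commute g y := by
        intro g
        rw [hyd]
        exact Commute.pow_right (hx g) _
      obtain ⟨S, k, ⟨e⟩⟩ := c.exists_sylow
      obtain ⟨x₁, x₂, h1, h2, h3, h4'⟩ := quat_two_order_four (k + 1) (by omega)
      have ho1 : orderOf ((e.symm x₁ : (S : Subgroup G)) : G) = 4 := by
        rw [Subgroup.orderOf_coe, MulEquiv.orderOf_eq, h1]
      have ho2 : orderOf ((e.symm x₂ : (S : Subgroup G)) : G) = 4 := by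
        rw [Subgroup.orderOf_coe, MulEquiv.orderOf_eq, h2]
      have e1 := c.hf.eq_or_eq_inv_of_commute ho1 hy (hyc _)
      have e2 := c.hf.eq_or_eq_inv_of_commute ho2 hy (hyc _)
      have hcases : ((e.symm x₁ : (S : Subgroup G)) : G) = ((e.symm x₂ : (S : Subgroup G)) : G) ∨
          ((e.symm x₁ : (S : Subgroup G)) : G) = ((e.symm x₂ : (S : Subgroup G)) : G)⁻¹ := by
        rcases e1 with e1 | e1 <;> rcases e2 with e2 | e2
        · left; rw [e1, e2]
        · right; rw [e1, e2, inv_inv]
        · right; rw [e1, e2]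
        · left; rw [e1, e2]
      rcases hcases with hc | hc
      · apply h3
        apply e.symm.injective
        exact Subtype.ext hc
      · apply h4'
        apply e.symm.injective
        apply Subtype.ext
        rw [hc, map_inv]
        rfl
  · exfalso
    have hp2 : p ≠ 2 := by
      intro h2
      rw [h2] at hodd
      exact (by decide : ¬ Odd 2) hodd
    have hy : orderOf (x ^ (orderOf x / p)) = p := orderOf_pow_orderOf_div hn0 hpd
    refine c.no_central_odd hp hp2 (x ^ (orderOf x / p)) ?_ hy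
    intro g
    exact (Commute.pow_right (hx g) _).eq

/-- abelian normal subgroups lie in `{1, z}` -/
theorem abelian_normal_le (c : Ctx ρ z) (A : Subgroup G) [A.Normal]
    (hc : ∀ x ∈ A, ∀ y ∈ A, x * y = y * x) (x : G) (hx : x ∈ A) : x = 1 ∨ x = z := by
  haveI hcyc : IsCyclic A := c.hf.isCyclic_of_comm' A (fun x y => Subtype.ext (hc x x.2 y y.2))
  haveI : Group.IsSolvable (MulAut A) := by
    apply Group.isSolvable_of_comm
    intro a b
    apply (IsCyclic.mulAutMulEquiv A).injective
    rw [map_mul, map_mul, mul_comm]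
  apply c.center_le
  intro g
  have h1 := c.hom_trivial (MulAut.conjNormal (H := A)) g
  have h2 : ((MulAut.conjNormal g : MulAut A) ⟨x, hx⟩ : G) = x := by rw [h1]; rfl
  rw [MulAut.conjNormal_apply] at h2
  calc g * x = g * x * g⁻¹ * g := by group
    _ = x * g := by rw [h2]

/-- the order of `z * x` for `x` of odd order -/
theorem z_mul_pow (c : Ctx ρ z) (x : G) {p : ℕ} (hp : Odd p) (hx : x ^ p = 1) :
    (z * x) ^ p = z := by
  have hc : Commute z x := (c.zc x).symm
  rw [hc.mul_pow, hx, mul_one]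
  obtain ⟨m, rfl⟩ := hp
  rw [pow_succ, pow_mul, c.hz2, one_pow, one_mul]

/-- a normal subgroup whose commutators lie in `{1, z}` lies in `{1, z}` -/
theorem commutator_le (c : Ctx ρ z) (M : Subgroup G) [hMn : M.Normal]
    (hM : ∀ x ∈ M, ∀ y ∈ M, x * y * x⁻¹ * y⁻¹ = 1 ∨ x * y * x⁻¹ * y⁻¹ = z)
    (x : G) (hx : x ∈ M) : x = 1 ∨ x = z := by
  classical
  haveI : Fact (Nat.Prime 2) := ⟨Nat.prime_two⟩
  -- elements of odd prime order of M are central in M
  have hodd : ∀ p : ℕ, p.Prime → p ≠ 2 → ∀ y ∈ M, orderOf y = p → False := by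
    intro p hp hp2 y hy hyo
    have hpodd : Odd p := hp.odd_of_ne_two hp2
    have hyp : y ^ p = 1 := by rw [← hyo]; exact pow_orderOf_eq_one y
    have hcent : ∀ m ∈ M, m * y = y * m := by
      intro m hm
      rcases hM m hm y hy with h1 | h1
      · calc m * y = m * y * m⁻¹ * y⁻¹ * y * m := by group
          _ = y * m := by rw [h1, one_mul]
      · exfalso
        have h2 : m * y * m⁻¹ = z * y := by
          calc m * y * m⁻¹ = m * y * m⁻¹ * y⁻¹ * y := by group
            _ = z * y := by rw [h1]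
        have h3 : (m * y * m⁻¹) ^ p = 1 := by
          rw [conj_pow, hyp]; group
        rw [h2, c.z_mul_pow y hpodd hyp] at h3
        exact c.hz1 h3
    -- y lies in the abelian normal subgroup M ⊓ C(M)
    have hyC : y ∈ M ⊓ Subgroup.centralizer (M : Set G) := by
      refine Subgroup.mem_inf.mpr ⟨hy, ?_⟩
      rw [Subgroup.mem_centralizer_iff]
      intro m hm
      exact hcent m hm
    have hab : ∀ a ∈ M ⊓ Subgroup.centralizer (M : Set G), ∀ b ∈
        M ⊓ Subgroup.centralizer (M : Set G), a * b = b * a := by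
      intro a ha b hb
      exact ((Subgroup.mem_centralizer_iff.mp (Subgroup.mem_inf.mp hb).2) a
        (Subgroup.mem_inf.mp ha).1)
    rcases c.abelian_normal_le _ hab y hyC with h1 | h1
    · rw [h1, orderOf_one] at hyo
      exact hp.one_lt.ne hyo
    · rw [h1, c.orderOf_z] at hyo
      exact hp2 hyo.symm
  -- M is a 2-group
  have hM2 : IsPGroup 2 M := by
    rcases Nat.eq_two_pow_or_exists_odd_prime_and_dvd (Nat.card M) with ⟨m, hm⟩ | ⟨p, hp, hpd, hpo⟩
    · exact IsPGroup.of_card hm
    · exfalso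
      haveI : Fact p.Prime := ⟨hp⟩
      obtain ⟨y, hy⟩ := exists_prime_orderOf_dvd_card' p hpd
      have hp2 : p ≠ 2 := by
        intro h2
        rw [h2] at hpo
        exact (by decide : ¬ Odd 2) hpo
      exact hodd p hp hp2 (y : G) y.2 (by rw [Subgroup.orderOf_coe, hy])
  -- automorphisms of M form a {2,3}-group
  have huniq : ∀ a b : M, orderOf a = 2 → orderOf b = 2 → a = b := by
    intro a b ha hb
    apply Subtype.ext
    rw [c.eq_z_of_orderOf (by rw [Subgroup.orderOf_coe, ha] : orderOf (a : G) = 2),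
      c.eq_z_of_orderOf (by rw [Subgroup.orderOf_coe, hb] : orderOf (b : G) = 2)]
  haveI : Finite (MulAut M) :=
    Finite.of_injective (fun f : MulAut M => (f : M → M)) DFunLike.coe_injective
  have hprimes : ∀ q : ℕ, q.Prime → q ∣ Nat.card (MulAut M) → q = 2 ∨ q = 3 := by
    intro q hq hqd
    by_cases hq2 : q = 2
    · left; exact hq2
    · right
      haveI : Fact q.Prime := ⟨hq⟩
      obtain ⟨α, hα⟩ := exists_prime_orderOf_dvd_card' q hqd
      have hαq : α ^ q = 1 := by rw [← hα]; exact pow_orderOf_eq_one α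
      have h3 := (Cfsg.Agent.Lib.helper6.QAut.main hM2 huniq α (hq.odd_of_ne_two hq2) hαq).2
      have h4 : q ∣ 3 := by
        rw [← hα]; exact orderOf_dvd_of_pow_eq_one h3
      exact (Nat.prime_dvd_prime_iff_eq hq Nat.prime_three).mp h4
  obtain ⟨a, b, hab⟩ := eq_two_pow_mul_three_pow (Nat.card (MulAut M)) Nat.card_pos.ne' hprimes
  haveI : Group.IsSolvable (MulAut M) :=
    Cfsg.Agent.S0144.result 2 3 a b Nat.prime_two Nat.prime_three hab
  apply c.center_le
  intro g
  have h1 := c.hom_trivial (MulAut.conjNormal (H := M)) g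
  have h2 : ((MulAut.conjNormal g : MulAut M) ⟨x, hx⟩ : G) = x := by rw [h1]; rfl
  rw [MulAut.conjNormal_apply] at h2
  calc g * x = g * x * g⁻¹ * g := by group
    _ = x * g := by rw [h2]

end Ctx

end rep

end Cfsg.Agent.Lib.helper6.ZP
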