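import Mathlib
import Cfsg.Agent.Lib.helper6.ZPf3

set_option autoImplicit false

namespace Cfsg.Agent.Lib.helper6.ZP

section rep

variable {r : ℕ} [hr : Fact r.Prime] {V : Type*} [AddCommGroup V] [Module (ZMod r) V] [Finite V]
  [Nontrivial V]
variable {G : Type*} [Group G] [Finite G] {ρ : G →* Module.End (ZMod r) V}

/-- a perfect subgroup as a perfect group -/
theorem commutator_eq_top_of_perfect (K : Subgroup G) (hK : ⁅K, K⁆ = K) :
    commutator K = ⊤ := by
  apply Subgroup.map_injective K.subtype_injective
  rw [Subgroup.map_subtype_commutator, hK, ← MonoidHom.range_eq_map, Subgroup.range_subtype]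

namespace Ctx

variable {z : G}

set_option maxHeartbeats 800000 in
/-- a nontrivial perfect subgroup cannot normalize a nontrivial `3`-subgroup unless it
centralizes... in fact it never does: the normalizer of a nontrivial `3`-subgroup is solvable -/
theorem normalizer_three_solvable (c : Ctx ρ z) (P : Subgroup G) (hP : IsPGroup 3 P)
    (hP1 : P ≠ ⊥) : Group.IsSolvable (Subgroup.normalizer (P : Set G)) := by
  classical
  haveI : Fact (Nat.Prime 3) := ⟨Nat.prime_three⟩
  by_contra hns
  obtain ⟨K, hK1, hKp⟩ := exists_perfect_of_not_solvable hns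
  -- the group K
  have hfK : FPF (ρ.comp ((Subgroup.normalizer (P : Set G)).subtype.comp K.subtype)) :=
    c.hf.comp_injective _ (by
      intro a b hab
      exact Subtype.ext (Subtype.ext hab))
  have hperfK : commutator K = ⊤ := commutator_eq_top_of_perfect K hKp
  haveI : Nontrivial K := by
    rw [Subgroup.nontrivial_iff_ne_bot]
    exact hK1
  obtain ⟨zK, cK⟩ := hfK.exists_ctx hperfK
  -- an element of order three in K
  obtain ⟨b, hb⟩ := exists_prime_orderOf_dvd_card' 3 cK.three_dvd
  -- an element of order three in P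
  have hP3 : 3 ∣ Nat.card P := by
    obtain ⟨n, hn⟩ := hP.exists_card_eq
    rcases Nat.eq_zero_or_pos n with h0 | h0
    · exfalso
      rw [h0, pow_zero] at hn
      exact hP1 (Subgroup.card_eq_one.mp hn)
    · rw [hn]; exact dvd_pow_self 3 (by omega)
  obtain ⟨x, hx⟩ := exists_prime_orderOf_dvd_card' 3 hP3
  -- P is cyclic, its automorphism group abelian
  haveI hcyc : IsCyclic P := by
    rcases c.hf.pgroup_structure P hP with h1 | ⟨h2, -⟩
    · exact h1
    · omega
  haveI : Group.IsSolvable (MulAut P) := by
    apply Group.isSolvable_of_comm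
    intro a b
    apply (IsCyclic.mulAutMulEquiv P).injective
    rw [map_mul, map_mul, mul_comm]
  -- K centralizes P
  have hcent : ∀ k : K, ∀ y ∈ P, ((k : Subgroup.normalizer (P : Set G)) : G) * y *
      ((k : Subgroup.normalizer (P : Set G)) : G)⁻¹ = y := by
    intro k y hy
    have h1 := perfect_hom_trivial hperfK (P.normalizerMonoidHom.comp K.subtype) k
    have h2 : (P.normalizerMonoidHom.comp K.subtype) k ⟨y, hy⟩ = ⟨y, hy⟩ := by rw [h1]; rfl
    have h3 := congrArg Subtype.val h2
    simpa using h3
  -- b and x commute, so x is a power of b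
  have hbo : orderOf (((b : Subgroup.normalizer (P : Set G)) : G)) = 3 := by
    rw [Subgroup.orderOf_coe, Subgroup.orderOf_coe, hb]
  have hxo : orderOf (x : G) = 3 := by rw [Subgroup.orderOf_coe, hx]
  have hcomm : Commute (x : G) (((b : Subgroup.normalizer (P : Set G)) : G)) := by
    have := hcent b x x.2
    show (x : G) * _ = _ * (x : G)
    calc (x : G) * ((b : Subgroup.normalizer (P : Set G)) : G)
        = (((b : Subgroup.normalizer (P : Set G)) : G) * x *
          ((b : Subgroup.normalizer (P : Set G)) : G)⁻¹) *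
          ((b : Subgroup.normalizer (P : Set G)) : G) := by rw [this]
      _ = ((b : Subgroup.normalizer (P : Set G)) : G) * x := by group
  have hmem := c.hf.mem_zpowers_of_commute Nat.prime_three hcomm hxo hbo
  obtain ⟨j, hj⟩ := Subgroup.mem_zpowers_iff.mp hmem
  -- the element b ^ j of K is central of order three
  have hbj : (((b ^ j : K) : Subgroup.normalizer (P : Set G)) : G) = x := by
    rw [← hj]; simp
  apply cK.no_central_odd Nat.prime_three (by norm_num) (b ^ j)
  · intro g
    apply Subtype.ext
    apply Subtype.ext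
    show ((g : Subgroup.normalizer (P : Set G)) : G) *
      (((b ^ j : K) : Subgroup.normalizer (P : Set G)) : G) =
      (((b ^ j : K) : Subgroup.normalizer (P : Set G)) : G) *
      ((g : Subgroup.normalizer (P : Set G)) : G)
    rw [hbj]
    have := hcent g x x.2
    calc ((g : Subgroup.normalizer (P : Set G)) : G) * x
        = (((g : Subgroup.normalizer (P : Set G)) : G) * x *
          ((g : Subgroup.normalizer (P : Set G)) : G)⁻¹) *
          ((g : Subgroup.normalizer (P : Set G)) : G) := by group
      _ = x * ((g : Subgroup.normalizer (P : Set G)) : G) := by rw [this]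
  · rw [← Subgroup.orderOf_coe, ← Subgroup.orderOf_coe, hbj, hxo]

/-- a nontrivial perfect normal subgroup is everything -/
theorem perfect_normal_eq_top (c : Ctx ρ z) (L : Subgroup G) [hLn : L.Normal] (hL : ⁅L, L⁆ = L)
    (hL1 : L ≠ ⊥) : L = ⊤ := by
  classical
  haveI : Fact (Nat.Prime 3) := ⟨Nat.prime_three⟩
  have hfL : FPF (ρ.comp L.subtype) := c.hf.comp_subtype L
  have hperfL : commutator L = ⊤ := commutator_eq_top_of_perfect L hL
  haveI : Nontrivial L := by
    rw [Subgroup.nontrivial_iff_ne_bot]
    exact hL1
  obtain ⟨zL, cL⟩ := hfL.exists_ctx hperfL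
  obtain ⟨P⟩ : Nonempty (Sylow 3 L) := inferInstance
  have hfrat := Sylow.normalizer_sup_eq_top P
  have hP3 : IsPGroup 3 ((P : Subgroup L).map L.subtype) := P.2.map L.subtype
  have hP1 : (P : Subgroup L).map L.subtype ≠ ⊥ := by
    intro h
    have h1 : (P : Subgroup L) = ⊥ := by
      rw [← Subgroup.map_bot L.subtype] at h
      exact Subgroup.map_injective L.subtype_injective h
    have h2 := P.card_eq_multiplicity
    rw [h1, Subgroup.card_bot] at h2
    have h3 : 3 ∣ Nat.card L := cL.three_dvd
    have h4 : 0 < (Nat.card L).factorization 3 :=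
      (Nat.Prime.factorization_pos_of_dvd Nat.prime_three Nat.card_pos.ne' h3)
    have : 1 < 3 ^ (Nat.card L).factorization 3 := Nat.one_lt_pow h4.ne' (by norm_num)
    omega
  haveI hsol := c.normalizer_three_solvable _ hP3 hP1
  -- G ⧸ L is solvable
  haveI : Group.IsSolvable (G ⧸ L) := by
    apply Group.isSolvable_of_surjective (f := (QuotientGroup.mk' L).comp
      (Subgroup.normalizer (((P : Subgroup L).map L.subtype : Subgroup G) : Set G)).subtype)
    intro q
    obtain ⟨g, rfl⟩ := QuotientGroup.mk'_surjective L q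
    have hg : g ∈ Subgroup.normalizer (((P : Subgroup L).map L.subtype : Subgroup G) : Set G) ⊔ L := by
      rw [hfrat]; exact Subgroup.mem_top g
    rw [Subgroup.mem_sup_of_normal_right] at hg
    obtain ⟨m, hm, l, hl, rfl⟩ := hg
    refine ⟨⟨m, hm⟩, ?_⟩
    show (QuotientGroup.mk' L) m = (QuotientGroup.mk' L) (m * l)
    have hl1 : (QuotientGroup.mk' L) l = 1 := (QuotientGroup.eq_one_iff l).mpr hl
    rw [map_mul, hl1, mul_one]
  rw [eq_top_iff]
  intro g _
  have := c.hom_trivial (QuotientGroup.mk' L) g
  exact (QuotientGroup.eq_one_iff g).mp this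

/-- every proper normal subgroup lies in `{1, z}` -/
theorem normal_le (c : Ctx ρ z) : ∀ (n : ℕ) (N : Subgroup G), Nat.card N = n → N.Normal → N ≠ ⊤ →
    ∀ x ∈ N, x = 1 ∨ x = z := by
  intro n
  induction n using Nat.strong_induction_on with
  | _ n ih =>
    intro N hn hN hNtop
    haveI := hN
    have hle : ⁅N, N⁆ ≤ N := Subgroup.commutator_le_left N N
    by_cases heq : ⁅N, N⁆ = N
    · by_cases hbot : N = ⊥
      · intro x hx
        left
        rw [hbot] at hx
        exact Subgroup.mem_bot.mp hx
      · exact absurd (c.perfect_normal_eq_top N heq hbot) hNtop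
    · have hlt : ⁅N, N⁆ < N := lt_of_le_of_ne hle heq
      have hcard : Nat.card (⁅N, N⁆ : Subgroup G) < n := by
        rw [← hn]
        exact Set.ncard_lt_ncard (SetLike.coe_ssubset_coe.mpr hlt) (Set.toFinite _)
      have h1 := ih _ hcard ⁅N, N⁆ rfl (Subgroup.commutator_normal N N)
        (fun h => hNtop (top_le_iff.mp (h ▸ hle)))
      apply c.commutator_le N
      intro x hx y hy
      apply h1
      have := Subgroup.commutator_mem_commutator hx hy
      rwa [commutatorElement_def] at this

theorem normal_le' (c : Ctx ρ z) (N : Subgroup G) [hN : N.Normal] (hNtop : N ≠ ⊤) (x : G)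
    (hx : x ∈ N) : x = 1 ∨ x = z := c.normal_le _ N rfl hN hNtop x hx

/-- a normal subgroup containing an element outside `{1, z}` is everything -/
theorem normal_eq_top (c : Ctx ρ z) (N : Subgroup G) [hN : N.Normal] (x : G) (hx : x ∈ N)
    (hx1 : x ≠ 1) (hxz : x ≠ z) : N = ⊤ := by
  by_contra hne
  rcases c.normal_le' N hne x hx with h | h
  · exact hx1 h
  · exact hxz h

end Ctx

end rep

end Cfsg.Agent.Lib.helper6.ZP
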