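import Mathlib
import Cfsg.Agent.Lib.helper6.ZPf4
import Cfsg.Agent.Lib.helper6.ZPe

set_option autoImplicit false

namespace Cfsg.Agent.Lib.helper6.ZP

section rep

universe uV

variable {r : ℕ} [hr : Fact r.Prime] {V : Type uV} [AddCommGroup V] [Module (ZMod r) V] [Finite V]
  [Nontrivial V]
variable {G : Type*} [Group G] [Finite G] {ρ : G →* Module.End (ZMod r) V}

namespace Ctx

variable {z : G}

theorem sq_of_order_four (c : Ctx ρ z) {t : G} (ht : orderOf t = 4) : t * t = z := by
  rw [← pow_two]
  apply c.invol_eq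
  · intro h
    have := orderOf_dvd_of_pow_eq_one h
    rw [ht] at this
    omega
  · rw [← pow_mul]
    have := pow_orderOf_eq_one t
    rwa [ht] at this

/-- there is an element of order four -/
theorem exists_order_four (c : Ctx ρ z) : ∃ t : G, orderOf t = 4 := by
  obtain ⟨S, k, ⟨e⟩⟩ := c.exists_sylow
  haveI : NeZero (2 ^ (k + 1)) := ⟨by positivity⟩
  refine ⟨((e.symm (QuaternionGroup.xa 0) : (S : Subgroup G)) : G), ?_⟩
  rw [Subgroup.orderOf_coe, MulEquiv.orderOf_eq, QuaternionGroup.orderOf_xa]

/-- existence of a type A configuration -/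
theorem exists_typeA (c : Ctx ρ z) : ∃ i j a : G, TypeA z i j a := by
  haveI : Fact (Nat.Prime 3) := ⟨Nat.prime_three⟩
  obtain ⟨x, hx⟩ := exists_prime_orderOf_dvd_card' 3 c.three_dvd
  obtain ⟨t₀, ht₀⟩ := c.exists_order_four
  by_cases hex : ∃ t : G, orderOf t = 4 ∧ t * x * t⁻¹ ∉ Subgroup.zpowers x
  · obtain ⟨t, ht, hn⟩ := hex
    exact mixed_pair c.hf c.hz1 c.hz2 (c.sq_of_order_four ht) hx hn
  · exfalso
    push Not at hex
    have hle : Subgroup.normalClosure ({t₀} : Set G) ≤
        Subgroup.normalizer ((Subgroup.zpowers x : Subgroup G) : Set G) := by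
      unfold Subgroup.normalClosure
      rw [Subgroup.closure_le]
      intro y hy
      rw [Group.mem_conjugatesOfSet_iff] at hy
      obtain ⟨b, hb, hconj⟩ := hy
      rw [Set.mem_singleton_iff] at hb
      subst hb
      have hyo : orderOf y = 4 := by
        obtain ⟨g, hg⟩ := isConj_iff.mp hconj
        rw [← hg, ← MulAut.conj_apply, MulEquiv.orderOf_eq, ht₀]
      -- y and y⁻¹ conjugate x into ⟨x⟩
      have hyi : orderOf y⁻¹ = 4 := by rw [orderOf_inv, hyo]
      have h1 := hex y hyo
      have h2 := hex y⁻¹ hyi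
      rw [inv_inv] at h2
      show y ∈ Subgroup.normalizer ((Subgroup.zpowers x : Subgroup G) : Set G)
      rw [Subgroup.mem_normalizer_iff]
      intro w
      constructor
      · intro hw
        obtain ⟨m, rfl⟩ := Subgroup.mem_zpowers_iff.mp hw
        have : y * x ^ m * y⁻¹ = (y * x * y⁻¹) ^ m := by rw [conj_zpow]
        rw [this]
        exact Subgroup.zpow_mem _ h1 m
      · intro hw
        obtain ⟨m, hm⟩ := Subgroup.mem_zpowers_iff.mp hw
        have h3 : w = y⁻¹ * x ^ m * y := by rw [hm]; group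
        have h4 : y⁻¹ * x ^ m * y = (y⁻¹ * x * y) ^ m := by
          have := conj_zpow (a := y⁻¹) (b := x) (i := m)
          rw [inv_inv] at this
          exact this.symm
        rw [h3, h4]
        exact Subgroup.zpow_mem _ h2 m
    have ht₀1 : t₀ ≠ 1 := by
      intro h
      rw [h, orderOf_one] at ht₀
      omega
    have ht₀z : t₀ ≠ z := by
      intro h
      rw [h, c.orderOf_z] at ht₀
      omega
    have htop := c.normal_eq_top (Subgroup.normalClosure ({t₀} : Set G)) t₀
      (Subgroup.subset_normalClosure (Set.mem_singleton t₀)) ht₀1 ht₀z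
    rw [htop, top_le_iff] at hle
    haveI : (Subgroup.zpowers x).Normal := Subgroup.normalizer_eq_top_iff.mp hle
    have hab : ∀ a ∈ Subgroup.zpowers x, ∀ b ∈ Subgroup.zpowers x, a * b = b * a := by
      intro a ha b hb
      obtain ⟨m, rfl⟩ := Subgroup.mem_zpowers_iff.mp ha
      obtain ⟨n, rfl⟩ := Subgroup.mem_zpowers_iff.mp hb
      rw [← zpow_add, ← zpow_add, add_comm]
    rcases c.abelian_normal_le (Subgroup.zpowers x) hab x (Subgroup.mem_zpowers x) with h | h
    · rw [h, orderOf_one] at hx
      omega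
    · rw [h, c.orderOf_z] at hx
      omega

end Ctx

end rep

end Cfsg.Agent.Lib.helper6.ZP
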