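import Mathlib
import Cfsg.Agent.Lib.helper6.ZPg

set_option autoImplicit false

namespace Cfsg.Agent.Lib.helper6.ZP

theorem pow4 {G : Type*} [Group G] (x : G) : x ^ 4 = (x * x) * (x * x) := by
  have : (4 : ℕ) = 2 + 2 := rfl
  rw [this, pow_add, pow_two]

theorem pow3 {G : Type*} [Group G] (x : G) : x ^ 3 = x * (x * x) := by
  rw [← pow_two, ← pow_succ']

namespace TypeA

variable {G : Type*} [Group G] {z i j a : G}

/-- cyclic symmetry of a type A configuration -/
theorem rot (h : TypeA z i j a) : TypeA z j (i * j) a where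
  hz1 := h.hz1
  hz2 := h.hz2
  hzc := h.hzc
  hi := h.hj
  ha := h.ha
  hai := h.haj
  haj := h.a_ij
  hji := by
    calc i * j * j = i * (j * j) := by group
      _ = i * z := by rw [h.hj]
      _ = z * i := h.hzc i
      _ = z * (z * z * i) := by rw [h.zz, one_mul]
      _ = z * (z * i * (j * j)) := by
          rw [h.hj, mul_assoc z i z, h.hzc i, ← mul_assoc]
          simp only [mul_assoc]
      _ = z * (j * i * j) := by rw [h.hji]; simp only [mul_assoc]
      _ = z * (j * (i * j)) := by simp only [mul_assoc]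

theorem i_pow_four (h : TypeA z i j a) : i ^ 4 = 1 := by
  calc i ^ 4 = (i * i) * (i * i) := pow4 i
    _ = 1 := by rw [h.hi, h.zz]

theorem i_mul_j (h : TypeA z i j a) : i * j = j * i ^ 3 := by
  have h1 : j * i ^ 3 = j * i * (i * i) := by rw [pow3, mul_assoc]
  rw [h1, h.hji, h.hi, ← h.hzc, mul_assoc, h.zz, mul_one]

/-- the shape of the elements of the quaternion group -/
theorem mem_form (h : TypeA z i j a) (g : G) (hg : g ∈ Subgroup.closure ({i, j} : Set G)) :
    ∃ b : ℕ, g = i ^ b ∨ g = j * i ^ b := by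
  have hmi : ∀ y : G, (∃ b : ℕ, y = i ^ b ∨ y = j * i ^ b) →
      ∃ b : ℕ, i * y = i ^ b ∨ i * y = j * i ^ b := by
    rintro y ⟨b, rfl | rfl⟩
    · exact ⟨b + 1, Or.inl (by rw [pow_succ']) ⟩
    · refine ⟨b + 3, Or.inr ?_⟩
      rw [← mul_assoc, h.i_mul_j, mul_assoc, ← pow_add, add_comm]
  have hmj : ∀ y : G, (∃ b : ℕ, y = i ^ b ∨ y = j * i ^ b) →
      ∃ b : ℕ, j * y = i ^ b ∨ j * y = j * i ^ b := by
    rintro y ⟨b, rfl | rfl⟩
    · exact ⟨b, Or.inr rfl⟩
    · refine ⟨b + 2, Or.inl ?_⟩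
      rw [← mul_assoc, h.hj, ← h.hi, ← pow_two, ← pow_add, add_comm]
  have hii : i⁻¹ = i * (i * i) := by
    have := h.i_pow_four
    calc i⁻¹ = i⁻¹ * i ^ 4 := by rw [this, mul_one]
      _ = i * (i * i) := by rw [pow4, mul_assoc, inv_mul_cancel_left]
  have hji : j⁻¹ = j * (j * j) := by
    have : j ^ 4 = 1 := by
      calc j ^ 4 = (j * j) * (j * j) := pow4 j
        _ = 1 := by rw [h.hj, h.zz]
    calc j⁻¹ = j⁻¹ * j ^ 4 := by rw [this, mul_one]
      _ = j * (j * j) := by rw [pow4, mul_assoc, inv_mul_cancel_left]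
  induction hg using Subgroup.closure_induction_left with
  | one => exact ⟨0, Or.inl (pow_zero i).symm⟩
  | mul_left x hx y _ ih =>
    rcases hx with rfl | rfl
    · exact hmi y ih
    · exact hmj y ih
  | inv_mul_cancel x hx y _ ih =>
    rcases hx with rfl | rfl
    · rw [hii]
      have := hmi _ (hmi _ (hmi y ih))
      simpa [mul_assoc] using this
    · rw [hji]
      have := hmj _ (hmj _ (hmj y ih))
      simpa [mul_assoc] using this

theorem pow_four (h : TypeA z i j a) (g : G) (hg : g ∈ Subgroup.closure ({i, j} : Set G)) :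
    g ^ 4 = 1 := by
  obtain ⟨b, rfl | rfl⟩ := h.mem_form g hg
  · rw [← pow_mul, mul_comm, pow_mul, h.i_pow_four, one_pow]
  · -- (j i^b)^2 = z
    have hjb : ∀ b : ℕ, i ^ b * j = j * i ^ (3 * b) := by
      intro b
      induction b with
      | zero => simp
      | succ b ih =>
        rw [pow_succ', mul_assoc, ih, ← mul_assoc, h.i_mul_j, mul_assoc, ← pow_add]
        congr 2
        ring
    have h2 : (j * i ^ b) * (j * i ^ b) = z := by
      calc (j * i ^ b) * (j * i ^ b) = j * (i ^ b * j) * i ^ b := by group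
        _ = j * (j * i ^ (3 * b)) * i ^ b := by rw [hjb]
        _ = (j * j) * i ^ (3 * b + b) := by rw [pow_add]; group
        _ = z * (i ^ 4) ^ b := by rw [h.hj, ← pow_mul]; congr 2; ring
        _ = z := by rw [h.i_pow_four, one_pow, mul_one]
    calc (j * i ^ b) ^ 4 = ((j * i ^ b) * (j * i ^ b)) * ((j * i ^ b) * (j * i ^ b)) := pow4 _
      _ = 1 := by rw [h2, h.zz]

theorem isPGroup (h : TypeA z i j a) : IsPGroup 2 (Subgroup.closure ({i, j} : Set G)) := by
  intro g
  refine ⟨2, ?_⟩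
  apply Subtype.ext
  have := h.pow_four g.1 g.2
  simpa using this

end TypeA

end Cfsg.Agent.Lib.helper6.ZP
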