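import Mathlib
import Cfsg.Agent.Lib.helper6.ZPh

set_option autoImplicit false

namespace Cfsg.Agent.Lib.helper6.ZP

/-- two commuting involutions generate a Klein four group -/
theorem klein_closure {T : Type*} [Group T] (u v : T) (hu : u ≠ 1) (hv : v ≠ 1) (huv : u ≠ v)
    (hu2 : u * u = 1) (hv2 : v * v = 1) (hc : u * v = v * u) :
    IsKleinFour (Subgroup.closure ({u, v} : Set T)) ∧
      (∀ x ∈ Subgroup.closure ({u, v} : Set T), x = 1 ∨ x = u ∨ x = v ∨ x = u * v) := by
  have hui : u⁻¹ = u := inv_eq_of_mul_eq_one_right hu2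
  have hvi : v⁻¹ = v := inv_eq_of_mul_eq_one_right hv2
  have hmu : ∀ y : T, (y = 1 ∨ y = u ∨ y = v ∨ y = u * v) →
      (u * y = 1 ∨ u * y = u ∨ u * y = v ∨ u * y = u * v) := by
    rintro y (rfl | rfl | rfl | rfl)
    · right; left; rw [mul_one]
    · left; exact hu2
    · right; right; right; rfl
    · right; right; left; rw [← mul_assoc, hu2, one_mul]
  have hmv : ∀ y : T, (y = 1 ∨ y = u ∨ y = v ∨ y = u * v) →
      (v * y = 1 ∨ v * y = u ∨ v * y = v ∨ v * y = u * v) := by
    rintro y (rfl | rfl | rfl | rfl)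
    · right; right; left; rw [mul_one]
    · right; right; right; exact hc.symm
    · left; exact hv2
    · right; left; rw [← mul_assoc, ← hc, mul_assoc, hv2, mul_one]
  have hform : ∀ x ∈ Subgroup.closure ({u, v} : Set T), x = 1 ∨ x = u ∨ x = v ∨ x = u * v := by
    intro x hx
    induction hx using Subgroup.closure_induction_left with
    | one => left; rfl
    | mul_left x hx y _ ih =>
      rcases hx with rfl | rfl
      · exact hmu y ih
      · exact hmv y ih
    | inv_mul_cancel x hx y _ ih =>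
      rcases hx with rfl | rfl
      · rw [hui]; exact hmu y ih
      · rw [hvi]; exact hmv y ih
  have hum : u ∈ Subgroup.closure ({u, v} : Set T) := Subgroup.subset_closure (by simp)
  have hvm : v ∈ Subgroup.closure ({u, v} : Set T) := Subgroup.subset_closure (by simp)
  have huv1 : u * v ≠ 1 := by
    intro h
    apply huv
    calc u = u * (v * v) := by rw [hv2, mul_one]
      _ = v := by rw [← mul_assoc, h, one_mul]
  have huvu : u * v ≠ u := by
    intro h
    apply hv
    have := congrArg (fun t => u⁻¹ * t) h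
    simpa using this
  have huvv : u * v ≠ v := by
    intro h
    apply hu
    have := congrArg (fun t => t * v⁻¹) h
    simpa using this
  refine ⟨⟨?_, ?_⟩, hform⟩
  · have hset : ((Subgroup.closure ({u, v} : Set T) : Subgroup T) : Set T) = {1, u, v, u * v} := by
      ext x
      constructor
      · intro hx
        rcases hform x hx with h | h | h | h <;> simp [h]
      · rintro (h | h | h | h)
        · rw [h]; exact Subgroup.one_mem _
        · rw [h]; exact hum
        · rw [h]; exact hvm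
        · rw [Set.mem_singleton_iff] at h; rw [h]; exact Subgroup.mul_mem _ hum hvm
    have h1 : Nat.card (Subgroup.closure ({u, v} : Set T)) =
        ((Subgroup.closure ({u, v} : Set T) : Subgroup T) : Set T).ncard := rfl
    rw [h1, hset]
    rw [Set.ncard_insert_of_notMem, Set.ncard_insert_of_notMem, Set.ncard_insert_of_notMem,
      Set.ncard_singleton]
    · simp only [Set.mem_singleton_iff]; exact fun h => huvv h.symm
    · simp only [Set.mem_insert_iff, Set.mem_singleton_iff, not_or]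
      exact ⟨huv, fun h => huvu h.symm⟩
    · simp only [Set.mem_insert_iff, Set.mem_singleton_iff, not_or]
      exact ⟨fun h => hu h.symm, fun h => hv h.symm, fun h => huv1 h.symm⟩
  · haveI : Nontrivial (Subgroup.closure ({u, v} : Set T)) :=
      ⟨⟨⟨u, hum⟩, 1, fun h => hu (congrArg Subtype.val h)⟩⟩
    rw [Monoid.exponent_eq_prime_iff Nat.prime_two]
    intro g hg
    apply orderOf_eq_prime
    · apply Subtype.ext
      rw [pow_two]
      show (g : T) * (g : T) = 1
      rcases hform g.1 g.2 with h | h | h | h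
      · rw [h, one_mul]
      · rw [h, hu2]
      · rw [h, hv2]
      · rw [h]
        calc u * v * (u * v) = u * (v * u) * v := by group
          _ = u * (u * v) * v := by rw [hc]
          _ = (u * u) * (v * v) := by group
          _ = 1 := by rw [hu2, hv2, one_mul]
    · exact hg

theorem quat8_pow_four : ∀ x : QuaternionGroup 2, x ^ 4 = 1 := by
  decide

section rep

universe uV

variable {r : ℕ} [hr : Fact r.Prime] {V : Type uV} [AddCommGroup V] [Module (ZMod r) V] [Finite V]
  [Nontrivial V]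
variable {G : Type*} [Group G] [Finite G] {ρ : G →* Module.End (ZMod r) V}

namespace Ctx

variable {z : G}

/-- the subgroup `{1, z}` is normal -/
theorem zs_normal (c : Ctx ρ z) : (Subgroup.zpowers z).Normal := by
  refine ⟨fun n hn g => ?_⟩
  obtain ⟨k, rfl⟩ := Subgroup.mem_zpowers_iff.mp hn
  have hc : Commute g (z ^ k) := Commute.zpow_right (c.zc g) k
  rw [hc.eq, mul_inv_cancel_right]
  exact Subgroup.zpow_mem _ (Subgroup.mem_zpowers z) k

theorem mem_zs (c : Ctx ρ z) (x : G) : x ∈ Subgroup.zpowers z ↔ x = 1 ∨ x = z := by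
  constructor
  · intro hx
    obtain ⟨k, rfl⟩ := Subgroup.mem_zpowers_iff.mp hx
    rcases Int.emod_two_eq_zero_or_one k with h | h
    · left
      have : k = 2 * (k / 2) := by omega
      rw [this, zpow_mul, zpow_ofNat, c.hz2, one_zpow]
    · right
      have : k = 2 * (k / 2) + 1 := by omega
      rw [this, zpow_add, zpow_mul, zpow_ofNat, c.hz2, one_zpow, one_mul, zpow_one]
  · rintro (rfl | rfl)
    · exact Subgroup.one_mem _
    · exact Subgroup.mem_zpowers _

theorem card_zs (c : Ctx ρ z) : Nat.card (Subgroup.zpowers z) = 2 := by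
  rw [Nat.card_zpowers, c.orderOf_z]

/-- two-elements have order dividing four when the Sylow 2-subgroups are quaternion of order 8 -/
theorem pow_four_of_sylow (_c : Ctx ρ z) (S : Sylow 2 G)
    (e : (S : Subgroup G) ≃* QuaternionGroup 2) (g : G) (m : ℕ) (hg : g ^ 2 ^ m = 1) :
    g ^ 4 = 1 := by
  haveI : Fact (Nat.Prime 2) := ⟨Nat.prime_two⟩
  have hp : IsPGroup 2 (Subgroup.zpowers g) := by
    rintro ⟨x, hx⟩
    obtain ⟨k, rfl⟩ := Subgroup.mem_zpowers_iff.mp hx
    refine ⟨m, ?_⟩
    apply Subtype.ext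
    show (g ^ k) ^ 2 ^ m = 1
    rw [← zpow_natCast, ← zpow_mul, mul_comm, zpow_mul, zpow_natCast, hg, one_zpow]
  obtain ⟨P, hP⟩ := hp.exists_le_sylow
  obtain ⟨h, hh⟩ := MulAction.exists_smul_eq G P S
  have hgP : g ∈ (P : Subgroup G) := hP (Subgroup.mem_zpowers g)
  have hgS : h * g * h⁻¹ ∈ (S : Subgroup G) := by
    rw [← hh]
    rw [Sylow.coe_subgroup_smul, Subgroup.mem_pointwise_smul_iff_inv_smul_mem]
    simp only [MulAut.smul_def, MulAut.conj_inv_apply]
    have : h⁻¹ * (h * g * h⁻¹) * h = g := by group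
    rw [this]
    exact hgP
  have h1 := quat8_pow_four (e ⟨h * g * h⁻¹, hgS⟩)
  rw [← map_pow] at h1
  have h2 : (⟨h * g * h⁻¹, hgS⟩ : (S : Subgroup G)) ^ 4 = 1 := e.injective (by rw [h1, map_one])
  have h3 : (h * g * h⁻¹) ^ 4 = 1 := by
    have := congrArg Subtype.val h2
    simpa using this
  rw [conj_pow] at h3
  calc g ^ 4 = h⁻¹ * (h * g ^ 4 * h⁻¹) * h := by group
    _ = 1 := by rw [h3]; group

/-- centralizing `i` forces moving `j` inside the quaternion group -/
theorem conj_j_form (c : Ctx ρ z) (S : Sylow 2 G) (e : (S : Subgroup G) ≃* QuaternionGroup 2)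
    {i j a : G} (h : TypeA z i j a) (g : G) (hg : g * i = i * g) :
    g * j * g⁻¹ * j⁻¹ = 1 ∨ g * j * g⁻¹ * j⁻¹ = z ∨ g * j * g⁻¹ * j⁻¹ = i ∨
      g * j * g⁻¹ * j⁻¹ = i⁻¹ := by
  obtain ⟨b, hb⟩ : ∃ b, b = g * j * g⁻¹ * j⁻¹ := ⟨_, rfl⟩
  rw [← hb]
  have hjij : j * i⁻¹ * j⁻¹ = i := by
    have h1 : j * i * j⁻¹ = z * i := by
      rw [h.hji]; group
    have h2 : j * i⁻¹ * j⁻¹ = (j * i * j⁻¹)⁻¹ := by group
    have hzi : z⁻¹ = z := inv_eq_of_mul_eq_one_right h.zz
    rw [h2, h1, mul_inv_rev, hzi, ← h.hi, inv_mul_cancel_left]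
  have hjij' : j⁻¹ * i * j = i⁻¹ := by
    calc j⁻¹ * i * j = j⁻¹ * (j * i⁻¹ * j⁻¹) * j := by rw [hjij]
      _ = i⁻¹ := by group
  have hgi : g⁻¹ * i * g = i := by
    calc g⁻¹ * i * g = g⁻¹ * (i * g) := by group
      _ = g⁻¹ * (g * i) := by rw [hg]
      _ = i := by group
  have hgi' : g⁻¹ * i⁻¹ * g = i⁻¹ := by
    calc g⁻¹ * i⁻¹ * g = (g⁻¹ * i * g)⁻¹ := by group
      _ = i⁻¹ := by rw [hgi]
  have hbi : b * i = i * b := by
    have h1 : b * i * b⁻¹ = i := by
      rw [hb]
      calc g * j * g⁻¹ * j⁻¹ * i * (g * j * g⁻¹ * j⁻¹)⁻¹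
          = g * j * (g⁻¹ * (j⁻¹ * i * j) * g) * j⁻¹ * g⁻¹ := by group
        _ = g * j * (g⁻¹ * i⁻¹ * g) * j⁻¹ * g⁻¹ := by rw [hjij']
        _ = g * (j * i⁻¹ * j⁻¹) * g⁻¹ := by rw [hgi']; group
        _ = g * i * g⁻¹ := by rw [hjij]
        _ = i := by rw [hg]; group
    calc b * i = b * i * b⁻¹ * b := by group
      _ = i * b := by rw [h1]
  have hjb : j * b * j⁻¹ = b⁻¹ := by
    rw [hb]
    have hzz : j * j = z := h.hj
    calc j * (g * j * g⁻¹ * j⁻¹) * j⁻¹ = j * g * j * g⁻¹ * (j * j)⁻¹ := by group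
      _ = j * g * j * g⁻¹ * z⁻¹ := by rw [hzz]
      _ = j * g * j * (z⁻¹ * g⁻¹) := by
          have : g⁻¹ * z⁻¹ = z⁻¹ * g⁻¹ := by
            rw [← mul_inv_rev, ← mul_inv_rev, c.zc g]
          rw [mul_assoc (j * g * j), this]
      _ = j * g * j * ((j * j)⁻¹ * g⁻¹) := by rw [hzz]
      _ = (g * j * g⁻¹ * j⁻¹)⁻¹ := by group
  have h8 : b ^ 8 = 1 := h.key_lemma c.hf b hbi hjb
  have h4 : b ^ 4 = 1 := c.pow_four_of_sylow S e b 3 h8
  have hdvd : orderOf b ∣ 4 := orderOf_dvd_of_pow_eq_one h4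
  have hcases : orderOf b = 1 ∨ orderOf b = 2 ∨ orderOf b = 4 := by
    have : orderOf b ∈ Nat.divisors 4 := Nat.mem_divisors.mpr ⟨hdvd, by norm_num⟩
    have h4d : Nat.divisors 4 = {1, 2, 4} := by decide
    rw [h4d] at this
    simpa using this
  rcases hcases with h1 | h2 | h4
  · left; exact orderOf_eq_one_iff.mp h1
  · right; left; exact c.eq_z_of_orderOf h2
  · right; right
    have hio : orderOf i = 4 := by
      have h2 : i ^ 2 ≠ 1 := by
        rw [pow_two, h.hi]; exact h.hz1
      have h3 : i ^ 4 = 1 := h.i_pow_four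
      have hd : orderOf i ∣ 4 := orderOf_dvd_of_pow_eq_one h3
      have : orderOf i ∈ Nat.divisors 4 := Nat.mem_divisors.mpr ⟨hd, by norm_num⟩
      have h4d : Nat.divisors 4 = {1, 2, 4} := by decide
      rw [h4d] at this
      simp only [Finset.mem_insert, Finset.mem_singleton] at this
      rcases this with h5 | h5 | h5
      · exfalso; apply h2; rw [orderOf_eq_one_iff.mp h5, one_pow]
      · exfalso; apply h2; rw [← h5]; exact pow_orderOf_eq_one i
      · exact h5
    exact c.hf.eq_or_eq_inv_of_commute h4 hio hbi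

end Ctx

end rep

end Cfsg.Agent.Lib.helper6.ZP
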