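import Mathlib
import Cfsg.Agent.Lib.helper6.ZPh2
import Cfsg.Agent.S3278
import Cfsg.Agent.S3378

set_option autoImplicit false

namespace Cfsg.Agent.Lib.helper6.ZP

section rep

universe uV uG

variable {r : ℕ} [hr : Fact r.Prime] {V : Type uV} [AddCommGroup V] [Module (ZMod r) V] [Finite V]
  [Nontrivial V]
variable {G : Type uG} [Group G] [Finite G] {ρ : G →* Module.End (ZMod r) V}

namespace Ctx

variable {z : G}

/-- the quotient by `{1, z}` is simple -/
theorem simple_quotient (c : Ctx ρ z) [hN : (Subgroup.zpowers z).Normal] :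
    IsSimpleGroup (G ⧸ Subgroup.zpowers z) := by
  obtain ⟨t, ht⟩ := c.exists_order_four
  have ht1 : t ≠ 1 := by
    intro h
    rw [h, orderOf_one] at ht
    omega
  have htz : t ≠ z := by
    intro h
    rw [h, c.orderOf_z] at ht
    omega
  haveI : Nontrivial (G ⧸ Subgroup.zpowers z) := by
    refine ⟨⟨QuotientGroup.mk' _ t, 1, ?_⟩⟩
    intro h
    have := (QuotientGroup.eq_one_iff t).mp h
    rcases (c.mem_zs t).mp this with h1 | h1
    · exact ht1 h1
    · exact htz h1
  refine ⟨fun N hNn => ?_⟩
  haveI := hNn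
  by_cases htop : N.comap (QuotientGroup.mk' (Subgroup.zpowers z)) = ⊤
  · right
    rw [eq_top_iff]
    intro q _
    obtain ⟨g, rfl⟩ := QuotientGroup.mk'_surjective _ q
    have : g ∈ N.comap (QuotientGroup.mk' (Subgroup.zpowers z)) := by
      rw [htop]; exact Subgroup.mem_top g
    exact this
  · left
    rw [eq_bot_iff]
    intro q hq
    obtain ⟨g, rfl⟩ := QuotientGroup.mk'_surjective _ q
    have hg : g ∈ N.comap (QuotientGroup.mk' (Subgroup.zpowers z)) := hq
    have := c.normal_le' _ htop g hg
    rw [Subgroup.mem_bot]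
    exact (QuotientGroup.eq_one_iff g).mpr ((c.mem_zs g).mpr this)

set_option maxHeartbeats 1600000 in
/-- the case of Sylow 2-subgroups of order 8 -/
theorem main_eight (c : Ctx ρ z) (S : Sylow 2 G) (e : (S : Subgroup G) ≃* QuaternionGroup 2) :
    Nonempty (G ≃* Matrix.SpecialLinearGroup (Fin 2) (ZMod 5)) := by
  classical
  haveI : Fact (Nat.Prime 2) := ⟨Nat.prime_two⟩
  haveI hZn := c.zs_normal
  haveI hsimple := c.simple_quotient
  obtain ⟨i, j, a, h⟩ := c.exists_typeA
  -- the projection
  obtain ⟨π, hπ⟩ : ∃ π : G →* G ⧸ Subgroup.zpowers z, π = QuotientGroup.mk' _ := ⟨_, rfl⟩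
  have hπs : Function.Surjective π := by rw [hπ]; exact QuotientGroup.mk'_surjective _
  have hπ1 : ∀ g : G, π g = 1 ↔ (g = 1 ∨ g = z) := by
    intro g
    rw [hπ, ← c.mem_zs g]
    exact QuotientGroup.eq_one_iff g
  have hπz : π z = 1 := (hπ1 z).mpr (Or.inr rfl)
  have hi1 : π i ≠ 1 := by
    intro hc
    rcases (hπ1 i).mp hc with h1 | h1
    · exact h.i_ne_one h1
    · exact h.i_ne_z h1
  have hj1 : π j ≠ 1 := by
    intro hc
    rcases (hπ1 j).mp hc with h1 | h1
    · exact h.rot.i_ne_one h1
    · exact h.rot.i_ne_z h1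
  have hii : π i * π i = 1 := by rw [← map_mul, h.hi, hπz]
  have hjj : π j * π j = 1 := by rw [← map_mul, h.hj, hπz]
  have hcomm : π i * π j = π j * π i := by
    have h0 : π (j * i) = π (i * j) := by rw [h.hji, map_mul, hπz, one_mul]
    rw [map_mul, map_mul] at h0
    exact h0.symm
  have hij : π i ≠ π j := by
    intro he
    have h1 : π (j * i⁻¹) = 1 := by rw [map_mul, map_inv, he, mul_inv_cancel]
    have hcomm' : j * i = i * j := by
      rcases (hπ1 _).mp h1 with h2 | h2
      · have : j = i := by
          have := congrArg (fun t => t * i) h2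
          simpa using this
        rw [this]
      · have : j = z * i := by
          have := congrArg (fun t => t * i) h2
          simpa using this
        rw [this, mul_assoc, ← mul_assoc i z i, h.hzc i, mul_assoc]
    have h4 := h.hji
    rw [hcomm'] at h4
    apply h.hz1
    have := mul_right_cancel (b := i * j) (a := 1) (c := z) (by rw [one_mul]; exact h4)
    exact this.symm
  obtain ⟨hK, hform⟩ := klein_closure (π i) (π j) hi1 hj1 hij hii hjj hcomm
  have him : π i ∈ Subgroup.closure ({π i, π j} : Set (G ⧸ Subgroup.zpowers z)) :=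
    Subgroup.subset_closure (by simp)
  have hjm : π j ∈ Subgroup.closure ({π i, π j} : Set (G ⧸ Subgroup.zpowers z)) :=
    Subgroup.subset_closure (by simp)
  have hio : orderOf (π i) = 2 := orderOf_eq_prime (by rw [pow_two, hii]) hi1
  -- S₀ centralizes
  have hle : Subgroup.closure ({π i, π j} : Set (G ⧸ Subgroup.zpowers z)) ≤
      Subgroup.centralizer ({π i} : Set (G ⧸ Subgroup.zpowers z)) := by
    rw [Subgroup.closure_le]
    rintro x (rfl | rfl)
    · show π i ∈ Subgroup.centralizer _
      rw [Subgroup.mem_centralizer_iff]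
      intro y hy
      rw [Set.mem_singleton_iff] at hy
      rw [hy]
    · show π j ∈ Subgroup.centralizer _
      rw [Subgroup.mem_centralizer_iff]
      intro y hy
      rw [Set.mem_singleton_iff] at hy
      rw [hy, hcomm]
  -- cardinalities
  have hcardS : Nat.card (S : Subgroup G) = 8 := by
    rw [Nat.card_congr e.toEquiv, Nat.card_eq_fintype_card, QuaternionGroup.card]
  have hcardG : Nat.card G = Nat.card (G ⧸ Subgroup.zpowers z) * 2 := by
    rw [Subgroup.card_eq_card_quotient_mul_card_subgroup (Subgroup.zpowers z), c.card_zs]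
  have hSidx : ¬ 2 ∣ (S : Subgroup G).index := S.not_dvd_index
  have hGS : Nat.card G = 8 * (S : Subgroup G).index := by
    rw [← hcardS, Subgroup.card_mul_index]
  have hS₀ : Nat.card (Subgroup.closure ({π i, π j} : Set (G ⧸ Subgroup.zpowers z))) = 4 :=
    hK.card_four
  have hS₀idx : 4 * (Subgroup.closure ({π i, π j} : Set (G ⧸ Subgroup.zpowers z))).index =
      Nat.card (G ⧸ Subgroup.zpowers z) := by
    rw [← hS₀, Subgroup.card_mul_index]
  have hodd : ¬ 2 ∣ (Subgroup.closure ({π i, π j} : Set (G ⧸ Subgroup.zpowers z))).relIndex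
      (Subgroup.centralizer ({π i} : Set (G ⧸ Subgroup.zpowers z))) := by
    intro hd
    have h1 := dvd_trans hd (Subgroup.relIndex_dvd_index_of_le hle)
    apply hSidx
    have : (Subgroup.closure ({π i, π j} : Set (G ⧸ Subgroup.zpowers z))).index =
        (S : Subgroup G).index := by omega
    rwa [this] at h1
  -- normality
  have hconj_j : ∀ g : G, g * i = i * g → π (g * j * g⁻¹) ∈
      Subgroup.closure ({π i, π j} : Set (G ⧸ Subgroup.zpowers z)) := by
    intro g hg
    have hb : g * j * g⁻¹ = (g * j * g⁻¹ * j⁻¹) * j := by group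
    rw [hb, map_mul]
    apply Subgroup.mul_mem _ _ hjm
    rcases c.conj_j_form S e h g hg with h1 | h1 | h1 | h1
    · rw [h1, map_one]; exact Subgroup.one_mem _
    · rw [h1, hπz]; exact Subgroup.one_mem _
    · rw [h1]; exact him
    · rw [h1, map_inv]; exact Subgroup.inv_mem _ him
  have hnorm : ∀ k ∈ Subgroup.centralizer ({π i} : Set (G ⧸ Subgroup.zpowers z)),
      k * π j * k⁻¹ ∈ Subgroup.closure ({π i, π j} : Set (G ⧸ Subgroup.zpowers z)) := by
    intro k hk
    obtain ⟨g, rfl⟩ := hπs k
    have hki : π i * π g = π g * π i := by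
      rw [Subgroup.mem_centralizer_iff] at hk
      exact hk (π i) (Set.mem_singleton _)
    have h1 : π ((i * g) * (g * i)⁻¹) = 1 := by
      rw [map_mul, map_inv, map_mul, map_mul, hki, mul_inv_cancel]
    rcases (hπ1 _).mp h1 with h2 | h2
    · have hg : g * i = i * g := (mul_inv_eq_one.mp h2).symm
      have := hconj_j g hg
      rwa [map_mul, map_mul, map_inv] at this
    · have hg : i * g = z * (g * i) := mul_inv_eq_iff_eq_mul.mp h2
      -- j * g commutes with i
      have hg' : (j * g) * i = i * (j * g) := by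
        have hij' : i * j = z * (j * i) := by
          rw [h.hji, ← mul_assoc, h.zz, one_mul]
        calc j * g * i = j * (g * i) := by group
          _ = j * (z * (z * (g * i))) := by rw [← mul_assoc z z, h.zz, one_mul]
          _ = j * (z * (i * g)) := by rw [hg]
          _ = z * (j * i) * g := by rw [← mul_assoc j z, h.hzc j]; group
          _ = i * j * g := by rw [← hij']
          _ = i * (j * g) := by group
      have h3 := hconj_j (j * g) hg'
      have h4 : π (j * g * j * (j * g)⁻¹) = π j * (π g * π j * (π g)⁻¹) * (π j)⁻¹ := by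
        rw [mul_inv_rev]
        simp only [map_mul, map_inv]
        group
      rw [h4] at h3
      have h5 : π g * π j * (π g)⁻¹ = (π j)⁻¹ * (π j * (π g * π j * (π g)⁻¹) * (π j)⁻¹) * π j := by
        group
      rw [h5]
      exact Subgroup.mul_mem _ (Subgroup.mul_mem _ (Subgroup.inv_mem _ hjm) h3) hjm
  have hn : ((Subgroup.closure ({π i, π j} : Set (G ⧸ Subgroup.zpowers z))).subgroupOf
      (Subgroup.centralizer ({π i} : Set (G ⧸ Subgroup.zpowers z)))).Normal := by
    rw [Subgroup.normal_subgroupOf_iff hle]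
    intro x k hx hk
    have hki : k * π i * k⁻¹ = π i := by
      rw [Subgroup.mem_centralizer_iff] at hk
      have := hk (π i) (Set.mem_singleton _)
      rw [← this, mul_inv_cancel_right]
    rcases hform x hx with h1 | h1 | h1 | h1
    · rw [h1, mul_one, mul_inv_cancel]; exact Subgroup.one_mem _
    · rw [h1, hki]; exact him
    · rw [h1]; exact hnorm k hk
    · rw [h1]
      have : k * (π i * π j) * k⁻¹ = (k * π i * k⁻¹) * (k * π j * k⁻¹) := by group
      rw [this, hki]
      exact Subgroup.mul_mem _ him (hnorm k hk)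
  -- apply the characterization of A₅
  obtain ⟨eT⟩ := Cfsg.Agent.S3278.result (π i) hio _ hle hK hodd hn
  have hcardT : Nat.card (G ⧸ Subgroup.zpowers z) = 60 := by
    rw [Nat.card_congr eT.toEquiv, nat_card_alternatingGroup, Nat.card_eq_fintype_card,
      Fintype.card_fin]
    rfl
  have hG120 : Nat.card G = 120 := by rw [hcardG, hcardT]
  have hns : ¬ Group.IsSolvable G := by
    intro hsol
    haveI := hsol
    apply c.hz1
    have := c.hom_trivial (MonoidHom.id G) z
    exact this
  apply Cfsg.Agent.S3378.result.1 G hG120 hns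
  intro P
  obtain ⟨g, hg⟩ := MulAction.exists_smul_eq G S P
  rw [← hg]
  exact ⟨(Sylow.equivSMul S g).symm.trans e⟩

end Ctx

end rep

end Cfsg.Agent.Lib.helper6.ZP
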