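import Mathlib
import Cfsg.Agent.Lib.helper6.ZPh3

set_option autoImplicit false

namespace Cfsg.Agent.Lib.helper6.ZP

theorem TypeA.conj {G : Type*} [Group G] {z i j a : G} (h : TypeA z i j a) (g : G) :
    TypeA z (g * i * g⁻¹) (g * j * g⁻¹) (g * a * g⁻¹) where
  hz1 := h.hz1
  hz2 := h.hz2
  hzc := h.hzc
  hi := by
    calc g * i * g⁻¹ * (g * i * g⁻¹) = g * (i * i) * g⁻¹ := by group
      _ = z := by rw [h.hi, h.hzc g, mul_inv_cancel_right]
  ha := by rw [conj_pow, h.ha, mul_one, mul_inv_cancel]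
  hai := by
    calc g * a * g⁻¹ * (g * i * g⁻¹) * (g * a * g⁻¹)⁻¹ = g * (a * i * a⁻¹) * g⁻¹ := by group
      _ = _ := by rw [h.hai]
  haj := by
    calc g * a * g⁻¹ * (g * j * g⁻¹) * (g * a * g⁻¹)⁻¹ = g * (a * j * a⁻¹) * g⁻¹ := by group
      _ = g * i * g⁻¹ * (g * j * g⁻¹) := by rw [h.haj]; group
  hji := by
    calc g * j * g⁻¹ * (g * i * g⁻¹) = g * (j * i) * g⁻¹ := by group
      _ = g * (z * (i * j)) * g⁻¹ := by rw [h.hji]
      _ = (g * z) * (i * j) * g⁻¹ := by group
      _ = z * (g * i * g⁻¹ * (g * j * g⁻¹)) := by rw [h.hzc g]; group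

/-- Sylow conjugation inside a subgroup, elementwise -/
theorem sylow_conj_mem {G : Type*} [Group G] [Finite G] {p : ℕ} [Fact p.Prime]
    (L : Subgroup G) (P : Sylow p L) (y : G) (hyL : y ∈ L) (k : ℕ) (hy : y ^ p ^ k = 1) :
    ∃ n : G, ∃ hn : n ∈ L,
      (⟨n * y * n⁻¹, L.mul_mem (L.mul_mem hn hyL) (L.inv_mem hn)⟩ : L) ∈ P := by
  have hp : IsPGroup p (Subgroup.zpowers (⟨y, hyL⟩ : L)) := by
    rintro ⟨x, hx⟩
    obtain ⟨m, rfl⟩ := Subgroup.mem_zpowers_iff.mp hx
    refine ⟨k, ?_⟩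
    apply Subtype.ext
    show ((⟨y, hyL⟩ : L) ^ m) ^ p ^ k = 1
    have h1 : (⟨y, hyL⟩ : L) ^ p ^ k = 1 := Subtype.ext (by simpa using hy)
    rw [← zpow_natCast, ← zpow_mul, mul_comm, zpow_mul, zpow_natCast, h1, one_zpow]
  obtain ⟨P', hP'⟩ := hp.exists_le_sylow
  obtain ⟨h, hh⟩ := MulAction.exists_smul_eq L P' P
  refine ⟨(h : G), h.2, ?_⟩
  have hyP : (⟨y, hyL⟩ : L) ∈ (P' : Subgroup L) := hP' (Subgroup.mem_zpowers _)
  rw [← hh]
  show _ ∈ ((h • P' : Sylow p L) : Subgroup L)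
  rw [Sylow.coe_subgroup_smul, Subgroup.mem_pointwise_smul_iff_inv_smul_mem]
  simp only [MulAut.smul_def, MulAut.conj_inv_apply]
  convert hyP using 1
  apply Subtype.ext
  simp only [Subgroup.coe_mul, Subgroup.coe_inv]
  group

section pairing

variable {G : Type*} [Group G] {z : G}

/-- commuting up to the central involution `z` -/
def CommZ (z a b : G) : Prop := a * b = b * a ∨ a * b = z * (b * a)

theorem CommZ.symm' (_hzc : ∀ x : G, x * z = z * x) (hzz : z * z = 1) {a b : G}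
    (h : CommZ z a b) : CommZ z b a := by
  rcases h with h | h
  · left; exact h.symm
  · right
    rw [h, ← mul_assoc, hzz, one_mul]

theorem CommZ.mul_right (hzc : ∀ x : G, x * z = z * x) (hzz : z * z = 1) {a b c : G}
    (hb : CommZ z a b) (hc : CommZ z a c) : CommZ z a (b * c) := by
  rcases hb with hb | hb <;> rcases hc with hc | hc
  · left
    rw [← mul_assoc, hb, mul_assoc, hc, mul_assoc]
  · right
    rw [← mul_assoc, hb, mul_assoc, hc, ← mul_assoc b, hzc b]
    group
  · right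
    rw [← mul_assoc, hb, mul_assoc, mul_assoc, hc]
    group
  · left
    rw [← mul_assoc, hb, mul_assoc, mul_assoc, hc, ← mul_assoc b, hzc b, mul_assoc, ← mul_assoc z,
      hzz, one_mul, mul_assoc]

theorem CommZ.inv_right (hzc : ∀ x : G, x * z = z * x) (hzz : z * z = 1) {a b : G}
    (hb : CommZ z a b) : CommZ z a b⁻¹ := by
  have hzi : z⁻¹ = z := inv_eq_of_mul_eq_one_right hzz
  rcases hb with hb | hb
  · left
    calc a * b⁻¹ = b⁻¹ * (b * a) * b⁻¹ := by group
      _ = b⁻¹ * a := by rw [← hb]; group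
  · right
    calc a * b⁻¹ = b⁻¹ * (z * (z * (b * a))) * b⁻¹ := by
          rw [← mul_assoc z z, hzz, one_mul]; group
      _ = b⁻¹ * (z * (a * b)) * b⁻¹ := by rw [hb]
      _ = (b⁻¹ * z) * a := by group
      _ = z * (b⁻¹ * a) := by rw [hzc b⁻¹]; group

theorem CommZ.one_right (a : G) : CommZ z a 1 := by
  left; rw [mul_one, one_mul]

theorem commZ_closure (hzc : ∀ x : G, x * z = z * x) (hzz : z * z = 1) {u v : G}
    (hvu : v * u = z * (u * v)) :
    ∀ q ∈ Subgroup.closure ({u, v} : Set G), ∀ q' ∈ Subgroup.closure ({u, v} : Set G),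
      CommZ z q q' := by
  have huv : CommZ z u v := by
    right
    rw [hvu, ← mul_assoc, hzz, one_mul]
  have hgen : ∀ q ∈ ({u, v} : Set G), ∀ q' ∈ Subgroup.closure ({u, v} : Set G), CommZ z q q' := by
    intro q hq q' hq'
    induction hq' using Subgroup.closure_induction with
    | mem x hx =>
      rcases hq with rfl | rfl <;> rcases hx with rfl | rfl
      · left; rfl
      · exact huv
      · exact huv.symm' hzc hzz
      · left; rfl
    | one => exact CommZ.one_right q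
    | mul x y _ _ hx hy => exact hx.mul_right hzc hzz hy
    | inv x _ hx => exact hx.inv_right hzc hzz
  intro q hq q' hq'
  apply CommZ.symm' hzc hzz
  induction hq using Subgroup.closure_induction with
  | mem x hx => exact (hgen x hx q' hq').symm' hzc hzz
  | one => exact CommZ.one_right q'
  | mul x y _ _ hx hy => exact hx.mul_right hzc hzz hy
  | inv x _ hx => exact hx.inv_right hzc hzz

end pairing

end Cfsg.Agent.Lib.helper6.ZP
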