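import Mathlib
import Cfsg.Agent.Lib.helper6.ZPi

set_option autoImplicit false

namespace Cfsg.Agent.Lib.helper6.ZP

section quat

open QuaternionGroup

variable {n : ℕ}

theorem quat_a_inv (u : ZMod (2 * n)) : (a u : QuaternionGroup n)⁻¹ = a (-u) := by
  apply inv_eq_of_mul_eq_one_right
  rw [a_mul_a, add_neg_cancel, a_zero]

theorem quat_a_comm (u v : ZMod (2 * n)) : (a u : QuaternionGroup n) * a v = a v * a u := by
  rw [a_mul_a, a_mul_a, add_comm]

theorem quat_xa_conj (v : ZMod (2 * n)) :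
    (xa v : QuaternionGroup n) * a 1 * (xa v)⁻¹ = (a 1)⁻¹ := by
  rw [mul_inv_eq_iff_eq_mul, quat_a_inv, xa_mul_a, a_mul_xa]
  congr 1
  ring

theorem quat_form [NeZero n] (v : ZMod (2 * n)) (q : QuaternionGroup n) :
    ∃ t : ℕ, q = (a 1) ^ t ∨ q = (a 1) ^ t * xa v := by
  cases q with
  | a u => exact ⟨u.val, Or.inl (by rw [a_one_pow, ZMod.natCast_zmod_val])⟩
  | xa u =>
    refine ⟨(v - u).val, Or.inr ?_⟩
    rw [a_one_pow, ZMod.natCast_zmod_val, a_mul_xa]
    congr 1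
    ring

theorem quat_pair (qi qj : QuaternionGroup n) (hne : qj * qi ≠ qi * qj) :
    (∃ u v, qi = a u ∧ qj = xa v) ∨ (∃ u v, qj = a u ∧ qi * qj = xa v) ∨
    (∃ u v, qi * qj = a u ∧ qj * (qi * qj) = xa v) := by
  cases qi with
  | a u =>
    cases qj with
    | a v => exact absurd (quat_a_comm v u) hne
    | xa v => exact Or.inl ⟨u, v, rfl, rfl⟩
  | xa u =>
    cases qj with
    | a v => exact Or.inr (Or.inl ⟨v, u + v, rfl, xa_mul_a u v⟩)
    | xa v =>
      right; right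
      exact ⟨_, _, xa_mul_xa u v, by rw [xa_mul_xa, xa_mul_a]⟩

end quat

section rep

universe uV

variable {r : ℕ} [hr : Fact r.Prime] {V : Type uV} [AddCommGroup V] [Module (ZMod r) V] [Finite V]
  [Nontrivial V]
variable {G : Type*} [Group G] [Finite G] {ρ : G →* Module.End (ZMod r) V}

namespace Ctx

variable {z : G}

/-- a type A configuration inside a given Sylow 2-subgroup -/
theorem exists_typeA_in (c : Ctx ρ z) (S : Sylow 2 G) :
    ∃ i j a : G, TypeA z i j a ∧ i ∈ (S : Subgroup G) ∧ j ∈ (S : Subgroup G) := by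
  haveI : Fact (Nat.Prime 2) := ⟨Nat.prime_two⟩
  obtain ⟨i, j, a, h⟩ := c.exists_typeA
  obtain ⟨P, hP⟩ := h.isPGroup.exists_le_sylow
  obtain ⟨g, hg⟩ := MulAction.exists_smul_eq G P S
  have key : ∀ x ∈ Subgroup.closure ({i, j} : Set G), g * x * g⁻¹ ∈ (S : Subgroup G) := by
    intro x hx
    rw [← hg, Sylow.coe_subgroup_smul, Subgroup.mem_pointwise_smul_iff_inv_smul_mem]
    simp only [MulAut.smul_def, MulAut.conj_inv_apply]
    have : g⁻¹ * (g * x * g⁻¹) * g = x := by group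
    rw [this]
    exact hP hx
  exact ⟨g * i * g⁻¹, g * j * g⁻¹, g * a * g⁻¹, h.conj g,
    key i (Subgroup.subset_closure (by simp)), key j (Subgroup.subset_closure (by simp))⟩

set_option maxHeartbeats 800000 in
/-- a generator of the cyclic maximal subgroup adapted to a type A configuration -/
theorem exists_preframe (c : Ctx ρ z) (S : Sylow 2 G) (n : ℕ) [NeZero n]
    (e : (S : Subgroup G) ≃* QuaternionGroup n) :
    ∃ i j a c₀ : G, TypeA z i j a ∧ c₀ ∈ (S : Subgroup G) ∧ j ∈ (S : Subgroup G) ∧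
      c₀ * i = i * c₀ ∧ j * c₀ * j⁻¹ = c₀⁻¹ ∧ orderOf c₀ = 2 * n ∧
      i ∈ Subgroup.zpowers c₀ ∧
      (∀ s ∈ (S : Subgroup G), ∃ t : ℕ, s = c₀ ^ t ∨ s = c₀ ^ t * j) := by
  obtain ⟨i, j, a, h, hi, hj⟩ := c.exists_typeA_in S
  have hgood : ∃ i' j' : G, TypeA z i' j' a ∧ ∃ (hi' : i' ∈ (S : Subgroup G))
      (hj' : j' ∈ (S : Subgroup G)) (u v : ZMod (2 * n)),
      e ⟨i', hi'⟩ = QuaternionGroup.a u ∧ e ⟨j', hj'⟩ = QuaternionGroup.xa v := by
    have hne : e ⟨j, hj⟩ * e ⟨i, hi⟩ ≠ e ⟨i, hi⟩ * e ⟨j, hj⟩ := by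
      rw [← map_mul, ← map_mul]
      intro hc
      have h1 := e.injective hc
      have h2 : j * i = i * j := congrArg Subtype.val h1
      have h3 := h.hji
      rw [h2] at h3
      apply h.hz1
      have := mul_right_cancel (b := i * j) (a := 1) (c := z) (by rw [one_mul]; exact h3)
      exact this.symm
    rcases quat_pair _ _ hne with ⟨u, v, h1, h2⟩ | ⟨u, v, h1, h2⟩ | ⟨u, v, h1, h2⟩
    · exact ⟨i, j, h, hi, hj, u, v, h1, h2⟩
    · refine ⟨j, i * j, h.rot, hj, Subgroup.mul_mem _ hi hj, u, v, h1, ?_⟩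
      rw [← h2, ← map_mul]
      rfl
    · refine ⟨i * j, j * (i * j), h.rot.rot, Subgroup.mul_mem _ hi hj,
        Subgroup.mul_mem _ hj (Subgroup.mul_mem _ hi hj), u, v, ?_, ?_⟩
      · rw [← h1, ← map_mul]
        rfl
      · rw [← h2, ← map_mul, ← map_mul]
        rfl
  obtain ⟨i', j', h', hi', hj', u, v, hu, hv⟩ := hgood
  obtain ⟨c₀, hc₀⟩ : ∃ c₀ : (S : Subgroup G), c₀ = e.symm (QuaternionGroup.a 1) := ⟨_, rfl⟩
  have hec : e c₀ = QuaternionGroup.a 1 := by rw [hc₀, MulEquiv.apply_symm_apply]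
  refine ⟨i', j', a, (c₀ : G), h', c₀.2, hj', ?_, ?_, ?_, ?_, ?_⟩
  · have : c₀ * ⟨i', hi'⟩ = ⟨i', hi'⟩ * c₀ := by
      apply e.injective
      rw [map_mul, map_mul, hec, hu, quat_a_comm]
    exact congrArg Subtype.val this
  · have : (⟨j', hj'⟩ : (S : Subgroup G)) * c₀ * (⟨j', hj'⟩ : (S : Subgroup G))⁻¹ = c₀⁻¹ := by
      apply e.injective
      rw [map_mul, map_mul, map_inv, map_inv, hec, hv, quat_xa_conj]
    exact congrArg Subtype.val this
  · rw [Subgroup.orderOf_coe, ← MulEquiv.orderOf_eq e, hec, QuaternionGroup.orderOf_a_one]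
  · have : (⟨i', hi'⟩ : (S : Subgroup G)) = c₀ ^ u.val := by
      apply e.injective
      rw [map_pow, hec, hu, QuaternionGroup.a_one_pow, ZMod.natCast_zmod_val]
    have h2 : i' = (c₀ : G) ^ u.val := by
      have := congrArg Subtype.val this
      simpa using this
    rw [h2]
    exact Subgroup.pow_mem _ (Subgroup.mem_zpowers _) _
  · intro s hs
    obtain ⟨t, ht⟩ := quat_form v (e ⟨s, hs⟩)
    refine ⟨t, ?_⟩
    rcases ht with ht | ht
    · left
      have : (⟨s, hs⟩ : (S : Subgroup G)) = c₀ ^ t := by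
        apply e.injective
        rw [map_pow, hec, ht]
      have := congrArg Subtype.val this
      simpa using this
    · right
      have : (⟨s, hs⟩ : (S : Subgroup G)) = c₀ ^ t * ⟨j', hj'⟩ := by
        apply e.injective
        rw [map_mul, map_pow, hec, hv, ht]
      have := congrArg Subtype.val this
      simpa using this

end Ctx

end rep

end Cfsg.Agent.Lib.helper6.ZP
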