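import Mathlib
import Cfsg.Agent.Lib.helper6.ZPi2

set_option autoImplicit false

namespace Cfsg.Agent.Lib.helper6.ZP

theorem TypeA.orderOf_i {G : Type*} [Group G] {z i j a : G} (h : TypeA z i j a) :
    orderOf i = 4 := by
  have h2 : i ^ 2 ≠ 1 := by
    rw [pow_two, h.hi]; exact h.hz1
  have h3 : i ^ 4 = 1 := h.i_pow_four
  have hd : orderOf i ∣ 4 := orderOf_dvd_of_pow_eq_one h3
  have : orderOf i ∈ Nat.divisors 4 := Nat.mem_divisors.mpr ⟨hd, by norm_num⟩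
  have h4d : Nat.divisors 4 = {1, 2, 4} := by decide
  rw [h4d] at this
  simp only [Finset.mem_insert, Finset.mem_singleton] at this
  rcases this with h5 | h5 | h5
  · exfalso; apply h2; rw [orderOf_eq_one_iff.mp h5, one_pow]
  · exfalso; apply h2; rw [← h5]; exact pow_orderOf_eq_one i
  · exact h5

/-- order four from `t * t = z` -/
theorem orderOf_eq_four_of_sq {G : Type*} [Group G] {z t : G} (hz1 : z ≠ 1) (hz2 : z ^ 2 = 1)
    (ht : t * t = z) : orderOf t = 4 := by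
  have h2 : t ^ 2 ≠ 1 := by
    rw [pow_two, ht]; exact hz1
  have h3 : t ^ 4 = 1 := by
    rw [pow4, ht, ← pow_two, hz2]
  have hd : orderOf t ∣ 4 := orderOf_dvd_of_pow_eq_one h3
  have : orderOf t ∈ Nat.divisors 4 := Nat.mem_divisors.mpr ⟨hd, by norm_num⟩
  have h4d : Nat.divisors 4 = {1, 2, 4} := by decide
  rw [h4d] at this
  simp only [Finset.mem_insert, Finset.mem_singleton] at this
  rcases this with h5 | h5 | h5
  · exfalso; apply h2; rw [orderOf_eq_one_iff.mp h5, one_pow]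
  · exfalso; apply h2; rw [← h5]; exact pow_orderOf_eq_one t
  · exact h5

/-- the configuration in a Sylow 2-subgroup of order 16 -/
structure Frame {G : Type*} [Group G] (S : Subgroup G) (z i j a c₀ : G) : Prop where
  hT : TypeA z i j a
  hcS : c₀ ∈ S
  hjS : j ∈ S
  hsq : c₀ * c₀ = i
  hinv : j * c₀ * j⁻¹ = c₀⁻¹
  hord : orderOf c₀ = 8
  hform : ∀ s ∈ S, ∃ t : ℕ, s = c₀ ^ t ∨ s = c₀ ^ t * j
  hcard : Nat.card S = 16

section rep

universe uV

variable {r : ℕ} [hr : Fact r.Prime] {V : Type uV} [AddCommGroup V] [Module (ZMod r) V] [Finite V]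
  [Nontrivial V]
variable {G : Type*} [Group G] [Finite G] {ρ : G →* Module.End (ZMod r) V}

namespace Ctx

variable {z : G}

theorem exists_frame (c : Ctx ρ z) (S : Sylow 2 G) (k : ℕ) (hk : 1 ≤ k)
    (e : (S : Subgroup G) ≃* QuaternionGroup (2 ^ (k + 1))) :
    ∃ i j a c₀ : G, Frame (S : Subgroup G) z i j a c₀ := by
  obtain ⟨i, j, a, c₀, h, hcS, hjS, hci, hcj, hord, -, hform⟩ := c.exists_preframe S _ e
  have h8 : c₀ ^ 8 = 1 := h.key_lemma c.hf c₀ hci hcj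
  have hdvd : 2 * 2 ^ (k + 1) ∣ 8 := by rw [← hord]; exact orderOf_dvd_of_pow_eq_one h8
  have hk1 : k = 1 := by
    have h1 : 2 ^ (k + 2) ∣ 2 ^ 3 := by
      have : 2 * 2 ^ (k + 1) = 2 ^ (k + 2) := by ring
      rw [this] at hdvd
      exact hdvd
    have := (Nat.pow_dvd_pow_iff_le_right (by norm_num : 1 < 2)).mp h1
    omega
  subst hk1
  have hord8 : orderOf c₀ = 8 := by rw [hord]; norm_num
  have hcard : Nat.card (S : Subgroup G) = 16 := by
    rw [Nat.card_congr e.toEquiv, Nat.card_eq_fintype_card, QuaternionGroup.card]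
    norm_num
  have ho2 : orderOf (c₀ * c₀) = 4 := by
    rw [← pow_two, orderOf_pow' c₀ (by norm_num : 2 ≠ 0), hord8]
    norm_num
  have hcomm : Commute (c₀ * c₀) i := by
    show c₀ * c₀ * i = i * (c₀ * c₀)
    rw [mul_assoc, hci, ← mul_assoc, hci, mul_assoc]
  rcases c.hf.eq_or_eq_inv_of_commute ho2 h.orderOf_i hcomm with h1 | h1
  · exact ⟨i, j, a, c₀, h, hcS, hjS, h1, hcj, hord8, hform, hcard⟩
  · refine ⟨i, j, a, c₀⁻¹, h, Subgroup.inv_mem _ hcS, hjS, ?_, ?_, ?_, ?_, hcard⟩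
    · rw [← mul_inv_rev, h1, inv_inv]
    · calc j * c₀⁻¹ * j⁻¹ = (j * c₀ * j⁻¹)⁻¹ := by group
        _ = (c₀⁻¹)⁻¹ := by rw [hcj]
    · rw [orderOf_inv, hord8]
    · have hpow : ∀ t : ℕ, c₀ ^ t = c₀⁻¹ ^ (7 * t) := by
        intro t
        rw [inv_pow, eq_inv_iff_mul_eq_one, ← pow_add]
        have : t + 7 * t = 8 * t := by ring
        rw [this, pow_mul, h8, one_pow]
      intro s hs
      obtain ⟨t, ht | ht⟩ := hform s hs
      · exact ⟨7 * t, Or.inl (by rw [ht, hpow])⟩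
      · exact ⟨7 * t, Or.inr (by rw [ht, hpow])⟩

end Ctx

namespace Frame

variable {S : Subgroup G} {z i j a c₀ : G}

theorem hci (f : Frame S z i j a c₀) : c₀ * i = i * c₀ := by
  rw [← f.hsq, mul_assoc]

theorem pow_four (f : Frame S z i j a c₀) : c₀ ^ 4 = z := by
  rw [pow4, f.hsq, f.hT.hi]

theorem pow_eight (f : Frame S z i j a c₀) : c₀ ^ 8 = 1 := by
  rw [← f.hord]; exact pow_orderOf_eq_one c₀

theorem hjc (f : Frame S z i j a c₀) : j * c₀ = c₀⁻¹ * j := by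
  rw [← f.hinv]; group

theorem hjc' (f : Frame S z i j a c₀) : j * c₀⁻¹ = c₀ * j := by
  have : c₀ = j * c₀⁻¹ * j⁻¹ := by
    calc c₀ = (c₀⁻¹)⁻¹ := by group
      _ = (j * c₀ * j⁻¹)⁻¹ := by rw [f.hinv]
      _ = j * c₀⁻¹ * j⁻¹ := by group
  nth_rewrite 2 [this]
  group

/-- `x = c₀ j` squares to `z` -/
theorem hxx (f : Frame S z i j a c₀) : (c₀ * j) * (c₀ * j) = z := by
  calc c₀ * j * (c₀ * j) = c₀ * (j * c₀) * j := by group
    _ = c₀ * (c₀⁻¹ * j) * j := by rw [f.hjc]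
    _ = j * j := by group
    _ = z := f.hT.hj

theorem hxi (f : Frame S z i j a c₀) : (c₀ * j) * i = z * (i * (c₀ * j)) := by
  calc c₀ * j * i = c₀ * (j * i) := by group
    _ = c₀ * (z * (i * j)) := by rw [f.hT.hji]
    _ = (c₀ * z) * i * j := by group
    _ = z * (c₀ * i) * j := by rw [f.hT.hzc c₀]; group
    _ = z * (i * (c₀ * j)) := by rw [f.hci]; group

theorem hcx (f : Frame S z i j a c₀) : c₀ * (c₀ * j) * c₀⁻¹ = i * (c₀ * j) := by
  calc c₀ * (c₀ * j) * c₀⁻¹ = c₀ * c₀ * (j * c₀⁻¹) := by group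
    _ = c₀ * c₀ * (c₀ * j) := by rw [f.hjc']
    _ = i * (c₀ * j) := by rw [f.hsq]

theorem hxS (f : Frame S z i j a c₀) : c₀ * j ∈ S := S.mul_mem f.hcS f.hjS

theorem orderOf_x (f : Frame S z i j a c₀) : orderOf (c₀ * j) = 4 :=
  orderOf_eq_four_of_sq f.hT.hz1 f.hT.hz2 f.hxx

theorem hiS (f : Frame S z i j a c₀) : i ∈ S := by
  rw [← f.hsq]; exact S.mul_mem f.hcS f.hcS

/-- `j` inverts powers of `c₀` -/
theorem hj_pow (f : Frame S z i j a c₀) (t : ℕ) : j * c₀ ^ t * j⁻¹ = (c₀ ^ t)⁻¹ := by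
  have : j * c₀ ^ t * j⁻¹ = (j * c₀ * j⁻¹) ^ t := by rw [conj_pow]
  rw [this, f.hinv, inv_pow]

/-- elements outside the cyclic part square to `z` -/
theorem sq_outside (f : Frame S z i j a c₀) (t : ℕ) : (c₀ ^ t * j) * (c₀ ^ t * j) = z := by
  calc c₀ ^ t * j * (c₀ ^ t * j) = c₀ ^ t * (j * c₀ ^ t * j⁻¹) * (j * j) := by group
    _ = z := by rw [f.hj_pow, mul_inv_cancel, one_mul, f.hT.hj]

theorem x_ne_comm (f : Frame S z i j a c₀) : (c₀ * j) * i ≠ i * (c₀ * j) := by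
  intro hc
  have h1 := f.hxi
  rw [hc] at h1
  apply f.hT.hz1
  have := mul_right_cancel (b := i * (c₀ * j)) (a := 1) (c := z) (by rw [one_mul]; exact h1)
  exact this.symm

/-- `j ∉ ⟨c₀⟩` -/
theorem j_not_mem (f : Frame S z i j a c₀) : j ∉ Subgroup.zpowers c₀ := by
  intro hj
  obtain ⟨m, hm⟩ := Subgroup.mem_zpowers_iff.mp hj
  have hcomm : j * c₀ = c₀ * j := by
    rw [← hm]
    exact ((Commute.refl c₀).zpow_left m).eq
  have h1 := f.hinv
  rw [hcomm, mul_inv_cancel_right] at h1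
  -- c₀ = c₀⁻¹ so c₀^2 = 1, i = 1
  have h2 : c₀ * c₀ = 1 := by
    nth_rewrite 2 [h1]
    exact mul_inv_cancel c₀
  rw [f.hsq] at h2
  exact f.hT.i_ne_one h2

theorem outside_not_mem (f : Frame S z i j a c₀) (t : ℕ) : c₀ ^ t * j ∉ Subgroup.zpowers c₀ := by
  intro hc
  apply f.j_not_mem
  have : j = (c₀ ^ t)⁻¹ * (c₀ ^ t * j) := by group
  rw [this]
  exact Subgroup.mul_mem _ (Subgroup.inv_mem _ (Subgroup.pow_mem _ (Subgroup.mem_zpowers _) _)) hc

theorem zpowers_le (f : Frame S z i j a c₀) : Subgroup.zpowers c₀ ≤ S := by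
  rw [Subgroup.zpowers_le]; exact f.hcS

theorem relIndex_two (f : Frame S z i j a c₀) : (Subgroup.zpowers c₀).relIndex S = 2 := by
  have h1 := Subgroup.card_mul_index ((Subgroup.zpowers c₀).subgroupOf S)
  rw [f.hcard, Nat.card_congr (Subgroup.subgroupOfEquivOfLe f.zpowers_le).toEquiv,
    Nat.card_zpowers, f.hord] at h1
  show ((Subgroup.zpowers c₀).subgroupOf S).index = 2
  omega

end Frame

end rep

end Cfsg.Agent.Lib.helper6.ZP
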