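import Mathlib
import Cfsg.Agent.Lib.helper6.ZPi3
import Cfsg.Agent.Lib.Helper19.TransferTwo

set_option autoImplicit false

namespace Cfsg.Agent.Lib.helper6.ZP

/-- elements conjugating `i` to `i` or `i⁻¹` -/
def invNormalizer {G : Type*} [Group G] (i : G) : Subgroup G where
  carrier := {g | g * i * g⁻¹ = i ∨ g * i * g⁻¹ = i⁻¹}
  one_mem' := Or.inl (by group)
  mul_mem' := by
    intro g h hg hh
    have e : g * h * i * (g * h)⁻¹ = g * (h * i * h⁻¹) * g⁻¹ := by group
    show g * h * i * (g * h)⁻¹ = i ∨ g * h * i * (g * h)⁻¹ = i⁻¹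
    rw [e]
    rcases hh with hh | hh
    · rw [hh]; exact hg
    · rw [hh]
      have e2 : g * i⁻¹ * g⁻¹ = (g * i * g⁻¹)⁻¹ := by group
      rw [e2]
      rcases hg with hg | hg
      · right; rw [hg]
      · left; rw [hg, inv_inv]
  inv_mem' := by
    intro g hg
    show g⁻¹ * i * g⁻¹⁻¹ = i ∨ g⁻¹ * i * g⁻¹⁻¹ = i⁻¹
    rcases hg with hg | hg
    · left
      nth_rewrite 1 [← hg]
      group
    · right
      have : i = g * i⁻¹ * g⁻¹ := by
        calc i = (i⁻¹)⁻¹ := (inv_inv i).symm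
          _ = (g * i * g⁻¹)⁻¹ := by rw [hg]
          _ = g * i⁻¹ * g⁻¹ := by group
      nth_rewrite 1 [this]
      group

theorem mem_invNormalizer {G : Type*} [Group G] (i g : G) :
    g ∈ invNormalizer i ↔ (g * i * g⁻¹ = i ∨ g * i * g⁻¹ = i⁻¹) := Iff.rfl

/-- conjugation maps a closure into a subgroup if it does so on generators -/
theorem conj_closure_mem {G : Type*} [Group G] (g : G) (T : Set G) (K : Subgroup G)
    (h : ∀ s ∈ T, g * s * g⁻¹ ∈ K) : ∀ q ∈ Subgroup.closure T, g * q * g⁻¹ ∈ K := by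
  intro q hq
  induction hq using Subgroup.closure_induction with
  | mem x hx => exact h x hx
  | one => rw [mul_one, mul_inv_cancel]; exact K.one_mem
  | mul x y _ _ hx hy =>
    have : g * (x * y) * g⁻¹ = (g * x * g⁻¹) * (g * y * g⁻¹) := by group
    rw [this]; exact K.mul_mem hx hy
  | inv x _ hx =>
    have : g * x⁻¹ * g⁻¹ = (g * x * g⁻¹)⁻¹ := by group
    rw [this]; exact K.inv_mem hx

section rep

universe uV

variable {r : ℕ} [hr : Fact r.Prime] {V : Type uV} [AddCommGroup V] [Module (ZMod r) V] [Finite V]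
  [Nontrivial V]
variable {G : Type*} [Group G] [Finite G] {ρ : G →* Module.End (ZMod r) V}

namespace Ctx

variable {z i j a c₀ : G}

/-- fusion: `x = c₀ j` is conjugate to `i` or `i⁻¹` -/
theorem fusion (c : Ctx ρ z) (S : Sylow 2 G) (f : Frame (S : Subgroup G) z i j a c₀) :
    ∃ g : G, g * (c₀ * j) * g⁻¹ = i ∨ g * (c₀ * j) * g⁻¹ = i⁻¹ := by
  haveI : Fact (Nat.Prime 2) := ⟨Nat.prime_two⟩
  by_contra hcon
  push Not at hcon
  have hnc : ∀ g : G, g * (c₀ * j) * g⁻¹ ∉ Subgroup.zpowers c₀ := by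
    intro g hg
    have hsq : (g * (c₀ * j) * g⁻¹) * (g * (c₀ * j) * g⁻¹) = z := by
      calc (g * (c₀ * j) * g⁻¹) * (g * (c₀ * j) * g⁻¹) = g * ((c₀ * j) * (c₀ * j)) * g⁻¹ := by group
        _ = z := by rw [f.hxx, c.zc g, mul_inv_cancel_right]
    have ho : orderOf (g * (c₀ * j) * g⁻¹) = 4 := orderOf_eq_four_of_sq c.hz1 c.hz2 hsq
    obtain ⟨m, hm⟩ := Subgroup.mem_zpowers_iff.mp hg
    have hcomm : Commute (g * (c₀ * j) * g⁻¹) i := by
      rw [← hm, ← f.hsq]
      exact ((Commute.refl c₀).mul_right (Commute.refl c₀)).zpow_left m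
    rcases c.hf.eq_or_eq_inv_of_commute ho f.hT.orderOf_i hcomm with h1 | h1
    · exact (hcon g).1 h1
    · exact (hcon g).2 h1
  have hord : ∀ y ∈ (S : Subgroup G), y ∉ Subgroup.zpowers c₀ → 2 ^ (2 - 1) < orderOf y := by
    intro y hy hyn
    obtain ⟨t, ht | ht⟩ := f.hform y hy
    · exfalso; apply hyn; rw [ht]
      exact Subgroup.pow_mem _ (Subgroup.mem_zpowers _) _
    · rw [ht, orderOf_eq_four_of_sq c.hz1 c.hz2 (f.sq_outside t)]
      norm_num
  obtain ⟨K, hKn, hKi, hxK⟩ := Cfsg.Agent.Lib.Helper19.exists_index_two_of_not_conj_mem S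
    (Subgroup.zpowers c₀) f.zpowers_le f.relIndex_two 2 (by norm_num) hord (c₀ * j) f.hxS
    (by rw [f.orderOf_x]; norm_num) hnc
  haveI := hKn
  have hp : IsPGroup 2 (G ⧸ K) := by
    apply IsPGroup.of_card (n := 1)
    rw [← Subgroup.index_eq_card, hKi, pow_one]
  haveI : Group.IsNilpotent (G ⧸ K) := hp.isNilpotent
  have := c.hom_trivial (QuotientGroup.mk' K) (c₀ * j)
  exact hxK ((QuotientGroup.eq_one_iff _).mp this)

/-- the Sylow subgroup normalizes `⟨i⟩` -/
theorem frame_le_invNormalizer (S : Subgroup G) (f : Frame S z i j a c₀) :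
    S ≤ invNormalizer i := by
  intro s hs
  rw [mem_invNormalizer]
  obtain ⟨t, ht | ht⟩ := f.hform s hs
  · left
    rw [ht]
    have : Commute (c₀ ^ t) i := by
      rw [← f.hsq]
      exact ((Commute.refl c₀).mul_right (Commute.refl c₀)).pow_left t
    rw [this.eq, mul_inv_cancel_right]
  · right
    rw [ht]
    have hc : Commute (c₀ ^ t) i⁻¹ := by
      rw [← f.hsq]
      exact (((Commute.refl c₀).mul_right (Commute.refl c₀)).pow_left t).inv_right
    have hji : j * i * j⁻¹ = i⁻¹ := by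
      rw [f.hT.hji]
      have hzi : z⁻¹ = z := inv_eq_of_mul_eq_one_right f.hT.zz
      have : i⁻¹ = z * i := by
        rw [eq_comm, ← mul_inv_eq_one, inv_inv, mul_assoc, f.hT.hi, f.hT.zz]
      rw [this]
      group
    calc c₀ ^ t * j * i * (c₀ ^ t * j)⁻¹ = c₀ ^ t * (j * i * j⁻¹) * (c₀ ^ t)⁻¹ := by group
      _ = i⁻¹ := by rw [hji, hc.eq, mul_inv_cancel_right]

end Ctx

end rep

end Cfsg.Agent.Lib.helper6.ZP
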