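import Mathlib
import Cfsg.Agent.Lib.helper6.ZPi4

set_option autoImplicit false

namespace Cfsg.Agent.Lib.helper6.ZP

section rep

universe uV

variable {r : ℕ} [hr : Fact r.Prime] {V : Type uV} [AddCommGroup V] [Module (ZMod r) V] [Finite V]
  [Nontrivial V]
variable {G : Type*} [Group G] [Finite G] {ρ : G →* Module.End (ZMod r) V}

namespace Frame

variable {S : Subgroup G} {z i j a c₀ : G}

theorem hixi (f : Frame S z i j a c₀) : i * (c₀ * j) * i⁻¹ = (c₀ * j)⁻¹ := by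
  have hzi : z⁻¹ = z := inv_eq_of_mul_eq_one_right f.hT.zz
  have h1 : (c₀ * j)⁻¹ = z * (c₀ * j) := by
    rw [eq_comm, ← mul_inv_eq_one, inv_inv, mul_assoc, f.hxx, f.hT.zz]
  have h2 : i * (c₀ * j) = z * ((c₀ * j) * i) := by
    rw [f.hxi, ← mul_assoc z z, f.hT.zz, one_mul]
  rw [h1, h2]
  group

theorem i_inv (f : Frame S z i j a c₀) : i⁻¹ = z * i := by
  rw [eq_comm, ← mul_inv_eq_one, inv_inv, mul_assoc, f.hT.hi, f.hT.zz]

theorem pow_comm_i (f : Frame S z i j a c₀) (t : ℕ) : c₀ ^ t * i = i * c₀ ^ t := by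
  have : Commute (c₀ ^ t) i := by
    rw [← f.hsq]
    exact ((Commute.refl c₀).mul_right (Commute.refl c₀)).pow_left t
  exact this.eq

theorem conj_outside (f : Frame S z i j a c₀) (m t : ℕ) :
    c₀ ^ m * (c₀ ^ t * j) * (c₀ ^ m)⁻¹ = c₀ ^ (m + t + m) * j := by
  have h1 : j * (c₀ ^ m)⁻¹ * j⁻¹ = c₀ ^ m := by
    calc j * (c₀ ^ m)⁻¹ * j⁻¹ = (j * c₀ ^ m * j⁻¹)⁻¹ := by group
      _ = c₀ ^ m := by rw [f.hj_pow, inv_inv]
  calc c₀ ^ m * (c₀ ^ t * j) * (c₀ ^ m)⁻¹ = c₀ ^ m * c₀ ^ t * (j * (c₀ ^ m)⁻¹ * j⁻¹) * j := by group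
    _ = c₀ ^ (m + t + m) * j := by rw [h1, ← pow_add, ← pow_add]

end Frame

namespace Ctx

variable {z i j a c₀ : G}

set_option maxHeartbeats 800000 in
/-- a conjugating element adapted to the Sylow subgroup -/
theorem exists_conj (c : Ctx ρ z) (S : Sylow 2 G) (f : Frame (S : Subgroup G) z i j a c₀) :
    ∃ g : G, (g * (c₀ * j) * g⁻¹ = i ∨ g * (c₀ * j) * g⁻¹ = i⁻¹) ∧
      (g * i * g⁻¹ = j ∨ g * i * g⁻¹ = c₀ * j) := by
  haveI : Fact (Nat.Prime 2) := ⟨Nat.prime_two⟩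
  obtain ⟨g, hg⟩ := c.fusion S f
  have hSL := frame_le_invNormalizer (S : Subgroup G) f
  have hi₁L : g * i * g⁻¹ ∈ invNormalizer i := by
    rw [mem_invNormalizer]
    right
    have hy : (g * i * g⁻¹) * (g * (c₀ * j) * g⁻¹) * (g * i * g⁻¹)⁻¹ = (g * (c₀ * j) * g⁻¹)⁻¹ := by
      calc (g * i * g⁻¹) * (g * (c₀ * j) * g⁻¹) * (g * i * g⁻¹)⁻¹
          = g * (i * (c₀ * j) * i⁻¹) * g⁻¹ := by group
        _ = (g * (c₀ * j) * g⁻¹)⁻¹ := by rw [f.hixi]; group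
    rcases hg with hg | hg
    · rw [hg] at hy; exact hy
    · rw [hg] at hy
      calc g * i * g⁻¹ * i * (g * i * g⁻¹)⁻¹ = (g * i * g⁻¹ * i⁻¹ * (g * i * g⁻¹)⁻¹)⁻¹ := by group
        _ = i⁻¹ := by rw [hy, inv_inv]
  have h4 : (g * i * g⁻¹) ^ 2 ^ 2 = 1 := by
    rw [conj_pow]
    have : i ^ 2 ^ 2 = 1 := by
      have := f.hT.i_pow_four
      norm_num
      exact this
    rw [this, mul_one, mul_inv_cancel]
  obtain ⟨n, hn, hmem⟩ := sylow_conj_mem (invNormalizer i) (S.subtype hSL) (g * i * g⁻¹) hi₁L 2 h4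
  have hy₁S : n * (g * i * g⁻¹) * n⁻¹ ∈ (S : Subgroup G) := hmem
  -- conjugate of x under n * g
  have hx₁ : n * (g * (c₀ * j) * g⁻¹) * n⁻¹ = i ∨ n * (g * (c₀ * j) * g⁻¹) * n⁻¹ = i⁻¹ := by
    rw [mem_invNormalizer] at hn
    have e2 : n * i⁻¹ * n⁻¹ = (n * i * n⁻¹)⁻¹ := by group
    rcases hg with hg | hg <;> rcases hn with hn | hn
    · left; rw [hg, hn]
    · right; rw [hg, hn]
    · right; rw [hg, e2, hn]
    · left; rw [hg, e2, hn, inv_inv]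
  -- the conjugate of i is outside the cyclic part
  obtain ⟨t, ht | ht⟩ := f.hform _ hy₁S
  · exfalso
    have hcomm : (n * (g * i * g⁻¹) * n⁻¹) * i = i * (n * (g * i * g⁻¹) * n⁻¹) := by
      rw [ht]; exact f.pow_comm_i t
    have hcomm2 : (n * (g * i * g⁻¹) * n⁻¹) * (n * (g * (c₀ * j) * g⁻¹) * n⁻¹) =
        (n * (g * (c₀ * j) * g⁻¹) * n⁻¹) * (n * (g * i * g⁻¹) * n⁻¹) := by
      rcases hx₁ with h1 | h1
      · rw [h1]; exact hcomm
      · rw [h1]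
        have : Commute (n * (g * i * g⁻¹) * n⁻¹) i := hcomm
        exact this.inv_right.eq
    apply f.x_ne_comm
    have e1 : (n * (g * i * g⁻¹) * n⁻¹) * (n * (g * (c₀ * j) * g⁻¹) * n⁻¹) =
        (n * g) * (i * (c₀ * j)) * (n * g)⁻¹ := by group
    have e2 : (n * (g * (c₀ * j) * g⁻¹) * n⁻¹) * (n * (g * i * g⁻¹) * n⁻¹) =
        (n * g) * ((c₀ * j) * i) * (n * g)⁻¹ := by group
    rw [e1, e2] at hcomm2
    have := mul_left_cancel (mul_right_cancel hcomm2)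
    exact this.symm
  · -- normalize
    obtain ⟨m, hm⟩ : ∃ m : ℕ, m = 7 * (t / 2) := ⟨_, rfl⟩
    refine ⟨c₀ ^ m * (n * g), ?_, ?_⟩
    · have e1 : c₀ ^ m * (n * g) * (c₀ * j) * (c₀ ^ m * (n * g))⁻¹ =
          c₀ ^ m * (n * (g * (c₀ * j) * g⁻¹) * n⁻¹) * (c₀ ^ m)⁻¹ := by group
      rw [e1]
      have hci : c₀ ^ m * i * (c₀ ^ m)⁻¹ = i := by
        rw [f.pow_comm_i, mul_inv_cancel_right]
      rcases hx₁ with h1 | h1
      · left; rw [h1, hci]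
      · right; rw [h1]
        calc c₀ ^ m * i⁻¹ * (c₀ ^ m)⁻¹ = (c₀ ^ m * i * (c₀ ^ m)⁻¹)⁻¹ := by group
          _ = i⁻¹ := by rw [hci]
    · have e1 : c₀ ^ m * (n * g) * i * (c₀ ^ m * (n * g))⁻¹ =
          c₀ ^ m * (n * (g * i * g⁻¹) * n⁻¹) * (c₀ ^ m)⁻¹ := by group
      rw [e1, ht, f.conj_outside]
      have h8 := f.pow_eight
      rcases Nat.mod_two_eq_zero_or_one t with h0 | h0
      · left
        have : m + t + m = 8 * (2 * (t / 2)) := by omega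
        rw [this, pow_mul, h8, one_pow, one_mul]
      · right
        have : m + t + m = 8 * (2 * (t / 2)) + 1 := by omega
        rw [this, pow_succ, pow_mul, h8, one_pow, one_mul]

end Ctx

end rep

end Cfsg.Agent.Lib.helper6.ZP
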