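import Mathlib
import Cfsg.Agent.Lib.helper6.ZPi5

set_option autoImplicit false

namespace Cfsg.Agent.Lib.helper6.ZP

theorem conj_mem_centralizer {G : Type*} [Group G] {Q : Subgroup G} {n y : G}
    (hn : n ∈ Subgroup.normalizer (Q : Set G)) (hy : y ∈ Subgroup.centralizer (Q : Set G)) :
    n * y * n⁻¹ ∈ Subgroup.centralizer (Q : Set G) := by
  rw [Subgroup.mem_centralizer_iff] at hy ⊢
  intro q hq
  have hq' : n⁻¹ * q * n ∈ Q := (Subgroup.mem_normalizer_iff''.mp hn q).mp hq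
  have := hy _ hq'
  calc q * (n * y * n⁻¹) = n * ((n⁻¹ * q * n) * y) * n⁻¹ := by group
    _ = n * (y * (n⁻¹ * q * n)) * n⁻¹ := by rw [this]
    _ = n * y * n⁻¹ * q := by group

section rep

universe uV

variable {r : ℕ} [hr : Fact r.Prime] {V : Type uV} [AddCommGroup V] [Module (ZMod r) V] [Finite V]
  [Nontrivial V]
variable {G : Type*} [Group G] [Finite G] {ρ : G →* Module.End (ZMod r) V}

namespace Ctx

variable {z i j a c₀ : G}

set_option maxHeartbeats 800000 in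
/-- no element of order three centralizes the quaternion group of a type A configuration -/
theorem no_cent3_Q (c : Ctx ρ z) (h : TypeA z i j a) (w : G) (hw3 : w ^ 3 = 1) (hw1 : w ≠ 1)
    (hwi : w * i = i * w) (hwj : w * j = j * w) : False := by
  haveI : Fact (Nat.Prime 3) := ⟨Nat.prime_three⟩
  obtain ⟨Q, hQ⟩ : ∃ Q : Subgroup G, Q = Subgroup.closure ({i, j} : Set G) := ⟨_, rfl⟩
  have hiQ : i ∈ Q := by rw [hQ]; exact Subgroup.subset_closure (by simp)
  have hjQ : j ∈ Q := by rw [hQ]; exact Subgroup.subset_closure (by simp)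
  have hwQ : w ∈ Subgroup.centralizer (Q : Set G) := by
    rw [Subgroup.mem_centralizer_iff]
    have hle : Q ≤ Subgroup.centralizer ({w} : Set G) := by
      rw [hQ, Subgroup.closure_le]
      rintro x (rfl | rfl)
      · show x ∈ Subgroup.centralizer _
        rw [Subgroup.mem_centralizer_iff]
        intro y hy
        rw [Set.mem_singleton_iff] at hy
        rw [hy]; exact hwi
      · show x ∈ Subgroup.centralizer _
        rw [Subgroup.mem_centralizer_iff]
        intro y hy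
        rw [Set.mem_singleton_iff] at hy
        rw [hy]; exact hwj
    intro q hq
    have := hle hq
    rw [Subgroup.mem_centralizer_iff] at this
    exact (this w rfl).symm
  have hwL : w ∈ Subgroup.normalizer (Q : Set G) := Subgroup.centralizer_le_normalizer _ hwQ
  have hfor : ∀ q ∈ Q, a * q * a⁻¹ ∈ Q := by
    intro q hq
    rw [hQ] at hq
    apply conj_closure_mem a _ Q _ q hq
    rintro s (rfl | rfl)
    · rw [h.hai]; exact hjQ
    · rw [h.haj]; exact Q.mul_mem hiQ hjQ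
  have haL : a ∈ Subgroup.normalizer (Q : Set G) := by
    rw [Subgroup.mem_normalizer_iff]
    intro q
    constructor
    · exact hfor q
    · intro hq
      have h1 := hfor _ (hfor _ hq)
      have e : a * (a * (a * q * a⁻¹) * a⁻¹) * a⁻¹ = a ^ 3 * q * (a ^ 3)⁻¹ := by
        rw [pow3]; group
      rw [e, h.ha, one_mul, inv_one, mul_one] at h1
      exact h1
  obtain ⟨P₀⟩ := (inferInstance : Nonempty (Sylow 3 (Subgroup.normalizer (Q : Set G))))
  obtain ⟨n₁, hn₁, hm₁⟩ := sylow_conj_mem _ P₀ a haL 1 (by rw [pow_one]; exact h.ha)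
  obtain ⟨n₂, hn₂, hm₂⟩ := sylow_conj_mem _ P₀ w hwL 1 (by rw [pow_one]; exact hw3)
  obtain ⟨P', hP'⟩ : ∃ P' : Subgroup G, P' = (P₀ : Subgroup (Subgroup.normalizer (Q : Set G))).map
    (Subgroup.normalizer (Q : Set G)).subtype := ⟨_, rfl⟩
  have hP'3 : IsPGroup 3 P' := by rw [hP']; exact P₀.2.map _
  have hcyc : IsCyclic P' := by
    rcases c.hf.pgroup_structure P' hP'3 with h1 | ⟨h1, -⟩
    · exact h1
    · omega
  have ha₁ : n₁ * a * n₁⁻¹ ∈ P' := by
    rw [hP']; exact Subgroup.mem_map.mpr ⟨_, hm₁, rfl⟩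
  have hw₁ : n₂ * w * n₂⁻¹ ∈ P' := by
    rw [hP']; exact Subgroup.mem_map.mpr ⟨_, hm₂, rfl⟩
  have hcomm : Commute (n₁ * a * n₁⁻¹) (n₂ * w * n₂⁻¹) := by
    have := cyc_comm (⟨_, ha₁⟩ : P') ⟨_, hw₁⟩
    exact congrArg Subtype.val this
  have hoa : orderOf (n₁ * a * n₁⁻¹) = 3 := by
    apply orderOf_eq_prime
    · rw [conj_pow, h.ha, mul_one, mul_inv_cancel]
    · intro hc
      apply h.a_ne_one
      have : a = n₁⁻¹ * (n₁ * a * n₁⁻¹) * n₁ := by group
      rw [this, hc]; group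
  have how : orderOf (n₂ * w * n₂⁻¹) = 3 := by
    apply orderOf_eq_prime
    · rw [conj_pow, hw3, mul_one, mul_inv_cancel]
    · intro hc
      apply hw1
      have : w = n₂⁻¹ * (n₂ * w * n₂⁻¹) * n₂ := by group
      rw [this, hc]; group
  have hmem := c.hf.mem_zpowers_of_commute Nat.prime_three hcomm hoa how
  have hw₁c : n₂ * w * n₂⁻¹ ∈ Subgroup.centralizer (Q : Set G) := conj_mem_centralizer hn₂ hwQ
  have ha₁c : n₁ * a * n₁⁻¹ ∈ Subgroup.centralizer (Q : Set G) :=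
    (Subgroup.zpowers_le.mpr hw₁c) hmem
  have hac : a ∈ Subgroup.centralizer (Q : Set G) := by
    have := conj_mem_centralizer (Subgroup.inv_mem _ hn₁) ha₁c
    have e : n₁⁻¹ * (n₁ * a * n₁⁻¹) * n₁⁻¹⁻¹ = a := by group
    rwa [e] at this
  rw [Subgroup.mem_centralizer_iff] at hac
  have h1 := hac i hiQ
  apply h.i_ne_j
  rw [← h.hai, ← h1, mul_inv_cancel_right]

set_option maxHeartbeats 800000 in
/-- no element of order three centralizes the second quaternion subgroup -/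
theorem no_cent3 (c : Ctx ρ z) {S : Subgroup G} (f : Frame S z i j a c₀) (w : G) (hw3 : w ^ 3 = 1)
    (hw1 : w ≠ 1) (hwi : w * i = i * w) (hwx : w * (c₀ * j) = (c₀ * j) * w) : False := by
  have hzz := f.hT.zz
  -- no element of order four commutes with both
  have no4 : ∀ q : G, q * q = z → q * i = i * q → q * (c₀ * j) = (c₀ * j) * q → False := by
    intro q hq hqi hqx
    have ho : orderOf q = 4 := orderOf_eq_four_of_sq c.hz1 c.hz2 hq
    apply f.x_ne_comm
    rcases c.hf.eq_or_eq_inv_of_commute ho f.hT.orderOf_i hqi with h1 | h1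
    · rw [h1] at hqx; exact hqx.symm
    · rw [h1] at hqx
      have h2 : Commute i⁻¹ (c₀ * j) := hqx
      exact (Commute.inv_left_iff.mp h2).eq.symm
  obtain ⟨b, hb⟩ : ∃ b : G, b = w⁻¹ * (c₀⁻¹ * w * c₀) := ⟨_, rfl⟩
  have hci : Commute c₀ i := f.hci
  have hwi' : Commute w i := hwi
  have hbi : b * i = i * b := by
    rw [hb]
    exact (hwi'.inv_left.mul_left ((hci.inv_left.mul_left hwi').mul_left hci)).eq
  have hwix : w * (i * (c₀ * j)) = (i * (c₀ * j)) * w := by
    rw [← mul_assoc, hwi, mul_assoc, hwx, ← mul_assoc]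
  have hw'x : (c₀⁻¹ * w * c₀) * (c₀ * j) = (c₀ * j) * (c₀⁻¹ * w * c₀) := by
    calc (c₀⁻¹ * w * c₀) * (c₀ * j) = c₀⁻¹ * (w * (c₀ * (c₀ * j) * c₀⁻¹)) * c₀ := by group
      _ = c₀⁻¹ * ((c₀ * (c₀ * j) * c₀⁻¹) * w) * c₀ := by rw [f.hcx, hwix]
      _ = (c₀ * j) * (c₀⁻¹ * w * c₀) := by group
  have hbx : b * (c₀ * j) = (c₀ * j) * b := by
    rw [hb]
    have h1 : Commute w (c₀ * j) := hwx
    have h2 : Commute (c₀⁻¹ * w * c₀) (c₀ * j) := hw'x
    exact (h1.inv_left.mul_left h2).eq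
  have hjw : j * w * j⁻¹ = c₀⁻¹ * w * c₀ := by
    calc j * w * j⁻¹ = c₀⁻¹ * ((c₀ * j) * w) * j⁻¹ := by group
      _ = c₀⁻¹ * (w * (c₀ * j)) * j⁻¹ := by rw [hwx]
      _ = c₀⁻¹ * w * c₀ := by group
  have hjc' : j * c₀⁻¹ * j⁻¹ = c₀ := by
    calc j * c₀⁻¹ * j⁻¹ = (j * c₀ * j⁻¹)⁻¹ := by group
      _ = c₀ := by rw [f.hinv, inv_inv]
  have hjw' : j * (c₀⁻¹ * w * c₀) * j⁻¹ = w := by
    calc j * (c₀⁻¹ * w * c₀) * j⁻¹ = (j * c₀⁻¹ * j⁻¹) * (j * w * j⁻¹) * (j * c₀ * j⁻¹) := by group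
      _ = w := by rw [hjc', hjw, f.hinv]; group
  have hjb : j * b * j⁻¹ = b⁻¹ := by
    rw [hb]
    calc j * (w⁻¹ * (c₀⁻¹ * w * c₀)) * j⁻¹ = (j * w * j⁻¹)⁻¹ * (j * (c₀⁻¹ * w * c₀) * j⁻¹) := by
          group
      _ = (w⁻¹ * (c₀⁻¹ * w * c₀))⁻¹ := by rw [hjw, hjw']; group
  have h8 : b ^ 8 = 1 := f.hT.key_lemma c.hf b hbi hjb
  have hb1 : b = 1 := by
    by_contra hb1
    by_cases hb4 : b ^ 4 = 1
    · by_cases hb2 : b ^ 2 = 1
      · have hbz : b = z := c.invol_eq hb1 hb2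
        -- w' = w z has order 3 but (w z)^3 = z
        have e1 : c₀⁻¹ * w * c₀ = w * z := by
          rw [← hbz, hb]; group
        have e2 : (c₀⁻¹ * w * c₀) ^ 3 = 1 := by
          have : c₀⁻¹ * w * c₀ = c₀⁻¹ * w * c₀⁻¹⁻¹ := by rw [inv_inv]
          rw [this, conj_pow, hw3, mul_one, mul_inv_cancel]
        have hcz : Commute w z := c.zc w
        rw [e1, hcz.mul_pow, hw3, one_mul] at e2
        apply c.hz1
        have : z ^ 3 = z := by rw [pow_succ, c.hz2, one_mul]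
        rw [← this, e2]
      · have hbz : b ^ 2 = z := c.invol_eq hb2 (by rw [← pow_mul]; exact hb4)
        exact no4 b (by rw [← pow_two]; exact hbz) hbi hbx
    · have hbz : b ^ 4 = z := c.invol_eq hb4 (by rw [← pow_mul]; exact h8)
      have hbi' : Commute b i := hbi
      have hbx' : Commute b (c₀ * j) := hbx
      exact no4 (b * b) (by rw [← pow4]; exact hbz) (hbi'.mul_left hbi').eq (hbx'.mul_left hbx').eq
  have hwc : w * c₀ = c₀ * w := by
    rw [hb1] at hb
    have : c₀⁻¹ * w * c₀ = w := by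
      have := congrArg (fun t => w * t) hb
      simpa using this.symm
    calc w * c₀ = c₀ * (c₀⁻¹ * w * c₀) := by group
      _ = c₀ * w := by rw [this]
  have hwj : w * j = j * w := by
    have h1 : Commute w c₀ := hwc
    have h2 : Commute w (c₀ * j) := hwx
    have : j = c₀⁻¹ * (c₀ * j) := by group
    rw [this]
    exact (h1.inv_right.mul_right h2).eq
  exact c.no_cent3_Q f.hT w hw3 hw1 hwi hwj

end Ctx

end rep

end Cfsg.Agent.Lib.helper6.ZP
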