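import Mathlib
import Cfsg.Agent.Lib.helper6.ZPi6

set_option autoImplicit false

namespace Cfsg.Agent.Lib.helper6.ZP

/-- powers of a normalizing element normalize -/
theorem pow_conj_mem {G : Type*} [Group G] (m : G) (K : Subgroup G)
    (h : ∀ q ∈ K, m * q * m⁻¹ ∈ K) (k : ℕ) : ∀ q ∈ K, m ^ k * q * (m ^ k)⁻¹ ∈ K := by
  induction k with
  | zero => intro q hq; simpa using hq
  | succ k ih =>
    intro q hq
    have : m ^ (k + 1) * q * (m ^ (k + 1))⁻¹ = m * (m ^ k * q * (m ^ k)⁻¹) * m⁻¹ := by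
      rw [pow_succ']; group
    rw [this]
    exact h _ (ih q hq)

section rep

universe uV

variable {r : ℕ} [hr : Fact r.Prime] {V : Type uV} [AddCommGroup V] [Module (ZMod r) V] [Finite V]
  [Nontrivial V]
variable {G : Type*} [Group G] [Finite G] {ρ : G →* Module.End (ZMod r) V}

namespace Ctx

variable {z i j a c₀ : G}

set_option maxHeartbeats 1600000 in
/-- an element of order three normalizing the second quaternion subgroup and moving `i` -/
theorem exists_p (c : Ctx ρ z) (S : Sylow 2 G) (f : Frame (S : Subgroup G) z i j a c₀) :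
    ∃ p : G, p ^ 3 = 1 ∧ (∀ q ∈ Subgroup.closure ({i, c₀ * j} : Set G),
      p * q * p⁻¹ ∈ Subgroup.closure ({i, c₀ * j} : Set G)) ∧ p * i ≠ i * p := by
  obtain ⟨g, hgx, hgi⟩ := c.exists_conj S f
  obtain ⟨x, hx⟩ : ∃ x : G, x = c₀ * j := ⟨_, rfl⟩
  rw [← hx] at hgx hgi ⊢
  obtain ⟨y, hy⟩ : ∃ y : G, y = g * x * g⁻¹ := ⟨_, rfl⟩
  rw [← hy] at hgx
  obtain ⟨Q₂, hQ₂⟩ : ∃ Q₂ : Subgroup G, Q₂ = Subgroup.closure ({i, x} : Set G) := ⟨_, rfl⟩
  rw [← hQ₂]
  have hiQ₂ : i ∈ Q₂ := by rw [hQ₂]; exact Subgroup.subset_closure (by simp)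
  have hxQ₂ : x ∈ Q₂ := by rw [hQ₂]; exact Subgroup.subset_closure (by simp)
  have hyQ₂ : y ∈ Q₂ := by
    rcases hgx with h1 | h1
    · rw [h1]; exact hiQ₂
    · rw [h1]; exact Q₂.inv_mem hiQ₂
  have hxne : x * i ≠ i * x := by rw [hx]; exact f.x_ne_comm
  rcases hgi with hgi | hgi
  · -- Case B
    obtain ⟨Q, hQ⟩ : ∃ Q : Subgroup G, Q = Subgroup.closure ({i, j} : Set G) := ⟨_, rfl⟩
    have hiQ : i ∈ Q := by rw [hQ]; exact Subgroup.subset_closure (by simp)
    have hjQ : j ∈ Q := by rw [hQ]; exact Subgroup.subset_closure (by simp)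
    have hyQ : y ∈ Q := by
      rcases hgx with h1 | h1
      · rw [h1]; exact hiQ
      · rw [h1]; exact Q.inv_mem hiQ
    have h1 : ∀ q ∈ Q₂, g * q * g⁻¹ ∈ Q := by
      intro q hq
      rw [hQ₂] at hq
      apply conj_closure_mem g _ Q _ q hq
      rintro s (rfl | rfl)
      · rw [hgi]; exact hjQ
      · rw [← hy]; exact hyQ
    have h2 : ∀ q ∈ Q, a * q * a⁻¹ ∈ Q := by
      intro q hq
      rw [hQ] at hq
      apply conj_closure_mem a _ Q _ q hq
      rintro s (rfl | rfl)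
      · rw [f.hT.hai]; exact hjQ
      · rw [f.hT.haj]; exact Q.mul_mem hiQ hjQ
    have hgi' : g⁻¹ * j * g = i := by rw [← hgi]; group
    have hgy' : g⁻¹ * y * g = x := by rw [hy]; group
    have h3 : ∀ q ∈ Q, g⁻¹ * q * g⁻¹⁻¹ ∈ Q₂ := by
      intro q hq
      rw [hQ] at hq
      apply conj_closure_mem g⁻¹ _ Q₂ _ q hq
      rintro s (rfl | rfl)
      · rw [inv_inv]
        rcases hgx with h4 | h4
        · rw [← h4, hgy']; exact hxQ₂
        · have : g⁻¹ * s * g = (g⁻¹ * y * g)⁻¹ := by rw [h4]; group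
          rw [this, hgy']; exact Q₂.inv_mem hxQ₂
      · rw [inv_inv, hgi']; exact hiQ₂
    refine ⟨g⁻¹ * a * g, ?_, ?_, ?_⟩
    · have : g⁻¹ * a * g = g⁻¹ * a * g⁻¹⁻¹ := by rw [inv_inv]
      rw [this, conj_pow, f.hT.ha, mul_one, mul_inv_cancel]
    · intro q hq
      have := h3 _ (h2 _ (h1 q hq))
      have e : g⁻¹ * (a * (g * q * g⁻¹) * a⁻¹) * g⁻¹⁻¹ = g⁻¹ * a * g * q * (g⁻¹ * a * g)⁻¹ := by
        group
      rwa [e] at this
    · intro hc
      have h4 : a * (g * i * g⁻¹) * a⁻¹ = g * i * g⁻¹ := by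
        calc a * (g * i * g⁻¹) * a⁻¹ = g * ((g⁻¹ * a * g) * i) * (g⁻¹ * a * g)⁻¹ * g⁻¹ := by group
          _ = g * (i * (g⁻¹ * a * g)) * (g⁻¹ * a * g)⁻¹ * g⁻¹ := by rw [hc]
          _ = g * i * g⁻¹ := by group
      rw [hgi, f.hT.haj] at h4
      apply f.hT.i_ne_one
      exact mul_right_cancel (b := j) (by rw [one_mul]; exact h4)
  · -- Case A
    have hxx : x * x = z := by rw [hx]; exact f.hxx
    have hxi : x * i = z * (i * x) := by rw [hx]; exact f.hxi
    have hxix : x * i * x⁻¹ = i⁻¹ := by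
      rw [hxi, f.i_inv]; group
    have hcy : c₀ * y * c₀⁻¹ = y := by
      have hci : Commute c₀ i := f.hci
      rcases hgx with h1 | h1
      · rw [h1, hci.eq, mul_inv_cancel_right]
      · rw [h1, hci.inv_right.eq, mul_inv_cancel_right]
    have hcx : c₀ * x * c₀⁻¹ = i * x := by rw [hx]; exact f.hcx
    have hci : c₀ * i * c₀⁻¹ = i := by rw [f.hci, mul_inv_cancel_right]
    obtain ⟨m, hm⟩ : ∃ m : G, m = g * c₀ := ⟨_, rfl⟩
    have hmi : m * i * m⁻¹ = x := by
      rw [hm, ← hgi]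
      calc g * c₀ * i * (g * c₀)⁻¹ = g * (c₀ * i * c₀⁻¹) * g⁻¹ := by group
        _ = g * i * g⁻¹ := by rw [hci]
    have hmx : m * x * m⁻¹ = x * y := by
      rw [hm]
      calc g * c₀ * x * (g * c₀)⁻¹ = g * (c₀ * x * c₀⁻¹) * g⁻¹ := by group
        _ = (g * i * g⁻¹) * (g * x * g⁻¹) := by rw [hcx]; group
        _ = x * y := by rw [hgi, ← hy]
    have hgy : g * y * g⁻¹ = x ∧ y = i ∨ g * y * g⁻¹ = x⁻¹ ∧ y = i⁻¹ := by
      rcases hgx with h1 | h1
      · left; exact ⟨by rw [h1, hgi], h1⟩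
      · right
        refine ⟨?_, h1⟩
        rw [h1]
        calc g * i⁻¹ * g⁻¹ = (g * i * g⁻¹)⁻¹ := by group
          _ = x⁻¹ := by rw [hgi]
    have hmk : m * (x * y) * m⁻¹ = i := by
      rw [hm]
      have e : g * c₀ * (x * y) * (g * c₀)⁻¹ =
          (g * i * g⁻¹) * (g * x * g⁻¹) * (g * (c₀ * y * c₀⁻¹) * g⁻¹) := by
        calc g * c₀ * (x * y) * (g * c₀)⁻¹ = g * ((c₀ * x * c₀⁻¹) * (c₀ * y * c₀⁻¹)) * g⁻¹ := by
              group
          _ = (g * i * g⁻¹) * (g * x * g⁻¹) * (g * (c₀ * y * c₀⁻¹) * g⁻¹) := by rw [hcx]; group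
      rw [e, hcy, hgi, ← hy]
      rcases hgy with ⟨h1, h2⟩ | ⟨h1, h2⟩
      · rw [h1, h2]
        calc x * i * x = (x * i * x⁻¹) * (x * x) := by group
          _ = i := by rw [hxix, hxx, f.i_inv, mul_assoc, f.hT.hzc i, ← mul_assoc, f.hT.zz, one_mul]
      · rw [h1, h2]
        calc x * i⁻¹ * x⁻¹ = (x * i * x⁻¹)⁻¹ := by group
          _ = i := by rw [hxix, inv_inv]
    -- m normalizes Q₂
    have hmQ : ∀ q ∈ Q₂, m * q * m⁻¹ ∈ Q₂ := by
      intro q hq
      rw [hQ₂] at hq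
      apply conj_closure_mem m _ Q₂ _ q hq
      rintro s (rfl | rfl)
      · rw [hmi]; exact hxQ₂
      · rw [hmx]; exact Q₂.mul_mem hxQ₂ hyQ₂
    -- the cube of m centralizes
    have hm3i : m ^ 3 * i * (m ^ 3)⁻¹ = i := by
      have : m ^ 3 * i * (m ^ 3)⁻¹ = m * (m * (m * i * m⁻¹) * m⁻¹) * m⁻¹ := by
        rw [pow3]; group
      rw [this, hmi, hmx, hmk]
    have hm3x : m ^ 3 * x * (m ^ 3)⁻¹ = x := by
      have : m ^ 3 * x * (m ^ 3)⁻¹ = m * (m * (m * x * m⁻¹) * m⁻¹) * m⁻¹ := by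
        rw [pow3]; group
      rw [this, hmx, hmk, hmi]
    have hc3i : Commute (m ^ 3) i := by
      show m ^ 3 * i = i * m ^ 3
      nth_rewrite 2 [← hm3i]; group
    have hc3x : Commute (m ^ 3) x := by
      show m ^ 3 * x = x * m ^ 3
      nth_rewrite 2 [← hm3x]; group
    have hc3y : Commute (m ^ 3) y := by
      rcases hgx with h1 | h1
      · rw [h1]; exact hc3i
      · rw [h1]; exact hc3i.inv_right
    have hcase : ∀ k : ℕ, (k % 3 = 0 → m ^ k * i = i * m ^ k ∧ m ^ k * x = x * m ^ k) ∧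
        (k % 3 = 1 → m ^ k * i * (m ^ k)⁻¹ = x) ∧ (k % 3 = 2 → m ^ k * i * (m ^ k)⁻¹ = x * y) := by
      intro k
      have hk : k = 3 * (k / 3) + k % 3 := (Nat.div_add_mod k 3).symm
      have hqi : Commute (m ^ (3 * (k / 3))) i := by rw [pow_mul]; exact hc3i.pow_left _
      have hqx : Commute (m ^ (3 * (k / 3))) x := by rw [pow_mul]; exact hc3x.pow_left _
      have hqy : Commute (m ^ (3 * (k / 3))) y := by rw [pow_mul]; exact hc3y.pow_left _
      refine ⟨fun h0 => ?_, fun h0 => ?_, fun h0 => ?_⟩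
      · rw [hk, h0, add_zero]
        exact ⟨hqi.eq, hqx.eq⟩
      · rw [hk, h0, pow_succ]
        calc m ^ (3 * (k / 3)) * m * i * (m ^ (3 * (k / 3)) * m)⁻¹
            = m ^ (3 * (k / 3)) * (m * i * m⁻¹) * (m ^ (3 * (k / 3)))⁻¹ := by group
          _ = x := by rw [hmi, hqx.eq, mul_inv_cancel_right]
      · rw [hk, h0, pow_succ, pow_succ]
        calc m ^ (3 * (k / 3)) * m * m * i * (m ^ (3 * (k / 3)) * m * m)⁻¹
            = m ^ (3 * (k / 3)) * (m * (m * i * m⁻¹) * m⁻¹) * (m ^ (3 * (k / 3)))⁻¹ := by group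
          _ = x * y := by rw [hmi, hmx, (hqx.mul_right hqy).eq, mul_inv_cancel_right]
    have hxne' : x ≠ i := by
      intro h1; apply hxne; rw [h1]
    have hxyne : x * y ≠ i := by
      intro h1
      apply hxne
      have h2 : x = i * y⁻¹ := by rw [← h1]; group
      have hiy : Commute i y := by
        rcases hgx with h3 | h3
        · rw [h3]
        · rw [h3]; exact (Commute.refl i).inv_right
      rw [h2]
      exact ((Commute.refl i).mul_left hiy.symm.inv_left).eq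
    -- the order of m is divisible by 3
    have hN := hcase (orderOf m)
    rw [pow_orderOf_eq_one] at hN
    have hN0 : orderOf m % 3 = 0 := by
      rcases (by omega : orderOf m % 3 = 0 ∨ orderOf m % 3 = 1 ∨ orderOf m % 3 = 2) with h0 | h0 | h0
      · exact h0
      · exfalso
        have := hN.2.1 h0
        rw [one_mul, inv_one, mul_one] at this
        exact hxne' this.symm
      · exfalso
        have := hN.2.2 h0
        rw [one_mul, inv_one, mul_one] at this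
        exact hxyne this.symm
    have hNpos : 0 < orderOf m := orderOf_pos m
    obtain ⟨e, he⟩ : ∃ e : ℕ, orderOf m = 3 * e := ⟨orderOf m / 3, by omega⟩
    have hw3 : (m ^ e) ^ 3 = 1 := by rw [← pow_mul, mul_comm, ← he, pow_orderOf_eq_one]
    have hw1 : m ^ e ≠ 1 := pow_ne_one_of_lt_orderOf (by omega) (by omega)
    have hwQ := pow_conj_mem m Q₂ hmQ e
    refine ⟨m ^ e, hw3, hwQ, ?_⟩
    have hE := hcase e
    rcases (by omega : e % 3 = 0 ∨ e % 3 = 1 ∨ e % 3 = 2) with h0 | h0 | h0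
    · exfalso
      obtain ⟨h1, h2⟩ := hE.1 h0
      rw [hx] at h2
      exact c.no_cent3 f (m ^ e) hw3 hw1 h1 h2
    · intro hc
      have := hE.2.1 h0
      rw [hc, mul_inv_cancel_right] at this
      exact hxne' this.symm
    · intro hc
      have := hE.2.2 h0
      rw [hc, mul_inv_cancel_right] at this
      exact hxyne this.symm

end Ctx

end rep

end Cfsg.Agent.Lib.helper6.ZP
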