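import Mathlib
import Cfsg.Agent.Lib.helper6.ZPi7

set_option autoImplicit false

namespace Cfsg.Agent.Lib.helper6.ZP

universe u

theorem zp_pcoords {F B : Type*} [Field F] [Ring B] [Algebra F B] (_h2 : (2 : F) ≠ 0)
    (I J f0 f1 A : B)
    (hI : I * I = -1) (hf0I : I * f0 = f0 * I) (hf1I : I * f1 = f1 * I)
    (hn : f0 ^ 2 + f1 ^ 2 = 1) (e : B) (he : e = 1 ∨ e = -1)
    (hA : A = algebraMap F B (-(2 : F)⁻¹) + algebraMap F B (-(2 : F)⁻¹) * (e * I) +
      algebraMap F B (-(2 : F)⁻¹) * (f0 * J + f1 * (I * J)) +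
      algebraMap F B (-(2 : F)⁻¹) * ((e * I) * (f0 * J + f1 * (I * J)))) :
    A = algebraMap F B (-(2 : F)⁻¹) + (algebraMap F B (-(2 : F)⁻¹) * e) * I +
      (algebraMap F B (-(2 : F)⁻¹) * (f0 - e * f1)) * J +
      (algebraMap F B (-(2 : F)⁻¹) * (f1 + e * f0)) * (I * J) ∧
    (algebraMap F B (-(2 : F)⁻¹)) ^ 2 + (algebraMap F B (-(2 : F)⁻¹) * e) ^ 2 -
      (-1) * (algebraMap F B (-(2 : F)⁻¹) * (f0 - e * f1)) ^ 2 -
      (-1) * (algebraMap F B (-(2 : F)⁻¹) * (f1 + e * f0)) ^ 2 = 1 := by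
  have key : I * (f0 * J + f1 * (I * J)) = f0 * (I * J) - f1 * J := by
    rw [mul_add, ← mul_assoc, hf0I, mul_assoc, ← mul_assoc I f1, hf1I, mul_assoc f1, ← mul_assoc I I,
      hI]
    noncomm_ring
  have hh : (-(2 : F)⁻¹) ^ 2 * 4 = 1 := by
    field_simp
    norm_num
  have hsq : ∀ X : B, (algebraMap F B (-(2 : F)⁻¹) * X) ^ 2 = ((-(2 : F)⁻¹) ^ 2) • X ^ 2 := by
    intro X
    rw [← Algebra.smul_def, smul_pow]
  have hsq1 : (algebraMap F B (-(2 : F)⁻¹)) ^ 2 = ((-(2 : F)⁻¹) ^ 2) • (1 : B) := by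
    rw [← map_pow, Algebra.algebraMap_eq_smul_one]
  have hfin : ∀ X : B, X = 4 → ((-(2 : F)⁻¹) ^ 2) • X = 1 := by
    intro X hX
    rw [hX]
    have : (4 : B) = algebraMap F B 4 := (map_ofNat (algebraMap F B) 4).symm
    rw [this, Algebra.smul_def, ← map_mul, hh, map_one]
  rcases he with rfl | rfl
  · constructor
    · rw [hA, one_mul, key]
      noncomm_ring
    · rw [hsq, hsq, hsq, hsq1]
      simp only [neg_mul, one_mul, sub_neg_eq_add, ← smul_add]
      apply hfin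
      have e1 : (f0 - f1) ^ 2 + (f1 + f0) ^ 2 = (f0 ^ 2 + f1 ^ 2) + (f0 ^ 2 + f1 ^ 2) := by
        noncomm_ring
      rw [one_pow, add_assoc, e1, hn]
      norm_num
  · constructor
    · rw [hA, neg_one_mul, neg_mul, key]
      noncomm_ring
    · rw [hsq, hsq, hsq, hsq1]
      simp only [neg_mul, one_mul, sub_neg_eq_add, ← smul_add]
      apply hfin
      have e1 : (f0 + f1) ^ 2 + (f1 + -f0) ^ 2 = (f0 ^ 2 + f1 ^ 2) + (f0 ^ 2 + f1 ^ 2) := by
        noncomm_ring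
      rw [add_assoc, e1, hn]
      norm_num

theorem v4_comm_S4 : ∀ v w : Equiv.Perm (Fin 4), v ^ 2 ≠ 1 ∨ Equiv.Perm.sign v ≠ 1 ∨ w ^ 2 ≠ 1 ∨
    Equiv.Perm.sign w ≠ 1 ∨ v * w = w * v := by decide +kernel

theorem no4_A4 : ∀ g : alternatingGroup (Fin 4), g ^ 4 ≠ 1 ∨ g ^ 2 = 1 := by decide +kernel

theorem no4_A5 : ∀ g : alternatingGroup (Fin 5), g ^ 4 ≠ 1 ∨ g ^ 2 = 1 := by decide +kernel

theorem ThreeCases.sqconj {H : Type u} [Group H] (h : ThreeCases H) (γ α β : H) (h4 : γ ^ 4 = 1)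
    (h2 : γ ^ 2 ≠ 1) :
    (α * γ ^ 2 * α⁻¹) * (β * γ ^ 2 * β⁻¹) = (β * γ ^ 2 * β⁻¹) * (α * γ ^ 2 * α⁻¹) := by
  rcases h with ⟨⟨e⟩⟩ | ⟨⟨e⟩⟩ | ⟨⟨e⟩⟩
  · exfalso
    rcases no4_A4 (e γ) with h | h
    · apply h; rw [← map_pow, h4, map_one]
    · apply h2; apply e.injective; rw [map_pow, h, map_one]
  · apply e.injective
    simp only [map_mul, map_inv, map_pow]
    have hg4 : (e γ) ^ 4 = 1 := by rw [← map_pow, h4, map_one]
    have key : ∀ a : Equiv.Perm (Fin 4), (a * e γ ^ 2 * a⁻¹) ^ 2 = 1 ∧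
        Equiv.Perm.sign (a * e γ ^ 2 * a⁻¹) = 1 := by
      intro a
      constructor
      · rw [conj_pow, ← pow_mul, hg4, mul_one, mul_inv_cancel]
      · rw [Equiv.Perm.sign_mul, Equiv.Perm.sign_mul, Equiv.Perm.sign_inv, map_pow, mul_comm,
          ← mul_assoc, Int.units_mul_self, one_mul, Int.units_sq]
    obtain ⟨a1, a2⟩ := key (e α)
    obtain ⟨b1, b2⟩ := key (e β)
    rcases v4_comm_S4 (e α * e γ ^ 2 * (e α)⁻¹) (e β * e γ ^ 2 * (e β)⁻¹) with h | h | h | h | h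
    · exact absurd a1 h
    · exact absurd a2 h
    · exact absurd b1 h
    · exact absurd b2 h
    · exact h
  · exfalso
    rcases no4_A5 (e γ) with h | h
    · apply h; rw [← map_pow, h4, map_one]
    · apply h2; apply e.injective; rw [map_pow, h, map_one]

section rep

universe uV

variable {r : ℕ} [hr : Fact r.Prime] {V : Type uV} [AddCommGroup V] [Module (ZMod r) V] [Finite V]
  [Nontrivial V]
variable {G : Type*} [Group G] [Finite G] {ρ : G →* Module.End (ZMod r) V}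

namespace Ctx

variable {z : G}

set_option maxHeartbeats 1600000 in
/-- an element of order three normalizing a quaternion group and moving `i` gives a type A
configuration -/
theorem typeA_of_p (c : Ctx ρ z) {i x p : G} (hi : i * i = z) (hxx : x * x = z)
    (hxi : x * i = z * (i * x)) (hp3 : p ^ 3 = 1)
    (hpQ : ∀ q ∈ Subgroup.closure ({i, x} : Set G),
      p * q * p⁻¹ ∈ Subgroup.closure ({i, x} : Set G))
    (hpi : p * i ≠ i * p) :
    (TypeA z i (p * i * p⁻¹) p ∨ TypeA z i⁻¹ (p * i * p⁻¹)⁻¹ p) ∧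
      (p * i * p⁻¹) * i = z * (i * (p * i * p⁻¹)) ∧
      (p * i * p⁻¹ = x ∨ p * i * p⁻¹ = x⁻¹ ∨ p * i * p⁻¹ = i * x ∨ p * i * p⁻¹ = (i * x)⁻¹) := by
  have hzc := c.zc
  have hzz : z * z = 1 := by rw [← pow_two, c.hz2]
  have hzi : z⁻¹ = z := inv_eq_of_mul_eq_one_right hzz
  obtain ⟨Q₂, hQ₂⟩ : ∃ Q₂ : Subgroup G, Q₂ = Subgroup.closure ({i, x} : Set G) := ⟨_, rfl⟩
  rw [← hQ₂] at hpQ
  have hiQ : i ∈ Q₂ := by rw [hQ₂]; exact Subgroup.subset_closure (by simp)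
  have hxQ : x ∈ Q₂ := by rw [hQ₂]; exact Subgroup.subset_closure (by simp)
  obtain ⟨j₂, hj₂⟩ : ∃ j₂, j₂ = p * i * p⁻¹ := ⟨_, rfl⟩
  obtain ⟨k₂, hk₂⟩ : ∃ k₂, k₂ = p * j₂ * p⁻¹ := ⟨_, rfl⟩
  rw [← hj₂]
  have hj₂Q : j₂ ∈ Q₂ := by rw [hj₂]; exact hpQ i hiQ
  have hk₂Q : k₂ ∈ Q₂ := by rw [hk₂]; exact hpQ j₂ hj₂Q
  have hpk : p * k₂ * p⁻¹ = i := by
    rw [hk₂, hj₂]
    have : p * (p * (p * i * p⁻¹) * p⁻¹) * p⁻¹ = p ^ 3 * i * (p ^ 3)⁻¹ := by rw [pow3]; group
    rw [this, hp3]; group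
  have pair : ∀ q ∈ Q₂, ∀ q' ∈ Q₂, CommZ z q q' := by
    rw [hQ₂]; exact commZ_closure hzc hzz hxi
  have hj₂sq : j₂ * j₂ = z := by
    rw [hj₂]
    calc p * i * p⁻¹ * (p * i * p⁻¹) = p * (i * i) * p⁻¹ := by group
      _ = z := by rw [hi, hzc p, mul_inv_cancel_right]
  have hk₂sq : k₂ * k₂ = z := by
    rw [hk₂]
    calc p * j₂ * p⁻¹ * (p * j₂ * p⁻¹) = p * (j₂ * j₂) * p⁻¹ := by group
      _ = z := by rw [hj₂sq, hzc p, mul_inv_cancel_right]
  have hio : orderOf i = 4 := orderOf_eq_four_of_sq c.hz1 c.hz2 hi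
  have hjo : orderOf j₂ = 4 := orderOf_eq_four_of_sq c.hz1 c.hz2 hj₂sq
  have hko : orderOf k₂ = 4 := orderOf_eq_four_of_sq c.hz1 c.hz2 hk₂sq
  have hxo : orderOf x = 4 := orderOf_eq_four_of_sq c.hz1 c.hz2 hxx
  have hiinv : i ≠ i⁻¹ := by
    intro hc
    apply c.hz1
    rw [← hi]
    nth_rewrite 2 [hc]
    exact mul_inv_cancel i
  have hA : ¬ j₂ * i = i * j₂ := by
    intro hc
    rcases c.hf.eq_or_eq_inv_of_commute hjo hio hc with h1 | h1
    · apply hpi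
      rw [hj₂] at h1
      calc p * i = (p * i * p⁻¹) * p := by group
        _ = i * p := by rw [h1]
    · have hk : k₂ = i := by
        rw [hk₂, h1]
        calc p * i⁻¹ * p⁻¹ = (p * i * p⁻¹)⁻¹ := by group
          _ = i := by rw [← hj₂, h1, inv_inv]
      rw [hk, ← hj₂, h1] at hpk
      exact hiinv hpk.symm
  have hji : j₂ * i = z * (i * j₂) := (pair j₂ hj₂Q i hiQ).resolve_left hA
  have hB : ¬ k₂ * i = i * k₂ := by
    intro hc
    apply hA
    rcases c.hf.eq_or_eq_inv_of_commute hko hio hc with h1 | h1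
    · rw [h1, ← hj₂] at hpk
      rw [hpk]
    · rw [h1] at hpk
      have : j₂ = i⁻¹ := by
        rw [hj₂]
        calc p * i * p⁻¹ = (p * i⁻¹ * p⁻¹)⁻¹ := by group
          _ = i⁻¹ := by rw [hpk]
      rw [this]; exact ((Commute.refl i).inv_left).eq
  have hki : k₂ * i = z * (i * k₂) := (pair k₂ hk₂Q i hiQ).resolve_left hB
  have hC : ¬ k₂ * j₂ = j₂ * k₂ := by
    intro hc
    apply hB
    rcases c.hf.eq_or_eq_inv_of_commute hko hjo hc with h1 | h1
    · have h3 : k₂ = i := by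
        have h2 := hpk
        rw [h1, ← hk₂] at h2
        exact h2
      rw [h3]
    · have h3 : k₂ = i⁻¹ := by
        have e : p * j₂⁻¹ * p⁻¹ = (p * j₂ * p⁻¹)⁻¹ := by group
        have h2 := hpk
        rw [h1, e, ← hk₂] at h2
        rw [← h2, inv_inv]
      rw [h3]; exact ((Commute.refl i).inv_left).eq
  have hkj : k₂ * j₂ = z * (j₂ * k₂) := (pair k₂ hk₂Q j₂ hj₂Q).resolve_left hC
  have hijsq : (i * j₂) * (i * j₂) = z := by
    calc i * j₂ * (i * j₂) = i * (j₂ * i) * j₂ := by group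
      _ = i * (z * (i * j₂)) * j₂ := by rw [hji]
      _ = (i * z) * (i * (j₂ * j₂)) := by group
      _ = (z * i) * (i * z) := by rw [hj₂sq, hzc i]
      _ = z * (i * i) * z := by group
      _ = z := by rw [hi, hzz, one_mul]
  have hkcomm : k₂ * (i * j₂) = (i * j₂) * k₂ := by
    calc k₂ * (i * j₂) = (k₂ * i) * j₂ := by group
      _ = z * (i * k₂) * j₂ := by rw [hki]
      _ = z * i * (k₂ * j₂) := by group
      _ = z * i * (z * (j₂ * k₂)) := by rw [hkj]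
      _ = (z * (i * z)) * (j₂ * k₂) := by group
      _ = (z * (z * i)) * (j₂ * k₂) := by rw [hzc i]
      _ = i * j₂ * k₂ := by rw [← mul_assoc z z, hzz, one_mul]; group
  have hijo : orderOf (i * j₂) = 4 := orderOf_eq_four_of_sq c.hz1 c.hz2 hijsq
  refine ⟨?_, hji, ?_⟩
  · rcases c.hf.eq_or_eq_inv_of_commute hko hijo hkcomm with h1 | h1
    · left
      exact ⟨c.hz1, c.hz2, hzc, hi, hp3, hj₂.symm, by rw [← hk₂, h1], hji⟩
    · right
      have hinv : (i * j₂)⁻¹ = z * (i * j₂) := by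
        rw [eq_comm, ← mul_inv_eq_one, inv_inv, mul_assoc, hijsq, hzz]
      refine ⟨c.hz1, c.hz2, hzc, ?_, hp3, ?_, ?_, ?_⟩
      · rw [← mul_inv_rev, hi, hzi]
      · rw [hj₂]; group
      · have e : p * j₂⁻¹ * p⁻¹ = (p * j₂ * p⁻¹)⁻¹ := by group
        rw [e, ← hk₂, h1, inv_inv, ← mul_inv_rev, hji, mul_inv_rev, hzi, hinv, mul_assoc, hzc (i * j₂),
          ← mul_assoc, hzz, one_mul]
      · calc j₂⁻¹ * i⁻¹ = (i * j₂)⁻¹ := by group
          _ = z * (z * (i * j₂)⁻¹) := by rw [← mul_assoc, hzz, one_mul]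
          _ = z * ((i * j₂)⁻¹ * z⁻¹) := by rw [hzi, hzc]
          _ = z * (z * (i * j₂))⁻¹ := by group
          _ = z * (j₂ * i)⁻¹ := by rw [hji]
          _ = z * (i⁻¹ * j₂⁻¹) := by group
  · -- the form of j₂
    rcases pair j₂ hj₂Q x hxQ with h1 | h1
    · rcases c.hf.eq_or_eq_inv_of_commute hjo hxo h1 with h2 | h2
      · left; exact h2
      · right; left; exact h2
    · have hixsq : (i * x) * (i * x) = z := by
        calc i * x * (i * x) = i * (x * i) * x := by group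
          _ = i * (z * (i * x)) * x := by rw [hxi]
          _ = (i * z) * (i * (x * x)) := by group
          _ = (z * i) * (i * z) := by rw [hxx, hzc i]
          _ = z * (i * i) * z := by group
          _ = z := by rw [hi, hzz, one_mul]
      have hixo : orderOf (i * x) = 4 := orderOf_eq_four_of_sq c.hz1 c.hz2 hixsq
      have hcomm : j₂ * (i * x) = (i * x) * j₂ := by
        calc j₂ * (i * x) = (j₂ * i) * x := by group
          _ = z * (i * j₂) * x := by rw [hji]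
          _ = z * i * (j₂ * x) := by group
          _ = z * i * (z * (x * j₂)) := by rw [h1]
          _ = (z * (i * z)) * (x * j₂) := by group
          _ = (z * (z * i)) * (x * j₂) := by rw [hzc i]
          _ = i * x * j₂ := by rw [← mul_assoc z z, hzz, one_mul]; group
      rcases c.hf.eq_or_eq_inv_of_commute hjo hixo hcomm with h2 | h2
      · right; right; left; exact h2
      · right; right; right; exact h2

end Ctx

end rep

end Cfsg.Agent.Lib.helper6.ZP
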