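import Mathlib
import Cfsg.Agent.Lib.helper6.ZPi8

set_option autoImplicit false

namespace Cfsg.Agent.Lib.helper6.ZP

theorem inv_eq_z_mul {G : Type*} [Group G] {z t : G} (hzz : z * z = 1) (ht : t * t = z) :
    t⁻¹ = z * t := by
  rw [eq_comm, ← mul_inv_eq_one, inv_inv, mul_assoc, ht, hzz]

section rep

universe uV

variable {r : ℕ} [hr : Fact r.Prime] {V : Type uV} [AddCommGroup V] [Module (ZMod r) V] [Finite V]
  [Nontrivial V]
variable {G : Type*} [Group G] [Finite G] {ρ : G →* Module.End (ZMod r) V}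

namespace Ctx

variable {z i j a c₀ : G}

set_option maxHeartbeats 3200000 in
/-- Sylow 2-subgroups of order 16 are impossible -/
theorem frame_false (c : Ctx ρ z) (S : Sylow 2 G) (f : Frame (S : Subgroup G) z i j a c₀) :
    False := by
  have hf := c.hf
  have h := f.hT
  have h2 := h.two_ne hf
  have hr2 : r ≠ 2 := r_ne_two_of h2
  have hzz := h.zz
  obtain ⟨p, hp3, hpQ, hpi⟩ := c.exists_p S f
  obtain ⟨hT', hj₂i, hj₂form⟩ := c.typeA_of_p h.hi f.hxx f.hxi hp3 hpQ hpi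
  have hj₂Q : p * i * p⁻¹ ∈ Subgroup.closure ({i, c₀ * j} : Set G) :=
    hpQ i (Subgroup.subset_closure (by simp))
  have hxQ : c₀ * j ∈ Subgroup.closure ({i, c₀ * j} : Set G) := Subgroup.subset_closure (by simp)
  have hj₂x : CommZ z (p * i * p⁻¹) (c₀ * j) :=
    commZ_closure c.zc hzz f.hxi _ hj₂Q _ hxQ
  obtain ⟨j₂, hj₂⟩ : ∃ j₂, j₂ = p * i * p⁻¹ := ⟨_, rfl⟩
  rw [← hj₂] at hT' hj₂i hj₂form hj₂x
  have hj₂sq : j₂ * j₂ = z := by
    rw [hj₂]
    calc p * i * p⁻¹ * (p * i * p⁻¹) = p * (i * i) * p⁻¹ := by group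
      _ = z := by rw [h.hi, c.zc p, mul_inv_cancel_right]
  -- the algebra attached to c₀
  have hCC' : ρ c₀ * ρ c₀⁻¹ = 1 := by rw [← map_mul, mul_inv_cancel, map_one]
  have hC'C : ρ c₀⁻¹ * ρ c₀ = 1 := by rw [← map_mul, inv_mul_cancel, map_one]
  have hCI : ρ c₀ * ρ i = ρ i * ρ c₀ := by rw [← map_mul, f.hci, map_mul]
  have hC'I : ρ c₀⁻¹ * ρ i = ρ i * ρ c₀⁻¹ := by
    rw [← map_mul, ← map_mul]
    congr 1
    calc c₀⁻¹ * i = c₀⁻¹ * (i * c₀) * c₀⁻¹ := by group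
      _ = i * c₀⁻¹ := by rw [← f.hci]; group
  have hJC : ρ j * ρ c₀ = ρ c₀⁻¹ * ρ j := by rw [← map_mul, f.hjc, map_mul]
  have hJC' : ρ j * ρ c₀⁻¹ = ρ c₀ * ρ j := by rw [← map_mul, f.hjc', map_mul]
  obtain ⟨c0, c1, k1, k2, k3, k4, k5, k6, k7⟩ := kl_algebra h2 (ρ c₀) (ρ c₀⁻¹) (ρ i) (ρ j) hCC' hC'C
    hCI hC'I (h.rho_II hf) (h.rho_JI hf) hJC hJC'
  have hcs : ∀ x ∈ ({c0, c1} : Set (Module.End (ZMod r) V)), ∀ y ∈
      ({c0, c1} : Set (Module.End (ZMod r) V)), x * y = y * x := by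
    rintro x (rfl | rfl) y (rfl | rfl)
    · rfl
    · exact k1
    · exact k1.symm
    · rfl
  have hγm : (-1 : Module.End (ZMod r) V) ∈ Algebra.adjoin (ZMod r)
      ({c0, c1} : Set (Module.End (ZMod r) V)) := Subalgebra.neg_mem _ (Subalgebra.one_mem _)
  have hc0m : c0 ∈ Algebra.adjoin (ZMod r) ({c0, c1} : Set (Module.End (ZMod r) V)) :=
    Algebra.subset_adjoin (by simp)
  have hc1m : c1 ∈ Algebra.adjoin (ZMod r) ({c0, c1} : Set (Module.End (ZMod r) V)) :=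
    Algebra.subset_adjoin (by simp)
  have h0m : (0 : Module.End (ZMod r) V) ∈ Algebra.adjoin (ZMod r)
      ({c0, c1} : Set (Module.End (ZMod r) V)) := Subalgebra.zero_mem _
  have h1m : (1 : Module.End (ZMod r) V) ∈ Algebra.adjoin (ZMod r)
      ({c0, c1} : Set (Module.End (ZMod r) V)) := Subalgebra.one_mem _
  have hIc : ∀ x ∈ ({c0, c1} : Set (Module.End (ZMod r) V)), x * ρ i = ρ i * x := by
    rintro x (rfl | rfl)
    · exact k2
    · exact k3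
  have hJc : ∀ x ∈ ({c0, c1} : Set (Module.End (ZMod r) V)), x * ρ j = ρ j * x := by
    rintro x (rfl | rfl)
    · exact k4
    · exact k5
  have hρz := h.rho_z hf
  have hρx : ρ (c₀ * j) = c0 * ρ j + c1 * (ρ i * ρ j) := by rw [map_mul, k6, add_mul, mul_assoc]
  have hII := h.rho_II hf
  have hρix : ρ (i * (c₀ * j)) = (-c1) * ρ j + c0 * (ρ i * ρ j) := by
    rw [map_mul, hρx, mul_add, ← mul_assoc, ← k2, mul_assoc, ← mul_assoc (ρ i) c1, ← k3, mul_assoc c1,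
      ← mul_assoc (ρ i) (ρ i), hII]
    noncomm_ring
  have hixsq : (i * (c₀ * j)) * (i * (c₀ * j)) = z := by
    calc i * (c₀ * j) * (i * (c₀ * j)) = i * ((c₀ * j) * i) * (c₀ * j) := by group
      _ = i * (z * (i * (c₀ * j))) * (c₀ * j) := by rw [f.hxi]
      _ = (i * z) * (i * ((c₀ * j) * (c₀ * j))) := by group
      _ = (z * i) * (i * z) := by rw [f.hxx, c.zc i]
      _ = z * (i * i) * z := by group
      _ = z := by rw [h.hi, hzz, one_mul]
  -- coordinates of ρ j₂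
  have hJ2 : ∃ f0 f1 : Module.End (ZMod r) V,
      f0 ∈ Algebra.adjoin (ZMod r) ({c0, c1} : Set (Module.End (ZMod r) V)) ∧
      f1 ∈ Algebra.adjoin (ZMod r) ({c0, c1} : Set (Module.End (ZMod r) V)) ∧
      ρ i * f0 = f0 * ρ i ∧ ρ i * f1 = f1 * ρ i ∧ f0 ^ 2 + f1 ^ 2 = 1 ∧
      ρ j₂ = f0 * ρ j + f1 * (ρ i * ρ j) := by
    rcases hj₂form with h1 | h1 | h1 | h1
    · exact ⟨c0, c1, hc0m, hc1m, k2.symm, k3.symm, k7, by rw [h1, hρx]⟩
    · refine ⟨-c0, -c1, Subalgebra.neg_mem _ hc0m, Subalgebra.neg_mem _ hc1m,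
        by rw [mul_neg, neg_mul, k2], by rw [mul_neg, neg_mul, k3], by rw [neg_sq, neg_sq, k7], ?_⟩
      rw [h1, inv_eq_z_mul hzz f.hxx, map_mul, hρz, hρx]
      noncomm_ring
    · refine ⟨-c1, c0, Subalgebra.neg_mem _ hc1m, hc0m, by rw [mul_neg, neg_mul, k3], k2.symm,
        by rw [neg_sq, add_comm, k7], ?_⟩
      rw [h1, hρix]
    · refine ⟨c1, -c0, hc1m, Subalgebra.neg_mem _ hc0m, k3.symm, by rw [mul_neg, neg_mul, k2],
        by rw [neg_sq, add_comm, k7], ?_⟩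
      rw [h1, inv_eq_z_mul hzz hixsq, map_mul, hρz, hρix]
      noncomm_ring
  -- coordinates of ρ p
  have hP : ∃ c0' c1' c2' c3' : Module.End (ZMod r) V,
      c0' ∈ Algebra.adjoin (ZMod r) ({c0, c1} : Set (Module.End (ZMod r) V)) ∧
      c1' ∈ Algebra.adjoin (ZMod r) ({c0, c1} : Set (Module.End (ZMod r) V)) ∧
      c2' ∈ Algebra.adjoin (ZMod r) ({c0, c1} : Set (Module.End (ZMod r) V)) ∧
      c3' ∈ Algebra.adjoin (ZMod r) ({c0, c1} : Set (Module.End (ZMod r) V)) ∧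
      ρ p = c0' + c1' * ρ i + c2' * ρ j + c3' * (ρ i * ρ j) ∧
      c0' ^ 2 + c1' ^ 2 - (-1) * c2' ^ 2 - (-1) * c3' ^ 2 = 1 := by
    obtain ⟨f0, f1, hf0m, hf1m, hf0I, hf1I, hn, hρj₂⟩ := hJ2
    have hhm : algebraMap (ZMod r) (Module.End (ZMod r) V) (-(2 : ZMod r)⁻¹) ∈
        Algebra.adjoin (ZMod r) ({c0, c1} : Set (Module.End (ZMod r) V)) :=
      Subalgebra.algebraMap_mem _ _
    rcases hT' with hT' | hT'
    · have hA := hT'.rho_a hf
      rw [hρj₂] at hA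
      obtain ⟨e1, e2⟩ := zp_pcoords h2 (ρ i) (ρ j) f0 f1 (ρ p) hII hf0I hf1I hn 1 (Or.inl rfl)
        (by rw [one_mul]; exact hA)
      exact ⟨_, _, _, _, hhm, Subalgebra.mul_mem _ hhm h1m,
        Subalgebra.mul_mem _ hhm (Subalgebra.sub_mem _ hf0m (Subalgebra.mul_mem _ h1m hf1m)),
        Subalgebra.mul_mem _ hhm (Subalgebra.add_mem _ hf1m (Subalgebra.mul_mem _ h1m hf0m)),
        e1, e2⟩
    · have hA := hT'.rho_a hf
      have hi' : ρ i⁻¹ = -1 * ρ i := by rw [f.i_inv, map_mul, hρz]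
      have hj' : ρ j₂⁻¹ = (-f0) * ρ j + (-f1) * (ρ i * ρ j) := by
        rw [inv_eq_z_mul hzz hj₂sq, map_mul, hρz, hρj₂]
        noncomm_ring
      rw [hi', hj'] at hA
      have hm1 : (-1 : Module.End (ZMod r) V) ∈
          Algebra.adjoin (ZMod r) ({c0, c1} : Set (Module.End (ZMod r) V)) := hγm
      obtain ⟨e1, e2⟩ := zp_pcoords h2 (ρ i) (ρ j) (-f0) (-f1) (ρ p) hII
        (by rw [mul_neg, neg_mul, hf0I]) (by rw [mul_neg, neg_mul, hf1I])
        (by rw [neg_sq, neg_sq, hn]) (-1) (Or.inr rfl) hA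
      exact ⟨_, _, _, _, hhm, Subalgebra.mul_mem _ hhm hm1,
        Subalgebra.mul_mem _ hhm (Subalgebra.sub_mem _ (Subalgebra.neg_mem _ hf0m)
          (Subalgebra.mul_mem _ hm1 (Subalgebra.neg_mem _ hf1m))),
        Subalgebra.mul_mem _ hhm (Subalgebra.add_mem _ (Subalgebra.neg_mem _ hf1m)
          (Subalgebra.mul_mem _ hm1 (Subalgebra.neg_mem _ hf0m))),
        e1, e2⟩
  have him : i ∈ Subgroup.closure ({i, j, a, c₀, p} : Set G) := Subgroup.subset_closure (by simp)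
  have hjm : j ∈ Subgroup.closure ({i, j, a, c₀, p} : Set G) := Subgroup.subset_closure (by simp)
  have ham : a ∈ Subgroup.closure ({i, j, a, c₀, p} : Set G) := Subgroup.subset_closure (by simp)
  have hcm : c₀ ∈ Subgroup.closure ({i, j, a, c₀, p} : Set G) := Subgroup.subset_closure (by simp)
  have hpm : p ∈ Subgroup.closure ({i, j, a, c₀, p} : Set G) := Subgroup.subset_closure (by simp)
  have hzm : z ∈ Subgroup.closure ({i, j, a, c₀, p} : Set G) := by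
    rw [← h.hi]; exact Subgroup.mul_mem _ him him
  obtain ⟨H, instH, π, -, hk, h5⟩ := qgroup_concrete hr2 ({c0, c1} : Set (Module.End (ZMod r) V))
    hcs (-1) hγm isUnit_one.neg (ρ i) (ρ j) hII (h.rho_JJ hf) (h.rho_JI hf) hIc hJc ρ
    ({i, j, a, c₀, p} : Set G) (fun g _ hg => hf.isUnit_sub_one hg)
    (by
      rintro g (rfl | rfl | rfl | rfl | rfl)
      · exact ⟨0, 1, 0, 0, h0m, h1m, h0m, h0m, by simp, by simp⟩
      · exact ⟨0, 0, 1, 0, h0m, h0m, h1m, h0m, by simp, by simp⟩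
      · refine ⟨_, _, _, _, Subalgebra.algebraMap_mem _ (-(2 : ZMod r)⁻¹),
          Subalgebra.algebraMap_mem _ (-(2 : ZMod r)⁻¹),
          Subalgebra.algebraMap_mem _ (-(2 : ZMod r)⁻¹),
          Subalgebra.algebraMap_mem _ (-(2 : ZMod r)⁻¹), h.rho_a hf, ?_⟩
        simp only [neg_mul, one_mul, sub_neg_eq_add, ← map_pow, ← map_add]
        have : (-(2 : ZMod r)⁻¹) ^ 2 + (-(2 : ZMod r)⁻¹) ^ 2 + (-(2 : ZMod r)⁻¹) ^ 2 +
            (-(2 : ZMod r)⁻¹) ^ 2 = 1 := by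
          field_simp
          norm_num
        rw [this, map_one]
      · refine ⟨c0, c1, 0, 0, hc0m, hc1m, h0m, h0m, ?_, ?_⟩
        · rw [k6]; simp
        · rw [← k7]; simp
      · exact hP) z hzm hρz
  -- the quotient is one of the three cases
  have hπz : π ⟨z, hzm⟩ = 1 := (hk _).mpr (Or.inr rfl)
  have hπj : π ⟨a, ham⟩ * π ⟨i, him⟩ * (π ⟨a, ham⟩)⁻¹ = π ⟨j, hjm⟩ := by
    rw [← map_inv, ← map_mul, ← map_mul]
    congr 1
    exact Subtype.ext h.hai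
  have hcomm : π ⟨i, him⟩ * π ⟨j, hjm⟩ = π ⟨j, hjm⟩ * π ⟨i, him⟩ := by
    have e : (⟨j, hjm⟩ : Subgroup.closure ({i, j, a, c₀, p} : Set G)) * ⟨i, him⟩ =
        ⟨z, hzm⟩ * (⟨i, him⟩ * ⟨j, hjm⟩) := Subtype.ext h.hji
    rw [← map_mul (f := π) ⟨j, hjm⟩, e, map_mul, hπz, one_mul, map_mul]
  have hne : π ⟨j, hjm⟩ ≠ π ⟨i, him⟩ := by
    intro he
    have h1 : π (⟨j, hjm⟩ * ⟨i, him⟩⁻¹) = 1 := by rw [map_mul, map_inv, he, mul_inv_cancel]
    have hcomm' : j * i = i * j := by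
      rcases (hk _).mp h1 with h2 | h2
      · have h3 : j * i⁻¹ = 1 := congrArg Subtype.val h2
        have : j = i := by
          have := congrArg (fun t => t * i) h3
          simpa using this
        rw [this]
      · have h3 : j * i⁻¹ = z := h2
        have : j = z * i := by
          have := congrArg (fun t => t * i) h3
          simpa using this
        rw [this, mul_assoc, ← mul_assoc i z i, h.hzc i, mul_assoc]
    have h4 := h.hji
    rw [hcomm'] at h4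
    apply h.hz1
    have := mul_right_cancel (b := i * j) (a := 1) (c := z) (by rw [one_mul]; exact h4)
    exact this.symm
  have h3 : ThreeCases H := by
    apply h5.critA
    refine ⟨π ⟨i, him⟩, π ⟨a, ham⟩, ?_, ?_, ?_⟩
    · rw [← map_pow]
      have : (⟨a, ham⟩ : Subgroup.closure ({i, j, a, c₀, p} : Set G)) ^ 3 = 1 := Subtype.ext h.ha
      rw [this, map_one]
    · rw [hπj]; exact hcomm
    · rw [hπj]; exact hne
  -- the square conjugates commute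
  have hγ4 : (π ⟨c₀, hcm⟩) ^ 4 = 1 := by
    rw [← map_pow]
    have : (⟨c₀, hcm⟩ : Subgroup.closure ({i, j, a, c₀, p} : Set G)) ^ 4 = ⟨z, hzm⟩ :=
      Subtype.ext f.pow_four
    rw [this, hπz]
  have hγ2e : (π ⟨c₀, hcm⟩) ^ 2 = π ⟨i, him⟩ := by
    rw [← map_pow]
    congr 1
    apply Subtype.ext
    show c₀ ^ 2 = i
    rw [pow_two, f.hsq]
  have hi1 : π ⟨i, him⟩ ≠ 1 := by
    intro hc
    rcases (hk _).mp hc with h2 | h2
    · exact h.i_ne_one (congrArg Subtype.val h2)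
    · exact h.i_ne_z h2
  have hγ2 : (π ⟨c₀, hcm⟩) ^ 2 ≠ 1 := by rw [hγ2e]; exact hi1
  have hsq := h3.sqconj (π ⟨c₀, hcm⟩) (π ⟨a, ham⟩) (π ⟨p, hpm⟩) hγ4 hγ2
  rw [hγ2e, hπj] at hsq
  have hj₂m : j₂ ∈ Subgroup.closure ({i, j, a, c₀, p} : Set G) := by
    rw [hj₂]
    exact Subgroup.mul_mem _ (Subgroup.mul_mem _ hpm him) (Subgroup.inv_mem _ hpm)
  have hπj₂ : π ⟨p, hpm⟩ * π ⟨i, him⟩ * (π ⟨p, hpm⟩)⁻¹ = π ⟨j₂, hj₂m⟩ := by
    rw [← map_inv, ← map_mul, ← map_mul]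
    congr 1
    exact Subtype.ext hj₂.symm
  rw [hπj₂] at hsq
  -- translate to the group
  have hjj₂ : CommZ z j j₂ := by
    have h1 : π (⟨j, hjm⟩ * ⟨j₂, hj₂m⟩ * (⟨j₂, hj₂m⟩ * ⟨j, hjm⟩)⁻¹) = 1 := by
      rw [map_mul, map_inv, map_mul, map_mul, hsq, mul_inv_cancel]
    rcases (hk _).mp h1 with h2 | h2
    · left
      have h3 : j * j₂ * (j₂ * j)⁻¹ = 1 := congrArg Subtype.val h2
      exact mul_inv_eq_one.mp h3
    · right
      have h3 : j * j₂ * (j₂ * j)⁻¹ = z := h2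
      exact mul_inv_eq_iff_eq_mul.mp h3
  have hj₂j : CommZ z j₂ j := hjj₂.symm' c.zc hzz
  have hj₂c : CommZ z j₂ c₀ := by
    have := hj₂x.mul_right c.zc hzz (hj₂j.inv_right c.zc hzz)
    rwa [mul_inv_cancel_right] at this
  have hj₂i' : j₂ * i = i * j₂ := by
    rw [← f.hsq]
    rcases hj₂c with h1 | h1
    · rw [← mul_assoc, h1, mul_assoc, h1, mul_assoc]
    · calc j₂ * (c₀ * c₀) = (j₂ * c₀) * c₀ := by group
        _ = z * (c₀ * j₂) * c₀ := by rw [h1]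
        _ = z * c₀ * (j₂ * c₀) := by group
        _ = z * c₀ * (z * (c₀ * j₂)) := by rw [h1]
        _ = (z * (c₀ * z)) * (c₀ * j₂) := by group
        _ = (z * (z * c₀)) * (c₀ * j₂) := by rw [c.zc c₀]
        _ = c₀ * c₀ * j₂ := by rw [← mul_assoc z z, hzz, one_mul]; group
  rw [hj₂i'] at hj₂i
  apply h.hz1
  have := mul_right_cancel (b := i * j₂) (a := 1) (c := z) (by rw [one_mul]; exact hj₂i)
  exact this.symm

end Ctx

end rep

end Cfsg.Agent.Lib.helper6.ZP
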