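import Mathlib
import Cfsg.Agent.Lib.helper6.ZPi9
import Cfsg.Agent.S0035
import Cfsg.Agent.S0039
import Cfsg.Agent.S0042
import Cfsg.Agent.Lib.Helper22.ZFormI

set_option autoImplicit false

namespace Cfsg.Agent.Lib.helper6.ZP

universe uV uG

section rep

variable {r : ℕ} [hr : Fact r.Prime] {V : Type uV} [AddCommGroup V] [Module (ZMod r) V] [Finite V]
  [Nontrivial V]
variable {G : Type uG} [Group G] [Finite G] {ρ : G →* Module.End (ZMod r) V}

/-- Zassenhaus: a perfect nontrivial fixed-point-free linear group is `SL(2,5)` -/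
theorem FPF.perfect_iso (h : FPF ρ) (hperf : commutator G = ⊤) [Nontrivial G] :
    Nonempty (G ≃* Matrix.SpecialLinearGroup (Fin 2) (ZMod 5)) := by
  obtain ⟨z, c⟩ := h.exists_ctx hperf
  obtain ⟨S, k, ⟨e⟩⟩ := c.exists_sylow
  rcases Nat.eq_zero_or_pos k with hk | hk
  · subst hk
    exact c.main_eight S e
  · exfalso
    obtain ⟨i, j, a, c₀, f⟩ := c.exists_frame S k hk e
    exact c.frame_false S f

end rep

/-- a perfect group acting fixed-point-freely on an elementary abelian group is `SL(2,5)` -/
theorem perfect_fpf_mulAut {G : Type uG} [Group G] [Finite G] [Nontrivial G] (r : ℕ)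
    [Fact r.Prime] {W : Type uV} [CommGroup W] [Finite W] [Nontrivial W] (φ : G →* MulAut W)
    (hexp : ∀ w : W, w ^ r = 1) (hfpf : ∀ g : G, g ≠ 1 → ∀ w : W, φ g w = w → w = 1)
    (hperf : commutator G = ⊤) :
    Nonempty (G ≃* Matrix.SpecialLinearGroup (Fin 2) (ZMod 5)) := by
  have hr : ∀ x : Additive W, r • x = 0 := fun x => by
    have := hexp x.toMul
    rw [← toMul_nsmul] at this
    exact this
  letI : Module (ZMod r) (Additive W) := AddCommGroup.zmodModule (n := r) hr
  let ρ : G →* Module.End (ZMod r) (Additive W) :=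
    { toFun := fun g => (MonoidHom.toAdditive (φ g).toMonoidHom).toZModLinearMap r
      map_one' := by
        ext v
        show Additive.ofMul (φ 1 v.toMul) = v
        rw [map_one]
        rfl
      map_mul' := by
        intro g h
        ext v
        show Additive.ofMul (φ (g * h) v.toMul) = Additive.ofMul (φ g (φ h v.toMul))
        rw [map_mul]
        rfl }
  have hF : FPF ρ := by
    intro g hg v hv
    have h1 : φ g v.toMul = v.toMul := congrArg Additive.toMul hv
    exact congrArg Additive.ofMul (hfpf g hg _ h1)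
  exact hF.perfect_iso hperf

open Cfsg.Agent.Lib.Helper22.ZFormI in
/-- Zassenhaus: a perfect Frobenius complement is `SL(2,5)` -/
theorem perfect_frobenius_complement {G : Type uG} [Group G] [Finite G] [Nontrivial G]
    {L : Type uV} [Group L] [Finite L] (H : Subgroup L) (hH : Cfsg.IsFrobeniusComplement H)
    (e : G ≃* H) (hperf : commutator G = ⊤) :
    Nonempty (G ≃* Matrix.SpecialLinearGroup (Fin 2) (ZMod 5)) := by
  obtain ⟨N, hNset, hNn, hNnil⟩ := Cfsg.Agent.S0042.result H hH
  obtain ⟨N', hN'set, _, hN'c⟩ := Cfsg.Agent.S0035.result H hH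
  have hNN : N' = N := SetLike.coe_injective (hN'set.trans hNset.symm)
  rw [hNN] at hN'c
  haveI := hNn
  have hNbot : N ≠ ⊥ := by
    intro h
    rw [h] at hN'c
    exact hH.2.1 (Subgroup.isComplement'_bot_left.mp hN'c)
  have hfp := (Cfsg.Agent.S0039.result N H hN'c hNbot hH.1).mp hH
  haveI : Nontrivial N := (Subgroup.nontrivial_iff_ne_bot N).mpr hNbot
  have hZ : Subgroup.center N ≠ ⊥ := Group.IsNilpotent.center_ne_bot N
  haveI : Nontrivial (Subgroup.center N) := (Subgroup.nontrivial_iff_ne_bot _).mpr hZ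
  have hcard : Nat.card (Subgroup.center N) ≠ 1 := (Finite.one_lt_card).ne'
  obtain ⟨r, hr, hrdvd⟩ := Nat.exists_prime_and_dvd hcard
  haveI : Fact r.Prime := ⟨hr⟩
  obtain ⟨z, hz⟩ := exists_prime_orderOf_dvd_card' r hrdvd
  have hz1 : z ≠ 1 := by
    intro h
    rw [h, orderOf_one] at hz
    exact hr.one_lt.ne hz
  have hzr : z ^ r = 1 := by
    have := pow_orderOf_eq_one z
    rwa [hz] at this
  have hzW : ((z : N) : L) ∈ omegaZ N r := by
    refine ⟨(z : N).2, fun y hy => ?_, ?_⟩
    · have := Subgroup.mem_center_iff.mp z.2 ⟨y, hy⟩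
      exact congrArg Subtype.val this
    · have := congrArg (fun t : Subgroup.center N => ((t : N) : L)) hzr
      simpa using this
  haveI : Nontrivial (omegaZ N r) := by
    refine ⟨⟨⟨_, hzW⟩, 1, ?_⟩⟩
    intro h
    apply hz1
    have h2 : ((z : N) : L) = 1 := congrArg Subtype.val h
    apply Subtype.ext
    apply Subtype.ext
    simpa using h2
  let φ : G →* MulAut (omegaZ N r) :=
    (MulAut.conjNormal (H := omegaZ N r)).comp (H.subtype.comp e.toMonoidHom)
  have hφ : ∀ (g : G) (w : omegaZ N r),
      ((φ g w : omegaZ N r) : L) = ((e g : H) : L) * w * ((e g : H) : L)⁻¹ := fun g w => rfl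
  apply perfect_fpf_mulAut r φ _ _ hperf
  · intro w
    exact Subtype.ext w.2.2.2
  · intro g hg w hw
    have h1 : ((e g : H) : L) ≠ 1 := by
      intro h
      apply hg
      have : e g = 1 := Subtype.ext h
      rwa [← map_one e, e.injective.eq_iff] at this
    have h2 := hfp (e g) (e g).2 h1
    have h3 : (w : L) ∈ N ⊓ Subgroup.centralizer {((e g : H) : L)} := by
      refine ⟨w.2.1, ?_⟩
      show (w : L) ∈ Subgroup.centralizer {((e g : H) : L)}
      rw [Subgroup.mem_centralizer_iff]
      intro h hh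
      rw [Set.mem_singleton_iff] at hh
      subst hh
      have h4 := hφ g w
      rw [hw] at h4
      calc ((e g : H) : L) * w = ((e g : H) : L) * w * ((e g : H) : L)⁻¹ * ((e g : H) : L) := by
            group
        _ = w * ((e g : H) : L) := by rw [← h4]
    rw [h2, Subgroup.mem_bot] at h3
    exact Subtype.ext h3

end Cfsg.Agent.Lib.helper6.ZP
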