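import Mathlib
import Cfsg.Agent.Lib.helper6.ZPj

set_option autoImplicit false

namespace Cfsg.Agent.Lib.helper6.ZP

/-- a finite non-solvable group has a nontrivial perfect normal subgroup -/
theorem exists_perfect_core {M : Type*} [Group M] [Finite M] (h : ¬ Group.IsSolvable M) :
    ∃ K : Subgroup M, K.Normal ∧ K ≠ ⊥ ∧ ⁅K, K⁆ = K := by
  have hne : ∀ n, derivedSeries M n ≠ ⊥ := fun n hn => h ⟨⟨n, hn⟩⟩
  by_contra hcon
  push Not at hcon
  have hlt : ∀ n, Nat.card (derivedSeries M (n + 1)) < Nat.card (derivedSeries M n) := by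
    intro n
    have hle : derivedSeries M (n + 1) ≤ derivedSeries M n := by
      rw [derivedSeries_succ]
      exact Subgroup.commutator_le_left _ _
    have hne' : derivedSeries M (n + 1) ≠ derivedSeries M n := by
      rw [derivedSeries_succ]
      exact hcon _ (derivedSeries_normal M n) (hne n)
    have hlt' := lt_of_le_of_ne hle hne'
    exact Set.ncard_lt_ncard (SetLike.coe_ssubset_coe.mpr hlt') (Set.toFinite _)
  have hbound : ∀ n, Nat.card (derivedSeries M n) + n ≤ Nat.card (derivedSeries M 0) := by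
    intro n
    induction n with
    | zero => simp
    | succ n ih =>
      have := hlt n
      omega
  have := hbound (Nat.card (derivedSeries M 0) + 1)
  omega

theorem card_SL25 : Nat.card (Matrix.SpecialLinearGroup (Fin 2) (ZMod 5)) = 120 := by
  rw [Nat.card_eq_fintype_card]
  decide +kernel

section rep

universe uV uG

variable {r : ℕ} [hr : Fact r.Prime] {V : Type uV} [AddCommGroup V] [Module (ZMod r) V] [Finite V]
  [Nontrivial V]
variable {G : Type uG} [Group G] [Finite G] {ρ : G →* Module.End (ZMod r) V}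

namespace Ctx

variable {z : G}

theorem card_eq (c : Ctx ρ z) : Nat.card G = 120 := by
  haveI : Nontrivial G := ⟨⟨z, 1, c.hz1⟩⟩
  obtain ⟨e⟩ := c.hf.perfect_iso c.hperf
  rw [Nat.card_congr e.toEquiv, card_SL25]

set_option maxHeartbeats 800000 in
/-- a perfect fixed-point-free group has at most five Sylow 2-subgroups -/
theorem card_sylow_two_le (c : Ctx ρ z) : Nat.card (Sylow 2 G) ≤ 5 := by
  haveI : Fact (Nat.Prime 2) := ⟨Nat.prime_two⟩
  haveI : Fact (Nat.Prime 3) := ⟨Nat.prime_three⟩
  have h120 := c.card_eq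
  obtain ⟨i, j, a, h⟩ := c.exists_typeA
  obtain ⟨P, hP⟩ := h.isPGroup.exists_le_sylow
  have hPcard : Nat.card (P : Subgroup G) = 8 := by
    have h1 := P.card_eq_multiplicity
    rw [h120] at h1
    have h2 : Nat.factorization 120 2 = 3 := by
      have : (120 : ℕ) = 2 ^ 3 * 15 := by norm_num
      rw [this, Nat.factorization_mul (by norm_num) (by norm_num), Nat.factorization_pow]
      have h15 : Nat.factorization 15 2 = 0 := Nat.factorization_eq_zero_of_not_dvd (by norm_num)
      simp [h15, Nat.prime_two.factorization_self]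
    rw [h2] at h1
    exact h1
  obtain ⟨Q, hQ⟩ : ∃ Q : Subgroup G, Q = Subgroup.closure ({i, j} : Set G) := ⟨_, rfl⟩
  rw [← hQ] at hP
  have hiQ : i ∈ Q := by rw [hQ]; exact Subgroup.subset_closure (by simp)
  have hjQ : j ∈ Q := by rw [hQ]; exact Subgroup.subset_closure (by simp)
  have h4 : 4 ∣ Nat.card Q := by
    have h1 : orderOf (⟨i, hiQ⟩ : Q) = 4 := by
      rw [← Subgroup.orderOf_coe]; exact h.orderOf_i
    rw [← h1]
    exact orderOf_dvd_natCard _
  have h8 : Nat.card Q ∣ 8 := by
    rw [← hPcard]; exact Subgroup.card_dvd_of_le hP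
  have hQ8 : Nat.card Q = 8 := by
    have hle : Nat.card Q ≤ 8 := Nat.le_of_dvd (by norm_num) h8
    have hpos : 0 < Nat.card Q := Nat.card_pos
    obtain ⟨k, hk⟩ := h4
    have hk12 : k = 1 ∨ k = 2 := by
      rcases h8 with ⟨m, hm⟩
      have : k ≤ 2 := by omega
      have : k ≠ 0 := by
        intro h0; rw [h0] at hk; omega
      omega
    rcases hk12 with h1 | h1
    · exfalso
      have hz : Subgroup.zpowers i ≤ Q := by rw [Subgroup.zpowers_le]; exact hiQ
      have heq : Subgroup.zpowers i = Q := by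
        apply Subgroup.eq_of_le_of_card_ge hz
        rw [Nat.card_zpowers, h.orderOf_i, hk, h1]
      have hj : j ∈ Subgroup.zpowers i := by rw [heq]; exact hjQ
      obtain ⟨m, hm⟩ := Subgroup.mem_zpowers_iff.mp hj
      have hcomm : j * i = i * j := by
        rw [← hm]
        exact ((Commute.refl i).zpow_left m).eq
      have h3 := h.hji
      rw [hcomm] at h3
      apply h.hz1
      have := mul_right_cancel (b := i * j) (a := 1) (c := z) (by rw [one_mul]; exact h3)
      exact this.symm
    · rw [hk, h1]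
  have hQP : Q = (P : Subgroup G) := by
    apply Subgroup.eq_of_le_of_card_ge hP
    rw [hPcard, hQ8]
  have hfor : ∀ q ∈ Q, a * q * a⁻¹ ∈ Q := by
    intro q hq
    rw [hQ] at hq
    apply conj_closure_mem a _ Q _ q hq
    rintro s (rfl | rfl)
    · rw [h.hai]; exact hjQ
    · rw [h.haj]; exact Q.mul_mem hiQ hjQ
  have haN : a ∈ Subgroup.normalizer ((P : Subgroup G) : Set G) := by
    rw [← hQP, Subgroup.mem_normalizer_iff]
    intro q
    constructor
    · exact hfor q
    · intro hq
      have h1 := hfor _ (hfor _ hq)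
      have e : a * (a * (a * q * a⁻¹) * a⁻¹) * a⁻¹ = a ^ 3 * q * (a ^ 3)⁻¹ := by
        rw [pow3]; group
      rw [e, h.ha, one_mul, inv_one, mul_one] at h1
      exact h1
  obtain ⟨N, hN⟩ : ∃ N : Subgroup G, N = Subgroup.normalizer ((P : Subgroup G) : Set G) := ⟨_, rfl⟩
  have hcount : Nat.card (Sylow 2 G) = N.index := by rw [hN]; exact P.card_eq_index_normalizer
  have hPN : (P : Subgroup G) ≤ N := by rw [hN]; exact Subgroup.le_normalizer
  have h8N : 8 ∣ Nat.card N := by rw [← hPcard]; exact Subgroup.card_dvd_of_le hPN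
  have h3N : 3 ∣ Nat.card N := by
    have hao : orderOf a = 3 := orderOf_eq_prime h.ha h.a_ne_one
    have h1 : orderOf (⟨a, by rw [hN]; exact haN⟩ : N) = 3 := by
      rw [← Subgroup.orderOf_coe]; exact hao
    rw [← h1]
    exact orderOf_dvd_natCard _
  have h24 : 24 ∣ Nat.card N := by
    have : Nat.Coprime 8 3 := by norm_num
    exact this.mul_dvd_of_dvd_of_dvd h8N h3N
  have hmul := N.card_mul_index
  rw [h120] at hmul
  rw [hcount]
  obtain ⟨t, ht⟩ := h24
  rw [ht] at hmul
  have : t * N.index = 5 := by nlinarith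
  have htpos : 0 < t := by
    rcases Nat.eq_zero_or_pos t with h0 | h0
    · rw [h0] at this; omega
    · exact h0
  nlinarith

end Ctx

end rep

end Cfsg.Agent.Lib.helper6.ZP
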