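import Mathlib
import Cfsg.Agent.Lib.helper6.ZPk

set_option autoImplicit false

namespace Cfsg.Agent.Lib.helper6.ZP

open scoped commutatorElement

theorem comm_central_left {G : Type*} [Group G] {z : G} (hz : ∀ x : G, x * z = z * x) (s t : G) :
    ⁅z * s, t⁆ = ⁅s, t⁆ := by
  rw [commutatorElement_def, commutatorElement_def]
  calc z * s * t * (z * s)⁻¹ * t⁻¹ = z * (s * t * s⁻¹) * z⁻¹ * t⁻¹ := by group
    _ = (s * t * s⁻¹) * z * z⁻¹ * t⁻¹ := by rw [← hz]
    _ = s * t * s⁻¹ * t⁻¹ := by group

theorem comm_central_right {G : Type*} [Group G] {z : G} (hz : ∀ x : G, x * z = z * x) (s t : G) :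
    ⁅s, z * t⁆ = ⁅s, t⁆ := by
  rw [commutatorElement_def, commutatorElement_def]
  calc s * (z * t) * s⁻¹ * (z * t)⁻¹ = (s * z) * t * s⁻¹ * t⁻¹ * z⁻¹ := by group
    _ = z * (s * t * s⁻¹ * t⁻¹) * z⁻¹ := by rw [hz s]; group
    _ = (s * t * s⁻¹ * t⁻¹) * z * z⁻¹ := by rw [← hz]
    _ = s * t * s⁻¹ * t⁻¹ := by group

section rep

universe uV uG

variable {r : ℕ} [hr : Fact r.Prime] {V : Type uV} [AddCommGroup V] [Module (ZMod r) V] [Finite V]
  [Nontrivial V]
variable {G : Type uG} [Group G] [Finite G] {ρ : G →* Module.End (ZMod r) V}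

/-- a nontrivial perfect normal subgroup `S` of a fixed-point-free group, with the involution -/
structure PCore (ρ : G →* Module.End (ZMod r) V) (S : Subgroup G) (z : G) : Prop where
  hf : FPF ρ
  hn : S.Normal
  hperf : ⁅S, S⁆ = S
  hzS : z ∈ S
  hz1 : z ≠ 1
  hz2 : z ^ 2 = 1

theorem FPF.exists_pcore (h : FPF ρ) (hns : ¬ Group.IsSolvable G) :
    ∃ (S : Subgroup G) (z : G), PCore ρ S z := by
  obtain ⟨S, hSn, hS1, hSp⟩ := exists_perfect_core hns
  haveI : Nontrivial S := (Subgroup.nontrivial_iff_ne_bot S).mpr hS1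
  obtain ⟨z, c⟩ := (h.comp_subtype S).exists_ctx (commutator_eq_top_of_perfect S hSp)
  refine ⟨S, (z : G), h, hSn, hSp, z.2, ?_, ?_⟩
  · intro h1
    exact c.hz1 (Subtype.ext h1)
  · have := congrArg (fun t : S => (t : G)) c.hz2
    simpa using this

namespace PCore

variable {S : Subgroup G} {z : G}

theorem ctx (c : PCore ρ S z) : Ctx (ρ.comp S.subtype) (⟨z, c.hzS⟩ : S) where
  hf := c.hf.comp_subtype S
  hperf := commutator_eq_top_of_perfect S c.hperf
  hz1 := fun h => c.hz1 (congrArg Subtype.val h)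
  hz2 := Subtype.ext (by simpa using c.hz2)

theorem zc (c : PCore ρ S z) (x : G) : x * z = z * x := c.hf.invol_central c.hz1 c.hz2 x

theorem card_S (c : PCore ρ S z) : Nat.card S = 120 := c.ctx.card_eq

theorem iso_S (c : PCore ρ S z) : Nonempty (S ≃* Matrix.SpecialLinearGroup (Fin 2) (ZMod 5)) := by
  haveI : Nontrivial S := ⟨⟨⟨z, c.hzS⟩, 1, c.ctx.hz1⟩⟩
  exact c.ctx.hf.perfect_iso c.ctx.hperf

/-- the intersection of `S` with its centralizer is `{1, z}` -/
theorem mem_inf_centralizer (c : PCore ρ S z) (x : G) :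
    x ∈ S ⊓ Subgroup.centralizer (S : Set G) ↔ x = 1 ∨ x = z := by
  constructor
  · rintro ⟨hxS, hxC⟩
    have h1 := c.ctx.center_le ⟨x, hxS⟩ (fun g => by
      apply Subtype.ext
      have := (Subgroup.mem_centralizer_iff.mp hxC) (g : G) g.2
      exact this)
    rcases h1 with h1 | h1
    · left; exact congrArg Subtype.val h1
    · right; exact congrArg Subtype.val h1
  · rintro (rfl | rfl)
    · exact one_mem _
    · refine ⟨c.hzS, ?_⟩
      show x ∈ Subgroup.centralizer (S : Set G)
      rw [Subgroup.mem_centralizer_iff]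
      intro g _
      exact c.zc g

/-- the permutation action of `G` on the Sylow `2`-subgroups of `S` -/
noncomputable def sylPerm (S : Subgroup G) [S.Normal] : G →* Equiv.Perm (Sylow 2 S) :=
  (MulAction.toPermHom (MulAut S) (Sylow 2 S)).comp MulAut.conjNormal

theorem sylPerm_apply (S : Subgroup G) [S.Normal] (g : G) (P : Sylow 2 S) :
    sylPerm S g P = (MulAut.conjNormal g : MulAut S) • P := rfl

theorem sylPerm_coe (S : Subgroup G) [S.Normal] (s : S) (P : Sylow 2 S) :
    sylPerm S (s : G) P = s • P := by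
  rw [sylPerm_apply, MulAut.conjNormal_val, Sylow.smul_def]

/-- the centralizer acts trivially -/
theorem centralizer_le_ker_sylPerm (_c : PCore ρ S z) [S.Normal] :
    Subgroup.centralizer (S : Set G) ≤ (sylPerm S).ker := by
  intro g hg
  rw [MonoidHom.mem_ker]
  have h1 : (MulAut.conjNormal g : MulAut S) = 1 := by
    ext s
    rw [MulAut.conjNormal_apply, MulAut.one_apply]
    have := (Subgroup.mem_centralizer_iff.mp hg) (s : G) s.2
    rw [← this]
    group
  ext P : 1
  rw [sylPerm_apply, h1, one_smul]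
  rfl

/-- the kernel meets `S` in `{1, z}` -/
theorem ker_sylPerm_inf (c : PCore ρ S z) [S.Normal] (x : G) (hxS : x ∈ S)
    (hx : x ∈ (sylPerm S).ker) : x = 1 ∨ x = z := by
  haveI : Fact (Nat.Prime 2) := ⟨Nat.prime_two⟩
  have hc := c.ctx
  have hKn : ((sylPerm S).ker.subgroupOf S).Normal := inferInstance
  have hne : (sylPerm S).ker.subgroupOf S ≠ ⊤ := by
    intro htop
    obtain ⟨t, ht⟩ := hc.exists_order_four
    have hpg : IsPGroup 2 (Subgroup.zpowers t) := by
      apply IsPGroup.of_card (n := 2)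
      rw [Nat.card_zpowers, ht]; norm_num
    obtain ⟨P, hP⟩ := hpg.exists_le_sylow
    have hPn : (P : Subgroup S).Normal := by
      rw [← Subgroup.normalizer_eq_top_iff, eq_top_iff]
      intro s _
      apply Sylow.smul_eq_iff_mem_normalizer.mp
      rw [← sylPerm_coe]
      have hs : s ∈ (sylPerm S).ker.subgroupOf S := by rw [htop]; trivial
      rw [Subgroup.mem_subgroupOf, MonoidHom.mem_ker] at hs
      rw [hs]
      rfl
    have htP : t ∈ (P : Subgroup S) := hP (Subgroup.mem_zpowers t)
    have ht1 : t ≠ 1 := by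
      intro h; rw [h, orderOf_one] at ht; omega
    have htz : t ≠ ⟨z, c.hzS⟩ := by
      intro h
      have h2 : orderOf t = 2 := by rw [h]; exact hc.orderOf_z
      omega
    have hPtop := hc.normal_eq_top (P : Subgroup S) t htP ht1 htz
    have hP2 : IsPGroup 2 S := by
      have := P.2
      rw [hPtop] at this
      intro g
      obtain ⟨k, hk⟩ := this ⟨g, trivial⟩
      exact ⟨k, by simpa using congrArg Subtype.val hk⟩
    obtain ⟨n, hn⟩ := hP2.exists_card_eq
    have h3 := hc.three_dvd
    rw [hn] at h3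
    have := (Nat.Prime.dvd_of_dvd_pow Nat.prime_three h3)
    omega
  have := hc.normal_le' _ hne ⟨x, hxS⟩ (by rw [Subgroup.mem_subgroupOf]; exact hx)
  rcases this with h | h
  · left; exact congrArg Subtype.val h
  · right; exact congrArg Subtype.val h

/-- conjugation by a kernel element moves `s ∈ S` by a central factor -/
theorem ker_conj (c : PCore ρ S z) [S.Normal] (k : G) (hk : k ∈ (sylPerm S).ker) (s : G)
    (hs : s ∈ S) : k * s * k⁻¹ = s ∨ k * s * k⁻¹ = z * s := by
  have hSn : S.Normal := inferInstance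
  have h1 : k * s * k⁻¹ * s⁻¹ ∈ S := S.mul_mem (hSn.conj_mem s hs k) (S.inv_mem hs)
  have h2 : k * s * k⁻¹ * s⁻¹ ∈ (sylPerm S).ker := by
    have hKn : (sylPerm S).ker.Normal := inferInstance
    have := (sylPerm S).ker.mul_mem hk (hKn.conj_mem k⁻¹ ((sylPerm S).ker.inv_mem hk) s)
    have e : k * (s * k⁻¹ * s⁻¹) = k * s * k⁻¹ * s⁻¹ := by group
    rwa [e] at this
  rcases c.ker_sylPerm_inf _ h1 h2 with h | h
  · left
    calc k * s * k⁻¹ = (k * s * k⁻¹ * s⁻¹) * s := by group
      _ = s := by rw [h, one_mul]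
  · right
    calc k * s * k⁻¹ = (k * s * k⁻¹ * s⁻¹) * s := by group
      _ = z * s := by rw [h]

/-- the kernel of the action on Sylow subgroups is the centralizer of `S` -/
theorem ker_sylPerm_le (c : PCore ρ S z) [S.Normal] :
    (sylPerm S).ker ≤ Subgroup.centralizer (S : Set G) := by
  intro k hk
  have hle : ⁅S, S⁆ ≤ Subgroup.centralizer ({k} : Set G) := by
    rw [Subgroup.commutator_le]
    intro s hs t ht
    rw [Subgroup.mem_centralizer_iff]
    intro y hy
    rw [Set.mem_singleton_iff] at hy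
    subst hy
    have e : y * ⁅s, t⁆ * y⁻¹ = ⁅y * s * y⁻¹, y * t * y⁻¹⁆ := by
      rw [commutatorElement_def, commutatorElement_def]; group
    have e2 : ⁅y * s * y⁻¹, y * t * y⁻¹⁆ = ⁅s, t⁆ := by
      rcases c.ker_conj y hk s hs with h1 | h1 <;> rcases c.ker_conj y hk t ht with h2 | h2 <;>
        rw [h1, h2]
      · rw [comm_central_right c.zc]
      · rw [comm_central_left c.zc]
      · rw [comm_central_left c.zc, comm_central_right c.zc]
    rw [e2] at e
    calc y * ⁅s, t⁆ = y * ⁅s, t⁆ * y⁻¹ * y := by group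
      _ = ⁅s, t⁆ * y := by rw [e]
  rw [c.hperf] at hle
  rw [Subgroup.mem_centralizer_iff]
  intro s hs
  have := (Subgroup.mem_centralizer_iff.mp (hle hs)) k (Set.mem_singleton k)
  exact this.symm

theorem ker_sylPerm_eq (c : PCore ρ S z) [S.Normal] :
    (sylPerm S).ker = Subgroup.centralizer (S : Set G) :=
  le_antisymm c.ker_sylPerm_le c.centralizer_le_ker_sylPerm

/-- the centralizer of `S` has index at most `120` -/
theorem index_centralizer_le (c : PCore ρ S z) :
    (Subgroup.centralizer (S : Set G)).index ≤ 120 := by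
  haveI := c.hn
  rw [← c.ker_sylPerm_eq, Subgroup.index_ker]
  have h1 : Nat.card (sylPerm S).range ≤ Nat.card (Equiv.Perm (Sylow 2 S)) :=
    Nat.card_le_card_of_injective _ Subtype.val_injective
  rw [Nat.card_perm] at h1
  have h2 := c.ctx.card_sylow_two_le
  have h3 := Nat.factorial_le h2
  have h4 : Nat.factorial 5 = 120 := by decide
  omega

/-- `S ∩ C_G(S)` has relative index `60` in `S` -/
theorem relIndex_centralizer (c : PCore ρ S z) :
    (Subgroup.centralizer (S : Set G)).relIndex S = 60 := by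
  have hc := c.ctx
  have h1 : (Subgroup.centralizer (S : Set G)).subgroupOf S =
      Subgroup.zpowers (⟨z, c.hzS⟩ : S) := by
    ext x
    rw [hc.mem_zs, Subgroup.mem_subgroupOf]
    have := c.mem_inf_centralizer (x : G)
    rw [Subgroup.mem_inf] at this
    constructor
    · intro hx
      rcases this.mp ⟨x.2, hx⟩ with h | h
      · left; exact Subtype.ext h
      · right; exact Subtype.ext h
    · intro hx
      apply (this.mpr _).2
      rcases hx with h | h
      · left; rw [h]; rfl
      · right; rw [h]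
  rw [Subgroup.relIndex, h1]
  have h2 := (Subgroup.zpowers (⟨z, c.hzS⟩ : S)).card_mul_index
  rw [hc.card_zs, c.card_S] at h2
  omega

/-- `S · C_G(S)` has index at most two -/
theorem index_sup_centralizer (c : PCore ρ S z) :
    (S ⊔ Subgroup.centralizer (S : Set G)).index = 1 ∨
      (S ⊔ Subgroup.centralizer (S : Set G)).index = 2 := by
  haveI := c.hn
  have h1 := Subgroup.relIndex_mul_index
    (le_sup_right : Subgroup.centralizer (S : Set G) ≤ S ⊔ Subgroup.centralizer (S : Set G))
  rw [Subgroup.relIndex_sup_right, c.relIndex_centralizer] at h1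
  have h2 := c.index_centralizer_le
  have h3 : (S ⊔ Subgroup.centralizer (S : Set G)).index ≠ 0 := Subgroup.index_ne_zero_of_finite
  omega

end PCore

end rep

end Cfsg.Agent.Lib.helper6.ZP
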