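import Mathlib
import Cfsg.Agent.Lib.helper6.ZPk2

set_option autoImplicit false

namespace Cfsg.Agent.Lib.helper6.ZP

open scoped commutatorElement

section rep

universe uV uG

variable {r : ℕ} [hr : Fact r.Prime] {V : Type uV} [AddCommGroup V] [Module (ZMod r) V] [Finite V]
  [Nontrivial V]
variable {G : Type uG} [Group G] [Finite G] {ρ : G →* Module.End (ZMod r) V}

namespace PCore

variable {S : Subgroup G} {z : G}

theorem orderOf_z (c : PCore ρ S z) : orderOf z = 2 := orderOf_eq_prime c.hz2 c.hz1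

theorem z_mem_centralizer (c : PCore ρ S z) : z ∈ Subgroup.centralizer (S : Set G) :=
  ((c.mem_inf_centralizer z).mpr (Or.inr rfl)).2

/-- an element of `S ∩ C_G(S)` has order at most two -/
theorem orderOf_le_two (c : PCore ρ S z) (t : G) (htS : t ∈ S)
    (htC : t ∈ Subgroup.centralizer (S : Set G)) : orderOf t ≤ 2 := by
  rcases (c.mem_inf_centralizer t).mp ⟨htS, htC⟩ with h | h
  · rw [h, orderOf_one]; omega
  · rw [h, c.orderOf_z]

theorem no_order_four (c : PCore ρ S z) (t : G) (htC : t ∈ Subgroup.centralizer (S : Set G))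
    (ht : orderOf t = 4) : False := by
  obtain ⟨i, hi⟩ := c.ctx.exists_order_four
  have hi' : orderOf (i : G) = 4 := by rw [Subgroup.orderOf_coe]; exact hi
  have hcomm : Commute t (i : G) := ((Subgroup.mem_centralizer_iff.mp htC) (i : G) i.2).symm
  have htS : t ∈ S := by
    rcases c.hf.eq_or_eq_inv_of_commute ht hi' hcomm with h | h
    · rw [h]; exact i.2
    · rw [h]; exact S.inv_mem i.2
  have := c.orderOf_le_two t htS htC
  omega

theorem no_order_p (c : PCore ρ S z) {p : ℕ} (hp : p.Prime) (hpS : p ∣ 120) (hp2 : p ≠ 2) (t : G)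
    (htC : t ∈ Subgroup.centralizer (S : Set G)) (ht : orderOf t = p) : False := by
  haveI : Fact p.Prime := ⟨hp⟩
  rw [← c.card_S] at hpS
  obtain ⟨s, hs⟩ := exists_prime_orderOf_dvd_card' p hpS
  have hs' : orderOf (s : G) = p := by rw [Subgroup.orderOf_coe]; exact hs
  have hcomm : Commute t (s : G) := ((Subgroup.mem_centralizer_iff.mp htC) (s : G) s.2).symm
  have h1 := c.hf.mem_zpowers_of_commute hp hcomm ht hs'
  have htS : t ∈ S := by
    have hle : Subgroup.zpowers (s : G) ≤ S := by rw [Subgroup.zpowers_le]; exact s.2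
    exact hle h1
  have := c.orderOf_le_two t htS htC
  have := hp.two_le
  omega

theorem card_centralizer (c : PCore ρ S z) :
    ∃ m : ℕ, Nat.card (Subgroup.centralizer (S : Set G)) = 2 * m ∧ m.Coprime 30 := by
  haveI : Fact (Nat.Prime 2) := ⟨Nat.prime_two⟩
  haveI : Fact (Nat.Prime 3) := ⟨Nat.prime_three⟩
  haveI : Fact (Nat.Prime 5) := ⟨Nat.prime_five⟩
  obtain ⟨C, hC⟩ : ∃ C : Subgroup G, C = Subgroup.centralizer (S : Set G) := ⟨_, rfl⟩
  rw [← hC]
  have hFC : FPF (ρ.comp C.subtype) := c.hf.comp_subtype C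
  have h2 : 2 ∣ Nat.card C := by
    have h1 : orderOf (⟨z, by rw [hC]; exact c.z_mem_centralizer⟩ : C) = 2 := by
      rw [← Subgroup.orderOf_coe]; exact c.orderOf_z
    rw [← h1]
    exact orderOf_dvd_natCard _
  have h4 : ¬ 4 ∣ Nat.card C := by
    intro h4
    obtain ⟨K, hK⟩ := Sylow.exists_subgroup_card_pow_prime 2 (n := 2) (G := C) h4
    have hcomm := (IsPGroup.isMulCommutative_of_card_eq_prime_sq hK).is_comm.comm
    haveI := hFC.isCyclic_of_comm' K hcomm
    obtain ⟨g, hg⟩ := IsCyclic.exists_generator (α := K)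
    have ho : orderOf g = 4 := by
      rw [orderOf_eq_card_of_forall_mem_zpowers hg, hK]; norm_num
    apply c.no_order_four (((g : K) : C) : G)
    · rw [← hC]; exact (g : C).2
    · rw [Subgroup.orderOf_coe, Subgroup.orderOf_coe]; exact ho
  have hp : ∀ p : ℕ, p.Prime → p ∣ 120 → p ≠ 2 → ¬ p ∣ Nat.card C := by
    intro p hp hp120 hp2 hdvd
    haveI : Fact p.Prime := ⟨hp⟩
    obtain ⟨t, ht⟩ := exists_prime_orderOf_dvd_card' p hdvd
    apply c.no_order_p hp hp120 hp2 (t : G)
    · rw [← hC]; exact t.2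
    · rw [Subgroup.orderOf_coe]; exact ht
  obtain ⟨m, hm⟩ := h2
  refine ⟨m, hm, ?_⟩
  have hm2 : ¬ 2 ∣ m := by
    rintro ⟨k, hk⟩
    apply h4
    exact ⟨k, by rw [hm, hk]; ring⟩
  have hm3 : ¬ 3 ∣ m := fun h => hp 3 Nat.prime_three (by norm_num) (by norm_num)
    (hm ▸ Dvd.dvd.mul_left h 2)
  have hm5 : ¬ 5 ∣ m := fun h => hp 5 Nat.prime_five (by norm_num) (by norm_num)
    (hm ▸ Dvd.dvd.mul_left h 2)
  have e : (30 : ℕ) = 2 * (3 * 5) := by norm_num
  rw [e]
  apply Nat.Coprime.mul_right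
  · exact Nat.coprime_comm.mp ((Nat.Prime.coprime_iff_not_dvd Nat.prime_two).mpr hm2)
  apply Nat.Coprime.mul_right
  · exact Nat.coprime_comm.mp ((Nat.Prime.coprime_iff_not_dvd Nat.prime_three).mpr hm3)
  · exact Nat.coprime_comm.mp ((Nat.Prime.coprime_iff_not_dvd Nat.prime_five).mpr hm5)

/-- the odd part `M` of the centralizer of `S` -/
theorem exists_compl (c : PCore ρ S z) :
    ∃ M : Subgroup G, M ≤ Subgroup.centralizer (S : Set G) ∧
      Nat.card (Subgroup.centralizer (S : Set G)) = 2 * Nat.card M ∧ (Nat.card M).Coprime 30 ∧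
      S ⊓ M = ⊥ ∧ S ⊔ M = S ⊔ Subgroup.centralizer (S : Set G) ∧
      (∀ (p : ℕ) [Fact p.Prime] (P : Sylow p M), IsCyclic P) := by
  obtain ⟨m, hm, hcop⟩ := c.card_centralizer
  obtain ⟨C, hC⟩ : ∃ C : Subgroup G, C = Subgroup.centralizer (S : Set G) := ⟨_, rfl⟩
  rw [← hC] at hm ⊢
  have hzC : z ∈ C := by rw [hC]; exact c.z_mem_centralizer
  obtain ⟨Z, hZ⟩ : ∃ Z : Subgroup C, Z = Subgroup.zpowers (⟨z, hzC⟩ : C) := ⟨_, rfl⟩
  have hZcard : Nat.card Z = 2 := by
    rw [hZ, Nat.card_zpowers, ← Subgroup.orderOf_coe]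
    exact c.orderOf_z
  haveI hZn : Z.Normal := by
    rw [hZ]
    refine ⟨fun n hn g => ?_⟩
    have : g * n * g⁻¹ = n := by
      obtain ⟨k, rfl⟩ := Subgroup.mem_zpowers_iff.mp hn
      have h1 : Commute g (⟨z, hzC⟩ : C) := by
        apply Subtype.ext
        exact c.zc g
      have := (h1.zpow_right k).eq
      rw [this]; group
    rw [this]; exact hn
  have hZidx : Z.index = m := by
    have := Z.card_mul_index
    rw [hZcard, hm] at this
    omega
  have hm2 : m.Coprime 2 := Nat.Coprime.coprime_dvd_right (by norm_num : 2 ∣ 30) hcop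
  obtain ⟨M₀, hM₀⟩ := Subgroup.exists_right_complement'_of_coprime (N := Z) (by
    rw [hZcard, hZidx]; exact hm2.symm)
  have hM₀card : Nat.card M₀ = m := by
    have := hM₀.card_mul_card
    rw [hZcard, hm] at this
    omega
  have hMcard : Nat.card (M₀.map C.subtype) = m := by
    rw [Subgroup.card_map_of_injective C.subtype_injective, hM₀card]
  have hMle : M₀.map C.subtype ≤ C := by
    rintro _ ⟨x, _, rfl⟩
    exact x.2
  refine ⟨M₀.map C.subtype, hMle, by rw [hm, hMcard], by rw [hMcard]; exact hcop, ?_, ?_, ?_⟩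
  · rw [eq_bot_iff]
    intro x hx
    rw [Subgroup.mem_bot]
    have hxC : x ∈ Subgroup.centralizer (S : Set G) := by rw [← hC]; exact hMle hx.2
    rcases (c.mem_inf_centralizer x).mp ⟨hx.1, hxC⟩ with h | h
    · exact h
    · exfalso
      have h1 : orderOf (⟨x, hx.2⟩ : M₀.map C.subtype) = 2 := by
        rw [← Subgroup.orderOf_coe]
        show orderOf x = 2
        rw [h]; exact c.orderOf_z
      have h2 := orderOf_dvd_natCard (⟨x, hx.2⟩ : M₀.map C.subtype)
      rw [h1, hMcard] at h2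
      have := Nat.Coprime.eq_one_of_dvd hm2.symm h2
      omega
  · apply le_antisymm
    · exact sup_le_sup_left hMle S
    · apply sup_le le_sup_left
      have h1 : C ≤ (Z ⊔ M₀).map C.subtype := by
        rw [hM₀.sup_eq_top, ← MonoidHom.range_eq_map, Subgroup.range_subtype]
      refine le_trans h1 ?_
      rw [Subgroup.map_sup]
      apply sup_le _ le_sup_right
      refine le_trans ?_ le_sup_left
      rintro _ ⟨x, hx, rfl⟩
      rw [hZ] at hx
      obtain ⟨k, rfl⟩ := Subgroup.mem_zpowers_iff.mp hx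
      simp only [Subgroup.subtype_apply, Subgroup.coe_zpow]
      exact S.zpow_mem c.hzS k
  · intro p _ P
    have hF : FPF (ρ.comp (M₀.map C.subtype).subtype) := c.hf.comp_subtype _
    rcases hF.pgroup_structure (P : Subgroup (M₀.map C.subtype)) P.2 with h | ⟨rfl, n, ⟨e⟩⟩
    · exact h
    · exfalso
      have h1 : Nat.card (P : Subgroup (M₀.map C.subtype)) = 4 * 2 ^ n := by
        haveI : NeZero (2 ^ n) := ⟨by positivity⟩
        rw [Nat.card_congr e.toEquiv, Nat.card_eq_fintype_card, QuaternionGroup.card]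
      have h2 := Subgroup.card_subgroup_dvd_card (P : Subgroup (M₀.map C.subtype))
      rw [h1, hMcard] at h2
      have h3 : 2 ∣ m := dvd_trans ⟨2 * 2 ^ n, by ring⟩ h2
      have := Nat.Coprime.eq_one_of_dvd hm2.symm h3
      omega

end PCore

/-- structure of a non-solvable fixed-point-free group -/
theorem FPF.nonsolvable_structure (h : FPF ρ) (hns : ¬ Group.IsSolvable G) :
    ∃ (S M : Subgroup G) (z : G), PCore ρ S z ∧ M ≤ Subgroup.centralizer (S : Set G) ∧
      Nat.card (Subgroup.centralizer (S : Set G)) = 2 * Nat.card M ∧ (Nat.card M).Coprime 30 ∧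
      S ⊓ M = ⊥ ∧ S ⊔ M = S ⊔ Subgroup.centralizer (S : Set G) ∧
      (∀ (p : ℕ) [Fact p.Prime] (P : Sylow p M), IsCyclic P) := by
  obtain ⟨S, z, c⟩ := h.exists_pcore hns
  obtain ⟨M, hM⟩ := c.exists_compl
  exact ⟨S, M, z, c, hM⟩

end rep

end Cfsg.Agent.Lib.helper6.ZP
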