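import Mathlib

/-!
# CT-groups (commutative-transitive groups): elementary lemmas on involutions
-/

set_option autoImplicit false

namespace Cfsg.Agent.Lib.helper6.CT

variable {G : Type*} [Group G]

theorem inv_eq_of_sq {u : G} (hu : u * u = 1) : u⁻¹ = u :=
  inv_eq_of_mul_eq_one_left hu

/-- two non-commuting involutions in a CA-group are conjugate by an involution -/
theorem exists_invol_conj [Finite G]
    (hCA : ∀ z : G, z ≠ 1 → ∀ a b : G, z * a = a * z → z * b = b * z → a * b = b * a)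
    {u v : G} (hu : u * u = 1) (hv : v * v = 1) (huv : u * v ≠ v * u) :
    ∃ s : G, s * s = 1 ∧ s * u * s⁻¹ = v := by
  have hui : u⁻¹ = u := inv_eq_of_sq hu
  have hvi : v⁻¹ = v := inv_eq_of_sq hv
  set y := u * v with hy
  have hyi : y⁻¹ = v * u := by rw [hy, mul_inv_rev, hui, hvi]
  have hyu : u * y * u⁻¹ = y⁻¹ := by
    rw [hyi, hy, hui]
    calc u * (u * v) * u = (u * u) * v * u := by group
      _ = v * u := by rw [hu, one_mul]
  have hyv : v * y * v⁻¹ = y⁻¹ := by
    rw [hyi, hy, hvi]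
    calc v * (u * v) * v = v * u * (v * v) := by group
      _ = v * u := by rw [hv, mul_one]
  have hyuk : ∀ k : ℕ, u * y ^ k * u⁻¹ = (y ^ k)⁻¹ := by
    intro k
    rw [← conj_pow, hyu, inv_pow]
  have hyvk : ∀ k : ℕ, v * y ^ k * v⁻¹ = (y ^ k)⁻¹ := by
    intro k
    rw [← conj_pow, hyv, inv_pow]
  have hm : 0 < orderOf y := orderOf_pos y
  rcases Nat.even_or_odd' (orderOf y) with ⟨k, hk | hk⟩
  · -- even order: contradiction
    exfalso
    have hk0 : k ≠ 0 := by omega
    have hklt : k < orderOf y := by omega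
    have hz1 : y ^ k ≠ 1 := pow_ne_one_of_lt_orderOf hk0 hklt
    have hzz : y ^ k * y ^ k = 1 := by
      rw [← pow_add, ← two_mul, ← hk, pow_orderOf_eq_one]
    have hzi : (y ^ k)⁻¹ = y ^ k := inv_eq_of_sq hzz
    have h1 : y ^ k * u = u * y ^ k := by
      have := hyuk k
      rw [hzi] at this
      calc y ^ k * u = (u * y ^ k * u⁻¹) * u := by rw [this]
        _ = u * y ^ k := by group
    have h2 : y ^ k * v = v * y ^ k := by
      have := hyvk k
      rw [hzi] at this
      calc y ^ k * v = (v * y ^ k * v⁻¹) * v := by rw [this]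
        _ = v * y ^ k := by group
    exact huv (hCA (y ^ k) hz1 u v h1 h2)
  · -- odd order
    have hy2k : y ^ (2 * k) = y⁻¹ := by
      have : y ^ (2 * k) * y = 1 := by
        rw [← pow_succ, ← hk, pow_orderOf_eq_one]
      exact eq_inv_of_mul_eq_one_left this
    have hss : (y ^ k * u) * (y ^ k * u) = 1 := by
      have := hyuk k
      rw [hui] at this
      calc (y ^ k * u) * (y ^ k * u) = y ^ k * (u * y ^ k * u) := by group
        _ = 1 := by rw [this, mul_inv_cancel]
    refine ⟨y ^ k * u, hss, ?_⟩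
    rw [inv_eq_of_sq hss]
    calc y ^ k * u * u * (y ^ k * u) = y ^ k * (u * u) * y ^ k * u := by group
      _ = y ^ (2 * k) * u := by rw [hu, mul_one, ← pow_add, two_mul]
      _ = v := by rw [hy2k, hyi]; calc v * u * u = v * (u * u) := by group
                                    _ = v := by rw [hu, mul_one]

/-- a fixed-point-free involutory automorphism (given by conjugation) inverts every element -/
theorem inverts_of_fpf (D : Subgroup G) [Finite D] {s : G} (hs : s * s = 1)
    (hnorm : ∀ d ∈ D, s * d * s⁻¹ ∈ D)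
    (hfpf : ∀ d ∈ D, s * d * s⁻¹ = d → d = 1) :
    ∀ d ∈ D, s * d * s⁻¹ = d⁻¹ := by
  have hsi : s⁻¹ = s := inv_eq_of_sq hs
  let f : D → D := fun d => ⟨(d : G)⁻¹ * (s * d * s⁻¹), D.mul_mem (D.inv_mem d.2) (hnorm d d.2)⟩
  have hinj : Function.Injective f := by
    intro d e hde
    have h1 : (d : G)⁻¹ * (s * d * s⁻¹) = (e : G)⁻¹ * (s * e * s⁻¹) := congrArg Subtype.val hde
    have h3 : s * e * s⁻¹ = (e : G) * (d : G)⁻¹ * (s * d * s⁻¹) := by
      calc s * e * s⁻¹ = e * ((e : G)⁻¹ * (s * e * s⁻¹)) := by group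
        _ = e * ((d : G)⁻¹ * (s * d * s⁻¹)) := by rw [← h1]
        _ = _ := by group
    have h2 : s * ((e : G) * (d : G)⁻¹) * s⁻¹ = (e : G) * (d : G)⁻¹ := by
      calc s * ((e : G) * (d : G)⁻¹) * s⁻¹ = (s * e * s⁻¹) * (s * d * s⁻¹)⁻¹ := by group
        _ = (e : G) * (d : G)⁻¹ := by rw [h3]; group
    have h4 := hfpf _ (D.mul_mem e.2 (D.inv_mem d.2)) h2
    apply Subtype.ext
    have : (e : G) = d := by
      calc (e : G) = (e : G) * (d : G)⁻¹ * d := by group
        _ = d := by rw [h4, one_mul]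
    exact this.symm
  have hsurj := Finite.surjective_of_injective hinj
  intro d hd
  obtain ⟨e, he⟩ := hsurj ⟨d, hd⟩
  have hd' : d = (e : G)⁻¹ * (s * e * s⁻¹) := (congrArg Subtype.val he).symm
  rw [hd']
  calc s * ((e : G)⁻¹ * (s * e * s⁻¹)) * s⁻¹
      = (s * e * s⁻¹)⁻¹ * ((s * s) * e * (s * s)⁻¹) := by group
    _ = ((e : G)⁻¹ * (s * e * s⁻¹))⁻¹ := by rw [hs]; group

end Cfsg.Agent.Lib.helper6.CT
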