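import Mathlib
import Cfsg.Prelude.Def_Characters
import Cfsg.Agent.Lib.helper6.FeitMain2
import Cfsg.Agent.Lib.Helper11.FrobIrr

set_option autoImplicit false
set_option linter.unusedSectionVars false
open scoped ComplexConjugate

namespace Cfsg.Agent.Lib.helper6.FeitNA

open Cfsg.Agent.Lib.helper7 Cfsg.Agent.Lib.helper2 Cfsg.Agent.Lib.Helper25 Cfsg.Agent.Lib.Helper11
open Cfsg.Agent.Lib.helper6.FeitFrob Cfsg.Agent.Lib.helper6.FeitInd Cfsg.Agent.Lib.helper6.FeitMain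

variable {K : Type*} [Group K] [Fintype K] (F : Subgroup K) [hFn : F.Normal]

variable (hab : ∀ x y : K, x * y * x⁻¹ * y⁻¹ ∈ F)
  (hC : ∀ n ∈ F, n ≠ 1 → Subgroup.centralizer ({n} : Set K) ≤ F)

include hC in
theorem T_ind' {ξ : Cfsg.IrrCharacter K} (hξ : IsT F ξ) :
    ∃ φ : F → ℂ, Cfsg.IsIrrCharacter F φ ∧ (ξ : K → ℂ) = Cfsg.indFun F φ :=
  Cfsg.Agent.S1528.result F hC (ξ : K → ℂ) ξ.2 hξ

/-- the degree of the character of `F` from which `ξ` is induced -/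
noncomputable def dT (ξ : Cfsg.IrrCharacter K) : ℕ := deg ξ / F.index

include hC in
theorem T_deg' {ξ : Cfsg.IrrCharacter K} (hξ : IsT F ξ) :
    deg ξ = F.index * dT F ξ ∧ 0 < dT F ξ := by
  obtain ⟨φ, hφ, h⟩ := T_ind' F hC hξ
  obtain ⟨n, hn0, hn⟩ := irr_one_eq_finrank (⟨φ, hφ⟩ : Cfsg.IrrCharacter F)
  have h1 : (ξ : K → ℂ) 1 = (F.index : ℂ) * (n : ℂ) := by
    rw [h, h7_indFun_one]
    congr 1
  have h2 : deg ξ = F.index * n := by
    have := deg_spec ξ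
    rw [h1] at this
    exact_mod_cast this.symm
  have hi : 0 < F.index := Nat.pos_of_ne_zero Subgroup.index_ne_zero_of_finite
  have h3 : dT F ξ = n := by
    unfold dT
    rw [h2, Nat.mul_div_cancel_left _ hi]
  rw [h3]
  exact ⟨h2, hn0⟩

include hC in
theorem T_one' {ξ : Cfsg.IrrCharacter K} (hξ : IsT F ξ) :
    (ξ : K → ℂ) 1 = (F.index : ℂ) * (dT F ξ : ℂ) := by
  rw [deg_spec ξ, (T_deg' F hC hξ).1]
  push_cast
  rfl

include hC in
theorem T_vanish' {ξ : Cfsg.IrrCharacter K} (hξ : IsT F ξ) {k : K} (hk : k ∉ F) :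
    (ξ : K → ℂ) k = 0 := by
  obtain ⟨φ, hφ, h⟩ := T_ind' F hC hξ
  rw [h]
  exact indFun_eq_zero_of_not_mem F φ k hk

variable [Fintype (Cfsg.IrrCharacter K)] [DecidablePred (IsT F)]

include hab hC in
theorem L_sum' [Fintype F] (k : K) [Decidable (k ∈ F)] :
    ∑ μ ∈ Finset.univ.filter (fun η : Cfsg.IrrCharacter K => ¬ IsT F η), (μ : K → ℂ) k =
      if k ∈ F then (F.index : ℂ) else 0 := by
  classical
  by_cases hk : k ∈ F
  · rw [if_pos hk, ← card_L F hab]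
    have : ∀ μ ∈ Finset.univ.filter (fun η : Cfsg.IrrCharacter K => ¬ IsT F η),
        (μ : K → ℂ) k = 1 := fun μ hμ => L_F F hab (Finset.mem_filter.mp hμ).2 hk
    rw [Finset.sum_congr rfl this, Finset.sum_const, nsmul_eq_mul, mul_one]
  · rw [if_neg hk]
    have hk1 : k ≠ 1 := fun h => hk (h ▸ F.one_mem)
    have h1 := col_one (K := K) k
    rw [if_neg hk1, ← Finset.sum_filter_add_sum_filter_not Finset.univ (fun η => IsT F η)] at h1
    have h2 : ∑ η ∈ Finset.univ.filter (fun η : Cfsg.IrrCharacter K => IsT F η),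
        (η : K → ℂ) k * (η : K → ℂ) 1 = 0 := by
      apply Finset.sum_eq_zero
      intro η hη
      rw [T_vanish' F hC (Finset.mem_filter.mp hη).2 hk, zero_mul]
    rw [h2, zero_add] at h1
    rw [← h1]
    refine Finset.sum_congr rfl fun μ hμ => ?_
    rw [L_lin F hab (Finset.mem_filter.mp hμ).2, mul_one]

include hab hC in
/-- the sum of the squares of the `dT` -/
theorem sum_dT_sq [Fintype F] :
    (∑ ξ ∈ Finset.univ.filter (fun η : Cfsg.IrrCharacter K => IsT F η), dT F ξ ^ 2) * F.index + 1 =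
      Nat.card F := by
  classical
  have h1 := Cfsg.Agent.S0134.result (G := K)
  rw [finsum_eq_sum_of_fintype,
    ← Finset.sum_filter_add_sum_filter_not Finset.univ (fun η => IsT F η)] at h1
  have h2 : ∑ η ∈ Finset.univ.filter (fun η : Cfsg.IrrCharacter K => IsT F η),
      (η : K → ℂ) 1 ^ 2 =
      ((∑ ξ ∈ Finset.univ.filter (fun η : Cfsg.IrrCharacter K => IsT F η), dT F ξ ^ 2 : ℕ) : ℂ) *
        (F.index : ℂ) ^ 2 := by
    push_cast
    rw [Finset.sum_mul]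
    refine Finset.sum_congr rfl fun η hη => ?_
    rw [T_one' F hC (Finset.mem_filter.mp hη).2]
    ring
  have h3 : ∑ η ∈ Finset.univ.filter (fun η : Cfsg.IrrCharacter K => ¬ IsT F η),
      (η : K → ℂ) 1 ^ 2 = (F.index : ℂ) := by
    have : ∀ η ∈ Finset.univ.filter (fun η : Cfsg.IrrCharacter K => ¬ IsT F η),
        (η : K → ℂ) 1 ^ 2 = 1 := fun η hη => by
      rw [L_lin F hab (Finset.mem_filter.mp hη).2, one_pow]
    rw [Finset.sum_congr rfl this, Finset.sum_const, nsmul_eq_mul, mul_one,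
      card_L F hab]
  rw [h2, h3] at h1
  have h4 : (Nat.card K : ℂ) = (F.index : ℂ) * (Nat.card F : ℂ) := by
    rw [← Nat.cast_mul, Subgroup.index_mul_card]
  rw [h4] at h1
  have hi0 : (F.index : ℂ) ≠ 0 := by
    have : F.index ≠ 0 := Subgroup.index_ne_zero_of_finite
    exact_mod_cast this
  have key : ((∑ ξ ∈ Finset.univ.filter (fun η : Cfsg.IrrCharacter K => IsT F η), dT F ξ ^ 2 : ℕ) : ℂ)
      * (F.index : ℂ) + 1 = (Nat.card F : ℂ) := by
    apply mul_left_cancel₀ hi0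
    linear_combination h1
  exact_mod_cast key

include hC in
/-- a nilpotent nontrivial kernel gives a member of `T` with `dT = 1` -/
theorem exists_dT_one (hF1 : F ≠ ⊥) (hsolv : Group.IsSolvable F) :
    ∃ ξ : Cfsg.IrrCharacter K, IsT F ξ ∧ dT F ξ = 1 ∧
      ∃ θ : Cfsg.IrrCharacter F, (θ : F → ℂ) 1 = 1 ∧ (ξ : K → ℂ) = Cfsg.indFun F (θ : F → ℂ) := by
  classical
  haveI : (⊥ : Subgroup K).Normal := inferInstance
  obtain ⟨θ, hθ, hθ1⟩ := Cfsg.Agent.Lib.Helper11.SeqInd.exists_linear F ⊥ hsolv (bot_lt_iff_ne_bot.mpr hF1)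
  have hmem : Cfsg.indFun F θ ∈ Cfsg.inducedIrrAbove F ⊥ := by
    rw [Cfsg.Agent.Lib.Helper11.SeqInd.inducedIrrAbove_eq]
    exact ⟨θ, hθ, rfl⟩
  have hset := Cfsg.Agent.Lib.Helper11.FrobIrr.set_eq F hC
  rw [← hset] at hmem
  obtain ⟨hirr, hker⟩ := hmem
  refine ⟨⟨Cfsg.indFun F θ, hirr⟩, hker, ?_, ⟨θ, hθ.1⟩, hθ1, rfl⟩
  have h1 := T_one' F hC (ξ := ⟨Cfsg.indFun F θ, hirr⟩) hker
  simp only at h1
  rw [h7_indFun_one, hθ1, mul_one] at h1
  have hi0 : (F.index : ℂ) ≠ 0 := by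
    have : F.index ≠ 0 := Subgroup.index_ne_zero_of_finite
    exact_mod_cast this
  have h2 : (1 : ℂ) = (dT F ⟨Cfsg.indFun F θ, hirr⟩ : ℂ) := by
    apply mul_left_cancel₀ hi0
    rw [mul_one]
    exact h1
  exact_mod_cast h2.symm

end Cfsg.Agent.Lib.helper6.FeitNA
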