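import Mathlib
import Cfsg.Prelude.Def_Characters
import Cfsg.Agent.Lib.helper6.FeitNA1
import Cfsg.Agent.Lib.helper6.FeitMain3

set_option autoImplicit false
set_option linter.unusedSectionVars false
open scoped ComplexConjugate

namespace Cfsg.Agent.Lib.helper6.FeitNA

open Cfsg.Agent.Lib.helper7 Cfsg.Agent.Lib.helper2 Cfsg.Agent.Lib.Helper25 Cfsg.Agent.Lib.Helper11
open Cfsg.Agent.Lib.helper6.FeitFrob Cfsg.Agent.Lib.helper6.FeitInd Cfsg.Agent.Lib.helper6.FeitMain

variable {G : Type*} [Group G] [Fintype G] (N : Subgroup G) [Fintype N]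

variable (F : Subgroup N) [hFn : F.Normal] [Fintype F]
  [Fintype (Cfsg.IrrCharacter G)] [Fintype (Cfsg.IrrCharacter N)]
  [DecidablePred (IsT F)]

variable (hab : ∀ x y : N, x * y * x⁻¹ * y⁻¹ ∈ F)
  (hC : ∀ n ∈ F, n ≠ 1 → Subgroup.centralizer ({n} : Set N) ≤ F)
  (hTI : ∀ u : N, u ∈ F → u ≠ 1 → ∀ x : G, x⁻¹ * (u : G) * x ∈ N → x ∈ N)
  (h e : ℕ) (hF : Nat.card F = h) (hidx : F.index = e) (hN : N.index = h + 1)

include hC hTI hF hidx hN in
theorem gramTT' [DecidableEq (Cfsg.IrrCharacter N)] {ξ ξ' : Cfsg.IrrCharacter N}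
    (hξ : IsT F ξ) (hξ' : IsT F ξ') :
    ∑ χ : Cfsg.IrrCharacter G, mult N χ ξ * mult N χ ξ' =
      e * dT F ξ * dT F ξ' + if ξ = ξ' then 1 else 0 := by
  have hh := h_pos N F h hF
  have he := e_pos N F e hidx
  have key : ((∑ χ : Cfsg.IrrCharacter G, mult N χ ξ * mult N χ ξ' : ℕ) : ℂ) =
      ((e * dT F ξ * dT F ξ' + if ξ = ξ' then 1 else 0 : ℕ) : ℂ) := by
    push_cast
    simp only [← mult_spec]
    rw [gram_ind N (isCharacter_of_irr ξ) (isCharacter_of_irr ξ'),
      ind_inner_ti N (F : Set N) _ _ (isCharacter_isClassFunction (isCharacter_of_irr ξ'))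
        (fun n hn => T_vanish' F hC hξ hn) (fun u hu => hTI u hu),
      irr_classInner, T_one' F hC hξ, T_one' F hC hξ', hidx, hN,
      card_N N F h e hF hidx, map_mul, Complex.conj_natCast, Complex.conj_natCast]
    have h1 : (h : ℂ) ≠ 0 := by exact_mod_cast hh.ne'
    have h2 : (e : ℂ) ≠ 0 := by exact_mod_cast he.ne'
    push_cast
    field_simp
    split_ifs <;> ring
  exact_mod_cast key

include hab hC hTI hF hidx hN in
theorem gramTL' {ξ μ : Cfsg.IrrCharacter N}
    (hξ : IsT F ξ) (hμ : ¬ IsT F μ) :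
    ∑ χ : Cfsg.IrrCharacter G, mult N χ ξ * mult N χ μ = dT F ξ := by
  classical
  have hh := h_pos N F h hF
  have he := e_pos N F e hidx
  have hne : ξ ≠ μ := fun h => hμ (h ▸ hξ)
  have key : ((∑ χ : Cfsg.IrrCharacter G, mult N χ ξ * mult N χ μ : ℕ) : ℂ) =
      ((dT F ξ : ℕ) : ℂ) := by
    push_cast
    simp only [← mult_spec]
    rw [gram_ind N (isCharacter_of_irr ξ) (isCharacter_of_irr μ),
      ind_inner_ti N (F : Set N) _ _ (isCharacter_isClassFunction (isCharacter_of_irr μ))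
        (fun n hn => T_vanish' F hC hξ hn) (fun u hu => hTI u hu),
      irr_classInner, if_neg hne, T_one' F hC hξ, L_lin F hab hμ, hidx, hN,
      card_N N F h e hF hidx, map_one]
    have h1 : (h : ℂ) ≠ 0 := by exact_mod_cast hh.ne'
    have h2 : (e : ℂ) ≠ 0 := by exact_mod_cast he.ne'
    push_cast
    field_simp
    ring
  exact_mod_cast key

include hab hC hidx in
theorem degRes' (χ : Cfsg.IrrCharacter G) :
    deg χ = ∑ μ ∈ Finset.univ.filter (fun η : Cfsg.IrrCharacter N => ¬ IsT F η), mult N χ μ +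
      e * ∑ ξ ∈ Finset.univ.filter (fun η : Cfsg.IrrCharacter N => IsT F η),
        dT F ξ * mult N χ ξ := by
  have key : ((deg χ : ℕ) : ℂ) =
      ((∑ μ ∈ Finset.univ.filter (fun η : Cfsg.IrrCharacter N => ¬ IsT F η), mult N χ μ +
      e * ∑ ξ ∈ Finset.univ.filter (fun η : Cfsg.IrrCharacter N => IsT F η),
        dT F ξ * mult N χ ξ : ℕ) : ℂ) := by
    rw [← deg_spec]
    have h1 := congrFun (res_expand N χ) 1
    rw [res_apply, Subgroup.coe_one, Finset.sum_apply] at h1
    rw [h1, ← Finset.sum_filter_add_sum_filter_not Finset.univ (fun η => IsT F η), add_comm]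
    push_cast
    congr 1
    · refine Finset.sum_congr rfl fun μ hμ => ?_
      rw [Pi.smul_apply, smul_eq_mul, L_lin F hab (Finset.mem_filter.mp hμ).2, mul_one]
    · rw [Finset.mul_sum]
      refine Finset.sum_congr rfl fun ξ hξ => ?_
      rw [Pi.smul_apply, smul_eq_mul, T_one' F hC (Finset.mem_filter.mp hξ).2, hidx]
      ring
  exact_mod_cast key

end Cfsg.Agent.Lib.helper6.FeitNA
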