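import Mathlib
import Cfsg.Prelude.Def_Characters
import Cfsg.Agent.Lib.helper7.CharCentral
import Cfsg.Agent.Lib.helper7.BSFinal
import Cfsg.Agent.Lib.Helper25.CharBasic
import Cfsg.Agent.Lib.Helper25.CharOrth

/-!
# Irreducible characters of a 2-group of order `q³` with nondegenerate commutator forms
-/

set_option autoImplicit false
open scoped ComplexConjugate

namespace Cfsg.Agent.Lib.helper6.SuzChar

open Cfsg.Agent.Lib.helper7 Cfsg.Agent.Lib.Helper25

variable {F : Type*} [Group F] [Fintype F] (A : Subgroup F) [Fintype A]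

/-- central involutions act by signs -/
theorem central_sign (φ : Cfsg.IrrCharacter F) {a : F} (hac : a ∈ Subgroup.center F)
    (ha2 : a * a = 1) :
    (φ : F → ℂ) a = (φ : F → ℂ) 1 ∨ (φ : F → ℂ) a = -(φ : F → ℂ) 1 := by
  obtain ⟨c, hc⟩ := h7_central_char φ.2 a hac
  have h1 : (φ : F → ℂ) a = c * (φ : F → ℂ) 1 := by
    have := hc 1
    rwa [mul_one] at this
  have h2 : (φ : F → ℂ) 1 = c * (φ : F → ℂ) a := by
    have := hc a
    rwa [ha2] at this
  have h3 : (c * c - 1) * (φ : F → ℂ) 1 = 0 := by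
    rw [h1] at h2
    linear_combination -h2
  have h4 : c * c - 1 = 0 := by
    rcases mul_eq_zero.mp h3 with h | h
    · exact h
    · exact absurd h (irr_one_ne_zero φ)
  have h5 : (c - 1) * (c + 1) = 0 := by linear_combination h4
  rcases mul_eq_zero.mp h5 with h | h
  · left
    rw [h1, sub_eq_zero.mp h, one_mul]
  · right
    rw [h1, eq_neg_of_add_eq_zero_left h, neg_one_mul]

theorem irrF_dichotomy (hAc : A ≤ Subgroup.center F) (hA2 : ∀ a ∈ A, a * a = 1)
    (q : ℕ) (hq : 0 < q) (hA : Nat.card A = q) (hF : Nat.card F = q ^ 3)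
    (hcomm : ∀ x y : F, x * y * x⁻¹ * y⁻¹ ∈ A)
    (hnd : ∀ x : F, x ∉ A → ∀ a ∈ A, ∃ y : F, y * x * y⁻¹ = a * x)
    (φ : Cfsg.IrrCharacter F) :
    ((φ : F → ℂ) 1 = 1 ∧ ∀ a ∈ A, (φ : F → ℂ) a = 1) ∨
    ((φ : F → ℂ) 1 = q ∧ (∀ x, x ∉ A → (φ : F → ℂ) x = 0) ∧ ∑ a : A, (φ : F → ℂ) a = 0) := by
  classical
  by_cases hker : ∀ a ∈ A, a ∈ h7_shiftKer (φ : F → ℂ)
  · left
    have hval : ∀ a ∈ A, (φ : F → ℂ) a = (φ : F → ℂ) 1 := by
      intro a ha
      have := hker a ha 1
      rwa [mul_one] at this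
    have h1 : (φ : F → ℂ) 1 = 1 :=
      h7_irr_linear_of_commutator φ (fun g h => hval _ (hcomm g h))
    exact ⟨h1, fun a ha => by rw [hval a ha, h1]⟩
  · right
    push Not at hker
    obtain ⟨a0, ha0, hne⟩ := hker
    have hvan : ∀ x, x ∉ A → (φ : F → ℂ) x = 0 := by
      intro x hx
      obtain ⟨y, hy⟩ := hnd x hx a0 ha0
      exact h7_vanish_of_central_shift φ.2 a0 (hAc ha0) a0 (Subgroup.mem_zpowers a0) hne x y hy
    -- sums over F reduce to sums over A
    have hsumA : ∀ f : F → ℂ, (∀ x, x ∉ A → f x = 0) → ∑ x : F, f x = ∑ a : A, f a := by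
      intro f hf
      rw [← Finset.sum_subtype (Finset.univ.filter (fun x : F => x ∈ A)) (p := fun x => x ∈ A)
        (by intro x; simp) f, Finset.sum_filter]
      refine Finset.sum_congr rfl fun x _ => ?_
      by_cases hx : x ∈ A
      · rw [if_pos hx]
      · rw [if_neg hx, hf x hx]
    have hnorm := irr_classInner φ φ
    rw [if_pos rfl] at hnorm
    unfold Cfsg.classInner at hnorm
    rw [hsumA (fun x => (φ : F → ℂ) x * conj ((φ : F → ℂ) x))
      (fun x hx => by rw [hvan x hx, zero_mul])] at hnorm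
    obtain ⟨d, hd0, hd⟩ := irr_one_eq_finrank φ
    have hsq : ∀ a : A, (φ : F → ℂ) a * conj ((φ : F → ℂ) a) = (d : ℂ) * d := by
      intro a
      rcases central_sign φ (hAc a.2) (hA2 a a.2) with h | h
      · rw [h, hd, Complex.conj_natCast]
      · rw [h, hd, map_neg, Complex.conj_natCast]; ring
    rw [Finset.sum_congr rfl (fun a _ => hsq a), Finset.sum_const, Finset.card_univ,
      ← Nat.card_eq_fintype_card, hA, hF, nsmul_eq_mul] at hnorm
    have hq0 : (q : ℂ) ≠ 0 := by exact_mod_cast hq.ne'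
    have h2 : ((d * d : ℕ) : ℂ) = ((q * q : ℕ) : ℂ) := by
      push_cast
      have h3 : ((q : ℂ) ^ 3)⁻¹ * ((q : ℂ) * ((d : ℂ) * d)) = 1 := by
        push_cast at hnorm
        exact hnorm
      field_simp at h3
      linear_combination h3
    have h3 : d * d = q * q := by exact_mod_cast h2
    have h4 : d = q := Nat.mul_self_inj.mp h3
    refine ⟨by rw [hd, h4], hvan, ?_⟩
    -- orthogonality with the trivial character
    have hne1 : φ ≠ trivIrr F := by
      rintro rfl
      apply hne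
      intro x
      simp
    have horth := irr_classInner φ (trivIrr F)
    rw [if_neg hne1] at horth
    unfold Cfsg.classInner at horth
    simp only [trivIrr_apply, map_one, mul_one] at horth
    rw [hsumA (fun x => (φ : F → ℂ) x) hvan] at horth
    have hF0 : (Nat.card F : ℂ) ≠ 0 := by exact_mod_cast (Nat.card_pos (α := F)).ne'
    rcases mul_eq_zero.mp horth with h | h
    · exact absurd (inv_eq_zero.mp h) hF0
    · exact h

end Cfsg.Agent.Lib.helper6.SuzChar
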