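import Mathlib
import Cfsg.Prelude.Def_Characters
import Cfsg.Agent.Lib.helper6.SuzChar1
import Cfsg.Agent.Lib.helper6.FeitNA1
import Cfsg.Agent.Lib.Helper11.IndNormal

/-!
# The two kinds of characters of the Frobenius group `N = F ⋊ E`, `|F| = q³`
-/

set_option autoImplicit false
set_option linter.unusedSectionVars false
open scoped ComplexConjugate

namespace Cfsg.Agent.Lib.helper6.SuzChar

open Cfsg.Agent.Lib.helper7 Cfsg.Agent.Lib.helper2 Cfsg.Agent.Lib.Helper25 Cfsg.Agent.Lib.Helper11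
open Cfsg.Agent.Lib.helper6.FeitFrob Cfsg.Agent.Lib.helper6.FeitInd Cfsg.Agent.Lib.helper6.FeitMain
open Cfsg.Agent.Lib.helper6.FeitNA

variable {K : Type*} [Group K] [Fintype K] (F : Subgroup K) [hFn : F.Normal] [Fintype F]
  (A : Subgroup K) [Fintype A]

variable (hC : ∀ n ∈ F, n ≠ 1 → Subgroup.centralizer ({n} : Set K) ≤ F)
  (hAF : A ≤ F)
  (hAc : ∀ a ∈ A, ∀ x ∈ F, a * x = x * a)
  (hA2 : ∀ a ∈ A, a * a = 1)
  (hAn : ∀ n : K, ∀ a ∈ A, n * a * n⁻¹ ∈ A)
  (htr : ∀ a ∈ A, a ≠ 1 → ∀ a' ∈ A, a' ≠ 1 → ∃ n : K, n * a * n⁻¹ = a')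
  (q e : ℕ) (hA : Nat.card A = q) (hFq : Nat.card F = q ^ 3) (hidx : F.index = e) (he : e + 1 = q)
  (hcommA : ∀ x ∈ F, ∀ y ∈ F, x * y * x⁻¹ * y⁻¹ ∈ A)
  (hnd : ∀ x ∈ F, x ∉ A → ∀ a ∈ A, ∃ y ∈ F, y * x * y⁻¹ = a * x)

/-- conjugation permutes `A` -/
def conjA (hAn : ∀ n : K, ∀ a ∈ A, n * a * n⁻¹ ∈ A) (n : K) : A ≃ A where
  toFun a := ⟨n * a * n⁻¹, hAn n a a.2⟩
  invFun a := ⟨n⁻¹ * a * n, by have := hAn n⁻¹ a a.2; simpa using this⟩
  left_inv a := by apply Subtype.ext; simp only; group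
  right_inv a := by apply Subtype.ext; simp only; group

include hC hAF hAc hA2 hAn htr hA hFq hidx he hcommA hnd in
theorem T_dichotomy {ξ : Cfsg.IrrCharacter K} (hξ : IsT F ξ) :
    (dT F ξ = 1 ∧ ∀ a ∈ A, (ξ : K → ℂ) a = e) ∨
    (dT F ξ = q ∧ ∀ a ∈ A, a ≠ 1 → (ξ : K → ℂ) a = -(q : ℂ)) := by
  classical
  obtain ⟨φ, hφ, hind⟩ := T_ind' F hC hξ
  have hq0 : 0 < q := by omega
  have hi0 : (F.index : ℂ) ≠ 0 := by
    have : F.index ≠ 0 := Subgroup.index_ne_zero_of_finite
    exact_mod_cast this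
  have hF0 : (Nat.card F : ℂ) ≠ 0 := by exact_mod_cast (Nat.card_pos (α := F)).ne'
  have hKcard : (Fintype.card K : ℂ) = (e : ℂ) * (Nat.card F : ℂ) := by
    rw [← hidx, ← Nat.cast_mul, Subgroup.index_mul_card, Nat.card_eq_fintype_card]
  -- degree
  have hdeg : (dT F ξ : ℂ) = φ 1 := by
    have h1 := T_one' F hC hξ
    rw [hind, h7_indFun_one] at h1
    exact (mul_left_cancel₀ hi0 h1).symm
  -- values on A
  have hval : ∀ a : A, (ξ : K → ℂ) a =
      (Nat.card F : ℂ)⁻¹ * ∑ x : K, φ ⟨x * a * x⁻¹, hAF (hAn x a a.2)⟩ := by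
    intro a
    rw [hind]
    have := indFun_normal_apply F φ ⟨(a : K), hAF a.2⟩
    simp only [cj_apply] at this
    exact this
  -- the subgroup of `F`
  let A' : Subgroup F := A.subgroupOf F
  haveI : Fintype A' := Fintype.ofFinite _
  have hA' : Nat.card A' = q := by
    rw [← hA]
    exact Nat.card_congr (Subgroup.subgroupOfEquivOfLe hAF).toEquiv
  have hsumA' : ∀ f : F → ℂ, ∑ a : A', f a = ∑ a : A, f ⟨a, hAF a.2⟩ := by
    intro f
    refine Fintype.sum_equiv (Subgroup.subgroupOfEquivOfLe hAF).toEquiv _ _ ?_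
    intro a
    rfl
  have hdich := irrF_dichotomy A' (fun a ha => by
      rw [Subgroup.mem_center_iff]
      intro x
      apply Subtype.ext
      have := hAc (a : K) (Subgroup.mem_subgroupOf.mp ha) (x : K) x.2
      simpa using this.symm)
    (fun a ha => by
      apply Subtype.ext
      have := hA2 (a : K) (Subgroup.mem_subgroupOf.mp ha)
      simpa using this) q hq0 hA' hFq
    (fun x y => by
      rw [Subgroup.mem_subgroupOf]
      have := hcommA x x.2 y y.2
      simpa using this)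
    (fun x hx a ha => by
      obtain ⟨y, hy, hyx⟩ := hnd (x : K) x.2 (fun h => hx (Subgroup.mem_subgroupOf.mpr h)) (a : K)
        (Subgroup.mem_subgroupOf.mp ha)
      refine ⟨⟨y, hy⟩, ?_⟩
      apply Subtype.ext
      simpa using hyx) ⟨φ, hφ⟩
  rcases hdich with ⟨h1, h2⟩ | ⟨h1, h2, h3⟩
  · left
    simp only at h1 h2
    refine ⟨?_, ?_⟩
    · rw [h1] at hdeg
      exact_mod_cast hdeg
    · intro a ha
      rw [hval ⟨a, ha⟩]
      have : ∀ x : K, φ ⟨x * a * x⁻¹, hAF (hAn x a ha)⟩ = 1 := by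
        intro x
        exact h2 ⟨x * a * x⁻¹, hAF (hAn x a ha)⟩ (Subgroup.mem_subgroupOf.mpr (hAn x a ha))
      simp only [this, Finset.sum_const, Finset.card_univ, nsmul_eq_mul, mul_one]
      rw [hKcard]
      field_simp
  · right
    simp only at h1 h2 h3
    refine ⟨?_, ?_⟩
    · rw [h1] at hdeg
      exact_mod_cast hdeg
    · intro a0 ha0 ha01
      -- the sum over A vanishes
      have hsum0 : ∑ a : A, (ξ : K → ℂ) a = 0 := by
        simp only [hval]
        rw [← Finset.mul_sum, Finset.sum_comm]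
        have : ∀ x : K, ∑ a : A, φ ⟨x * a * x⁻¹, hAF (hAn x a a.2)⟩ = 0 := by
          intro x
          rw [← h3, hsumA' (fun y => φ y)]
          exact Fintype.sum_equiv (conjA A hAn x) _ _ (fun a => rfl)
        simp only [this, Finset.sum_const_zero, mul_zero]
      -- constancy on the nontrivial elements
      have hconst : ∀ a : A, a ≠ 1 → (ξ : K → ℂ) a = (ξ : K → ℂ) a0 := by
        intro a ha
        have ha' : (a : K) ≠ 1 := fun h => ha (Subtype.ext h)
        obtain ⟨n, hn⟩ := htr a0 ha0 ha01 a a.2 ha'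
        rw [← hn]
        exact isCharacter_isClassFunction (isCharacter_of_irr ξ) a0 n
      rw [← Finset.add_sum_erase Finset.univ _ (Finset.mem_univ (1 : A))] at hsum0
      rw [Finset.sum_congr rfl (fun a ha => hconst a (Finset.ne_of_mem_erase ha)),
        Finset.sum_const, Finset.card_erase_of_mem (Finset.mem_univ _), Finset.card_univ,
        ← Nat.card_eq_fintype_card, hA, nsmul_eq_mul] at hsum0
      have hone : (ξ : K → ℂ) ((1 : A) : K) = (e : ℂ) * q := by
        rw [Subgroup.coe_one, T_one' F hC hξ, hidx, hdeg, h1]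
      rw [hone] at hsum0
      have hqe : ((q - 1 : ℕ) : ℂ) = (e : ℂ) := by
        congr 1; omega
      rw [hqe] at hsum0
      have he0 : (e : ℂ) ≠ 0 := by
        rw [← hidx]; exact hi0
      have : (e : ℂ) * ((q : ℂ) + (ξ : K → ℂ) a0) = 0 := by linear_combination hsum0
      rcases mul_eq_zero.mp this with h | h
      · exact absurd h he0
      · linear_combination h

end Cfsg.Agent.Lib.helper6.SuzChar
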