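import Mathlib
import Cfsg.Prelude.Def_Characters
import Cfsg.Agent.Lib.helper6.SuzChar2
import Cfsg.Agent.Lib.Helper24.FSCount
import Cfsg.Agent.Lib.Helper25.CharReal

/-!
# Frobenius–Schur count in the Frobenius group `N = F ⋊ E`, `|F| = q³`
-/

set_option autoImplicit false
set_option linter.unusedSectionVars false
open scoped ComplexConjugate

namespace Cfsg.Agent.Lib.helper6.SuzChar

open Cfsg.Agent.Lib.helper7 Cfsg.Agent.Lib.helper2 Cfsg.Agent.Lib.Helper25 Cfsg.Agent.Lib.Helper11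
open Cfsg.Agent.Lib.helper6.FeitFrob Cfsg.Agent.Lib.helper6.FeitInd Cfsg.Agent.Lib.helper6.FeitMain
open Cfsg.Agent.Lib.helper6.FeitNA Cfsg.Agent.Lib.Helper24

theorem fs_arith (q e a b : ℕ) (s t l : ℤ) (hq : 2 ≤ q) (he : e + 1 = q)
    (hab : a + q ^ 2 * b = q ^ 2 + q + 1)
    (h1 : l + e * s + e * q * t = q) (h2 : l + e * s - q * t = q ^ 2 + q)
    (hs : s ≤ a) (ht : -(b : ℤ) ≤ t) (hl : l ≤ e) :
    b = 1 ∧ a = q + 1 ∧ s = a ∧ t = -1 := by
  have heq : (e : ℤ) = q - 1 := by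
    have : (e : ℤ) + 1 = q := by exact_mod_cast he
    linarith
  have hq' : (2 : ℤ) ≤ q := by exact_mod_cast hq
  have ht1 : t = -1 := by
    have h3 : (q : ℤ) * q * (t + 1) = 0 := by
      rw [heq] at h1 h2
      linear_combination h1 - h2
    have hqq : (q : ℤ) * q ≠ 0 := by positivity
    rcases mul_eq_zero.mp h3 with h | h
    · exact absurd h hqq
    · linarith
  have hb1 : 1 ≤ b := by
    rw [ht1] at ht
    have : (1 : ℤ) ≤ b := by linarith
    exact_mod_cast this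
  have hb : b = 1 := by
    by_contra hne
    have hb2 : 2 ≤ b := by omega
    have h3 : q ^ 2 * 2 ≤ q ^ 2 * b := Nat.mul_le_mul_left _ hb2
    have h4 : q * 2 ≤ q * q := Nat.mul_le_mul_left _ hq
    nlinarith
  have ha : a = q + 1 := by
    rw [hb] at hab
    omega
  refine ⟨hb, ha, ?_, ht1⟩
  have ha' : (a : ℤ) = q + 1 := by exact_mod_cast ha
  rw [ht1, heq] at h2
  by_contra hne
  have hs' : s ≤ q := by
    have : s < a := lt_of_le_of_ne hs hne
    rw [ha'] at this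
    linarith
  have h5 : ((q : ℤ) - 1) * s ≤ (q - 1) * q := by
    apply mul_le_mul_of_nonneg_left hs'
    linarith
  rw [heq] at hl
  nlinarith

theorem fsEps_neg_one_le {G : Type*} [Group G] [Fintype G] (χ : Cfsg.IrrCharacter G) :
    -1 ≤ fsEps χ := by
  unfold fsEps
  split_ifs <;> norm_num

variable {K : Type*} [Group K] [Fintype K] (F : Subgroup K) [hFn : F.Normal] [Fintype F]
  (A : Subgroup K) [Fintype A]
  [Fintype (Cfsg.IrrCharacter K)]

variable (hab : ∀ x y : K, x * y * x⁻¹ * y⁻¹ ∈ F)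
  (hC : ∀ n ∈ F, n ≠ 1 → Subgroup.centralizer ({n} : Set K) ≤ F)
  (hAF : A ≤ F)
  (hAc : ∀ a ∈ A, ∀ x ∈ F, a * x = x * a)
  (hA2 : ∀ a ∈ A, a * a = 1)
  (hAn : ∀ n : K, ∀ a ∈ A, n * a * n⁻¹ ∈ A)
  (htr : ∀ a ∈ A, a ≠ 1 → ∀ a' ∈ A, a' ≠ 1 → ∃ n : K, n * a * n⁻¹ = a')
  (q e : ℕ) (hA : Nat.card A = q) (hFq : Nat.card F = q ^ 3) (hidx : F.index = e) (he : e + 1 = q)
  (hcommA : ∀ x ∈ F, ∀ y ∈ F, x * y * x⁻¹ * y⁻¹ ∈ A)
  (hnd : ∀ x ∈ F, x ∉ A → ∀ a ∈ A, ∃ y ∈ F, y * x * y⁻¹ = a * x)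
  (hq2 : 2 ≤ q)
  (hsq1 : Nat.card {n : K // n * n = 1} = q)
  (hsqz : ∀ z ∈ A, z ≠ 1 → Nat.card {n : K // n * n = z} = q ^ 2 + q)

include hab hC hAF hAc hA2 hAn htr hA hFq hidx he hcommA hnd hq2 hsq1 hsqz in
theorem T_structure :
    Nat.card {ξ : Cfsg.IrrCharacter K // IsT F ξ ∧ dT F ξ = 1} = q + 1 ∧
    (∀ ξ : Cfsg.IrrCharacter K, IsT F ξ → dT F ξ = 1 → fsEps ξ = 1) ∧
    ∃ ξ₀ : Cfsg.IrrCharacter K, IsT F ξ₀ ∧ dT F ξ₀ = q ∧ fsEps ξ₀ = -1 ∧
      ∀ ξ : Cfsg.IrrCharacter K, IsT F ξ → dT F ξ ≠ 1 → ξ = ξ₀ := by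
  classical
  have hdich := fun (ξ : Cfsg.IrrCharacter K) (hξ : IsT F ξ) =>
    T_dichotomy F A hC hAF hAc hA2 hAn htr q e hA hFq hidx he hcommA hnd hξ
  have hq1 : q ≠ 1 := by omega
  -- an element of A#
  obtain ⟨z, hzA, hz1⟩ : ∃ z ∈ A, z ≠ 1 := by
    have : 1 < Nat.card A := by rw [hA]; omega
    haveI : Nontrivial A := Finite.one_lt_card_iff_nontrivial.mp this
    obtain ⟨a, ha⟩ := exists_ne (1 : A)
    exact ⟨a, a.2, fun h => ha (Subtype.ext h)⟩
  set L := Finset.univ.filter (fun η : Cfsg.IrrCharacter K => ¬ IsT F η) with hL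
  set T := Finset.univ.filter (fun η : Cfsg.IrrCharacter K => IsT F η) with hT
  set TA := T.filter (fun ξ => dT F ξ = 1) with hTA
  set TB := T.filter (fun ξ => ¬ dT F ξ = 1) with hTB
  have hTAmem : ∀ ξ ∈ TA, IsT F ξ ∧ dT F ξ = 1 := fun ξ hξ =>
    ⟨(Finset.mem_filter.mp (Finset.mem_filter.mp hξ).1).2, (Finset.mem_filter.mp hξ).2⟩
  have hTBmem : ∀ ξ ∈ TB, IsT F ξ ∧ dT F ξ = q := fun ξ hξ => by
    have h1 := (Finset.mem_filter.mp (Finset.mem_filter.mp hξ).1).2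
    have h2 := (Finset.mem_filter.mp hξ).2
    refine ⟨h1, ?_⟩
    rcases hdich ξ h1 with h | h
    · exact absurd h.1 h2
    · exact h.1
  have hTAval : ∀ ξ ∈ TA, ∀ a ∈ A, (ξ : K → ℂ) a = e := fun ξ hξ => by
    obtain ⟨h1, h2⟩ := hTAmem ξ hξ
    rcases hdich ξ h1 with h | h
    · exact h.2
    · exact absurd (h2.symm.trans h.1).symm hq1
  have hTBval : ∀ ξ ∈ TB, ∀ a ∈ A, a ≠ 1 → (ξ : K → ℂ) a = -(q : ℂ) := fun ξ hξ => by
    obtain ⟨h1, h2⟩ := hTBmem ξ hξ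
    rcases hdich ξ h1 with h | h
    · exact absurd (h.1.symm.trans h2) (Ne.symm hq1)
    · exact h.2
  have hsplit : ∀ f : Cfsg.IrrCharacter K → ℂ,
      ∑ η, f η = ∑ η ∈ L, f η + ∑ η ∈ TA, f η + ∑ η ∈ TB, f η := by
    intro f
    rw [← Finset.sum_filter_add_sum_filter_not Finset.univ (fun η => IsT F η),
      ← Finset.sum_filter_add_sum_filter_not T (fun ξ => dT F ξ = 1)]
    ring
  set l : ℤ := ∑ η ∈ L, fsEps η with hl
  set s : ℤ := ∑ η ∈ TA, fsEps η with hs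
  set t : ℤ := ∑ η ∈ TB, fsEps η with ht
  have hnu : ∀ η : Cfsg.IrrCharacter K,
      (Nat.card K : ℂ)⁻¹ * ∑ x : K, (η : K → ℂ) (x * x) = ((fsEps η : ℤ) : ℂ) := by
    intro η
    rw [fsEps_cast]
    rfl
  -- FS at 1
  have e1 : (l : ℂ) + e * s + e * q * t = q := by
    have h := sqrt_count_expansion (G := K) 1
    rw [hsq1, hsplit] at h
    simp only [hnu] at h
    refine Eq.trans ?_ h.symm
    rw [hl, hs, ht]
    push_cast
    rw [Finset.mul_sum, Finset.mul_sum]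
    congr 1
    · congr 1
      · refine Finset.sum_congr rfl fun η hη => ?_
        rw [L_lin F hab (Finset.mem_filter.mp hη).2, mul_one]
      · refine Finset.sum_congr rfl fun η hη => ?_
        obtain ⟨h1, h2⟩ := hTAmem η hη
        rw [T_one' F hC h1, h2, hidx]
        push_cast
        ring
    · refine Finset.sum_congr rfl fun η hη => ?_
      obtain ⟨h1, h2⟩ := hTBmem η hη
      rw [T_one' F hC h1, h2, hidx]
      ring
  have e2 : (l : ℂ) + e * s - q * t = q ^ 2 + q := by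
    have h := sqrt_count_expansion (G := K) z
    rw [hsqz z hzA hz1, hsplit] at h
    simp only [hnu] at h
    have h' : ((q : ℂ) ^ 2 + q) = ((q ^ 2 + q : ℕ) : ℂ) := by push_cast; ring
    rw [h']
    refine Eq.trans ?_ h.symm
    rw [hl, hs, ht]
    push_cast
    rw [Finset.mul_sum, Finset.mul_sum, sub_eq_add_neg, ← Finset.sum_neg_distrib]
    congr 1
    · congr 1
      · refine Finset.sum_congr rfl fun η hη => ?_
        rw [L_F F hab (Finset.mem_filter.mp hη).2 (hAF hzA), mul_one]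
      · refine Finset.sum_congr rfl fun η hη => ?_
        rw [hTAval η hη z hzA]
        ring
    · refine Finset.sum_congr rfl fun η hη => ?_
      rw [hTBval η hη z hzA hz1]
      ring
  have e1' : l + (e : ℤ) * s + e * q * t = q := by exact_mod_cast e1
  have e2' : l + (e : ℤ) * s - q * t = q ^ 2 + q := by exact_mod_cast e2
  -- the sum of squares
  have hsumsq : TA.card + q ^ 2 * TB.card = q ^ 2 + q + 1 := by
    have h := sum_dT_sq F hab hC
    rw [← Finset.sum_filter_add_sum_filter_not T (fun ξ => dT F ξ = 1), hFq, hidx] at h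
    have h1 : ∑ ξ ∈ TA, dT F ξ ^ 2 = TA.card := by
      rw [Finset.sum_congr rfl (fun ξ hξ => by rw [(hTAmem ξ hξ).2, one_pow]), Finset.sum_const,
        smul_eq_mul, mul_one]
    have h2 : ∑ ξ ∈ TB, dT F ξ ^ 2 = q ^ 2 * TB.card := by
      rw [Finset.sum_congr rfl (fun ξ hξ => by rw [(hTBmem ξ hξ).2]), Finset.sum_const,
        smul_eq_mul, mul_comm]
    rw [h1, h2] at h
    have h3 : (TA.card + q ^ 2 * TB.card) * e = (q ^ 2 + q + 1) * e := by
      have : (q ^ 2 + q + 1) * e + 1 = q ^ 3 := by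
        rw [← he]; ring
      omega
    have he0 : 0 < e := by omega
    exact Nat.eq_of_mul_eq_mul_right he0 h3
  have hsle : s ≤ TA.card := by
    rw [hs]
    calc ∑ η ∈ TA, fsEps η ≤ ∑ η ∈ TA, (1 : ℤ) := Finset.sum_le_sum (fun η _ => fsEps_le_one η)
      _ = TA.card := by simp
  have htge : -(TB.card : ℤ) ≤ t := by
    rw [ht]
    calc -(TB.card : ℤ) = ∑ η ∈ TB, (-1 : ℤ) := by simp
      _ ≤ ∑ η ∈ TB, fsEps η := Finset.sum_le_sum (fun η _ => fsEps_neg_one_le η)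
  have hlle : l ≤ e := by
    have hc : L.card = e := by
      have := card_L F hab
      rw [hidx] at this
      exact_mod_cast this
    rw [hl]
    calc ∑ η ∈ L, fsEps η ≤ ∑ η ∈ L, (1 : ℤ) := Finset.sum_le_sum (fun η _ => fsEps_le_one η)
      _ = e := by simp [hc]
  obtain ⟨hb, ha, hsa, ht1⟩ := fs_arith q e TA.card TB.card s t l hq2 he hsumsq e1' e2' hsle htge hlle
  -- all fsEps on TA equal 1
  have hTA1 : ∀ ξ ∈ TA, fsEps ξ = 1 := by
    by_contra hcon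
    push Not at hcon
    obtain ⟨ξ, hξ, hne⟩ := hcon
    have hlt : fsEps ξ < 1 := lt_of_le_of_ne (fsEps_le_one ξ) hne
    have : s < TA.card := by
      rw [hs]
      calc ∑ η ∈ TA, fsEps η < ∑ η ∈ TA, (1 : ℤ) :=
            Finset.sum_lt_sum (fun η _ => fsEps_le_one η) ⟨ξ, hξ, hlt⟩
        _ = TA.card := by simp
    omega
  obtain ⟨ξ₀, hξ₀⟩ := Finset.card_eq_one.mp hb
  have hξ₀mem : ξ₀ ∈ TB := by rw [hξ₀]; exact Finset.mem_singleton_self _
  refine ⟨?_, ?_, ξ₀, (hTBmem ξ₀ hξ₀mem).1, (hTBmem ξ₀ hξ₀mem).2, ?_, ?_⟩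
  · rw [Nat.card_eq_fintype_card, Fintype.card_subtype, ← ha]
    congr 1
    ext ξ
    simp [hTA, hT]
  · intro ξ h1 h2
    apply hTA1
    rw [hTA, hT]
    simp [h1, h2]
  · rw [ht, hξ₀, Finset.sum_singleton] at ht1
    exact ht1
  · intro ξ h1 h2
    have : ξ ∈ TB := by
      rw [hTB, hT]
      simp [h1, h2]
    rw [hξ₀] at this
    exact Finset.mem_singleton.mp this

end Cfsg.Agent.Lib.helper6.SuzChar
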