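import Mathlib
import Cfsg.Prelude.Def_Characters
import Cfsg.Agent.Lib.helper6.FeitMain1
import Cfsg.Agent.Lib.Helper24.FSCount
import Cfsg.Agent.Lib.Helper25.CharReal

/-!
# Frobenius–Schur restriction formula when all square roots outside `N` are involutions
-/

set_option autoImplicit false
set_option linter.unusedSectionVars false
open scoped ComplexConjugate

namespace Cfsg.Agent.Lib.helper6.SuzChar

open Cfsg.Agent.Lib.helper7 Cfsg.Agent.Lib.helper2 Cfsg.Agent.Lib.Helper25 Cfsg.Agent.Lib.Helper11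
open Cfsg.Agent.Lib.helper6.FeitInd Cfsg.Agent.Lib.helper6.FeitMain
open Cfsg.Agent.Lib.Helper24

variable {G : Type*} [Group G] [Fintype G] (N : Subgroup G) [Fintype N]
  [Fintype (Cfsg.IrrCharacter G)] [Fintype (Cfsg.IrrCharacter N)]

theorem card_sqrt_split [DecidableEq N] (hout : ∀ g : G, g ∉ N → g * g ∈ N → g * g = 1) (n : N) :
    Nat.card {g : G // g * g = (n : G)} =
      Nat.card {y : N // y * y = n} +
        if n = 1 then Nat.card {g : G // g ∉ N ∧ g * g = 1} else 0 := by
  classical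
  rw [Nat.card_eq_fintype_card, Nat.card_eq_fintype_card, Fintype.card_subtype,
    Fintype.card_subtype]
  rw [← Finset.card_filter_add_card_filter_not (s := Finset.univ.filter (fun g : G => g * g = (n : G)))
    (fun g => g ∈ N)]
  congr 1
  · -- inside N
    rw [Finset.filter_filter]
    have : (Finset.univ.filter (fun y : N => y * y = n)).card =
        ((Finset.univ.filter (fun y : N => y * y = n)).map
          ⟨fun y : N => (y : G), Subtype.val_injective⟩).card := (Finset.card_map _).symm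
    rw [this]
    congr 1
    ext g
    simp only [Finset.mem_filter, Finset.mem_univ, true_and, Finset.mem_map,
      Function.Embedding.coeFn_mk]
    constructor
    · rintro ⟨h1, h2⟩
      exact ⟨⟨g, h2⟩, Subtype.ext h1, rfl⟩
    · rintro ⟨y, hy, rfl⟩
      refine ⟨?_, y.2⟩
      have := congrArg (fun z : N => (z : G)) hy
      simpa using this
  · rw [Finset.filter_filter]
    by_cases hn : n = 1
    · rw [if_pos hn, Nat.card_eq_fintype_card, Fintype.card_subtype]
      congr 1
      ext g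
      simp only [Finset.mem_filter, Finset.mem_univ, true_and, hn, Subgroup.coe_one]
      tauto
    · rw [if_neg hn, Finset.card_eq_zero, Finset.filter_eq_empty_iff]
      rintro g - ⟨h1, h2⟩
      apply hn
      apply Subtype.ext
      rw [← h1, Subgroup.coe_one]
      exact hout g h2 (by rw [h1]; exact n.2)

theorem fs_restrict_out (hout : ∀ g : G, g ∉ N → g * g ∈ N → g * g = 1)
    (hcnt : Nat.card {g : G // g ∉ N ∧ g * g = 1} = Nat.card N) (ψ : Cfsg.IrrCharacter N) :
    ∑ χ : Cfsg.IrrCharacter G, fsNu χ * (mult N χ ψ : ℂ) = fsNu ψ + (ψ : N → ℂ) 1 := by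
  classical
  have hpt : ∀ n : N, ∑ χ : Cfsg.IrrCharacter G, fsNu χ * (χ : G → ℂ) (n : G) =
      ∑ θ : Cfsg.IrrCharacter N, fsNu θ * (θ : N → ℂ) n +
        if n = 1 then (Nat.card N : ℂ) else 0 := by
    intro n
    have h1 := sqrt_count_expansion (G := G) (n : G)
    have h2 := sqrt_count_expansion (G := N) n
    rw [card_sqrt_split N hout n, hcnt] at h1
    push_cast at h1
    rw [h2] at h1
    exact h1.symm
  simp only [← mult_spec]
  unfold Cfsg.classInner
  have h3 : ∑ χ : Cfsg.IrrCharacter G, fsNu χ *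
      ((Nat.card N : ℂ)⁻¹ * ∑ g : N, res N (χ : G → ℂ) g * conj ((ψ : N → ℂ) g)) =
      (Nat.card N : ℂ)⁻¹ * ∑ g : N, (∑ χ : Cfsg.IrrCharacter G, fsNu χ * (χ : G → ℂ) (g : G)) *
        conj ((ψ : N → ℂ) g) := by
    simp_rw [Finset.sum_mul, Finset.mul_sum, res_apply]
    rw [Finset.sum_comm]
    refine Finset.sum_congr rfl fun g _ => Finset.sum_congr rfl fun χ _ => ?_
    ring
  rw [h3]
  simp_rw [hpt, add_mul, Finset.sum_add_distrib, mul_add]
  have h4 : (Nat.card N : ℂ)⁻¹ * ∑ g : N, (∑ θ : Cfsg.IrrCharacter N, fsNu θ * (θ : N → ℂ) g) *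
        conj ((ψ : N → ℂ) g) =
      ∑ θ : Cfsg.IrrCharacter N, fsNu θ * Cfsg.classInner (θ : N → ℂ) (ψ : N → ℂ) := by
    unfold Cfsg.classInner
    simp_rw [Finset.sum_mul, Finset.mul_sum]
    rw [Finset.sum_comm]
    refine Finset.sum_congr rfl fun g _ => Finset.sum_congr rfl fun χ _ => ?_
    ring
  rw [h4]
  simp_rw [irr_classInner]
  congr 1
  · simp
  · simp only [ite_mul, zero_mul, Finset.sum_ite_eq', Finset.mem_univ, if_true]
    have hN0 : (Nat.card N : ℂ) ≠ 0 := by exact_mod_cast (Nat.card_pos (α := N)).ne'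
    obtain ⟨d, -, hd⟩ := irr_one_eq_finrank ψ
    rw [hd, Complex.conj_natCast]
    field_simp

theorem fs_restrict_int (hout : ∀ g : G, g ∉ N → g * g ∈ N → g * g = 1)
    (hcnt : Nat.card {g : G // g ∉ N ∧ g * g = 1} = Nat.card N) (ψ : Cfsg.IrrCharacter N) :
    ∑ χ : Cfsg.IrrCharacter G, fsEps χ * (mult N χ ψ : ℤ) = fsEps ψ + (deg ψ : ℤ) := by
  have h := fs_restrict_out N hout hcnt ψ
  have key : ((∑ χ : Cfsg.IrrCharacter G, fsEps χ * (mult N χ ψ : ℤ) : ℤ) : ℂ) =
      ((fsEps ψ + (deg ψ : ℤ) : ℤ) : ℂ) := by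
    push_cast
    simp only [fsEps_cast]
    rw [h, deg_spec]
  exact_mod_cast key

end Cfsg.Agent.Lib.helper6.SuzChar
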