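import Mathlib

set_option autoImplicit false

namespace Cfsg.Agent.Lib.helper6.SuzComb

open Finset

variable {I T : Type*} [DecidableEq I]

/-- a set of size `e+1` meeting two sets of size `e+1` (which meet in `e` points) in `e` points each
contains their intersection or is contained in their union -/
theorem sub_or_sup (S₁ S₂ S : Finset I) (e : ℕ)
    (h1 : S₁.card = e + 1) (h2 : S₂.card = e + 1) (h : S.card = e + 1)
    (h12 : (S₁ ∩ S₂).card = e) (hS1 : (S ∩ S₁).card = e) (hS2 : (S ∩ S₂).card = e) :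
    S₁ ∩ S₂ ⊆ S ∨ S ⊆ S₁ ∪ S₂ := by
  classical
  have hd1 : (S₁ \ S₂).card = 1 := by
    have := Finset.card_sdiff_add_card_inter S₁ S₂
    omega
  have hd2 : (S₂ \ S₁).card = 1 := by
    have := Finset.card_sdiff_add_card_inter S₂ S₁
    rw [Finset.inter_comm] at this
    omega
  set V := S₁ ∩ S₂ with hV
  -- decompositions
  have e1 : S ∩ S₁ = (S ∩ V) ∪ (S ∩ (S₁ \ S₂)) := by
    ext i
    simp only [hV, mem_inter, mem_union, mem_sdiff]
    tauto
  have e2 : S ∩ S₂ = (S ∩ V) ∪ (S ∩ (S₂ \ S₁)) := by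
    ext i
    simp only [hV, mem_inter, mem_union, mem_sdiff]
    tauto
  have dj1 : Disjoint (S ∩ V) (S ∩ (S₁ \ S₂)) := by
    rw [Finset.disjoint_left]
    intro i hi hi'
    simp only [hV, mem_inter, mem_sdiff] at hi hi'
    exact hi'.2.2 hi.2.2
  have dj2 : Disjoint (S ∩ V) (S ∩ (S₂ \ S₁)) := by
    rw [Finset.disjoint_left]
    intro i hi hi'
    simp only [hV, mem_inter, mem_sdiff] at hi hi'
    exact hi'.2.2 hi.2.1
  have c1 : (S ∩ V).card + (S ∩ (S₁ \ S₂)).card = e := by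
    rw [← Finset.card_union_of_disjoint dj1, ← e1, hS1]
  have c2 : (S ∩ V).card + (S ∩ (S₂ \ S₁)).card = e := by
    rw [← Finset.card_union_of_disjoint dj2, ← e2, hS2]
  have y1 : (S ∩ (S₁ \ S₂)).card ≤ 1 := by
    rw [← hd1]; exact Finset.card_le_card Finset.inter_subset_right
  have y2 : (S ∩ (S₂ \ S₁)).card ≤ 1 := by
    rw [← hd2]; exact Finset.card_le_card Finset.inter_subset_right
  by_cases hy : (S ∩ (S₁ \ S₂)).card = 0
  · left
    have hx : (S ∩ V).card = V.card := by rw [h12]; omega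
    have : S ∩ V = V := Finset.eq_of_subset_of_card_le Finset.inter_subset_right (by rw [hx])
    rw [← this]
    exact Finset.inter_subset_left
  · right
    have hy1 : (S ∩ (S₁ \ S₂)).card = 1 := by omega
    have hy2 : (S ∩ (S₂ \ S₁)).card = 1 := by omega
    have e3 : S ∩ (S₁ ∪ S₂) = ((S ∩ V) ∪ (S ∩ (S₁ \ S₂))) ∪ (S ∩ (S₂ \ S₁)) := by
      ext i
      simp only [hV, mem_inter, mem_union, mem_sdiff]
      tauto
    have dj3 : Disjoint ((S ∩ V) ∪ (S ∩ (S₁ \ S₂))) (S ∩ (S₂ \ S₁)) := by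
      rw [Finset.disjoint_left]
      intro i hi hi'
      simp only [hV, mem_inter, mem_union, mem_sdiff] at hi hi'
      rcases hi with hi | hi
      · exact hi'.2.2 hi.2.1
      · exact hi'.2.2 hi.2.1
    have c3 : (S ∩ (S₁ ∪ S₂)).card = S.card := by
      rw [e3, Finset.card_union_of_disjoint dj3, Finset.card_union_of_disjoint dj1, h]
      omega
    have : S ∩ (S₁ ∪ S₂) = S := Finset.eq_of_subset_of_card_le Finset.inter_subset_left (by rw [c3])
    rw [← this]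
    exact Finset.inter_subset_right

end Cfsg.Agent.Lib.helper6.SuzComb

namespace Cfsg.Agent.Lib.helper6.SuzComb

open Finset

variable {I T : Type*} [DecidableEq I]

/-- sunflower / dual sunflower dichotomy -/
theorem family_dichotomy (S : T → Finset I) (e : ℕ)
    (hcard : ∀ ξ, (S ξ).card = e + 1)
    (hint : ∀ ξ ξ', ξ ≠ ξ' → (S ξ ∩ S ξ').card = e)
    (ξ₁ ξ₂ : T) (h12 : ξ₁ ≠ ξ₂) :
    (∀ ξ, S ξ₁ ∩ S ξ₂ ⊆ S ξ) ∨ (∀ ξ, S ξ ⊆ S ξ₁ ∪ S ξ₂) := by
  classical
  have hab : ∀ ξ, S ξ₁ ∩ S ξ₂ ⊆ S ξ ∨ S ξ ⊆ S ξ₁ ∪ S ξ₂ := by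
    intro ξ
    by_cases h1 : ξ = ξ₁
    · left; rw [h1]; exact Finset.inter_subset_left
    by_cases h2 : ξ = ξ₂
    · left; rw [h2]; exact Finset.inter_subset_right
    exact sub_or_sup (S ξ₁) (S ξ₂) (S ξ) e (hcard _) (hcard _) (hcard _) (hint _ _ h12)
      (hint _ _ h1) (hint _ _ h2)
  by_contra hcon
  push Not at hcon
  obtain ⟨⟨ξ₄, h4⟩, ⟨ξ₃, h3⟩⟩ := hcon
  have h3a : S ξ₁ ∩ S ξ₂ ⊆ S ξ₃ := (hab ξ₃).resolve_right h3
  have h4b : S ξ₄ ⊆ S ξ₁ ∪ S ξ₂ := (hab ξ₄).resolve_left h4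
  have h34 : ξ₃ ≠ ξ₄ := by
    rintro rfl
    exact h3 h4b
  set V := S ξ₁ ∩ S ξ₂ with hV
  set U := S ξ₁ ∪ S ξ₂ with hU
  have hVc : V.card = e := hint _ _ h12
  have hVU : V ⊆ U := fun i hi => Finset.mem_union_left _ (Finset.mem_inter.mp hi).1
  -- S ξ₃ ∩ U = V
  have k1 : S ξ₃ ∩ U = V := by
    symm
    apply Finset.eq_of_subset_of_card_le
    · intro i hi
      exact Finset.mem_inter.mpr ⟨h3a hi, hVU hi⟩
    · rw [hVc]
      have hlt : (S ξ₃ ∩ U).card < (S ξ₃).card := by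
        apply Finset.card_lt_card
        refine ⟨Finset.inter_subset_left, ?_⟩
        intro hsub
        apply h3
        intro i hi
        exact (Finset.mem_inter.mp (hsub hi)).2
      rw [hcard] at hlt
      omega
  have k2 : S ξ₃ ∩ S ξ₄ ⊆ V ∩ S ξ₄ := by
    intro i hi
    obtain ⟨hi3, hi4⟩ := Finset.mem_inter.mp hi
    refine Finset.mem_inter.mpr ⟨?_, hi4⟩
    rw [← k1]
    exact Finset.mem_inter.mpr ⟨hi3, h4b hi4⟩
  have k3 : (V ∩ S ξ₄).card < V.card := by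
    apply Finset.card_lt_card
    refine ⟨Finset.inter_subset_left, ?_⟩
    intro hsub
    apply h4
    intro i hi
    exact (Finset.mem_inter.mp (hsub hi)).2
  have := Finset.card_le_card k2
  rw [hint _ _ h34] at this
  omega

end Cfsg.Agent.Lib.helper6.SuzComb
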