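import Mathlib
import Cfsg.Agent.Lib.helper6.SuzComb1

set_option autoImplicit false

namespace Cfsg.Agent.Lib.helper6.SuzComb

open Finset

variable {I T L : Type*} [Fintype I] [DecidableEq I] [Fintype T] [DecidableEq T]

/-- the Frobenius-Schur count forces the multiplicities to be `0` or `1` -/
theorem zero_one (m : I → ℕ) (ν : I → ℤ) (n : ℕ) (hν1 : ∀ i, ν i ≤ 1)
    (hG : ∑ i, m i * m i = n) (hFS : ∑ i, ν i * (m i : ℤ) = n) :
    ∀ i, m i = 0 ∨ (m i = 1 ∧ ν i = 1) := by
  have hG' : ∑ i, ((m i : ℤ) * m i) = n := by exact_mod_cast hG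
  have hnn : ∀ i ∈ (univ : Finset I), 0 ≤ (m i : ℤ) * m i - ν i * m i := by
    intro i _
    have h1 : (0 : ℤ) ≤ m i := by positivity
    have h2 := hν1 i
    by_cases h0 : m i = 0
    · rw [h0]; simp
    · have h3 : (1 : ℤ) ≤ m i := by
        have : 1 ≤ m i := Nat.one_le_iff_ne_zero.mpr h0
        exact_mod_cast this
      nlinarith
  have hsum : ∑ i, ((m i : ℤ) * m i - ν i * m i) = 0 := by
    rw [Finset.sum_sub_distrib, hG', hFS, sub_self]
  have hz := (Finset.sum_eq_zero_iff_of_nonneg hnn).mp hsum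
  intro i
  have hi := hz i (mem_univ i)
  by_cases h0 : m i = 0
  · left; exact h0
  · right
    have h3 : (1 : ℤ) ≤ m i := by
      have : 1 ≤ m i := Nat.one_le_iff_ne_zero.mpr h0
      exact_mod_cast this
    have h4 : (m i : ℤ) * ((m i : ℤ) - ν i) = 0 := by rw [← hi]; ring
    rcases mul_eq_zero.mp h4 with h5 | h5
    · omega
    · have h6 : (m i : ℤ) = ν i := by linarith
      have h7 := hν1 i
      have h8 : (m i : ℤ) = 1 := by omega
      refine ⟨by exact_mod_cast h8, by rw [← h6, h8]⟩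

end Cfsg.Agent.Lib.helper6.SuzComb
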