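import Mathlib
import Cfsg.Agent.Lib.helper6.SuzComb2

set_option autoImplicit false

namespace Cfsg.Agent.Lib.helper6.SuzComb

open Finset

variable {I T L : Type*} [Fintype I] [DecidableEq I] [Fintype T] [DecidableEq T] [Fintype L]

/-- the dual sunflower is incompatible with the linear characters -/
theorem no_dual (S : T → Finset I) (U : Finset I) (w : I → ℕ) (e : ℕ)
    (hcard : ∀ ξ, (S ξ).card = e + 1)
    (hint : ∀ ξ ξ', ξ ≠ ξ' → (S ξ ∩ S ξ').card = e)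
    (he : 1 ≤ e) (hU : U.card = e + 2) (hT : Fintype.card T = e + 2)
    (hsub : ∀ ξ, S ξ ⊆ U) (hw : ∀ ξ, ∑ i ∈ S ξ, w i = 1) : False := by
  classical
  -- the omitted point
  have hsd : ∀ ξ, (U \ S ξ).card = 1 := by
    intro ξ
    rw [Finset.card_sdiff_of_subset (hsub ξ), hU, hcard]
    omega
  have hex : ∀ ξ, ∃ b, U \ S ξ = {b} := fun ξ => Finset.card_eq_one.mp (hsd ξ)
  choose b hb using hex
  have hbU : ∀ ξ, b ξ ∈ U := by
    intro ξ
    have : b ξ ∈ U \ S ξ := by rw [hb]; exact Finset.mem_singleton_self _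
    exact (Finset.mem_sdiff.mp this).1
  have hbS : ∀ ξ, b ξ ∉ S ξ := by
    intro ξ
    have : b ξ ∈ U \ S ξ := by rw [hb]; exact Finset.mem_singleton_self _
    exact (Finset.mem_sdiff.mp this).2
  have hSeq : ∀ ξ, S ξ = U.erase (b ξ) := by
    intro ξ
    ext i
    rw [Finset.mem_erase]
    constructor
    · intro hi
      exact ⟨fun h => hbS ξ (h ▸ hi), hsub ξ hi⟩
    · rintro ⟨h1, h2⟩
      by_contra hi
      have : i ∈ U \ S ξ := Finset.mem_sdiff.mpr ⟨h2, hi⟩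
      rw [hb, Finset.mem_singleton] at this
      exact h1 this
  have hbinj : Function.Injective b := by
    intro ξ ξ' h
    by_contra hne
    have := hint ξ ξ' hne
    rw [hSeq ξ, hSeq ξ', h, Finset.inter_self, ← hSeq ξ', hcard] at this
    omega
  have himg : Finset.univ.image b = U := by
    apply Finset.eq_of_subset_of_card_le
    · intro i hi
      obtain ⟨ξ, -, rfl⟩ := Finset.mem_image.mp hi
      exact hbU ξ
    · rw [Finset.card_image_of_injective _ hbinj, Finset.card_univ, hT, hU]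
  set W := ∑ i ∈ U, w i with hW
  have hWb : ∀ ξ, W = 1 + w (b ξ) := by
    intro ξ
    rw [hW, ← Finset.add_sum_erase U w (hbU ξ), ← hSeq ξ, hw ξ, add_comm]
  have hsum : ∑ ξ, w (b ξ) = W := by
    rw [hW, ← himg, Finset.sum_image (fun x _ y _ h => hbinj h)]
  have hT0 : 0 < Fintype.card T := by omega
  obtain ⟨ξ₀⟩ := Fintype.card_pos_iff.mp hT0
  set c := w (b ξ₀) with hc
  have hall : ∀ ξ, w (b ξ) = c := by
    intro ξ
    have h1 := hWb ξ
    have h2 := hWb ξ₀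
    omega
  rw [Finset.sum_congr rfl (fun ξ _ => hall ξ), Finset.sum_const, Finset.card_univ, hT, hWb ξ₀,
    smul_eq_mul] at hsum
  have : (e + 1) * c = 1 := by
    have : (e + 2) * c = (e + 1) * c + c := by ring
    omega
  have h1 : e + 1 ∣ 1 := Dvd.intro _ this
  have := Nat.le_of_dvd Nat.one_pos h1
  omega

end Cfsg.Agent.Lib.helper6.SuzComb

namespace Cfsg.Agent.Lib.helper6.SuzComb

open Finset

variable {I T L : Type*} [Fintype I] [DecidableEq I] [Fintype T] [DecidableEq T] [Fintype L]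

/-- the sunflower case: the petals carry no multiplicity of the big character -/
theorem sunflower_final (S : T → Finset I) (V : Finset I) (m0 : I → ℕ) (ν : I → ℤ) (q e : ℕ)
    (hq : 4 ≤ q) (he : e + 1 = q) (hT : Fintype.card T = q + 1)
    (hν2 : ∀ i, -1 ≤ ν i)
    (hcard : ∀ ξ, (S ξ).card = e + 1)
    (hint : ∀ ξ ξ', ξ ≠ ξ' → (S ξ ∩ S ξ').card = e)
    (hV : V.card = e) (hVS : ∀ ξ, V ⊆ S ξ)
    (hν : ∀ ξ, ∀ i ∈ S ξ, ν i = 1)
    (hG10 : ∀ ξ, ∑ i ∈ S ξ, m0 i = e * q)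
    (hG00 : ∑ i, m0 i * m0 i = e * q ^ 2 + 1)
    (hFS0 : ∑ i, ν i * (m0 i : ℤ) = e * q - 1) :
    ∃ Λ : T → I, (∀ ξ, Λ ξ ∈ S ξ) ∧ (∀ ξ ξ', ξ' ≠ ξ → Λ ξ ∉ S ξ') ∧ ∀ ξ, m0 (Λ ξ) = 0 := by
  classical
  have hsd : ∀ ξ, (S ξ \ V).card = 1 := by
    intro ξ
    rw [Finset.card_sdiff_of_subset (hVS ξ), hV, hcard]
    omega
  have hex : ∀ ξ, ∃ b, S ξ \ V = {b} := fun ξ => Finset.card_eq_one.mp (hsd ξ)
  choose Λ hΛ using hex
  have hΛS : ∀ ξ, Λ ξ ∈ S ξ := by
    intro ξ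
    have : Λ ξ ∈ S ξ \ V := by rw [hΛ]; exact Finset.mem_singleton_self _
    exact (Finset.mem_sdiff.mp this).1
  have hΛV : ∀ ξ, Λ ξ ∉ V := by
    intro ξ
    have : Λ ξ ∈ S ξ \ V := by rw [hΛ]; exact Finset.mem_singleton_self _
    exact (Finset.mem_sdiff.mp this).2
  have hSeq : ∀ ξ, S ξ = insert (Λ ξ) V := by
    intro ξ
    ext i
    rw [Finset.mem_insert]
    constructor
    · intro hi
      by_cases hiV : i ∈ V
      · right; exact hiV
      · left
        have : i ∈ S ξ \ V := Finset.mem_sdiff.mpr ⟨hi, hiV⟩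
        rw [hΛ, Finset.mem_singleton] at this
        exact this
    · rintro (rfl | h)
      · exact hΛS ξ
      · exact hVS ξ h
  have hΛnot : ∀ ξ ξ', ξ' ≠ ξ → Λ ξ ∉ S ξ' := by
    intro ξ ξ' hne hmem
    have hsub : S ξ ⊆ S ξ' := by
      rw [hSeq ξ]
      intro i hi
      rcases Finset.mem_insert.mp hi with rfl | h
      · exact hmem
      · exact hVS ξ' h
    have := hint ξ ξ' (Ne.symm hne)
    rw [Finset.inter_eq_left.mpr hsub, hcard] at this
    omega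
  refine ⟨Λ, hΛS, hΛnot, ?_⟩
  have hΛinj : Function.Injective Λ := by
    intro ξ ξ' h
    by_contra hne
    exact hΛnot ξ ξ' (Ne.symm hne) (h ▸ hΛS ξ')
  -- the sum over V
  set AV := ∑ i ∈ V, m0 i with hAV
  have hs : ∀ ξ, m0 (Λ ξ) + AV = e * q := by
    intro ξ
    rw [← hG10 ξ, hSeq ξ, Finset.sum_insert (hΛV ξ)]
  have hT0 : 0 < Fintype.card T := by omega
  obtain ⟨ξ₀⟩ := Fintype.card_pos_iff.mp hT0
  set s := m0 (Λ ξ₀) with hsdef
  have hall : ∀ ξ, m0 (Λ ξ) = s := by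
    intro ξ
    have h1 := hs ξ
    have h2 := hs ξ₀
    omega
  suffices hs0 : s = 0 by
    intro ξ; rw [hall ξ, hs0]
  set P := Finset.univ.image Λ with hP
  have hPV : Disjoint V P := by
    rw [Finset.disjoint_left]
    intro i hiV hiP
    obtain ⟨ξ, -, rfl⟩ := Finset.mem_image.mp hiP
    exact hΛV ξ hiV
  set Rs := (Finset.univ : Finset I) \ (V ∪ P) with hRs
  have hdec : ∀ f : I → ℤ, ∑ i, f i = ∑ i ∈ V, f i + ∑ ξ, f (Λ ξ) + ∑ i ∈ Rs, f i := by
    intro f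
    have h1 : ∑ i ∈ P, f i = ∑ ξ, f (Λ ξ) := by
      rw [hP, Finset.sum_image (fun x _ y _ h => hΛinj h)]
    rw [← h1, ← Finset.sum_union hPV, hRs, ← Finset.sum_sdiff (Finset.subset_univ (V ∪ P)),
      add_comm]
  have hνV : ∀ i ∈ V, ν i = 1 := fun i hi => hν ξ₀ i (hVS ξ₀ hi)
  have hνΛ : ∀ ξ, ν (Λ ξ) = 1 := fun ξ => hν ξ _ (hΛS ξ)
  -- FS
  have hFS := hFS0
  rw [hdec] at hFS
  have f1 : ∑ i ∈ V, ν i * (m0 i : ℤ) = (AV : ℤ) := by
    rw [hAV]
    push_cast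
    apply Finset.sum_congr rfl
    intro i hi
    rw [hνV i hi, one_mul]
  have f2 : ∑ ξ, ν (Λ ξ) * (m0 (Λ ξ) : ℤ) = ((q : ℤ) + 1) * s := by
    rw [Finset.sum_congr rfl (fun ξ _ => by rw [hνΛ ξ, hall ξ, one_mul]), Finset.sum_const,
      Finset.card_univ, hT]
    simp
  rw [f1, f2] at hFS
  -- norm
  have hN : ∑ i, ((m0 i : ℤ) * m0 i) = e * q ^ 2 + 1 := by exact_mod_cast hG00
  rw [hdec] at hN
  have g2 : ∑ ξ, ((m0 (Λ ξ) : ℤ) * m0 (Λ ξ)) = ((q : ℤ) + 1) * (s * s) := by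
    rw [Finset.sum_congr rfl (fun ξ _ => by rw [hall ξ]), Finset.sum_const,
      Finset.card_univ, hT]
    simp
  rw [g2] at hN
  set X := ∑ i ∈ V, ((m0 i : ℤ) * m0 i) with hX
  set Y := ∑ i ∈ Rs, ((m0 i : ℤ) * m0 i) with hY
  set R := ∑ i ∈ Rs, ν i * (m0 i : ℤ) with hR
  -- Cauchy-Schwarz
  have hCS : (AV : ℤ) ^ 2 ≤ e * X := by
    have := sq_sum_le_card_mul_sum_sq (s := V) (f := fun i => (m0 i : ℤ))
    rw [hV] at this
    rw [hAV, hX]
    push_cast
    simpa [pow_two] using this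
  have hRY : -R ≤ Y := by
    rw [hR, hY, ← Finset.sum_neg_distrib]
    apply Finset.sum_le_sum
    intro i _
    have h1 := hν2 i
    have h2 : (0 : ℤ) ≤ m0 i := by positivity
    by_cases h0 : m0 i = 0
    · rw [h0]; simp
    · have h3 : (1 : ℤ) ≤ m0 i := by
        have : 1 ≤ m0 i := Nat.one_le_iff_ne_zero.mpr h0
        exact_mod_cast this
      nlinarith
  have hAVs : (AV : ℤ) + s = e * q := by
    have := hs ξ₀
    rw [← hsdef] at this
    have h2 : ((s + AV : ℕ) : ℤ) = ((e * q : ℕ) : ℤ) := by rw [this]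
    push_cast at h2
    linarith
  by_contra hs0
  have hs1 : (1 : ℤ) ≤ s := by
    have : 1 ≤ s := Nat.one_le_iff_ne_zero.mpr hs0
    exact_mod_cast this
  have hqe : (q : ℤ) = e + 1 := by
    have : ((e + 1 : ℕ) : ℤ) = (q : ℤ) := by rw [he]
    push_cast at this
    linarith
  have he1 : (3 : ℤ) ≤ e := by
    have : 3 ≤ e := by omega
    exact_mod_cast this
  have hR' : R = -1 - q * s := by linarith
  have hY1 : 1 + (q : ℤ) * s ≤ Y := by linarith
  have ha : (AV : ℤ) = e * q - s := by linarith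
  have hX' : X = e * q ^ 2 + 1 - ((q : ℤ) + 1) * (s * s) - Y := by linarith
  rw [ha, hX'] at hCS
  have h6 : (e : ℤ) * (1 + q * s) ≤ e * Y := by
    apply mul_le_mul_of_nonneg_left hY1
    linarith
  have hss : (s : ℤ) ≤ s * s := by nlinarith
  have h7 : (e : ℤ) * (q + 1) * s ≤ e * (q + 1) * (s * s) := by
    apply mul_le_mul_of_nonneg_left hss
    have : (0 : ℤ) ≤ e * (q + 1) := by
      apply mul_nonneg <;> linarith
    exact this
  have h8 : (0 : ℤ) < e * s := by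
    apply mul_pos <;> linarith
  nlinarith [hCS, h6, h7, h8]

end Cfsg.Agent.Lib.helper6.SuzComb
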