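import Mathlib
import Cfsg.Agent.Lib.helper6.SuzComb3

set_option autoImplicit false

namespace Cfsg.Agent.Lib.helper6.SuzComb

open Finset

variable {I T L : Type*} [Fintype I] [DecidableEq I] [Fintype T] [DecidableEq T] [Fintype L]

/-- **The combinatorial core of the exclusion of the order `q³`.**  Rows: irreducible characters of
`G`; columns: `q + 1` characters of `N` of degree `e = q - 1`, one character of degree `q e`, and
linear characters of `N`.  The Gram relations and the Frobenius-Schur counts force a row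
restricting irreducibly to `N`. -/
theorem j3_comb [Nonempty L]
    (mT : I → T → ℕ) (m0 : I → ℕ) (mL : I → L → ℕ) (ν : I → ℤ) (q e : ℕ)
    (hq : 4 ≤ q) (he : e + 1 = q) (hT : Fintype.card T = q + 1)
    (hν1 : ∀ i, ν i ≤ 1) (hν2 : ∀ i, -1 ≤ ν i)
    (hG11 : ∀ ξ ξ', ∑ i, mT i ξ * mT i ξ' = e + if ξ = ξ' then 1 else 0)
    (hG10 : ∀ ξ, ∑ i, mT i ξ * m0 i = e * q)
    (hG00 : ∑ i, m0 i * m0 i = e * q ^ 2 + 1)
    (hG1L : ∀ ξ μ, ∑ i, mT i ξ * mL i μ = 1)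
    (hFS1 : ∀ ξ, ∑ i, ν i * (mT i ξ : ℤ) = e + 1)
    (hFS0 : ∑ i, ν i * (m0 i : ℤ) = e * q - 1) :
    ∃ i : I, ∃ ξ, mT i ξ = 1 ∧ (∀ ξ', ξ' ≠ ξ → mT i ξ' = 0) ∧ m0 i = 0 := by
  classical
  have h01 : ∀ ξ i, mT i ξ = 0 ∨ (mT i ξ = 1 ∧ ν i = 1) := by
    intro ξ
    apply zero_one (fun i => mT i ξ) ν (e + 1) hν1
    · have := hG11 ξ ξ
      rw [if_pos rfl] at this
      exact this
    · have := hFS1 ξ
      push_cast
      exact this
  set S : T → Finset I := fun ξ => univ.filter (fun i => mT i ξ = 1) with hS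
  have hmem : ∀ ξ i, i ∈ S ξ ↔ mT i ξ = 1 := by
    intro ξ i; simp [hS]
  have hind : ∀ ξ i, mT i ξ = if i ∈ S ξ then 1 else 0 := by
    intro ξ i
    by_cases h : i ∈ S ξ
    · rw [if_pos h]; exact (hmem ξ i).mp h
    · rw [if_neg h]
      rcases h01 ξ i with h0 | ⟨h1, -⟩
      · exact h0
      · exact absurd ((hmem ξ i).mpr h1) h
  have hsumS : ∀ ξ (f : I → ℕ), ∑ i, mT i ξ * f i = ∑ i ∈ S ξ, f i := by
    intro ξ f
    have : ∀ i ∈ (univ : Finset I), mT i ξ * f i = if i ∈ S ξ then f i else 0 := by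
      intro i _
      rw [hind ξ i]
      split_ifs <;> simp
    rw [Finset.sum_congr rfl this, Finset.sum_ite_mem, Finset.univ_inter]
  have hcard : ∀ ξ, (S ξ).card = e + 1 := by
    intro ξ
    have h1 := hG11 ξ ξ
    rw [if_pos rfl, hsumS] at h1
    rw [← h1, Finset.card_eq_sum_ones]
    apply Finset.sum_congr rfl
    intro i hi
    exact ((hmem ξ i).mp hi).symm
  have hint : ∀ ξ ξ', ξ ≠ ξ' → (S ξ ∩ S ξ').card = e := by
    intro ξ ξ' hne
    have h1 := hG11 ξ ξ'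
    rw [if_neg hne, hsumS, add_zero] at h1
    rw [← h1, Finset.card_eq_sum_ones, ← Finset.sum_ite_mem]
    apply Finset.sum_congr rfl
    intro i _
    rw [hind ξ' i]
  have hνS : ∀ ξ, ∀ i ∈ S ξ, ν i = 1 := by
    intro ξ i hi
    rcases h01 ξ i with h0 | ⟨-, h1⟩
    · rw [(hmem ξ i).mp hi] at h0; omega
    · exact h1
  -- two distinct columns
  have hT2 : 1 < Fintype.card T := by omega
  obtain ⟨ξ₁, ξ₂, h12⟩ := Fintype.exists_pair_of_one_lt_card hT2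
  rcases family_dichotomy S e hcard hint ξ₁ ξ₂ h12 with hA | hB
  · -- sunflower
    have hVc : (S ξ₁ ∩ S ξ₂).card = e := hint _ _ h12
    have hG10' : ∀ ξ, ∑ i ∈ S ξ, m0 i = e * q := by
      intro ξ; rw [← hsumS]; exact hG10 ξ
    obtain ⟨Λ, hΛ1, hΛ2, hΛ3⟩ := sunflower_final S (S ξ₁ ∩ S ξ₂) m0 ν q e hq he hT hν2 hcard hint
      hVc hA hνS hG10' hG00 hFS0
    refine ⟨Λ ξ₁, ξ₁, (hmem _ _).mp (hΛ1 ξ₁), ?_, hΛ3 ξ₁⟩
    intro ξ' hne
    rw [hind ξ' (Λ ξ₁), if_neg (hΛ2 ξ₁ ξ' hne)]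
  · -- dual sunflower: impossible
    exfalso
    obtain ⟨μ⟩ := (inferInstance : Nonempty L)
    have hUc : (S ξ₁ ∪ S ξ₂).card = e + 2 := by
      have := Finset.card_union_add_card_inter (S ξ₁) (S ξ₂)
      rw [hcard, hcard, hint _ _ h12] at this
      omega
    have hw : ∀ ξ, ∑ i ∈ S ξ, mL i μ = 1 := by
      intro ξ; rw [← hsumS]; exact hG1L ξ μ
    exact no_dual S (S ξ₁ ∪ S ξ₂) (fun i => mL i μ) e hcard hint (by omega) hUc (by omega) hB hw

end Cfsg.Agent.Lib.helper6.SuzComb
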