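import Mathlib
import Cfsg.Prelude.Def_Characters
import Cfsg.Agent.Lib.helper6.SuzChar3
import Cfsg.Agent.Lib.helper6.SuzChar4
import Cfsg.Agent.Lib.helper6.SuzComb4
import Cfsg.Agent.Lib.helper6.FeitNA2

/-!
# The order `q³` is impossible for the kernel of a simple Zassenhaus group
-/

set_option autoImplicit false
set_option linter.unusedSectionVars false
open scoped ComplexConjugate

namespace Cfsg.Agent.Lib.helper6.SuzChar

open Cfsg.Agent.Lib.helper7 Cfsg.Agent.Lib.helper2 Cfsg.Agent.Lib.Helper25 Cfsg.Agent.Lib.Helper11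
open Cfsg.Agent.Lib.helper6.FeitFrob Cfsg.Agent.Lib.helper6.FeitInd Cfsg.Agent.Lib.helper6.FeitMain
open Cfsg.Agent.Lib.helper6.FeitNA Cfsg.Agent.Lib.Helper24 Cfsg.Agent.Lib.helper6.SuzComb

theorem no_cube {G : Type*} [Group G] [Fintype G] [IsSimpleGroup G] (N : Subgroup G) [Fintype N]
    (F : Subgroup N) [hFn : F.Normal] [Fintype F] (A : Subgroup N) [Fintype A]
    (hab : ∀ x y : N, x * y * x⁻¹ * y⁻¹ ∈ F)
    (hC : ∀ n ∈ F, n ≠ 1 → Subgroup.centralizer ({n} : Set N) ≤ F)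
    (hTI : ∀ u : N, u ∈ F → u ≠ 1 → ∀ x : G, x⁻¹ * (u : G) * x ∈ N → x ∈ N)
    (hAF : A ≤ F)
    (hAc : ∀ a ∈ A, ∀ x ∈ F, a * x = x * a)
    (hA2 : ∀ a ∈ A, a * a = 1)
    (hAn : ∀ n : N, ∀ a ∈ A, n * a * n⁻¹ ∈ A)
    (htr : ∀ a ∈ A, a ≠ 1 → ∀ a' ∈ A, a' ≠ 1 → ∃ n : N, n * a * n⁻¹ = a')
    (q e : ℕ) (hA : Nat.card A = q) (hFq : Nat.card F = q ^ 3) (hidx : F.index = e)
    (he : e + 1 = q) (hNidx : N.index = q ^ 3 + 1)
    (hcommA : ∀ x ∈ F, ∀ y ∈ F, x * y * x⁻¹ * y⁻¹ ∈ A)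
    (hnd : ∀ x ∈ F, x ∉ A → ∀ a ∈ A, ∃ y ∈ F, y * x * y⁻¹ = a * x)
    (hq4 : 4 ≤ q)
    (hsq1 : Nat.card {n : N // n * n = 1} = q)
    (hsqz : ∀ z ∈ A, z ≠ 1 → Nat.card {n : N // n * n = z} = q ^ 2 + q)
    (hout : ∀ g : G, g ∉ N → g * g ∈ N → g * g = 1)
    (hcnt : Nat.card {g : G // g ∉ N ∧ g * g = 1} = Nat.card N) : False := by
  classical
  haveI : Fintype (Cfsg.IrrCharacter G) := Fintype.ofFinite _
  haveI : Fintype (Cfsg.IrrCharacter N) := Fintype.ofFinite _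
  obtain ⟨hTcard, hTeps, ξ₀, hξ₀T, hξ₀d, hξ₀e, hξ₀u⟩ :=
    T_structure F A hab hC hAF hAc hA2 hAn htr q e hA hFq hidx he hcommA hnd (by omega) hsq1 hsqz
  have hq1 : q ≠ 1 := by omega
  let T := {ξ : Cfsg.IrrCharacter N // IsT F ξ ∧ dT F ξ = 1}
  let Lt := {μ : Cfsg.IrrCharacter N // ¬ IsT F μ}
  haveI : Nonempty Lt := ⟨⟨trivIrr N, triv_notT N F⟩⟩
  have hTc : Fintype.card T = q + 1 := by
    rw [← Nat.card_eq_fintype_card]; exact hTcard
  have hne0 : ∀ ξ : T, ξ.1 ≠ ξ₀ := by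
    intro ξ h
    have := ξ.2.2
    rw [h, hξ₀d] at this
    exact hq1 this
  have hdegT : ∀ ξ : T, deg ξ.1 = e := by
    intro ξ
    rw [(T_deg' F hC ξ.2.1).1, ξ.2.2, hidx, mul_one]
  have hdeg0 : deg ξ₀ = e * q := by
    rw [(T_deg' F hC hξ₀T).1, hξ₀d, hidx]
  obtain ⟨χ, ξ, h1, h2, h3⟩ := j3_comb (I := Cfsg.IrrCharacter G) (T := T) (L := Lt)
    (fun χ ξ => mult N χ ξ.1) (fun χ => mult N χ ξ₀) (fun χ μ => mult N χ μ.1)
    (fun χ => fsEps χ) q e hq4 he hTc (fun χ => fsEps_le_one χ) (fun χ => fsEps_neg_one_le χ)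
    (by
      intro ξ ξ'
      have := gramTT' N F hC hTI (q ^ 3) e hFq hidx hNidx ξ.2.1 ξ'.2.1
      rw [ξ.2.2, ξ'.2.2, mul_one, mul_one] at this
      rw [this]
      by_cases h : ξ = ξ'
      · rw [if_pos h, if_pos (congrArg Subtype.val h)]
      · rw [if_neg h, if_neg (fun h' => h (Subtype.ext h'))])
    (by
      intro ξ
      have := gramTT' N F hC hTI (q ^ 3) e hFq hidx hNidx ξ.2.1 hξ₀T
      rw [ξ.2.2, hξ₀d, mul_one, if_neg (hne0 ξ), add_zero] at this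
      exact this)
    (by
      have := gramTT' N F hC hTI (q ^ 3) e hFq hidx hNidx hξ₀T hξ₀T
      rw [hξ₀d, if_pos rfl] at this
      rw [this]; ring)
    (by
      intro ξ μ
      have := gramTL' N F hab hC hTI (q ^ 3) e hFq hidx hNidx ξ.2.1 μ.2
      rw [ξ.2.2] at this
      exact this)
    (by
      intro ξ
      have := fs_restrict_int N hout hcnt ξ.1
      rw [hTeps ξ.1 ξ.2.1 ξ.2.2, hdegT ξ] at this
      rw [this]; ring)
    (by
      have := fs_restrict_int N hout hcnt ξ₀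
      rw [hξ₀e, hdeg0] at this
      rw [this]; push_cast; ring)
  -- the restriction of χ to N
  have hexp := res_expand N χ
  have hmultT : ∀ η : Cfsg.IrrCharacter N, IsT F η → η ≠ ξ.1 → mult N χ η = 0 := by
    intro η hη hne
    by_cases hd : dT F η = 1
    · exact h2 ⟨η, hη, hd⟩ (fun h => hne (congrArg Subtype.val h))
    · rw [hξ₀u η hη hd]; exact h3
  have hval : ∀ n : N, n ∈ F → (χ : G → ℂ) (n : G) =
      (ξ.1 : N → ℂ) n + ∑ μ ∈ Finset.univ.filter (fun η : Cfsg.IrrCharacter N => ¬ IsT F η),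
        (mult N χ μ : ℂ) := by
    intro n hn
    have h4 := congrFun hexp n
    rw [res_apply, Finset.sum_apply,
      ← Finset.sum_filter_add_sum_filter_not Finset.univ (fun η => IsT F η)] at h4
    rw [h4]
    congr 1
    · rw [Finset.sum_eq_single ξ.1]
      · rw [h1]; simp
      · intro η hη hne
        rw [hmultT η (Finset.mem_filter.mp hη).2 hne]; simp
      · intro h
        exact absurd (Finset.mem_filter.mpr ⟨Finset.mem_univ _, ξ.2.1⟩) h
    · refine Finset.sum_congr rfl fun μ hμ => ?_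
      rw [Pi.smul_apply, smul_eq_mul, L_F F hab (Finset.mem_filter.mp hμ).2 hn, mul_one]
  -- A lies in the kernel
  obtain ⟨hd1, hAval⟩ : dT F ξ.1 = 1 ∧ ∀ a ∈ A, (ξ.1 : N → ℂ) a = e := by
    rcases T_dichotomy F A hC hAF hAc hA2 hAn htr q e hA hFq hidx he hcommA hnd ξ.2.1 with h | h
    · exact h
    · exact absurd (ξ.2.2.symm.trans h.1).symm hq1
  have hξ1 : (ξ.1 : N → ℂ) 1 = e := by
    rw [T_one' F hC ξ.2.1, hidx, hd1]; simp
  have hker : ∀ a ∈ A, ((a : N) : G) ∈ irrKer χ := by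
    intro a ha
    rw [mem_irrKer]
    have := hval 1 F.one_mem
    rw [Subgroup.coe_one] at this
    rw [hval a (hAF ha), this, hAval a ha, hξ1]
  obtain ⟨z, hzA, hz1⟩ : ∃ z ∈ A, z ≠ 1 := by
    have : 1 < Nat.card A := by rw [hA]; omega
    haveI : Nontrivial A := Finite.one_lt_card_iff_nontrivial.mp this
    obtain ⟨a, ha⟩ := exists_ne (1 : A)
    exact ⟨a, a.2, fun h => ha (Subtype.ext h)⟩
  have htop : irrKer χ = ⊤ := by
    rcases IsSimpleGroup.eq_bot_or_eq_top_of_normal (irrKer χ) (irrKer_normal χ) with hb | ht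
    · exfalso
      have := hker z hzA
      rw [hb, Subgroup.mem_bot] at this
      exact hz1 (Subtype.ext this)
    · exact ht
  obtain ⟨n, hnF, hn⟩ := ξ.2.1
  apply hn
  have h5 : (χ : G → ℂ) (n : G) = (χ : G → ℂ) 1 := by
    rw [← mem_irrKer, htop]; exact Subgroup.mem_top _
  have h6 := hval 1 F.one_mem
  rw [Subgroup.coe_one] at h6
  rw [hval n hnF, h6] at h5
  exact add_right_cancel h5

end Cfsg.Agent.Lib.helper6.SuzChar
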