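import Mathlib
import Cfsg.Agent.Lib.helper6.ZassFeitD
import Cfsg.Agent.Lib.helper6.ZassReg

set_option autoImplicit false

namespace Cfsg.Agent.Lib.helper6.ZassFeitNA

open MulAction Cfsg.Agent.Lib.helper6.ZassPSL3 Cfsg.Agent.Lib.helper6.ZassFeit
  Cfsg.Agent.Lib.helper6.ZassNormal

variable {G Ω : Type*} [Group G] [MulAction G Ω]
variable {pinf p0 : Ω} {KG : Subgroup G}

/-- an element of the point stabiliser outside the kernel is conjugate, under the kernel, to its
component in the two-point stabiliser -/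
theorem conj_to_E [Finite G] (Z : ZK G Ω pinf p0 KG) {v k : G} (hv : v ∈ KG)
    (hki : k • pinf = pinf) (hk0 : k • p0 = p0) (hk1 : k ≠ 1) :
    ∃ w ∈ KG, w⁻¹ * (v * k) * w = k := by
  classical
  have hmem : ∀ w : KG, (w : G) * (k * (w : G) * k⁻¹)⁻¹ ∈ KG := fun w =>
    KG.mul_mem w.2 (KG.inv_mem (Z.knorm k hki w w.2))
  let γ : KG → KG := fun w => ⟨_, hmem w⟩
  have hinj : Function.Injective γ := by
    intro w w' hww
    have h1 : (w : G) * (k * (w : G) * k⁻¹)⁻¹ = (w' : G) * (k * (w' : G) * k⁻¹)⁻¹ :=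
      congrArg Subtype.val hww
    set z : G := (w' : G)⁻¹ * (w : G) with hz
    have hzK : z ∈ KG := KG.mul_mem (KG.inv_mem w'.2) w.2
    have h2 : k * z * k⁻¹ = z := by
      have e1 : (w' : G)⁻¹ * (w : G) = (k * (w' : G) * k⁻¹)⁻¹ * (k * (w : G) * k⁻¹) := by
        have := congrArg (fun t => (w' : G)⁻¹ * t * (k * (w : G) * k⁻¹)) h1
        simp only [mul_assoc, inv_mul_cancel, mul_one, inv_mul_cancel_left] at this
        rw [← mul_assoc] at this
        simpa [mul_assoc] using this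
      rw [hz]
      calc k * ((w' : G)⁻¹ * (w : G)) * k⁻¹
          = (k * (w' : G) * k⁻¹)⁻¹ * (k * (w : G) * k⁻¹) := by group
        _ = (w' : G)⁻¹ * (w : G) := e1.symm
    by_contra hne
    have hz1 : z ≠ 1 := by
      intro h
      apply hne
      apply Subtype.ext
      have : (w : G) = (w' : G) * z := by rw [hz]; group
      rw [this, h, mul_one]
    exact hk1 (Z.H_semireg hki hk0 hzK hz1 h2)
  have hsurj : Function.Surjective γ := Finite.surjective_of_injective hinj
  obtain ⟨w, hw⟩ := hsurj ⟨v, hv⟩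
  refine ⟨w, w.2, ?_⟩
  have h1 : (w : G) * (k * (w : G) * k⁻¹)⁻¹ = v := congrArg Subtype.val hw
  rw [← h1]
  group

/-- the kernel is self-centralising in the point stabiliser (no commutativity needed) -/
theorem kernel_cent' [Finite G] (Z : ZK G Ω pinf p0 KG) {u : G} (hu : u ∈ KG) (hu1 : u ≠ 1)
    {g : G} (hg : g • pinf = pinf) (hc : g * u = u * g) : g ∈ KG := by
  obtain ⟨v, hv, k, hki, hk0, rfl⟩ := N_decomp Z hg
  by_cases hk1 : k = 1
  · rw [hk1, mul_one]; exact hv
  · exfalso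
    obtain ⟨w, hw, hwk⟩ := conj_to_E Z hv hki hk0 hk1
    set u' : G := w⁻¹ * u * w with hu'
    have hu'K : u' ∈ KG := by
      have := Z.knorm w⁻¹ (by rw [inv_smul_eq_iff, Z.kfix w hw]) u hu
      simpa [hu'] using this
    have hu'1 : u' ≠ 1 := by
      intro h
      apply hu1
      have : u = w * u' * w⁻¹ := by rw [hu']; group
      rw [this, h]; group
    have h2 : k * u' * k⁻¹ = u' := by
      rw [← hwk, hu']
      calc w⁻¹ * (v * k) * w * (w⁻¹ * u * w) * (w⁻¹ * (v * k) * w)⁻¹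
          = w⁻¹ * ((v * k) * u) * (v * k)⁻¹ * w := by group
        _ = w⁻¹ * (u * (v * k)) * (v * k)⁻¹ * w := by rw [hc]
        _ = w⁻¹ * u * w := by group
    exact hk1 (Z.H_semireg hki hk0 hu'K hu'1 h2)

/-- the given subgroup `H` is the Frobenius kernel: `ZK` structure and nilpotency -/
theorem zk_of_H [Fintype Ω] [Finite G] (hZ : Cfsg.IsZassenhausGroup G Ω) {a b : Ω} (hab : a ≠ b)
    (H : Subgroup G) (hHa : H ≤ stabilizer G a) (hHcard : Nat.card H + 1 = Fintype.card Ω)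
    (hHfix : ∀ u ∈ H, u ≠ 1 → ∀ c : Ω, u • c = c → c = a) :
    ZK G Ω a b H ∧ Group.IsNilpotent H := by
  classical
  have D := ZData.of_zass hZ
  haveI := D.faithful
  obtain ⟨g0, hg01, a0, b0, hab0, hg0a, hg0b⟩ := hZ.2.2.2.1
  obtain ⟨x, hxa, hxb⟩ := D.two hab0 hab
  have hn01 : x * g0 * x⁻¹ ≠ 1 := by
    intro h
    apply hg01
    have : g0 = x⁻¹ * (x * g0 * x⁻¹) * x := by group
    rw [this, h]; group
  have hn0a : (x * g0 * x⁻¹) • a = a := by
    rw [mul_smul, mul_smul, ← hxa, inv_smul_smul, hg0a]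
  have hn0b : (x * g0 * x⁻¹) • b = b := by
    rw [mul_smul, mul_smul, ← hxb, inv_smul_smul, hg0b]
  obtain ⟨KG, hnil, hkfix, hkfpf, hktr, hknorm⟩ :=
    Cfsg.Agent.Lib.helper6.ZassReg.kernel_data (fun h1 h2 => D.two h1 h2) D.three hab hn01 hn0a hn0b
  have Z' : ZK G Ω a b KG := ⟨fun h1 h2 => D.two h1 h2, D.three, hab, hkfix, hkfpf, hktr, hknorm⟩
  have hle : H ≤ KG := by
    intro u hu
    by_cases hu1 : u = 1
    · rw [hu1]; exact KG.one_mem
    have hua : u • a = a := mem_stabilizer_iff.mp (hHa hu)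
    obtain ⟨v, hv, k, hki, hk0, huv⟩ := N_decomp Z' hua
    by_cases hk1 : k = 1
    · rw [huv, hk1, mul_one]; exact hv
    · exfalso
      obtain ⟨w, hw, hwk⟩ := conj_to_E Z' hv hki hk0 hk1
      rw [← huv] at hwk
      have hfix : u • (w • b) = w • b := by
        have : u = w * k * w⁻¹ := by rw [← hwk]; group
        rw [this, mul_smul, mul_smul, inv_smul_smul, hk0]
      have := hHfix u hu hu1 (w • b) hfix
      exact Z'.ne_of_smul hw (Ne.symm hab) this
  have hcard : Nat.card KG ≤ Nat.card H := by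
    have := card_KG Z'
    omega
  have hEq : H = KG := Subgroup.eq_of_le_of_card_ge hle hcard
  rw [hEq]
  exact ⟨Z', hnil⟩

end Cfsg.Agent.Lib.helper6.ZassFeitNA
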