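import Mathlib
import Cfsg.Agent.Lib.helper6.ZassFeitNA
import Cfsg.Agent.Lib.helper6.ZassInvol
import Cfsg.Agent.Lib.Helper27.SzMain

/-!
# The kernel of a simple Zassenhaus group, when a nonabelian 2-group, is a Suzuki 2-group
-/

set_option autoImplicit false

namespace Cfsg.Agent.Lib.helper6.SuzGrp

open MulAction Cfsg.Agent.Lib.helper6.ZassPSL3 Cfsg.Agent.Lib.helper6.ZassFeit
  Cfsg.Agent.Lib.helper6.ZassInvol Cfsg.Agent.Lib.Helper27.Sz

variable {G Ω : Type*} [Group G] [MulAction G Ω]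

/-- conjugation action of a subgroup `E` on a subgroup `H` it normalises -/
def conjAct (H E : Subgroup G) (hn : ∀ k ∈ E, ∀ u ∈ H, k * u * k⁻¹ ∈ H) : E →* MulAut H where
  toFun k :=
    { toFun := fun u => ⟨k * u * k⁻¹, hn k k.2 u u.2⟩
      invFun := fun u => ⟨(k : G)⁻¹ * u * k, by
        have := hn (k : G)⁻¹ (E.inv_mem k.2) u u.2
        simpa using this⟩
      left_inv := fun u => by apply Subtype.ext; simp [mul_assoc]
      right_inv := fun u => by apply Subtype.ext; simp [mul_assoc]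
      map_mul' := fun u v => by apply Subtype.ext; simp [mul_assoc] }
  map_one' := by
    ext u
    simp
  map_mul' := fun k k' => by
    ext u
    simp only [Subgroup.coe_mul, MulEquiv.coe_mk, Equiv.coe_fn_mk, MulAut.mul_apply, mul_inv_rev]
    group

@[simp] theorem conjAct_apply (H E : Subgroup G) (hn : ∀ k ∈ E, ∀ u ∈ H, k * u * k⁻¹ ∈ H)
    (k : E) (u : H) : ((conjAct H E hn k u : H) : G) = k * u * (k : G)⁻¹ := rfl

variable {a b : Ω} {H : Subgroup G}

/-- the two-point stabiliser normalises the kernel -/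
theorem E_norm (Z : ZK G Ω a b H) :
    ∀ k ∈ (stabilizer G a ⊓ stabilizer G b : Subgroup G), ∀ u ∈ H, k * u * k⁻¹ ∈ H := by
  intro k hk u hu
  exact Z.knorm k (mem_stabilizer_iff.mp (Subgroup.mem_inf.mp hk).1) u hu

variable [Finite G] [Fintype Ω]

section Main

variable (hZ : Cfsg.IsZassenhausGroup G Ω) [IsSimpleGroup G] (Z : ZK G Ω a b H)
  (hodd : Odd (Nat.card ↥(stabilizer G a ⊓ stabilizer G b)))
  (h2 : IsPGroup 2 H)
include hZ Z hodd h2

/-- a central involution of the kernel -/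
theorem exists_central_invol : ∃ z ∈ H, z ≠ 1 ∧ z * z = 1 ∧ ∀ u ∈ H, z * u = u * z := by
  classical
  haveI : Fact (Nat.Prime 2) := ⟨Nat.prime_two⟩
  have hne : Nontrivial H := by
    obtain ⟨u, hu, hub⟩ := Z.ktr b b (Ne.symm Z.hi0) (Ne.symm Z.hi0)
    -- H acts transitively on at least two points other than a
    obtain ⟨g, hg1, a', b', hab', hga, hgb⟩ := hZ.2.2.2.1
    obtain ⟨x, hxa, hxb⟩ := Z.two hab' Z.hi0
    -- find a third point
    have hc : ∃ c : Ω, c ≠ a ∧ c ≠ b := by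
      by_contra hcon
      push Not at hcon
      apply hg1
      haveI := hZ.1
      apply FaithfulSMul.eq_of_smul_eq_smul (α := Ω)
      intro y
      rw [one_smul]
      have hy : x • y = a ∨ x • y = b := by
        by_cases h : x • y = a
        · left; exact h
        · right; exact hcon _ h
      rcases hy with h | h
      · have : y = a' := smul_left_cancel x (h.trans hxa.symm)
        rw [this, hga]
      · have : y = b' := smul_left_cancel x (h.trans hxb.symm)
        rw [this, hgb]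
    obtain ⟨c, hca, hcb⟩ := hc
    obtain ⟨v, hv, hvb⟩ := Z.ktr b c (Ne.symm Z.hi0) hca
    refine ⟨⟨⟨v, hv⟩, 1, ?_⟩⟩
    intro h
    have : v = 1 := congrArg Subtype.val h
    rw [this, one_smul] at hvb
    exact hcb hvb.symm
  haveI := hne
  have hcen : Nontrivial (Subgroup.center H) := h2.center_nontrivial
  have hdvd : 2 ∣ Nat.card (Subgroup.center H) := by
    obtain ⟨n, hn⟩ := (h2.to_subgroup (Subgroup.center H)).exists_card_eq
    have hn0 : n ≠ 0 := by
      rintro rfl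
      rw [pow_zero] at hn
      have := Finite.one_lt_card_iff_nontrivial.mpr hcen
      omega
    rw [hn]
    exact dvd_pow_self 2 hn0
  obtain ⟨z, hz⟩ := exists_prime_orderOf_dvd_card' 2 hdvd
  have hz1 : (z : H) ≠ 1 := by
    intro h
    have : z = 1 := Subtype.ext h
    rw [this, orderOf_one] at hz
    omega
  have hzz : (z : H) * (z : H) = 1 := by
    have := pow_orderOf_eq_one z
    rw [hz, pow_two] at this
    exact congrArg Subtype.val this
  refine ⟨((z : H) : G), (z : H).2, fun h => hz1 (Subtype.ext h), ?_, ?_⟩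
  · exact congrArg Subtype.val hzz
  · intro u hu
    have := Subgroup.mem_center_iff.mp z.2 ⟨u, hu⟩
    exact (congrArg Subtype.val this).symm

/-- every involution of the kernel is conjugate under the two-point stabiliser to a given central
involution -/
theorem invol_E_conj {z : G} (hz : z ∈ H) (hz1 : z ≠ 1) (hzz : z * z = 1)
    (hzc : ∀ u ∈ H, z * u = u * z) {y : G} (hy : y ∈ H) (hy1 : y ≠ 1) (hyy : y * y = 1) :
    ∃ k ∈ (stabilizer G a ⊓ stabilizer G b : Subgroup G), k * z * k⁻¹ = y := by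
  have hoz : orderOf z = 2 := orderOf_eq_prime (by rw [pow_two]; exact hzz) hz1
  have hoy : orderOf y = 2 := orderOf_eq_prime (by rw [pow_two]; exact hyy) hy1
  obtain ⟨g, hg⟩ := isConj_iff.mp (invol_conj hZ Z.hi0 hodd hoz hoy)
  have hga : g • a = a := by
    by_contra hne
    apply Z.kfpf y hy hy1 (g • a) hne
    rw [← hg, mul_smul, mul_smul, inv_smul_smul, Z.kfix z hz]
  obtain ⟨u, hu, k, hka, hkb, rfl⟩ := N_decomp Z hga
  refine ⟨k, Subgroup.mem_inf.mpr ⟨mem_stabilizer_iff.mpr hka, mem_stabilizer_iff.mpr hkb⟩, ?_⟩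
  have hz' : k * z * k⁻¹ ∈ H := Z.knorm k hka z hz
  have hk' : k⁻¹ • a = a := by rw [inv_smul_eq_iff, hka]
  have hcomm : u * (k * z * k⁻¹) = (k * z * k⁻¹) * u := by
    have h1 : k⁻¹ * u * k ∈ H := by
      have := Z.knorm k⁻¹ hk' u hu
      simpa using this
    have h2 := hzc _ h1
    calc u * (k * z * k⁻¹) = k * ((k⁻¹ * u * k) * z) * k⁻¹ := by group
      _ = k * (z * (k⁻¹ * u * k)) * k⁻¹ := by rw [h2]
      _ = (k * z * k⁻¹) * u := by group
  rw [← hg]
  calc k * z * k⁻¹ = (k * z * k⁻¹) * u * u⁻¹ := by group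
    _ = u * (k * z * k⁻¹) * u⁻¹ := by rw [hcomm]
    _ = u * k * z * (u * k)⁻¹ := by group

/-- involutions of the kernel are central in it -/
theorem invol_central {y : G} (hy : y ∈ H) (hy1 : y ≠ 1) (hyy : y * y = 1) :
    ∀ u ∈ H, y * u = u * y := by
  obtain ⟨z, hz, hz1, hzz, hzc⟩ := exists_central_invol hZ Z hodd h2
  obtain ⟨k, hk, rfl⟩ := invol_E_conj hZ Z hodd h2 hz hz1 hzz hzc hy hy1 hyy
  have hka : k • a = a := mem_stabilizer_iff.mp (Subgroup.mem_inf.mp hk).1
  have hk' : k⁻¹ • a = a := by rw [inv_smul_eq_iff, hka]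
  intro u hu
  have h1 : k⁻¹ * u * k ∈ H := by
    have := Z.knorm k⁻¹ hk' u hu
    simpa using this
  have h2 := hzc _ h1
  calc k * z * k⁻¹ * u = k * (z * (k⁻¹ * u * k)) * k⁻¹ := by group
    _ = k * ((k⁻¹ * u * k) * z) * k⁻¹ := by rw [h2]
    _ = u * (k * z * k⁻¹) := by group

/-- the two-point stabiliser is transitive on the involutions of the kernel -/
theorem invol_trans {x : G} (hx : x ∈ H) (hx1 : x ≠ 1) (hxx : x * x = 1)
    {y : G} (hy : y ∈ H) (hy1 : y ≠ 1) (hyy : y * y = 1) :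
    ∃ k ∈ (stabilizer G a ⊓ stabilizer G b : Subgroup G), k * x * k⁻¹ = y :=
  invol_E_conj hZ Z hodd h2 hx hx1 hxx (invol_central hZ Z hodd h2 hx hx1 hxx) hy hy1 hyy

omit [Finite G] [Fintype Ω] [IsSimpleGroup G] hZ hodd h2 in
/-- and semiregular -/
theorem invol_unique {x : G} (hx : x ∈ H) (hx1 : x ≠ 1) {k k' : G}
    (hk : k ∈ (stabilizer G a ⊓ stabilizer G b : Subgroup G))
    (hk' : k' ∈ (stabilizer G a ⊓ stabilizer G b : Subgroup G))
    (h : k * x * k⁻¹ = k' * x * k'⁻¹) : k = k' := by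
  have hm := Subgroup.mul_mem _ (Subgroup.inv_mem _ hk') hk
  obtain ⟨h1, h2⟩ := Subgroup.mem_inf.mp hm
  have hc : (k'⁻¹ * k) * x * (k'⁻¹ * k)⁻¹ = x := by
    calc (k'⁻¹ * k) * x * (k'⁻¹ * k)⁻¹ = k'⁻¹ * (k * x * k⁻¹) * k' := by group
      _ = k'⁻¹ * (k' * x * k'⁻¹) * k' := by rw [h]
      _ = x := by group
  have := Z.H_semireg (mem_stabilizer_iff.mp h1) (mem_stabilizer_iff.mp h2) hx hx1 hc
  calc k = k' * (k'⁻¹ * k) := by group
    _ = k' := by rw [this, mul_one]

omit Z h2 hodd in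
theorem E_nontrivial (hab : a ≠ b) :
    ∃ k ∈ (stabilizer G a ⊓ stabilizer G b : Subgroup G), k ≠ 1 := by
  obtain ⟨g, hg1, a', b', hab', hga, hgb⟩ := hZ.2.2.2.1
  by_contra hcon
  push Not at hcon
  have hbot : (stabilizer G a ⊓ stabilizer G b : Subgroup G) = ⊥ := by
    rw [Subgroup.eq_bot_iff_forall]; exact hcon
  have h1 := card_pair hZ hab hab'
  rw [hbot, Subgroup.card_bot] at h1
  have hmem : g ∈ (stabilizer G a' ⊓ stabilizer G b' : Subgroup G) :=
    Subgroup.mem_inf.mpr ⟨mem_stabilizer_iff.mpr hga, mem_stabilizer_iff.mpr hgb⟩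
  rw [Subgroup.card_eq_one.mp h1, Subgroup.mem_bot] at hmem
  exact hg1 hmem

/-- the Suzuki 2-group structure -/
theorem suz_of_zass
    (hEcomm : ∀ k k' : ↥(stabilizer G a ⊓ stabilizer G b : Subgroup G), k * k' = k' * k) :
    Suz (conjAct H (stabilizer G a ⊓ stabilizer G b : Subgroup G) (E_norm Z)) := by
  obtain ⟨z, hz, hz1, hzz, hzc⟩ := exists_central_invol hZ Z hodd h2
  refine ⟨inferInstance, hEcomm, h2, ?_, ?_⟩
  · obtain ⟨k, hk, hk1⟩ := E_nontrivial hZ Z.hi0
    refine ⟨⟨z, hz⟩, ⟨k * z * k⁻¹, E_norm Z k hk z hz⟩, ?_, ?_, ?_, ?_, ?_⟩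
    · intro h
      have h3 : z = k * z * k⁻¹ := congrArg Subtype.val h
      have : (1 : G) * z * (1 : G)⁻¹ = k * z * k⁻¹ := by simpa using h3
      exact hk1 (invol_unique Z hz hz1 (Subgroup.one_mem _) hk this).symm
    · intro h; exact hz1 (congrArg Subtype.val h)
    · apply Subtype.ext; exact hzz
    · intro h
      have h3 : k * z * k⁻¹ = 1 := congrArg Subtype.val h
      apply hz1
      calc z = k⁻¹ * (k * z * k⁻¹) * k := by group
        _ = 1 := by rw [h3]; group
    · apply Subtype.ext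
      show k * z * k⁻¹ * (k * z * k⁻¹) = 1
      calc k * z * k⁻¹ * (k * z * k⁻¹) = k * (z * z) * k⁻¹ := by group
        _ = 1 := by rw [hzz]; group
  · intro x y hx1 hxx hy1 hyy
    have hx1' : (x : G) ≠ 1 := fun h => hx1 (Subtype.ext h)
    have hy1' : (y : G) ≠ 1 := fun h => hy1 (Subtype.ext h)
    have hxx' : (x : G) * x = 1 := congrArg Subtype.val hxx
    have hyy' : (y : G) * y = 1 := congrArg Subtype.val hyy
    obtain ⟨k, hk, hkx⟩ := invol_trans hZ Z hodd h2 x.2 hx1' hxx' y.2 hy1' hyy'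
    refine ⟨⟨k, hk⟩, ?_, ?_⟩
    · apply Subtype.ext
      exact hkx
    · intro k' hk'
      have h3 : (k' : G) * x * (k' : G)⁻¹ = y := congrArg Subtype.val hk'
      apply Subtype.ext
      exact invol_unique Z x.2 hx1' k'.2 hk (h3.trans hkx.symm)

end Main

end Cfsg.Agent.Lib.helper6.SuzGrp
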