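import Mathlib
import Cfsg.Agent.Lib.helper6.SuzGrpA
import Cfsg.Agent.Lib.helper6.ZassFeitC
import Cfsg.Agent.S0739

/-!
# Set-up: from the hypotheses of the statements to the `ZK`/`Suz` framework
-/

set_option autoImplicit false

namespace Cfsg.Agent.Lib.helper6.SuzGrp

open MulAction Cfsg.Agent.Lib.helper6.ZassPSL3 Cfsg.Agent.Lib.helper6.ZassFeit
  Cfsg.Agent.Lib.helper6.ZassInvol Cfsg.Agent.Lib.Helper27.Sz
  Cfsg.Agent.Lib.helper6.ZassFeitNA

variable {G Ω : Type*} [Group G] [MulAction G Ω] [Finite G] [Fintype Ω]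

section Setup

variable (hZ : Cfsg.IsZassenhausGroup G Ω) {a b : Ω} (hab : a ≠ b)
  (U : Subgroup G) (hUle : U ≤ stabilizer G a)
  (hreg : ∀ c d : Ω, c ≠ a → d ≠ a → ∃! u : U, (u : G) • c = d)

include hUle hreg hab in
theorem setup_card : Nat.card U + 1 = Fintype.card Ω := by
  classical
  have h1 : Nat.card U = Nat.card {d : Ω // d ≠ a} := by
    apply Nat.card_congr
    refine Equiv.ofBijective (fun u => ⟨(u : G) • b, ?_⟩) ⟨?_, ?_⟩
    · intro h
      have h2 : (u : G) • a = a := mem_stabilizer_iff.mp (hUle u.2)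
      exact hab (smul_left_cancel (u : G) (h2.trans h.symm))
    · intro u v huv
      have h2 : (u : G) • b = (v : G) • b := congrArg Subtype.val huv
      have hvb : (v : G) • b ≠ a := by
        intro h
        have h3 : (v : G) • a = a := mem_stabilizer_iff.mp (hUle v.2)
        exact hab (smul_left_cancel (v : G) (h3.trans h.symm))
      obtain ⟨w, -, hw⟩ := hreg b ((v : G) • b) (Ne.symm hab) hvb
      rw [hw u h2, hw v rfl]
    · intro d
      obtain ⟨u, hu, -⟩ := hreg b d (Ne.symm hab) d.2
      exact ⟨u, Subtype.ext hu⟩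
  rw [h1, Nat.card_eq_fintype_card, Fintype.card_subtype_compl, Fintype.card_subtype_eq]
  have : 0 < Fintype.card Ω := Fintype.card_pos_iff.mpr ⟨a⟩
  omega

include hreg in
theorem setup_fix : ∀ u ∈ U, u ≠ 1 → ∀ c : Ω, u • c = c → c = a := by
  intro u hu hu1 c hc
  by_contra hca
  obtain ⟨w, -, hw⟩ := hreg c c hca hca
  have h1 := hw ⟨u, hu⟩ hc
  have h2 := hw 1 (by simp)
  apply hu1
  have := congrArg Subtype.val (h1.trans h2.symm)
  simpa using this

include hZ hab hUle hreg in
theorem setup_ZK : ZK G Ω a b U :=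
  (zk_of_H hZ hab U hUle (setup_card hab U hUle hreg) (setup_fix U hreg)).1

include hZ hab hUle hreg in
theorem setup_odd (hU2 : IsPGroup 2 U) :
    Odd (Nat.card ↥(stabilizer G a ⊓ stabilizer G b : Subgroup G)) := by
  classical
  have Z := setup_ZK hZ hab U hUle hreg
  have hdvd := E_dvd (G := G) Z.three hab
  have hc := setup_card hab U hUle hreg
  obtain ⟨n, hn⟩ := hU2.exists_card_eq
  have hn0 : n ≠ 0 := by
    rintro rfl
    rw [pow_zero] at hn
    -- then Ω has two points, and the two-point stabiliser is trivial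
    obtain ⟨g, hg1, a', b', hab', hga, hgb⟩ := hZ.2.2.2.1
    haveI := hZ.1
    apply hg1
    apply FaithfulSMul.eq_of_smul_eq_smul (α := Ω)
    intro y
    rw [one_smul]
    have hcard : Fintype.card Ω = 2 := by omega
    have huniv : ∀ y : Ω, y = a' ∨ y = b' := by
      intro y
      by_contra hcon
      push Not at hcon
      have h3 : ({a', b', y} : Finset Ω).card = 3 := by
        rw [Finset.card_insert_of_notMem, Finset.card_insert_of_notMem, Finset.card_singleton]
        · simp; exact Ne.symm hcon.2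
        · simp; exact ⟨hab', Ne.symm hcon.1⟩
      have := Finset.card_le_univ ({a', b', y} : Finset Ω)
      omega
    rcases huniv y with h | h
    · rw [h, hga]
    · rw [h, hgb]
  have hodd : Odd (Fintype.card Ω - 2) := by
    rw [← hc, hn]
    have : 2 ^ n + 1 - 2 = 2 ^ n - 1 := by
      have : 1 ≤ 2 ^ n := Nat.one_le_two_pow
      omega
    rw [this]
    exact Nat.Even.sub_odd Nat.one_le_two_pow ((Nat.even_pow' hn0).mpr even_two) odd_one
  exact Odd.of_dvd_nat hodd hdvd

end Setup

section Setup2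

variable (hZ : Cfsg.IsZassenhausGroup G Ω) [IsSimpleGroup G] {a b : Ω} (hab : a ≠ b)
  (hodd : Odd (Nat.card ↥(stabilizer G a ⊓ stabilizer G b : Subgroup G)))

include hZ hab hodd in
theorem setup_cyclic : IsCyclic ↥(stabilizer G a ⊓ stabilizer G b : Subgroup G) := by
  have hnilq : ∀ q : ℕ, q.Prime → q ∣ Nat.card ↥(stabilizer G a ⊓ stabilizer G b) →
      ¬ ∃ M : Subgroup G, M.Normal ∧ M.index = q ^ (Nat.card G).factorization q := by
    intro q hq hqd
    apply no_compl hZ hab q hq
    · rintro rfl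
      exact (Nat.not_even_iff_odd.mpr hodd) (even_iff_two_dvd.mpr hqd)
    · exact hqd.trans (Subgroup.card_subgroup_dvd_card _)
  exact (Cfsg.Agent.S0739.result hZ hab hodd hnilq).1

include hZ hab hodd in
theorem setup_comm :
    ∀ k k' : ↥(stabilizer G a ⊓ stabilizer G b : Subgroup G), k * k' = k' * k := by
  haveI := setup_cyclic hZ hab hodd
  intro k k'
  exact IsCyclic.commGroup.mul_comm k k'

end Setup2

end Cfsg.Agent.Lib.helper6.SuzGrp
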