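import Mathlib
import Cfsg.Agent.Lib.Helper27.SzBound

/-!
# Suzuki 2-groups of order `q³`: every commutator form is nondegenerate

(The character-sum computation is the one of `Helper27.Sz.Suz.card_of_sq_mem`, with a different
ending.)
-/

set_option autoImplicit false

namespace Cfsg.Agent.Lib.helper6.SuzGrp

open Cfsg.Agent.Lib.Helper27.Sz
open scoped commutatorElement

variable {K : Type*} {P : Type*} [Group K] [Group P] {ρ : K →* MulAut P}

theorem nondeg_aux (h : Suz ρ) (hsq : ∀ x : P, x * x ∈ Vs P)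
    (hcube : Nat.card P = (Nat.card K + 1) ^ 3)
    (H' : Subgroup (Vs P)) (hidx : H'.index = 2) (u₁ : P)
    (hu₁ : ∀ x : P, ∀ hx : ⁅x, u₁⁆ ∈ Vs P, (⟨⁅x, u₁⁆, hx⟩ : Vs P) ∈ H') : u₁ ∈ Vs P := by
  classical
  haveI := h.fin
  haveI := h.finite_K
  haveI : Fintype P := Fintype.ofFinite P
  haveI : Fintype K := Fintype.ofFinite K
  haveI : Fact (Nat.Prime 2) := ⟨Nat.prime_two⟩
  obtain ⟨n, hn2, hn⟩ := h.exists_card_Vs
  have hq : Nat.card K + 1 = 2 ^ n := by rw [← h.card_Vs, hn]
  obtain ⟨α, hα⟩ := h.pgroup.exists_card_eq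
  have hcomm : ∀ x y : P, ⁅x, y⁆ ∈ Vs P := comm_mem_Vs_of_sq hsq
  have hcen : ∀ x y : P, ⁅x, y⁆ ∈ Subgroup.center P := fun x y => (hcomm x y).1
  -- the character
  let χ : P → ℤ := fun x => if hx : x ∈ Vs P then (if (⟨x, hx⟩ : Vs P) ∈ H' then 1 else -1) else 1
  have χV : ∀ v (hv : v ∈ Vs P), χ v = if (⟨v, hv⟩ : Vs P) ∈ H' then 1 else -1 := by
    intro v hv
    show (if hx : v ∈ Vs P then (if (⟨v, hx⟩ : Vs P) ∈ H' then (1 : ℤ) else -1) else 1) = _
    rw [dif_pos hv]
  have χmul : ∀ v w, v ∈ Vs P → w ∈ Vs P → χ (v * w) = χ v * χ w := by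
    intro v w hv hw
    rw [χV v hv, χV w hw, χV (v * w) ((Vs P).mul_mem hv hw)]
    have := Subgroup.mul_mem_iff_of_index_two hidx (a := (⟨v, hv⟩ : Vs P)) (b := ⟨w, hw⟩)
    have e : (⟨v * w, (Vs P).mul_mem hv hw⟩ : Vs P) = ⟨v, hv⟩ * ⟨w, hw⟩ := rfl
    rw [e]
    by_cases h1 : (⟨v, hv⟩ : Vs P) ∈ H' <;> by_cases h2 : (⟨w, hw⟩ : Vs P) ∈ H'
    · have h3 : (⟨v, hv⟩ : Vs P) * ⟨w, hw⟩ ∈ H' := this.mpr (iff_of_true h1 h2)
      rw [if_pos h3, if_pos h1, if_pos h2]; norm_num
    · have h3 : ¬ (⟨v, hv⟩ : Vs P) * ⟨w, hw⟩ ∈ H' := fun hp => h2 ((this.mp hp).mp h1)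
      rw [if_neg h3, if_pos h1, if_neg h2]; norm_num
    · have h3 : ¬ (⟨v, hv⟩ : Vs P) * ⟨w, hw⟩ ∈ H' := fun hp => h1 ((this.mp hp).mpr h2)
      rw [if_neg h3, if_neg h1, if_pos h2]; norm_num
    · have h3 : (⟨v, hv⟩ : Vs P) * ⟨w, hw⟩ ∈ H' := this.mpr (iff_of_false h1 h2)
      rw [if_pos h3, if_neg h1, if_neg h2]; norm_num
  have χone : χ 1 = 1 := by
    rw [χV 1 (Vs P).one_mem, if_pos]
    exact H'.one_mem
  have χsq : ∀ v, χ v * χ v = 1 := by
    intro v
    by_cases hv : v ∈ Vs P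
    · rw [χV v hv]; split_ifs <;> norm_num
    · show (if hx : v ∈ Vs P then (if (⟨v, hx⟩ : Vs P) ∈ H' then (1 : ℤ) else -1) else 1) *
        (if hx : v ∈ Vs P then (if (⟨v, hx⟩ : Vs P) ∈ H' then (1 : ℤ) else -1) else 1) = 1
      rw [dif_neg hv]; norm_num
  have χpm : ∀ v, χ v = 1 ∨ χ v = -1 := by
    intro v
    by_cases hv : v ∈ Vs P
    · rw [χV v hv]; split_ifs <;> simp
    · left
      show (if hx : v ∈ Vs P then (if (⟨v, hx⟩ : Vs P) ∈ H' then (1 : ℤ) else -1) else 1) = 1
      rw [dif_neg hv]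
  -- an element where the character is `-1`
  obtain ⟨v₀, hv₀⟩ : ∃ v₀ : Vs P, v₀ ∉ H' := by
    by_contra hall
    push Not at hall
    have : H' = ⊤ := by
      ext v; exact ⟨fun _ => Subgroup.mem_top _, fun _ => hall v⟩
    rw [this, Subgroup.index_top] at hidx
    omega
  have hχv₀ : χ (v₀ : P) = -1 := by
    rw [χV _ v₀.2, if_neg hv₀]
  -- the sum over the involutions vanishes
  have hsumV : ∑ w : Vs P, χ (w : P) = 0 :=
    sum_eq_zero_of_mul (fun w : Vs P => χ (w : P)) (fun a b => χmul _ _ a.2 b.2) v₀ hχv₀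
  -- the orbit sums
  have horb : ∀ v : P, v ∈ Vs P → v ≠ 1 → ∑ k : K, χ (ρ k v) = -1 := by
    intro v hv hv1
    have e := h.optEquiv v hv1 hv.2
    have h1 : ∑ w : Vs P, χ (w : P) = ∑ o : Option K, χ ((h.optEquiv v hv1 hv.2 o : Vs P) : P) :=
      (Equiv.sum_comp (h.optEquiv v hv1 hv.2) (fun w : Vs P => χ (w : P))).symm
    rw [Fintype.sum_option] at h1
    have h2 : ((h.optEquiv v hv1 hv.2 none : Vs P) : P) = 1 := rfl
    have h3 : ∀ k : K, ((h.optEquiv v hv1 hv.2 (some k) : Vs P) : P) = ρ k v := fun k => rfl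
    rw [h2, χone, hsumV] at h1
    simp only [h3] at h1
    linarith
  let S : ℤ := ∑ x : P, χ (x * x)
  -- first relation
  have hrel1 : ((2 : ℤ) ^ n - 1) * S = (2 ^ n) ^ 2 - 2 ^ α := by
    have hK : ∀ k : K, ∑ x : P, χ (ρ k (x * x)) = S := by
      intro k
      have : ∑ x : P, χ (ρ k (x * x)) = ∑ x : P, χ ((ρ k x) * (ρ k x)) := by
        apply Finset.sum_congr rfl; intro x _; rw [map_mul]
      rw [this]
      exact Equiv.sum_comp (ρ k).toEquiv (fun x : P => χ (x * x))
    have h1 : ∑ k : K, ∑ x : P, χ (ρ k (x * x)) = (Nat.card K : ℤ) * S := by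
      rw [Finset.sum_congr rfl (fun k _ => hK k), Finset.sum_const, Finset.card_univ,
        Nat.card_eq_fintype_card]
      simp
    have h2 : ∑ k : K, ∑ x : P, χ (ρ k (x * x)) =
        ∑ x : P, (if x * x = 1 then (Nat.card K : ℤ) else -1) := by
      rw [Finset.sum_comm]
      apply Finset.sum_congr rfl
      intro x _
      by_cases hx : x * x = 1
      · rw [if_pos hx, hx]
        simp only [map_one, χone, Finset.sum_const, Finset.card_univ, Nat.card_eq_fintype_card]
        simp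
      · rw [if_neg hx]
        exact horb _ (hsq x) hx
    have h3 : ∑ x : P, (if x * x = 1 then (Nat.card K : ℤ) else -1) =
        (Nat.card K : ℤ) * (Nat.card (Vs P) : ℤ) - ((Nat.card P : ℤ) - (Nat.card (Vs P) : ℤ)) := by
      rw [Finset.sum_ite, Finset.sum_const, Finset.sum_const]
      have hc1 : (Finset.univ.filter (fun x : P => x * x = 1)).card = Nat.card (Vs P) := by
        rw [Nat.card_eq_fintype_card, Fintype.card_subtype]
        congr 1
        ext x
        simp only [Finset.mem_filter, Finset.mem_univ, true_and]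
        exact h.mem_Vs_iff.symm
      have hc2 : (Finset.univ.filter (fun x : P => ¬ x * x = 1)).card =
          Nat.card P - Nat.card (Vs P) := by
        have := Finset.card_filter_add_card_filter_not (s := (Finset.univ : Finset P))
          (fun x : P => x * x = 1)
        rw [hc1, Finset.card_univ, ← Nat.card_eq_fintype_card] at this
        omega
      rw [hc1, hc2]
      have hle : Nat.card (Vs P) ≤ Nat.card P := Subgroup.card_le_card_group _
      simp only [nsmul_eq_mul, smul_eq_mul]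
      rw [Nat.cast_sub hle]
      ring
    have hKc : (Nat.card K : ℤ) = 2 ^ n - 1 := by
      have : (Nat.card K : ℤ) + 1 = 2 ^ n := by exact_mod_cast hq
      linarith
    rw [h1, h3, hn, hα, hKc] at h2
    push_cast at h2
    linarith
  -- second relation
  have hψmul : ∀ u x x' : P, χ ⁅x * x', u⁆ = χ ⁅x, u⁆ * χ ⁅x', u⁆ := by
    intro u x x'
    rw [comm_mul_left_of_central (hcen _ _), χmul _ _ (hcomm _ _) (hcomm _ _)]
  let R : Subgroup P :=
    { carrier := {u | ∀ x : P, χ ⁅x, u⁆ = 1}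
      one_mem' := by
        intro x
        have : ⁅x, (1 : P)⁆ = 1 := by simp [commutatorElement_def]
        rw [this, χone]
      mul_mem' := by
        intro a b ha hb x
        rw [comm_mul_right_of_central (hcen _ _), χmul _ _ (hcomm _ _) (hcomm _ _), ha x, hb x,
          mul_one]
      inv_mem' := by
        intro a ha x
        have h1 : ⁅x, a * a⁻¹⁆ = ⁅x, a⁆ * ⁅x, a⁻¹⁆ := comm_mul_right_of_central (hcen _ _)
        have h2 : ⁅x, a * a⁻¹⁆ = 1 := by simp [commutatorElement_def]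
        have h3 := congrArg χ h1
        rw [h2, χone, χmul _ _ (hcomm _ _) (hcomm _ _), ha x, one_mul] at h3
        exact h3.symm }
  have hinner : ∀ u : P, ∑ x : P, χ ⁅x, u⁆ = if u ∈ R then (Nat.card P : ℤ) else 0 := by
    intro u
    by_cases hu : u ∈ R
    · rw [if_pos hu]
      rw [Finset.sum_congr rfl (fun x _ => hu x), Finset.sum_const, Finset.card_univ,
        Nat.card_eq_fintype_card]
      simp
    · rw [if_neg hu]
      have : ∃ x : P, χ ⁅x, u⁆ ≠ 1 := by
        by_contra hall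
        push Not at hall
        exact hu hall
      obtain ⟨x₀, hx₀⟩ := this
      have hx₀' : χ ⁅x₀, u⁆ = -1 := by
        rcases χpm ⁅x₀, u⁆ with h1 | h1
        · exact absurd h1 hx₀
        · exact h1
      exact sum_eq_zero_of_mul (fun x : P => χ ⁅x, u⁆) (fun a b => hψmul u a b) x₀ hx₀'
  have hS2 : S ^ 2 = (Nat.card P : ℤ) * ∑ u : R, χ ((u : P) * (u : P)) := by
    have h1 : S ^ 2 = ∑ x : P, ∑ u : P, χ (x * x) * χ (x * u * (x * u)) := by
      rw [pow_two]
      show (∑ x : P, χ (x * x)) * (∑ y : P, χ (y * y)) = _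
      rw [Finset.sum_mul]
      apply Finset.sum_congr rfl
      intro x _
      rw [Finset.mul_sum]
      exact (Equiv.sum_comp (Equiv.mulLeft x) (fun y : P => χ (x * x) * χ (y * y))).symm
    have h2 : ∀ x u : P, χ (x * x) * χ (x * u * (x * u)) = χ (u * u) * χ ⁅x, u⁆ := by
      intro x u
      rw [sq_mul_of_central (hsq x).1, χmul _ _ ((Vs P).mul_mem (hcomm _ _) (hsq _)) (hsq _),
        χmul _ _ (hcomm _ _) (hsq _)]
      have := χsq (x * x)
      calc χ (x * x) * (χ ⁅x, u⁆ * χ (x * x) * χ (u * u))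
          = (χ (x * x) * χ (x * x)) * (χ (u * u) * χ ⁅x, u⁆) := by ring
        _ = χ (u * u) * χ ⁅x, u⁆ := by rw [this, one_mul]
    rw [h1, Finset.sum_comm]
    have h3 : ∑ u : P, ∑ x : P, χ (x * x) * χ (x * u * (x * u)) =
        ∑ u : P, (if u ∈ R then (Nat.card P : ℤ) * χ (u * u) else 0) := by
      apply Finset.sum_congr rfl
      intro u _
      rw [Finset.sum_congr rfl (fun x _ => h2 x u), ← Finset.mul_sum, hinner u]
      split_ifs <;> ring
    rw [h3, ← Finset.sum_filter, Finset.mul_sum]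
    rw [← Finset.sum_subtype (Finset.univ.filter (fun u : P => u ∈ R)) (p := fun u => u ∈ R)
      (by intro x; simp) (fun u => (Nat.card P : ℤ) * χ (u * u))]
  have hT : (∑ u : R, χ ((u : P) * (u : P))) = 0 ∨
      (∑ u : R, χ ((u : P) * (u : P))) = (Nat.card R : ℤ) := by
    have hmulR : ∀ a b : R, χ (((a * b : R) : P) * ((a * b : R) : P)) =
        χ ((a : P) * a) * χ ((b : P) * b) := by
      intro a b
      show χ ((a : P) * b * ((a : P) * b)) = _
      rw [sq_mul_of_central (hsq _).1, χmul _ _ ((Vs P).mul_mem (hcomm _ _) (hsq _)) (hsq _),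
        χmul _ _ (hcomm _ _) (hsq _), b.2 (a : P), one_mul]
    by_cases hall : ∀ u : R, χ ((u : P) * (u : P)) = 1
    · right
      rw [Finset.sum_congr rfl (fun u _ => hall u), Finset.sum_const, Finset.card_univ,
        Nat.card_eq_fintype_card]
      simp
    · left
      push Not at hall
      obtain ⟨u₀, hu₀⟩ := hall
      have hu₀' : χ ((u₀ : P) * (u₀ : P)) = -1 := by
        rcases χpm ((u₀ : P) * (u₀ : P)) with h1 | h1
        · exact absurd h1 hu₀
        · exact h1
      exact sum_eq_zero_of_mul (fun u : R => χ ((u : P) * (u : P))) hmulR u₀ hu₀'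
  -- the new ending
  have hcube' : (2 : ℤ) ^ α = ((2 : ℤ) ^ n) ^ 3 := by
    have : 2 ^ α = (2 ^ n) ^ 3 := by rw [← hα, hcube, hq]
    exact_mod_cast this
  have hn1 : (2 : ℤ) ^ n - 1 ≠ 0 := by
    have : (2 : ℤ) ^ 2 ≤ 2 ^ n := pow_le_pow_right₀ (by norm_num) hn2
    intro h0
    linarith
  have hS : S = -((2 : ℤ) ^ n) ^ 2 := by
    have h1 : ((2 : ℤ) ^ n - 1) * (S + ((2 : ℤ) ^ n) ^ 2) = 0 := by
      rw [hcube'] at hrel1
      linear_combination hrel1
    rcases mul_eq_zero.mp h1 with h0 | h0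
    · exact absurd h0 hn1
    · linarith
  have hpos : (0 : ℤ) < (2 : ℤ) ^ n := by positivity
  have hsumR : (∑ u : R, χ ((u : P) * (u : P))) = (2 : ℤ) ^ n := by
    have h1 : ((2 : ℤ) ^ n) ^ 3 * ((∑ u : R, χ ((u : P) * (u : P))) - (2 : ℤ) ^ n) = 0 := by
      have h2 := hS2
      rw [hS, hα] at h2
      push_cast at h2
      rw [hcube'] at h2
      linear_combination -h2
    rcases mul_eq_zero.mp h1 with h0 | h0
    · exact absurd h0 (by positivity)
    · linarith
  have hRcard : Nat.card R = 2 ^ n := by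
    rcases hT with h0 | h0
    · rw [h0] at hsumR
      exact absurd hsumR.symm (by positivity)
    · rw [h0] at hsumR
      exact_mod_cast hsumR
  have hVR : Vs P ≤ R := by
    intro v hv x
    have : ⁅x, v⁆ = 1 := by
      rw [commutatorElement_def]
      have := Subgroup.mem_center_iff.mp hv.1 x
      calc x * v * x⁻¹ * v⁻¹ = (x * v) * x⁻¹ * v⁻¹ := by group
        _ = (v * x) * x⁻¹ * v⁻¹ := by rw [this]
        _ = 1 := by group
    rw [this, χone]
  have hReq : Vs P = R := by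
    apply Subgroup.eq_of_le_of_card_ge hVR
    rw [hRcard, hn]
  rw [hReq]
  intro x
  rw [χV _ (hcomm x u₁), if_pos (hu₁ x (hcomm x u₁))]


/-- a proper subgroup of a finite 2-group with commutative multiplication lies in a subgroup of
index two -/
theorem exists_index_two {V : Type*} [CommGroup V] [Finite V] (hV : IsPGroup 2 V) (B : Subgroup V)
    (hB : B ≠ ⊤) : ∃ H' : Subgroup V, H'.index = 2 ∧ B ≤ H' := by
  classical
  haveI : Fact (Nat.Prime 2) := ⟨Nat.prime_two⟩
  have hQ : IsPGroup 2 (V ⧸ B) := hV.to_quotient B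
  obtain ⟨m, hm⟩ := hQ.exists_card_eq
  have hm0 : m ≠ 0 := by
    rintro rfl
    rw [pow_zero] at hm
    apply hB
    have h1 : B.index = 1 := by rw [Subgroup.index_eq_card]; exact hm
    exact Subgroup.index_eq_one.mp h1
  have hdvd : 2 ^ (m - 1) ∣ Nat.card (V ⧸ B) := by
    rw [hm]; exact pow_dvd_pow 2 (Nat.sub_le m 1)
  obtain ⟨Q, hQc⟩ := Sylow.exists_subgroup_card_pow_prime 2 hdvd
  have hQidx : Q.index = 2 := by
    have h1 := Q.card_mul_index
    rw [hQc, hm] at h1
    have h2 : 2 ^ m = 2 ^ (m - 1) * 2 := by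
      rw [← pow_succ]; congr 1; omega
    rw [h2] at h1
    exact Nat.eq_of_mul_eq_mul_left (Nat.two_pow_pos (m - 1)) h1
  refine ⟨Q.comap (QuotientGroup.mk' B), ?_, ?_⟩
  · rw [Subgroup.index_comap_of_surjective _ (QuotientGroup.mk'_surjective B)]
    exact hQidx
  · intro x hx
    rw [Subgroup.mem_comap]
    have : (QuotientGroup.mk' B) x = 1 := (QuotientGroup.eq_one_iff x).mpr hx
    rw [this]
    exact Q.one_mem

/-- **nondegeneracy**: in a Suzuki 2-group of order `q³` whose squares are central involutions,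
every noncentral element `x` has `[P, x] = Vs P`. -/
theorem nondeg (h : Suz ρ) (hsq : ∀ x : P, x * x ∈ Vs P)
    (hcube : Nat.card P = (Nat.card K + 1) ^ 3) {x : P} (hx : x ∉ Vs P) {v : P} (hv : v ∈ Vs P) :
    ∃ y : P, y * x * y⁻¹ = v * x := by
  classical
  haveI := h.fin
  have hcomm : ∀ x y : P, ⁅x, y⁆ ∈ Vs P := comm_mem_Vs_of_sq hsq
  letI : CommGroup (Vs P) :=
    { (inferInstance : Group (Vs P)) with
      mul_comm := fun a b => by
        apply Subtype.ext
        exact Subgroup.mem_center_iff.mp b.2.1 a }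
  let θ : P →* Vs P :=
    { toFun := fun y => ⟨⁅y, x⁆, hcomm y x⟩
      map_one' := by
        apply Subtype.ext
        simp [commutatorElement_def]
      map_mul' := fun y y' => by
        apply Subtype.ext
        exact comm_mul_left_of_central (hcomm y' x).1 }
  have htop : θ.range = ⊤ := by
    by_contra hne
    have hV : IsPGroup 2 (Vs P) := h.pgroup.to_subgroup (Vs P)
    obtain ⟨H', hidx, hle⟩ := exists_index_two hV θ.range hne
    apply hx
    apply nondeg_aux h hsq hcube H' hidx x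
    intro y hy
    apply hle
    exact ⟨y, rfl⟩
  have : (⟨v, hv⟩ : Vs P) ∈ θ.range := by rw [htop]; exact Subgroup.mem_top _
  obtain ⟨y, hy⟩ := this
  refine ⟨y, ?_⟩
  have h1 : ⁅y, x⁆ = v := congrArg Subtype.val hy
  rw [← h1, commutatorElement_def]
  group

end Cfsg.Agent.Lib.helper6.SuzGrp
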