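import Mathlib
import Cfsg.Agent.Lib.helper6.SuzMainA
import Cfsg.Agent.Lib.helper6.SuzNondeg

/-!
# Group-level facts about the kernel of a simple Zassenhaus group (nonabelian 2-group case)
-/

set_option autoImplicit false

namespace Cfsg.Agent.Lib.helper6.SuzGrp

open MulAction Cfsg.Agent.Lib.helper6.ZassPSL3 Cfsg.Agent.Lib.helper6.ZassFeit
  Cfsg.Agent.Lib.helper6.ZassInvol Cfsg.Agent.Lib.Helper27.Sz
  Cfsg.Agent.Lib.helper6.ZassFeitNA
open scoped commutatorElement

variable {G Ω : Type*} [Group G] [MulAction G Ω] [Finite G] [Fintype Ω]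
  {a b : Ω} {H : Subgroup G}

section Facts

variable (hZ : Cfsg.IsZassenhausGroup G Ω) [IsSimpleGroup G] (Z : ZK G Ω a b H)
  (hodd : Odd (Nat.card ↥(stabilizer G a ⊓ stabilizer G b)))
  (h2 : IsPGroup 2 H)

include hZ Z hodd in
theorem E_sq_one {k : G} (hka : k • a = a) (hkb : k • b = b) (hkk : k * k = 1) : k = 1 :=
  eq_one_of_sq hZ Z.hi0 hodd Z.hi0
    (Subgroup.mem_inf.mpr ⟨mem_stabilizer_iff.mpr hka, mem_stabilizer_iff.mpr hkb⟩) hkk

include hZ Z hodd h2 in
/-- involutions of the point stabiliser lie in the kernel -/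
theorem sq_one_mem_H {g : G} (hga : g • a = a) (hgg : g * g = 1) : g ∈ H := by
  by_cases hg1 : g = 1
  · rw [hg1]; exact H.one_mem
  obtain ⟨z, hz, hz1, hzz, -⟩ := exists_central_invol hZ Z hodd h2
  have hoz : orderOf z = 2 := orderOf_eq_prime (by rw [pow_two]; exact hzz) hz1
  have hog : orderOf g = 2 := orderOf_eq_prime (by rw [pow_two]; exact hgg) hg1
  obtain ⟨x, hx⟩ := isConj_iff.mp (invol_conj hZ Z.hi0 hodd hoz hog)
  have hxa : x⁻¹ • a = a := by
    by_contra hne
    apply Z.kfpf z hz hz1 (x⁻¹ • a) hne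
    have : z = x⁻¹ * g * x := by rw [← hx]; group
    rw [this, mul_smul, mul_smul, smul_inv_smul, hga]
  have hxa' : x • a = a := by
    have := congrArg (fun p => x • p) hxa
    simp only [smul_inv_smul] at this
    exact this.symm
  rw [← hx]
  exact Z.knorm x hxa' z hz

include hZ Z hodd in
/-- an element of the point stabiliser whose square lies in the kernel lies in the kernel -/
theorem sq_mem_H {g : G} (hga : g • a = a) (hgg : g * g ∈ H) : g ∈ H := by
  obtain ⟨u, hu, k, hka, hkb, rfl⟩ := N_decomp Z hga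
  have h1 : k * k ∈ H := by
    have h3 : k * k = (k * u * k⁻¹)⁻¹ * u⁻¹ * (u * k * (u * k)) := by group
    rw [h3]
    exact H.mul_mem (H.mul_mem (H.inv_mem (Z.knorm k hka u hu)) (H.inv_mem hu)) hgg
  have h4 : k * k = 1 := by
    by_contra hne
    apply Z.kfpf _ h1 hne b (Ne.symm Z.hi0)
    rw [mul_smul, hkb, hkb]
  have hk1 := E_sq_one hZ Z hodd hka hkb h4
  rw [hk1, mul_one]
  exact hu

include hZ Z hodd in
/-- elements outside the point stabiliser whose square is inside are involutions -/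
theorem out_sq {g : G} (hga : g • a ≠ a) (hgg : (g * g) • a = a) : g * g = 1 := by
  apply swap_sq hZ Z.hi0 hodd (Ne.symm hga) rfl
  rw [← mul_smul, hgg]

end Facts

end Cfsg.Agent.Lib.helper6.SuzGrp
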