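import Mathlib
import Cfsg.Agent.Lib.Helper27.SzBound

/-!
# Suzuki 2-groups: the number of square roots of an involution
-/

set_option autoImplicit false

namespace Cfsg.Agent.Lib.helper6.SuzGrp

open Cfsg.Agent.Lib.Helper27.Sz

variable {K : Type*} {P : Type*} [Group K] [Group P] {ρ : K →* MulAut P}

theorem card_sqrt (h : Suz ρ) (hsq : ∀ x : P, x * x ∈ Vs P) {z : P} (hz1 : z ≠ 1)
    (hzz : z * z = 1) :
    Nat.card {u : P // u * u = z} * Nat.card K + (Nat.card K + 1) = Nat.card P := by
  classical
  haveI := h.fin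
  haveI := h.finite_K
  haveI : Fintype P := Fintype.ofFinite P
  haveI : Fintype K := Fintype.ofFinite K
  have hmaps : ((Finset.univ : Finset P) : Set P).MapsTo (fun u => (⟨u * u, hsq u⟩ : Vs P))
      ((Finset.univ : Finset (Vs P)) : Set (Vs P)) := fun _ _ => Finset.mem_coe.mpr (Finset.mem_univ _)
  have h1 := Finset.card_eq_sum_card_fiberwise hmaps
  rw [Finset.card_univ, ← Nat.card_eq_fintype_card] at h1
  rw [h1, ← Equiv.sum_comp (h.optEquiv z hz1 hzz), Fintype.sum_option]
  have hr : ∀ v : Vs P, (Finset.univ.filter (fun u : P => (⟨u * u, hsq u⟩ : Vs P) = v)).card =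
      Nat.card {u : P // u * u = (v : P)} := by
    intro v
    rw [Nat.card_eq_fintype_card, Fintype.card_subtype]
    congr 1
    ext u
    simp only [Finset.mem_filter, Finset.mem_univ, true_and]
    exact Subtype.ext_iff
  have h2 : ((h.optEquiv z hz1 hzz none : Vs P) : P) = 1 := rfl
  have h3 : ∀ k : K, ((h.optEquiv z hz1 hzz (some k) : Vs P) : P) = ρ k z := fun k => rfl
  rw [hr, h2]
  have h4 : Nat.card {u : P // u * u = 1} = Nat.card K + 1 := by
    rw [← h.card_Vs]
    apply Nat.card_congr
    exact Equiv.subtypeEquivRight (fun u => h.mem_Vs_iff.symm)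
  have h5 : ∀ k : K, (Finset.univ.filter (fun u : P =>
      (⟨u * u, hsq u⟩ : Vs P) = h.optEquiv z hz1 hzz (some k))).card =
      Nat.card {u : P // u * u = z} := by
    intro k
    rw [hr, h3]
    apply Nat.card_congr
    refine
      { toFun := fun u => ⟨ρ k⁻¹ u.1, by rw [← map_mul, u.2, Suz.inv_apply]⟩
        invFun := fun u => ⟨ρ k u.1, by rw [← map_mul, u.2]⟩
        left_inv := fun u => by apply Subtype.ext; exact Suz.apply_inv k u.1
        right_inv := fun u => by apply Subtype.ext; exact Suz.inv_apply k u.1 }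
  rw [Finset.sum_congr rfl (fun k _ => h5 k), Finset.sum_const, Finset.card_univ, smul_eq_mul,
    h4, ← Nat.card_eq_fintype_card]
  ring

end Cfsg.Agent.Lib.helper6.SuzGrp
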