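import Mathlib
import Cfsg.Agent.Lib.helper6.SuzMainB
import Cfsg.Agent.Lib.helper6.SuzSqrt
import Cfsg.Agent.Lib.Helper24.FSCount

/-!
# Counting involutions outside the point stabiliser; translation of the Suzuki 2-group facts
-/

set_option autoImplicit false

namespace Cfsg.Agent.Lib.helper6.SuzGrp

open MulAction Cfsg.Agent.Lib.helper6.ZassPSL3 Cfsg.Agent.Lib.helper6.ZassFeit
  Cfsg.Agent.Lib.helper6.ZassInvol Cfsg.Agent.Lib.Helper27.Sz
  Cfsg.Agent.Lib.helper6.ZassFeitNA
open scoped commutatorElement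

variable {G Ω : Type*} [Group G] [MulAction G Ω] [Finite G] [Fintype Ω]
  {a b : Ω} {H : Subgroup G}

section Count

variable (hZ : Cfsg.IsZassenhausGroup G Ω) [IsSimpleGroup G] (Z : ZK G Ω a b H)
  (hodd : Odd (Nat.card ↥(stabilizer G a ⊓ stabilizer G b)))
  (h2 : IsPGroup 2 H)

include hZ Z hodd h2 in
theorem invol_outside (hH : Nat.card H + 1 = Fintype.card Ω) (hHeven : Even (Nat.card H))
    (e : ℕ) (he : Nat.card ↥(stabilizer G a ⊓ stabilizer G b) = e)
    (hcnt1 : Nat.card {g : G // g ∈ H ∧ g * g = 1} = e + 1) :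
    Nat.card {g : G // g • a ≠ a ∧ g * g = 1} = Nat.card H * e := by
  classical
  haveI : Fintype G := Fintype.ofFinite G
  set h := Nat.card H with hh
  have hpos : 0 < h := Nat.card_pos
  have hoddn : Odd (Fintype.card Ω) := by
    rw [← hH]; exact hHeven.add_one
  have h1 := card_invol_mul hZ Z.hi0 hodd
  rw [if_pos hoddn, ← hH, he, Nat.add_sub_cancel] at h1
  have hI : Nat.card {t : G // orderOf t = 2} = (h + 1) * e := by
    have : Nat.card {t : G // orderOf t = 2} * h = ((h + 1) * e) * h := by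
      rw [h1]; ring
    exact Nat.eq_of_mul_eq_mul_right hpos this
  have h3 := Cfsg.Agent.Lib.Helper24.fs_card_sq_eq_one (G := G)
  rw [hI] at h3
  have h4 : Nat.card {g : G // g * g = 1} =
      Nat.card {g : G // g • a = a ∧ g * g = 1} + Nat.card {g : G // g • a ≠ a ∧ g * g = 1} := by
    rw [Nat.card_eq_fintype_card, Nat.card_eq_fintype_card, Nat.card_eq_fintype_card,
      Fintype.card_subtype, Fintype.card_subtype, Fintype.card_subtype,
      ← Finset.card_filter_add_card_filter_not (s := Finset.univ.filter (fun g : G => g * g = 1))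
        (fun g => g • a = a), Finset.filter_filter, Finset.filter_filter]
    congr 2
    · ext g; simp only [Finset.mem_filter, Finset.mem_univ, true_and]; tauto
    · ext g; simp only [Finset.mem_filter, Finset.mem_univ, true_and]; tauto
  have h5 : Nat.card {g : G // g • a = a ∧ g * g = 1} = e + 1 := by
    rw [← hcnt1]
    apply Nat.card_congr
    apply Equiv.subtypeEquivRight
    intro g
    constructor
    · rintro ⟨h6, h7⟩
      exact ⟨sq_one_mem_H hZ Z hodd h2 h6 h7, h7⟩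
    · rintro ⟨h6, h7⟩
      exact ⟨Z.kfix g h6, h7⟩
  rw [h4, h5] at h3
  have : Nat.card {g : G // g • a ≠ a ∧ g * g = 1} + (e + 1) = h * e + (e + 1) := by
    rw [add_comm, h3]; ring
  omega

end Count

section SuzFacts

variable (Z : ZK G Ω a b H)
  (S : Suz (conjAct H (stabilizer G a ⊓ stabilizer G b : Subgroup G) (E_norm Z)))
  (hna : ∃ x y : H, x * y ≠ y * x)
include S hna

theorem suz_exp4 : ∀ x ∈ H, (x * x) * (x * x) = 1 := by
  intro x hx
  have := (S.sq_mem hna ⟨x, hx⟩).2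
  exact congrArg Subtype.val this

theorem suz_sq_central : ∀ x ∈ H, ∀ y ∈ H, (x * x) * y = y * (x * x) := by
  intro x hx y hy
  have := (S.sq_mem hna ⟨x, hx⟩).1
  have h1 := Subgroup.mem_center_iff.mp this ⟨y, hy⟩
  exact (congrArg Subtype.val h1).symm

theorem suz_comm_sq : ∀ x ∈ H, ∀ y ∈ H,
    (x * y * x⁻¹ * y⁻¹) * (x * y * x⁻¹ * y⁻¹) = 1 := by
  intro x hx y hy
  have := (S.comm_mem hna ⟨x, hx⟩ ⟨y, hy⟩).2
  have h1 := congrArg Subtype.val this
  simpa [commutatorElement_def] using h1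

omit hna in
theorem suz_card_invol (e : ℕ) (he : Nat.card ↥(stabilizer G a ⊓ stabilizer G b) = e) :
    Nat.card {g : G // g ∈ H ∧ g * g = 1} = e + 1 := by
  rw [← he, ← S.card_Vs]
  apply Nat.card_congr
  refine
    { toFun := fun g => ⟨⟨g.1, g.2.1⟩, S.mem_Vs_iff.mpr (Subtype.ext g.2.2)⟩
      invFun := fun v => ⟨(v.1 : G), v.1.2, congrArg Subtype.val (S.mem_Vs_iff.mp v.2)⟩
      left_inv := fun g => rfl
      right_inv := fun v => rfl }

theorem suz_card_sqrt (e : ℕ) (he : Nat.card ↥(stabilizer G a ⊓ stabilizer G b) = e)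
    {z : G} (hz : z ∈ H) (hz1 : z ≠ 1) (hzz : z * z = 1) :
    Nat.card {u : G // u ∈ H ∧ u * u = z} * e + (e + 1) = Nat.card H := by
  have h1 := card_sqrt S (S.sq_mem hna) (z := ⟨z, hz⟩) (fun h => hz1 (congrArg Subtype.val h))
    (Subtype.ext hzz)
  rw [he] at h1
  rw [← h1]
  congr 2
  apply Nat.card_congr
  refine
    { toFun := fun g => ⟨⟨g.1, g.2.1⟩, Subtype.ext g.2.2⟩
      invFun := fun v => ⟨(v.1 : G), v.1.2, congrArg Subtype.val v.2⟩
      left_inv := fun g => rfl
      right_inv := fun v => rfl }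

theorem suz_nondeg (hcube : Nat.card H = (Nat.card ↥(stabilizer G a ⊓ stabilizer G b) + 1) ^ 3)
    {x : G} (hx : x ∈ H) (hxx : x * x ≠ 1) {v : G} (hv : v ∈ H) (hvv : v * v = 1) :
    ∃ y ∈ H, y * x * y⁻¹ = v * x := by
  have hxV : (⟨x, hx⟩ : H) ∉ Vs H := by
    intro h
    apply hxx
    exact congrArg Subtype.val (S.mem_Vs_iff.mp h)
  have hvV : (⟨v, hv⟩ : H) ∈ Vs H := S.mem_Vs_iff.mpr (Subtype.ext hvv)
  obtain ⟨y, hy⟩ := nondeg S (S.sq_mem hna) hcube hxV hvV
  refine ⟨y, y.2, ?_⟩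
  have := congrArg Subtype.val hy
  simpa using this

end SuzFacts

end Cfsg.Agent.Lib.helper6.SuzGrp
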