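import Mathlib
import Cfsg.Agent.Lib.helper6.SuzMainC
import Cfsg.Agent.Lib.helper6.SuzChar5
import Cfsg.Agent.Lib.helper6.ZassClassA

/-!
# The kernel cannot have order `q³`
-/

set_option autoImplicit false
set_option maxHeartbeats 1000000

namespace Cfsg.Agent.Lib.helper6.SuzGrp

open MulAction Cfsg.Agent.Lib.helper6.ZassPSL3 Cfsg.Agent.Lib.helper6.ZassFeit
  Cfsg.Agent.Lib.helper6.ZassInvol Cfsg.Agent.Lib.Helper27.Sz
  Cfsg.Agent.Lib.helper6.ZassFeitNA Cfsg.Agent.Lib.helper6.SuzChar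

variable {G Ω : Type*} [Group G] [MulAction G Ω] [Finite G] [Fintype Ω]
  {a b : Ω} {H : Subgroup G}

/-- the involutions of the kernel, with the identity, as a subgroup of `G` -/
def VG (H : Subgroup G) : Subgroup G := (Vs H).map H.subtype

theorem mem_VG (Z : ZK G Ω a b H)
    (S : Suz (conjAct H (stabilizer G a ⊓ stabilizer G b : Subgroup G) (E_norm Z))) {g : G} :
    g ∈ VG H ↔ g ∈ H ∧ g * g = 1 := by
  unfold VG
  rw [Subgroup.mem_map]
  constructor
  · rintro ⟨v, hv, rfl⟩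
    exact ⟨v.2, congrArg Subtype.val (S.mem_Vs_iff.mp hv)⟩
  · rintro ⟨h1, h2⟩
    exact ⟨⟨g, h1⟩, S.mem_Vs_iff.mpr (Subtype.ext h2), rfl⟩

theorem VG_central {g : G} (hg : g ∈ VG H) : ∀ u ∈ H, g * u = u * g := by
  unfold VG at hg
  rw [Subgroup.mem_map] at hg
  obtain ⟨v, hv, rfl⟩ := hg
  intro u hu
  have := Subgroup.mem_center_iff.mp hv.1 ⟨u, hu⟩
  exact (congrArg Subtype.val this).symm

theorem cube_false (hZ : Cfsg.IsZassenhausGroup G Ω) [IsSimpleGroup G] (Z : ZK G Ω a b H)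
    (hodd : Odd (Nat.card ↥(stabilizer G a ⊓ stabilizer G b)))
    (h2 : IsPGroup 2 H)
    (hEcomm : ∀ k k' : ↥(stabilizer G a ⊓ stabilizer G b : Subgroup G), k * k' = k' * k)
    (S : Suz (conjAct H (stabilizer G a ⊓ stabilizer G b : Subgroup G) (E_norm Z)))
    (hna : ∃ x y : H, x * y ≠ y * x)
    (hH : Nat.card H + 1 = Fintype.card Ω)
    (hcube : Nat.card H = (Nat.card ↥(stabilizer G a ⊓ stabilizer G b) + 1) ^ 3) : False := by
  classical
  haveI : Fintype G := Fintype.ofFinite G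
  have hab : a ≠ b := Z.hi0
  set e := Nat.card ↥(stabilizer G a ⊓ stabilizer G b) with he
  set q := e + 1 with hq
  set N : Subgroup G := stabilizer G a with hN
  haveI : Fintype N := Fintype.ofFinite N
  have hmemN : ∀ g : G, g ∈ N ↔ g • a = a := fun g => mem_stabilizer_iff
  have hHN : H ≤ N := KG_le Z
  set F : Subgroup N := H.subgroupOf N with hF
  haveI : Fintype F := Fintype.ofFinite F
  set A : Subgroup N := (VG H).subgroupOf N with hA
  haveI : Fintype A := Fintype.ofFinite A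
  have hmemA : ∀ n : N, n ∈ A ↔ (n : G) ∈ H ∧ (n : G) * n = 1 := by
    intro n
    rw [hA, Subgroup.mem_subgroupOf, mem_VG Z S]
  have hmemF : ∀ n : N, n ∈ F ↔ (n : G) ∈ H := fun n => Subgroup.mem_subgroupOf
  haveI hFn : F.Normal := by
    constructor
    intro n hn g
    rw [hmemF] at hn ⊢
    have hg : (g : G) • a = a := (hmemN _).mp g.2
    have := Z.knorm (g : G) hg (n : G) hn
    simpa using this
  have hEcomm' : ∀ k k' : G, k • a = a → k • b = b → k' • a = a → k' • b = b →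
      k * k' = k' * k := by
    intro k k' h1 h2 h3 h4
    have hk : k ∈ (stabilizer G a ⊓ stabilizer G b : Subgroup G) :=
      Subgroup.mem_inf.mpr ⟨mem_stabilizer_iff.mpr h1, mem_stabilizer_iff.mpr h2⟩
    have hk' : k' ∈ (stabilizer G a ⊓ stabilizer G b : Subgroup G) :=
      Subgroup.mem_inf.mpr ⟨mem_stabilizer_iff.mpr h3, mem_stabilizer_iff.mpr h4⟩
    exact congrArg Subtype.val (hEcomm ⟨k, hk⟩ ⟨k', hk'⟩)
  have hab' : ∀ x y : N, x * y * x⁻¹ * y⁻¹ ∈ F := by
    intro x y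
    rw [hmemF]
    have := comm_mem Z hEcomm' ((hmemN _).mp x.2) ((hmemN _).mp y.2)
    simpa using this
  have hC : ∀ n ∈ F, n ≠ 1 → Subgroup.centralizer ({n} : Set N) ≤ F := by
    intro n hn hn1 g hg
    rw [hmemF] at hn ⊢
    have hn1' : (n : G) ≠ 1 := fun h => hn1 (Subtype.ext h)
    have hc : (g : G) * (n : G) = (n : G) * (g : G) := by
      have := Subgroup.mem_centralizer_iff.mp hg n (Set.mem_singleton n)
      have h2 := congrArg Subtype.val this
      simpa using h2.symm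
    exact kernel_cent' Z hn hn1' ((hmemN _).mp g.2) hc
  have hTI' : ∀ u : N, u ∈ F → u ≠ 1 → ∀ x : G, x⁻¹ * (u : G) * x ∈ N → x ∈ N := by
    intro u hu hu1 x hx
    rw [hmemF] at hu
    have hu1' : (u : G) ≠ 1 := fun h => hu1 (Subtype.ext h)
    exact (hmemN _).mpr (kernel_TI Z hu hu1' ((hmemN _).mp hx))
  haveI : IsPretransitive G Ω :=
    @isPretransitive_of_is_two_pretransitive G Ω _ _ hZ.2.1
  set h := Nat.card H with hh
  have hNidx : N.index = q ^ 3 + 1 := by
    rw [hN, index_stabilizer_of_transitive, Nat.card_eq_fintype_card, ← hH, hcube]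
  have hFcard : Nat.card F = q ^ 3 := by
    rw [← hcube]
    exact Nat.card_congr (Subgroup.subgroupOfEquivOfLe hHN).toEquiv
  have hNcard : Nat.card N = h * e := by
    have h2' := Subgroup.index_mul_card N
    have h3 := Cfsg.Agent.Lib.helper6.ZassClass.card_G hZ.2.1 hab
    rw [hNidx, h3, ← hH, ← hcube] at h2'
    have : (h + 1) * Nat.card N = (h + 1) * (h * e) := by
      rw [h2', Nat.add_sub_cancel]
    exact Nat.eq_of_mul_eq_mul_left (by omega) this
  have hFidx : F.index = e := by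
    have h1 := Subgroup.index_mul_card F
    rw [hFcard, hNcard, hcube, mul_comm (q ^ 3) e] at h1
    have h1pos : 0 < q ^ 3 := by positivity
    exact Nat.eq_of_mul_eq_mul_right h1pos h1
  -- A
  have hAF : A ≤ F := by
    intro n hn
    rw [hmemF]; exact ((hmemA n).mp hn).1
  have hAc : ∀ x ∈ A, ∀ y ∈ F, x * y = y * x := by
    intro x hx y hy
    apply Subtype.ext
    have hx' : (x : G) ∈ VG H := by
      rw [hA, Subgroup.mem_subgroupOf] at hx; exact hx
    exact VG_central hx' (y : G) ((hmemF y).mp hy)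
  have hA2 : ∀ x ∈ A, x * x = 1 := by
    intro x hx
    apply Subtype.ext
    exact ((hmemA x).mp hx).2
  have hAn : ∀ n : N, ∀ x ∈ A, n * x * n⁻¹ ∈ A := by
    intro n x hx
    obtain ⟨h1, h2'⟩ := (hmemA x).mp hx
    rw [hmemA]
    refine ⟨?_, ?_⟩
    · have := Z.knorm (n : G) ((hmemN _).mp n.2) (x : G) h1
      simpa using this
    · show ((n : G) * x * (n : G)⁻¹) * ((n : G) * x * (n : G)⁻¹) = 1
      calc ((n : G) * x * (n : G)⁻¹) * ((n : G) * x * (n : G)⁻¹)
          = (n : G) * ((x : G) * x) * (n : G)⁻¹ := by group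
        _ = 1 := by rw [h2']; group
  have htr : ∀ x ∈ A, x ≠ 1 → ∀ y ∈ A, y ≠ 1 → ∃ n : N, n * x * n⁻¹ = y := by
    intro x hx hx1 y hy hy1
    obtain ⟨h1, h2'⟩ := (hmemA x).mp hx
    obtain ⟨h3, h4⟩ := (hmemA y).mp hy
    obtain ⟨k, hk, hkx⟩ := invol_trans hZ Z hodd h2 h1 (fun h => hx1 (Subtype.ext h)) h2' h3
      (fun h => hy1 (Subtype.ext h)) h4
    have hkN : k ∈ N := (Subgroup.mem_inf.mp hk).1
    refine ⟨⟨k, hkN⟩, ?_⟩
    apply Subtype.ext
    simpa using hkx
  have hcnt1 := suz_card_invol Z S e rfl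
  have hAcard : Nat.card A = q := by
    rw [hq, ← hcnt1]
    apply Nat.card_congr
    refine
      { toFun := fun n => ⟨(n.1 : G), (hmemA n.1).mp n.2⟩
        invFun := fun g => ⟨⟨g.1, hHN g.2.1⟩, (hmemA _).mpr g.2⟩
        left_inv := fun n => rfl
        right_inv := fun g => rfl }
  have hcommA : ∀ x ∈ F, ∀ y ∈ F, x * y * x⁻¹ * y⁻¹ ∈ A := by
    intro x hx y hy
    rw [hmemF] at hx hy
    rw [hmemA]
    refine ⟨?_, ?_⟩
    · have : (x : G) * y * (x : G)⁻¹ * (y : G)⁻¹ ∈ H :=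
        H.mul_mem (H.mul_mem (H.mul_mem hx hy) (H.inv_mem hx)) (H.inv_mem hy)
      simpa using this
    · have := suz_comm_sq Z S hna (x : G) hx (y : G) hy
      simpa using this
  have hnd : ∀ x ∈ F, x ∉ A → ∀ v ∈ A, ∃ y ∈ F, y * x * y⁻¹ = v * x := by
    intro x hx hxA v hv
    rw [hmemF] at hx
    obtain ⟨h3, h4⟩ := (hmemA v).mp hv
    have hxx : (x : G) * x ≠ 1 := fun h => hxA ((hmemA x).mpr ⟨hx, h⟩)
    obtain ⟨y, hy, hyx⟩ := suz_nondeg Z S hna hcube hx hxx h3 h4
    refine ⟨⟨y, hHN hy⟩, (hmemF _).mpr hy, ?_⟩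
    apply Subtype.ext
    simpa using hyx
  obtain ⟨n, hn2, hn⟩ := S.exists_card_Vs
  have hqn : q = 2 ^ n := by rw [hq, he, ← S.card_Vs, hn]
  have hq4 : 4 ≤ q := by
    rw [hqn]
    calc 4 = 2 ^ 2 := by norm_num
      _ ≤ 2 ^ n := Nat.pow_le_pow_right (by norm_num) hn2
  have hsq1 : Nat.card {n : N // n * n = 1} = q := by
    rw [hq, ← hcnt1]
    apply Nat.card_congr
    refine
      { toFun := fun n => ⟨(n.1 : G), ?_, ?_⟩
        invFun := fun g => ⟨⟨g.1, hHN g.2.1⟩, Subtype.ext g.2.2⟩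
        left_inv := fun n => rfl
        right_inv := fun g => rfl }
    · have h1 : (n.1 : G) * n.1 = 1 := by
        have := congrArg Subtype.val n.2
        simpa using this
      exact sq_one_mem_H hZ Z hodd h2 ((hmemN _).mp n.1.2) h1
    · have := congrArg Subtype.val n.2
      simpa using this
  have he0 : 0 < e := Nat.card_pos
  have hsqz : ∀ z ∈ A, z ≠ 1 → Nat.card {n : N // n * n = z} = q ^ 2 + q := by
    intro z hz hz1
    obtain ⟨h3, h4⟩ := (hmemA z).mp hz
    have h5 := suz_card_sqrt Z S hna e rfl h3 (fun h => hz1 (Subtype.ext h)) h4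
    have h6 : Nat.card {n : N // n * n = z} = Nat.card {u : G // u ∈ H ∧ u * u = (z : G)} := by
      apply Nat.card_congr
      refine
        { toFun := fun n => ⟨(n.1 : G), ?_, ?_⟩
          invFun := fun g => ⟨⟨g.1, hHN g.2.1⟩, Subtype.ext g.2.2⟩
          left_inv := fun n => rfl
          right_inv := fun g => rfl }
      · have h1 : (n.1 : G) * n.1 = z := by
          have := congrArg Subtype.val n.2
          simpa using this
        exact sq_mem_H hZ Z hodd ((hmemN _).mp n.1.2) (by rw [h1]; exact h3)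
      · have := congrArg Subtype.val n.2
        simpa using this
    rw [h6]
    rw [← hh, hcube] at h5
    have h7 : Nat.card {u : G // u ∈ H ∧ u * u = (z : G)} * e = (q ^ 2 + q) * e := by
      have : (q ^ 2 + q) * e + (e + 1) = q ^ 3 := by
        rw [hq]; ring
      rw [← hq] at h5
      omega
    exact Nat.eq_of_mul_eq_mul_right he0 h7
  have hout : ∀ g : G, g ∉ N → g * g ∈ N → g * g = 1 := by
    intro g hg hgg
    exact out_sq hZ Z hodd (fun h => hg ((hmemN g).mpr h)) ((hmemN _).mp hgg)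
  have hHeven : Even (Nat.card H) := by
    rw [← hh, hcube, hqn]
    have hn0 : n ≠ 0 := by omega
    exact (Nat.even_pow' (by positivity)).mpr ((Nat.even_pow' hn0).mpr even_two)
  have hcnt : Nat.card {g : G // g ∉ N ∧ g * g = 1} = Nat.card N := by
    rw [hNcard, ← invol_outside hZ Z hodd h2 hH hHeven e rfl hcnt1]
    apply Nat.card_congr
    apply Equiv.subtypeEquivRight
    intro g
    rw [hmemN]
  exact no_cube N F A hab' hC hTI' hAF hAc hA2 hAn htr q e hAcard hFcard hFidx rfl hNidx hcommA hnd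
    hq4 hsq1 hsqz hout hcnt

end Cfsg.Agent.Lib.helper6.SuzGrp
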