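import Mathlib
import Cfsg.Agent.Lib.helper6.SuzGrpA

/-!
# Triples `(x, y, z)` of kernel elements with `x τ y τ z τ = k`
-/

set_option autoImplicit false

namespace Cfsg.Agent.Lib.helper6.SuzGrp

open MulAction Cfsg.Agent.Lib.helper6.ZassPSL3 Cfsg.Agent.Lib.helper6.ZassFeit

variable {G Ω : Type*} [Group G] [MulAction G Ω] {a b : Ω} {H : Subgroup G}

section Triple

variable (Z : ZK G Ω a b H) {τ : G} (hτa : τ • a = b) (hτb : τ • b = a) (hττ : τ * τ = 1)
include Z hτa hτb hττ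

/-- the first component is determined by the middle one -/
theorem tr_first {x y z k : G} (hz : z ∈ H) (hka : k • a = a) (hkb : k • b = b)
    (h : x * τ * y * τ * z * τ = k) : x • (τ • (y • b)) = b := by
  have h1 : x * τ * y * τ = k * τ * z⁻¹ := by
    calc x * τ * y * τ = (x * τ * y * τ * z * τ) * (τ * τ)⁻¹ * τ * z⁻¹ := by group
      _ = k * τ * z⁻¹ := by rw [h, hττ]; group
  have h2 : (x * τ * y * τ) • a = (k * τ * z⁻¹) • a := by rw [h1]
  have hz' : z⁻¹ • a = a := by rw [inv_smul_eq_iff, Z.kfix z hz]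
  simp only [mul_smul] at h2
  rw [hτa, hz', hτa, hkb] at h2
  exact h2

theorem tr_mid_ne_one {x y z k : G} (hx : x ∈ H) (hz : z ∈ H) (hka : k • a = a)
    (hkb : k • b = b) (h : x * τ * y * τ * z * τ = k) : y ≠ 1 := by
  rintro rfl
  have := tr_first Z hτa hτb hττ hz hka hkb h
  rw [one_smul, hτb, Z.kfix x hx] at this
  exact Z.hi0 this

theorem tr_point_ne {y : G} (hy : y ∈ H) (hy1 : y ≠ 1) : τ • (y • b) ≠ a := by
  intro h
  have : y • b = b := by
    have h2 : τ • (y • b) = τ • b := by rw [h, hτb]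
    exact smul_left_cancel τ h2
  exact Z.kfpf y hy hy1 b (Ne.symm Z.hi0) this

/-- the middle component determines the triple and the right-hand side -/
theorem tr_unique {x y z k x' z' k' : G} (hx : x ∈ H) (hy : y ∈ H) (hz : z ∈ H)
    (hka : k • a = a) (hkb : k • b = b) (h : x * τ * y * τ * z * τ = k)
    (hx' : x' ∈ H) (hz' : z' ∈ H) (hka' : k' • a = a) (hkb' : k' • b = b)
    (h' : x' * τ * y * τ * z' * τ = k') : x = x' ∧ z = z' ∧ k = k' := by
  have hy1 := tr_mid_ne_one Z hτa hτb hττ hx hz hka hkb h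
  have hp := tr_point_ne Z hτa hτb hττ hy hy1
  have h1 := tr_first Z hτa hτb hττ hz hka hkb h
  have h2 := tr_first Z hτa hτb hττ hz' hka' hkb' h'
  have hxx : x = x' := by
    by_contra hne
    have hm : x'⁻¹ * x ∈ H := H.mul_mem (H.inv_mem hx') hx
    have hm1 : x'⁻¹ * x ≠ 1 := by
      intro h0
      apply hne
      calc x = x' * (x'⁻¹ * x) := by group
        _ = x' := by rw [h0, mul_one]
    apply Z.kfpf _ hm hm1 _ hp
    rw [mul_smul, h1, inv_smul_eq_iff, h2]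
  subst hxx
  -- now compare z and z'
  have h3 : z⁻¹ * z' = τ * (k⁻¹ * k') * τ := by
    have e1 : z * τ = (x * τ * y * τ)⁻¹ * k := by rw [← h]; group
    have e2 : z' * τ = (x * τ * y * τ)⁻¹ * k' := by rw [← h']; group
    have e3 : (z * τ)⁻¹ * (z' * τ) = k⁻¹ * k' := by rw [e1, e2]; group
    have hτi : τ⁻¹ = τ := inv_eq_of_mul_eq_one_left hττ
    calc z⁻¹ * z' = τ * ((z * τ)⁻¹ * (z' * τ)) * τ⁻¹ := by group
      _ = τ * (k⁻¹ * k') * τ := by rw [e3, hτi]
  have hzz : z⁻¹ * z' = 1 := by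
    by_contra hne
    have hm : z⁻¹ * z' ∈ H := H.mul_mem (H.inv_mem hz) hz'
    apply Z.kfpf _ hm hne b (Ne.symm Z.hi0)
    rw [h3]
    have hk'' : k⁻¹ • a = a := by
      rw [inv_smul_eq_iff, hka]
    simp only [mul_smul]
    rw [hτb, hka', hk'', hτa]
  have hzeq : z = z' := by
    calc z = z * (z⁻¹ * z') := by rw [hzz, mul_one]
      _ = z' := by group
  refine ⟨rfl, hzeq, ?_⟩
  subst hzeq
  rw [← h, ← h']

/-- every nontrivial kernel element is a middle component -/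
theorem tr_exists {y : G} (hy : y ∈ H) (hy1 : y ≠ 1)
    (hinv : ∀ k : G, k • a = a → k • b = b → τ * k = k⁻¹ * τ) :
    ∃ x ∈ H, ∃ z ∈ H, ∃ k : G, k • a = a ∧ k • b = b ∧ x * τ * y * τ * z * τ = k := by
  have hp := tr_point_ne Z hτa hτb hττ hy hy1
  obtain ⟨x, hx, hxp⟩ := Z.ktr _ b hp (Ne.symm Z.hi0)
  set g₀ : G := (x * τ * y * τ)⁻¹ * τ with hg₀
  have hg₀a : g₀ • a = a := by
    rw [hg₀, mul_smul, hτa, inv_smul_eq_iff]
    simp only [mul_smul]
    rw [hτa, hxp]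
  obtain ⟨z, hz, k, hka, hkb, hzk⟩ := N_decomp Z hg₀a
  refine ⟨x, hx, z, hz, k, hka, hkb, ?_⟩
  have hz2 : z = g₀ * k⁻¹ := by rw [hzk]; group
  have hk2 : k⁻¹ * τ = τ * k := (hinv k hka hkb).symm
  calc x * τ * y * τ * z * τ = x * τ * y * τ * (g₀ * k⁻¹) * τ := by rw [hz2]
    _ = (x * τ * y * τ) * (x * τ * y * τ)⁻¹ * τ * (k⁻¹ * τ) := by rw [hg₀]; group
    _ = τ * (τ * k) := by rw [hk2]; group
    _ = (τ * τ) * k := by group
    _ = k := by rw [hττ, one_mul]

/-- rotation -/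
theorem tr_rot {x y z : G} (h : x * τ * y * τ * z * τ = 1) : y * τ * z * τ * x * τ = 1 := by
  calc y * τ * z * τ * x * τ = (x * τ)⁻¹ * (x * τ * y * τ * z * τ) * (x * τ) := by group
    _ = 1 := by rw [h]; group

omit Z hτa hτb in
/-- twisted conjugation -/
theorem tr_conj {x y z k c : G}
    (hc : τ * c = c⁻¹ * τ) (hck : c * k = k * c)
    (h : x * τ * y * τ * z * τ = k) :
    (c * x * c⁻¹) * τ * (c⁻¹ * y * c) * τ * (c * z * c⁻¹) * τ = c * c * k := by
  have h1 : c⁻¹ * τ * c⁻¹ = τ := by rw [← hc]; group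
  have h2 : c * τ * c = τ := by
    calc c * τ * c = c * (τ * c) := by group
      _ = c * (c⁻¹ * τ) := by rw [hc]
      _ = τ := by group
  calc (c * x * c⁻¹) * τ * (c⁻¹ * y * c) * τ * (c * z * c⁻¹) * τ
      = c * x * (c⁻¹ * τ * c⁻¹) * y * (c * τ * c) * z * (c⁻¹ * τ) := by group
    _ = c * x * τ * y * τ * z * (τ * c) := by rw [h1, h2, hc]
    _ = c * (x * τ * y * τ * z * τ) * c := by group
    _ = c * k * c := by rw [h]
    _ = c * (c * k) := by rw [mul_assoc c k c, ← hck]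
    _ = c * c * k := by group

end Triple

end Cfsg.Agent.Lib.helper6.SuzGrp
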