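import Mathlib
import Cfsg.Agent.Lib.helper6.SuzTripleA

/-!
# Counting the triples: `|H| - 1 = e * m` with `m ≡ 0, 1 (mod 3)`
-/

set_option autoImplicit false

namespace Cfsg.Agent.Lib.helper6.SuzGrp

open MulAction Cfsg.Agent.Lib.helper6.ZassPSL3 Cfsg.Agent.Lib.helper6.ZassFeit

/-- a map of order three with at most one fixed point -/
theorem rot3 {α : Type*} [Fintype α] [DecidableEq α] (f : α → α) (hf : ∀ t, f (f (f t)) = t)
    (huniq : ∀ t t', f t = t → f t' = t' → t = t') :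
    Fintype.card α % 3 = 0 ∨ Fintype.card α % 3 = 1 := by
  haveI : Fact (Nat.Prime 3) := ⟨Nat.prime_three⟩
  let g : Function.End α := f
  have h1 : g ^ 3 ^ 1 = 1 := by
    funext t
    show (g ^ 3 ^ 1) t = t
    rw [pow_one, pow_succ, pow_succ, pow_one]
    exact hf t
  have h2 := Equiv.Perm.card_fixedPoints_modEq (f := g) (p := 3) (n := 1) h1
  have h3 : Fintype.card (Function.fixedPoints g) ≤ 1 := by
    rw [Fintype.card_le_one_iff]
    intro t t'
    apply Subtype.ext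
    exact huniq _ _ t.2 t'.2
  unfold Nat.ModEq at h2
  interval_cases h : Fintype.card (Function.fixedPoints g)
  · left; rw [h2]
  · right; rw [h2]

variable {G Ω : Type*} [Group G] [MulAction G Ω] {a b : Ω} {H : Subgroup G}

section Fixed

variable (Z : ZK G Ω a b H) {τ : G} (hτa : τ • a = b) (hτb : τ • b = a) (hττ : τ * τ = 1)
  (hexp4 : ∀ x ∈ H, (x * x) * (x * x) = 1)
  (hEsq : ∀ k : G, k • a = a → k • b = b → k * k = 1 → k = 1)
include Z hτa hτb hττ hexp4 hEsq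

theorem tr_fixed_sq {x : G} (hx : x ∈ H) (h : x * τ * x * τ * x * τ = 1) : x * x = 1 := by
  by_contra hs
  set s := x * x with hsdef
  have hsH : s ∈ H := H.mul_mem hx hx
  have hss : s * s = 1 := hexp4 x hx
  have hsi : s⁻¹ = s := inv_eq_of_mul_eq_one_left hss
  have hτi : τ⁻¹ = τ := inv_eq_of_mul_eq_one_left hττ
  set b' := τ * s * τ with hb'
  have e1 : τ * x * τ = x⁻¹ * τ * x⁻¹ := by
    calc τ * x * τ = x⁻¹ * (x * τ * x * τ * x * τ) * (x * τ)⁻¹ := by group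
      _ = x⁻¹ * τ⁻¹ * x⁻¹ := by rw [h]; group
      _ = x⁻¹ * τ * x⁻¹ := by rw [hτi]
  have e2 : b' = x⁻¹ * b' * x⁻¹ := by
    calc b' = (τ * x * τ) * (τ * τ)⁻¹ * (τ * x * τ) := by rw [hb', hsdef]; group
      _ = (x⁻¹ * τ * x⁻¹) * (x⁻¹ * τ * x⁻¹) := by rw [e1, hττ]; group
      _ = x⁻¹ * (τ * s⁻¹ * τ) * x⁻¹ := by rw [hsdef]; group
      _ = x⁻¹ * b' * x⁻¹ := by rw [hsi]
  have e3 : b' * x = x⁻¹ * b' := by
    calc b' * x = (x⁻¹ * b' * x⁻¹) * x := by rw [← e2]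
      _ = x⁻¹ * b' := by group
  have e4 : b' * s = s * b' := by
    calc b' * s = (b' * x) * x := by rw [hsdef]; group
      _ = (x⁻¹ * b') * x := by rw [e3]
      _ = x⁻¹ * (b' * x) := by group
      _ = x⁻¹ * (x⁻¹ * b') := by rw [e3]
      _ = s⁻¹ * b' := by rw [hsdef]; group
      _ = s * b' := by rw [hsi]
  have hb'b : b' • b = b := by
    rw [hb']
    simp only [mul_smul]
    rw [hτb, Z.kfix s hsH, hτa]
  have hb'a : b' • a = a := by
    by_contra hne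
    apply Z.kfpf s hsH hs (b' • a) hne
    rw [← mul_smul, ← e4, mul_smul, Z.kfix s hsH]
  have hb'2 : b' * b' = 1 := by
    calc b' * b' = τ * s * (τ * τ) * s * τ := by rw [hb']; group
      _ = τ * (s * s) * τ := by rw [hττ]; group
      _ = 1 := by rw [hss, mul_one, hττ]
  have hb'1 : b' = 1 := hEsq b' hb'a hb'b hb'2
  apply hs
  calc s = τ⁻¹ * b' * τ⁻¹ := by rw [hb']; group
    _ = 1 := by rw [hb'1, hτi, mul_one, hττ]

theorem tr_fixed_unique
    (hinv : ∀ k : G, k • a = a → k • b = b → τ * k = k⁻¹ * τ)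
    (htrans : ∀ x ∈ H, x ≠ 1 → x * x = 1 → ∀ y ∈ H, y ≠ 1 → y * y = 1 →
      ∃ k : G, k • a = a ∧ k • b = b ∧ k * x * k⁻¹ = y)
    {x x' : G} (hx : x ∈ H) (h : x * τ * x * τ * x * τ = 1)
    (hx' : x' ∈ H) (h' : x' * τ * x' * τ * x' * τ = 1) : x = x' := by
  have h1a : (1 : G) • a = a := one_smul _ _
  have h1b : (1 : G) • b = b := one_smul _ _
  have hx1 := tr_mid_ne_one Z hτa hτb hττ hx hx h1a h1b h
  have hx'1 := tr_mid_ne_one Z hτa hτb hττ hx' hx' h1a h1b h'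
  have hxx := tr_fixed_sq Z hτa hτb hττ hexp4 hEsq hx h
  have hxx' := tr_fixed_sq Z hτa hτb hττ hexp4 hEsq hx' h'
  obtain ⟨c₀, hc₀a, hc₀b, hc₀⟩ := htrans x hx hx1 hxx x' hx' hx'1 hxx'
  set c := c₀⁻¹ with hc
  have hca : c • a = a := by rw [hc, inv_smul_eq_iff, hc₀a]
  have hcb : c • b = b := by rw [hc, inv_smul_eq_iff, hc₀b]
  have hmid : c⁻¹ * x * c = x' := by rw [← hc₀, hc]; group
  have h2 := tr_conj hττ (x := x) (y := x) (z := x) (k := 1) (c := c) (hinv c hca hcb)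
    (by rw [mul_one, one_mul]) h
  rw [hmid, mul_one] at h2
  have hcx : c * x * c⁻¹ ∈ H := Z.knorm c hca x hx
  have hcca : (c * c) • a = a := by rw [mul_smul, hca, hca]
  have hccb : (c * c) • b = b := by rw [mul_smul, hcb, hcb]
  obtain ⟨-, -, h3⟩ := tr_unique Z hτa hτb hττ hcx hx' hcx hcca hccb h2 hx' hx' h1a h1b h'
  have hc1 : c = 1 := hEsq c hca hcb h3
  rw [← hmid, hc1]
  group

end Fixed

end Cfsg.Agent.Lib.helper6.SuzGrp
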