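import Mathlib
import Cfsg.Agent.Lib.helper6.SuzTripleB

/-!
# Counting the triples: `|H| - 1 = e * m` with `m ≡ 0, 1 (mod 3)`
-/

set_option autoImplicit false

namespace Cfsg.Agent.Lib.helper6.SuzGrp

open MulAction Cfsg.Agent.Lib.helper6.ZassPSL3 Cfsg.Agent.Lib.helper6.ZassFeit

variable {G Ω : Type*} [Group G] [MulAction G Ω] {a b : Ω} {H : Subgroup G}

theorem triple_count [Finite G] (Z : ZK G Ω a b H) {τ : G} (hτa : τ • a = b) (hτb : τ • b = a)
    (hττ : τ * τ = 1)
    (hexp4 : ∀ x ∈ H, (x * x) * (x * x) = 1)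
    (hEsq : ∀ k : G, k • a = a → k • b = b → k * k = 1 → k = 1)
    (hinv : ∀ k : G, k • a = a → k • b = b → τ * k = k⁻¹ * τ)
    (htrans : ∀ x ∈ H, x ≠ 1 → x * x = 1 → ∀ y ∈ H, y ≠ 1 → y * y = 1 →
      ∃ k : G, k • a = a ∧ k • b = b ∧ k * x * k⁻¹ = y)
    (hEc : ∀ k k' : G, k • a = a → k • b = b → k' • a = a → k' • b = b → k * k' = k' * k)
    (hEpow : ∀ k : G, k • a = a → k • b = b → ∃ c : G, c • a = a ∧ c • b = b ∧ c * c = k) :
    ∃ m : ℕ, Nat.card ↥(stabilizer G a ⊓ stabilizer G b : Subgroup G) * m + 1 = Nat.card H ∧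
      (m % 3 = 0 ∨ m % 3 = 1) := by
  classical
  haveI : Fintype G := Fintype.ofFinite G
  let pr : G × G × G → G := fun t => t.1 * τ * t.2.1 * τ * t.2.2 * τ
  let inH : G × G × G → Prop := fun t => t.1 ∈ H ∧ t.2.1 ∈ H ∧ t.2.2 ∈ H
  let TrF : G → Finset (G × G × G) := fun k => Finset.univ.filter (fun t => inH t ∧ pr t = k)
  let Efin : Finset G := Finset.univ.filter (fun k => k • a = a ∧ k • b = b)
  let TrAll : Finset (G × G × G) := Finset.univ.filter (fun t => inH t ∧ pr t ∈ Efin)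
  have hEmem : ∀ k, k ∈ Efin ↔ k • a = a ∧ k • b = b := by
    intro k; simp [Efin]
  have hTrmem : ∀ k t, t ∈ TrF k ↔ inH t ∧ pr t = k := by
    intro k t; simp [TrF]
  have hAllmem : ∀ t, t ∈ TrAll ↔ inH t ∧ pr t ∈ Efin := by
    intro t; simp [TrAll]
  -- (1)
  have h1 : TrAll.card = ∑ k ∈ Efin, (TrF k).card := by
    have hmaps : (TrAll : Set (G × G × G)).MapsTo pr (Efin : Set G) := by
      intro t ht
      exact ((hAllmem t).mp (Finset.mem_coe.mp ht)).2
    rw [Finset.card_eq_sum_card_fiberwise hmaps]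
    refine Finset.sum_congr rfl fun k hk => ?_
    congr 1
    ext t
    rw [Finset.mem_filter, hAllmem, hTrmem]
    constructor
    · rintro ⟨⟨h1, -⟩, h2⟩; exact ⟨h1, h2⟩
    · rintro ⟨h1, h2⟩; exact ⟨⟨h1, by rw [h2]; exact hk⟩, h2⟩
  -- (2)
  have h2 : TrAll.card + 1 = Nat.card H := by
    have hbij : TrAll.card = (Finset.univ.filter (fun y : G => y ∈ H ∧ y ≠ 1)).card := by
      apply Finset.card_bij (fun t _ => t.2.1)
      · intro t ht
        obtain ⟨⟨hx, hy, hz⟩, hk⟩ := (hAllmem t).mp ht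
        obtain ⟨hka, hkb⟩ := (hEmem _).mp hk
        rw [Finset.mem_filter]
        exact ⟨Finset.mem_univ _, hy, tr_mid_ne_one Z hτa hτb hττ hx hz hka hkb rfl⟩
      · intro t ht t' ht' hyy
        obtain ⟨⟨hx, hy, hz⟩, hk⟩ := (hAllmem t).mp ht
        obtain ⟨hka, hkb⟩ := (hEmem _).mp hk
        obtain ⟨⟨hx', hy', hz'⟩, hk'⟩ := (hAllmem t').mp ht'
        obtain ⟨hka', hkb'⟩ := (hEmem _).mp hk'
        obtain ⟨x, y, z⟩ := t
        obtain ⟨x', y', z'⟩ := t'
        simp only at hyy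
        subst hyy
        obtain ⟨e1, e2, -⟩ := tr_unique Z hτa hτb hττ hx hy hz hka hkb rfl hx' hz' hka' hkb' rfl
        simp only at e1 e2
        rw [e1, e2]
      · intro y hy
        obtain ⟨hyH, hy1⟩ := (Finset.mem_filter.mp hy).2
        obtain ⟨x, hx, z, hz, k, hka, hkb, hk⟩ := tr_exists Z hτa hτb hττ hyH hy1 hinv
        refine ⟨(x, y, z), ?_, rfl⟩
        rw [hAllmem]
        refine ⟨⟨hx, hyH, hz⟩, ?_⟩
        rw [hEmem]
        show (x * τ * y * τ * z * τ) • a = a ∧ (x * τ * y * τ * z * τ) • b = b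
        rw [hk]
        exact ⟨hka, hkb⟩
    rw [hbij, Nat.card_eq_fintype_card, Fintype.card_subtype]
    have h3 : (Finset.univ.filter (fun y : G => y ∈ H ∧ y ≠ 1)) =
        (Finset.univ.filter (fun y : G => y ∈ H)).erase 1 := by
      ext y
      simp only [Finset.mem_filter, Finset.mem_univ, true_and, Finset.mem_erase]
      tauto
    rw [h3, Finset.card_erase_of_mem (by simp [H.one_mem])]
    have : 0 < (Finset.univ.filter (fun y : G => y ∈ H)).card :=
      Finset.card_pos.mpr ⟨1, by simp [H.one_mem]⟩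
    omega
  -- (3)
  have h3 : ∀ k ∈ Efin, (TrF k).card = (TrF 1).card := by
    intro k hk
    obtain ⟨hka, hkb⟩ := (hEmem k).mp hk
    obtain ⟨c, hca, hcb, hck⟩ := hEpow k hka hkb
    have hci_a : c⁻¹ • a = a := by rw [inv_smul_eq_iff, hca]
    have hci_b : c⁻¹ • b = b := by rw [inv_smul_eq_iff, hcb]
    have hmap : ∀ (d : G) (hda : d • a = a) (hdb : d • b = b) (k₀ : G) (hk₀ : d * k₀ = k₀ * d),
        (TrF k₀).card ≤ (TrF (d * d * k₀)).card := by
      intro d hda hdb k₀ hk₀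
      have hdi : d⁻¹ • a = a := by rw [inv_smul_eq_iff, hda]
      apply Finset.card_le_card_of_injOn
        (fun t => (d * t.1 * d⁻¹, d⁻¹ * t.2.1 * d, d * t.2.2 * d⁻¹))
      · intro t ht
        obtain ⟨⟨hx, hy, hz⟩, hp⟩ := (hTrmem _ _).mp (Finset.mem_coe.mp ht)
        apply Finset.mem_coe.mpr
        rw [hTrmem]
        refine ⟨⟨Z.knorm d hda _ hx, ?_, Z.knorm d hda _ hz⟩, ?_⟩
        · have := Z.knorm d⁻¹ hdi _ hy
          simpa using this
        · exact tr_conj hττ (hinv d hda hdb) hk₀ hp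
      · intro t _ t' _ htt
        simp only [Prod.mk.injEq] at htt
        obtain ⟨e1, e2, e3⟩ := htt
        obtain ⟨x, y, z⟩ := t
        obtain ⟨x', y', z'⟩ := t'
        simp only at e1 e2 e3
        have f1 : x = x' := by
          have := congrArg (fun w => d⁻¹ * w * d) e1
          simpa [mul_assoc] using this
        have f2 : y = y' := by
          have := congrArg (fun w => d * w * d⁻¹) e2
          simpa [mul_assoc] using this
        have f3 : z = z' := by
          have := congrArg (fun w => d⁻¹ * w * d) e3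
          simpa [mul_assoc] using this
        rw [f1, f2, f3]
    apply le_antisymm
    · have := hmap c⁻¹ hci_a hci_b k (by
        have h4 := hEc c k hca hcb hka hkb
        calc c⁻¹ * k = c⁻¹ * (k * c) * c⁻¹ := by group
          _ = c⁻¹ * (c * k) * c⁻¹ := by rw [h4]
          _ = k * c⁻¹ := by group)
      have e : c⁻¹ * c⁻¹ * k = 1 := by rw [← hck]; group
      rwa [e] at this
    · have := hmap c hca hcb 1 (by rw [mul_one, one_mul])
      rwa [mul_one, hck] at this
  -- (4)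
  have h4 : TrAll.card = Nat.card ↥(stabilizer G a ⊓ stabilizer G b : Subgroup G) * (TrF 1).card := by
    rw [h1, Finset.sum_congr rfl h3, Finset.sum_const, smul_eq_mul]
    congr 1
    rw [Nat.card_eq_fintype_card, Fintype.card_subtype]
    congr 1
    ext k
    rw [hEmem, Finset.mem_filter, Subgroup.mem_inf, mem_stabilizer_iff, mem_stabilizer_iff]
    simp
  refine ⟨(TrF 1).card, by rw [← h4]; exact h2, ?_⟩
  -- (5)
  have h1a : (1 : G) • a = a := one_smul _ _
  have h1b : (1 : G) • b = b := one_smul _ _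
  let f : {t // t ∈ TrF 1} → {t // t ∈ TrF 1} := fun t =>
    ⟨(t.1.2.1, t.1.2.2, t.1.1), by
      obtain ⟨⟨hx, hy, hz⟩, hp⟩ := (hTrmem _ _).mp t.2
      rw [hTrmem]
      exact ⟨⟨hy, hz, hx⟩, tr_rot Z hτa hτb hττ hp⟩⟩
  have hcard : Fintype.card {t // t ∈ TrF 1} = (TrF 1).card := Fintype.card_coe _
  rw [← hcard]
  apply rot3 f
  · intro t
    apply Subtype.ext
    rfl
  · intro t t' ht ht'
    obtain ⟨⟨x, y, z⟩, htm⟩ := t
    obtain ⟨⟨x', y', z'⟩, htm'⟩ := t'
    have e := congrArg Subtype.val ht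
    have e' := congrArg Subtype.val ht'
    simp only [f, Prod.mk.injEq] at e e'
    obtain ⟨e1, e2, e3⟩ := e
    obtain ⟨e1', e2', e3'⟩ := e'
    subst e1 e2 e1' e2'
    obtain ⟨⟨hx, -, -⟩, hp⟩ := (hTrmem _ _).mp htm
    obtain ⟨⟨hx', -, -⟩, hp'⟩ := (hTrmem _ _).mp htm'
    have := tr_fixed_unique Z hτa hτb hττ hexp4 hEsq hinv htrans hx hp hx' hp'
    apply Subtype.ext
    simp only [Prod.mk.injEq]
    exact ⟨this, this, this⟩

end Cfsg.Agent.Lib.helper6.SuzGrp
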