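import Mathlib
import Cfsg.Agent.Lib.helper6.SuzMainD
import Cfsg.Agent.Lib.helper6.SuzTripleC
import Cfsg.Prelude.Def_LieRecognition

/-!
# The main theorem on nonabelian 2-kernels of simple Zassenhaus groups
-/

set_option autoImplicit false
set_option maxHeartbeats 1000000

namespace Cfsg.Agent.Lib.helper6.SuzGrp

open MulAction Cfsg.Agent.Lib.helper6.ZassPSL3 Cfsg.Agent.Lib.helper6.ZassFeit
  Cfsg.Agent.Lib.helper6.ZassInvol Cfsg.Agent.Lib.Helper27.Sz
  Cfsg.Agent.Lib.helper6.ZassFeitNA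

variable {G Ω : Type*} [Group G] [MulAction G Ω] [Finite G] [Fintype Ω]

theorem two_pow_even_mod_three (j : ℕ) : 2 ^ (2 * j) % 3 = 1 := by
  induction j with
  | zero => simp
  | succ k ih =>
    have : 2 ^ (2 * (k + 1)) = 2 ^ (2 * k) * 4 := by
      rw [show 2 * (k + 1) = 2 * k + 2 by ring, pow_add]; norm_num
    rw [this, Nat.mul_mod, ih]

theorem suz_main (hZ : Cfsg.IsZassenhausGroup G Ω) [IsSimpleGroup G] {a b : Ω} (hab : a ≠ b)
    (U : Subgroup G) (hUle : U ≤ stabilizer G a)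
    (hreg : ∀ c d : Ω, c ≠ a → d ≠ a → ∃! u : U, (u : G) • c = d)
    (hU2 : IsPGroup 2 U) (hna : ∃ u v : U, u * v ≠ v * u) :
    ∃ r : ℕ, Odd r ∧ 1 < r ∧
      Nat.card ↥(stabilizer G a ⊓ stabilizer G b : Subgroup G) + 1 = 2 ^ r ∧
      Nat.card U = (2 ^ r) ^ 2 ∧
      IsCyclic ↥(stabilizer G a ⊓ stabilizer G b : Subgroup G) ∧
      Cfsg.IsSuzukiTwoGroup U ∧ Nat.card (Subgroup.center U) = 2 ^ r := by
  classical
  have Z := setup_ZK hZ hab U hUle hreg
  have hodd := setup_odd hZ hab U hUle hreg hU2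
  have hcyc := setup_cyclic hZ hab hodd
  have hEcomm := setup_comm hZ hab hodd
  have S := suz_of_zass hZ Z hodd hU2 hEcomm
  have hH := setup_card hab U hUle hreg
  set e := Nat.card ↥(stabilizer G a ⊓ stabilizer G b : Subgroup G) with he
  obtain ⟨n, hn2, hn⟩ := S.exists_card_Vs
  have hqn : e + 1 = 2 ^ n := by rw [he, ← S.card_Vs, hn]
  have hEcomm' : ∀ k k' : G, k • a = a → k • b = b → k' • a = a → k' • b = b →
      k * k' = k' * k := by
    intro k k' h1 h2 h3 h4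
    have hk : k ∈ (stabilizer G a ⊓ stabilizer G b : Subgroup G) :=
      Subgroup.mem_inf.mpr ⟨mem_stabilizer_iff.mpr h1, mem_stabilizer_iff.mpr h2⟩
    have hk' : k' ∈ (stabilizer G a ⊓ stabilizer G b : Subgroup G) :=
      Subgroup.mem_inf.mpr ⟨mem_stabilizer_iff.mpr h3, mem_stabilizer_iff.mpr h4⟩
    exact congrArg Subtype.val (hEcomm ⟨k, hk⟩ ⟨k', hk'⟩)
  have hsquare : Nat.card U = (e + 1) ^ 2 := by
    rcases S.card_eq hna with h | h
    · exact h
    · exact (cube_false hZ Z hodd hU2 hEcomm S hna hH h).elim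
  -- the triple count
  obtain ⟨τ, hτa, hτb⟩ := MulAction.is_two_pretransitive_iff.mp hZ.2.1 hab (Ne.symm hab)
  have hττ : τ * τ = 1 := swap_sq hZ hab hodd hab hτa hτb
  have hτi : τ⁻¹ = τ := inv_eq_of_mul_eq_one_left hττ
  have hinv : ∀ k : G, k • a = a → k • b = b → τ * k = k⁻¹ * τ := by
    intro k hka hkb
    have hk : k ∈ (stabilizer G a ⊓ stabilizer G b : Subgroup G) :=
      Subgroup.mem_inf.mpr ⟨mem_stabilizer_iff.mpr hka, mem_stabilizer_iff.mpr hkb⟩
    have := swap_inverts hZ hab hodd hab hτa hτb k hk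
    calc τ * k = (τ * k * τ⁻¹) * τ := by group
      _ = k⁻¹ * τ := by rw [this]
  have htrans : ∀ x ∈ U, x ≠ 1 → x * x = 1 → ∀ y ∈ U, y ≠ 1 → y * y = 1 →
      ∃ k : G, k • a = a ∧ k • b = b ∧ k * x * k⁻¹ = y := by
    intro x hx hx1 hxx y hy hy1 hyy
    obtain ⟨k, hk, hkx⟩ := invol_trans hZ Z hodd hU2 hx hx1 hxx hy hy1 hyy
    exact ⟨k, mem_stabilizer_iff.mp (Subgroup.mem_inf.mp hk).1,
      mem_stabilizer_iff.mp (Subgroup.mem_inf.mp hk).2, hkx⟩
  have hEpow : ∀ k : G, k • a = a → k • b = b → ∃ c : G, c • a = a ∧ c • b = b ∧ c * c = k := by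
    intro k hka hkb
    have hk : k ∈ (stabilizer G a ⊓ stabilizer G b : Subgroup G) :=
      Subgroup.mem_inf.mpr ⟨mem_stabilizer_iff.mpr hka, mem_stabilizer_iff.mpr hkb⟩
    obtain ⟨s, hs⟩ := S.exists_sq ⟨k, hk⟩
    exact ⟨s, mem_stabilizer_iff.mp (Subgroup.mem_inf.mp s.2).1,
      mem_stabilizer_iff.mp (Subgroup.mem_inf.mp s.2).2, congrArg Subtype.val hs⟩
  obtain ⟨m, hm, hm3⟩ := triple_count Z hτa hτb hττ (suz_exp4 Z S hna)
    (fun k hka hkb hkk => E_sq_one hZ Z hodd hka hkb hkk) hinv htrans hEcomm' hEpow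
  rw [← he, hsquare] at hm
  have he0 : 0 < e := Nat.card_pos
  have hm2 : m = e + 2 := by
    have : e * m = e * (e + 2) := by
      have h1 : (e + 1) ^ 2 = e * (e + 2) + 1 := by ring
      omega
    exact Nat.eq_of_mul_eq_mul_left he0 this
  have hnodd : Odd n := by
    by_contra hcon
    rw [Nat.not_odd_iff_even] at hcon
    obtain ⟨j, hj⟩ := hcon
    have h1 : 2 ^ n % 3 = 1 := by
      rw [hj, ← two_mul]; exact two_pow_even_mod_three j
    have h2 : m = 2 ^ n + 1 := by omega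
    rw [h2] at hm3
    omega
  refine ⟨n, hnodd, by omega, hqn, by rw [hsquare, hqn], hcyc, ?_, ?_⟩
  · -- Suzuki 2-group
    set ρ := conjAct U (stabilizer G a ⊓ stabilizer G b : Subgroup G) (E_norm Z) with hρ
    refine ⟨inferInstance, hU2, hna, S.two_inv, ρ.range, ?_, ?_⟩
    · haveI := hcyc
      exact isCyclic_of_surjective ρ.rangeRestrict ρ.rangeRestrict_surjective
    · intro x y hx1 hxx hy1 hyy
      obtain ⟨k₀, hk₀, huniq⟩ := S.reg x y hx1 hxx hy1 hyy
      refine ⟨⟨ρ k₀, k₀, rfl⟩, hk₀, ?_⟩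
      rintro ⟨_, k₁, rfl⟩ hk₁
      have := huniq k₁ hk₁
      apply Subtype.ext
      simp only
      rw [this]
  · have hcen : Subgroup.center U = Vs U := le_antisymm (S.center_le hna) Vs_le_center
    rw [hcen, hn]

end Cfsg.Agent.Lib.helper6.SuzGrp
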