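import Mathlib
import Cfsg.Prelude.Def_OddOrderChar
import Cfsg.Agent.Lib.helper6.FeitNA2
import Cfsg.Agent.Lib.Helper11.Coherence
import Cfsg.Agent.S1529

set_option autoImplicit false
set_option linter.unusedSectionVars false
open scoped ComplexConjugate

namespace Cfsg.Agent.Lib.helper6.FeitNA

open Cfsg.Agent.Lib.helper7 Cfsg.Agent.Lib.helper2 Cfsg.Agent.Lib.Helper25 Cfsg.Agent.Lib.Helper11
open Cfsg.Agent.Lib.helper6.FeitFrob Cfsg.Agent.Lib.helper6.FeitInd Cfsg.Agent.Lib.helper6.FeitMain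

variable {G : Type*} [Group G] [Fintype G] (N : Subgroup G) [Fintype N]

variable (F : Subgroup N) [hFn : F.Normal]
  [Fintype (Cfsg.IrrCharacter G)] [Fintype (Cfsg.IrrCharacter N)]

variable (hC : ∀ n ∈ F, n ≠ 1 → Subgroup.centralizer ({n} : Set N) ≤ F)

/-- the set of irreducible characters of `N` not containing `F` in their kernel -/
def SF : Set (N → ℂ) := {χ : N → ℂ | Cfsg.IsIrrCharacter N χ ∧ ∃ n ∈ F, χ n ≠ χ 1}

theorem mem_SF (ξ : Cfsg.IrrCharacter N) : (ξ : N → ℂ) ∈ SF N F ↔ IsT F ξ :=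
  ⟨fun h => h.2, fun h => ⟨ξ.2, h⟩⟩

include hC in
theorem coh_data [DecidableEq (Cfsg.IrrCharacter G)]
    (hcoh : Cfsg.IsCoherent (SF N F) {1}ᶜ (fun α : N → ℂ => Cfsg.indFun N α))
    (ξ₁ : Cfsg.IrrCharacter N) (hξ₁ : IsT F ξ₁) (hd1 : dT F ξ₁ = 1)
    (htwo : ∃ ξ₂ : Cfsg.IrrCharacter N, IsT F ξ₂ ∧ ξ₂ ≠ ξ₁) :
    ∃ (Λ : {ξ : Cfsg.IrrCharacter N // IsT F ξ} → Cfsg.IrrCharacter G) (ε : ℤ),
      Function.Injective Λ ∧ (ε = 1 ∨ ε = -1) ∧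
      ∀ (χ : Cfsg.IrrCharacter G) (ξ : {ξ : Cfsg.IrrCharacter N // IsT F ξ}),
        (mult N χ ξ.1 : ℤ) = dT F ξ.1 * mult N χ ξ₁ +
          ε * ((if χ = Λ ξ then 1 else 0) - dT F ξ.1 * (if χ = Λ ⟨ξ₁, hξ₁⟩ then 1 else 0)) := by
  classical
  obtain ⟨-, τ₁, hτ₁, hagree⟩ := hcoh
  have hirr : ∀ χ ∈ SF N F, Cfsg.IsIrrCharacter N χ := fun χ hχ => hχ.1
  obtain ⟨ξ₂, hξ₂, hne21⟩ := htwo
  have htwo' : ∃ χ ∈ SF N F, ∃ ψ ∈ SF N F, χ ≠ ψ :=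
    ⟨(ξ₂ : N → ℂ), (mem_SF N F ξ₂).mpr hξ₂, (ξ₁ : N → ℂ), (mem_SF N F ξ₁).mpr hξ₁,
      fun h => hne21 (Subtype.ext h)⟩
  have h0 : ∀ α ∈ Cfsg.zspan (SF N F), α 1 = 0 → τ₁ α 1 = 0 := by
    intro α hα h1
    rw [hagree α (mem_zspanOn_one hα h1)]
    show Cfsg.indFun N α 1 = 0
    rw [h7_indFun_one, h1, mul_zero]
  obtain ⟨ε, hε, hΛirr, hΛinj⟩ := Cfsg.Agent.S1529.result N (SF N F) hirr htwo' τ₁ hτ₁ h0
  have hε2 : ε * ε = 1 := by rcases hε with h | h <;> rw [h] <;> norm_num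
  obtain ⟨Λ, hΛdef⟩ : ∃ Λ : {ξ : Cfsg.IrrCharacter N // IsT F ξ} → Cfsg.IrrCharacter G,
      ∀ ξ, ((Λ ξ : Cfsg.IrrCharacter G) : G → ℂ) = ε • τ₁ (ξ.1 : N → ℂ) :=
    ⟨fun ξ => ⟨ε • τ₁ (ξ.1 : N → ℂ), hΛirr _ ((mem_SF N F ξ.1).mpr ξ.2)⟩, fun ξ => rfl⟩
  have hτΛ : ∀ ξ : {ξ : Cfsg.IrrCharacter N // IsT F ξ},
      τ₁ (ξ.1 : N → ℂ) = ε • ((Λ ξ : Cfsg.IrrCharacter G) : G → ℂ) := by
    intro ξ
    rw [hΛdef, smul_smul, hε2, one_smul]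
  set εz : ℤ := if ε = 1 then 1 else -1 with hεz
  have hεz' : (εz : ℂ) = ε := by
    rcases hε with h | h
    · rw [hεz, if_pos h, h]; simp
    · have : ε ≠ 1 := by rw [h]; norm_num
      rw [hεz, if_neg this, h]; simp
  refine ⟨Λ, εz, ?_, ?_, ?_⟩
  · intro ξ ξ' h
    have h1 : ε • τ₁ (ξ.1 : N → ℂ) = ε • τ₁ (ξ'.1 : N → ℂ) := by
      rw [← hΛdef, ← hΛdef, h]
    have h2 : τ₁ (ξ.1 : N → ℂ) = τ₁ (ξ'.1 : N → ℂ) := by
      have := congrArg (fun f => ε • f) h1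
      simp only [smul_smul, hε2, one_smul] at this
      exact this
    have h3 := hΛinj _ ((mem_SF N F ξ.1).mpr ξ.2) _ ((mem_SF N F ξ'.1).mpr ξ'.2) h2
    exact Subtype.ext (Subtype.ext h3)
  · rw [hεz]
    split_ifs
    · left; rfl
    · right; rfl
  · intro χ ξ
    set dξ : ℤ := (dT F ξ.1 : ℤ) with hdξ
    set α : N → ℂ := dξ • (ξ₁ : N → ℂ) - (ξ.1 : N → ℂ) with hα
    have hm1 : (ξ₁ : N → ℂ) ∈ Cfsg.zspan (SF N F) := zspan_of_mem ((mem_SF N F ξ₁).mpr hξ₁)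
    have hmξ : (ξ.1 : N → ℂ) ∈ Cfsg.zspan (SF N F) := zspan_of_mem ((mem_SF N F ξ.1).mpr ξ.2)
    have hαmem : α ∈ Cfsg.zspan (SF N F) := zspan_sub (zspan_zsmul _ hm1) hmξ
    have hα1 : α 1 = 0 := by
      rw [hα, Pi.sub_apply, Pi.smul_apply, T_one' F hC hξ₁, T_one' F hC ξ.2, hd1, zsmul_eq_mul, hdξ]
      push_cast
      ring
    have hτα : τ₁ α = Cfsg.indFun N α := hagree α (mem_zspanOn_one hαmem hα1)
    have hτα' : τ₁ α = dξ • τ₁ (ξ₁ : N → ℂ) - τ₁ (ξ.1 : N → ℂ) := by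
      rw [hα, isoOn_map_sub hτ₁ (zspan_zsmul _ hm1) hmξ, hτ₁.2.1 _ hm1]
    have hχcl : Cfsg.IsClassFunction G (χ : G → ℂ) :=
      isCharacter_isClassFunction (isCharacter_of_irr χ)
    -- compute ⟨τ₁ α, χ⟩ in two ways
    have hA : Cfsg.classInner (τ₁ α) (χ : G → ℂ) =
        (dξ : ℂ) * (mult N χ ξ₁ : ℂ) - (mult N χ ξ.1 : ℂ) := by
      rw [hτα, h7_frobenius_reciprocity N α _ hχcl, hα, classInner_sub_left', classInner_zsmul_left]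
      have e1 : ∀ η : Cfsg.IrrCharacter N,
          Cfsg.classInner (η : N → ℂ) (fun n : N => (χ : G → ℂ) n) = (mult N χ η : ℂ) := by
        intro η
        rw [Cfsg.Agent.Lib.Helper25.classInner_conj_symm]
        have := mult_spec N χ η
        unfold res at this
        rw [this, Complex.conj_natCast]
      rw [e1, e1]
    have hB : Cfsg.classInner (τ₁ α) (χ : G → ℂ) =
        (dξ : ℂ) * (ε * (if Λ ⟨ξ₁, hξ₁⟩ = χ then 1 else 0)) -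
          ε * (if Λ ξ = χ then 1 else 0) := by
      rw [hτα', classInner_sub_left', classInner_zsmul_left, hτΛ ξ, hτΛ ⟨ξ₁, hξ₁⟩,
        classInner_smul_left', classInner_smul_left', irr_classInner, irr_classInner]
      congr!
    rw [hA] at hB
    have key : ((mult N χ ξ.1 : ℤ) : ℂ) = ((dξ * mult N χ ξ₁ +
          εz * ((if χ = Λ ξ then 1 else 0) - dξ * (if χ = Λ ⟨ξ₁, hξ₁⟩ then 1 else 0)) : ℤ) : ℂ) := by
      push_cast
      rw [hεz']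
      have e1 : (if χ = Λ ξ then (1 : ℂ) else 0) = if Λ ξ = χ then 1 else 0 := by
        by_cases hh : χ = Λ ξ
        · rw [if_pos hh, if_pos hh.symm]
        · rw [if_neg hh, if_neg (fun h' => hh h'.symm)]
      have e2 : (if χ = Λ ⟨ξ₁, hξ₁⟩ then (1 : ℂ) else 0) = if Λ ⟨ξ₁, hξ₁⟩ = χ then 1 else 0 := by
        by_cases hh : χ = Λ ⟨ξ₁, hξ₁⟩
        · rw [if_pos hh, if_pos hh.symm]
        · rw [if_neg hh, if_neg (fun h' => hh h'.symm)]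
      rw [e1, e2]
      linear_combination -hB
    exact_mod_cast key

end Cfsg.Agent.Lib.helper6.FeitNA
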