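import Mathlib

set_option autoImplicit false

namespace Cfsg.Agent.Lib.helper6.FeitNAComb

open Finset

variable {I T L : Type*} [Fintype I] [DecidableEq I] [Fintype T] [DecidableEq T] [Fintype L]

/-- splitting a sum over `I` into `i₀`, the image of `Λ`, and the rest -/
theorem sum_split (Λ : T → I) (i₀ : I) (hΛinj : Function.Injective Λ) (hΛ0 : ∀ ξ, Λ ξ ≠ i₀)
    (f : I → ℤ) :
    ∑ i, f i = f i₀ + ∑ ζ, f (Λ ζ) +
      ∑ i ∈ univ.filter (fun i => i ≠ i₀ ∧ ∀ ζ, i ≠ Λ ζ), f i := by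
  classical
  rw [← Finset.sum_filter_add_sum_filter_not univ (fun i => i ≠ i₀ ∧ ∀ ζ, i ≠ Λ ζ), add_comm]
  congr 1
  have hset : univ.filter (fun i => ¬ (i ≠ i₀ ∧ ∀ ζ, i ≠ Λ ζ)) = insert i₀ (univ.image Λ) := by
    ext i
    simp only [mem_filter, mem_univ, true_and, mem_insert, mem_image]
    constructor
    · intro h
      by_cases h0 : i = i₀
      · left; exact h0
      · right
        by_contra hcon
        apply h
        refine ⟨h0, ?_⟩
        intro ζ hζ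
        exact hcon ⟨ζ, hζ.symm⟩
    · rintro (h | ⟨ζ, hζ⟩)
      · intro hh; exact hh.1 h
      · intro hh; exact hh.2 ζ hζ.symm
  rw [hset, Finset.sum_insert, Finset.sum_image]
  · intro a _ b _ hab
    exact hΛinj hab
  · intro h
    obtain ⟨ζ, _, hζ⟩ := mem_image.mp h
    exact hΛ0 ζ hζ

theorem feitNA_comb (mT : I → T → ℕ) (mL : I → L → ℕ) (d : T → ℕ) (deg : I → ℕ) (i₀ : I)
    (ξ₁ : T) (Λ : T → I) (ε : ℤ) (h e m : ℕ)
    (hε : ε = 1 ∨ ε = -1)
    (hd1 : d ξ₁ = 1) (hdpos : ∀ ξ, 0 < d ξ)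
    (hm : ∑ ξ, d ξ ^ 2 = m) (hme : m * e + 1 = h) (hm3 : 3 ≤ m)
    (hΛinj : Function.Injective Λ)
    (h0 : ∀ ξ, mT i₀ ξ = 0)
    (hne : ∀ i, i ≠ i₀ → ∃ ξ, 1 ≤ mT i ξ)
    (hR : ∀ i ξ, (mT i ξ : ℤ) = d ξ * mT i ξ₁ +
      ε * ((if i = Λ ξ then 1 else 0) - d ξ * (if i = Λ ξ₁ then 1 else 0)))
    (hG1 : ∀ ξ ξ', ∑ i, mT i ξ * mT i ξ' = e * d ξ * d ξ' + if ξ = ξ' then 1 else 0)
    (hG2 : ∀ ξ μ, ∑ i, mT i ξ * mL i μ = d ξ)
    (hHL : ∀ μ, ∑ i, mL i μ * deg i = h + 1)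
    (hA : ∀ i, deg i = ∑ μ, mL i μ + e * ∑ ξ, d ξ * mT i ξ)
    (hK : 1 + Fintype.card T + e ≤ Fintype.card I) :
    (∀ ξ', mT (Λ ξ₁) ξ' = if ξ' = ξ₁ then 1 else 0) ∧ ∀ μ, mL (Λ ξ₁) μ = 0 := by
  classical
  have hε0 : ε ≠ 0 := by rcases hε with h | h <;> rw [h] <;> norm_num
  have hε2 : ε * ε = 1 := by rcases hε with h | h <;> rw [h] <;> norm_num
  -- there is another element of T
  have hex : ∃ ξ₂, ξ₂ ≠ ξ₁ := by
    by_contra hcon
    push Not at hcon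
    have : ∑ ξ, d ξ ^ 2 = 1 := by
      rw [Finset.sum_eq_single ξ₁]
      · rw [hd1]; norm_num
      · intro b _ hb; exact absurd (hcon b) hb
      · intro hh; exact absurd (mem_univ _) hh
    omega
  obtain ⟨ξ₂, hξ₂⟩ := hex
  -- Λ avoids i₀
  have hΛ0 : ∀ ξ, Λ ξ ≠ i₀ := by
    have key : ∀ ξ, ((if i₀ = Λ ξ then 1 else 0 : ℤ)) = d ξ * (if i₀ = Λ ξ₁ then 1 else 0) := by
      intro ξ
      have := hR i₀ ξ
      rw [h0, h0] at this
      have h2 : ε * ((if i₀ = Λ ξ then 1 else 0) - (d ξ : ℤ) * (if i₀ = Λ ξ₁ then 1 else 0)) = 0 := by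
        simpa using this.symm
      rcases mul_eq_zero.mp h2 with h3 | h3
      · exact absurd h3 hε0
      · linarith
    have h1 : i₀ ≠ Λ ξ₁ := by
      intro hh
      have := key ξ₂
      rw [if_pos hh, if_neg] at this
      · have hp := hdpos ξ₂
        have : (d ξ₂ : ℤ) = 0 := by linarith
        omega
      · intro h2
        exact hξ₂ (hΛinj (h2.symm.trans hh))
    intro ξ hh
    have := key ξ
    rw [if_pos hh.symm, if_neg h1] at this
    simp at this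
  set O : Finset I := univ.filter (fun i => i ≠ i₀ ∧ ∀ ζ, i ≠ Λ ζ) with hO
  have hmemO : ∀ i, i ∈ O ↔ (i ≠ i₀ ∧ ∀ ζ, i ≠ Λ ζ) := by
    intro i; rw [hO, mem_filter]; simp
  have hsplit := sum_split Λ i₀ hΛinj hΛ0
  -- rows
  set c : I → ℤ := fun i => (mT i ξ₁ : ℤ) with hc
  set k : T → ℤ := fun ζ => (mT (Λ ζ) ξ₁ : ℤ) - ε * (if ζ = ξ₁ then 1 else 0) with hk
  have hrowO : ∀ i ∈ O, ∀ ξ, (mT i ξ : ℤ) = d ξ * c i := by
    intro i hi ξ
    obtain ⟨_, h2⟩ := (hmemO i).mp hi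
    rw [hR i ξ, if_neg (h2 ξ), if_neg (h2 ξ₁)]
    simp [hc]
  have hrowΛ : ∀ ζ ξ, (mT (Λ ζ) ξ : ℤ) = d ξ * k ζ + ε * (if ξ = ζ then 1 else 0) := by
    intro ζ ξ
    rw [hR (Λ ζ) ξ, hk]
    have e1 : (if Λ ζ = Λ ξ then (1 : ℤ) else 0) = if ξ = ζ then 1 else 0 := by
      by_cases hh : ξ = ζ
      · rw [if_pos hh, if_pos (by rw [hh])]
      · rw [if_neg hh, if_neg (fun h' => hh (hΛinj h').symm)]
    have e2 : (if Λ ζ = Λ ξ₁ then (1 : ℤ) else 0) = if ζ = ξ₁ then 1 else 0 := by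
      by_cases hh : ζ = ξ₁
      · rw [if_pos hh, if_pos (by rw [hh])]
      · rw [if_neg hh, if_neg (fun h' => hh (hΛinj h'))]
    rw [e1, e2]
    ring
  have hcO : ∀ i ∈ O, 1 ≤ c i := by
    intro i hi
    obtain ⟨h1, _⟩ := (hmemO i).mp hi
    obtain ⟨ξ, hξ⟩ := hne i h1
    have h3 := hrowO i hi ξ
    have h4 : (1 : ℤ) ≤ (mT i ξ : ℤ) := by exact_mod_cast hξ
    have h5 : (0 : ℤ) ≤ c i := by simp [hc]
    by_contra hlt
    push Not at hlt
    have : c i = 0 := by omega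
    rw [this, mul_zero] at h3
    omega
  -- Gram relation in split form
  set C : ℤ := ∑ i ∈ O, c i ^ 2 with hC
  set Q : ℤ := ∑ ζ, k ζ ^ 2 with hQ
  have hgram : ∀ ξ ξ', (d ξ : ℤ) * d ξ' * (C + Q - e) + ε * (d ξ * k ξ' + d ξ' * k ξ) = 0 := by
    intro ξ ξ'
    have h1 := hG1 ξ ξ'
    have h2 : (∑ i, (mT i ξ : ℤ) * (mT i ξ' : ℤ)) = e * d ξ * d ξ' + if ξ = ξ' then 1 else 0 := by
      have := congrArg (fun n : ℕ => (n : ℤ)) h1
      push_cast at this
      rw [this]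
    rw [hsplit (fun i => (mT i ξ : ℤ) * (mT i ξ' : ℤ))] at h2
    simp only [h0, Nat.cast_zero, zero_mul, zero_add] at h2
    have h3 : ∑ i ∈ O, (mT i ξ : ℤ) * (mT i ξ' : ℤ) = d ξ * d ξ' * C := by
      rw [hC, Finset.mul_sum]
      refine Finset.sum_congr rfl fun i hi => ?_
      rw [hrowO i hi ξ, hrowO i hi ξ']
      ring
    have h4 : ∑ ζ, (mT (Λ ζ) ξ : ℤ) * (mT (Λ ζ) ξ' : ℤ) =
        d ξ * d ξ' * Q + ε * (d ξ * k ξ' + d ξ' * k ξ) + if ξ = ξ' then 1 else 0 := by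
      have e1 : ∀ ζ, (mT (Λ ζ) ξ : ℤ) * (mT (Λ ζ) ξ' : ℤ) =
          d ξ * d ξ' * k ζ ^ 2 + ε * d ξ * (k ζ * (if ξ' = ζ then 1 else 0)) +
            ε * d ξ' * (k ζ * (if ξ = ζ then 1 else 0)) +
            (if ξ = ζ then 1 else 0) * (if ξ' = ζ then 1 else 0) := by
        intro ζ
        rw [hrowΛ ζ ξ, hrowΛ ζ ξ']
        have : ε * (if ξ = ζ then (1:ℤ) else 0) * (ε * (if ξ' = ζ then 1 else 0)) =
            (if ξ = ζ then 1 else 0) * (if ξ' = ζ then 1 else 0) := by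
          rw [mul_mul_mul_comm, hε2, one_mul]
        linear_combination this
      rw [Finset.sum_congr rfl fun ζ _ => e1 ζ]
      simp only [Finset.sum_add_distrib, ← Finset.mul_sum]
      have e2 : ∑ ζ, k ζ * (if ξ' = ζ then (1:ℤ) else 0) = k ξ' := by
        simp [Finset.sum_ite_eq]
      have e3 : ∑ ζ, k ζ * (if ξ = ζ then (1:ℤ) else 0) = k ξ := by
        simp [Finset.sum_ite_eq]
      have e4 : ∑ ζ, (if ξ = ζ then (1:ℤ) else 0) * (if ξ' = ζ then 1 else 0) =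
          if ξ = ξ' then 1 else 0 := by
        simp only [ite_mul, one_mul, zero_mul]
        rw [Finset.sum_ite_eq]
        simp only [mem_univ, if_true]
        by_cases hh : ξ = ξ'
        · rw [if_pos hh, if_pos hh.symm]
        · rw [if_neg hh, if_neg (fun h' => hh h'.symm)]
      rw [e2, e3, e4, hQ]
      ring
    rw [h3, h4] at h2
    linarith
  -- s
  set s : ℤ := C + Q - e with hs
  have hk2 : ∀ ξ, 2 * k ξ = -ε * d ξ * s := by
    intro ξ
    have h1 := hgram ξ ξ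
    have hdξ : (d ξ : ℤ) ≠ 0 := by
      have := hdpos ξ
      exact_mod_cast this.ne'
    have h2 : (d ξ : ℤ) * (d ξ * s + 2 * ε * k ξ) = 0 := by linarith
    rcases mul_eq_zero.mp h2 with h3 | h3
    · exact absurd h3 hdξ
    · have : ε * (d ξ * s + 2 * ε * k ξ) = 0 := by rw [h3, mul_zero]
      have h4 : ε * d ξ * s + 2 * (ε * ε) * k ξ = 0 := by linarith
      rw [hε2] at h4
      linarith
  have hQs : 4 * Q = m * s ^ 2 := by
    rw [hQ, Finset.mul_sum]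
    have : ∀ ζ, 4 * k ζ ^ 2 = (d ζ : ℤ) ^ 2 * s ^ 2 := by
      intro ζ
      have h1 := hk2 ζ
      have : (2 * k ζ) ^ 2 = (-ε * d ζ * s) ^ 2 := by rw [h1]
      have h2 : (-ε * (d ζ : ℤ) * s) ^ 2 = (ε * ε) * (d ζ : ℤ) ^ 2 * s ^ 2 := by ring
      rw [h2, hε2] at this
      linarith
    rw [Finset.sum_congr rfl fun ζ _ => this ζ, ← Finset.sum_mul]
    have : (∑ ζ, (d ζ : ℤ) ^ 2) = m := by
      have := congrArg (fun n : ℕ => (n : ℤ)) hm
      push_cast at this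
      exact this
    rw [this]
  -- |O| ≥ e
  have hOcard : (e : ℤ) ≤ O.card := by
    have h1 : O.card + (1 + Fintype.card T) = Fintype.card I := by
      have := hsplit (fun _ => (1 : ℤ))
      simp only [Finset.sum_const, Finset.card_univ, nsmul_eq_mul, mul_one] at this
      have h2 : (Fintype.card I : ℤ) = 1 + Fintype.card T + O.card := by
        rw [this]
      omega
    have : e ≤ O.card := by omega
    exact_mod_cast this
  have hCO : (O.card : ℤ) ≤ C := by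
    rw [hC, Finset.card_eq_sum_ones]
    push_cast
    apply Finset.sum_le_sum
    intro i hi
    have := hcO i hi
    nlinarith
  -- s = 0
  have hs0 : s = 0 := by
    have h1 : 4 * C = 4 * e + 4 * s - m * s ^ 2 := by
      have : C = s - Q + e := by rw [hs]; ring
      linarith
    have h2 : 4 * (e : ℤ) ≤ 4 * C := by linarith
    have h3 : (m : ℤ) * s ^ 2 ≤ 4 * s := by linarith
    have hm3' : (3 : ℤ) ≤ m := by exact_mod_cast hm3
    have h4 : 0 ≤ s := by nlinarith [sq_nonneg s]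
    by_contra hne0
    have h5 : 1 ≤ s := by omega
    have h6 : s ≤ 1 := by
      by_contra hh
      push Not at hh
      have : 2 ≤ s := by omega
      nlinarith
    have h7 : s = 1 := by omega
    have h8 := hk2 ξ₁
    rw [h7, hd1] at h8
    rcases hε with h | h <;> rw [h] at h8 <;> omega
  have hk0 : ∀ ξ, k ξ = 0 := by
    intro ξ
    have := hk2 ξ
    rw [hs0, mul_zero] at this
    omega
  have hrowΛ' : ∀ ζ ξ, (mT (Λ ζ) ξ : ℤ) = ε * (if ξ = ζ then 1 else 0) := by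
    intro ζ ξ
    rw [hrowΛ ζ ξ, hk0, mul_zero, zero_add]
  have hε1 : ε = 1 := by
    rcases hε with h | h
    · exact h
    · exfalso
      have := hrowΛ' ξ₁ ξ₁
      rw [if_pos rfl, h] at this
      have h2 : (0 : ℤ) ≤ (mT (Λ ξ₁) ξ₁ : ℤ) := Int.natCast_nonneg _
      omega
  have hrowΛ'' : ∀ ζ ξ, mT (Λ ζ) ξ = if ξ = ζ then 1 else 0 := by
    intro ζ ξ
    have := hrowΛ' ζ ξ
    rw [hε1, one_mul] at this
    split_ifs at this ⊢ with hh <;> exact_mod_cast this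
  -- all c = 1 on O, and |O| = e
  have hQ0 : Q = 0 := by
    rw [hQ]
    apply Finset.sum_eq_zero
    intro ζ _
    rw [hk0]; ring
  have hCe : C = e := by
    have : s = C + Q - e := hs
    rw [hs0, hQ0] at this
    linarith
  have hc1 : ∀ i ∈ O, c i = 1 := by
    by_contra hcon
    push Not at hcon
    obtain ⟨j, hj, hj1⟩ := hcon
    have hj2 : 2 ≤ c j := by
      have := hcO j hj
      omega
    have : (O.card : ℤ) < C := by
      rw [hC, Finset.card_eq_sum_ones]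
      push_cast
      apply Finset.sum_lt_sum
      · intro i hi
        have := hcO i hi
        nlinarith
      · exact ⟨j, hj, by nlinarith⟩
    omega
  refine ⟨fun ξ' => hrowΛ'' ξ₁ ξ', ?_⟩
  -- second part
  intro μ
  by_contra hne0
  have hpos : 1 ≤ mL (Λ ξ₁) μ := Nat.one_le_iff_ne_zero.mpr hne0
  have hG2' : ∀ ξ, (mL (Λ ξ) μ : ℤ) + d ξ * ∑ i ∈ O, (mL i μ : ℤ) = d ξ := by
    intro ξ
    have h1 := hG2 ξ μ
    have h2 : (∑ i, (mT i ξ : ℤ) * (mL i μ : ℤ)) = d ξ := by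
      have := congrArg (fun n : ℕ => (n : ℤ)) h1
      push_cast at this
      exact this
    rw [hsplit (fun i => (mT i ξ : ℤ) * (mL i μ : ℤ))] at h2
    simp only [h0, Nat.cast_zero, zero_mul, zero_add] at h2
    have h3 : ∑ ζ, (mT (Λ ζ) ξ : ℤ) * (mL (Λ ζ) μ : ℤ) = mL (Λ ξ) μ := by
      simp only [hrowΛ'']
      rw [Finset.sum_eq_single ξ]
      · simp
      · intro b _ hb
        rw [if_neg (Ne.symm hb)]
        simp
      · intro hh; exact absurd (mem_univ _) hh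
    have h4 : ∑ i ∈ O, (mT i ξ : ℤ) * (mL i μ : ℤ) = d ξ * ∑ i ∈ O, (mL i μ : ℤ) := by
      rw [Finset.mul_sum]
      refine Finset.sum_congr rfl fun i hi => ?_
      rw [hrowO i hi ξ, hc1 i hi, mul_one]
    rw [h3, h4] at h2
    exact h2
  have hOnn : (0 : ℤ) ≤ ∑ i ∈ O, (mL i μ : ℤ) :=
    Finset.sum_nonneg fun i _ => Int.natCast_nonneg _
  have hO0 : ∑ i ∈ O, (mL i μ : ℤ) = 0 := by
    have := hG2' ξ₁
    rw [hd1] at this
    have hp : (1 : ℤ) ≤ (mL (Λ ξ₁) μ : ℤ) := by exact_mod_cast hpos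
    push_cast at this
    omega
  have hmLΛ : ∀ ξ, mL (Λ ξ) μ = d ξ := by
    intro ξ
    have := hG2' ξ
    rw [hO0, mul_zero, add_zero] at this
    exact_mod_cast this
  have hdegΛ : ∀ ξ, d ξ * (e + 1) ≤ deg (Λ ξ) := by
    intro ξ
    rw [hA]
    have h1 : d ξ ≤ ∑ μ', mL (Λ ξ) μ' := by
      rw [← hmLΛ ξ]
      exact Finset.single_le_sum (f := fun μ' => mL (Λ ξ) μ') (fun _ _ => Nat.zero_le _)
        (mem_univ μ)
    have h2 : ∑ ξ', d ξ' * mT (Λ ξ) ξ' = d ξ := by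
      simp only [hrowΛ'']
      rw [Finset.sum_eq_single ξ]
      · simp
      · intro b _ hb
        rw [if_neg hb, mul_zero]
      · intro hh; exact absurd (mem_univ _) hh
    rw [h2]
    nlinarith
  have h5 := hHL μ
  have h6 : ∑ ξ, d ξ * (d ξ * (e + 1)) ≤ ∑ i, mL i μ * deg i := by
    calc ∑ ξ, d ξ * (d ξ * (e + 1)) ≤ ∑ ξ, mL (Λ ξ) μ * deg (Λ ξ) := by
          apply Finset.sum_le_sum
          intro ξ _
          rw [hmLΛ ξ]
          exact Nat.mul_le_mul_left _ (hdegΛ ξ)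
      _ = ∑ i ∈ univ.image Λ, mL i μ * deg i := by
          rw [Finset.sum_image]
          intro a _ b _ hab
          exact hΛinj hab
      _ ≤ ∑ i, mL i μ * deg i := Finset.sum_le_sum_of_subset (Finset.subset_univ _)
  have h7 : ∑ ξ, d ξ * (d ξ * (e + 1)) = m * (e + 1) := by
    rw [← hm, Finset.sum_mul]
    refine Finset.sum_congr rfl fun ξ _ => ?_
    ring
  rw [h7, h5] at h6
  have : m * (e + 1) = m * e + m := by ring
  omega

end Cfsg.Agent.Lib.helper6.FeitNAComb
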