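import Mathlib
import Cfsg.Prelude.Def_OddOrderChar
import Cfsg.Agent.Lib.helper6.FeitNA3
import Cfsg.Agent.Lib.helper6.FeitNAComb
import Cfsg.Agent.S0133

set_option autoImplicit false
set_option linter.unusedSectionVars false
open scoped ComplexConjugate commutatorElement

namespace Cfsg.Agent.Lib.helper6.FeitNA

open Cfsg.Agent.Lib.helper7 Cfsg.Agent.Lib.helper2 Cfsg.Agent.Lib.Helper25 Cfsg.Agent.Lib.Helper11
open Cfsg.Agent.Lib.helper6.FeitFrob Cfsg.Agent.Lib.helper6.FeitInd Cfsg.Agent.Lib.helper6.FeitMain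
open Cfsg.Agent.Lib.helper6.FeitNAComb

/-- a character induced from a linear character of a normal subgroup is constant on commutators
of that subgroup -/
theorem ind_lin_comm {N : Type*} [Group N] [Fintype N] (F : Subgroup N) [hFn : F.Normal]
    (θ : Cfsg.IrrCharacter F) (h1 : (θ : F → ℂ) 1 = 1) (u v : N) (hu : u ∈ F) (hv : v ∈ F) :
    Cfsg.indFun F (θ : F → ℂ) (u * v * u⁻¹ * v⁻¹) = Cfsg.indFun F (θ : F → ℂ) 1 := by
  unfold Cfsg.indFun
  congr 1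
  refine Finset.sum_congr rfl fun x _ => ?_
  have hu' : x⁻¹ * u * x ∈ F := by
    have := hFn.conj_mem u hu x⁻¹
    simpa using this
  have hv' : x⁻¹ * v * x ∈ F := by
    have := hFn.conj_mem v hv x⁻¹
    simpa using this
  have e1 : x⁻¹ * (u * v * u⁻¹ * v⁻¹) * x =
      ((⁅(⟨x⁻¹ * u * x, hu'⟩ : F), ⟨x⁻¹ * v * x, hv'⟩⁆ : F) : N) := by
    rw [commutatorElement_def]
    simp only [Subgroup.coe_mul, Subgroup.coe_inv]
    group
  have e2 : x⁻¹ * 1 * x = ((1 : F) : N) := by simp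
  rw [e1, e2, h7_extendByZero_mem _ _ _ (SetLike.coe_mem _), h7_extendByZero_mem _ _ _ (SetLike.coe_mem _)]
  simp only [Subtype.coe_eta]
  rw [h1]
  apply irr_linear_commutator θ h1
  rw [commutator_def]
  exact Subgroup.commutator_mem_commutator (Subgroup.mem_top _) (Subgroup.mem_top _)

/-- **Feit's theorem, coherent case**: in a simple group, a Frobenius subgroup `N` of index
`h + 1` with TI kernel `F` of order `h` and abelian complement of order `e`, `3 e ≤ h - 1`,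
for which the exceptional characters are coherent and the class number is large, has an abelian
kernel. -/
theorem feit_coherent_abelian {G : Type*} [Group G] [Fintype G] [IsSimpleGroup G] (N : Subgroup G)
    [Fintype N] (F : Subgroup N) [hFn : F.Normal]
    (hab : ∀ x y : N, x * y * x⁻¹ * y⁻¹ ∈ F)
    (hC : ∀ n ∈ F, n ≠ 1 → Subgroup.centralizer ({n} : Set N) ≤ F)
    (hTI : ∀ u : N, u ∈ F → u ≠ 1 → ∀ x : G, x⁻¹ * (u : G) * x ∈ N → x ∈ N)
    (hsolv : Group.IsSolvable F)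
    (h e m : ℕ) (hF : Nat.card F = h) (hidx : F.index = e) (hN : N.index = h + 1)
    (hme : h = m * e + 1) (hm3 : 3 ≤ m)
    (hcoh : Cfsg.IsCoherent (SF N F) {1}ᶜ (fun α : N → ℂ => Cfsg.indFun N α))
    (hcls : 1 + Nat.card {ξ : Cfsg.IrrCharacter N // IsT F ξ} + e ≤ Nat.card (ConjClasses G)) :
    ∀ u ∈ F, ∀ v ∈ F, u * v = v * u := by
  classical
  have : Fintype F := Fintype.ofFinite F
  have : Fintype (Cfsg.IrrCharacter G) := Fintype.ofFinite _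
  have : Fintype (Cfsg.IrrCharacter N) := Fintype.ofFinite _
  have he0 : 0 < e := e_pos N F e hidx
  have hh1 : 1 < h := by rw [hme]; nlinarith
  have hF1 : F ≠ ⊥ := by
    intro hbot
    rw [hbot, Subgroup.card_bot] at hF
    omega
  obtain ⟨ξ₁, hξ₁, hd1, θ, hθ1, hξθ⟩ := exists_dT_one F hC hF1 hsolv
  -- sums over T
  have hsumT : ∀ f : Cfsg.IrrCharacter N → ℕ,
      ∑ ξ ∈ Finset.univ.filter (fun η : Cfsg.IrrCharacter N => IsT F η), f ξ =
        ∑ ξ : {ξ : Cfsg.IrrCharacter N // IsT F ξ}, f ξ.1 := by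
    intro f
    exact Finset.sum_subtype _ (fun x => by simp) f
  have hsumL : ∀ f : Cfsg.IrrCharacter N → ℕ,
      ∑ μ ∈ Finset.univ.filter (fun η : Cfsg.IrrCharacter N => ¬ IsT F η), f μ =
        ∑ μ : {μ : Cfsg.IrrCharacter N // ¬ IsT F μ}, f μ.1 := by
    intro f
    exact Finset.sum_subtype _ (fun x => by simp) f
  have hm : ∑ ξ : {ξ : Cfsg.IrrCharacter N // IsT F ξ}, dT F ξ.1 ^ 2 = m := by
    have h1 := sum_dT_sq F hab hC
    rw [hidx, hF, hme, hsumT] at h1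
    have h2 : (∑ ξ : {ξ : Cfsg.IrrCharacter N // IsT F ξ}, dT F ξ.1 ^ 2) * e = m * e := by omega
    exact Nat.eq_of_mul_eq_mul_right he0 h2
  have htwo : ∃ ξ₂ : Cfsg.IrrCharacter N, IsT F ξ₂ ∧ ξ₂ ≠ ξ₁ := by
    by_contra hcon
    push Not at hcon
    have : ∑ ξ : {ξ : Cfsg.IrrCharacter N // IsT F ξ}, dT F ξ.1 ^ 2 = 1 := by
      rw [Finset.sum_eq_single (⟨ξ₁, hξ₁⟩ : {ξ : Cfsg.IrrCharacter N // IsT F ξ})]
      · simp only [hd1]; norm_num
      · intro b _ hb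
        exact absurd (Subtype.ext (hcon b.1 b.2)) hb
      · intro hh; exact absurd (Finset.mem_univ _) hh
    omega
  obtain ⟨Λ, ε, hΛinj, hε, hR⟩ := coh_data N F hC hcoh ξ₁ hξ₁ hd1 htwo
  -- the data
  set mT : Cfsg.IrrCharacter G → {ξ : Cfsg.IrrCharacter N // IsT F ξ} → ℕ :=
    fun χ ξ => mult N χ ξ.1 with hmT
  set mL : Cfsg.IrrCharacter G → {μ : Cfsg.IrrCharacter N // ¬ IsT F μ} → ℕ :=
    fun χ μ => mult N χ μ.1 with hmL
  have h0 : ∀ ξ, mT (trivIrr G) ξ = 0 := by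
    intro ξ
    show mult N (trivIrr G) ξ.1 = 0
    rw [multTriv, if_neg]
    intro hh
    exact triv_notT N F (hh ▸ ξ.2)
  have hne : ∀ χ, χ ≠ trivIrr G → ∃ ξ, 1 ≤ mT χ ξ := by
    intro χ hχ
    obtain ⟨ξ, hξ, h1⟩ := neTriv N F hab h hF hh1 hχ
    exact ⟨⟨ξ, hξ⟩, h1⟩
  have hG1 : ∀ ξ ξ', ∑ χ, mT χ ξ * mT χ ξ' =
      e * dT F ξ.1 * dT F ξ'.1 + if ξ = ξ' then 1 else 0 := by
    intro ξ ξ'
    show ∑ χ, mult N χ ξ.1 * mult N χ ξ'.1 = _
    rw [gramTT' N F hC hTI h e hF hidx hN ξ.2 ξ'.2]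
    congr 1
    by_cases hh : ξ = ξ'
    · rw [if_pos hh, if_pos (congrArg Subtype.val hh)]
    · rw [if_neg hh, if_neg (fun h' => hh (Subtype.ext h'))]
  have hG2 : ∀ ξ μ, ∑ χ, mT χ ξ * mL χ μ = dT F ξ.1 := by
    intro ξ μ
    exact gramTL' N F hab hC hTI h e hF hidx hN ξ.2 μ.2
  have hHL : ∀ μ, ∑ χ, mL χ μ * deg χ = h + 1 := fun μ => degL N F hab h hN μ.2
  have hA : ∀ χ, deg χ = ∑ μ, mL χ μ + e * ∑ ξ, dT F ξ.1 * mT χ ξ := by
    intro χ
    rw [degRes' N F hab hC e hidx χ, hsumL, hsumT]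
  have hK : 1 + Fintype.card {ξ : Cfsg.IrrCharacter N // IsT F ξ} + e ≤
      Fintype.card (Cfsg.IrrCharacter G) := by
    rw [← Nat.card_eq_fintype_card, ← Nat.card_eq_fintype_card, Cfsg.Agent.S0133.result]
    exact hcls
  have hR' : ∀ χ ξ, (mT χ ξ : ℤ) = (dT F ξ.1 : ℕ) * mT χ ⟨ξ₁, hξ₁⟩ +
      ε * ((if χ = Λ ξ then 1 else 0) - (dT F ξ.1 : ℕ) * (if χ = Λ ⟨ξ₁, hξ₁⟩ then 1 else 0)) :=
    fun χ ξ => hR χ ξ
  obtain ⟨hrow, hzero⟩ := feitNA_comb mT mL (fun ξ => dT F ξ.1) deg (trivIrr G) ⟨ξ₁, hξ₁⟩ Λ ε h e m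
    hε hd1 (fun ξ => (T_deg' F hC ξ.2).2) hm hme.symm hm3 hΛinj h0 hne hR' hG1 hG2 hHL hA hK
  -- the restriction of Λ ξ₁ is ξ₁
  set Λ₁ := Λ ⟨ξ₁, hξ₁⟩ with hΛ₁
  have hΛmult : ∀ η : Cfsg.IrrCharacter N, (mult N Λ₁ η : ℂ) = if η = ξ₁ then 1 else 0 := by
    intro η
    by_cases hη : IsT F η
    · have h1 : mult N Λ₁ η = if (⟨η, hη⟩ : {ξ : Cfsg.IrrCharacter N // IsT F ξ}) = ⟨ξ₁, hξ₁⟩
          then 1 else 0 := hrow ⟨η, hη⟩
      rw [h1]
      by_cases hh : (⟨η, hη⟩ : {ξ : Cfsg.IrrCharacter N // IsT F ξ}) = ⟨ξ₁, hξ₁⟩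
      · rw [if_pos hh, if_pos (congrArg Subtype.val hh)]; simp
      · rw [if_neg hh, if_neg (fun h' => hh (Subtype.ext h'))]; simp
    · have h1 : mult N Λ₁ η = 0 := hzero ⟨η, hη⟩
      rw [h1, if_neg]
      · simp
      · intro hh
        exact hη (hh ▸ hξ₁)
  have hres : res N (Λ₁ : G → ℂ) = (ξ₁ : N → ℂ) := res_Lam N Λ₁ ξ₁ hΛmult
  have hΛne : Λ₁ ≠ trivIrr G := by
    intro hh
    have h1 := hrow ⟨ξ₁, hξ₁⟩
    rw [if_pos rfl] at h1
    have h2 := h0 ⟨ξ₁, hξ₁⟩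
    rw [← hh] at h2
    omega
  have hker : irrKer Λ₁ = ⊥ := by
    rcases IsSimpleGroup.eq_bot_or_eq_top_of_normal (irrKer Λ₁) (irrKer_normal Λ₁) with hb | ht
    · exact hb
    · exfalso
      have hall : ∀ g : G, (Λ₁ : G → ℂ) g = (Λ₁ : G → ℂ) 1 := by
        intro g
        rw [← mem_irrKer, ht]
        exact Subgroup.mem_top g
      have h3 := irr_classInner Λ₁ (trivIrr G)
      rw [if_neg hΛne] at h3
      unfold Cfsg.classInner at h3
      simp only [trivIrr_apply, map_one, mul_one, hall, Finset.sum_const, Finset.card_univ,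
        nsmul_eq_mul] at h3
      have hG0 : (Nat.card G : ℂ) ≠ 0 := by exact_mod_cast (Nat.card_pos (α := G)).ne'
      rw [← Nat.card_eq_fintype_card, ← mul_assoc, inv_mul_cancel₀ hG0, one_mul] at h3
      exact irr_one_ne_zero Λ₁ h3
  intro u hu v hv
  have h1 : ((u * v * u⁻¹ * v⁻¹ : N) : G) ∈ irrKer Λ₁ := by
    rw [mem_irrKer]
    have e1 : (Λ₁ : G → ℂ) ((u * v * u⁻¹ * v⁻¹ : N) : G) = res N (Λ₁ : G → ℂ) (u * v * u⁻¹ * v⁻¹) := rfl
    have e2 : (Λ₁ : G → ℂ) 1 = res N (Λ₁ : G → ℂ) 1 := rfl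
    rw [e1, e2, hres, hξθ]
    exact ind_lin_comm F θ hθ1 u v hu hv
  rw [hker, Subgroup.mem_bot] at h1
  have h2 : u * v * u⁻¹ * v⁻¹ = 1 := by
    apply Subtype.ext
    simpa using h1
  have : u * v = (u * v * u⁻¹ * v⁻¹) * (v * u) := by group
  rw [this, h2, one_mul]

end Cfsg.Agent.Lib.helper6.FeitNA
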