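import Mathlib
import Cfsg.Prelude.Def_Characters
import Cfsg.Agent.Lib.helper6.FeitNA1
import Cfsg.Agent.S0133

set_option autoImplicit false
set_option linter.unusedSectionVars false

namespace Cfsg.Agent.Lib.helper6.FeitNA

open Cfsg.Agent.Lib.helper7 Cfsg.Agent.Lib.helper2 Cfsg.Agent.Lib.Helper25 Cfsg.Agent.Lib.Helper11
open Cfsg.Agent.Lib.helper6.FeitFrob Cfsg.Agent.Lib.helper6.FeitMain

section Coset

variable {N : Type*} [Group N] [Finite N] (F : Subgroup N) [hFn : F.Normal]
  (hC : ∀ n ∈ F, n ≠ 1 → Subgroup.centralizer ({n} : Set N) ≤ F)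

include hC in
/-- in a Frobenius group, elements of the same coset of the kernel outside the kernel are
conjugate -/
theorem coset_conj {n n' : N} (hn : n ∉ F) (hnn : n⁻¹ * n' ∈ F) :
    ∃ v ∈ F, v⁻¹ * n * v = n' := by
  classical
  have hmem : ∀ v : F, n⁻¹ * (v : N)⁻¹ * n * (v : N) ∈ F := by
    intro v
    have h1 : n⁻¹ * (v : N)⁻¹ * n ∈ F := by
      have := hFn.conj_mem _ (F.inv_mem v.2) n⁻¹
      simpa [mul_assoc] using this
    exact F.mul_mem h1 v.2
  let γ : F → F := fun v => ⟨_, hmem v⟩
  have hinj : Function.Injective γ := by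
    intro v w hvw
    have h1 : n⁻¹ * (v : N)⁻¹ * n * (v : N) = n⁻¹ * (w : N)⁻¹ * n * (w : N) :=
      congrArg Subtype.val hvw
    set z : N := (v : N) * (w : N)⁻¹ with hz
    have hzF : z ∈ F := F.mul_mem v.2 (F.inv_mem w.2)
    have h2 : n * z = z * n := by
      have e1 : (v : N)⁻¹ * n * (v : N) = (w : N)⁻¹ * n * (w : N) := by
        have := congrArg (fun t => n * t) h1
        simpa [mul_assoc] using this
      have e2 : n = (v : N) * ((v : N)⁻¹ * n * (v : N)) * (v : N)⁻¹ := by group
      rw [hz]
      calc n * ((v : N) * (w : N)⁻¹)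
          = (v : N) * ((v : N)⁻¹ * n * (v : N)) * (w : N)⁻¹ := by group
        _ = (v : N) * ((w : N)⁻¹ * n * (w : N)) * (w : N)⁻¹ := by rw [e1]
        _ = (v : N) * (w : N)⁻¹ * n := by group
    by_contra hne
    have hz1 : z ≠ 1 := by
      intro h
      apply hne
      apply Subtype.ext
      have : (v : N) = z * (w : N) := by rw [hz]; group
      rw [this, h, one_mul]
    have : n ∈ Subgroup.centralizer ({z} : Set N) := by
      rw [Subgroup.mem_centralizer_iff]
      intro y hy
      rw [Set.mem_singleton_iff] at hy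
      rw [hy]
      exact h2.symm
    exact hn (hC z hzF hz1 this)
  have hsurj : Function.Surjective γ := Finite.surjective_of_injective hinj
  obtain ⟨v, hv⟩ := hsurj ⟨n⁻¹ * n', hnn⟩
  refine ⟨v, v.2, ?_⟩
  have h1 : n⁻¹ * (v : N)⁻¹ * n * (v : N) = n⁻¹ * n' := congrArg Subtype.val hv
  have := congrArg (fun t => n * t) h1
  simpa [mul_assoc] using this

end Coset

section Count

variable {G : Type*} [Group G] [Fintype G] (N : Subgroup G) [Fintype N]
  (K : Subgroup G) (hKN : K ≤ N)

/-- class count: the classes of `G` outside the identity class, the classes meeting `K - 1`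
and the classes avoiding `K` -/
theorem class_count_abs [hFn : (K.subgroupOf N).Normal]
    (hab : ∀ x y : N, x * y * x⁻¹ * y⁻¹ ∈ K.subgroupOf N)
    (hC : ∀ n ∈ K.subgroupOf N, n ≠ 1 → Subgroup.centralizer ({n} : Set N) ≤ K.subgroupOf N)
    (hTI : ∀ u : N, u ∈ K.subgroupOf N → u ≠ 1 → ∀ x : G, x⁻¹ * (u : G) * x ∈ N → x ∈ N)
    (e : ℕ) (hidx : (K.subgroupOf N).index = e) (m : ℕ)
    (hm : m ≤ Nat.card {C : ConjClasses G // ∀ g : G, ConjClasses.mk g = C → g ∉ K}) :
    1 + Nat.card {ξ : Cfsg.IrrCharacter N // IsT (K.subgroupOf N) ξ} + m ≤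
      Nat.card (ConjClasses G) := by
  classical
  set F := K.subgroupOf N with hF
  have : Fintype F := Fintype.ofFinite F
  have : Fintype (Cfsg.IrrCharacter N) := Fintype.ofFinite _
  have : Fintype (ConjClasses N) := Fintype.ofFinite _
  have : Fintype (N ⧸ F) := Fintype.ofFinite _
  -- number of irreducible characters of N
  have hcardL : (Finset.univ.filter (fun η : Cfsg.IrrCharacter N => ¬ IsT F η)).card = e := by
    have h1 := card_L F hab
    rw [hidx] at h1
    exact_mod_cast h1
  have hirrN : Fintype.card {ξ : Cfsg.IrrCharacter N // IsT F ξ} + e =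
      Fintype.card (ConjClasses N) := by
    rw [← Nat.card_eq_fintype_card (α := ConjClasses N), ← Cfsg.Agent.S0133.result,
      Nat.card_eq_fintype_card, Fintype.card_subtype, ← hcardL,
      Finset.card_filter_add_card_filter_not, Finset.card_univ]
  -- the classes of G meeting K - 1
  set A : Finset (ConjClasses G) :=
    Finset.univ.filter (fun C => ∃ u : G, u ∈ K ∧ u ≠ 1 ∧ ConjClasses.mk u = C) with hA
  set D : Finset (ConjClasses G) :=
    Finset.univ.filter (fun C => ∀ g : G, ConjClasses.mk g = C → g ∉ K) with hD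
  -- the map on N
  let f : N → ConjClasses G ⊕ (N ⧸ F) := fun n =>
    if n ∈ F then Sum.inl (ConjClasses.mk (n : G)) else Sum.inr (QuotientGroup.mk n)
  have hf : ∀ n n' : N, f n = f n' → IsConj n n' := by
    intro n n' hnn
    by_cases hn : n ∈ F
    · have hn' : n' ∈ F := by
        by_contra hn'
        simp only [f, if_pos hn, if_neg hn'] at hnn
        exact Sum.inl_ne_inr hnn
      simp only [f, if_pos hn, if_pos hn'] at hnn
      have hc : IsConj (n : G) (n' : G) := ConjClasses.mk_eq_mk_iff_isConj.mp (Sum.inl.inj hnn)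
      by_cases hn1 : n = 1
      · rw [hn1] at hc ⊢
        have h2 : (n' : G) = 1 := by
          have h3 : IsConj (1 : G) (n' : G) := by simpa using hc
          exact isConj_one_right.mp h3
        have : n' = 1 := Subtype.ext h2
        rw [this]
      · obtain ⟨c, hc⟩ := isConj_iff.mp hc
        have h1 : (c⁻¹)⁻¹ * (n : G) * c⁻¹ ∈ N := by
          rw [inv_inv, hc]
          exact n'.2
        have hcN : c ∈ N := by
          have := hTI n hn hn1 c⁻¹ h1
          simpa using this
        rw [isConj_iff]
        refine ⟨⟨c, hcN⟩, ?_⟩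
        apply Subtype.ext
        simpa using hc
    · have hn' : n' ∉ F := by
        intro hn'
        simp only [f, if_neg hn, if_pos hn'] at hnn
        exact Sum.inr_ne_inl hnn
      simp only [f, if_neg hn, if_neg hn'] at hnn
      have h1 : (QuotientGroup.mk n : N ⧸ F) = QuotientGroup.mk n' := Sum.inr.inj hnn
      have h2 : n⁻¹ * n' ∈ F := QuotientGroup.eq.mp h1
      obtain ⟨v, hv, hvn⟩ := coset_conj F hC hn h2
      rw [isConj_iff]
      refine ⟨v⁻¹, ?_⟩
      rw [inv_inv]
      exact hvn
  -- injection of the classes of N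
  let r : ConjClasses N → N := fun C => Quotient.out C
  have hr : ∀ C : ConjClasses N, ConjClasses.mk (r C) = C := fun C => Quotient.out_eq C
  have hinj : Function.Injective (fun C : ConjClasses N => f (r C)) := by
    intro C C' hCC
    have := hf _ _ hCC
    rw [← hr C, ← hr C']
    exact ConjClasses.mk_eq_mk_iff_isConj.mpr this
  set S : Finset (ConjClasses G ⊕ (N ⧸ F)) :=
    (insert (ConjClasses.mk (1 : G)) A).image Sum.inl ∪
      (Finset.univ.filter (fun q : N ⧸ F => q ≠ 1)).image Sum.inr with hS
  have himg : ∀ C : ConjClasses N, f (r C) ∈ S := by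
    intro C
    by_cases hn : r C ∈ F
    · simp only [f, if_pos hn]
      rw [hS]
      apply Finset.mem_union_left
      apply Finset.mem_image_of_mem
      by_cases h1 : r C = 1
      · rw [h1]
        exact Finset.mem_insert_self _ _
      · apply Finset.mem_insert_of_mem
        rw [hA, Finset.mem_filter]
        refine ⟨Finset.mem_univ _, ((r C : N) : G), hn, ?_, rfl⟩
        intro h
        exact h1 (Subtype.ext h)
    · simp only [f, if_neg hn]
      rw [hS]
      apply Finset.mem_union_right
      apply Finset.mem_image_of_mem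
      rw [Finset.mem_filter]
      refine ⟨Finset.mem_univ _, ?_⟩
      intro h
      exact hn ((QuotientGroup.eq_one_iff _).mp h)
  have hcardN : Fintype.card (ConjClasses N) ≤ S.card := by
    rw [← Finset.card_univ]
    exact Finset.card_le_card_of_injOn (fun C => f (r C)) (fun C _ => himg C)
      (fun C _ C' _ h => hinj h)
  have hquot : (Finset.univ.filter (fun q : N ⧸ F => q ≠ 1)).card + 1 = e := by
    rw [Finset.filter_ne' Finset.univ (1 : N ⧸ F), Finset.card_erase_of_mem (Finset.mem_univ _),
      Finset.card_univ, ← Nat.card_eq_fintype_card, ← Subgroup.index_eq_card, hidx]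
    have : 0 < e := by
      rw [← hidx]; exact Nat.pos_of_ne_zero Subgroup.index_ne_zero_of_finite
    omega
  have hScard : S.card ≤ (1 + A.card) + (Finset.univ.filter (fun q : N ⧸ F => q ≠ 1)).card := by
    rw [hS]
    refine le_trans (Finset.card_union_le _ _) ?_
    apply Nat.add_le_add
    · refine le_trans Finset.card_image_le ?_
      refine le_trans (Finset.card_insert_le _ _) ?_
      omega
    · exact Finset.card_image_le
  have htA : Fintype.card {ξ : Cfsg.IrrCharacter N // IsT F ξ} ≤ A.card := by omega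
  -- the three families
  have hDcard : m ≤ D.card := by
    rw [hD, ← Fintype.card_subtype, ← Nat.card_eq_fintype_card]
    exact hm
  have h1A : ConjClasses.mk (1 : G) ∉ A := by
    intro h
    obtain ⟨u, _, hu1, hfu⟩ := (Finset.mem_filter.mp h).2
    have hconj : IsConj (u : G) 1 := ConjClasses.mk_eq_mk_iff_isConj.mp hfu
    exact hu1 (isConj_one_right.mp hconj.symm)
  have h1D : ConjClasses.mk (1 : G) ∉ D := by
    intro h
    exact (Finset.mem_filter.mp h).2 1 rfl K.one_mem
  have hAD : Disjoint (insert (ConjClasses.mk (1 : G)) A) D := by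
    rw [Finset.disjoint_left]
    intro C hC hCD
    rcases Finset.mem_insert.mp hC with rfl | hCA
    · exact h1D hCD
    · obtain ⟨u, hu, _, hfu⟩ := (Finset.mem_filter.mp hCA).2
      exact (Finset.mem_filter.mp hCD).2 u hfu hu
  have hcard : (insert (ConjClasses.mk (1 : G)) A ∪ D).card = 1 + A.card + D.card := by
    rw [Finset.card_union_of_disjoint hAD, Finset.card_insert_of_notMem h1A]
    ring
  have hle : (insert (ConjClasses.mk (1 : G)) A ∪ D).card ≤ Fintype.card (ConjClasses G) := by
    rw [← Finset.card_univ]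
    exact Finset.card_le_card (Finset.subset_univ _)
  rw [Nat.card_eq_fintype_card, Nat.card_eq_fintype_card]
  omega

end Count

end Cfsg.Agent.Lib.helper6.FeitNA
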