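import Mathlib
import Cfsg.Agent.Lib.helper6.ZassFeitNA
import Cfsg.Agent.Lib.helper6.FeitNA4
import Cfsg.Agent.Lib.helper6.FeitNA5
import Cfsg.Agent.S1534
import Cfsg.Agent.S0878

set_option autoImplicit false

namespace Cfsg.Agent.Lib.helper6.ZassFeitNA

open MulAction Cfsg.Agent.Lib.helper6.ZassPSL3 Cfsg.Agent.Lib.helper6.ZassFeit
  Cfsg.Agent.Lib.helper6.ZassNormal Cfsg.Agent.Lib.helper6.ZassInvol
open Cfsg.Agent.Lib.helper6.FeitFrob Cfsg.Agent.Lib.helper6.FeitNA

/-- **Feit's theorem** for simple Zassenhaus groups with odd two-point stabilisers. -/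
theorem feit_simple {G Ω : Type*} [Group G] [Finite G] [MulAction G Ω] [Fintype Ω]
    (hZ : Cfsg.IsZassenhausGroup G Ω) [IsSimpleGroup G] {a b : Ω} (hab : a ≠ b) (h e : ℕ)
    (hh : Fintype.card Ω = h + 1)
    (he : Nat.card ↥(stabilizer G a ⊓ stabilizer G b : Subgroup G) = e) (hodd : Odd e)
    (hlt : 2 * e < h - 1) (H : Subgroup G) (hHa : H ≤ stabilizer G a)
    (hHcard : Nat.card H + 1 = Fintype.card Ω)
    (hHfix : ∀ u ∈ H, u ≠ 1 → ∀ c : Ω, u • c = c → c = a) :
    IsPGroup 2 H ∧ (∃ u v : H, u * v ≠ v * u) ∧ (commutator H).index ≤ 4 * e ^ 2 + 1 := by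
  classical
  have : Fintype G := Fintype.ofFinite G
  obtain ⟨Z, hnil⟩ := zk_of_H hZ hab H hHa hHcard hHfix
  obtain ⟨hTI0, hNeq⟩ := Cfsg.Agent.S0878.result hZ a H hHa hHcard hHfix
  have hHh : Nat.card H = h := by omega
  have he0 : 0 < e := by rw [← he]; exact Nat.card_pos
  have he2 : 2 ≤ e := by
    obtain ⟨g, hg1, a', b', hab', hga, hgb⟩ := hZ.2.2.2.1
    rw [← he, ← card_pair hZ hab hab']
    have : Nontrivial ↥(stabilizer G a' ⊓ stabilizer G b' : Subgroup G) := by
      refine ⟨⟨⟨g, Subgroup.mem_inf.mpr ⟨mem_stabilizer_iff.mpr hga, mem_stabilizer_iff.mpr hgb⟩⟩,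
        1, ?_⟩⟩
      intro h
      exact hg1 (congrArg Subtype.val h)
    exact Finite.one_lt_card
  have hodd' : Odd (Nat.card ↥(stabilizer G a ⊓ stabilizer G b : Subgroup G)) := by
    rw [he]; exact hodd
  -- nonabelian
  have hnonab : ∃ u v : H, u * v ≠ v * u := by
    by_contra hcon
    push Not at hcon
    have kcomm : ∀ x ∈ H, ∀ y ∈ H, x * y = y * x := fun x hx y hy =>
      congrArg Subtype.val (hcon ⟨x, hx⟩ ⟨y, hy⟩)
    have := simple_odd_bound hZ Z kcomm hodd'
    rw [he, hh] at this
    omega
  -- the normaliser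
  set N := Subgroup.normalizer (H : Set G) with hNdef
  have : Fintype N := Fintype.ofFinite N
  have hmemN : ∀ g : G, g ∈ N ↔ g • a = a := by
    intro g
    rw [hNeq, mem_stabilizer_iff]
  have hHN : H ≤ N := by
    rw [hNeq]; exact hHa
  haveI : IsPretransitive G Ω :=
    @isPretransitive_of_is_two_pretransitive G Ω _ _ hZ.2.1
  have hNidx : N.index = h + 1 := by
    rw [hNeq, index_stabilizer_of_transitive, Nat.card_eq_fintype_card]
    exact hh
  set F : Subgroup N := H.subgroupOf N with hF
  have hFcard : Nat.card F = h := by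
    rw [← hHh]
    exact Nat.card_congr (Subgroup.subgroupOfEquivOfLe hHN).toEquiv
  have hNcard : Nat.card N = h * e := by
    have h2 := Subgroup.index_mul_card N
    have h3 := Cfsg.Agent.Lib.helper6.ZassClass.card_G hZ.2.1 hab
    rw [hNidx, h3, he, hh] at h2
    have : (h + 1) * Nat.card N = (h + 1) * (h * e) := by
      rw [h2, Nat.add_sub_cancel]
    exact Nat.eq_of_mul_eq_mul_left (by omega) this
  have hFidx : F.index = e := by
    have h1 := Subgroup.index_mul_card F
    rw [hFcard, hNcard, mul_comm h e] at h1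
    have h1pos : 0 < h := by rw [← hHh]; exact Nat.card_pos
    exact Nat.eq_of_mul_eq_mul_right h1pos h1
  have hK1 : H ≠ ⊥ := by
    intro hbot
    rw [hbot, Subgroup.card_bot] at hHh
    omega
  have hTI : Cfsg.IsTISubset (H : Set G) := by
    intro g hg x hx hgx
    refine hTI0 g ?_ x hx hgx
    rw [← hNeq]
    exact hg
  have hltN : H < N := by
    refine lt_of_le_of_ne hHN ?_
    intro hEq
    have h1 : Nat.card N = h := by rw [← hEq]; exact hHh
    rw [hNcard] at h1
    have h1pos : 0 < h := by rw [← hHh]; exact Nat.card_pos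
    have h6 : e = 1 := by
      have : h * e = h * 1 := by rw [h1, mul_one]
      exact Nat.eq_of_mul_eq_mul_left h1pos this
    omega
  have hCG : ∀ k ∈ H, k ≠ 1 → Subgroup.centralizer ({k} : Set G) ≤ H := by
    intro k hk hk1 g hg
    have hc : k * g = g * k := Subgroup.mem_centralizer_iff.mp hg k (Set.mem_singleton k)
    have hga : g • a = a := by
      apply kernel_TI Z hk hk1
      have : g⁻¹ * k * g = k := by
        rw [mul_assoc, hc, ← mul_assoc, inv_mul_cancel, one_mul]
      rw [this]
      exact Z.kfix k hk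
    exact kernel_cent' Z hk hk1 hga hc.symm
  have key : IsPGroup 2 H ∧ (commutator H).index ≤ 4 * e ^ 2 + 1 := by
    rcases Cfsg.Agent.S1534.result H hK1 hnil hTI hltN hCG with h1 | h2 | h3
    · exfalso
      obtain ⟨-, h1, -⟩ := h1
      rw [hHh] at h1
      have : (H.subgroupOf (Subgroup.normalizer (H : Set G))).index = e := hFidx
      rw [this] at h1
      omega
    · obtain ⟨h2a, h2b⟩ := h2
      refine ⟨IsPGroup.of_card h2a, ?_⟩
      have e1 : (⁅H, H⁆.subgroupOf H) = commutator H := by
        rw [commutator_def, ← Subgroup.map_subtype_commutator, Subgroup.subgroupOf,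
          Subgroup.comap_map_eq_self_of_injective (Subgroup.subtype_injective H), commutator_def]
      have : (H.subgroupOf (Subgroup.normalizer (H : Set G))).index = e := hFidx
      rw [e1, this] at h2b
      omega
    · exfalso
      -- the coherent case
      have hFn : F.Normal := by
        constructor
        intro n hn g
        rw [hF, Subgroup.mem_subgroupOf] at hn ⊢
        have hg : (g : G) • a = a := (hmemN _).mp g.2
        have := Z.knorm (g : G) hg (n : G) hn
        simpa using this
      -- two-point stabiliser is commutative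
      have hnilq : ∀ q : ℕ, q.Prime → q ∣ Nat.card ↥(stabilizer G a ⊓ stabilizer G b) →
          ¬ ∃ M : Subgroup G, M.Normal ∧ M.index = q ^ (Nat.card G).factorization q := by
        intro q hq hqd
        apply no_compl hZ hab q hq
        · rintro rfl
          exact (Nat.not_even_iff_odd.mpr hodd') (even_iff_two_dvd.mpr hqd)
        · exact hqd.trans (Subgroup.card_subgroup_dvd_card _)
      have hcyc := (Cfsg.Agent.S0739.result hZ hab hodd' hnilq).1
      have hEcomm : ∀ k k' : G, k • a = a → k • b = b → k' • a = a → k' • b = b →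
          k * k' = k' * k := by
        intro k k' h1 h2 h3 h4
        haveI := hcyc
        have hk : k ∈ (stabilizer G a ⊓ stabilizer G b : Subgroup G) :=
          Subgroup.mem_inf.mpr ⟨mem_stabilizer_iff.mpr h1, mem_stabilizer_iff.mpr h2⟩
        have hk' : k' ∈ (stabilizer G a ⊓ stabilizer G b : Subgroup G) :=
          Subgroup.mem_inf.mpr ⟨mem_stabilizer_iff.mpr h3, mem_stabilizer_iff.mpr h4⟩
        have := IsCyclic.commGroup.mul_comm (⟨k, hk⟩ : ↥(stabilizer G a ⊓ stabilizer G b : Subgroup G))
          ⟨k', hk'⟩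
        exact congrArg Subtype.val this
      have hab' : ∀ x y : N, x * y * x⁻¹ * y⁻¹ ∈ F := by
        intro x y
        rw [hF, Subgroup.mem_subgroupOf]
        have := comm_mem Z hEcomm ((hmemN _).mp x.2) ((hmemN _).mp y.2)
        simpa using this
      have hC : ∀ n ∈ F, n ≠ 1 → Subgroup.centralizer ({n} : Set N) ≤ F := by
        intro n hn hn1 g hg
        rw [hF, Subgroup.mem_subgroupOf] at hn ⊢
        have hn1' : (n : G) ≠ 1 := fun h => hn1 (Subtype.ext h)
        have hc : (g : G) * (n : G) = (n : G) * (g : G) := by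
          have := Subgroup.mem_centralizer_iff.mp hg n (Set.mem_singleton n)
          have h2 := congrArg Subtype.val this
          simpa using h2.symm
        exact kernel_cent' Z hn hn1' ((hmemN _).mp g.2) hc
      have hTI' : ∀ u : N, u ∈ F → u ≠ 1 → ∀ x : G, x⁻¹ * (u : G) * x ∈ N → x ∈ N := by
        intro u hu hu1 x hx
        rw [hF, Subgroup.mem_subgroupOf] at hu
        have hu1' : (u : G) ≠ 1 := fun h => hu1 (Subtype.ext h)
        exact (hmemN _).mpr (kernel_TI Z hu hu1' ((hmemN _).mp hx))
      have hsolv : Group.IsSolvable F := by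
        haveI : Group.IsNilpotent F :=
          @Group.nilpotent_of_mulEquiv _ _ _ _ hnil (Subgroup.subgroupOfEquivOfLe hHN).symm
        infer_instance
      -- arithmetic
      have hdvd : e ∣ h - 1 := by
        have := E_dvd (G := G) Z.three hab
        rw [he, hh] at this
        have e1 : h + 1 - 2 = h - 1 := by omega
        rw [e1] at this
        exact this
      obtain ⟨m, hm⟩ := hdvd
      have hh1 : 1 ≤ h := by rw [← hHh]; exact Nat.card_pos
      have hme : h = m * e + 1 := by
        rw [mul_comm m e]; omega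
      have hm3 : 3 ≤ m := by
        by_contra hcon
        push Not at hcon
        have : e * m ≤ e * 2 := Nat.mul_le_mul_left e (by omega)
        omega
      have hcoh : Cfsg.IsCoherent (SF N F) {1}ᶜ (fun α : N → ℂ => Cfsg.indFun N α) := h3
      have hcls : 1 + Nat.card {ξ : Cfsg.IrrCharacter N // IsT F ξ} + e ≤
          Nat.card (ConjClasses G) := by
        apply class_count_abs N H hab' hC hTI' e hFidx e
        exact Cfsg.Agent.Lib.helper6.ZassClass.classes_outside hZ hab h e hh he hodd hlt H hHa hHfix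
      have hcomm := feit_coherent_abelian N F hab' hC hTI' hsolv h e m hFcard hFidx hNidx hme hm3
        hcoh hcls
      obtain ⟨u, v, huv⟩ := hnonab
      apply huv
      apply Subtype.ext
      have hu : (⟨(u : G), hHN u.2⟩ : N) ∈ F := by
        rw [hF, Subgroup.mem_subgroupOf]; exact u.2
      have hv : (⟨(v : G), hHN v.2⟩ : N) ∈ F := by
        rw [hF, Subgroup.mem_subgroupOf]; exact v.2
      have h2 := congrArg (fun z : N => (z : G)) (hcomm _ hu _ hv)
      simpa using h2
  exact ⟨key.1, hnonab, key.2⟩

end Cfsg.Agent.Lib.helper6.ZassFeitNA
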