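import Mathlib
import Cfsg.Agent.Lib.Lead.W2P.Defs

/-!
# Project W2P (S0720), piece RESTB : a type (b) constituent of the rest has degree `p - 1`
-/

set_option autoImplicit false
set_option linter.unusedVariables false
set_option linter.unusedSectionVars false
open scoped ComplexConjugate
open Classical

namespace Cfsg.Agent.Lib.Lead.W2P

open MulAction Cfsg.Agent.Lib.helper6.PermChar Cfsg.Agent.Lib.Helper25

universe u v

/-- a subgroup of prime order has a non-trivial linear character whose values sum to zero -/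
theorem w2prestb_exists_pchar {G : Type u} [Group G] [Fintype G] {p : ℕ} [Fact p.Prime]
    (P : Subgroup G) (hP : Nat.card P = p) :
    ∃ φ : G → ℂ, IsPChar P φ ∧ (∃ x ∈ P, φ x ≠ 1) ∧ ∑ x : ↥P, conj (φ (x : G)) = 0 := by
  have hp := (Fact.out : p.Prime)
  haveI : IsCyclic ↥P := isCyclic_of_prime_card hP
  letI : CommGroup ↥P := IsCyclic.commGroup
  haveI : NeZero (Monoid.exponent ↥P) := ⟨Monoid.exponent_ne_zero_of_finite⟩
  haveI : Nontrivial ↥P := by
    rw [← Finite.one_lt_card_iff_nontrivial, hP]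
    exact hp.one_lt
  obtain ⟨a, ha⟩ := exists_ne (1 : ↥P)
  obtain ⟨φ₀, hφ₀⟩ := CommGroup.exists_apply_ne_one_of_hasEnoughRootsOfUnity ↥P ℂ ha
  refine ⟨fun g => if h : g ∈ P then ((φ₀ ⟨g, h⟩ : ℂˣ) : ℂ) else 0, ⟨?_, ?_⟩, ⟨a.1, a.2, ?_⟩, ?_⟩
  · show (if h : (1 : G) ∈ P then ((φ₀ ⟨(1 : G), h⟩ : ℂˣ) : ℂ) else 0) = 1
    rw [dif_pos P.one_mem]
    have : (⟨1, P.one_mem⟩ : ↥P) = 1 := rfl
    rw [this, map_one, Units.val_one]
  · intro x hx y hy
    show (if h : x * y ∈ P then ((φ₀ ⟨x * y, h⟩ : ℂˣ) : ℂ) else 0) =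
      (if h : x ∈ P then ((φ₀ ⟨x, h⟩ : ℂˣ) : ℂ) else 0) *
      (if h : y ∈ P then ((φ₀ ⟨y, h⟩ : ℂˣ) : ℂ) else 0)
    rw [dif_pos (P.mul_mem hx hy), dif_pos hx, dif_pos hy]
    have : (⟨x * y, P.mul_mem hx hy⟩ : ↥P) = ⟨x, hx⟩ * ⟨y, hy⟩ := rfl
    rw [this, map_mul, Units.val_mul]
  · show (if h : (a : G) ∈ P then ((φ₀ ⟨(a : G), h⟩ : ℂˣ) : ℂ) else 0) ≠ 1
    rw [dif_pos a.2]
    intro h
    apply hφ₀
    apply Units.ext
    rw [Units.val_one, ← h]
  · have h1 : ∀ x : ↥P, conj ((fun g => if h : g ∈ P then ((φ₀ ⟨g, h⟩ : ℂˣ) : ℂ) else 0) (x : G)) =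
        conj (((Units.coeHom ℂ).comp φ₀) x) := by
      intro x
      show conj (if h : (x : G) ∈ P then ((φ₀ ⟨(x : G), h⟩ : ℂˣ) : ℂ) else 0) = _
      rw [dif_pos x.2]
      rfl
    rw [Finset.sum_congr rfl (fun x _ => h1 x), ← map_sum]
    have hne : (Units.coeHom ℂ).comp φ₀ ≠ 1 := by
      intro h
      apply hφ₀
      apply Units.ext
      have := DFunLike.congr_fun h a
      simpa using this
    rw [sum_hom_units_eq_zero _ hne, map_zero]

section D

variable {G : Type u} [Group G] [Fintype G] {Ω : Type v} [Fintype Ω] [DecidableEq Ω] [MulAction G Ω]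
  {p : ℕ} [Fact p.Prime] {P : Sylow p G}

/-- RESTB : a type (b) constituent of the rest has degree `p - 1` -/
theorem rest_typeB (S : Setting G Ω p P) (χ : Cfsg.IrrCharacter G)
    (hsum : ∑ x : ↥(P : Subgroup G), (χ : G → ℂ) (x : G) = 0)
    (hle : ∀ φ : G → ℂ, IsPChar (P : Subgroup G) φ → (∃ x ∈ (P : Subgroup G), φ x ≠ 1) →
      ∑ x : ↥(P : Subgroup G), (χ : G → ℂ) (x : G) * conj (φ (x : G)) = 0 ∨
      ∑ x : ↥(P : Subgroup G), (χ : G → ℂ) (x : G) * conj (φ (x : G)) = (p : ℂ))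
    (hB : TypeB (P : Subgroup G) (χ : G → ℂ)) : (χ : G → ℂ) 1 = (p : ℂ) - 1 := by
  have hp := (Fact.out : p.Prime)
  obtain ⟨c, hc⟩ := hB
  obtain ⟨φ, hφ, hnt, hφsum⟩ := w2prestb_exists_pchar (P : Subgroup G) S.cardP
  -- `χ = c + (χ 1 - c) δ₁` on `P`
  have hχ : ∀ x : ↥(P : Subgroup G), (χ : G → ℂ) (x : G) =
      (c : ℂ) + (if x = 1 then (χ : G → ℂ) 1 - (c : ℂ) else 0) := by
    intro x
    by_cases hx : x = 1
    · rw [if_pos hx, hx]
      simp
    · rw [if_neg hx, add_zero]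
      exact hc x.1 x.2 (fun h => hx (Subtype.ext h))
  -- weighted sums
  have hw : ∀ w : ↥(P : Subgroup G) → ℂ, ∑ x : ↥(P : Subgroup G), (χ : G → ℂ) (x : G) * w x =
      (c : ℂ) * ∑ x : ↥(P : Subgroup G), w x + ((χ : G → ℂ) 1 - (c : ℂ)) * w 1 := by
    intro w
    rw [Finset.sum_congr rfl (fun x _ => by rw [hχ x, add_mul]), Finset.sum_add_distrib,
      ← Finset.mul_sum]
    congr 1
    rw [Finset.sum_eq_single (1 : ↥(P : Subgroup G))]
    · rw [if_pos rfl]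
    · intro x _ hx
      rw [if_neg hx, zero_mul]
    · intro h
      exact absurd (Finset.mem_univ _) h
  have h1 := hw (fun _ => 1)
  simp only [mul_one, Finset.sum_const, Finset.card_univ, nsmul_eq_mul] at h1
  rw [hsum, ← Nat.card_eq_fintype_card, S.cardP] at h1
  have h2 := hw (fun x => conj (φ (x : G)))
  rw [hφsum, mul_zero, zero_add] at h2
  have hφ1 : conj (φ ((1 : ↥(P : Subgroup G)) : G)) = 1 := by
    rw [Subgroup.coe_one, hφ.one, map_one]
  rw [hφ1, mul_one] at h2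
  have hpne : (p : ℂ) ≠ 0 := by exact_mod_cast hp.ne_zero
  have hχ1 : (χ : G → ℂ) 1 ≠ 0 := irr_one_ne_zero χ
  -- `χ 1 = c - c p`
  have h3 : (χ : G → ℂ) 1 = (c : ℂ) - (c : ℂ) * (p : ℂ) := by linear_combination -h1
  rcases hle φ hφ hnt with h | h
  · -- `χ 1 - c = 0` forces `c = 0`
    rw [h2] at h
    exfalso
    have h4 : (c : ℂ) * (p : ℂ) = 0 := by linear_combination -h + h3
    rcases mul_eq_zero.1 h4 with h5 | h5
    · apply hχ1
      rw [h3, h5]
      ring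
    · exact hpne h5
  · rw [h2] at h
    have h4 : ((c : ℂ) + 1) * (p : ℂ) = 0 := by linear_combination -h + h3
    rcases mul_eq_zero.1 h4 with h5 | h5
    · have h6 : (c : ℂ) = -1 := by linear_combination h5
      rw [h3, h6]
      ring
    · exact absurd h5 hpne

end D

end Cfsg.Agent.Lib.Lead.W2P
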