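import Mathlib
import Cfsg.Agent.Lib.Lead.W2P.Defs
import Cfsg.Agent.Lib.helper7.CharTools

/-!
# Project W2P (S0720), piece BADRANK : in the BAD case with `2 f + 1 = p` the rank is 4
-/

set_option autoImplicit false
set_option linter.unusedVariables false
set_option linter.unusedSectionVars false
open scoped ComplexConjugate
open Classical

namespace Cfsg.Agent.Lib.Lead.W2P

open MulAction Cfsg.Agent.Lib.helper6.PermChar Cfsg.Agent.Lib.Helper25

universe u v

/-- the norm of a sum of distinct irreducible characters is their number -/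
theorem w2pbadrank_norm_sum {G : Type u} [Group G] [Fintype G] (K : Finset (Cfsg.IrrCharacter G)) :
    Cfsg.classInner (∑ χ ∈ K, (χ : G → ℂ)) (∑ χ ∈ K, (χ : G → ℂ)) = (K.card : ℂ) := by
  rw [classInner_sum_left]
  have h : ∀ χ ∈ K, Cfsg.classInner (χ : G → ℂ) (∑ ψ ∈ K, (ψ : G → ℂ)) = 1 := by
    intro χ hχ
    rw [Cfsg.Agent.Lib.helper7.h7_classInner_sum_right]
    rw [Finset.sum_congr rfl (fun ψ _ => irr_classInner χ ψ)]
    rw [Finset.sum_ite_eq K χ, if_pos hχ]
  rw [Finset.sum_congr rfl h, Finset.sum_const, nsmul_eq_mul, mul_one]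

section E

variable {G : Type u} [Group G] [Fintype G] {Ω : Type v} [Fintype Ω] [DecidableEq Ω] [MulAction G Ω]
  {p : ℕ} [Fact p.Prime] {P : Sylow p G}

/-- BADRANK : in the BAD case with `2 f + 1 = p` the rank is 4 -/
theorem bad_rank (S : Setting G Ω p P) (hbad : Bad G Ω p (P : Subgroup G))
    (hf : 2 * fIdx (P : Subgroup G) + 1 = p) (a : Ω) :
    Nat.card (orbitRel.Quotient (stabilizer G a) Ω) = 4 := by
  obtain ⟨χp, J, hJ2, hpJ, htJ, hpt, hπ, hdeg, hvan, hJdeg, hJsum, hJnorm⟩ := hbad
  haveI := S.prim.toIsPretransitive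
  have hp := (Fact.out : p.Prime)
  -- the degree equation gives `|J| = 2`
  have h1 : piChar G Ω 1 = ((2 * p : ℕ) : ℂ) := by
    unfold piChar
    rw [MulAction.fixedBy_one_eq_univ, Nat.card_coe_set_eq, Set.ncard_univ, Nat.card_eq_fintype_card, S.card]
  have h2 := hπ 1
  rw [h1, hdeg, Finset.sum_congr rfl hJdeg, Finset.sum_const, nsmul_eq_mul] at h2
  have h3 : 2 * p = 1 + p + J.card * fIdx (P : Subgroup G) := by
    exact_mod_cast h2
  have hfpos : 0 < fIdx (P : Subgroup G) := by
    rcases Nat.eq_zero_or_pos (fIdx (P : Subgroup G)) with h0 | h0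
    · rw [h0] at hf
      exact absurd hf.symm hp.one_lt.ne'
    · exact h0
  have hJc : J.card = 2 := by
    have h4 : J.card * fIdx (P : Subgroup G) = 2 * fIdx (P : Subgroup G) := by omega
    exact Nat.eq_of_mul_eq_mul_right hfpos h4
  -- the norm of `π`
  have hK : trivIrr G ∉ insert χp J := by
    rw [Finset.mem_insert, not_or]
    exact ⟨fun h => hpt h.symm, htJ⟩
  have hfun : piChar G Ω = ∑ χ ∈ insert (trivIrr G) (insert χp J), (χ : G → ℂ) := by
    funext g
    rw [Finset.sum_insert hK, Finset.sum_insert hpJ, hπ g]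
    simp only [Pi.add_apply, Finset.sum_apply, trivIrr_apply]
    ring
  have hnorm := inner_pi_pi (G := G) (Ω := Ω) a
  rw [hfun, w2pbadrank_norm_sum, Finset.card_insert_of_notMem hK, Finset.card_insert_of_notMem hpJ,
    hJc] at hnorm
  exact_mod_cast hnorm.symm

end E

end Cfsg.Agent.Lib.Lead.W2P
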