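import Mathlib
import Cfsg.Agent.Lib.helper7.SPC.Defs

set_option autoImplicit false

/-!
# Project SPC (S2676, designer helper7), row E0 (helper6): splitting off the image of a form-preserving equivariant map.
Verbatim from `helper7/SPC/Skel.lean.txt`.
-/

namespace Cfsg.Agent.Lib.helper7.SPC

universe u

open Module

variable {F : Type u} [Field F]

/-- an alternating form is antisymmetric -/
theorem spce0_anti (T : Trip F) (halt : ∀ x, T.B x x = 0) (x y : T.V) : T.B x y = - T.B y x := by
  have h := halt (x + y)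
  simp only [map_add, LinearMap.add_apply, halt x, halt y, zero_add, add_zero] at h
  exact eq_neg_of_add_eq_zero_left (by rw [add_comm]; exact h)

/-- powers of a restricted endomorphism -/
theorem spce0_restrict_pow {V : Type u} [AddCommGroup V] [Module F V] (N : V →ₗ[F] V)
    (W : Submodule F V) (h : ∀ v ∈ W, N v ∈ W) (e : ℕ) (v : ↥W) :
    (((N.restrict h) ^ e) v : V) = (N ^ e) (v : V) := by
  induction e generalizing v with
  | zero => rfl
  | succ e ih =>
    rw [pow_succ, pow_succ, Module.End.mul_apply, Module.End.mul_apply, ih,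
      LinearMap.coe_restrict_apply]

/-- the restricted triple -/
def spce0_sub (T : Trip F) (W' : Submodule F T.V) (hinv : ∀ v ∈ W', T.N v ∈ W') : Trip F where
  V := ↥W'
  B := LinearMap.BilinForm.restrict T.B W'
  N := T.N.restrict hinv

/-- the underlying vector of an element of the restricted triple -/
def spce0_val (T : Trip F) (W' : Submodule F T.V) (hinv : ∀ v ∈ W', T.N v ∈ W')
    (x : (spce0_sub T W' hinv).V) : T.V := Subtype.val (p := fun v => v ∈ W') x

/-- an element of the restricted triple from a vector of the subspace -/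
def spce0_mk (T : Trip F) (W' : Submodule F T.V) (hinv : ∀ v ∈ W', T.N v ∈ W') (v : T.V)
    (hv : v ∈ W') : (spce0_sub T W' hinv).V := (⟨v, hv⟩ : ↥W')

theorem spce0_val_mk (T : Trip F) (W' : Submodule F T.V) (hinv : ∀ v ∈ W', T.N v ∈ W') (v : T.V)
    (hv : v ∈ W') : spce0_val T W' hinv (spce0_mk T W' hinv v hv) = v := rfl

theorem spce0_val_mem (T : Trip F) (W' : Submodule F T.V) (hinv : ∀ v ∈ W', T.N v ∈ W')
    (x : (spce0_sub T W' hinv).V) : spce0_val T W' hinv x ∈ W' :=
  Subtype.property (p := fun v => v ∈ W') x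

theorem spce0_val_inj (T : Trip F) (W' : Submodule F T.V) (hinv : ∀ v ∈ W', T.N v ∈ W')
    (x y : (spce0_sub T W' hinv).V) (h : spce0_val T W' hinv x = spce0_val T W' hinv y) : x = y :=
  Subtype.ext (p := fun v => v ∈ W') h

theorem spce0_val_zero (T : Trip F) (W' : Submodule F T.V) (hinv : ∀ v ∈ W', T.N v ∈ W') :
    spce0_val T W' hinv 0 = 0 := rfl

theorem spce0_sub_B (T : Trip F) (W' : Submodule F T.V) (hinv : ∀ v ∈ W', T.N v ∈ W')
    (x y : (spce0_sub T W' hinv).V) :
    (spce0_sub T W' hinv).B x y = T.B (spce0_val T W' hinv x) (spce0_val T W' hinv y) := rfl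

theorem spce0_sub_N (T : Trip F) (W' : Submodule F T.V) (hinv : ∀ v ∈ W', T.N v ∈ W')
    (x : (spce0_sub T W' hinv).V) :
    spce0_val T W' hinv ((spce0_sub T W' hinv).N x) = T.N (spce0_val T W' hinv x) := rfl

theorem spce0_sub_pow (T : Trip F) (W' : Submodule F T.V) (hinv : ∀ v ∈ W', T.N v ∈ W') (e : ℕ)
    (v : (spce0_sub T W' hinv).V) :
    spce0_val T W' hinv (((spce0_sub T W' hinv).N ^ e) v) = (T.N ^ e) (spce0_val T W' hinv v) :=
  spce0_restrict_pow T.N W' hinv e v

/-- E0 [M-L]: `φ` is injective (`T₀.nd`).  `W = range φ`, `W' = {v | ∀ w ∈ W, T.B w v = 0}` (a submodule; `LinearMap.BilinForm.orthogonal`): `W ⊓ W' = ⊥` (`T₀.nd`), `finrank W' + finrank W = finrank V`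
(`T.nd`: the map `V → Dual W` is onto), so `IsCompl W W'`.  `W'` is `N`-invariant (`B (w, N v) = - B (N w, v)`, `N w = φ (N₀ ·) ∈ W`).  `T' = (W', B|, N|)`: alt, skew, nil restrict; nd: `v ∈ W'` with `B (v, W') = 0`
also has `B (v, W) = 0`, so `v = 0`.  `e : T.V ≃ T₀.V × W'` from `Submodule.prodEquivOfIsCompl` and `LinearEquiv.ofInjective φ`. -/
theorem split (T₀ T : Trip F) (h₀ : T₀.Good) (hT : T.Good) (φ : T₀.V →ₗ[F] T.V)
    (hφB : ∀ x y, T.B (φ x) (φ y) = T₀.B x y) (hφN : ∀ x, φ (T₀.N x) = T.N (φ x)) :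
    ∃ T' : Trip F, T'.Good ∧ TIso T (TSum T₀ T') ∧ finrank F T'.V + finrank F T₀.V = finrank F T.V ∧
      ∀ e : ℕ, T.N ^ e = 0 → T'.N ^ e = 0 := by
  classical
  have hanti : ∀ x y, T.B x y = - T.B y x := spce0_anti T hT.alt
  have hanti₀ : ∀ x y, T₀.B x y = - T₀.B y x := spce0_anti T₀ h₀.alt
  have hinj : Function.Injective φ := by
    rw [injective_iff_map_eq_zero]
    intro x hx
    apply h₀.nd
    intro y
    rw [← hφB, hx, map_zero, LinearMap.zero_apply]
  have hrefl : LinearMap.BilinForm.IsRefl T.B := by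
    intro x y hxy
    rw [hanti, hxy, neg_zero]
  have hndW : (LinearMap.BilinForm.restrict T.B (LinearMap.range φ)).Nondegenerate := by
    constructor
    · rintro ⟨x, a, rfl⟩ hx
      have ha : a = 0 := by
        apply h₀.nd
        intro b
        have h1 := hx ⟨φ b, b, rfl⟩
        rw [← hφB]
        exact h1
      apply Subtype.ext
      show φ a = 0
      rw [ha, map_zero]
    · rintro ⟨y, b, rfl⟩ hy
      have hb : b = 0 := by
        apply h₀.nd
        intro a
        have h1 := hy ⟨φ a, a, rfl⟩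
        rw [hanti₀, ← hφB]
        have h2 : T.B (φ a) (φ b) = 0 := h1
        rw [h2, neg_zero]
      apply Subtype.ext
      show φ b = 0
      rw [hb, map_zero]
  have hcompl : IsCompl (LinearMap.range φ) (LinearMap.BilinForm.orthogonal T.B (LinearMap.range φ)) :=
    LinearMap.BilinForm.isCompl_orthogonal_of_restrict_nondegenerate hrefl hndW
  have hWmem : ∀ v, v ∈ LinearMap.BilinForm.orthogonal T.B (LinearMap.range φ) ↔ ∀ a, T.B (φ a) v = 0 := by
    intro v
    constructor
    · intro h a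
      exact h (φ a) ⟨a, rfl⟩
    · rintro h w ⟨a, rfl⟩
      exact h a
  have hinv : ∀ v ∈ LinearMap.BilinForm.orthogonal T.B (LinearMap.range φ),
      T.N v ∈ LinearMap.BilinForm.orthogonal T.B (LinearMap.range φ) := by
    intro v hv
    rw [hWmem] at hv ⊢
    intro a
    have h1 := hT.skew (φ a) v
    rw [← hφN, hv] at h1
    rw [← neg_eq_zero, ← h1]
  obtain ⟨W', hW'⟩ : ∃ W' : Submodule F T.V, W' = LinearMap.BilinForm.orthogonal T.B (LinearMap.range φ) :=
    ⟨_, rfl⟩
  rw [← hW'] at hcompl hinv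
  have hWmem' : ∀ v, v ∈ W' ↔ ∀ a, T.B (φ a) v = 0 := by rw [hW']; exact hWmem
  refine ⟨spce0_sub T W' hinv, ?_, ?_, ?_, ?_⟩
  · -- good
    refine ⟨?_, ?_, ?_, ?_⟩
    · intro x
      rw [spce0_sub_B]
      exact hT.alt _
    · intro x hx
      apply spce0_val_inj
      rw [spce0_val_zero]
      apply hT.nd
      intro y
      have hy : y ∈ LinearMap.range φ ⊔ W' := by rw [hcompl.sup_eq_top]; exact Submodule.mem_top
      obtain ⟨w, ⟨a, rfl⟩, w', hw', rfl⟩ := Submodule.mem_sup.mp hy
      rw [map_add]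
      have h1 : T.B (spce0_val T W' hinv x) (φ a) = 0 := by
        rw [hanti, (hWmem' _).mp (spce0_val_mem T W' hinv x) a, neg_zero]
      have h2 : T.B (spce0_val T W' hinv x) w' = 0 := by
        have := hx (spce0_mk T W' hinv w' hw')
        rw [spce0_sub_B, spce0_val_mk] at this
        exact this
      rw [h1, h2, add_zero]
    · intro x y
      rw [spce0_sub_B, spce0_sub_B, spce0_sub_N, spce0_sub_N]
      exact hT.skew _ _
    · obtain ⟨k, hk⟩ := hT.nil
      refine ⟨k, ?_⟩
      apply LinearMap.ext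
      intro v
      apply spce0_val_inj
      rw [spce0_sub_pow, hk]
      rfl
  · -- iso
    obtain ⟨e', he'⟩ : ∃ e' : (TSum T₀ (spce0_sub T W' hinv)).V ≃ₗ[F] T.V,
        ∀ p : (TSum T₀ (spce0_sub T W' hinv)).V, e' p = φ p.1 + spce0_val T W' hinv p.2 := by
      refine ⟨(LinearEquiv.prodCongr (LinearEquiv.ofInjective φ hinj) (LinearEquiv.refl F ↥W')) ≪≫ₗ
        (Submodule.prodEquivOfIsCompl (LinearMap.range φ) W' hcompl), ?_⟩
      intro p
      rfl
    refine ⟨e'.symm, ?_, ?_⟩
    · intro x y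
      obtain ⟨p, rfl⟩ := e'.surjective x
      obtain ⟨q, rfl⟩ := e'.surjective y
      rw [e'.symm_apply_apply, e'.symm_apply_apply]
      show T₀.B p.1 q.1 + (spce0_sub T W' hinv).B p.2 q.2 = _
      rw [he', he', spce0_sub_B]
      simp only [map_add, LinearMap.add_apply, hφB]
      have h1 : T.B (φ p.1) (spce0_val T W' hinv q.2) = 0 :=
        (hWmem' _).mp (spce0_val_mem T W' hinv q.2) p.1
      have h2 : T.B (spce0_val T W' hinv p.2) (φ q.1) = 0 := by
        rw [hanti, (hWmem' _).mp (spce0_val_mem T W' hinv p.2) q.1, neg_zero]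
      rw [h1, h2, add_zero, zero_add]
    · intro x
      obtain ⟨p, rfl⟩ := e'.surjective x
      rw [e'.symm_apply_apply]
      apply e'.injective
      rw [e'.apply_symm_apply, he', he']
      show T.N (φ p.1 + spce0_val T W' hinv p.2) =
        φ (T₀.N p.1) + spce0_val T W' hinv ((spce0_sub T W' hinv).N p.2)
      rw [map_add, hφN, spce0_sub_N]
  · -- dimensions
    obtain ⟨e', _⟩ : ∃ e' : (T₀.V × ↥W') ≃ₗ[F] T.V, True :=
      ⟨(LinearEquiv.prodCongr (LinearEquiv.ofInjective φ hinj) (LinearEquiv.refl F ↥W')) ≪≫ₗ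
        (Submodule.prodEquivOfIsCompl (LinearMap.range φ) W' hcompl), trivial⟩
    have h1 := LinearEquiv.finrank_eq e'
    rw [Module.finrank_prod] at h1
    show finrank F ↥W' + finrank F T₀.V = finrank F T.V
    omega
  · intro e he
    apply LinearMap.ext
    intro v
    apply spce0_val_inj
    rw [spce0_sub_pow, he]
    rfl

end Cfsg.Agent.Lib.helper7.SPC
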