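import Mathlib
import Cfsg.Prelude.Def_GeometricClasses
import Cfsg.Agent.Lib.Helper27.ASC.Defs
import Cfsg.Agent.Lib.helper23.ASCO.Defs
import Cfsg.Agent.Lib.Helper19.ASG.Defs
import Cfsg.Agent.Lib.Helper1.ASGCLIF3
import Cfsg.Agent.Lib.Lead.Reindex
import Cfsg.Agent.Lib.Helper25.ASO.Defs
import Cfsg.Agent.Lib.Helper20.ASPTRC8

set_option autoImplicit false
set_option linter.unusedVariables false
set_option linter.unusedSectionVars false

/-!
# Project ASO (leader: helper25), piece TR3 : `ofield_transport` (class 3, extension fields)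
-/

namespace Cfsg.Agent.Lib.Helper25.ASO

open Cfsg Cfsg.Geo Cfsg.Agent.Lib.Helper27.ASC Cfsg.Agent.Lib.helper23.ASCO Cfsg.Agent.Lib.Helper19.ASG
open scoped MatrixGroups Matrix Kronecker

variable {n : ℕ} {F : Type*} [Field F] [Fintype F]

section transport

open Cfsg.Agent.Lib.Lead

variable {ι κ : Type} [Fintype ι] [DecidableEq ι] [Fintype κ] [DecidableEq κ]

/-- the polar form of a reindexed form -/
theorem asotr3_polar (e : ι ≃ κ) (Q : (ι → F) → F) (u v : κ → F) :
    QuadraticMap.polar (fun x : κ → F => Q (x ∘ e)) u v = QuadraticMap.polar Q (u ∘ e) (v ∘ e) := by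
  unfold QuadraticMap.polar
  rfl

/-- transporting a subalgebra back and forth -/
theorem asotr3_K_K (e : ι ≃ κ) (K' : Subalgebra F (Matrix κ κ F)) :
    Cfsg.Agent.Lib.Helper18.ASP.asptrc8K e (Cfsg.Agent.Lib.Helper18.ASP.asptrc8K e.symm K') = K' := by
  ext x
  constructor
  · intro hx
    obtain ⟨y, hy, rfl⟩ := Cfsg.Agent.Lib.Helper18.ASP.asptrc8_exists e _ x hx
    obtain ⟨z, hz, rfl⟩ := Cfsg.Agent.Lib.Helper18.ASP.asptrc8_exists e.symm _ y hy
    have : Matrix.reindexAlgEquiv F F e (Matrix.reindexAlgEquiv F F e.symm z) = z := by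
      ext i j
      simp [Matrix.reindexAlgEquiv_apply]
    rw [this]
    exact hz
  · intro hx
    have h1 : Matrix.reindexAlgEquiv F F e.symm x ∈ Cfsg.Agent.Lib.Helper18.ASP.asptrc8K e.symm K' :=
      (Cfsg.Agent.Lib.Helper18.ASP.asptrc8_mem e.symm K' x).mpr hx
    have h2 := (Cfsg.Agent.Lib.Helper18.ASP.asptrc8_mem e _ _).mpr h1
    have : Matrix.reindexAlgEquiv F F e (Matrix.reindexAlgEquiv F F e.symm x) = x := by
      ext i j
      simp [Matrix.reindexAlgEquiv_apply]
    rw [this] at h2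
    exact h2

/-- TR3 : `K = K'.comap (Matrix.reindexAlgEquiv F F e)` -/
theorem ofield_transport (d : ℕ) (e : ι ≃ κ) (Q : (ι → F) → F) (M' : Subgroup (GL κ F))
    (h : OField d (fun x : κ → F => Q (x ∘ e)) M') :
    OField d Q (M'.comap (RI.glReindex (F := F) e).toMonoidHom) := by
  obtain ⟨r, K', hr, hdr, hK', hsa, hM'⟩ := h
  refine ⟨r, Cfsg.Agent.Lib.Helper18.ASP.asptrc8K e.symm K', hr, hdr,
    Cfsg.Agent.Lib.Helper18.ASP.asptrc8_field e.symm r K' hK', ?_, ?_⟩
  · intro k hk u v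
    obtain ⟨k', hk', rfl⟩ := Cfsg.Agent.Lib.Helper18.ASP.asptrc8_exists e.symm K' k hk
    have h1 := hsa k' hk' (u ∘ e.symm) (v ∘ e.symm)
    rw [asotr3_polar, asotr3_polar] at h1
    have e1 : ∀ w : ι → F, (k' *ᵥ (w ∘ e.symm)) ∘ e = Matrix.reindexAlgEquiv F F e.symm k' *ᵥ w := by
      intro w
      rw [← Cfsg.Agent.Lib.Helper18.ASP.asptrc8_mulVec e.symm k' w]
      funext i
      simp
    have e2 : ∀ w : ι → F, (w ∘ e.symm) ∘ e = w := by
      intro w
      funext i
      simp
    rw [e1, e1, e2, e2] at h1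
    exact h1
  · have hinj : Function.Injective (RI.glReindex (F := F) e).toMonoidHom :=
      (RI.glReindex (F := F) e).injective
    have hsurj : Function.Surjective (RI.glReindex (F := F) e).toMonoidHom :=
      (RI.glReindex (F := F) e).surjective
    apply Subgroup.map_injective hinj
    rw [Subgroup.map_comap_eq_self_of_surjective hsurj, Subgroup.map_inf _ _ _ hinj,
      Cfsg.Agent.Lib.Helper18.ASP.asptrc8_map_norm, asotr3_K_K, RI.map_iso]
    exact hM'

end transport

end Cfsg.Agent.Lib.Helper25.ASO
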