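import Mathlib
import Cfsg.Prelude.Def_GeometricClasses
import Cfsg.Agent.Lib.Helper27.ASC.Defs
import Cfsg.Agent.Lib.helper23.ASCO.Defs
import Cfsg.Agent.Lib.Helper19.ASG.Defs
import Cfsg.Agent.Lib.Helper1.ASGCLIF3
import Cfsg.Agent.Lib.Lead.Reindex
import Cfsg.Agent.Lib.Helper25.ASO.Defs
import Cfsg.Agent.Lib.Helper21.ASPTRCTcore

set_option autoImplicit false
set_option linter.unusedVariables false
set_option linter.unusedSectionVars false

/-!
# Project ASO (leader: helper25), piece TR4 : `otensor_transport` (class 4, tensor decompositions)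
-/

namespace Cfsg.Agent.Lib.Helper25.ASO

open Cfsg Cfsg.Geo Cfsg.Agent.Lib.Helper27.ASC Cfsg.Agent.Lib.helper23.ASCO Cfsg.Agent.Lib.Helper19.ASG
open scoped MatrixGroups Matrix Kronecker

variable {n : ℕ} {F : Type*} [Field F] [Fintype F]

section transport

open Cfsg.Agent.Lib.Lead

variable {ι κ : Type} [Fintype ι] [DecidableEq ι] [Fintype κ] [DecidableEq κ]

/-- the polar form of a reindexed form -/
theorem asotr4_polar (e : ι ≃ κ) (Q : (ι → F) → F) (u v : κ → F) :
    QuadraticMap.polar (fun x : κ → F => Q (x ∘ e)) u v = QuadraticMap.polar Q (u ∘ e) (v ∘ e) := by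
  unfold QuadraticMap.polar
  rfl

/-- `e.symm.trans (e.trans e') = e'` -/
theorem asotr4_trans {α : Type} (e : ι ≃ κ) (e' : κ ≃ α) : e.symm.trans (e.trans e') = e' := by
  ext x
  simp

/-- the key identity: `(P' (z ∘ e')) ∘ e = P (z ∘ (e.trans e'))` for `P = (glReindex e)⁻¹ P'` -/
theorem asotr4_key {α : Type} (e : ι ≃ κ) (e' : κ ≃ α) (P' : GL κ F) (z : α → F) :
    ((P' : Matrix κ κ F) *ᵥ (z ∘ e')) ∘ e =
      (((RI.glReindex (F := F) e).symm P' : GL ι F) : Matrix ι ι F) *ᵥ (z ∘ (e.trans e')) := by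
  have h := Cfsg.Agent.Lib.Helper18.ASP.asptrct_key e (e.trans e') ((RI.glReindex (F := F) e).symm P') z
  rw [MulEquiv.apply_symm_apply, asotr4_trans] at h
  exact h

/-- TR4 : `e' ↦ e.trans e'`, `P' ↦ (RI.glReindex e).symm P'` -/
theorem otensor_transport (e : ι ≃ κ) (Q : (ι → F) → F) (M' : Subgroup (GL κ F))
    (h : OTensor (fun x : κ → F => Q (x ∘ e)) M') :
    OTensor Q (M'.comap (RI.glReindex (F := F) e).toMonoidHom) := by
  obtain ⟨n₁, n₂, e', P', f₁, f₂, h1, h2, hf₁, hf₂, ⟨c, hc, hT⟩, hM'⟩ := h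
  refine ⟨n₁, n₂, e.trans e', (RI.glReindex (F := F) e).symm P', f₁, f₂, h1, h2, hf₁, hf₂,
    ⟨c, hc, ?_⟩, ?_⟩
  · intro x y
    have h3 := hT x y
    rw [asotr4_polar, asotr4_key, asotr4_key] at h3
    exact h3
  · have hinj : Function.Injective (RI.glReindex (F := F) e).toMonoidHom :=
      (RI.glReindex (F := F) e).injective
    have hsurj : Function.Surjective (RI.glReindex (F := F) e).toMonoidHom :=
      (RI.glReindex (F := F) e).surjective
    apply Subgroup.map_injective hinj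
    rw [Subgroup.map_comap_eq_self_of_surjective hsurj, Subgroup.map_inf _ _ _ hinj,
      Cfsg.Agent.Lib.Helper18.ASP.asptrct_map_tensor, asotr4_trans, MulEquiv.apply_symm_apply,
      RI.map_iso]
    exact hM'

end transport

end Cfsg.Agent.Lib.Helper25.ASO
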