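import Mathlib

set_option autoImplicit false

namespace Cfsg.Agent.Lib.helper6.SZa

variable {H : Type*} [Group H]

/-- no σ-invariant subgroup of index 2 -/
def Bad (σ : H ≃* H) : Prop := ¬ ∃ N : Subgroup H, N.index = 2 ∧ ∀ n ∈ N, σ n ∈ N

/-- the subgroup of elements on which `N`-membership is preserved by `σ` -/
def eqSub (σ : H ≃* H) (N : Subgroup H) (hN : N.index = 2) : Subgroup H where
  carrier := {h | h ∈ N ↔ σ h ∈ N}
  one_mem' := by simp
  mul_mem' := by
    intro a b ha hb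
    simp only [Set.mem_ofPred_eq] at ha hb ⊢
    rw [map_mul, Subgroup.mul_mem_iff_of_index_two hN, Subgroup.mul_mem_iff_of_index_two hN, ha, hb]
  inv_mem' := by
    intro a ha
    simp only [Set.mem_ofPred_eq] at ha ⊢
    rw [map_inv, inv_mem_iff, inv_mem_iff, ha]

theorem no_index_two (σ : H ≃* H) (hσ : ∀ h, σ (σ h) = h) (hbad : Bad σ) (N : Subgroup H) :
    N.index ≠ 2 := by
  intro hN
  by_cases hinv : ∀ n ∈ N, σ n ∈ N
  · exact hbad ⟨N, hN, hinv⟩
  · push Not at hinv
    obtain ⟨a, haN, haσ⟩ := hinv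
    apply hbad
    refine ⟨eqSub σ N hN, ?_, ?_⟩
    · rw [Subgroup.index_eq_two_iff]
      refine ⟨a, fun b => ?_⟩
      show Xor ((b * a ∈ N ↔ σ (b * a) ∈ N)) ((b ∈ N ↔ σ b ∈ N))
      rw [map_mul, Subgroup.mul_mem_iff_of_index_two hN, Subgroup.mul_mem_iff_of_index_two hN]
      simp only [haN, haσ, iff_true, iff_false]
      by_cases h1 : b ∈ N <;> by_cases h2 : σ b ∈ N <;> simp [Xor, h1, h2]
    · intro n hn
      show (σ n ∈ N ↔ σ (σ n) ∈ N)
      rw [hσ]
      exact (show (n ∈ N ↔ σ n ∈ N) from hn).symm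

theorem closure_I [Finite H] (σ : H ≃* H) (hσ : ∀ h, σ (σ h) = h)
    (hfix : ∃ t : H, ∀ h, σ h = h → h = 1 ∨ h = t) (hbad : Bad σ) :
    Subgroup.closure (Set.range fun h : H => σ h * h⁻¹) = ⊤ := by
  classical
  obtain ⟨t, ht⟩ := hfix
  let _ : Fintype H := Fintype.ofFinite H
  set I : Set H := Set.range fun h : H => σ h * h⁻¹ with hI
  set C := Subgroup.closure I with hC
  -- σ-invariance of C
  have hCσ : ∀ c ∈ C, σ c ∈ C := by
    intro c hc
    have : C ≤ C.comap σ.toMonoidHom := by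
      rw [hC, Subgroup.closure_le]
      rintro _ ⟨h, rfl⟩
      show σ (σ h * h⁻¹) ∈ C
      rw [map_mul, map_inv]
      exact Subgroup.subset_closure ⟨σ h, rfl⟩
    exact this hc
  -- fibres
  have hfib : ∀ h k : H, σ h * h⁻¹ = σ k * k⁻¹ → h = k ∨ h = k * t := by
    intro h k hhk
    have : σ (k⁻¹ * h) = k⁻¹ * h := by
      rw [map_mul, map_inv]
      have h1 : (σ k)⁻¹ * (σ h * h⁻¹) * h = (σ k)⁻¹ * (σ k * k⁻¹) * h := by rw [hhk]
      simpa [mul_assoc] using h1
    rcases ht _ this with h1 | h1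
    · left
      have : h = k * (k⁻¹ * h) := by group
      rw [this, h1, mul_one]
    · right
      have : h = k * (k⁻¹ * h) := by group
      rw [this, h1]
  have hcard : Fintype.card H ≤ 2 * (Finset.univ.image fun h : H => σ h * h⁻¹).card := by
    rw [← Finset.card_univ]
    apply Finset.card_le_mul_card_image
    intro y _
    by_cases hy : ∃ k, σ k * k⁻¹ = y
    · obtain ⟨k, rfl⟩ := hy
      calc (Finset.univ.filter fun h : H => σ h * h⁻¹ = σ k * k⁻¹).card
          ≤ ({k, k * t} : Finset H).card := by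
            apply Finset.card_le_card
            intro h hh
            simp only [Finset.mem_filter, Finset.mem_univ, true_and] at hh
            rw [Finset.mem_insert, Finset.mem_singleton]
            exact hfib h k hh
        _ ≤ 2 := Finset.card_le_two
    · push Not at hy
      rw [Finset.filter_eq_empty_iff.mpr (fun h _ => hy h)]
      simp
  have himg : (Finset.univ.image fun h : H => σ h * h⁻¹).card ≤ Nat.card C := by
    rw [Nat.card_eq_fintype_card, Fintype.card_subtype]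
    apply Finset.card_le_card
    intro y hy
    simp only [Finset.mem_image, Finset.mem_univ, true_and] at hy
    obtain ⟨h, rfl⟩ := hy
    simp only [Finset.mem_filter, Finset.mem_univ, true_and]
    exact Subgroup.subset_closure ⟨h, rfl⟩
  have hmul := C.index_mul_card
  rw [Nat.card_eq_fintype_card (α := H)] at hmul
  have hCpos : 0 < Nat.card C := Nat.card_pos
  have hidx : C.index ≤ 2 := by
    by_contra hlt
    push Not at hlt
    have : 3 * Nat.card C ≤ C.index * Nat.card C := Nat.mul_le_mul_right _ hlt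
    omega
  have h0 : C.index ≠ 0 := Subgroup.index_ne_zero_of_finite
  have h2 : C.index ≠ 2 := no_index_two σ hσ hbad C
  have h1 : C.index = 1 := by omega
  exact Subgroup.index_eq_one.mp h1

/-- a normal `σ`-invariant subgroup of odd order is inverted by `σ` and central -/
theorem central_of_odd [Finite H] (σ : H ≃* H) (hσ : ∀ h, σ (σ h) = h)
    (hfix2 : ∀ h, σ h = h → h ^ 2 = 1)
    (hI : Subgroup.closure (Set.range fun h : H => σ h * h⁻¹) = ⊤)
    (C : Subgroup H) (hCn : C.Normal) (hCσ : ∀ c ∈ C, σ c ∈ C) (hodd : Odd (Nat.card C)) :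
    C ≤ Subgroup.center H := by
  classical
  -- no nontrivial fixed points on C
  have hfp : ∀ c ∈ C, σ c = c → c = 1 := by
    intro c hc hcc
    have h2 : c ^ 2 = 1 := hfix2 c hcc
    have hn : c ^ Nat.card C = 1 := by
      have := pow_card_eq_one' (G := C) (x := ⟨c, hc⟩)
      exact congrArg Subtype.val this
    obtain ⟨m, hm⟩ := hodd
    rw [hm, pow_succ, pow_mul, h2, one_pow, one_mul] at hn
    exact hn
  -- the map c ↦ σ c * c⁻¹ on C
  let f : C → C := fun c => ⟨σ c * (c : H)⁻¹, C.mul_mem (hCσ c c.2) (C.inv_mem c.2)⟩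
  have hf : Function.Injective f := by
    intro c d hcd
    have h1 : σ (c : H) * (c : H)⁻¹ = σ (d : H) * (d : H)⁻¹ := congrArg Subtype.val hcd
    have h2 : σ ((d : H)⁻¹ * c) = (d : H)⁻¹ * c := by
      rw [map_mul, map_inv]
      have h3 : (σ (d : H))⁻¹ * (σ (c : H) * (c : H)⁻¹) * c
          = (σ (d : H))⁻¹ * (σ (d : H) * (d : H)⁻¹) * c := by rw [h1]
      simpa [mul_assoc] using h3
    have h4 := hfp _ (C.mul_mem (C.inv_mem d.2) c.2) h2
    apply Subtype.ext
    have : (c : H) = d * ((d : H)⁻¹ * c) := by group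
    rw [this, h4, mul_one]
  have hsurj : Function.Surjective f := Finite.surjective_of_injective hf
  have hinv : ∀ c ∈ C, σ c = c⁻¹ := by
    intro c hc
    obtain ⟨d, hd⟩ := hsurj ⟨c, hc⟩
    have hd' : σ (d : H) * (d : H)⁻¹ = c := congrArg Subtype.val hd
    rw [← hd', map_mul, map_inv, hσ]
    group
  -- elements of I centralize C
  have hcent : ∀ h : H, ∀ c ∈ C, (σ h * h⁻¹) * c = c * (σ h * h⁻¹) := by
    intro h c hc
    -- apply σ to (h⁻¹ c h)
    have hmem : h⁻¹ * c * h ∈ C := by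
      have := hCn.conj_mem c hc h⁻¹
      simpa using this
    have h1 := hinv _ hmem
    rw [map_mul, map_mul, map_inv, hinv c hc] at h1
    -- (σ h)⁻¹ * c⁻¹ * σ h = (h⁻¹ * c * h)⁻¹ = h⁻¹ * c⁻¹ * h
    have h2 : (σ h)⁻¹ * c⁻¹ * σ h = h⁻¹ * c⁻¹ * h := by
      rw [h1]; group
    have h3 : c⁻¹ * (σ h * h⁻¹) = (σ h * h⁻¹) * c⁻¹ := by
      calc c⁻¹ * (σ h * h⁻¹) = σ h * ((σ h)⁻¹ * c⁻¹ * σ h) * h⁻¹ := by group
        _ = σ h * (h⁻¹ * c⁻¹ * h) * h⁻¹ := by rw [h2]
        _ = (σ h * h⁻¹) * c⁻¹ := by group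
    calc (σ h * h⁻¹) * c = c * (c⁻¹ * (σ h * h⁻¹)) * c := by group
      _ = c * ((σ h * h⁻¹) * c⁻¹) * c := by rw [h3]
      _ = c * (σ h * h⁻¹) := by group
  intro c hc
  rw [Subgroup.mem_center_iff]
  intro g
  have hg : g ∈ Subgroup.closure (Set.range fun h : H => σ h * h⁻¹) := by rw [hI]; trivial
  induction hg using Subgroup.closure_induction with
  | mem x hx =>
    obtain ⟨h, rfl⟩ := hx
    exact hcent h c hc
  | one => simp
  | mul x y _ _ hx hy =>
    rw [mul_assoc, hy, ← mul_assoc, hx, mul_assoc]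
  | inv x _ hx =>
    calc x⁻¹ * c = x⁻¹ * (c * x) * x⁻¹ := by group
      _ = x⁻¹ * (x * c) * x⁻¹ := by rw [hx]
      _ = c * x⁻¹ := by group

end Cfsg.Agent.Lib.helper6.SZa
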