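import Mathlib
import Cfsg.Agent.Lib.helper6.NPC23
import Cfsg.Agent.S0086
import Cfsg.Agent.S0016

set_option autoImplicit false

namespace Cfsg.Agent.Lib.helper6.SZb

open Cfsg.Agent.Lib.helper6

variable {H : Type*} [Group H] [Finite H]

theorem structure1 (huniq : ∀ x y : H, orderOf x = 2 → orderOf y = 2 → x = y)
    (hz3 : ∀ x : H, orderOf x = 3 → x ∈ Subgroup.center H) :
    ∃ (W O Q : Subgroup H) (P3 : Sylow 3 H), W.Normal ∧
      (∀ x, x ∈ W ↔ (orderOf x).Coprime 3) ∧ (∀ x, x ∈ O ↔ (orderOf x).Coprime 6) ∧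
      IsPGroup 2 Q ∧ (∀ w ∈ W, ∃ o ∈ O, ∃ q ∈ Q, w = o * q) ∧
      (∀ h : H, ∃ w ∈ W, ∃ τ ∈ P3, h = w * τ) ∧
      Nat.card W = Nat.card O * Nat.card Q ∧ Nat.card H = Nat.card W * Nat.card P3 ∧ Q ≤ W := by
  have : Fact (Nat.Prime 3) := ⟨Nat.prime_three⟩
  have : Fact (Nat.Prime 2) := ⟨Nat.prime_two⟩
  obtain ⟨P3, W, hWn, hWc⟩ := NPC23.normal_three_complement hz3
  have := hWn
  have hWmem := fun x => Cfsg.Agent.S0086.result P3 W hWc x
  have h3W : ¬ 3 ∣ Nat.card W := by
    intro h3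
    obtain ⟨x, hx⟩ := exists_prime_orderOf_dvd_card' 3 h3
    have := (hWmem x).mp x.2
    rw [Subgroup.orderOf_coe, hx] at this
    norm_num at this
  have huniqW : ∀ x y : W, orderOf x = 2 → orderOf y = 2 → x = y := by
    intro x y hx hy
    apply Subtype.ext
    apply huniq
    · rw [Subgroup.orderOf_coe]; exact hx
    · rw [Subgroup.orderOf_coe]; exact hy
  obtain ⟨QW⟩ : Nonempty (Sylow 2 W) := inferInstance
  obtain ⟨OW, hOWn, hOWc⟩ := NPC23.normal_two_complement huniqW h3W QW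
  have := hOWn
  have hOWmem := fun x => Cfsg.Agent.S0086.result QW OW hOWc x
  refine ⟨W, OW.map W.subtype, (QW : Subgroup W).map W.subtype, P3, hWn, hWmem, ?_, ?_, ?_, ?_,
    ?_, ?_, ?_⟩
  · intro x
    rw [Subgroup.mem_map]
    constructor
    · rintro ⟨y, hy, rfl⟩
      have h2 := (hOWmem y).mp hy
      have h3 := (hWmem y).mp y.2
      rw [← Subgroup.orderOf_coe] at h2
      show (orderOf (y : H)).Coprime (2 * 3)
      exact Nat.Coprime.mul_right h2 h3
    · intro h6
      have h6' : (orderOf x).Coprime (2 * 3) := h6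
      rw [Nat.coprime_mul_iff_right] at h6'
      have hxW := (hWmem x).mpr h6'.2
      refine ⟨⟨x, hxW⟩, ?_, rfl⟩
      rw [hOWmem, ← Subgroup.orderOf_coe]
      exact h6'.1
  · exact QW.isPGroup'.map W.subtype
  · intro w hw
    obtain ⟨⟨o, q⟩, hoq⟩ := hOWc.2 ⟨w, hw⟩
    refine ⟨(o : W), Subgroup.mem_map.mpr ⟨o, o.2, rfl⟩, (q : W), Subgroup.mem_map.mpr ⟨q, q.2, rfl⟩, ?_⟩
    have := congrArg Subtype.val hoq
    simpa using this.symm
  · intro h
    obtain ⟨⟨w, τ⟩, hwτ⟩ := hWc.2 h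
    exact ⟨w, w.2, τ, τ.2, hwτ.symm⟩
  · rw [Subgroup.card_map_of_injective W.subtype_injective,
      Subgroup.card_map_of_injective W.subtype_injective]
    exact hOWc.card_mul_card.symm
  · exact hWc.card_mul_card.symm
  · exact Subgroup.map_subtype_le _


theorem exists_index_two_of_two_group {G : Type*} [Group G] [Finite G] [Nontrivial G]
    (hG : IsPGroup 2 G) : ∃ K : Subgroup G, K.index = 2 := by
  have : Fact (Nat.Prime 2) := ⟨Nat.prime_two⟩
  obtain ⟨n, hn⟩ := IsPGroup.iff_card.mp hG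
  have h1 : 1 < Nat.card G := Finite.one_lt_card
  have hn0 : n ≠ 0 := by
    rintro rfl
    rw [hn] at h1
    norm_num at h1
  obtain ⟨K, hK⟩ := Sylow.exists_subgroup_card_pow_prime (G := G) 2 (n := n - 1)
    (by rw [hn]; exact pow_dvd_pow 2 (Nat.sub_le n 1))
  refine ⟨K, ?_⟩
  have hmul := K.index_mul_card
  rw [hK, hn] at hmul
  have h2 : (2 : ℕ) ^ n = 2 * 2 ^ (n - 1) := by
    rw [← pow_succ']
    congr 1
    omega
  rw [h2] at hmul
  exact Nat.eq_of_mul_eq_mul_right (pow_pos (by norm_num) _) hmul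

theorem index_two_of_quotient (M : Subgroup H) [M.Normal] (hM2 : IsPGroup 2 (H ⧸ M)) (t : H)
    (htM : t ∉ M) : ∃ N : Subgroup H, N.index = 2 := by
  haveI : Nontrivial (H ⧸ M) := by
    refine ⟨⟨(t : H ⧸ M), 1, ?_⟩⟩
    intro h
    exact htM ((QuotientGroup.eq_one_iff t).mp h)
  obtain ⟨K, hK⟩ := exists_index_two_of_two_group hM2
  refine ⟨K.comap (QuotientGroup.mk' M), ?_⟩
  rw [Subgroup.index_comap_of_surjective _ (QuotientGroup.mk'_surjective M)]
  exact hK

/-- the central elements of odd order -/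
def oddCenter (H : Type*) [Group H] [Finite H] : Subgroup H where
  carrier := {x | x ∈ Subgroup.center H ∧ Odd (orderOf x)}
  one_mem' := ⟨Subgroup.one_mem _, by simp⟩
  mul_mem' := by
    rintro a b ⟨ha, hao⟩ ⟨hb, hbo⟩
    refine ⟨Subgroup.mul_mem _ ha hb, ?_⟩
    have hcomm : Commute a b := by
      rw [Subgroup.mem_center_iff] at ha
      exact (ha b).symm
    have h1 : (a * b) ^ (orderOf a * orderOf b) = 1 := by
      rw [hcomm.mul_pow, pow_mul, pow_orderOf_eq_one, one_pow, mul_comm (orderOf a), pow_mul,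
        pow_orderOf_eq_one, one_pow, one_mul]
    exact Odd.of_dvd_nat (hao.mul hbo) (orderOf_dvd_of_pow_eq_one h1)
  inv_mem' := by
    rintro a ⟨ha, hao⟩
    exact ⟨Subgroup.inv_mem _ ha, by rwa [orderOf_inv]⟩

instance : (oddCenter H).Normal where
  conj_mem := by
    rintro n ⟨hn, hno⟩ g
    have : g * n * g⁻¹ = n := by
      rw [Subgroup.mem_center_iff] at hn
      rw [hn g]; group
    rw [this]
    exact ⟨hn, hno⟩


omit [Finite H] in
theorem mem_center_of_decomp {W O Q : Subgroup H} {P : Subgroup H} {τ x : H}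
    (hOc : O ≤ Subgroup.center H)
    (hWdec : ∀ w ∈ W, ∃ o ∈ O, ∃ q ∈ Q, w = o * q)
    (hHdec : ∀ h : H, ∃ w ∈ W, ∃ p ∈ P, h = w * p)
    (hτgen : ∀ p ∈ P, p ∈ Subgroup.zpowers τ)
    (hxτ : x ∈ Subgroup.zpowers τ)
    (hxQ : ∀ q ∈ Q, x * q * x⁻¹ = q) : x ∈ Subgroup.center H := by
  rw [Subgroup.mem_center_iff]
  intro h
  obtain ⟨w, hw, p, hp, rfl⟩ := hHdec h
  obtain ⟨o, ho, q, hq, rfl⟩ := hWdec w hw
  have h1 : Commute x o := by
    have := Subgroup.mem_center_iff.mp (hOc ho)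
    exact this x
  have h2 : Commute x q := by
    have := hxQ q hq
    show x * q = q * x
    calc x * q = (x * q * x⁻¹) * x := by group
      _ = q * x := by rw [this]
  have h3 : Commute x p := by
    obtain ⟨k, rfl⟩ := Subgroup.mem_zpowers_iff.mp hxτ
    obtain ⟨l, rfl⟩ := Subgroup.mem_zpowers_iff.mp (hτgen p hp)
    exact ((Commute.refl τ).zpow_left k).zpow_right l
  exact (((h1.mul_right h2).mul_right h3).eq).symm

theorem structure2 (huniq : ∀ x y : H, orderOf x = 2 → orderOf y = 2 → x = y)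
    (hT3 : ∀ A B : Subgroup H, Nat.card A = 3 → Nat.card B = 3 → A = B)
    (hz3 : ∀ x : H, orderOf x = 3 → x ∈ Subgroup.center H)
    (hO : ∀ O : Subgroup H, (∀ x, x ∈ O ↔ (orderOf x).Coprime 6) → O ≤ Subgroup.center H)
    (hno2 : ∀ N : Subgroup H, N.index ≠ 2) (h2 : 2 ∣ Nat.card H) :
    72 ∣ Nat.card H ∧ 6 ∣ Nat.card (Subgroup.center H) ∧
      Nat.card H ∣ 12 * Nat.card (Subgroup.center H) ∧ ∃ x y : H, x * y ≠ y * x := by
  have : Fact (Nat.Prime 3) := ⟨Nat.prime_three⟩
  have : Fact (Nat.Prime 2) := ⟨Nat.prime_two⟩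
  obtain ⟨W, O, Q, P3, hWn, hWmem, hOmem, hQp, hWdec, hHdec, hWcard, hHcard, hQW⟩ :=
    structure1 huniq hz3
  have hOc := hO O hOmem
  -- the involution
  obtain ⟨t, ht⟩ := exists_prime_orderOf_dvd_card' 2 h2
  have htc : t ∈ Subgroup.center H := by
    rw [Subgroup.mem_center_iff]
    intro g
    have h1 : orderOf (g * t * g⁻¹) = 2 := by
      rw [← ht, ← MulAut.conj_apply]
      exact (MulAut.conj g).orderOf_eq t
    have h3 := huniq _ _ h1 ht
    calc g * t = (g * t * g⁻¹) * g := by group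
      _ = t * g := by rw [h3]
  have hO2 : ¬ 2 ∣ Nat.card O := by
    intro h
    obtain ⟨x, hx⟩ := exists_prime_orderOf_dvd_card' 2 h
    have := (hOmem x).mp x.2
    rw [Subgroup.orderOf_coe, hx] at this
    norm_num at this
  have hO3 : ¬ 3 ∣ Nat.card O := by
    intro h
    obtain ⟨x, hx⟩ := exists_prime_orderOf_dvd_card' 3 h
    have := (hOmem x).mp x.2
    rw [Subgroup.orderOf_coe, hx] at this
    norm_num at this
  obtain ⟨a, ha⟩ := IsPGroup.iff_card.mp hQp
  obtain ⟨j, hj⟩ := IsPGroup.iff_card.mp P3.isPGroup'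
  -- Q normal
  have hQn : Q.Normal := by
    constructor
    intro x hx g
    have hyW : g * x * g⁻¹ ∈ W := hWn.conj_mem x (hQW hx) g
    obtain ⟨o, ho, q, hq, hoq⟩ := hWdec _ hyW
    have hxn : x ^ (2 ^ a) = 1 := by
      rw [← ha]; exact congrArg Subtype.val (pow_card_eq_one' (G := Q) (x := ⟨x, hx⟩))
    have hqn : q ^ (2 ^ a) = 1 := by
      rw [← ha]; exact congrArg Subtype.val (pow_card_eq_one' (G := Q) (x := ⟨q, hq⟩))
    have hyn : (g * x * g⁻¹) ^ (2 ^ a) = 1 := by rw [conj_pow, hxn]; group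
    have hcomm : Commute o q := by
      have := Subgroup.mem_center_iff.mp (hOc ho)
      exact (this q).symm
    have hon : o ^ (2 ^ a) = 1 := by
      rw [hoq, hcomm.mul_pow, hqn, mul_one] at hyn; exact hyn
    have hon' : o ^ Nat.card O = 1 :=
      congrArg Subtype.val (pow_card_eq_one' (G := O) (x := ⟨o, ho⟩))
    have ho1 : o = 1 := by
      have hcop : Nat.Coprime (2 ^ a) (Nat.card O) :=
        Nat.Coprime.pow_left a ((Nat.Prime.coprime_iff_not_dvd Nat.prime_two).mpr hO2)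
      have := pow_gcd_eq_one.mpr ⟨hon, hon'⟩
      rw [hcop.gcd_eq_one, pow_one] at this
      exact this
    rw [hoq, ho1, one_mul]
    exact hq
  -- P3 cyclic
  have huniq3 : ∀ A B : Subgroup P3, Nat.card A = 3 → Nat.card B = 3 → A = B := by
    intro A B hA hB
    have h1 : Nat.card (A.map (P3 : Subgroup H).subtype) = 3 := by
      rw [Subgroup.card_map_of_injective (Subgroup.subtype_injective _), hA]
    have h2 : Nat.card (B.map (P3 : Subgroup H).subtype) = 3 := by
      rw [Subgroup.card_map_of_injective (Subgroup.subtype_injective _), hB]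
    exact Subgroup.map_injective (Subgroup.subtype_injective _) (hT3 _ _ h1 h2)
  have hcyc : IsCyclic P3 := by
    rcases Cfsg.Agent.S0016.result 3 P3.isPGroup' huniq3 with h | ⟨h, -⟩
    · exact h
    · norm_num at h
  obtain ⟨g, hg⟩ := hcyc.exists_generator
  set τ : H := (g : H) with hτ
  have hτgen : ∀ p ∈ (P3 : Subgroup H), p ∈ Subgroup.zpowers τ := by
    intro p hp
    obtain ⟨k, hk⟩ := Subgroup.mem_zpowers_iff.mp (hg ⟨p, hp⟩)
    rw [Subgroup.mem_zpowers_iff]
    refine ⟨k, ?_⟩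
    have := congrArg Subtype.val hk
    simpa using this
  have hτord : orderOf τ = 3 ^ j := by
    rw [hτ, Subgroup.orderOf_coe, orderOf_eq_card_of_forall_mem_zpowers hg, hj]
  have hτnorm : τ ∈ Subgroup.normalizer (Q : Set H) := by
    rw [Subgroup.mem_normalizer_iff]
    intro x
    constructor
    · intro hx; exact hQn.conj_mem x hx τ
    · intro hx
      have := hQn.conj_mem _ hx τ⁻¹
      simpa [mul_assoc] using this
  obtain ⟨hc1, hc3⟩ := QAut.conj_lemma Q hQp (fun x _ y _ hx hy => huniq x y hx hy) τ hτnorm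
    (k := 3 ^ j) (Odd.pow (by decide)) (by rw [← hτord]; exact pow_orderOf_eq_one τ)
  by_cases hcase : ∀ x ∈ Q, τ * x * τ⁻¹ = x
  · exfalso
    have hτc : τ ∈ Subgroup.center H :=
      mem_center_of_decomp hOc hWdec hHdec hτgen (Subgroup.mem_zpowers τ) hcase
    -- quotient by the odd centre is a 2-group
    have hOM : ∀ o ∈ O, o ∈ oddCenter H := by
      intro o ho
      refine ⟨hOc ho, ?_⟩
      have := (hOmem o).mp ho
      have h6 : (orderOf o).Coprime (2 * 3) := this
      rw [Nat.coprime_mul_iff_right] at h6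
      exact Nat.coprime_two_right.mp h6.1
    have hPM : ∀ p ∈ (P3 : Subgroup H), p ∈ oddCenter H := by
      intro p hp
      obtain ⟨k, rfl⟩ := Subgroup.mem_zpowers_iff.mp (hτgen p hp)
      refine ⟨Subgroup.zpow_mem _ hτc k, ?_⟩
      have hd : orderOf (τ ^ k) ∣ 3 ^ j := by
        rw [← hτord]; exact orderOf_dvd_of_mem_zpowers (Subgroup.zpow_mem_zpowers τ k)
      exact Odd.of_dvd_nat (Odd.pow (by decide)) hd
    have hM2 : IsPGroup 2 (H ⧸ oddCenter H) := by
      intro x
      obtain ⟨h, rfl⟩ := QuotientGroup.mk_surjective x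
      obtain ⟨w, hw, p, hp, rfl⟩ := hHdec h
      obtain ⟨o, ho, q, hq, rfl⟩ := hWdec w hw
      obtain ⟨k, hk⟩ := hQp ⟨q, hq⟩
      refine ⟨k, ?_⟩
      have h1 : ((o * q * p : H) : H ⧸ oddCenter H) = (q : H ⧸ oddCenter H) := by
        rw [QuotientGroup.mk_mul, QuotientGroup.mk_mul,
          (QuotientGroup.eq_one_iff o).mpr (hOM o ho), (QuotientGroup.eq_one_iff p).mpr (hPM p hp),
          one_mul, mul_one]
      rw [h1, ← QuotientGroup.mk_pow]
      have h2 : q ^ 2 ^ k = 1 := congrArg Subtype.val hk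
      rw [h2]
      rfl
    have htM : t ∉ oddCenter H := by
      rintro ⟨-, hodd⟩
      rw [ht] at hodd
      exact absurd hodd (by decide)
    obtain ⟨N, hN⟩ := index_two_of_quotient (oddCenter H) hM2 t htM
    exact hno2 N hN
  · have h8 : Nat.card Q = 8 := by
      by_contra h
      exact hcase (hc1 h)
    have ha3 : a = 3 := by
      rw [ha] at h8
      have : (2 : ℕ) ^ a = 2 ^ 3 := by rw [h8]; norm_num
      exact Nat.pow_right_injective (le_refl 2) this
    have hτnc : τ ∉ Subgroup.center H := by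
      intro hc
      apply hcase
      intro x _
      have := Subgroup.mem_center_iff.mp hc x
      rw [← this]; group
    have hj2 : 2 ≤ j := by
      by_contra hlt
      push Not at hlt
      interval_cases j
      · apply hτnc
        have : τ = 1 := by rw [← orderOf_eq_one_iff, hτord]; norm_num
        rw [this]; exact Subgroup.one_mem _
      · apply hτnc
        apply hz3
        rw [hτord]; norm_num
    have hτ3c : τ ^ 3 ∈ Subgroup.center H :=
      mem_center_of_decomp hOc hWdec hHdec hτgen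
        (Subgroup.pow_mem _ (Subgroup.mem_zpowers τ) 3) hc3
    have hτ3ord : orderOf (τ ^ 3) = 3 ^ (j - 1) := by
      rw [orderOf_pow' τ (by norm_num), hτord]
      have : Nat.gcd (3 ^ j) 3 = 3 := Nat.gcd_eq_right (dvd_pow_self 3 (by omega))
      rw [this]
      have h3 : (3 : ℕ) ^ j = 3 ^ (j - 1) * 3 := by
        rw [← pow_succ]; congr 1; omega
      rw [h3, Nat.mul_div_cancel _ (by norm_num)]
    set Z := Subgroup.center H with hZ
    have hd1 : Nat.card O ∣ Nat.card Z := Subgroup.card_dvd_of_le hOc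
    have hd2 : 2 ∣ Nat.card Z := by
      have := orderOf_dvd_natCard (⟨t, htc⟩ : Z)
      rwa [← Subgroup.orderOf_coe, ht] at this
    have hd3 : 3 ^ (j - 1) ∣ Nat.card Z := by
      have := orderOf_dvd_natCard (⟨τ ^ 3, hτ3c⟩ : Z)
      rwa [← Subgroup.orderOf_coe, hτ3ord] at this
    have hcopO2 : Nat.Coprime (Nat.card O) 2 :=
      (Nat.coprime_comm.mp ((Nat.Prime.coprime_iff_not_dvd Nat.prime_two).mpr hO2))
    have hcopO3 : Nat.Coprime (Nat.card O) (3 ^ (j - 1)) :=
      Nat.Coprime.pow_right _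
        (Nat.coprime_comm.mp ((Nat.Prime.coprime_iff_not_dvd Nat.prime_three).mpr hO3))
    have hcop23 : Nat.Coprime 2 (3 ^ (j - 1)) := Nat.Coprime.pow_right _ (by norm_num)
    have hd23 : 2 * 3 ^ (j - 1) ∣ Nat.card Z := hcop23.mul_dvd_of_dvd_of_dvd hd2 hd3
    have hdall : Nat.card O * (2 * 3 ^ (j - 1)) ∣ Nat.card Z :=
      (Nat.Coprime.mul_right hcopO2 hcopO3).mul_dvd_of_dvd_of_dvd hd1 hd23
    have hHc : Nat.card H = Nat.card O * 8 * 3 ^ j := by
      rw [hHcard, hWcard, h8, hj]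
    have h3j : (3 : ℕ) ^ j = 9 * 3 ^ (j - 2) := by
      have : j = 2 + (j - 2) := by omega
      conv_lhs => rw [this, pow_add]
      norm_num
    have h3j' : (3 : ℕ) ^ (j - 1) = 3 * 3 ^ (j - 2) := by
      have : j - 1 = 1 + (j - 2) := by omega
      rw [this, pow_add, pow_one]
    refine ⟨?_, ?_, ?_, ?_⟩
    · rw [hHc, h3j]
      exact ⟨Nat.card O * 3 ^ (j - 2), by ring⟩
    · have : 6 ∣ 2 * 3 ^ (j - 1) := by
        rw [h3j']; exact ⟨3 ^ (j - 2), by ring⟩
      exact this.trans hd23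
    · have : Nat.card H = 12 * (Nat.card O * (2 * 3 ^ (j - 1))) := by
        rw [hHc, h3j, h3j']; ring
      rw [this]
      exact Nat.mul_dvd_mul_left 12 hdall
    · push Not at hcase
      obtain ⟨x, hx, hne⟩ := hcase
      refine ⟨τ, x, ?_⟩
      intro h
      apply hne
      rw [h]; group

end Cfsg.Agent.Lib.helper6.SZb
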