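import Mathlib

set_option autoImplicit false

namespace Cfsg.Agent.Lib.helper6.SZc

variable {H V : Type*} [Group H] [Finite H] [AddCommGroup V] [Finite V] [DistribMulAction H V]

omit [Finite H] in
theorem transitive_of_free (hfree : ∀ h : H, h ≠ 1 → ∀ v : V, h • v = v → v = 0)
    (hcard : Nat.card H + 1 = Nat.card V) (u v : V) (hu : u ≠ 0) (hv : v ≠ 0) :
    ∃ h : H, h • u = v := by
  classical
  let f : H → {w : V // w ≠ 0} := fun h => ⟨h • u, by
    intro h0
    apply hu
    have := congrArg (fun w => h⁻¹ • w) h0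
    simpa using this⟩
  have hf : Function.Injective f := by
    intro h k hhk
    have h1 : h • u = k • u := congrArg Subtype.val hhk
    have h2 : (k⁻¹ * h) • u = u := by rw [mul_smul, h1, inv_smul_smul]
    by_contra hne
    have h3 : k⁻¹ * h ≠ 1 := by
      intro h4
      apply hne
      have : h = k * (k⁻¹ * h) := by group
      rw [this, h4, mul_one]
    exact hu (hfree _ h3 u h2)
  have hc : Nat.card {w : V // w ≠ 0} ≤ Nat.card H := by
    letI := Fintype.ofFinite V
    rw [Nat.card_eq_fintype_card, Fintype.card_subtype_compl, Fintype.card_subtype_eq,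
      ← Nat.card_eq_fintype_card]
    omega
  have hb := hf.bijective_of_nat_card_le hc
  obtain ⟨h, hh⟩ := hb.2 ⟨v, hv⟩
  exact ⟨h, congrArg Subtype.val hh⟩

theorem field_bound (hfree : ∀ h : H, h ≠ 1 → ∀ v : V, h • v = v → v = 0)
    (hcard : Nat.card H + 1 = Nat.card V) :
    ∃ q d : ℕ, 2 ≤ q ∧ 1 ≤ d ∧ Nat.card V = q ^ d ∧ Nat.card (Subgroup.center H) ∣ q - 1 ∧
      (d = 1 → ∀ x y : H, x * y = y * x) := by
  classical
  have htr := transitive_of_free hfree hcard
  have hVnt : Nontrivial V := by
    rw [← Finite.one_lt_card_iff_nontrivial]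
    have : 0 < Nat.card H := Nat.card_pos
    omega
  obtain ⟨v0, hv0⟩ := exists_ne (0 : V)
  let ρ : H →* AddMonoid.End V := DistribMulAction.toAddMonoidEnd H V
  have hρ : ∀ h v, ρ h v = h • v := fun h v => rfl
  let S : Set (AddMonoid.End V) := Set.range (fun z : Subgroup.center H => ρ z)
  have hScomm : ∀ x ∈ S, ∀ y ∈ S, x * y = y * x := by
    rintro _ ⟨z1, rfl⟩ _ ⟨z2, rfl⟩
    show ρ z1 * ρ z2 = ρ z2 * ρ z1
    rw [← map_mul, ← map_mul]
    congr 1
    have := Subgroup.mem_center_iff.mp z1.2 z2
    exact this.symm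
  let E : Subring (AddMonoid.End V) := Subring.closure S
  letI : CommRing E := Subring.closureCommRingOfComm hScomm
  -- elements of E commute with ρ H
  have hEC : ∀ f ∈ E, ∀ h : H, ρ h * f = f * ρ h := by
    intro f hf h
    have : E ≤ Subring.centralizer (Set.range ρ) := by
      apply Subring.closure_le.mpr
      rintro _ ⟨z, rfl⟩
      rw [SetLike.mem_coe, Subring.mem_centralizer_iff]
      rintro _ ⟨k, rfl⟩
      show ρ k * ρ z = ρ z * ρ k
      rw [← map_mul, ← map_mul]
      congr 1
      exact Subgroup.mem_center_iff.mp z.2 k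
    have h1 := this hf
    rw [Subring.mem_centralizer_iff] at h1
    exact h1 (ρ h) ⟨h, rfl⟩
  have hEC' : ∀ f ∈ E, ∀ h : H, ∀ v : V, h • (f v) = f (h • v) := by
    intro f hf h v
    have := congrArg (fun g : AddMonoid.End V => g v) (hEC f hf h)
    exact this
  -- nonzero elements are injective
  have hinj : ∀ f ∈ E, f ≠ 0 → ∀ v : V, f v = 0 → v = 0 := by
    intro f hf hf0 u hu
    by_contra hu0
    apply hf0
    ext v
    by_cases hv : v = 0
    · rw [hv]; simp
    · obtain ⟨h, rfl⟩ := htr u v hu0 hv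
      rw [← hEC' f hf h u, hu]
      simp
  haveI : Nontrivial E := by
    refine ⟨⟨0, 1, ?_⟩⟩
    intro h
    have h1 : ((0 : E) : AddMonoid.End V) v0 = ((1 : E) : AddMonoid.End V) v0 := by rw [h]
    simp at h1
    exact hv0 h1.symm
  haveI : NoZeroDivisors E := by
    constructor
    intro f g hfg
    by_cases hf0 : f = 0
    · exact Or.inl hf0
    · right
      apply Subtype.ext
      ext v
      have h1 : ((f * g : E) : AddMonoid.End V) v = 0 := by rw [hfg]; simp
      have h2 : (f : AddMonoid.End V) ((g : AddMonoid.End V) v) = 0 := h1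
      have hf0' : (f : AddMonoid.End V) ≠ 0 := fun h => hf0 (Subtype.ext h)
      exact hinj f f.2 hf0' _ h2
  haveI : IsDomain E := NoZeroDivisors.to_isDomain E
  haveI : Finite (AddMonoid.End V) := Finite.of_injective (fun f => (f : V → V)) DFunLike.coe_injective
  haveI : Finite E := inferInstance
  letI : Fintype E := Fintype.ofFinite E
  letI : Field E := Fintype.fieldOfDomain E
  have hsm : ∀ (f : E) (v : V), f • v = (f : AddMonoid.End V) v := fun f v => rfl
  refine ⟨Nat.card E, Module.finrank E V, Finite.one_lt_card, ?_, Module.natCard_eq_pow_finrank, ?_, ?_⟩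
  · exact Module.finrank_pos
  · -- centre embeds in units
    let ψ : Subgroup.center H →* E :=
      { toFun := fun z => ⟨ρ z, Subring.subset_closure ⟨z, rfl⟩⟩
        map_one' := by apply Subtype.ext; simp
        map_mul' := by intro a b; apply Subtype.ext; simp }
    let φ : Subgroup.center H →* Eˣ := (Units.map ψ).comp toUnits.toMonoidHom
    have hφ : Function.Injective φ := by
      rw [injective_iff_map_eq_one]
      intro z hz
      have h1 : ((φ z : Eˣ) : E) = 1 := by rw [hz]; rfl
      have h2 : ψ z = 1 := h1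
      have h3 : ρ z = 1 := congrArg Subtype.val h2
      have h4 : (z : H) • v0 = v0 := by rw [← hρ, h3]; rfl
      by_contra hz1
      have : (z : H) ≠ 1 := fun h => hz1 (Subtype.ext h)
      exact hv0 (hfree _ this v0 h4)
    have := Subgroup.card_dvd_of_injective φ hφ
    rwa [Nat.card_units] at this
  · intro hd x y
    obtain ⟨v, hv, hgen⟩ := finrank_eq_one_iff'.mp hd
    obtain ⟨c1, hc1⟩ := hgen (x • v)
    obtain ⟨c2, hc2⟩ := hgen (y • v)
    have e1 : (x * y) • v = (c2 * c1) • v := by
      rw [mul_smul, ← hc2, hsm, hEC' _ c2.2, ← hc1, ← hsm, mul_smul]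
    have e2 : (y * x) • v = (c1 * c2) • v := by
      rw [mul_smul, ← hc1, hsm, hEC' _ c1.2, ← hc2, ← hsm, mul_smul]
    have e3 : (x * y) • v = (y * x) • v := by rw [e1, e2, mul_comm]
    have e4 : ((y * x)⁻¹ * (x * y)) • v = v := by rw [mul_smul, e3, inv_smul_smul]
    by_contra hne
    have : (y * x)⁻¹ * (x * y) ≠ 1 := by
      intro h
      apply hne
      have : x * y = (y * x) * ((y * x)⁻¹ * (x * y)) := by group
      rw [this, h, mul_one]
    exact hv (hfree _ this v e4)

end Cfsg.Agent.Lib.helper6.SZc
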