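import Mathlib
import Cfsg.Agent.Lib.helper6.SZa
import Cfsg.Agent.Lib.helper6.SZb
import Cfsg.Agent.Lib.helper6.SZc

set_option autoImplicit false

namespace Cfsg.Agent.Lib.helper6.SZd

open Cfsg.Agent.Lib.helper6

/-- A finite group `H` of even order acting freely on the non-zero elements of an abelian group
of order `|H| + 1`, with an involutory automorphism `σ` whose fixed points have exponent 2 and
with at most one subgroup of order 3, has a `σ`-invariant subgroup of index 2. -/
theorem lemmaZ {H V : Type*} [Group H] [Finite H] [AddCommGroup V] [Finite V]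
    [DistribMulAction H V]
    (hfree : ∀ h : H, h ≠ 1 → ∀ v : V, h • v = v → v = 0)
    (hcard : Nat.card H + 1 = Nat.card V) (heven : Even (Nat.card H))
    (σ : H ≃* H) (hσ : ∀ h, σ (σ h) = h) (hfix : ∀ h, σ h = h → h ^ 2 = 1)
    (hT3 : ∀ A B : Subgroup H, Nat.card A = 3 → Nat.card B = 3 → A = B) :
    ∃ N : Subgroup H, N.index = 2 ∧ ∀ n ∈ N, σ n ∈ N := by
  have : Fact (Nat.Prime 2) := ⟨Nat.prime_two⟩
  by_contra hbad
  have hbad' : SZa.Bad σ := hbad
  have hneg : ∀ t : H, orderOf t = 2 → ∀ v : V, t • v = -v := by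
    intro t ht v
    have ht2 : t * t = 1 := by rw [← pow_two, ← ht, pow_orderOf_eq_one]
    have ht1 : t ≠ 1 := by
      intro h; rw [h, orderOf_one] at ht; norm_num at ht
    have h1 : t • (v + t • v) = v + t • v := by
      rw [smul_add, ← mul_smul, ht2, one_smul, add_comm]
    have h2 := hfree t ht1 _ h1
    exact (neg_eq_of_add_eq_zero_right h2).symm
  have hVnt : Nontrivial V := by
    rw [← Finite.one_lt_card_iff_nontrivial]
    have : 0 < Nat.card H := Nat.card_pos
    omega
  obtain ⟨v0, hv0⟩ := exists_ne (0 : V)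
  have huniq : ∀ x y : H, orderOf x = 2 → orderOf y = 2 → x = y := by
    intro x y hx hy
    have h1 : (y⁻¹ * x) • v0 = v0 := by
      rw [mul_smul, hneg x hx, ← hneg y hy, inv_smul_smul]
    by_contra hne
    have : y⁻¹ * x ≠ 1 := by
      intro h
      apply hne
      have : x = y * (y⁻¹ * x) := by group
      rw [this, h, mul_one]
    exact hv0 (hfree _ this v0 h1)
  have h2 : 2 ∣ Nat.card H := heven.two_dvd
  obtain ⟨t, ht⟩ := exists_prime_orderOf_dvd_card' 2 h2
  have hfix' : ∃ t : H, ∀ h, σ h = h → h = 1 ∨ h = t := by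
    refine ⟨t, fun h hh => ?_⟩
    have h2 := hfix h hh
    by_cases h1 : h = 1
    · exact Or.inl h1
    · exact Or.inr (huniq _ _ (orderOf_eq_prime h2 h1) ht)
  have hI := SZa.closure_I σ hσ hfix' hbad'
  have hno2 := SZa.no_index_two σ hσ hbad'
  have hz3 : ∀ x : H, orderOf x = 3 → x ∈ Subgroup.center H := by
    intro x hx
    have hcard3 : Nat.card (Subgroup.zpowers x) = 3 := by rw [Nat.card_zpowers, hx]
    have hn : (Subgroup.zpowers x).Normal := by
      constructor
      intro y hy g
      have h1 : (Subgroup.zpowers x).map (MulAut.conj g).toMonoidHom = Subgroup.zpowers x :=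
        hT3 _ _ (by rw [Subgroup.card_map_of_injective (MulAut.conj g).injective, hcard3]) hcard3
      rw [← h1]
      exact Subgroup.mem_map.mpr ⟨y, hy, rfl⟩
    have hσinv : ∀ c ∈ Subgroup.zpowers x, σ c ∈ Subgroup.zpowers x := by
      intro c hc
      have h1 : (Subgroup.zpowers x).map σ.toMonoidHom = Subgroup.zpowers x :=
        hT3 _ _ (by rw [Subgroup.card_map_of_injective σ.injective, hcard3]) hcard3
      rw [← h1]
      exact Subgroup.mem_map.mpr ⟨c, hc, rfl⟩
    have := SZa.central_of_odd σ hσ hfix hI (Subgroup.zpowers x) hn hσinv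
      (by rw [hcard3]; decide)
    exact this (Subgroup.mem_zpowers x)
  have hO : ∀ O : Subgroup H, (∀ x, x ∈ O ↔ (orderOf x).Coprime 6) → O ≤ Subgroup.center H := by
    intro O hOmem
    have hn : O.Normal := by
      constructor
      intro y hy g
      rw [hOmem] at hy ⊢
      rwa [← MulAut.conj_apply, (MulAut.conj g).orderOf_eq]
    have hσinv : ∀ c ∈ O, σ c ∈ O := by
      intro c hc
      rw [hOmem] at hc ⊢
      rwa [σ.orderOf_eq]
    have hodd : Odd (Nat.card O) := by
      by_contra hne
      rw [Nat.not_odd_iff_even] at hne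
      obtain ⟨x, hx⟩ := exists_prime_orderOf_dvd_card' 2 hne.two_dvd
      have := (hOmem x).mp x.2
      rw [Subgroup.orderOf_coe, hx] at this
      norm_num at this
    exact SZa.central_of_odd σ hσ hfix hI O hn hσinv hodd
  obtain ⟨h72, h6, h12, x, y, hxy⟩ := SZb.structure2 huniq hT3 hz3 hO hno2 h2
  obtain ⟨q, d, hq, hd, hV, hZ, hab⟩ := SZc.field_bound hfree hcard
  have hd1 : d ≠ 1 := fun h => hxy (hab h x y)
  set z := Nat.card (Subgroup.center H) with hz
  set n := Nat.card H with hn
  have hzpos : 0 < z := Nat.card_pos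
  have hnpos : 0 < n := Nat.card_pos
  have hz6 : 6 ≤ z := Nat.le_of_dvd hzpos h6
  have hq1pos : 0 < q - 1 := by omega
  have hq1 : z ≤ q - 1 := Nat.le_of_dvd hq1pos hZ
  have hn12 : n ≤ 12 * z := Nat.le_of_dvd (by omega) h12
  have hq2 : q ^ 2 ≤ q ^ d := Nat.pow_le_pow_right (by omega) (by omega)
  have hq11 : q ≤ 11 := by
    by_contra hlt
    push Not at hlt
    have : q ^ 2 ≤ 12 * (q - 1) + 1 := by omega
    have h3 : q - 1 + 1 = q := by omega
    nlinarith
  have h6q : 6 ∣ q - 1 := h6.trans hZ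
  have hq7 : q = 7 := by omega
  subst hq7
  have hz6' : z = 6 := Nat.dvd_antisymm hZ h6
  rw [hz6'] at h12
  have hn72 : n = 72 := Nat.dvd_antisymm h12 h72
  rw [hn72] at hcard
  rw [← hcard] at hV
  rcases Nat.lt_or_ge d 3 with h3 | h3
  · have : d = 2 := by omega
    rw [this] at hV
    norm_num at hV
  · have : 7 ^ 3 ≤ 7 ^ d := Nat.pow_le_pow_right (by norm_num) h3
    omega

end Cfsg.Agent.Lib.helper6.SZd
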