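import Mathlib
import Cfsg.Agent.Lib.helper6.Sharp3Comm
import Cfsg.Agent.Lib.helper6.FieldIrr
set_option autoImplicit false

namespace Cfsg.Agent.Lib.helper6.Sharp3F


theorem sign_semiregular {α : Type*} [Fintype α] [DecidableEq α] (σ : Equiv.Perm α) (m r : ℕ)
    (hm : orderOf σ = m) (hmeven : Even m) (hm0 : 0 < m)
    (hsr : ∀ i : ℕ, ∀ x ∈ σ.support, (σ ^ i) x = x → σ ^ i = 1)
    (hr : σ.support.card = r * m) (hrodd : Odd r) : Equiv.Perm.sign σ = -1 := by
  have hall : ∀ n ∈ σ.cycleType, n = m := by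
    intro n hn
    have h1 : n ∣ m := hm ▸ Equiv.Perm.dvd_of_mem_cycleType hn
    obtain ⟨c, τ, hστ, hdisj, hc, hcn⟩ := Equiv.Perm.mem_cycleType_iff.mp hn
    obtain ⟨x, hx⟩ : ∃ x, x ∈ c.support := by
      have := hc.two_le_card_support
      apply Finset.card_pos.mp
      omega
    have hxσ : x ∈ σ.support := by
      rw [hστ, hdisj.support_mul]; exact Finset.mem_union_left _ hx
    have hxτ : ∀ i : ℕ, (τ ^ i) x = x := by
      intro i
      have h1 : x ∉ τ.support := by
        intro h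
        exact (Finset.disjoint_left.mp hdisj.disjoint_support hx) h
      have h2 : τ x = x := Equiv.Perm.notMem_support.mp h1
      exact Equiv.Perm.pow_apply_eq_self_of_apply_eq_self h2 i
    have hpow : ∀ i : ℕ, (σ ^ i) x = (c ^ i) x := by
      intro i
      rw [hστ, hdisj.commute.mul_pow, Equiv.Perm.mul_apply, hxτ]
    have h2 : σ ^ n = 1 := by
      apply hsr n x hxσ
      rw [hpow, ← hcn, ← hc.orderOf, pow_orderOf_eq_one]; rfl
    have h3 : m ∣ n := hm ▸ orderOf_dvd_of_pow_eq_one h2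
    exact Nat.dvd_antisymm h1 h3
  have hrep : σ.cycleType = Multiset.replicate r m := by
    rw [Multiset.eq_replicate]
    refine ⟨?_, hall⟩
    have hsum := Equiv.Perm.sum_cycleType σ
    have : σ.cycleType = Multiset.replicate (Multiset.card σ.cycleType) m :=
      Multiset.eq_replicate_card.mpr hall
    rw [this, Multiset.sum_replicate, hr, smul_eq_mul] at hsum
    exact Nat.eq_of_mul_eq_mul_right hm0 hsum
  rw [Equiv.Perm.sign_of_cycleType, hrep, Multiset.sum_replicate, Multiset.card_replicate,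
    smul_eq_mul]
  apply Odd.neg_one_pow
  exact Even.add_odd (hmeven.mul_left r) hrodd
theorem two_part (p f : ℕ) (hp : p.Prime) (hp2 : p ≠ 2) (hf : Odd f) :
    ∃ k t r : ℕ, 1 ≤ k ∧ Odd t ∧ p - 1 = 2 ^ k * t ∧ Odd r ∧ p ^ f - 1 = r * 2 ^ k := by
  have hp1 : p - 1 ≠ 0 := by have := hp.two_le; omega
  obtain ⟨k, t, ht, hkt⟩ := Nat.exists_eq_two_pow_mul_odd hp1
  have hpodd : Odd p := hp.odd_of_ne_two hp2
  have hk : 1 ≤ k := by
    rcases Nat.eq_zero_or_pos k with h | h
    · exfalso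
      rw [h, pow_zero, one_mul] at hkt
      rw [← hkt] at ht
      obtain ⟨a, ha⟩ := hpodd
      obtain ⟨b, hb⟩ := ht
      omega
    · exact h
  have hgs : (∑ i ∈ Finset.range f, p ^ i) * (p - 1) + 1 = p ^ f := by
    have := geom_sum_mul_add (p - 1) f
    have h1 : p - 1 + 1 = p := by have := hp.two_le; omega
    rw [h1] at this
    exact this
  have hgsodd : Odd (∑ i ∈ Finset.range f, p ^ i) := by
    rw [Finset.odd_sum_iff_odd_card_odd]
    have : (Finset.range f).filter (fun x => Odd (p ^ x)) = Finset.range f := by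
      apply Finset.filter_true_of_mem
      intro x _
      exact hpodd.pow
    rw [this, Finset.card_range]
    exact hf
  refine ⟨k, t, (∑ i ∈ Finset.range f, p ^ i) * t, hk, ht, hkt, hgsodd.mul ht, ?_⟩
  have : p ^ f - 1 = (∑ i ∈ Finset.range f, p ^ i) * (p - 1) := by omega
  rw [this, hkt]
  ring

theorem exists_odd_elt {G α : Type*} [Group G] [MulAction G α] [Fintype α] [DecidableEq α]
    [FaithfulSMul G α] {pinf p0 : α} (hi0 : pinf ≠ p0) (KG : Subgroup G)
    (hHreg : ∀ h : G, h • pinf = pinf → h • p0 = p0 → ∀ x : α, x ≠ pinf → x ≠ p0 →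
      h • x = x → h = 1)
    (hsemi : ∀ h : G, h • pinf = pinf → h • p0 = p0 → ∀ w ∈ KG, w ≠ 1 →
      h * w * h⁻¹ = w → h = 1)
    (htrans : ∀ a ∈ KG, a ≠ 1 → ∀ b ∈ KG, b ≠ 1 →
      ∃ d : G, d • pinf = pinf ∧ d • p0 = p0 ∧ d * a * d⁻¹ = b)
    {p f : ℕ} (hp : p.Prime) (hp2 : p ≠ 2) (hf : Odd f) (hK : Nat.card KG = p ^ f)
    (hα : Fintype.card α = p ^ f + 1) :
    ∃ h : G, h • pinf = pinf ∧ h • p0 = p0 ∧
      Equiv.Perm.sign (MulAction.toPerm h : Equiv.Perm α) = -1 := by
  classical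
  haveI : Fact p.Prime := ⟨hp⟩
  obtain ⟨k, t, r, hk, ht, hkt, hr, hrk⟩ := two_part p f hp hp2 hf
  have hf1 : 1 ≤ f := by obtain ⟨a, ha⟩ := hf; omega
  have hpK : p ∣ Nat.card KG := by rw [hK]; exact dvd_pow_self p (by omega)
  haveI : Finite KG := Nat.finite_of_card_ne_zero (by rw [hK]; exact (pow_pos hp.pos f).ne')
  obtain ⟨v', hv'⟩ := exists_prime_orderOf_dvd_card' p hpK
  obtain ⟨v, hv⟩ : ∃ v : G, v = (v' : G) := ⟨_, rfl⟩
  have hvK : v ∈ KG := by rw [hv]; exact v'.2
  have hvord : orderOf v = p := by rw [hv, Subgroup.orderOf_coe, hv']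
  have hv1 : v ≠ 1 := by
    intro h
    rw [h, orderOf_one] at hvord
    exact hp.one_lt.ne hvord
  obtain ⟨g, hg⟩ := IsCyclic.exists_ofOrder_eq_natCard (α := (ZMod p)ˣ)
  have hcardU : Nat.card (ZMod p)ˣ = p - 1 := by
    rw [Nat.card_eq_fintype_card, ZMod.card_units_eq_totient, Nat.totient_prime hp]
  obtain ⟨u, hu⟩ : ∃ u : (ZMod p)ˣ, u = g ^ t := ⟨_, rfl⟩
  have huord : orderOf u = 2 ^ k := by
    rw [hu, orderOf_pow_of_dvd ht.pos.ne' (by rw [hg, hcardU, hkt]; exact dvd_mul_left _ _), hg,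
      hcardU, hkt]
    exact Nat.mul_div_cancel _ ht.pos
  obtain ⟨c, hc⟩ : ∃ c : ℕ, c = ((u : ZMod p)).val := ⟨_, rfl⟩
  have hcu : ((c : ℕ) : ZMod p) = (u : ZMod p) := by rw [hc]; exact ZMod.natCast_zmod_val _
  have hpow_eq : ∀ i : ℕ, v ^ (c ^ i) = v ↔ u ^ i = 1 := by
    intro i
    constructor
    · intro h
      have h1 : v ^ (c ^ i) = v ^ 1 := by rw [pow_one]; exact h
      rw [pow_eq_pow_iff_modEq, hvord, ← ZMod.natCast_eq_natCast_iff] at h1
      push_cast at h1
      rw [hcu] at h1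
      exact Units.ext (by rw [Units.val_pow_eq_pow_val, h1]; rfl)
    · intro h
      have h1 : ((c ^ i : ℕ) : ZMod p) = ((1 : ℕ) : ZMod p) := by
        push_cast; rw [hcu, ← Units.val_pow_eq_pow_val, h]; rfl
      rw [ZMod.natCast_eq_natCast_iff, ← hvord, ← pow_eq_pow_iff_modEq, pow_one] at h1
      exact h1
  have hvc1 : v ^ c ≠ 1 := by
    intro h
    have h1 : p ∣ c := by rw [← hvord]; exact orderOf_dvd_of_pow_eq_one h
    have h2 : ((c : ℕ) : ZMod p) = 0 := (ZMod.natCast_eq_zero_iff c p).mpr h1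
    rw [hcu] at h2
    exact u.ne_zero h2
  obtain ⟨h, hhi, hh0, hconj⟩ := htrans v hvK hv1 (v ^ c) (KG.pow_mem hvK c) hvc1
  have hiter : ∀ i : ℕ, h ^ i * v * (h ^ i)⁻¹ = v ^ (c ^ i) := by
    intro i
    induction i with
    | zero => simp
    | succ i ih =>
      have e1 : h ^ (i + 1) * v * (h ^ (i + 1))⁻¹ = h * (h ^ i * v * (h ^ i)⁻¹) * h⁻¹ := by
        rw [pow_succ']; group
      rw [e1, ih, ← conj_pow, hconj, ← pow_mul, pow_succ']
  have hpi : ∀ i : ℕ, h ^ i • pinf = pinf := by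
    intro i
    have : h ∈ MulAction.stabilizer G pinf := hhi
    exact (Subgroup.pow_mem _ this i)
  have hp0 : ∀ i : ℕ, h ^ i • p0 = p0 := by
    intro i
    have : h ∈ MulAction.stabilizer G p0 := hh0
    exact (Subgroup.pow_mem _ this i)
  have hpow1 : ∀ i : ℕ, h ^ i = 1 ↔ 2 ^ k ∣ i := by
    intro i
    constructor
    · intro hi
      have := hiter i
      rw [hi] at this
      simp only [one_mul, inv_one, mul_one] at this
      have h2 := (hpow_eq i).mp this.symm
      rw [← huord]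
      exact orderOf_dvd_of_pow_eq_one h2
    · intro hi
      have h2 : u ^ i = 1 := by
        rw [← huord] at hi
        exact orderOf_dvd_iff_pow_eq_one.mp hi
      have h3 := (hpow_eq i).mpr h2
      have h4 := hiter i
      rw [h3] at h4
      exact hsemi _ (hpi i) (hp0 i) v hvK hv1 h4
  have hord : orderOf h = 2 ^ k :=
    Nat.dvd_antisymm (orderOf_dvd_of_pow_eq_one ((hpow1 _).mpr dvd_rfl))
      ((hpow1 _).mp (pow_orderOf_eq_one h))
  refine ⟨h, hhi, hh0, ?_⟩
  have hh1 : h ≠ 1 := by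
    intro h1
    rw [h1, orderOf_one] at hord
    have : 2 ≤ 2 ^ k := by
      calc 2 = 2 ^ 1 := by norm_num
        _ ≤ 2 ^ k := Nat.pow_le_pow_right (by norm_num) hk
    omega
  have hσord : orderOf (MulAction.toPerm h : Equiv.Perm α) = 2 ^ k := by
    rw [← hord]
    exact orderOf_injective (MulAction.toPermHom G α) MulAction.toPerm_injective h
  have hsupp : (MulAction.toPerm h : Equiv.Perm α).support = ({pinf, p0} : Finset α)ᶜ := by
    ext x
    rw [Equiv.Perm.mem_support, Finset.mem_compl, Finset.mem_insert, Finset.mem_singleton,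
      MulAction.toPerm_apply]
    constructor
    · intro hx hx'
      rcases hx' with rfl | rfl
      · exact hx hhi
      · exact hx hh0
    · intro hx hx'
      push Not at hx
      exact hh1 (hHreg h hhi hh0 x hx.1 hx.2 hx')
  have hcard : (MulAction.toPerm h : Equiv.Perm α).support.card = r * 2 ^ k := by
    rw [hsupp, Finset.card_compl, Finset.card_pair hi0, hα, ← hrk]
    have : 1 ≤ p ^ f := Nat.one_le_pow _ _ hp.pos
    omega
  apply sign_semiregular _ (2 ^ k) r hσord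
    ((Nat.even_pow' (by omega)).mpr even_two) (pow_pos (by norm_num) k) _ hcard hr
  intro i x hx hix
  have e1 : (MulAction.toPerm h : Equiv.Perm α) ^ i = MulAction.toPerm (h ^ i) := by
    rw [← MulAction.toPermHom_apply, ← map_pow]; rfl
  rw [e1] at hix ⊢
  rw [MulAction.toPerm_apply] at hix
  rw [hsupp, Finset.mem_compl, Finset.mem_insert, Finset.mem_singleton] at hx
  push Not at hx
  have := hHreg _ (hpi i) (hp0 i) x hx.1 hx.2 hix
  rw [this]
  ext y
  simp

/-- context: sharply 3-transitive group with marked points and kernel -/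
structure Ctx (G α : Type*) [Group G] [MulAction G α] (pinf p0 p1 : α) (KG : Subgroup G) :
    Prop where
  T3 : ∀ a b c a' b' c' : α, a ≠ b → b ≠ c → a ≠ c → a' ≠ b' → b' ≠ c' → a' ≠ c' →
      ∃ g : G, g • a = a' ∧ g • b = b' ∧ g • c = c'
  S3 : ∀ g : G, ∀ a b c : α, a ≠ b → b ≠ c → a ≠ c → g • a = a → g • b = b → g • c = c → g = 1
  h01 : p0 ≠ p1
  hi0 : pinf ≠ p0
  hi1 : pinf ≠ p1
  kfix : ∀ k ∈ KG, k • pinf = pinf
  kfpf : ∀ k ∈ KG, k ≠ 1 → ∀ x : α, x ≠ pinf → k • x ≠ x
  ktr : ∀ x y : α, x ≠ pinf → y ≠ pinf → ∃ k ∈ KG, k • x = y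
  knorm : ∀ g : G, g • pinf = pinf → ∀ k ∈ KG, g * k * g⁻¹ ∈ KG
  kcomm : ∀ x ∈ KG, ∀ y ∈ KG, x * y = y * x

namespace Ctx

variable {G α : Type*} [Group G] [MulAction G α] {pinf p0 p1 : α} {KG : Subgroup G}
  (C : Ctx G α pinf p0 p1 KG)
include C

theorem kreg {k k' : G} (hk : k ∈ KG) (hk' : k' ∈ KG) {x : α} (hx : x ≠ pinf)
    (hkk : k • x = k' • x) : k = k' := by
  have h1 : (k'⁻¹ * k) • x = x := by rw [mul_smul, hkk, inv_smul_smul]
  by_contra hne
  have h2 : k'⁻¹ * k ≠ 1 := by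
    intro h
    apply hne
    have : k = k' * (k'⁻¹ * k) := by group
    rw [this, h, mul_one]
  exact C.kfpf _ (KG.mul_mem (KG.inv_mem hk') hk) h2 x hx h1

theorem ne_of_smul {k : G} (hk : k ∈ KG) {x : α} (hx : x ≠ pinf) : k • x ≠ pinf := by
  intro h
  have := h.trans (C.kfix k hk).symm
  exact hx (MulAction.injective k this)

theorem Hreg {h : G} (hhi : h • pinf = pinf) (hh0 : h • p0 = p0) {x : α} (hx1 : x ≠ pinf)
    (hx2 : x ≠ p0) (hhx : h • x = x) : h = 1 :=
  C.S3 h pinf p0 x C.hi0 (Ne.symm hx2) (Ne.symm hx1) hhi hh0 hhx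

theorem Htr {x y : α} (hx1 : x ≠ pinf) (hx2 : x ≠ p0) (hy1 : y ≠ pinf) (hy2 : y ≠ p0) :
    ∃ h : G, h • pinf = pinf ∧ h • p0 = p0 ∧ h • x = y :=
  C.T3 pinf p0 x pinf p0 y C.hi0 (Ne.symm hx2) (Ne.symm hx1) C.hi0 (Ne.symm hy2) (Ne.symm hy1)

theorem Hsemi {h : G} (hhi : h • pinf = pinf) (hh0 : h • p0 = p0) {w : G} (hw : w ∈ KG)
    (hw1 : w ≠ 1) (hc : h * w * h⁻¹ = w) : h = 1 := by
  have h1 : h • (w • p0) = w • p0 := by
    have : h * w = w * h := by
      calc h * w = (h * w * h⁻¹) * h := by group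
        _ = w * h := by rw [hc]
    rw [← mul_smul, this, mul_smul, hh0]
  have h2 : w • p0 ≠ p0 := C.kfpf w hw hw1 p0 (Ne.symm C.hi0)
  have h3 : w • p0 ≠ pinf := C.ne_of_smul hw (Ne.symm C.hi0)
  exact C.Hreg hhi hh0 h3 h2 h1

theorem Ktrans {a : G} (ha : a ∈ KG) (ha1 : a ≠ 1) {b : G} (hb : b ∈ KG) (hb1 : b ≠ 1) :
    ∃ d : G, d • pinf = pinf ∧ d • p0 = p0 ∧ d * a * d⁻¹ = b := by
  have ha0 : a • p0 ≠ p0 := C.kfpf a ha ha1 p0 (Ne.symm C.hi0)
  have hai : a • p0 ≠ pinf := C.ne_of_smul ha (Ne.symm C.hi0)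
  have hb0 : b • p0 ≠ p0 := C.kfpf b hb hb1 p0 (Ne.symm C.hi0)
  have hbi : b • p0 ≠ pinf := C.ne_of_smul hb (Ne.symm C.hi0)
  obtain ⟨d, hd1, hd2, hd3⟩ := C.Htr hai ha0 hbi hb0
  refine ⟨d, hd1, hd2, ?_⟩
  apply C.kreg (C.knorm d hd1 a ha) hb (Ne.symm C.hi0)
  have : d⁻¹ • p0 = p0 := by rw [inv_smul_eq_iff, hd2]
  rw [mul_smul, mul_smul, this, hd3]

theorem card_KG [Fintype α] : Nat.card KG + 1 = Fintype.card α := by
  classical
  let f : KG → {x : α // x ≠ pinf} := fun k => ⟨(k : G) • p0, C.ne_of_smul k.2 (Ne.symm C.hi0)⟩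
  have hf : Function.Bijective f := by
    constructor
    · intro k k' hkk
      have : (k : G) • p0 = (k' : G) • p0 := congrArg Subtype.val hkk
      exact Subtype.ext (C.kreg k.2 k'.2 (Ne.symm C.hi0) this)
    · rintro ⟨x, hx⟩
      obtain ⟨k, hk, hkx⟩ := C.ktr p0 x (Ne.symm C.hi0) hx
      exact ⟨⟨k, hk⟩, Subtype.ext hkx⟩
  rw [Nat.card_eq_of_bijective f hf, Nat.card_eq_fintype_card, Fintype.card_subtype_compl,
    Fintype.card_subtype_eq]
  have : 0 < Fintype.card α := Fintype.card_pos_iff.mpr ⟨pinf⟩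
  omega

theorem card_H [Fintype α] :
    Nat.card ↥(MulAction.stabilizer G pinf ⊓ MulAction.stabilizer G p0 : Subgroup G) + 2 =
      Fintype.card α := by
  classical
  have hmem : ∀ h : G, h ∈ (MulAction.stabilizer G pinf ⊓ MulAction.stabilizer G p0 : Subgroup G) ↔
      h • pinf = pinf ∧ h • p0 = p0 := by
    intro h
    simp only [Subgroup.mem_inf, MulAction.mem_stabilizer_iff]
  let f : ↥(MulAction.stabilizer G pinf ⊓ MulAction.stabilizer G p0 : Subgroup G) →
      {x : α // x ∉ ({pinf, p0} : Finset α)} := fun h => ⟨(h : G) • p1, by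
        obtain ⟨h1, h2⟩ := (hmem _).mp h.2
        rw [Finset.mem_insert, Finset.mem_singleton]
        rintro (h3 | h3)
        · have := h3.trans h1.symm
          exact C.hi1 (MulAction.injective _ this).symm
        · have := h3.trans h2.symm
          exact C.h01 (MulAction.injective _ this).symm⟩
  have hf : Function.Bijective f := by
    constructor
    · intro h h' hh
      have h3 : (h : G) • p1 = (h' : G) • p1 := congrArg Subtype.val hh
      obtain ⟨h1, h2⟩ := (hmem _).mp h.2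
      obtain ⟨h1', h2'⟩ := (hmem _).mp h'.2
      have h4 : ((h' : G)⁻¹ * (h : G)) • p1 = p1 := by rw [mul_smul, h3, inv_smul_smul]
      have h5 : ((h' : G)⁻¹ * (h : G)) • pinf = pinf := by
        rw [mul_smul, h1, inv_smul_eq_iff, h1']
      have h6 : ((h' : G)⁻¹ * (h : G)) • p0 = p0 := by
        rw [mul_smul, h2, inv_smul_eq_iff, h2']
      have h7 := C.Hreg h5 h6 (Ne.symm C.hi1) (Ne.symm C.h01) h4
      apply Subtype.ext
      have : (h : G) = (h' : G) * ((h' : G)⁻¹ * (h : G)) := by group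
      rw [this, h7, mul_one]
    · rintro ⟨x, hx⟩
      rw [Finset.mem_insert, Finset.mem_singleton] at hx
      push Not at hx
      obtain ⟨h, h1, h2, h3⟩ := C.Htr (Ne.symm C.hi1) (Ne.symm C.h01) hx.1 hx.2
      exact ⟨⟨h, (hmem h).mpr ⟨h1, h2⟩⟩, Subtype.ext h3⟩
  rw [Nat.card_eq_of_bijective f hf, Nat.card_eq_fintype_card, Fintype.card_subtype_compl]
  have h1 : Fintype.card {x : α // x ∈ ({pinf, p0} : Finset α)} = 2 := by
    rw [Fintype.card_coe, Finset.card_pair C.hi0]
  have h2 : Fintype.card {x : α // x ∈ ({pinf, p0} : Finset α)} ≤ Fintype.card α :=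
    Fintype.card_subtype_le _
  omega

end Ctx

section Half

variable {G α : Type*} [Group G] [MulAction G α] {pinf p0 p1 : α} {KG : Subgroup G}

theorem Ctx.Hinj (C : Ctx G α pinf p0 p1 KG) {h h' : G} (h1 : h • pinf = pinf) (h2 : h • p0 = p0)
    (h1' : h' • pinf = pinf) (h2' : h' • p0 = p0) {x : α} (hx1 : x ≠ pinf) (hx2 : x ≠ p0)
    (h3 : h • x = h' • x) : h = h' := by
  have h4 : (h'⁻¹ * h) • x = x := by rw [mul_smul, h3, inv_smul_smul]
  have h5 : (h'⁻¹ * h) • pinf = pinf := by rw [mul_smul, h1, inv_smul_eq_iff, h1']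
  have h6 : (h'⁻¹ * h) • p0 = p0 := by rw [mul_smul, h2, inv_smul_eq_iff, h2']
  have h7 := C.Hreg h5 h6 hx1 hx2 h4
  have : h = h' * (h'⁻¹ * h) := by group
  rw [this, h7, mul_one]

/-- the index-2 commutative subgroup of the two-point stabiliser -/
theorem Ctx.half [Fintype α] [DecidableEq α] [FaithfulSMul G α] (C : Ctx G α pinf p0 p1 KG)
    {p f : ℕ} (hp : p.Prime) (hp2 : p ≠ 2) (hf : Odd f) (hα : Fintype.card α = p ^ f + 1) :
    ∃ (H₀ : Subgroup G) (h₁ : G),
      (∀ k ∈ H₀, k • pinf = pinf ∧ k • p0 = p0) ∧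
      h₁ • pinf = pinf ∧ h₁ • p0 = p0 ∧
      (∀ h : G, h • pinf = pinf → h • p0 = p0 → h ∈ H₀ ∨ h₁⁻¹ * h ∈ H₀) ∧
      (∀ h : G, h • pinf = pinf → h • p0 = p0 → ∀ k ∈ H₀, h * k * h⁻¹ ∈ H₀) ∧
      2 * Nat.card H₀ + 2 = Fintype.card α ∧
      (∀ x ∈ H₀, ∀ y ∈ H₀, x * y = y * x) := by
  classical
  haveI : Finite G := Finite.of_injective (MulAction.toPerm : G → Equiv.Perm α)
    MulAction.toPerm_injective
  have hKc := C.card_KG
  have hK : Nat.card KG = p ^ f := by omega
  obtain ⟨h₁, h₁i, h₁0, hsign⟩ := exists_odd_elt C.hi0 KG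
    (fun h a b x c d e => C.Hreg a b c d e) (fun h a b w c d e => C.Hsemi a b c d e)
    (fun a ha ha1 b hb hb1 => C.Ktrans ha ha1 hb hb1) hp hp2 hf hK hα
  let ε : G →* ℤˣ := Equiv.Perm.sign.comp (MulAction.toPermHom G α)
  have hε₁ : ε h₁ = -1 := hsign
  have hεpm : ∀ g, ε g = 1 ∨ ε g = -1 := fun g => Int.units_eq_one_or _
  let H : Subgroup G := MulAction.stabilizer G pinf ⊓ MulAction.stabilizer G p0
  have hHmem : ∀ h : G, h ∈ H ↔ h • pinf = pinf ∧ h • p0 = p0 := by
    intro h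
    simp only [H, Subgroup.mem_inf, MulAction.mem_stabilizer_iff]
  have h₁H : h₁ ∈ H := (hHmem h₁).mpr ⟨h₁i, h₁0⟩
  let H₀ : Subgroup G := H ⊓ ε.ker
  have hH₀mem : ∀ h, h ∈ H₀ ↔ (h • pinf = pinf ∧ h • p0 = p0) ∧ ε h = 1 := by
    intro h
    simp only [H₀, Subgroup.mem_inf, MonoidHom.mem_ker, hHmem]
  have hm1 : (-1 : ℤˣ) ≠ 1 := by decide
  have hidx : ∀ h ∈ H, h ∈ H₀ ∨ h₁⁻¹ * h ∈ H₀ := by
    intro h hh
    rcases hεpm h with h1 | h1
    · left; exact (hH₀mem h).mpr ⟨(hHmem h).mp hh, h1⟩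
    · right
      refine (hH₀mem _).mpr ⟨(hHmem _).mp (H.mul_mem (H.inv_mem h₁H) hh), ?_⟩
      rw [map_mul, map_inv, hε₁, h1]; decide
  have hle : H₀ ≤ H := inf_le_left
  have hcard2 : Nat.card H = 2 * Nat.card H₀ := by
    have hidx2 : (H₀.subgroupOf H).index = 2 := by
      rw [Subgroup.index_eq_two_iff]
      refine ⟨⟨h₁, h₁H⟩, fun b => ?_⟩
      simp only [Subgroup.mem_subgroupOf, Subgroup.coe_mul]
      have hb := (hHmem _).mp b.2
      have hbh := (hHmem _).mp (H.mul_mem b.2 h₁H)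
      rcases hεpm (b : G) with h1 | h1
      · right
        refine ⟨(hH₀mem _).mpr ⟨hb, h1⟩, fun h => ?_⟩
        have := ((hH₀mem _).mp h).2
        rw [map_mul, h1, hε₁] at this
        exact hm1 (by simpa using this)
      · left
        refine ⟨(hH₀mem _).mpr ⟨hbh, ?_⟩, fun h => ?_⟩
        · rw [map_mul, h1, hε₁]; decide
        · have := ((hH₀mem _).mp h).2
          rw [h1] at this
          exact hm1 this
    have := (H₀.subgroupOf H).card_mul_index
    rw [hidx2, Nat.card_congr (Subgroup.subgroupOfEquivOfLe hle).toEquiv] at this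
    omega
  obtain ⟨s, hsi, hs0, hs1⟩ := C.T3 pinf p0 p1 p0 pinf p1 C.hi0 C.h01 C.hi1 (Ne.symm C.hi0)
    C.hi1 C.h01
  have hss : s * s = 1 := by
    apply C.S3 (s * s) pinf p0 p1 C.hi0 C.h01 C.hi1
    · rw [mul_smul, hsi, hs0]
    · rw [mul_smul, hs0, hsi]
    · rw [mul_smul, hs1, hs1]
  have hsinv : s⁻¹ = s := by rw [inv_eq_iff_mul_eq_one]; exact hss
  have hs_ne : s ≠ 1 := by
    rintro rfl
    rw [one_smul] at hsi
    exact C.hi0 hsi
  have hκmem : ∀ h ∈ H, h * s * h⁻¹ * s⁻¹ ∈ H₀ := by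
    intro h hh
    obtain ⟨h1, h2⟩ := (hHmem h).mp hh
    have h1' : h⁻¹ • pinf = pinf := by rw [inv_smul_eq_iff, h1]
    have h2' : h⁻¹ • p0 = p0 := by rw [inv_smul_eq_iff, h2]
    refine (hH₀mem _).mpr ⟨⟨?_, ?_⟩, ?_⟩
    · rw [hsinv, mul_smul, mul_smul, mul_smul, hsi, h2', hs0, h1]
    · rw [hsinv, mul_smul, mul_smul, mul_smul, hs0, h1', hsi, h2]
    · rw [map_mul, map_mul, map_mul, map_inv, map_inv, mul_comm (ε h) (ε s), mul_assoc (ε s),
        mul_inv_cancel, mul_one, mul_inv_cancel]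
  letI : Fintype H := Fintype.ofFinite H
  letI : Fintype H₀ := Fintype.ofFinite H₀
  let φ : H → H₀ := fun h => ⟨(h : G) * s * (h : G)⁻¹ * s⁻¹, hκmem h h.2⟩
  have hfib : ∀ k : H₀, (Finset.univ.filter (fun h => φ h = k)).card ≤ 2 := by
    intro k
    by_contra hlt
    push Not at hlt
    obtain ⟨a, b, c, ha, hb, hc, hab, hac, hbc⟩ := Finset.two_lt_card_iff.mp hlt
    rw [Finset.mem_filter] at ha hb hc
    have hconj : ∀ x : H, φ x = k → (x : G) * s * (x : G)⁻¹ = (k : G) * s := by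
      intro x hx
      have h1 : (x : G) * s * (x : G)⁻¹ * s⁻¹ = (k : G) := congrArg Subtype.val hx
      rw [← h1]; group
    have hfix : ∀ x : H, φ x = k → ((k : G) * s) • ((x : G) • p1) = (x : G) • p1 := by
      intro x hx
      rw [← hconj x hx, mul_smul, mul_smul, inv_smul_smul, hs1]
    have hne : ∀ x y : H, x ≠ y → (x : G) • p1 ≠ (y : G) • p1 := by
      intro x y hxy h
      apply hxy
      obtain ⟨x1, x2⟩ := (hHmem _).mp x.2
      obtain ⟨y1, y2⟩ := (hHmem _).mp y.2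
      exact Subtype.ext (C.Hinj x1 x2 y1 y2 (Ne.symm C.hi1) (Ne.symm C.h01) h)
    have h1 := C.S3 ((k : G) * s) _ _ _ (hne a b hab) (hne b c hbc) (hne a c hac)
      (hfix a ha.2) (hfix b hb.2) (hfix c hc.2)
    have h2 := hconj a ha.2
    rw [h1] at h2
    apply hs_ne
    have : s = (a : G)⁻¹ * ((a : G) * s * (a : G)⁻¹) * (a : G) := by group
    rw [this, h2]; group
  have hsurj : ∀ k ∈ H₀, ∃ h ∈ H, h * s * h⁻¹ * s⁻¹ = k := by
    have h1 : (Finset.univ : Finset H).card ≤ 2 * (Finset.univ.image φ).card :=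
      Finset.card_le_mul_card_image _ 2 (fun k _ => hfib k)
    have h2 : (Finset.univ : Finset H).card = 2 * Fintype.card H₀ := by
      rw [Finset.card_univ, ← Nat.card_eq_fintype_card, ← Nat.card_eq_fintype_card]
      exact hcard2
    have h3 : (Finset.univ.image φ).card ≤ Fintype.card H₀ := by
      rw [← Finset.card_univ]
      exact Finset.card_le_card (Finset.subset_univ _)
    have h4 : Finset.univ.image φ = Finset.univ := Finset.eq_univ_of_card _ (by omega)
    intro k hk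
    have : (⟨k, hk⟩ : H₀) ∈ Finset.univ.image φ := by rw [h4]; exact Finset.mem_univ _
    obtain ⟨h, -, hh⟩ := Finset.mem_image.mp this
    exact ⟨h, h.2, congrArg Subtype.val hh⟩
  have hinvert : ∀ k ∈ H₀, s * k * s⁻¹ = k⁻¹ := by
    intro k hk
    obtain ⟨h, hh, rfl⟩ := hsurj k hk
    have h1 : (h * s * h⁻¹ * s⁻¹ * s) * (h * s * h⁻¹ * s⁻¹ * s) = 1 := by
      have : h * s * h⁻¹ * s⁻¹ * s = h * s * h⁻¹ := by group
      rw [this]
      calc h * s * h⁻¹ * (h * s * h⁻¹) = h * (s * s) * h⁻¹ := by group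
        _ = 1 := by rw [hss]; group
    rw [hsinv] at h1 ⊢
    have h2 : s * (h * s * h⁻¹ * s) * s = (h * s * h⁻¹ * s)⁻¹ *
        ((h * s * h⁻¹ * s * s) * (h * s * h⁻¹ * s * s)) := by group
    rw [h2, h1, mul_one]
  have hcomm : ∀ x ∈ H₀, ∀ y ∈ H₀, x * y = y * x := by
    intro h hh k hk
    have h1 := hinvert _ (H₀.mul_mem hh hk)
    have h2 := hinvert h hh
    have h3 := hinvert k hk
    have h4 : s * (h * k) * s⁻¹ = (s * h * s⁻¹) * (s * k * s⁻¹) := by group
    rw [h1, h2, h3] at h4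
    have h5 : (h * k)⁻¹ = (k * h)⁻¹ := by rw [h4]; group
    exact inv_injective h5
  refine ⟨H₀, h₁, fun k hk => ((hH₀mem k).mp hk).1, h₁i, h₁0, ?_, ?_, ?_, hcomm⟩
  · intro h h1 h2
    exact hidx h ((hHmem h).mpr ⟨h1, h2⟩)
  · intro h h1 h2 k hk
    have hh : h ∈ H := (hHmem h).mpr ⟨h1, h2⟩
    refine (hH₀mem _).mpr ⟨(hHmem _).mp (H.mul_mem (H.mul_mem hh (hle hk)) (H.inv_mem hh)), ?_⟩
    rw [map_mul, map_mul, map_inv, ((hH₀mem k).mp hk).2, mul_one, mul_inv_cancel]
  · have := C.card_H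
    have h5 : Nat.card H = Nat.card ↥(MulAction.stabilizer G pinf ⊓ MulAction.stabilizer G p0 :
      Subgroup G) := rfl
    omega

end Half

section Main

variable {G α : Type*} [Group G] [MulAction G α] {pinf p0 p1 : α} {KG : Subgroup G}

open Cfsg.Agent.Lib.helper6.FieldIrr

theorem not_sq_odd_pow {p f m : ℕ} (hp : p.Prime) (hf : Odd f) (h : p ^ f = m * m) : False := by
  have hm0 : m ≠ 0 := by
    rintro rfl
    have := pow_pos hp.pos f
    omega
  have h1 : (p ^ f).factorization p = f := by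
    rw [hp.factorization_pow]; simp
  have h2 : (m * m).factorization p = 2 * m.factorization p := by
    rw [Nat.factorization_mul hm0 hm0]; simp; ring
  rw [h, h2] at h1
  obtain ⟨a, ha⟩ := hf
  omega

theorem Ctx.stab_comm [Fintype α] [DecidableEq α] [FaithfulSMul G α] (C : Ctx G α pinf p0 p1 KG)
    {p f : ℕ} (hp : p.Prime) (hp2 : p ≠ 2) (hf : Odd f) (hα : Fintype.card α = p ^ f + 1) :
    ∀ h k : G, h • pinf = pinf → h • p0 = p0 → k • pinf = pinf → k • p0 = p0 →
      h * k = k * h := by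
  classical
  haveI : Finite G := Finite.of_injective (MulAction.toPerm : G → Equiv.Perm α)
    MulAction.toPerm_injective
  haveI : Finite KG := inferInstance
  obtain ⟨H₀, h₁, hH₀fix, h₁i, h₁0, hidx, hnormal, hcard, hcomm⟩ := C.half hp hp2 hf hα
  have hKc := C.card_KG
  obtain ⟨e, heK, he0⟩ := C.ktr p0 p1 (Ne.symm C.hi0) (Ne.symm C.hi1)
  have he1 : e ≠ 1 := by
    intro h; rw [h, one_smul] at he0; exact C.h01 he0
  have hnorm : ∀ d ∈ H₀, ∀ a ∈ KG, d * a * d⁻¹ ∈ KG :=
    fun d hd a ha => C.knorm d (hH₀fix d hd).1 a ha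
  have hirr : ∀ W : Subgroup G, W ≤ KG → (∀ d ∈ H₀, ∀ a ∈ W, d * a * d⁻¹ ∈ W) →
      W = ⊥ ∨ W = KG := by
    intro W hW hinv
    by_cases hbot : W = ⊥
    · exact Or.inl hbot
    · right
      obtain ⟨w, hw1⟩ := (Subgroup.ne_bot_iff_exists_ne_one).mp hbot
      have hw' : (w : G) ≠ 1 := fun h => hw1 (Subtype.ext h)
      have hlt : Nat.card H₀ < Nat.card W := by
        let f : H₀ → W := fun h => ⟨(h : G) * (w : G) * (h : G)⁻¹, hinv h h.2 w w.2⟩
        have hfinj : Function.Injective f := by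
          intro h h' hh
          have h1 : (h : G) * (w : G) * (h : G)⁻¹ = (h' : G) * (w : G) * (h' : G)⁻¹ :=
            congrArg Subtype.val hh
          have h2 : ((h' : G)⁻¹ * (h : G)) * (w : G) * ((h' : G)⁻¹ * (h : G))⁻¹ = (w : G) := by
            calc ((h' : G)⁻¹ * (h : G)) * (w : G) * ((h' : G)⁻¹ * (h : G))⁻¹
                = (h' : G)⁻¹ * ((h : G) * (w : G) * (h : G)⁻¹) * (h' : G) := by group
              _ = (w : G) := by rw [h1]; group
          have hmem := hH₀fix _ (H₀.mul_mem (H₀.inv_mem h'.2) h.2)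
          have h3 := C.Hsemi hmem.1 hmem.2 (hW w.2) hw' h2
          apply Subtype.ext
          have : (h : G) = (h' : G) * ((h' : G)⁻¹ * (h : G)) := by group
          rw [this, h3, mul_one]
        have hfns : ¬ Function.Surjective f := by
          intro h
          obtain ⟨u, hu⟩ := h 1
          have h1 : (u : G) * (w : G) * (u : G)⁻¹ = 1 := congrArg Subtype.val hu
          apply hw'
          have : (w : G) = (u : G)⁻¹ * ((u : G) * (w : G) * (u : G)⁻¹) * (u : G) := by group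
          rw [this, h1]; group
        letI : Fintype H₀ := Fintype.ofFinite _
        letI : Fintype W := Fintype.ofFinite _
        rw [Nat.card_eq_fintype_card, Nat.card_eq_fintype_card]
        exact Fintype.card_lt_of_injective_not_surjective f hfinj hfns
      have hdvd : Nat.card W ∣ Nat.card KG := Subgroup.card_dvd_of_le hW
      have hge : Nat.card KG ≤ Nat.card W := by
        obtain ⟨q, hq⟩ := hdvd
        have hq0 : q ≠ 0 := by
          intro h
          rw [h, mul_zero] at hq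
          have : 0 < Nat.card KG := Nat.card_pos
          omega
        by_contra hlt'
        push Not at hlt'
        have hq2 : 2 ≤ q := by
          by_contra h
          have : q = 1 := by omega
          rw [this, mul_one] at hq
          omega
        have : Nat.card KG ≥ Nat.card W * 2 := by
          rw [hq]; exact Nat.mul_le_mul_left _ hq2
        omega
      exact Subgroup.eq_of_le_of_card_ge hW hge
  obtain ⟨F, instF, instFin, ι, μ, hιinj, hιsurj, hιK, hιadd, hι1, hμ⟩ :=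
    exists_field_of_irreducible KG H₀ C.kcomm hcomm hnorm e heK he1 hirr
  have hι0 : ι 0 = 1 := by
    have := hιadd 0 0
    rw [add_zero] at this
    exact mul_left_cancel (a := ι 0) (by rw [mul_one]; exact this.symm)
  have hFcard : Nat.card F = Nat.card KG := by
    let f : F → KG := fun x => ⟨ι x, hιK x⟩
    have hf : Function.Bijective f := by
      constructor
      · intro x y hxy
        exact hιinj (congrArg Subtype.val hxy)
      · rintro ⟨k, hk⟩
        obtain ⟨x, hx⟩ := hιsurj k hk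
        exact ⟨x, Subtype.ext hx⟩
    exact Nat.card_eq_of_bijective f hf
  have hFpf : Fintype.card F = p ^ f := by
    rw [← Nat.card_eq_fintype_card, hFcard]; omega
  have h2F : (2 : F) ≠ 0 := by
    intro h
    have hchar : ringChar F = 2 := by
      have h2' : ((2 : ℕ) : F) = 0 := by exact_mod_cast h
      have hd := (ringChar.spec F 2).mp h2'
      have hpr : (ringChar F).Prime := CharP.char_is_prime F (ringChar F)
      exact (Nat.prime_dvd_prime_iff_eq hpr Nat.prime_two).mp hd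
    have hev := Nat.even_iff.mpr ((FiniteField.even_card_iff_char_two (F := F)).mp hchar)
    rw [hFpf] at hev
    exact (Nat.not_even_iff_odd.mpr (hp.odd_of_ne_two hp2).pow) hev
  have hμinj : Function.Injective μ := by
    intro h h' hh
    have hμ1 : ∀ h : H₀, ι (μ h) = (h : G) * e * (h : G)⁻¹ := by
      intro h
      have := (hμ h).2 1
      rwa [mul_one, hι1] at this
    have h1 : (h : G) * e * (h : G)⁻¹ = (h' : G) * e * (h' : G)⁻¹ := by
      rw [← hμ1, ← hμ1, hh]
    have h2 : ((h' : G)⁻¹ * (h : G)) * e * ((h' : G)⁻¹ * (h : G))⁻¹ = e := by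
      calc ((h' : G)⁻¹ * (h : G)) * e * ((h' : G)⁻¹ * (h : G))⁻¹
          = (h' : G)⁻¹ * ((h : G) * e * (h : G)⁻¹) * (h' : G) := by group
        _ = e := by rw [h1]; group
    have hmem := hH₀fix _ (H₀.mul_mem (H₀.inv_mem h'.2) h.2)
    have h3 := C.Hsemi hmem.1 hmem.2 heK he1 h2
    apply Subtype.ext
    have : (h : G) = (h' : G) * ((h' : G)⁻¹ * (h : G)) := by group
    rw [this, h3, mul_one]
  -- θ
  have hθex : ∀ x : F, ∃ y : F, ι y = h₁ * ι x * h₁⁻¹ :=
    fun x => hιsurj _ (C.knorm h₁ h₁i _ (hιK x))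
  choose θ hθ using hθex
  have hθadd : ∀ x y : F, θ (x + y) = θ x + θ y := by
    intro x y
    apply hιinj
    rw [hθ, hιadd, hιadd, hθ, hθ]; group
  have hθinj : Function.Injective θ := by
    intro x y hxy
    apply hιinj
    have h1 : h₁ * ι x * h₁⁻¹ = h₁ * ι y * h₁⁻¹ := by rw [← hθ, ← hθ, hxy]
    exact mul_left_cancel (mul_right_cancel h1)
  have hθ0 : θ 0 = 0 := by
    apply hιinj
    rw [hθ, hι0]; group
  have hθμ : ∀ (k : H₀) (x : F), θ (μ k * x) =
      μ ⟨h₁ * (k : G) * h₁⁻¹, hnormal h₁ h₁i h₁0 k k.2⟩ * θ x := by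
    intro k x
    apply hιinj
    rw [hθ, (hμ k).2, (hμ _).2, hθ]
    group
  obtain ⟨c, hc⟩ : ∃ c : F, c = θ 1 := ⟨_, rfl⟩
  have hc0 : c ≠ 0 := by
    rw [hc, ← hθ0]
    intro h
    exact one_ne_zero (hθinj h)
  obtain ⟨ψ, hψ⟩ : ∃ ψ : F → F, ∀ x, ψ x = c⁻¹ * θ x := ⟨fun x => c⁻¹ * θ x, fun x => rfl⟩
  have hθψ : ∀ x, θ x = c * ψ x := by
    intro x; rw [hψ, ← mul_assoc, mul_inv_cancel₀ hc0, one_mul]
  have hψadd : ∀ x y : F, ψ (x + y) = ψ x + ψ y := by
    intro x y; rw [hψ, hψ, hψ, hθadd, mul_add]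
  have hψ0 : ψ 0 = 0 := by rw [hψ, hθ0, mul_zero]
  have hψ1 : ψ 1 = 1 := by rw [hψ, ← hc, inv_mul_cancel₀ hc0]
  have hψneg : ∀ x : F, ψ (-x) = -ψ x := by
    intro x
    have := hψadd x (-x)
    rw [add_neg_cancel, hψ0] at this
    exact eq_neg_of_add_eq_zero_right this.symm
  have hψμ : ∀ (k : H₀) (x : F), ψ (μ k * x) = ψ (μ k) * ψ x := by
    intro k x
    have h1 : ψ (μ k) = μ ⟨h₁ * (k : G) * h₁⁻¹, hnormal h₁ h₁i h₁0 k k.2⟩ := by
      have := hθμ k 1
      rw [mul_one] at this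
      rw [hψ, this, ← hc, mul_comm, mul_assoc, mul_inv_cancel₀ hc0, mul_one]
    rw [h1, hψ, hθμ, hψ]; ring
  -- the multiplicative set
  let S : AddSubgroup F :=
    { carrier := {y | ∀ x, ψ (y * x) = ψ y * ψ x}
      zero_mem' := by
        intro x
        rw [zero_mul, hψ0, zero_mul]
      add_mem' := by
        intro a b ha hb x
        rw [add_mul, hψadd, ha x, hb x, hψadd, add_mul]
      neg_mem' := by
        intro a ha x
        rw [neg_mul, hψneg, ha x, hψneg, neg_mul] }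
  have hSmem : ∀ y : F, y ∈ S ↔ ∀ x, ψ (y * x) = ψ y * ψ x := fun y => Iff.rfl
  have hStop : S = ⊤ := by
    have hge : Nat.card H₀ + 1 ≤ Nat.card S := by
      let g : Option H₀ → S := fun o => match o with
        | none => ⟨0, S.zero_mem⟩
        | some k => ⟨μ k, (hSmem _).mpr (hψμ k)⟩
      have hg : Function.Injective g := by
        intro a b hab
        cases a with
        | none =>
          cases b with
          | none => rfl
          | some k =>
            exfalso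
            have : (0 : F) = μ k := congrArg Subtype.val hab
            exact (hμ k).1 this.symm
        | some k =>
          cases b with
          | none =>
            exfalso
            have : μ k = (0 : F) := congrArg Subtype.val hab
            exact (hμ k).1 this
          | some k' =>
            have : μ k = μ k' := congrArg Subtype.val hab
            rw [hμinj this]
      have h1 := Nat.card_le_card_of_injective g hg
      have h2 : Nat.card (Option H₀) = Nat.card H₀ + 1 := by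
        letI : Fintype H₀ := Fintype.ofFinite _
        rw [Nat.card_eq_fintype_card, Nat.card_eq_fintype_card, Fintype.card_option]
      omega
    have hdvd : Nat.card S ∣ Nat.card F := AddSubgroup.card_addSubgroup_dvd_card S
    obtain ⟨m, hm⟩ := hdvd
    have hm1 : m = 1 := by
      rcases Nat.lt_or_ge m 2 with h | h
      · interval_cases m
        · rw [mul_zero] at hm
          have : 0 < Nat.card F := Nat.card_pos
          omega
        · rfl
      · exfalso
        have : Nat.card S * 2 ≤ Nat.card S * m := Nat.mul_le_mul_left _ h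
        omega
    rw [hm1, mul_one] at hm
    exact AddSubgroup.eq_top_of_card_eq S hm.symm
  have hψmul : ∀ y x : F, ψ (y * x) = ψ y * ψ x := by
    intro y x
    have : y ∈ S := by rw [hStop]; exact AddSubgroup.mem_top y
    exact (hSmem y).mp this x
  let ψr : F →+* F :=
    { toFun := ψ
      map_one' := hψ1
      map_mul' := hψmul
      map_zero' := hψ0
      map_add' := hψadd }
  have hψr : ∀ x, ψr x = ψ x := fun x => rfl
  -- ψ ∘ ψ = id
  have hh₁sq : h₁ * h₁ ∈ H₀ := by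
    have hi : (h₁ * h₁) • pinf = pinf := by rw [mul_smul, h₁i, h₁i]
    have h0 : (h₁ * h₁) • p0 = p0 := by rw [mul_smul, h₁0, h₁0]
    rcases hidx _ hi h0 with h | h
    · exact h
    · have : h₁⁻¹ * (h₁ * h₁) = h₁ := by group
      rw [this] at h
      exact H₀.mul_mem h h
  have hθθ : ∀ x : F, θ (θ x) = μ ⟨h₁ * h₁, hh₁sq⟩ * x := by
    intro x
    apply hιinj
    rw [hθ, hθ, (hμ _).2]
    group
  have hψψ : ∀ x : F, ψ (ψ x) = x := by
    intro x
    have h1 := hθθ x
    have h2 := hθθ 1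
    rw [mul_one] at h2
    rw [hθψ, hθψ x, hψmul] at h1
    rw [← hc, hθψ c] at h2
    rw [← h2] at h1
    have h3 : c * ψ c ≠ 0 := by
      rw [h2]; exact (hμ _).1
    have h4 : c * ψ c * ψ (ψ x) = c * ψ c * x := by
      rw [← h1]; ring
    exact mul_left_cancel₀ h3 h4
  -- ψ = id
  have hψid : ∀ x : F, ψ x = x := by
    by_contra hne
    push Not at hne
    obtain ⟨d, hd⟩ := hne
    obtain ⟨d', hd'⟩ : ∃ d' : F, d' = d - ψ d := ⟨_, rfl⟩
    have hd'0 : d' ≠ 0 := by
      rw [hd']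
      intro h
      exact hd (sub_eq_zero.mp h).symm
    have hψd' : ψ d' = -d' := by
      rw [hd', sub_eq_add_neg, hψadd, hψneg, hψψ]; ring
    have hψ2 : ψ 2 = 2 := by
      have : (2 : F) = 1 + 1 := by norm_num
      rw [this, hψadd, hψ1]
    have hψdiv : ∀ a b : F, ψ (a / b) = ψ a / ψ b := fun a b => map_div₀ ψr a b
    let K := {x : F // ψ x = x}
    let E : F ≃ K × K :=
      { toFun := fun x => (⟨(x + ψ x) / 2, by
            rw [hψdiv, hψadd, hψψ, hψ2, add_comm]⟩,
          ⟨(x - ψ x) / (2 * d'), by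
            rw [hψdiv, hψmul, hψ2, hψd', sub_eq_add_neg, hψadd, hψneg, hψψ]
            field_simp
            ring⟩)
        invFun := fun uw => (uw.1 : F) + d' * (uw.2 : F)
        left_inv := by
          intro x
          simp only
          field_simp
          ring
        right_inv := by
          rintro ⟨⟨u, hu⟩, ⟨w, hw⟩⟩
          have hu' : ψ u = u := hu
          have hw' : ψ w = w := hw
          have e1 : ψ (u + d' * w) = u - d' * w := by
            rw [hψadd, hψmul, hu', hw', hψd']; ring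
          apply Prod.ext
          · apply Subtype.ext
            simp only
            rw [e1]
            field_simp
            ring
          · apply Subtype.ext
            simp only
            rw [e1]
            field_simp
            ring }
    have hcardE : Fintype.card F = Fintype.card K * Fintype.card K := by
      rw [Fintype.card_congr E, Fintype.card_prod]
    rw [hFpf] at hcardE
    exact not_sq_odd_pow hp hf hcardE
  have hθc : ∀ x : F, θ x = c * x := fun x => by rw [hθψ, hψid]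
  -- every element of `H` acts by a multiplication
  have hact : ∀ h : G, h • pinf = pinf → h • p0 = p0 →
      ∃ m : F, ∀ x : F, ι (m * x) = h * ι x * h⁻¹ := by
    intro h hi h0
    rcases hidx h hi h0 with hh | hh
    · exact ⟨μ ⟨h, hh⟩, fun x => (hμ ⟨h, hh⟩).2 x⟩
    · refine ⟨c * μ ⟨h₁⁻¹ * h, hh⟩, fun x => ?_⟩
      rw [mul_assoc, ← hθc, hθ, (hμ ⟨h₁⁻¹ * h, hh⟩).2 x]
      show h₁ * (h₁⁻¹ * h * ι x * (h₁⁻¹ * h)⁻¹) * h₁⁻¹ = h * ι x * h⁻¹
      group
  intro h k hhi hh0 hki hk0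
  obtain ⟨mh, hmh⟩ := hact h hhi hh0
  obtain ⟨mk, hmk⟩ := hact k hki hk0
  have h1 : (h * k) * e * (h * k)⁻¹ = (k * h) * e * (k * h)⁻¹ := by
    have e1 : (h * k) * e * (h * k)⁻¹ = h * (k * ι 1 * k⁻¹) * h⁻¹ := by rw [hι1]; group
    have e2 : (k * h) * e * (k * h)⁻¹ = k * (h * ι 1 * h⁻¹) * k⁻¹ := by rw [hι1]; group
    rw [e1, e2, ← hmk, ← hmh, ← hmh, ← hmk, mul_one, mul_one, mul_comm]
  have h2 : ((k * h)⁻¹ * (h * k)) * e * ((k * h)⁻¹ * (h * k))⁻¹ = e := by
    calc ((k * h)⁻¹ * (h * k)) * e * ((k * h)⁻¹ * (h * k))⁻¹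
        = (k * h)⁻¹ * ((h * k) * e * (h * k)⁻¹) * (k * h) := by group
      _ = e := by rw [h1]; group
  have hgi : ((k * h)⁻¹ * (h * k)) • pinf = pinf := by
    rw [mul_smul, mul_smul, hki, hhi, inv_smul_eq_iff, mul_smul, hhi, hki]
  have hg0 : ((k * h)⁻¹ * (h * k)) • p0 = p0 := by
    rw [mul_smul, mul_smul, hk0, hh0, inv_smul_eq_iff, mul_smul, hh0, hk0]
  have h3 := C.Hsemi hgi hg0 heK he1 h2
  have : h * k = (k * h) * ((k * h)⁻¹ * (h * k)) := by group
  rw [this, h3, mul_one]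

end Main

end Cfsg.Agent.Lib.helper6.Sharp3F
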