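import Mathlib
import Cfsg.Agent.Lib.helper6.SZd
import Cfsg.Agent.Lib.helper6.Sharp3F

set_option autoImplicit false

namespace Cfsg.Agent.Lib.helper6.SZe

open Cfsg.Agent.Lib.helper6 Cfsg.Agent.Lib.helper6.Sharp3F

variable {G α : Type*} [Group G] [MulAction G α] {pinf p0 p1 : α} {KG : Subgroup G}

/-- In a sharply 3-transitive group of even degree, the two-point stabiliser has a subgroup of
index 2 normalised by an involution swapping the two points. -/
theorem index_two_stab [Finite G] [Fintype α] (C : Ctx G α pinf p0 p1 KG)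
    (heven : Even (Fintype.card α))
    (hT3 : ∀ A B : Subgroup G, A ≤ MulAction.stabilizer G pinf ⊓ MulAction.stabilizer G p0 →
      B ≤ MulAction.stabilizer G pinf ⊓ MulAction.stabilizer G p0 →
      Nat.card A = 3 → Nat.card B = 3 → A = B)
    (s : G) (hs1 : s • pinf = p0) (hs2 : s • p0 = pinf) (hs3 : s • p1 = p1) :
    ∃ N : Subgroup G, N ≤ MulAction.stabilizer G pinf ⊓ MulAction.stabilizer G p0 ∧
      (N.subgroupOf (MulAction.stabilizer G pinf ⊓ MulAction.stabilizer G p0)).Normal ∧
      N.relIndex (MulAction.stabilizer G pinf ⊓ MulAction.stabilizer G p0) = 2 ∧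
      ∀ n ∈ N, s * n * s⁻¹ ∈ N := by
  classical
  set Hs : Subgroup G := MulAction.stabilizer G pinf ⊓ MulAction.stabilizer G p0 with hHs
  have hmem : ∀ h : G, h ∈ Hs ↔ h • pinf = pinf ∧ h • p0 = p0 := by
    intro h
    simp only [hHs, Subgroup.mem_inf, MulAction.mem_stabilizer_iff]
  -- s is an involution
  have hss : s * s = 1 := by
    apply C.S3 (s * s) pinf p0 p1 C.hi0 C.h01 C.hi1
    · rw [mul_smul, hs1, hs2]
    · rw [mul_smul, hs2, hs1]
    · rw [mul_smul, hs3, hs3]
  have hsinv : s⁻¹ = s := inv_eq_of_mul_eq_one_right hss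
  have hsconj : ∀ h ∈ Hs, s * h * s⁻¹ ∈ Hs := by
    intro h hh
    obtain ⟨h1, h2⟩ := (hmem h).mp hh
    rw [hmem, hsinv]
    constructor
    · rw [mul_smul, mul_smul, hs1, h2, hs2]
    · rw [mul_smul, mul_smul, hs2, h1, hs1]
  -- the automorphism
  let σ : Hs ≃* Hs :=
    { toFun := fun h => ⟨s * h * s⁻¹, hsconj h h.2⟩
      invFun := fun h => ⟨s * h * s⁻¹, hsconj h h.2⟩
      left_inv := by
        intro h
        apply Subtype.ext
        show s * (s * (h : G) * s⁻¹) * s⁻¹ = h
        rw [hsinv]
        calc s * (s * (h : G) * s) * s = (s * s) * h * (s * s) := by group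
          _ = h := by rw [hss, one_mul, mul_one]
      right_inv := by
        intro h
        apply Subtype.ext
        show s * (s * (h : G) * s⁻¹) * s⁻¹ = h
        rw [hsinv]
        calc s * (s * (h : G) * s) * s = (s * s) * h * (s * s) := by group
          _ = h := by rw [hss, one_mul, mul_one]
      map_mul' := by
        intro h k
        apply Subtype.ext
        show s * ((h : G) * k) * s⁻¹ = (s * h * s⁻¹) * (s * k * s⁻¹)
        group }
  have hσapp : ∀ h : Hs, ((σ h : Hs) : G) = s * h * s⁻¹ := fun h => rfl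
  have hσ : ∀ h, σ (σ h) = h := by
    intro h
    apply Subtype.ext
    rw [hσapp, hσapp, hsinv]
    calc s * (s * (h : G) * s) * s = (s * s) * h * (s * s) := by group
      _ = h := by rw [hss, one_mul, mul_one]
  -- fixed points of σ have exponent 2
  have hfix : ∀ h, σ h = h → h ^ 2 = 1 := by
    intro h hh
    obtain ⟨h1, h2⟩ := (hmem h).mp h.2
    have hcomm : s * (h : G) = h * s := by
      have e : s * (h : G) * s⁻¹ = h := by rw [← hσapp, hh]
      calc s * (h : G) = (s * h * s⁻¹) * s := by group
        _ = h * s := by rw [e]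
    apply Subtype.ext
    show ((h : G)) ^ 2 = 1
    rw [pow_two]
    set c' := (h : G) • p1 with hc'
    set c'' := (h : G) • c' with hc''
    have hsc' : s • c' = c' := by
      rw [hc', ← mul_smul, hcomm, mul_smul, hs3]
    have hsc'' : s • c'' = c'' := by
      rw [hc'', ← mul_smul, hcomm, mul_smul, hsc']
    have hc'i : c' ≠ pinf := by
      intro e
      rw [hc'] at e
      exact C.hi1 (MulAction.injective (h : G) (e.trans h1.symm)).symm
    have hc'0 : c' ≠ p0 := by
      intro e
      rw [hc'] at e
      exact C.h01 (MulAction.injective (h : G) (e.trans h2.symm)).symm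
    by_cases hcc : c'' = p1
    · apply C.S3 _ pinf p0 p1 C.hi0 C.h01 C.hi1
      · rw [mul_smul, h1, h1]
      · rw [mul_smul, h2, h2]
      · rw [mul_smul]; exact hcc
    · exfalso
      have hh1 : (h : G) ≠ 1 := by
        intro e
        apply hcc
        rw [hc'', hc', e, one_smul, one_smul]
      have hc1 : c' ≠ p1 := by
        intro e
        exact hh1 (C.Hreg h1 h2 (Ne.symm C.hi1) (Ne.symm C.h01) e)
      have hc2 : c'' ≠ c' := by
        intro e
        exact hh1 (C.Hreg h1 h2 hc'i hc'0 e)
      have hs1' : s = 1 := C.S3 s p1 c' c'' (Ne.symm hc1) (Ne.symm hc2) (Ne.symm hcc) hs3 hsc' hsc''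
      rw [hs1', one_smul] at hs1
      exact C.hi0 hs1
  -- the module
  letI : CommGroup KG :=
    { (inferInstance : Group KG) with
      mul_comm := fun x y => Subtype.ext (C.kcomm x x.2 y y.2) }
  let cj : Hs → KG → KG := fun h k =>
    ⟨(h : G) * k * (h : G)⁻¹, C.knorm h ((hmem h).mp h.2).1 k k.2⟩
  letI : DistribMulAction Hs (Additive KG) :=
    { smul := fun h v => Additive.ofMul (cj h v.toMul)
      one_smul := by
        intro v
        show Additive.ofMul (cj 1 v.toMul) = v
        have : cj 1 v.toMul = v.toMul := by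
          apply Subtype.ext
          show ((1 : Hs) : G) * (v.toMul : G) * ((1 : Hs) : G)⁻¹ = v.toMul
          simp
        rw [this]; rfl
      mul_smul := by
        intro h k v
        show Additive.ofMul (cj (h * k) v.toMul) = Additive.ofMul (cj h (cj k v.toMul))
        congr 1
        apply Subtype.ext
        show ((h * k : Hs) : G) * (v.toMul : G) * ((h * k : Hs) : G)⁻¹ =
          (h : G) * ((k : G) * (v.toMul : G) * (k : G)⁻¹) * (h : G)⁻¹
        rw [Subgroup.coe_mul]; group
      smul_zero := by
        intro h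
        show Additive.ofMul (cj h 1) = 0
        have : cj h 1 = 1 := by
          apply Subtype.ext
          show (h : G) * ((1 : KG) : G) * (h : G)⁻¹ = 1
          simp
        rw [this]; rfl
      smul_add := by
        intro h v w
        show Additive.ofMul (cj h (v.toMul * w.toMul)) =
          Additive.ofMul (cj h v.toMul * cj h w.toMul)
        congr 1
        apply Subtype.ext
        show (h : G) * ((v.toMul * w.toMul : KG) : G) * (h : G)⁻¹ =
          ((h : G) * (v.toMul : G) * (h : G)⁻¹) * ((h : G) * (w.toMul : G) * (h : G)⁻¹)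
        rw [Subgroup.coe_mul]; group }
  have hsmul : ∀ (h : Hs) (v : Additive KG), ((h • v).toMul : G) = (h : G) * v.toMul * (h : G)⁻¹ :=
    fun h v => rfl
  have hfree : ∀ h : Hs, h ≠ 1 → ∀ v : Additive KG, h • v = v → v = 0 := by
    intro h hh v hv
    by_contra hv0
    apply hh
    obtain ⟨h1, h2⟩ := (hmem h).mp h.2
    apply Subtype.ext
    apply C.Hsemi h1 h2 (v.toMul).2
    · intro e
      apply hv0
      have : v.toMul = 1 := Subtype.ext e
      exact this
    · rw [← hsmul, hv]
  have hcH : Nat.card Hs + 2 = Fintype.card α := C.card_H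
  have hcK := C.card_KG
  have hcard : Nat.card Hs + 1 = Nat.card (Additive KG) := by
    have : Nat.card (Additive KG) = Nat.card KG := Nat.card_congr Additive.toMul
    rw [this]
    omega
  have hevenH : Even (Nat.card Hs) := by
    have : Nat.card Hs = Fintype.card α - 2 := by omega
    rw [this]
    obtain ⟨m, hm⟩ := heven
    exact ⟨m - 1, by omega⟩
  have hT3' : ∀ A B : Subgroup Hs, Nat.card A = 3 → Nat.card B = 3 → A = B := by
    intro A B hA hB
    have h1 : Nat.card (A.map Hs.subtype) = 3 := by
      rw [Subgroup.card_map_of_injective (Subgroup.subtype_injective _), hA]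
    have h2 : Nat.card (B.map Hs.subtype) = 3 := by
      rw [Subgroup.card_map_of_injective (Subgroup.subtype_injective _), hB]
    exact Subgroup.map_injective (Subgroup.subtype_injective _)
      (hT3 _ _ (Subgroup.map_subtype_le _) (Subgroup.map_subtype_le _) h1 h2)
  obtain ⟨N', hN'2, hN'σ⟩ := SZd.lemmaZ hfree hcard hevenH σ hσ hfix hT3'
  refine ⟨N'.map Hs.subtype, Subgroup.map_subtype_le _, ?_, ?_, ?_⟩
  · have e : (N'.map Hs.subtype).subgroupOf Hs = N' := by
      ext x
      rw [Subgroup.mem_subgroupOf, Subgroup.mem_map]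
      constructor
      · rintro ⟨y, hy, hyx⟩
        have : y = x := Subtype.ext hyx
        rwa [← this]
      · intro hx
        exact ⟨x, hx, rfl⟩
    rw [e]
    exact Subgroup.normal_of_index_eq_two hN'2
  · have e : (N'.map Hs.subtype).subgroupOf Hs = N' := by
      ext x
      rw [Subgroup.mem_subgroupOf, Subgroup.mem_map]
      constructor
      · rintro ⟨y, hy, hyx⟩
        have : y = x := Subtype.ext hyx
        rwa [← this]
      · intro hx
        exact ⟨x, hx, rfl⟩
    unfold Subgroup.relIndex
    rw [e]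
    exact hN'2
  · intro n hn
    obtain ⟨y, hy, rfl⟩ := Subgroup.mem_map.mp hn
    exact Subgroup.mem_map.mpr ⟨σ y, hN'σ y hy, rfl⟩

end Cfsg.Agent.Lib.helper6.SZe
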