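import Mathlib

set_option autoImplicit false

namespace Cfsg.Agent.Lib.helper6.SZt

open MulAction

/-- Evaluation of the transfer at an element `g` of the subgroup all of whose other "cycle
contributions" are killed by `φ`. -/
theorem transfer_key {G A : Type*} [Group G] [CommGroup A] (M : Subgroup G) [M.FiniteIndex]
    (φ : M →* A) (g : G) (hg : g ∈ M)
    (hstar : ∀ x : G, x ∉ M → ∀ k : ℕ, ∀ hm : x⁻¹ * g ^ k * x ∈ M,
      φ ⟨x⁻¹ * g ^ k * x, hm⟩ = 1) :
    MonoidHom.transfer φ g = φ ⟨g, hg⟩ := by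
  classical
  haveI : Finite (G ⧸ M) := Subgroup.finite_quotient_of_finiteIndex
  letI : Fintype (Quotient (orbitRel (Subgroup.zpowers g) (G ⧸ M))) := Fintype.ofFinite _
  rw [MonoidHom.transfer_eq_prod_quotient_orbitRel_zpowers_quot]
  set q₀ : Quotient (orbitRel (Subgroup.zpowers g) (G ⧸ M)) :=
    Quotient.mk _ ((1 : G) : G ⧸ M) with hq₀
  have hzM : ∀ z : Subgroup.zpowers g, (z : G) ∈ M := by
    intro z
    obtain ⟨i, hi⟩ := Subgroup.mem_zpowers_iff.mp z.2
    rw [← hi]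
    exact Subgroup.zpow_mem _ hg i
  -- the representative of q₀
  have hout : q₀.out = ((1 : G) : G ⧸ M) := by
    have h1 : (orbitRel (Subgroup.zpowers g) (G ⧸ M)).r q₀.out ((1 : G) : G ⧸ M) :=
      Quotient.exact (Quotient.out_eq q₀)
    rw [orbitRel_apply] at h1
    obtain ⟨z, hz⟩ := h1
    rw [← hz]
    show ((z : G) • ((1 : G) : G ⧸ M)) = ((1 : G) : G ⧸ M)
    rw [MulAction.Quotient.smul_mk, QuotientGroup.eq]
    simpa using Subgroup.inv_mem _ (hzM z)
  have hmemM : ∀ x : G, ((x : G) : G ⧸ M) = ((1 : G) : G ⧸ M) → x ∈ M := by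
    intro x hx
    rw [QuotientGroup.eq] at hx
    have := Subgroup.inv_mem _ hx
    simpa using this
  have hgen : ∀ (x : G) (hx : x ∈ M) (k : ℕ) (hm : x⁻¹ * g ^ k * x ∈ M),
      φ ⟨x⁻¹ * g ^ k * x, hm⟩ = φ ⟨g, hg⟩ ^ k := by
    intro x hx k hm
    have : (⟨x⁻¹ * g ^ k * x, hm⟩ : M) = (⟨x, hx⟩ : M)⁻¹ * (⟨g, hg⟩ : M) ^ k * ⟨x, hx⟩ := by
      apply Subtype.ext
      simp
    rw [this, map_mul, map_mul, map_inv, map_pow]
    rw [mul_comm, ← mul_assoc, mul_inv_cancel, one_mul]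
  rw [Finset.prod_eq_single q₀]
  · have hx : q₀.out.out ∈ M := by
      apply hmemM
      rw [QuotientGroup.out_eq', hout]
    rw [hgen _ hx]
    have hper : Function.minimalPeriod (g • ·) q₀.out = 1 := by
      rw [Function.minimalPeriod_eq_one_iff_isFixedPt, hout]
      show g • ((1 : G) : G ⧸ M) = ((1 : G) : G ⧸ M)
      rw [MulAction.Quotient.smul_mk, QuotientGroup.eq]
      simpa using Subgroup.inv_mem _ hg
    rw [hper, pow_one]
  · intro q _ hq
    apply hstar
    intro hx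
    apply hq
    have h1 : q.out = ((1 : G) : G ⧸ M) := by
      rw [← QuotientGroup.out_eq' q.out, QuotientGroup.eq]
      simpa using Subgroup.inv_mem _ hx
    rw [hq₀, ← h1, Quotient.out_eq]
  · intro h
    exact absurd (Finset.mem_univ _) h

end Cfsg.Agent.Lib.helper6.SZt
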