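import Mathlib
import Cfsg.Agent.S0728
import Cfsg.Agent.Lib.helper6.SZe
import Cfsg.Agent.Lib.helper6.SZt

set_option autoImplicit false

namespace Cfsg.Agent.Lib.helper6.SZg

open Cfsg.Agent.Lib.helper6 Cfsg.Agent.Lib.helper6.Sharp3F

variable {G Ω : Type*} [Group G] [MulAction G Ω] {a b c : Ω} {KG : Subgroup G}

/-- abstract form of S0728: at most one subgroup of order 3 in a two-point stabiliser -/
theorem uniq_three [Finite G] [Fintype Ω] (C : Ctx G Ω a b c KG) (A B : Subgroup G)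
    (hA : A ≤ MulAction.stabilizer G a ⊓ MulAction.stabilizer G b)
    (hB : B ≤ MulAction.stabilizer G a ⊓ MulAction.stabilizer G b)
    (hA3 : Nat.card A = 3) (hB3 : Nat.card B = 3) : A = B := by
  classical
  letI : Fintype G := Fintype.ofFinite G
  have HS : ∀ (g : G) (a b c : Ω), a ≠ b → a ≠ c → b ≠ c → g • a = a → g • b = b → g • c = c →
      g = 1 := fun g a b c hab hac hbc => C.S3 g a b c hab hbc hac
  have hthird : ∀ x y : Ω, ∃ z, x ≠ z ∧ y ≠ z := by
    intro x y
    by_cases h1 : x ≠ a ∧ y ≠ a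
    · exact ⟨a, h1.1, h1.2⟩
    by_cases h2 : x ≠ b ∧ y ≠ b
    · exact ⟨b, h2.1, h2.2⟩
    have hab := C.hi0
    have hac := C.hi1
    have hbc := C.h01
    rw [not_and_or, not_not, not_not] at h1 h2
    refine ⟨c, ?_, ?_⟩
    · intro hxc
      have hya : y = a := by
        rcases h1 with h | h
        · exact absurd (hxc.symm.trans h) (Ne.symm hac)
        · exact h
      have hyb : y = b := by
        rcases h2 with h | h
        · exact absurd (hxc.symm.trans h) (Ne.symm hbc)
        · exact h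
      exact hab (hya.symm.trans hyb)
    · intro hyc
      have hxa : x = a := by
        rcases h1 with h | h
        · exact h
        · exact absurd (hyc.symm.trans h) (Ne.symm hac)
      have hxb : x = b := by
        rcases h2 with h | h
        · exact h
        · exact absurd (hyc.symm.trans h) (Ne.symm hbc)
      exact hab (hxa.symm.trans hxb)
  have H2T : ∀ x y z w : Ω, x ≠ y → z ≠ w → ∃ h : G, h • x = z ∧ h • y = w := by
    intro x y z w hxy hzw
    obtain ⟨e, hxe, hye⟩ := hthird x y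
    obtain ⟨f, hzf, hwf⟩ := hthird z w
    obtain ⟨g, h1, h2, -⟩ := C.T3 x y e z w f hxy hye hxe hzw hwf hzf
    exact ⟨g, h1, h2⟩
  have hn : 3 ≤ Fintype.card Ω := by
    rw [← Finset.card_univ]
    have : ({a, b, c} : Finset Ω).card = 3 := by
      rw [Finset.card_insert_of_notMem, Finset.card_pair C.h01]
      simp only [Finset.mem_insert, Finset.mem_singleton, not_or]
      exact ⟨C.hi0, C.hi1⟩
    rw [← this]
    exact Finset.card_le_card (Finset.subset_univ _)
  have hm := Cfsg.Agent.S0728.m_le_two HS H2T hn a b C.hi0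
  by_contra hne
  have h4 := Cfsg.Agent.S0728.four_le A B hA3 hB3 hne (↑(Cfsg.Agent.S0728.M3 G a b)) (by
    intro g hg1 hg
    have key : ∀ D : Subgroup G, D ≤ MulAction.stabilizer G a ⊓ MulAction.stabilizer G b →
        Nat.card D = 3 → g ∈ D → g ∈ Cfsg.Agent.S0728.M3 G a b := by
      intro D hD hD3 hgD
      have hstab := hD hgD
      rw [Subgroup.mem_inf, MulAction.mem_stabilizer_iff, MulAction.mem_stabilizer_iff] at hstab
      simp only [Cfsg.Agent.S0728.M3, Cfsg.Agent.S0728.R3, Finset.mem_filter, Finset.mem_univ,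
        true_and]
      refine ⟨⟨hg1, ?_⟩, hstab.1, hstab.2⟩
      have := pow_card_eq_one' (G := D) (x := ⟨g, hgD⟩)
      rw [hD3] at this
      exact congrArg Subtype.val this
    rcases hg with hg | hg
    · exact key A hA hA3 hg
    · exact key B hB hB3 hg)
  rw [Set.ncard_coe_finset] at h4
  omega


/-- A sharply 3-transitive group of even degree has a homomorphism onto `{±1}`. -/
theorem exists_sign [Finite G] [Fintype Ω] (C : Ctx G Ω a b c KG)
    (heven : Even (Fintype.card Ω)) :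
    ∃ ψ : G →* ℤˣ, ∃ h₀ : G, ψ h₀ = -1 := by
  classical
  set Hs : Subgroup G := MulAction.stabilizer G a ⊓ MulAction.stabilizer G b with hHs
  have hmem : ∀ h : G, h ∈ Hs ↔ h • a = a ∧ h • b = b := by
    intro h
    simp only [hHs, Subgroup.mem_inf, MulAction.mem_stabilizer_iff]
  obtain ⟨s, hs1, hs2, hs3⟩ := C.T3 a b c b a c C.hi0 C.h01 C.hi1 (Ne.symm C.hi0) C.hi1 C.h01
  obtain ⟨N, hNle, -, hN2, hNs⟩ := SZe.index_two_stab C heven
    (fun A B hA hB h3 h3' => uniq_three C A B hA hB h3 h3') s hs1 hs2 hs3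
  have hss : s * s = 1 := by
    apply C.S3 (s * s) a b c C.hi0 C.h01 C.hi1
    · rw [mul_smul, hs1, hs2]
    · rw [mul_smul, hs2, hs1]
    · rw [mul_smul, hs3, hs3]
  have hsinv : s⁻¹ = s := inv_eq_of_mul_eq_one_right hss
  have hN2' : ∀ x ∈ Hs, ∀ y ∈ Hs, (x * y ∈ N ↔ (x ∈ N ↔ y ∈ N)) := by
    intro x hx y hy
    have := Subgroup.mul_mem_iff_of_index_two (H := N.subgroupOf Hs) hN2 (a := ⟨x, hx⟩)
      (b := ⟨y, hy⟩)
    simpa [Subgroup.mem_subgroupOf] using this
  have hNs' : ∀ x, s * x * s⁻¹ ∈ N ↔ x ∈ N := by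
    intro x
    constructor
    · intro h
      have h1 := hNs _ h
      have e : s * (s * x * s⁻¹) * s⁻¹ = x := by
        rw [hsinv]
        calc s * (s * x * s) * s = (s * s) * x * (s * s) := by group
          _ = x := by rw [hss, one_mul, mul_one]
      rwa [e] at h1
    · exact hNs x
  obtain ⟨h₀, hh₀, hh₀N⟩ : ∃ h₀ ∈ Hs, h₀ ∉ N := by
    by_contra hcon
    push Not at hcon
    have : N.subgroupOf Hs = ⊤ := by
      ext x
      simp [Subgroup.mem_subgroupOf, hcon x x.2]
    rw [Subgroup.relIndex, this, Subgroup.index_top] at hN2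
    norm_num at hN2
  have hsH : s ∉ Hs := by
    intro h
    have := ((hmem s).mp h).1
    rw [hs1] at this
    exact C.hi0 this.symm
  have hsconj : ∀ h ∈ Hs, s * h * s⁻¹ ∈ Hs := by
    intro h hh
    obtain ⟨h1, h2⟩ := (hmem h).mp hh
    rw [hmem, hsinv]
    constructor
    · rw [mul_smul, mul_smul, hs1, h2, hs2]
    · rw [mul_smul, mul_smul, hs2, h1, hs1]
  -- the setwise stabiliser of {a, b}
  let M : Subgroup G :=
    { carrier := {g | (g • a = a ∧ g • b = b) ∨ (g • a = b ∧ g • b = a)}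
      one_mem' := Or.inl ⟨one_smul _ _, one_smul _ _⟩
      mul_mem' := by
        rintro g g' (⟨h1, h2⟩ | ⟨h1, h2⟩) (⟨h3, h4⟩ | ⟨h3, h4⟩)
        · left; rw [mul_smul, mul_smul, h3, h4]; exact ⟨h1, h2⟩
        · right; rw [mul_smul, mul_smul, h3, h4]; exact ⟨h2, h1⟩
        · right; rw [mul_smul, mul_smul, h3, h4]; exact ⟨h1, h2⟩
        · left; rw [mul_smul, mul_smul, h3, h4]; exact ⟨h2, h1⟩
      inv_mem' := by
        rintro g (⟨h1, h2⟩ | ⟨h1, h2⟩)
        · left; exact ⟨inv_smul_eq_iff.mpr h1.symm, inv_smul_eq_iff.mpr h2.symm⟩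
        · right; exact ⟨inv_smul_eq_iff.mpr h2.symm, inv_smul_eq_iff.mpr h1.symm⟩ }
  have hMmem : ∀ g : G, g ∈ M ↔ (g • a = a ∧ g • b = b) ∨ (g • a = b ∧ g • b = a) :=
    fun g => Iff.rfl
  let ε : G → Prop := fun m => m ∈ N ∨ m * s ∈ N
  have hε1 : ∀ m ∈ Hs, (ε m ↔ m ∈ N) := by
    intro m hm
    constructor
    · rintro (h | h)
      · exact h
      · exfalso
        apply hsH
        have := Hs.mul_mem (Hs.inv_mem hm) (hNle h)
        simpa using this
    · exact Or.inl
  have hε2 : ∀ m, m * s ∈ Hs → (ε m ↔ m * s ∈ N) := by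
    intro m hm
    constructor
    · rintro (h | h)
      · exfalso
        apply hsH
        have := Hs.mul_mem (Hs.inv_mem (hNle h)) hm
        simpa using this
      · exact h
    · exact Or.inr
  have hdich : ∀ m ∈ M, m ∈ Hs ∨ m * s ∈ Hs := by
    intro m hm
    rcases hm with ⟨h1, h2⟩ | ⟨h1, h2⟩
    · left; exact (hmem m).mpr ⟨h1, h2⟩
    · right
      rw [hmem, mul_smul, mul_smul, hs1, hs2]
      exact ⟨h2, h1⟩
  have hεmul : ∀ m ∈ M, ∀ m' ∈ M, (ε (m * m') ↔ (ε m ↔ ε m')) := by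
    intro m hm m' hm'
    rcases hdich m hm with h1 | h1 <;> rcases hdich m' hm' with h2 | h2
    · rw [hε1 _ (Hs.mul_mem h1 h2), hε1 _ h1, hε1 _ h2]
      exact hN2' _ h1 _ h2
    · have e : m * m' * s = m * (m' * s) := by group
      have h3 : m * m' * s ∈ Hs := by rw [e]; exact Hs.mul_mem h1 h2
      rw [hε2 _ h3, hε1 _ h1, hε2 _ h2, e]
      exact hN2' _ h1 _ h2
    · have e : m * m' * s = (m * s) * (s * m' * s⁻¹) := by
        rw [hsinv]
        calc m * m' * s = m * 1 * m' * s := by group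
          _ = m * (s * s) * m' * s := by rw [hss]
          _ = (m * s) * (s * m' * s) := by group
      have h3 : m * m' * s ∈ Hs := by rw [e]; exact Hs.mul_mem h1 (hsconj _ h2)
      rw [hε2 _ h3, hε2 _ h1, hε1 _ h2, e, hN2' _ h1 _ (hsconj _ h2), hNs']
    · have e : m * m' = (m * s) * (s * (m' * s) * s⁻¹) := by
        rw [hsinv]
        calc m * m' = m * 1 * m' * 1 := by group
          _ = m * (s * s) * m' * (s * s) := by rw [hss]
          _ = (m * s) * (s * (m' * s) * s) := by group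
      have h3 : m * m' ∈ Hs := by rw [e]; exact Hs.mul_mem h1 (hsconj _ h2)
      rw [hε1 _ h3, hε2 _ h1, hε2 _ h2, e, hN2' _ h1 _ (hsconj _ h2), hNs']
  let χ : M →* ℤˣ :=
    { toFun := fun m => if ε (m : G) then 1 else -1
      map_one' := by
        have : ε ((1 : M) : G) := Or.inl (N.one_mem)
        show (if ε ((1 : M) : G) then (1 : ℤˣ) else -1) = 1
        rw [if_pos this]
      map_mul' := by
        intro x y
        have h := hεmul x x.2 y y.2
        have e : ((x * y : M) : G) = (x : G) * (y : G) := rfl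
        rw [e]
        by_cases hx : ε (x : G) <;> by_cases hy : ε (y : G) <;> simp [h, hx, hy] }
  have hχ : ∀ m : M, ε (m : G) → χ m = 1 := by
    intro m hm
    show (if ε (m : G) then (1 : ℤˣ) else -1) = 1
    rw [if_pos hm]
  have hh₀M : h₀ ∈ M := Or.inl ((hmem h₀).mp hh₀)
  have hχ0 : χ ⟨h₀, hh₀M⟩ = -1 := by
    show (if ε h₀ then (1 : ℤˣ) else -1) = -1
    rw [if_neg]
    rw [hε1 _ hh₀]
    exact hh₀N
  refine ⟨MonoidHom.transfer χ, h₀, ?_⟩
  rw [SZt.transfer_key M χ h₀ hh₀M, hχ0]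
  intro x hxM k hm
  apply hχ
  show ε (x⁻¹ * h₀ ^ k * x)
  set g' := h₀ ^ k with hg'
  have hg'H : g' ∈ Hs := Hs.pow_mem hh₀ k
  obtain ⟨hg'a, hg'b⟩ := (hmem g').mp hg'H
  rcases hm with ⟨h1, h2⟩ | ⟨h1, h2⟩
  · -- g' fixes x•a and x•b
    have e1 : g' • x • a = x • a := by
      have := congrArg (fun y => x • y) h1
      simpa [mul_smul] using this
    have e2 : g' • x • b = x • b := by
      have := congrArg (fun y => x • y) h2
      simpa [mul_smul] using this
    have hne : x • a ≠ x • b := fun h => C.hi0 (MulAction.injective x h)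
    have hg1 : g' = 1 := by
      by_cases hxa : x • a ≠ a ∧ x • a ≠ b
      · exact C.Hreg hg'a hg'b hxa.1 hxa.2 e1
      by_cases hxb : x • b ≠ a ∧ x • b ≠ b
      · exact C.Hreg hg'a hg'b hxb.1 hxb.2 e2
      exfalso
      apply hxM
      rw [not_and_or, not_not, not_not] at hxa hxb
      rcases hxa with h | h <;> rcases hxb with h' | h'
      · exact absurd (h.trans h'.symm) hne
      · exact Or.inl ⟨h, h'⟩
      · exact Or.inr ⟨h, h'⟩
      · exact absurd (h.trans h'.symm) hne
    left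
    rw [hg1]
    simp [N.one_mem]
  · -- an involution swapping a, b with a fixed point
    set m := x⁻¹ * g' * x with hm
    set y := x⁻¹ • a with hy
    have hmy : m • y = y := by
      rw [hm, hy, mul_smul, mul_smul, smul_inv_smul, hg'a]
    have hya : y ≠ a := by
      intro h
      rw [h] at hmy
      exact C.hi0 (hmy.symm.trans h1)
    have hyb : y ≠ b := by
      intro h
      rw [h] at hmy
      exact C.hi0 (h2.symm.trans hmy)
    obtain ⟨k', hk'a, hk'b, hk'c⟩ := C.Htr (Ne.symm C.hi1) (Ne.symm C.h01) hya hyb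
    have hk'H : k' ∈ Hs := (hmem k').mpr ⟨hk'a, hk'b⟩
    have hk'ia : k'⁻¹ • a = a := inv_smul_eq_iff.mpr hk'a.symm
    have hk'ib : k'⁻¹ • b = b := inv_smul_eq_iff.mpr hk'b.symm
    have hk'ic : k'⁻¹ • y = c := inv_smul_eq_iff.mpr hk'c.symm
    have hmm : m = k' * s * k'⁻¹ := by
      have h3 : (k' * s * k'⁻¹)⁻¹ * m = 1 := by
        apply C.S3 _ a b y C.hi0 (Ne.symm hyb) (Ne.symm hya)
        · rw [mul_smul, h1, inv_smul_eq_iff, mul_smul, mul_smul, hk'ia, hs1, hk'b]
        · rw [mul_smul, h2, inv_smul_eq_iff, mul_smul, mul_smul, hk'ib, hs2, hk'a]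
        · rw [mul_smul, hmy, inv_smul_eq_iff, mul_smul, mul_smul, hk'ic, hs3, hk'c]
      have : m = (k' * s * k'⁻¹) * ((k' * s * k'⁻¹)⁻¹ * m) := by group
      rw [this, h3, mul_one]
    right
    show m * s ∈ N
    have e : m * s = k' * (s * k'⁻¹ * s⁻¹) := by
      rw [hmm, hsinv]; group
    rw [e, hN2' _ hk'H _ (hsconj _ (Hs.inv_mem hk'H)), hNs', inv_mem_iff]

/-- A sharply 3-transitive group of even degree has a normal subgroup of index 2. -/
theorem exists_index_two [Finite G] [Fintype Ω] (C : Ctx G Ω a b c KG)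
    (heven : Even (Fintype.card Ω)) :
    ∃ N : Subgroup G, N.Normal ∧ N.index = 2 := by
  obtain ⟨ψ, h₀, hψ⟩ := exists_sign C heven
  refine ⟨ψ.ker, inferInstance, ?_⟩
  rw [Subgroup.index_ker]
  have : ψ.range = ⊤ := by
    rw [eq_top_iff]
    intro u _
    rcases Int.units_eq_one_or u with h | h
    · rw [h]; exact Subgroup.one_mem _
    · rw [h, ← hψ]; exact ⟨h₀, rfl⟩
  rw [this]
  simp

end Cfsg.Agent.Lib.helper6.SZg
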