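import Mathlib
import Cfsg.Agent.Lib.helper6.OrbitTools
import Cfsg.Agent.Lib.helper6.ZassInvol
import Cfsg.Agent.Lib.helper6.ZassNormal

set_option autoImplicit false

namespace Cfsg.Agent.Lib.helper6.SZh

open Cfsg.Agent.Lib.helper6 MulAction

variable {G Ω : Type*} [Group G] [MulAction G Ω]

/-- If the two-point stabilisers of a Zassenhaus group are large, they are regular on the
remaining points. -/
theorem reg_of_big [Finite G] [Fintype Ω] (hZ : Cfsg.IsZassenhausGroup G Ω) {a b : Ω}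
    (hab : a ≠ b)
    (hbig : Fintype.card Ω - 2 < 2 * Nat.card ↥(stabilizer G a ⊓ stabilizer G b))
    (h3pt : 3 ≤ Fintype.card Ω) {x y : Ω} (hxy : x ≠ y) {u v : Ω} (hux : u ≠ x) (huy : u ≠ y)
    (hvx : v ≠ x) (hvy : v ≠ y) :
    ∃ h : G, h • x = x ∧ h • y = y ∧ h • u = v := by
  classical
  have D := ZassNormal.ZData.of_zass hZ
  set Q : Subgroup G := stabilizer G x ⊓ stabilizer G y with hQ
  have hQmem : ∀ h : G, h ∈ Q ↔ h • x = x ∧ h • y = y := by
    intro h
    simp only [hQ, Subgroup.mem_inf, mem_stabilizer_iff]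
  have hQcard : Nat.card Q = Nat.card ↥(stabilizer G a ⊓ stabilizer G b) :=
    ZassInvol.card_pair hZ hab hxy
  set d := Nat.card ↥(stabilizer G a ⊓ stabilizer G b) with hd
  let S : Set Ω := {w | w ≠ x ∧ w ≠ y}
  have hScard : S.ncard = Fintype.card Ω - 2 := by
    have h1 : S = ({x, y} : Set Ω)ᶜ := by
      ext w
      simp only [S, Set.mem_setOf_eq, Set.mem_compl_iff, Set.mem_insert_iff,
        Set.mem_singleton_iff, not_or]
    rw [h1, Set.ncard_compl, Set.ncard_pair hxy, Nat.card_eq_fintype_card]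
  have hinv : ∀ q : Q, ∀ w ∈ S, q • w ∈ S := by
    intro q w hw
    obtain ⟨h1, h2⟩ := (hQmem q).mp q.2
    constructor
    · intro h
      have : (q : G) • w = (q : G) • x := h.trans h1.symm
      exact hw.1 (MulAction.injective (q : G) this)
    · intro h
      have : (q : G) • w = (q : G) • y := h.trans h2.symm
      exact hw.2 (MulAction.injective (q : G) this)
  have hstab : ∀ w ∈ S, ∀ q : Q, q • w = w → q = 1 := by
    intro w hw q hq
    obtain ⟨h1, h2⟩ := (hQmem q).mp q.2
    apply Subtype.ext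
    exact D.three (q : G) x y w hxy (Ne.symm hw.2) (Ne.symm hw.1) h1 h2 hq
  have horb : ∀ w ∈ S, (orbit Q w).ncard = d := by
    intro w hw
    have h1 := ncard_orbit_mul_card_stabilizer (Q := Q) w
    have h2 : Nat.card (stabilizer Q w) = 1 := by
      have : stabilizer Q w = ⊥ := by
        rw [Subgroup.eq_bot_iff_forall]
        intro q hq
        exact hstab w hw q (mem_stabilizer_iff.mp hq)
      rw [this, Subgroup.card_bot]
    rw [h2, mul_one, hQcard] at h1
    exact h1
  have hdvd : d ∣ Fintype.card Ω - 2 :=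
    dvd_ncard_of_invariant (Q := Q) d (Fintype.card Ω - 2) S (Set.toFinite S) hScard hinv horb
  have hdeq : d = Fintype.card Ω - 2 := by
    obtain ⟨m, hm⟩ := hdvd
    have hm1 : m = 1 := by
      have h1 : 0 < m := by
        rcases Nat.eq_zero_or_pos m with h | h
        · rw [h] at hm; omega
        · exact h
      by_contra hne
      have h2 : 2 ≤ m := by omega
      have : 2 * d ≤ d * m := by rw [mul_comm]; exact Nat.mul_le_mul_left d h2
      omega
    rw [hm, hm1, mul_one]
  let f : Q → S := fun q => ⟨q • u, hinv q u ⟨hux, huy⟩⟩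
  have hf : Function.Injective f := by
    intro q q' hqq
    have h1 : q • u = q' • u := congrArg Subtype.val hqq
    have h2 : (q'⁻¹ * q) • u = u := by rw [mul_smul, h1, inv_smul_smul]
    have h3 := hstab u ⟨hux, huy⟩ _ h2
    have : q = q' * (q'⁻¹ * q) := by group
    rw [this, h3, mul_one]
  have hc : Nat.card S ≤ Nat.card Q := by
    rw [Nat.card_coe_set_eq, hScard, hQcard, ← hdeq]
  have hb := hf.bijective_of_nat_card_le hc
  obtain ⟨q, hq⟩ := hb.2 ⟨v, ⟨hvx, hvy⟩⟩
  obtain ⟨h1, h2⟩ := (hQmem q).mp q.2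
  exact ⟨q, h1, h2, congrArg Subtype.val hq⟩

theorem three_trans_of_big [Finite G] [Fintype Ω] (hZ : Cfsg.IsZassenhausGroup G Ω) {a b : Ω}
    (hab : a ≠ b)
    (hbig : Fintype.card Ω - 2 < 2 * Nat.card ↥(stabilizer G a ⊓ stabilizer G b))
    (h3pt : 3 ≤ Fintype.card Ω) :
    ∀ x y z x' y' z' : Ω, x ≠ y → y ≠ z → x ≠ z → x' ≠ y' → y' ≠ z' → x' ≠ z' →
      ∃ g : G, g • x = x' ∧ g • y = y' ∧ g • z = z' := by
  intro x y z x' y' z' hxy hyz hxz hxy' hyz' hxz'
  have D := ZassNormal.ZData.of_zass hZ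
  obtain ⟨g, hgx, hgy⟩ := D.two hxy hxy'
  have h1 : g • z ≠ x' := by
    intro h
    exact hxz (MulAction.injective g (hgx.trans h.symm))
  have h2 : g • z ≠ y' := by
    intro h
    exact hyz (MulAction.injective g (hgy.trans h.symm))
  obtain ⟨h, hhx, hhy, hhz⟩ := reg_of_big hZ hab hbig h3pt hxy' h1 h2 (Ne.symm hxz') (Ne.symm hyz')
  refine ⟨h * g, ?_, ?_, ?_⟩
  · rw [mul_smul, hgx, hhx]
  · rw [mul_smul, hgy, hhy]
  · rw [mul_smul, hhz]

end Cfsg.Agent.Lib.helper6.SZh
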