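import Mathlib
import Cfsg.Agent.Lib.helper15.SQM.Defs

/-! Project SQM (designer helper15), row D4a (helper6): an isometry `y` with `y * y = -1` of the anisotropic plane
`z₀² + a z₀ z₁ + b z₁²` over a finite field in which `-1` is not a square. -/

set_option autoImplicit false

namespace Cfsg.Agent.Lib.helper15.SQM

open Matrix

variable {F : Type*} [Field F]

/-- `4 b - a²` is a non-zero square -/
theorem sqmd4a_sq [Fintype F] (h2 : (2 : F) ≠ 0) (hns : ¬ IsSquare (-1 : F)) (a b : F)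
    (hab : ∀ x y : F, x ^ 2 + a * x * y + b * y ^ 2 = 0 → x = 0 ∧ y = 0) :
    ∃ s : F, s ≠ 0 ∧ s * s = 4 * b - a ^ 2 := by
  classical
  have hch : ringChar F ≠ 2 := by
    intro h
    have : ((2 : ℕ) : F) = 0 := by
      rw [← h]; exact ringChar.Nat.cast_ringChar
    exact h2 (by exact_mod_cast this)
  -- `a² - 4b` is not a square
  have hd : ¬ IsSquare (a ^ 2 - 4 * b) := by
    rintro ⟨d, hd⟩
    have := hab ((-a + d) / 2) 1 (by
      field_simp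
      have : d * d = a ^ 2 - 4 * b := hd.symm
      linear_combination this)
    exact one_ne_zero this.2
  have h1 : quadraticChar F (-1) = -1 := (quadraticChar_neg_one_iff_not_isSquare).mpr hns
  have h3 : quadraticChar F (a ^ 2 - 4 * b) = -1 := (quadraticChar_neg_one_iff_not_isSquare).mpr hd
  have h4 : quadraticChar F (4 * b - a ^ 2) = 1 := by
    have : 4 * b - a ^ 2 = (-1) * (a ^ 2 - 4 * b) := by ring
    rw [this, map_mul, h1, h3]
    norm_num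
  have hne : 4 * b - a ^ 2 ≠ 0 := by
    intro h0
    rw [h0, MulChar.map_zero] at h4
    exact zero_ne_one h4
  obtain ⟨s, hs⟩ := (quadraticChar_one_iff_isSquare hne).mp h4
  refine ⟨s, ?_, hs.symm⟩
  intro h0
  rw [h0, mul_zero] at hs
  exact hne hs

theorem sqm_ex_plane [Fintype F] (h2 : (2 : F) ≠ 0) (hns : ¬ IsSquare (-1 : F)) (a b : F)
    (hab : ∀ x y : F, x ^ 2 + a * x * y + b * y ^ 2 = 0 → x = 0 ∧ y = 0) :
    ∃ y : Matrix (Fin 2) (Fin 2) F, y * y = -1 ∧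
      ∀ z : Fin 2 → F, (y *ᵥ z) 0 ^ 2 + a * (y *ᵥ z) 0 * (y *ᵥ z) 1 + b * (y *ᵥ z) 1 ^ 2 =
        z 0 ^ 2 + a * z 0 * z 1 + b * z 1 ^ 2 := by
  obtain ⟨s, hs0, hs⟩ := sqmd4a_sq h2 hns a b hab
  refine ⟨s⁻¹ • !![a, 2 * b; -2, -a], ?_, ?_⟩
  · rw [smul_mul_smul_comm]
    have hM : (!![a, 2 * b; -2, -a] : Matrix (Fin 2) (Fin 2) F) * !![a, 2 * b; -2, -a] = (a ^ 2 - 4 * b) • 1 := by
      ext i j
      fin_cases i <;> fin_cases j <;> simp [Matrix.mul_apply, Fin.sum_univ_two] <;> ring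
    rw [hM, smul_smul]
    have : s⁻¹ * s⁻¹ * (a ^ 2 - 4 * b) = -1 := by
      have h4 : a ^ 2 - 4 * b = -(s * s) := by rw [hs]; ring
      rw [h4]
      field_simp
    rw [this, neg_one_smul]
  · intro z
    have h0 : ((s⁻¹ • !![a, 2 * b; -2, -a] : Matrix (Fin 2) (Fin 2) F) *ᵥ z) 0 = s⁻¹ * (a * z 0 + 2 * b * z 1) := by
      simp [Matrix.mulVec, dotProduct, Fin.sum_univ_two]
      ring
    have h1 : ((s⁻¹ • !![a, 2 * b; -2, -a] : Matrix (Fin 2) (Fin 2) F) *ᵥ z) 1 = s⁻¹ * (-2 * z 0 + -a * z 1) := by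
      simp [Matrix.mulVec, dotProduct, Fin.sum_univ_two]
      ring
    rw [h0, h1]
    have hss : s⁻¹ * s⁻¹ * (4 * b - a ^ 2) = 1 := by
      rw [← hs]; field_simp
    calc (s⁻¹ * (a * z 0 + 2 * b * z 1)) ^ 2 + a * (s⁻¹ * (a * z 0 + 2 * b * z 1)) * (s⁻¹ * (-2 * z 0 + -a * z 1)) +
          b * (s⁻¹ * (-2 * z 0 + -a * z 1)) ^ 2
        = (s⁻¹ * s⁻¹ * (4 * b - a ^ 2)) * (z 0 ^ 2 + a * z 0 * z 1 + b * z 1 ^ 2) := by ring
      _ = z 0 ^ 2 + a * z 0 * z 1 + b * z 1 ^ 2 := by rw [hss, one_mul]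

end Cfsg.Agent.Lib.helper15.SQM
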