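import Mathlib
import Cfsg.Agent.S0831
import Cfsg.Agent.Lib.helper6.PlusCoords

set_option autoImplicit false

namespace Cfsg.Agent.Lib.helper6.Plus

open Module

variable {F : Type*} [Field F] {n : ℕ}

theorem finrank_Vn : finrank F (Fin n → F) = n := by
  rw [Module.finrank_fintype_fun_eq_card, Fintype.card_fin]

/-- the three-term parity relation for maximal totally singular subspaces of a plus-type form -/
theorem parity_general (Q : QuadraticForm F (Fin n → F))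
    (hQ : (QuadraticMap.polarBilin Q).Nondegenerate) (m : ℕ) (hn : n = 2 * m) (hm : 1 ≤ m)
    (U₀ : Submodule F (Fin n → F)) (hU₀ : finrank F U₀ = m ∧ ∀ u ∈ U₀, Q u = 0)
    (A B C : Submodule F (Fin n → F))
    (hA : finrank F A = m ∧ ∀ w ∈ A, Q w = 0) (hB : finrank F B = m ∧ ∀ w ∈ B, Q w = 0)
    (hC : finrank F C = m ∧ ∀ w ∈ C, Q w = 0) :
    Even ((m - finrank F ↥(A ⊓ B)) + (m - finrank F ↥(B ⊓ C)) + (m - finrank F ↥(A ⊓ C))) := by
  obtain ⟨T, hT⟩ := exists_hyp_coords Q hQ U₀ hU₀.2 m hU₀.1 (by rw [finrank_Vn, hn])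
  have hmap : ∀ X : Submodule F (Fin n → F), (finrank F X = m ∧ ∀ w ∈ X, Q w = 0) →
      (finrank F (X.map (T : (Fin n → F) →ₗ[F] (Fin m ⊕ Fin m → F))) = m ∧
        ∀ w ∈ X.map (T : (Fin n → F) →ₗ[F] (Fin m ⊕ Fin m → F)), Cfsg.quadFormPlus m F w = 0) := by
    intro X hX
    constructor
    · rw [LinearEquiv.finrank_map_eq, hX.1]
    · rintro _ ⟨x, hx, rfl⟩
      show Cfsg.quadFormPlus m F (T x) = 0
      rw [hT, hX.2 x hx]
  have hinf : ∀ X Y : Submodule F (Fin n → F),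
      finrank F ↥(X.map (T : (Fin n → F) →ₗ[F] (Fin m ⊕ Fin m → F)) ⊓
        Y.map (T : (Fin n → F) →ₗ[F] (Fin m ⊕ Fin m → F))) = finrank F ↥(X ⊓ Y) := by
    intro X Y
    rw [← Submodule.map_inf _ T.injective, LinearEquiv.finrank_map_eq]
  have := (Cfsg.Agent.S0831.main31 (F := F) m hm).1 _ _ _ (hmap A hA) (hmap B hB) (hmap C hC)
  rw [hinf, hinf, hinf] at this
  exact this

/-- exactly two maximal totally singular subspaces through a totally singular subspace of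
dimension `m - 1` -/
theorem two_general [Finite F] (Q : QuadraticForm F (Fin n → F))
    (hQ : (QuadraticMap.polarBilin Q).Nondegenerate) (m : ℕ) (hn : n = 2 * m) (hm : 1 ≤ m)
    (U₀ : Submodule F (Fin n → F)) (hU₀ : finrank F U₀ = m ∧ ∀ u ∈ U₀, Q u = 0)
    (W : Submodule F (Fin n → F)) (hW : finrank F W + 1 = m ∧ ∀ w ∈ W, Q w = 0) :
    ∃ M₁ M₂ : Submodule F (Fin n → F), M₁ ≠ M₂ ∧
      (finrank F M₁ = m ∧ (∀ w ∈ M₁, Q w = 0) ∧ W ≤ M₁) ∧
      (finrank F M₂ = m ∧ (∀ w ∈ M₂, Q w = 0) ∧ W ≤ M₂) ∧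
      ∀ M : Submodule F (Fin n → F), (finrank F M = m ∧ (∀ w ∈ M, Q w = 0) ∧ W ≤ M) →
        M = M₁ ∨ M = M₂ := by
  obtain ⟨T, hT⟩ := exists_hyp_coords Q hQ U₀ hU₀.2 m hU₀.1 (by rw [finrank_Vn, hn])
  set W' := W.map (T : (Fin n → F) →ₗ[F] (Fin m ⊕ Fin m → F)) with hW'
  have hW'good : finrank F W' + 1 = m ∧ ∀ u ∈ W', Cfsg.quadFormPlus m F u = 0 := by
    constructor
    · rw [hW', LinearEquiv.finrank_map_eq, hW.1]
    · rintro _ ⟨x, hx, rfl⟩
      show Cfsg.quadFormPlus m F (T x) = 0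
      rw [hT, hW.2 x hx]
  have hcard := Cfsg.Agent.S0832.main (F := F) m hm W' hW'good
  let e : {M : Submodule F (Fin n → F) // finrank F M = m ∧ (∀ w ∈ M, Q w = 0) ∧ W ≤ M} ≃
      {M : Submodule F (Fin m ⊕ Fin m → F) // finrank F M = m ∧
        (∀ w ∈ M, Cfsg.quadFormPlus m F w = 0) ∧ W' ≤ M} :=
    Equiv.subtypeEquiv (Submodule.orderIsoMapComap T).toEquiv (by
      intro M
      show _ ↔ (finrank F (M.map (T : (Fin n → F) →ₗ[F] (Fin m ⊕ Fin m → F))) = m ∧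
        (∀ w ∈ M.map (T : (Fin n → F) →ₗ[F] (Fin m ⊕ Fin m → F)), Cfsg.quadFormPlus m F w = 0) ∧
        W' ≤ M.map (T : (Fin n → F) →ₗ[F] (Fin m ⊕ Fin m → F)))
      rw [LinearEquiv.finrank_map_eq, hW', Submodule.map_le_map_iff_of_injective T.injective]
      constructor
      · rintro ⟨h1, h2, h3⟩
        refine ⟨h1, ?_, h3⟩
        rintro _ ⟨x, hx, rfl⟩
        show Cfsg.quadFormPlus m F (T x) = 0
        rw [hT, h2 x hx]
      · rintro ⟨h1, h2, h3⟩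
        refine ⟨h1, ?_, h3⟩
        intro x hx
        rw [← hT]
        exact h2 _ ⟨x, hx, rfl⟩)
  rw [← Nat.card_congr e, Nat.card_eq_two_iff] at hcard
  obtain ⟨M₁, M₂, hne, huniv⟩ := hcard
  refine ⟨M₁.1, M₂.1, fun h => hne (Subtype.ext h), M₁.2, M₂.2, ?_⟩
  intro M hM
  have : (⟨M, hM⟩ : {M : Submodule F (Fin n → F) // finrank F M = m ∧ (∀ w ∈ M, Q w = 0) ∧ W ≤ M})
      ∈ ({M₁, M₂} : Set _) := by rw [huniv]; trivial
  rcases this with h | h
  · left; exact congrArg Subtype.val h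
  · right; exact congrArg Subtype.val h

end Cfsg.Agent.Lib.helper6.Plus
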