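import Mathlib
import Cfsg.Agent.Lib.helper6.PlusFam
import Cfsg.Agent.Lib.Helper28.OEven

set_option autoImplicit false

namespace Cfsg.Agent.Lib.helper6.Plus

open Module Cfsg Matrix

variable {F : Type*} [Field F] {n : ℕ}

/-- image of a subspace under a GL element -/
noncomputable def gmap (g : Matrix.GeneralLinearGroup (Fin n) F) (X : Submodule F (Fin n → F)) :
    Submodule F (Fin n → F) := X.map (Matrix.toLin' (g : Matrix (Fin n) (Fin n) F))

theorem mem_gmap (g : Matrix.GeneralLinearGroup (Fin n) F) (X : Submodule F (Fin n → F))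
    (y : Fin n → F) :
    y ∈ gmap g X ↔ ∃ x ∈ X, (g : Matrix (Fin n) (Fin n) F) *ᵥ x = y := by
  unfold gmap
  rw [Submodule.mem_map]
  simp only [Matrix.toLin'_apply]

theorem gmap_mul (g h : Matrix.GeneralLinearGroup (Fin n) F) (X : Submodule F (Fin n → F)) :
    gmap (g * h) X = gmap g (gmap h X) := by
  unfold gmap
  rw [Units.val_mul, Matrix.toLin'_mul, Submodule.map_comp]

theorem toLin'_inj (g : Matrix.GeneralLinearGroup (Fin n) F) :
    Function.Injective (Matrix.toLin' (g : Matrix (Fin n) (Fin n) F)) := by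
  intro x y h
  have := congrArg (Matrix.toLin' ((g⁻¹ : Matrix.GeneralLinearGroup (Fin n) F) :
    Matrix (Fin n) (Fin n) F)) h
  rw [← LinearMap.comp_apply, ← LinearMap.comp_apply, ← Matrix.toLin'_mul, ← Units.val_mul,
    inv_mul_cancel, Units.val_one, Matrix.toLin'_one] at this
  exact this

theorem finrank_gmap (g : Matrix.GeneralLinearGroup (Fin n) F) (X : Submodule F (Fin n → F)) :
    finrank F (gmap g X) = finrank F X :=
  (LinearEquiv.finrank_eq (Submodule.equivMapOfInjective _ (toLin'_inj g) X)).symm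

theorem gmap_inf (g : Matrix.GeneralLinearGroup (Fin n) F) (X Y : Submodule F (Fin n → F)) :
    gmap g (X ⊓ Y) = gmap g X ⊓ gmap g Y :=
  Submodule.map_inf _ (toLin'_inj g)

theorem mem_iso' (Q : QuadraticForm F (Fin n → F)) (g : Matrix.GeneralLinearGroup (Fin n) F) :
    g ∈ Cfsg.isometryGroup F ⇑Q ↔ ∀ v, Q ((g : Matrix (Fin n) (Fin n) F) *ᵥ v) = Q v := by
  constructor
  · intro h v
    exact h v v
  · intro h u _
    exact h u

theorem ts_gmap (Q : QuadraticForm F (Fin n → F)) (g : ↥(Cfsg.isometryGroup F ⇑Q))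
    (X : Submodule F (Fin n → F)) (hX : ∀ w ∈ X, Q w = 0) :
    ∀ w ∈ gmap (g : Matrix.GeneralLinearGroup (Fin n) F) X, Q w = 0 := by
  intro w hw
  rw [mem_gmap] at hw
  obtain ⟨x, hx, rfl⟩ := hw
  rw [(mem_iso' Q _).mp g.2 x, hX x hx]

/-- the parity homomorphism -/
theorem omega_parity (Q : QuadraticForm F (Fin n → F))
    (hQ : (QuadraticMap.polarBilin Q).Nondegenerate) (m : ℕ) (hn : n = 2 * m) (hm : 1 ≤ m)
    (M₀ : Submodule F (Fin n → F)) (hM₀ : finrank F M₀ = m ∧ ∀ u ∈ M₀, Q u = 0)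
    (g : Matrix.GeneralLinearGroup (Fin n) F) (hg : g ∈ Cfsg.Geo.omegaGL ⇑Q) :
    Even (m - finrank F ↥(M₀ ⊓ gmap g M₀)) := by
  let d : ↥(Cfsg.isometryGroup F ⇑Q) → Multiplicative (ZMod 2) := fun g =>
    Multiplicative.ofAdd (((m - finrank F ↥(M₀ ⊓ gmap (g : Matrix.GeneralLinearGroup (Fin n) F) M₀) : ℕ)
      : ZMod 2))
  have hgood : ∀ g : ↥(Cfsg.isometryGroup F ⇑Q),
      finrank F (gmap (g : Matrix.GeneralLinearGroup (Fin n) F) M₀) = m ∧
      ∀ w ∈ gmap (g : Matrix.GeneralLinearGroup (Fin n) F) M₀, Q w = 0 :=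
    fun g => ⟨by rw [finrank_gmap, hM₀.1], ts_gmap Q g M₀ hM₀.2⟩
  have hmul : ∀ a b : ↥(Cfsg.isometryGroup F ⇑Q), d (a * b) = d a * d b := by
    intro a b
    have h1 := parity_general Q hQ m hn hm M₀ hM₀ M₀
      (gmap (a : Matrix.GeneralLinearGroup (Fin n) F) M₀)
      (gmap ((a * b : ↥(Cfsg.isometryGroup F ⇑Q)) : Matrix.GeneralLinearGroup (Fin n) F) M₀)
      hM₀ (hgood a) (hgood (a * b))
    have h2 : finrank F ↥(gmap (a : Matrix.GeneralLinearGroup (Fin n) F) M₀ ⊓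
        gmap ((a * b : ↥(Cfsg.isometryGroup F ⇑Q)) : Matrix.GeneralLinearGroup (Fin n) F) M₀)
        = finrank F ↥(M₀ ⊓ gmap (b : Matrix.GeneralLinearGroup (Fin n) F) M₀) := by
      rw [Subgroup.coe_mul, gmap_mul, ← gmap_inf, finrank_gmap]
    rw [h2] at h1
    rw [← ZMod.natCast_eq_zero_iff_even] at h1
    push_cast at h1
    show Multiplicative.ofAdd _ = Multiplicative.ofAdd _ * Multiplicative.ofAdd _
    rw [← ofAdd_add]
    congr 1
    have h3 : ∀ x y z : ZMod 2, x + y + z = 0 → z = x + y := by decide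
    exact h3 _ _ _ h1
  let f : ↥(Cfsg.isometryGroup F ⇑Q) →* Multiplicative (ZMod 2) := MonoidHom.mk' d hmul
  rw [Cfsg.Agent.Lib.Helper28.OMaxQ.mem_omegaGL_iff] at hg
  obtain ⟨g', hg', rfl⟩ := hg
  have hker := Abelianization.commutator_subset_ker f hg'
  rw [MonoidHom.mem_ker] at hker
  have h4 : d g' = 1 := hker
  have h5 : (((m - finrank F ↥(M₀ ⊓ gmap (g' : Matrix.GeneralLinearGroup (Fin n) F) M₀) : ℕ)
      : ZMod 2)) = 0 := by
    have := congrArg Multiplicative.toAdd h4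
    simpa [d] using this
  exact ZMod.natCast_eq_zero_iff_even.mp h5

end Cfsg.Agent.Lib.helper6.Plus
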