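import Mathlib
import Cfsg.Agent.Lib.helper6.PlusOmega

set_option autoImplicit false

namespace Cfsg.Agent.Lib.helper6.Plus

open Module Cfsg Matrix
open Cfsg.Agent.Lib.Helper28.OBundle Cfsg.Agent.Lib.Helper28.OEven Cfsg.Agent.Lib.Helper28.OQ
  Cfsg.Agent.Lib.Helper28.OGenQ Cfsg.Agent.Lib.Helper28.OMaxQ Cfsg.Agent.S0794 Cfsg.Agent.S0795

variable {F : Type*} [Field F] {n : ℕ}

theorem mem_stab_of_forall (g : Matrix.GeneralLinearGroup (Fin n) F) (X : Submodule F (Fin n → F))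
    (h : ∀ x ∈ X, (g : Matrix (Fin n) (Fin n) F) *ᵥ x ∈ X) :
    g ∈ Cfsg.Geo.subspaceStabilizer X := by
  have hle : gmap g X ≤ X := by
    intro y hy
    rw [mem_gmap] at hy
    obtain ⟨x, hx, rfl⟩ := hy
    exact h x hx
  have heq : gmap g X = X := Submodule.eq_of_le_of_finrank_eq hle (finrank_gmap g X)
  intro v
  constructor
  · intro hv; exact h v hv
  · intro hv
    have hv' : (g : Matrix (Fin n) (Fin n) F) *ᵥ v ∈ gmap g X := by rw [heq]; exact hv
    rw [mem_gmap] at hv'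
    obtain ⟨x, hx, hxv⟩ := hv'
    have : x = v := toLin'_inj g (by simpa [Matrix.toLin'_apply] using hxv)
    rw [← this]; exact hx

theorem gmap_eq_of_mem_stab (g : Matrix.GeneralLinearGroup (Fin n) F) (X : Submodule F (Fin n → F))
    (h : g ∈ Cfsg.Geo.subspaceStabilizer X) : gmap g X = X := by
  apply Submodule.eq_of_le_of_finrank_eq _ (finrank_gmap g X)
  intro y hy
  rw [mem_gmap] at hy
  obtain ⟨x, hx, rfl⟩ := hy
  exact (h x).mp hx

theorem mem_stab_of_gmap_eq (g : Matrix.GeneralLinearGroup (Fin n) F) (X : Submodule F (Fin n → F))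
    (h : gmap g X = X) : g ∈ Cfsg.Geo.subspaceStabilizer X := by
  apply mem_stab_of_forall
  intro x hx
  rw [← h, mem_gmap]
  exact ⟨x, hx, rfl⟩

theorem gmap_mono (g : Matrix.GeneralLinearGroup (Fin n) F) {X Y : Submodule F (Fin n → F)}
    (h : X ≤ Y) : gmap g X ≤ gmap g Y := Submodule.map_mono h

theorem s5686 [Fintype F] (hn : 13 ≤ n) (heven : Even n) (Q : (Fin n → F) → F)
    (hQ : Cfsg.Geo.IsNondegenerateQuadraticForm Q) (hplus : Cfsg.Geo.IsPlusTypeOn Q ⊤)
    (W : Submodule F (Fin n → F)) (hW : Cfsg.Geo.IsTotallySingularQuad Q W)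
    (hdim : 2 * (Module.finrank F W + 1) = n) :
    ∃ K : Subgroup (Matrix.GeneralLinearGroup (Fin n) F),
      Cfsg.Geo.subspaceStabilizer W ⊓ Cfsg.Geo.omegaGL Q < K ∧ K < Cfsg.Geo.omegaGL Q := by
  classical
  obtain ⟨m, hm⟩ : ∃ m, m = finrank F W + 1 := ⟨_, rfl⟩
  have hnm : n = 2 * m := by omega
  have hm7 : 7 ≤ m := by omega
  set Qf := bundle Q hQ with hQf
  have hQn := bundle_nondeg Q hQ
  have hq := qf_unb Q hQ
  obtain ⟨U, -, hUts, hUdim⟩ := hplus
  have hUm : finrank F U = m := by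
    rw [finrank_top, finrank_Vn] at hUdim; omega
  obtain ⟨M₁, M₂, hne, hM₁, hM₂, huniq⟩ := two_general Qf hQn m hnm (by omega) U ⟨hUm, hUts⟩ W
    ⟨by omega, hW⟩
  have hWM₁ : W < M₁ := by
    apply lt_of_le_of_ne hM₁.2.2
    intro h
    rw [← h] at hM₁
    omega
  -- K
  refine ⟨Cfsg.Geo.subspaceStabilizer M₁ ⊓ Cfsg.Geo.omegaGL Q, ?_, ?_⟩
  · -- strict containment
    have hle : Cfsg.Geo.subspaceStabilizer W ⊓ Cfsg.Geo.omegaGL Q
        ≤ Cfsg.Geo.subspaceStabilizer M₁ ⊓ Cfsg.Geo.omegaGL Q := by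
      intro g hg
      obtain ⟨hgW, hgΩ⟩ := Subgroup.mem_inf.mp hg
      refine Subgroup.mem_inf.mpr ⟨?_, hgΩ⟩
      have hgΩ' : g ∈ Cfsg.Geo.omegaGL ⇑Qf := hgΩ
      rw [mem_omegaGL_iff] at hgΩ'
      obtain ⟨g', -, hg'⟩ := hgΩ'
      have hgood : finrank F (gmap g M₁) = m ∧ (∀ w ∈ gmap g M₁, Qf w = 0) ∧ W ≤ gmap g M₁ := by
        refine ⟨by rw [finrank_gmap, hM₁.1], ?_, ?_⟩
        · rw [← hg']; exact ts_gmap Qf g' M₁ hM₁.2.1
        · rw [← gmap_eq_of_mem_stab g W hgW]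
          exact gmap_mono g hM₁.2.2
      rcases huniq _ hgood with h | h
      · exact mem_stab_of_gmap_eq g M₁ h
      · exfalso
        have hpar := omega_parity Qf hQn m hnm (by omega) M₁ ⟨hM₁.1, hM₁.2.1⟩ g hgΩ
        rw [h] at hpar
        have h1 : finrank F ↥(M₁ ⊓ M₂) < m := by
          rw [← hM₁.1]
          apply Submodule.finrank_lt_finrank_of_lt
          apply lt_of_le_of_ne inf_le_left
          intro h2
          apply hne
          have h3 : M₁ ≤ M₂ := by rw [← h2]; exact inf_le_right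
          exact Submodule.eq_of_le_of_finrank_eq h3 (by rw [hM₁.1, hM₂.1])
        have h2 : finrank F W ≤ finrank F ↥(M₁ ⊓ M₂) :=
          Submodule.finrank_mono (le_inf hM₁.2.2 hM₂.2.2)
        have h3 : m - finrank F ↥(M₁ ⊓ M₂) = 1 := by omega
        rw [h3] at hpar
        exact absurd hpar (by decide)
    apply lt_of_le_of_ne hle
    intro heq
    -- a Siegel element in K outside the stabiliser of W
    have hW0 : W ≠ ⊥ := by
      intro h
      rw [h, finrank_bot] at hm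
      omega
    obtain ⟨x₀, hx₀W, hx₀⟩ := Submodule.exists_mem_ne_zero_of_ne_bot hW0
    obtain ⟨u₀, hu₀M, hu₀W⟩ := SetLike.exists_of_lt hWM₁
    have hu₀span : u₀ ∉ Submodule.span F {x₀} := by
      intro h
      apply hu₀W
      exact (Submodule.span_singleton_le_iff_mem x₀ W).mpr hx₀W h
    have hti : ∀ x ∈ M₁, ∀ y ∈ M₁, QuadraticMap.polar (⇑Qf) x y = 0 := ts_ti hq M₁ hM₁.2.1
    have hx₀M : x₀ ∈ M₁ := hM₁.2.2 hx₀W
    obtain ⟨v, hv, hvu, hvx⟩ := perp_partner_q hq u₀ x₀ hx₀ hu₀span (hW x₀ hx₀W)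
      (hti x₀ hx₀M u₀ hu₀M)
    have hu₀Q : Qf u₀ = 0 := hM₁.2.1 u₀ hu₀M
    have hvQ : Qf v = 0 := hv
    have huv : QuadraticMap.polar (⇑Qf) u₀ v = 0 := by
      rw [QuadraticMap.polar_comm]; exact hvu
    set t := siegelElt Qf u₀ v hu₀Q hvQ huv 1 with ht
    have htact : ∀ x, ((t : Matrix.GeneralLinearGroup (Fin n) F) : Matrix (Fin n) (Fin n) F) *ᵥ x
        = x + (1 : F) • (QuadraticMap.polar (⇑Qf) u₀ x • v - QuadraticMap.polar (⇑Qf) v x • u₀) := by
      intro x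
      rw [ht, siegelElt_coe, Cfsg.Agent.Lib.helper6.siegelMatrix_mulVec]
    have htΩ : (t : Matrix.GeneralLinearGroup (Fin n) F) ∈ Cfsg.Geo.omegaGL Q := by
      have := sg_mem_q Qf hQn (vfacts_quad (by omega) Qf hQn)
        (t : Matrix.GeneralLinearGroup (Fin n) F) u₀ v 1 hu₀Q hvQ huv
        (isSg_of_matrix Qf _ u₀ v 1 rfl)
      exact this
    have htM : (t : Matrix.GeneralLinearGroup (Fin n) F) ∈ Cfsg.Geo.subspaceStabilizer M₁ := by
      apply mem_stab_of_forall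
      intro x hx
      rw [htact, hti u₀ hu₀M x hx, zero_smul, zero_sub, one_smul]
      exact M₁.add_mem hx (M₁.neg_mem (M₁.smul_mem _ hu₀M))
    have htK : (t : Matrix.GeneralLinearGroup (Fin n) F) ∈
        Cfsg.Geo.subspaceStabilizer M₁ ⊓ Cfsg.Geo.omegaGL Q := Subgroup.mem_inf.mpr ⟨htM, htΩ⟩
    rw [← heq] at htK
    have htW : ((t : Matrix.GeneralLinearGroup (Fin n) F) : Matrix (Fin n) (Fin n) F) *ᵥ x₀ ∈ W :=
      ((Subgroup.mem_inf.mp htK).1 x₀).mp hx₀W
    rw [htact, hti u₀ hu₀M x₀ hx₀M, zero_smul, zero_sub, one_smul] at htW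
    have hvx' : QuadraticMap.polar (⇑Qf) v x₀ = 1 := hvx
    rw [hvx', one_smul] at htW
    apply hu₀W
    have := W.sub_mem hx₀W htW
    simpa using this
  · -- K < Ω
    have hmax := ts_max_unb (by omega) Q hQ M₁ (by
      intro h
      have := hM₁.1
      rw [h, finrank_bot] at this
      omega) hM₁.2.1 (Or.inr (Or.inr (by
      intro z hz hzM
      by_contra hzn
      obtain ⟨X, -, hXts, hXdim⟩ := ts_ext Q hQ M₁ hM₁.2.1 z hz hzM hzn
      have := ts_dim Q hQ X hXts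
      rw [hXdim, hM₁.1] at this
      omega)))
    exact hmax.1

theorem s5698 [Fintype F] (hn : 13 ≤ n) (heven : Even n) (Q : (Fin n → F) → F)
    (hQ : Cfsg.Geo.IsNondegenerateQuadraticForm Q) (hplus : Cfsg.Geo.IsPlusTypeOn Q ⊤)
    (k : ℕ) (hk : 2 * k = n) (hko : Odd k) (D : Fin 2 → Submodule F (Fin n → F))
    (hD : Cfsg.Geo.IsMDecomposition k D) (hts : ∀ i, Cfsg.Geo.IsTotallySingularQuad Q (D i)) :
    ∃ K : Subgroup (Matrix.GeneralLinearGroup (Fin n) F),
      Cfsg.Geo.decompositionStabilizer D ⊓ Cfsg.Geo.omegaGL Q < K ∧ K < Cfsg.Geo.omegaGL Q := by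
  classical
  have hk7 : 7 ≤ k := by omega
  set Qf := bundle Q hQ with hQf
  have hQn := bundle_nondeg Q hQ
  have hq := qf_unb Q hQ
  have hdisj : D 0 ⊓ D 1 = ⊥ := by
    have := hD.indep.pairwiseDisjoint (show (0 : Fin 2) ≠ 1 by decide)
    exact disjoint_iff.mp this
  have hsup : D 0 ⊔ D 1 = ⊤ := by
    have := hD.iSup_eq_top
    rw [← this]
    apply le_antisymm
    · exact sup_le (le_iSup D 0) (le_iSup D 1)
    · apply iSup_le
      intro i
      fin_cases i
      · exact le_sup_left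
      · exact le_sup_right
  have hD0 : finrank F (D 0) = k ∧ ∀ u ∈ D 0, Qf u = 0 := ⟨hD.finrank_eq 0, hts 0⟩
  have hti : ∀ x ∈ D 0, ∀ y ∈ D 0, QuadraticMap.polar (⇑Qf) x y = 0 := ts_ti hq (D 0) (hts 0)
  have hD01 : D 0 ≠ D 1 := by
    intro h
    rw [← h, inf_idem] at hdisj
    have := hD.finrank_eq 0
    rw [hdisj, finrank_bot] at this
    omega
  refine ⟨Cfsg.Geo.subspaceStabilizer (D 0) ⊓ Cfsg.Geo.omegaGL Q, ?_, ?_⟩
  · have hle : Cfsg.Geo.decompositionStabilizer D ⊓ Cfsg.Geo.omegaGL Q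
        ≤ Cfsg.Geo.subspaceStabilizer (D 0) ⊓ Cfsg.Geo.omegaGL Q := by
      intro g hg
      obtain ⟨hgD, hgΩ⟩ := Subgroup.mem_inf.mp hg
      refine Subgroup.mem_inf.mpr ⟨?_, hgΩ⟩
      obtain ⟨σ, hσ⟩ := hgD
      have h0 : gmap g (D 0) = D (σ 0) := hσ 0
      by_cases hσ0 : σ 0 = 0
      · rw [hσ0] at h0
        exact mem_stab_of_gmap_eq g (D 0) h0
      · exfalso
        have hσ1 : σ 0 = 1 := by
          have : ∀ j : Fin 2, j ≠ 0 → j = 1 := by decide
          exact this _ hσ0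
        rw [hσ1] at h0
        have hpar := omega_parity Qf hQn k hk.symm (by omega) (D 0) hD0 g hgΩ
        rw [h0, hdisj, finrank_bot, Nat.sub_zero] at hpar
        exact (Nat.not_even_iff_odd.mpr hko) hpar
    apply lt_of_le_of_ne hle
    intro heq
    -- a Siegel element fixing D 0 pointwise
    have hD0ne : D 0 ≠ ⊥ := by
      intro h
      have := hD.finrank_eq 0
      rw [h, finrank_bot] at this
      omega
    obtain ⟨u, huD, hu0⟩ := Submodule.exists_mem_ne_zero_of_ne_bot hD0ne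
    have hspan_lt : Submodule.span F {u} < D 0 := by
      apply lt_of_le_of_ne ((Submodule.span_singleton_le_iff_mem u (D 0)).mpr huD)
      intro h
      have h1 := hD.finrank_eq 0
      rw [← h, finrank_span_singleton hu0] at h1
      omega
    obtain ⟨v, hvD, hvspan⟩ := SetLike.exists_of_lt hspan_lt
    have huQ : Qf u = 0 := hts 0 u huD
    have hvQ : Qf v = 0 := hts 0 v hvD
    have huv : QuadraticMap.polar (⇑Qf) u v = 0 := hti u huD v hvD
    set t := siegelElt Qf u v huQ hvQ huv 1 with ht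
    have htact : ∀ x, ((t : Matrix.GeneralLinearGroup (Fin n) F) : Matrix (Fin n) (Fin n) F) *ᵥ x
        = x + (1 : F) • (QuadraticMap.polar (⇑Qf) u x • v - QuadraticMap.polar (⇑Qf) v x • u) := by
      intro x
      rw [ht, siegelElt_coe, Cfsg.Agent.Lib.helper6.siegelMatrix_mulVec]
    have htΩ : (t : Matrix.GeneralLinearGroup (Fin n) F) ∈ Cfsg.Geo.omegaGL Q := by
      have := sg_mem_q Qf hQn (vfacts_quad (by omega) Qf hQn)
        (t : Matrix.GeneralLinearGroup (Fin n) F) u v 1 huQ hvQ huv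
        (isSg_of_matrix Qf _ u v 1 rfl)
      exact this
    have htfix : ∀ x ∈ D 0,
        ((t : Matrix.GeneralLinearGroup (Fin n) F) : Matrix (Fin n) (Fin n) F) *ᵥ x = x := by
      intro x hx
      rw [htact, hti u huD x hx, hti v hvD x hx]
      simp
    have htM : (t : Matrix.GeneralLinearGroup (Fin n) F) ∈ Cfsg.Geo.subspaceStabilizer (D 0) := by
      apply mem_stab_of_forall
      intro x hx
      rw [htfix x hx]; exact hx
    have htK : (t : Matrix.GeneralLinearGroup (Fin n) F) ∈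
        Cfsg.Geo.subspaceStabilizer (D 0) ⊓ Cfsg.Geo.omegaGL Q := Subgroup.mem_inf.mpr ⟨htM, htΩ⟩
    rw [← heq] at htK
    obtain ⟨σ, hσ⟩ := (Subgroup.mem_inf.mp htK).1
    have h0 : gmap (t : Matrix.GeneralLinearGroup (Fin n) F) (D 0) = D (σ 0) := hσ 0
    have h1 : gmap (t : Matrix.GeneralLinearGroup (Fin n) F) (D 1) = D (σ 1) := hσ 1
    rw [gmap_eq_of_mem_stab _ _ htM] at h0
    have hσ0 : σ 0 = 0 := by
      by_contra hne
      have hσ1 : σ 0 = 1 := by
        have : ∀ j : Fin 2, j ≠ 0 → j = 1 := by decide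
        exact this _ hne
      rw [hσ1] at h0
      exact hD01 h0
    have hσ1 : σ 1 = 1 := by
      by_contra hne
      have h2 : σ 1 = 0 := by
        have : ∀ j : Fin 2, j ≠ 1 → j = 0 := by decide
        exact this _ hne
      have := σ.injective (h2.trans hσ0.symm)
      exact absurd this (by decide)
    rw [hσ1] at h1
    -- find x ∈ D 1 with polar u x ≠ 0
    have hex : ∃ x ∈ D 1, QuadraticMap.polar (⇑Qf) u x ≠ 0 := by
      by_contra hcon
      push Not at hcon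
      apply hu0
      by_contra hu0'
      obtain ⟨-, y, hy⟩ := hQ.nondegenerate u hu0'
      apply hy
      have hy' : y ∈ D 0 ⊔ D 1 := by rw [hsup]; trivial
      obtain ⟨y₀, hy₀, y₁, hy₁, rfl⟩ := Submodule.mem_sup.mp hy'
      have e1 : QuadraticMap.polar (⇑Qf) u (y₀ + y₁)
          = QuadraticMap.polar (⇑Qf) u y₀ + QuadraticMap.polar (⇑Qf) u y₁ :=
        QuadraticMap.polar_add_right _ _ _ _
      have e2 : QuadraticMap.polar Q u (y₀ + y₁) = QuadraticMap.polar (⇑Qf) u (y₀ + y₁) := rfl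
      rw [e2, e1, hti u huD y₀ hy₀, hcon y₁ hy₁, add_zero]
    obtain ⟨x, hxD, hux⟩ := hex
    have htx : ((t : Matrix.GeneralLinearGroup (Fin n) F) : Matrix (Fin n) (Fin n) F) *ᵥ x ∈ D 1 := by
      rw [← h1, mem_gmap]
      exact ⟨x, hxD, rfl⟩
    rw [htact, one_smul] at htx
    have hd1 : QuadraticMap.polar (⇑Qf) u x • v - QuadraticMap.polar (⇑Qf) v x • u ∈ D 1 := by
      have := (D 1).sub_mem htx hxD
      simpa using this
    have hd0 : QuadraticMap.polar (⇑Qf) u x • v - QuadraticMap.polar (⇑Qf) v x • u ∈ D 0 :=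
      (D 0).sub_mem ((D 0).smul_mem _ hvD) ((D 0).smul_mem _ huD)
    have hd : QuadraticMap.polar (⇑Qf) u x • v - QuadraticMap.polar (⇑Qf) v x • u ∈ D 0 ⊓ D 1 :=
      ⟨hd0, hd1⟩
    rw [hdisj, Submodule.mem_bot, sub_eq_zero] at hd
    apply hvspan
    rw [Submodule.mem_span_singleton]
    refine ⟨(QuadraticMap.polar (⇑Qf) u x)⁻¹ * QuadraticMap.polar (⇑Qf) v x, ?_⟩
    rw [mul_smul, ← hd, smul_smul, inv_mul_cancel₀ hux, one_smul]
  · have hmax := ts_max_unb (by omega) Q hQ (D 0) (by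
      intro h
      have := hD.finrank_eq 0
      rw [h, finrank_bot] at this
      omega) (hts 0) (Or.inr (Or.inr (by
      intro z hz hzM
      by_contra hzn
      obtain ⟨X, -, hXts, hXdim⟩ := ts_ext Q hQ (D 0) (hts 0) z hz hzM hzn
      have := ts_dim Q hQ X hXts
      rw [hXdim, hD.finrank_eq 0] at this
      omega)))
    exact hmax.1

end Cfsg.Agent.Lib.helper6.Plus
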