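import Mathlib
import Cfsg.Prelude.Def_GeometricClasses
import Cfsg.Agent.Lib.helper6.Symp

/-!
# SPX P2-U3, part (A) : a field `K` of degree 2 over `F_3`, closed under adjoints and not self-adjoint, is `F + F ω` with
`ω ^ 2 = -1` and adjoint `-ω`.
-/

set_option autoImplicit false
set_option linter.unusedVariables false
set_option linter.unusedSectionVars false

namespace Cfsg.Agent.Lib.helper6.SPX

open Cfsg Cfsg.Geo
open scoped MatrixGroups Matrix

variable {m : ℕ} {F : Type*} [Field F]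

/-- adjoints for `sympForm`, in matrix terms -/
theorem spxu3n_adj_iff (k k' : Matrix (Fin m ⊕ Fin m) (Fin m ⊕ Fin m) F) :
    (∀ u v : Fin m ⊕ Fin m → F, sympForm m F (k *ᵥ u) v = sympForm m F u (k' *ᵥ v)) ↔
      kᵀ * Matrix.J (Fin m) F = Matrix.J (Fin m) F * k' := by
  have key : ∀ u v : Fin m ⊕ Fin m → F, sympForm m F (k *ᵥ u) v = u ⬝ᵥ ((kᵀ * Matrix.J (Fin m) F) *ᵥ v) := by
    intro u v
    unfold sympForm
    rw [← Matrix.mulVec_mulVec, Matrix.dotProduct_mulVec u kᵀ, Matrix.vecMul_transpose]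
  have key2 : ∀ u v : Fin m ⊕ Fin m → F, sympForm m F u (k' *ᵥ v) = u ⬝ᵥ ((Matrix.J (Fin m) F * k') *ᵥ v) := by
    intro u v
    unfold sympForm
    rw [← Matrix.mulVec_mulVec]
  constructor
  · intro h
    ext i j
    have := h (Pi.single i 1) (Pi.single j 1)
    rw [key, key2] at this
    simpa using this
  · intro h u v
    rw [key, key2, h]

/-- the elements of a field with three elements -/
theorem spxu3n_three [Fintype F] (hq : Fintype.card F = 3) : (3 : F) = 0 ∧ ∀ x : F, x = 0 ∨ x = 1 ∨ x = -1 := by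
  classical
  have h3 : (3 : F) = 0 := by
    have := Nat.cast_card_eq_zero F
    rw [hq] at this
    exact_mod_cast this
  refine ⟨h3, ?_⟩
  have h2 : (2 : F) ≠ 0 := by
    intro h
    have : (1 : F) = 0 := by linear_combination h3 - h
    exact one_ne_zero this
  have hne : (1 : F) ≠ -1 := by
    intro h
    apply h2
    linear_combination h
  have hs : ({0, 1, -1} : Finset F) = Finset.univ := by
    apply Finset.eq_univ_of_card
    rw [hq, Finset.card_insert_of_notMem, Finset.card_insert_of_notMem, Finset.card_singleton]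
    · simpa using hne
    · simp only [Finset.mem_insert, Finset.mem_singleton, not_or]
      exact ⟨zero_ne_one, by intro h; exact one_ne_zero (neg_eq_zero.mp h.symm)⟩
  intro x
  have := Finset.mem_univ x
  rw [← hs] at this
  simpa using this

/-- part (A) : the normal form of the field `K` -/
theorem spxu3n_omega [Fintype F] (hq : Fintype.card F = 3)
    (K : Subalgebra F (Matrix (Fin m ⊕ Fin m) (Fin m ⊕ Fin m) F)) (hK : IsFieldSubalgebra 2 K)
    (hac : IsAdjointClosedFor (sympForm m F) K) (hnsa : ¬ IsSelfAdjointFor (sympForm m F) K) :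
    ∃ ω ∈ K, ω * ω = -1 ∧ ωᵀ * Matrix.J (Fin m) F = -(Matrix.J (Fin m) F * ω) ∧
      ∀ k, k ∈ K ↔ ∃ a b : F, k = a • (1 : Matrix (Fin m ⊕ Fin m) (Fin m ⊕ Fin m) F) + b • ω := by
  classical
  obtain ⟨h3, hF⟩ := spxu3n_three hq
  have hfr : Module.finrank F (Subalgebra.toSubmodule K) = 2 := by
    rw [Subalgebra.finrank_toSubmodule]; exact hK.finrank_eq
  -- a non-scalar element
  have h1 : ∃ k ∈ K, ∀ a : F, k ≠ a • (1 : Matrix (Fin m ⊕ Fin m) (Fin m ⊕ Fin m) F) := by
    by_contra hcon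
    push Not at hcon
    have hle : Subalgebra.toSubmodule K ≤ Submodule.span F {(1 : Matrix (Fin m ⊕ Fin m) (Fin m ⊕ Fin m) F)} := by
      intro x hx
      obtain ⟨a, ha⟩ := hcon x hx
      rw [ha]
      exact Submodule.smul_mem _ _ (Submodule.subset_span rfl)
    have := Submodule.finrank_mono hle
    have h1 := finrank_span_le_card (R := F) ({(1 : Matrix (Fin m ⊕ Fin m) (Fin m ⊕ Fin m) F)} : Set _)
    rw [Set.toFinset_singleton, Finset.card_singleton] at h1
    omega
  obtain ⟨k, hkK, hk⟩ := h1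
  -- `1, k` span `K`
  have hli : LinearIndependent F ![(1 : Matrix (Fin m ⊕ Fin m) (Fin m ⊕ Fin m) F), k] := by
    rw [LinearIndependent.pair_iff]
    intro s t hst
    by_cases ht : t = 0
    · subst ht
      rw [zero_smul, add_zero] at hst
      have h10 : (1 : Matrix (Fin m ⊕ Fin m) (Fin m ⊕ Fin m) F) ≠ 0 := by
        intro h
        exact hk 0 (by rw [zero_smul]; rw [← mul_one k, h, mul_zero])
      exact ⟨(smul_eq_zero.mp hst).resolve_right h10, rfl⟩
    · exfalso
      apply hk (-(t⁻¹ * s))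
      have : t • k = -(s • (1 : Matrix (Fin m ⊕ Fin m) (Fin m ⊕ Fin m) F)) := by
        rw [eq_neg_iff_add_eq_zero, add_comm]; exact hst
      calc k = t⁻¹ • (t • k) := by rw [smul_smul, inv_mul_cancel₀ ht, one_smul]
        _ = (-(t⁻¹ * s)) • (1 : Matrix (Fin m ⊕ Fin m) (Fin m ⊕ Fin m) F) := by
            rw [this, smul_neg, smul_smul, neg_smul]
  have hspan : Submodule.span F (Set.range ![(1 : Matrix (Fin m ⊕ Fin m) (Fin m ⊕ Fin m) F), k]) =
      Subalgebra.toSubmodule K := by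
    apply Submodule.eq_of_le_of_finrank_eq
    · rw [Submodule.span_le]
      rintro x ⟨i, rfl⟩
      fin_cases i
      · exact K.one_mem
      · exact hkK
    · rw [finrank_span_eq_card hli, hfr]
      rfl
  have hmem : ∀ x, x ∈ K ↔ ∃ a b : F, x = a • (1 : Matrix (Fin m ⊕ Fin m) (Fin m ⊕ Fin m) F) + b • k := by
    intro x
    rw [← Subalgebra.mem_toSubmodule, ← hspan, Matrix.range_cons, Matrix.range_cons, Matrix.range_empty,
      Set.union_empty, Set.singleton_union, Submodule.mem_span_pair]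
    constructor
    · rintro ⟨a, b, h⟩
      exact ⟨a, b, h.symm⟩
    · rintro ⟨a, b, h⟩
      exact ⟨a, b, h.symm⟩
  -- the square of `k`
  obtain ⟨a, b, hab⟩ := (hmem (k * k)).mp (K.mul_mem hkK hkK)
  obtain ⟨ω, hω⟩ : ∃ ω : Matrix (Fin m ⊕ Fin m) (Fin m ⊕ Fin m) F, ω = k + b • 1 := ⟨_, rfl⟩
  have hωK : ω ∈ K := by rw [hω]; exact K.add_mem hkK (K.smul_mem K.one_mem b)
  have hωns : ∀ c : F, ω ≠ c • (1 : Matrix (Fin m ⊕ Fin m) (Fin m ⊕ Fin m) F) := by
    intro c hc
    apply hk (c - b)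
    rw [sub_smul, ← hc, hω, add_sub_cancel_right]
  have hω0 : ω ≠ 0 := by
    intro h
    exact hωns 0 (by rw [zero_smul]; exact h)
  have hsq : ω * ω = (a + b ^ 2) • (1 : Matrix (Fin m ⊕ Fin m) (Fin m ⊕ Fin m) F) := by
    rw [hω, add_mul, mul_add, mul_add, hab, Matrix.smul_mul, Matrix.mul_smul, Matrix.smul_mul, Matrix.mul_smul,
      Matrix.one_mul, Matrix.mul_one, Matrix.mul_one, smul_smul, add_smul]
    have h3k : (3 : F) • (b • k) = 0 := by rw [h3, zero_smul]
    have : b • k + b • k + b • k = (3 : F) • (b • k) := by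
      rw [show (3 : F) = 1 + 1 + 1 by norm_num, add_smul, add_smul, one_smul]
    rw [pow_two]
    have e : a • (1 : Matrix (Fin m ⊕ Fin m) (Fin m ⊕ Fin m) F) + b • k + b • k + (b • k + (b * b) • 1) =
        a • (1 : Matrix (Fin m ⊕ Fin m) (Fin m ⊕ Fin m) F) + (b * b) • 1 + (b • k + b • k + b • k) := by abel
    rw [e, this, h3k, add_zero]
  have hd : a + b ^ 2 = -1 := by
    rcases hF (a + b ^ 2) with h | h | h
    · exfalso
      rw [h, zero_smul] at hsq
      obtain ⟨y, hy, hy1⟩ := hK.inv ω hωK hω0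
      apply hω0
      calc ω = ω * (ω * y) := by rw [hy1, mul_one]
        _ = 0 := by rw [← mul_assoc, hsq, zero_mul]
    · exfalso
      rw [h, one_smul] at hsq
      have hm1 : ω - 1 ≠ 0 := by
        intro h0
        exact hωns 1 (by rw [one_smul]; exact sub_eq_zero.mp h0)
      obtain ⟨y, hy, hy1⟩ := hK.inv (ω - 1) (K.sub_mem hωK K.one_mem) hm1
      have hy2 : y * (ω - 1) = 1 := by rw [← hK.comm _ (K.sub_mem hωK K.one_mem) _ hy]; exact hy1
      have hprod : (ω - 1) * (ω + 1) = 0 := by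
        rw [sub_mul, mul_add, mul_add, hsq, mul_one, one_mul, one_mul]; abel
      apply hωns (-1)
      have : ω + 1 = 0 := by
        calc ω + 1 = y * (ω - 1) * (ω + 1) := by rw [hy2, one_mul]
          _ = 0 := by rw [mul_assoc, hprod, mul_zero]
      rw [neg_smul, one_smul]
      exact eq_neg_of_add_eq_zero_left this
    · exact h
  rw [hd, neg_smul, one_smul] at hsq
  have hmemω : ∀ x, x ∈ K ↔ ∃ a b : F, x = a • (1 : Matrix (Fin m ⊕ Fin m) (Fin m ⊕ Fin m) F) + b • ω := by
    intro x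
    rw [hmem]
    constructor
    · rintro ⟨c, d, h⟩
      refine ⟨c - d * b, d, ?_⟩
      rw [h, hω, smul_add, smul_smul, sub_smul]; abel
    · rintro ⟨c, d, h⟩
      refine ⟨c + d * b, d, ?_⟩
      rw [h, hω, smul_add, smul_smul, add_smul]; abel
  -- the adjoint
  obtain ⟨ω', hω'K, hadj⟩ := hac ω hωK
  rw [spxu3n_adj_iff] at hadj
  have hJJ : Matrix.J (Fin m) F * Matrix.J (Fin m) F = -1 := Matrix.J_squared (Fin m) F
  have hsq' : ω' * ω' = -1 := by
    have e1 : Matrix.J (Fin m) F * (ω' * ω') = -Matrix.J (Fin m) F := by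
      calc Matrix.J (Fin m) F * (ω' * ω') = (Matrix.J (Fin m) F * ω') * ω' := by rw [mul_assoc]
        _ = ωᵀ * Matrix.J (Fin m) F * ω' := by rw [hadj]
        _ = ωᵀ * (ωᵀ * Matrix.J (Fin m) F) := by rw [mul_assoc, ← hadj]
        _ = (ω * ω)ᵀ * Matrix.J (Fin m) F := by rw [Matrix.transpose_mul, mul_assoc]
        _ = -Matrix.J (Fin m) F := by rw [hsq, Matrix.transpose_neg, Matrix.transpose_one, neg_mul, one_mul]
    calc ω' * ω' = -(Matrix.J (Fin m) F * Matrix.J (Fin m) F) * (ω' * ω') := by rw [hJJ, neg_neg, one_mul]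
      _ = -(Matrix.J (Fin m) F * (Matrix.J (Fin m) F * (ω' * ω'))) := by rw [neg_mul, mul_assoc]
      _ = -1 := by rw [e1, mul_neg, hJJ, neg_neg]
  have hcm : ω' * ω = ω * ω' := hK.comm ω' hω'K ω hωK
  have hprod : (ω' - ω) * (ω' + ω) = 0 := by
    rw [sub_mul, mul_add, mul_add, hsq', hsq, hcm]; abel
  have hcase : ω' = -ω := by
    by_cases hne : ω' - ω = 0
    · exfalso
      have heq : ω' = ω := sub_eq_zero.mp hne
      rw [heq] at hadj
      apply hnsa
      intro x hx
      obtain ⟨c, d, rfl⟩ := (hmemω x).mp hx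
      rw [spxu3n_adj_iff, Matrix.transpose_add, Matrix.transpose_smul, Matrix.transpose_smul, Matrix.transpose_one,
        add_mul, mul_add, Matrix.smul_mul, Matrix.smul_mul, Matrix.mul_smul, Matrix.mul_smul, hadj, one_mul, mul_one]
    · obtain ⟨y, hy, hy1⟩ := hK.inv (ω' - ω) (K.sub_mem hω'K hωK) hne
      have hy2 : y * (ω' - ω) = 1 := by rw [← hK.comm _ (K.sub_mem hω'K hωK) _ hy]; exact hy1
      have : ω' + ω = 0 := by
        calc ω' + ω = y * (ω' - ω) * (ω' + ω) := by rw [hy2, one_mul]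
          _ = 0 := by rw [mul_assoc, hprod, mul_zero]
      exact eq_neg_of_add_eq_zero_left this
  refine ⟨ω, hωK, hsq, ?_, hmemω⟩
  rw [hadj, hcase, mul_neg]

end Cfsg.Agent.Lib.helper6.SPX
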