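import Mathlib
import Cfsg.Agent.Lib.helper14.SubA
import Cfsg.Agent.Lib.helper6.SSCONJIRR
import Cfsg.Agent.Lib.Helper20.SSCONJMAT

/-! Project SFO = S5965 (leader helper8), row DIAG (helper6). -/

set_option autoImplicit false
set_option linter.unusedVariables false
set_option linter.unusedSectionVars false

namespace Cfsg.Agent.Lib.helper8.SFO

open Matrix Polynomial
open scoped MatrixGroups
open Cfsg.Agent.Lib.helper14

/-- a split monic polynomial of degree `n` is a product over `Fin n` of linear factors -/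
theorem sfodiag_prod_fin {F : Type*} [Field F] (f : F[X]) (hs : f.Splits) (hm : f.Monic) (n : ℕ) (hn : f.natDegree = n) :
    ∃ b : Fin n → F, f = ∏ i, (X - C (b i)) ∧ ∀ i, f.IsRoot (b i) := by
  classical
  set L := f.roots.toList with hL
  have hlen : L.length = n := by
    rw [hL, Multiset.length_toList, ← hs.natDegree_eq_card_roots, hn]
  refine ⟨fun i => L.get (Fin.cast hlen.symm i), ?_, ?_⟩
  · have h1 : f = (f.roots.map (fun a => X - C a)).prod := hs.eq_prod_roots_of_monic hm
    have h2 : (f.roots.map (fun a => X - C a)).prod = (L.map (fun a => X - C a)).prod := by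
      conv_lhs => rw [← Multiset.coe_toList f.roots]
      rw [Multiset.map_coe, Multiset.prod_coe]
    have h3 : (L.map (fun a => X - C a)).prod = ∏ i : Fin L.length, (X - C (L.get i)) := by
      rw [← List.prod_ofFn]
      congr 1
      apply List.ext_get
      · simp
      · intro k h1 h2
        simp
    have h4 : ∏ i : Fin L.length, (X - C (L.get i)) = ∏ i : Fin n, (X - C (L.get (Fin.cast hlen.symm i))) := by
      refine Fintype.prod_equiv (finCongr hlen) (fun i => X - C (L.get i))
        (fun i => X - C (L.get (Fin.cast hlen.symm i))) (fun i => ?_)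
      simp
    rw [h2, h3, h4] at h1
    exact h1
  · intro i
    have : L.get (Fin.cast hlen.symm i) ∈ f.roots := by
      rw [← Multiset.mem_toList]
      exact List.get_mem _ _
    exact (mem_roots hm.ne_zero).mp this

theorem diag_of_pow {F : Type*} [Field F] {n : ℕ} (r : ℕ) [Fact r.Prime] (hr : (r : F) ≠ 0)
    (l : F) (hl : l ^ r = 1) (hl1 : l ≠ 1) (y : Matrix (Fin n) (Fin n) F) (hy : y ^ r = 1) :
    ∃ (g : GL (Fin n) F) (c : Fin n → ZMod r),
      (g : Matrix (Fin n) (Fin n) F) * y * ((g⁻¹ : GL (Fin n) F) : Matrix (Fin n) (Fin n) F) =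
        Matrix.diagonal (fun i => l ^ (c i).val) := by
  classical
  have hrp : r.Prime := Fact.out
  have : NeZero r := ⟨hrp.ne_zero⟩
  have hord : orderOf l = r := orderOf_eq_prime hl hl1
  have hprim : IsPrimitiveRoot l r := hord ▸ IsPrimitiveRoot.orderOf l
  have hsplit : Splits (X ^ r - C (1 : F)) := X_pow_sub_one_splits hprim
  have hne : (X ^ r - C (1 : F)) ≠ 0 := (monic_X_pow_sub_C (1 : F) hrp.ne_zero).ne_zero
  -- minpoly divides X^r - 1
  have hmin : minpoly F y ∣ X ^ r - C (1 : F) := by
    apply minpoly.dvd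
    rw [map_sub, map_pow, aeval_X, aeval_C, hy, map_one, sub_self]
  -- every irreducible factor of the charpoly divides X^r - 1
  have hfac : ∀ g : F[X], Irreducible g → g ∣ y.charpoly → g ∣ X ^ r - C (1 : F) := fun g hg hgd =>
    (Cfsg.Agent.Lib.helper6.SSCONJ.ssconjirr_matrix y g hg hgd).trans hmin
  have hcs : y.charpoly.Splits := by
    rw [splits_iff_splits]
    right
    intro g hg hgd
    exact (hsplit.of_dvd hne (hfac g hg hgd)).degree_eq_one_of_irreducible hg
  have hcm : y.charpoly.Monic := Matrix.charpoly_monic y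
  have hcd : y.charpoly.natDegree = n := by
    rw [Matrix.charpoly_natDegree_eq_dim, Fintype.card_fin]
  obtain ⟨b, hb, hbroot⟩ := sfodiag_prod_fin y.charpoly hcs hcm n hcd
  -- each root is a power of l
  have hbr : ∀ i, (b i) ^ r = 1 := by
    intro i
    have h1 : (X - C (b i)) ∣ y.charpoly := dvd_iff_isRoot.mpr (hbroot i)
    have h2 := hfac _ (irreducible_X_sub_C (b i)) h1
    have h3 : (X ^ r - C (1 : F)).IsRoot (b i) := dvd_iff_isRoot.mp h2
    rw [IsRoot, eval_sub, eval_pow, eval_X, eval_C, sub_eq_zero] at h3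
    exact h3
  have hbc : ∀ i, ∃ c : ZMod r, b i = l ^ c.val := by
    intro i
    obtain ⟨k, hk, hkl⟩ := hprim.eq_pow_of_pow_eq_one (hbr i)
    refine ⟨(k : ZMod r), ?_⟩
    rw [ZMod.val_natCast_of_lt hk, hkl]
  choose c hc using hbc
  set D : Matrix (Fin n) (Fin n) F := Matrix.diagonal (fun i => l ^ (c i).val) with hD
  have hDr : D ^ r = 1 := by
    rw [hD, Matrix.diagonal_pow]
    have : (fun i => l ^ (c i).val) ^ r = fun _ : Fin n => (1 : F) := by
      funext i
      rw [Pi.pow_apply, ← pow_mul, mul_comm, pow_mul, hl, one_pow]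
    rw [this, Matrix.diagonal_one]
  have hDc : y.charpoly = D.charpoly := by
    rw [hD, Matrix.charpoly_diagonal, hb]
    refine Finset.prod_congr rfl (fun i _ => ?_)
    rw [hc i]
  obtain ⟨g, hg⟩ := Cfsg.Agent.Lib.helper6.SSCONJ.conj_of_pow_eq_one y D r hr hy hDr hDc
  exact ⟨g, c, hg⟩

end Cfsg.Agent.Lib.helper8.SFO
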