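import Mathlib
import Cfsg.Agent.Lib.Helper27.WSP.Defs
import Cfsg.Agent.Lib.Helper13.WSPA3
import Cfsg.Agent.Lib.Helper25.WSPC3
import Cfsg.Agent.Lib.helper4.WSPC4
import Cfsg.Agent.Lib.helper4.WSPC5

/-! # Project WSP, piece O4 (helper6): on the Siegel parabolic an intertwining representation is the
explicit one up to scalars. -/

set_option autoImplicit false
set_option linter.unusedSectionVars false
set_option linter.unusedVariables false

namespace Cfsg.Agent.Lib.Helper27.WSP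

open Matrix

section O

variable {F : Type*} [Field F] {n : ℕ}

theorem h6_two_ne_zero [Fintype F] (hodd : Odd (Fintype.card F)) : (2 : F) ≠ 0 := by
  apply Ring.two_ne_zero
  intro h
  have := FiniteField.even_card_of_char_two h
  rcases hodd with ⟨k, hk⟩
  omega

theorem h6_inv_toBlocks₂₁ (g : ↥(Matrix.symplecticGroup (Fin n) F))
    (hg : (g : Matrix (Fin n ⊕ Fin n) (Fin n ⊕ Fin n) F).toBlocks₂₁ = 0) :
    ((g⁻¹ : ↥(Matrix.symplecticGroup (Fin n) F)) :
      Matrix (Fin n ⊕ Fin n) (Fin n ⊕ Fin n) F).toBlocks₂₁ = 0 := by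
  rw [SymplecticGroup.coe_inv]
  have h := (fromBlocks_toBlocks (g : Matrix (Fin n ⊕ Fin n) (Fin n ⊕ Fin n) F)).symm
  rw [h, hg]
  simp [J, fromBlocks_transpose, fromBlocks_multiply, fromBlocks_neg]

/-- O4 : on the Siegel parabolic an intertwining representation is the explicit one up to scalars -/
theorem omega_eq_smul_Mexp [Fintype F] (hodd : Odd (Fintype.card F)) (ψ : AddChar F ℂ)
    (hψ : ψ ≠ 1)
    (ω : ↥(Matrix.symplecticGroup (Fin n) F) →* (Module.End ℂ ((Fin n → F) → ℂ))ˣ)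
    (hω : Intertwines ψ ω) (g : ↥(Matrix.symplecticGroup (Fin n) F))
    (hg : (g : Matrix (Fin n ⊕ Fin n) (Fin n ⊕ Fin n) F).toBlocks₂₁ = 0) :
    ∃ z : ℂ, z ≠ 0 ∧ (ω g : Module.End ℂ ((Fin n → F) → ℂ)) = z • Mexp ψ g := by
  have h2 : (2 : F) ≠ 0 := h6_two_ne_zero hodd
  have hW := isWeyl_weyl (n := n) h2 ψ hψ
  have hginv := h6_inv_toBlocks₂₁ g hg
  have e1 : Mexp ψ g * Mexp ψ g⁻¹ = 1 := by
    rw [← Mexp_mul ψ g g⁻¹ hg hginv, mul_inv_cancel, Mexp_one]
  set N : Module.End ℂ ((Fin n → F) → ℂ) :=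
    Mexp ψ g⁻¹ * (ω g : Module.End ℂ ((Fin n → F) → ℂ)) with hN
  have hcomm : ∀ v, N * weyl ψ v = weyl ψ v * N := by
    intro v
    rw [hN, mul_assoc, hω g v, ← mul_assoc, Mexp_weyl h2 ψ g⁻¹ hginv, mul_assoc,
      act_cancel_inv]
  obtain ⟨z, hz⟩ := weyl_commutant hW N hcomm
  have hωg : (ω g : Module.End ℂ ((Fin n → F) → ℂ)) = z • Mexp ψ g := by
    calc (ω g : Module.End ℂ ((Fin n → F) → ℂ))
        = (Mexp ψ g * Mexp ψ g⁻¹) * (ω g : Module.End ℂ ((Fin n → F) → ℂ)) := by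
          rw [e1, one_mul]
      _ = Mexp ψ g * N := by rw [hN, mul_assoc]
      _ = z • Mexp ψ g := by rw [hz, mul_smul_comm, mul_one]
  refine ⟨z, ?_, hωg⟩
  rintro rfl
  rw [zero_smul] at hωg
  exact (ω g).ne_zero hωg

end O

end Cfsg.Agent.Lib.Helper27.WSP
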