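import Mathlib
import Cfsg.Agent.Lib.Helper27.WSP.Defs
import Cfsg.Agent.Lib.Helper21.SpEG
import Cfsg.Agent.Lib.helper6.WSPO4

/-! # Project WSP, piece O5 (helper6): no nonzero odd function is fixed by the whole group. -/

set_option autoImplicit false
set_option linter.unusedSectionVars false
set_option linter.unusedVariables false

namespace Cfsg.Agent.Lib.Helper27.WSP

open Matrix

section O

open Cfsg.Agent.Lib.Helper18.SpE

variable {F : Type*} [Field F] {n : ℕ}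

/-- `GL_n` is transitive on nonzero vectors, in the form `Aᵀ x = y`. -/
theorem h6_exists_GL_transpose_mulVec (x y : Fin n → F) (hx : x ≠ 0) (hy : y ≠ 0) :
    ∃ A : GL (Fin n) F, ((A : Matrix (Fin n) (Fin n) F))ᵀ *ᵥ x = y := by
  obtain ⟨g, hg⟩ := Cfsg.Agent.Lib.Helper21.SpEG.exists_equiv_apply_eq (F := F) x y hx hy
  set M : Matrix (Fin n) (Fin n) F := LinearMap.toMatrix' (g : (Fin n → F) →ₗ[F] (Fin n → F))
    with hM
  set M' : Matrix (Fin n) (Fin n) F :=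
    LinearMap.toMatrix' (g.symm : (Fin n → F) →ₗ[F] (Fin n → F)) with hM'
  have h1 : M * M' = 1 := by
    rw [hM, hM', ← LinearMap.toMatrix'_comp]
    have : (g : (Fin n → F) →ₗ[F] (Fin n → F)) ∘ₗ (g.symm : (Fin n → F) →ₗ[F] (Fin n → F)) =
        LinearMap.id := by
      ext v : 1
      simp
    rw [this, LinearMap.toMatrix'_id]
  have h2 : M' * M = 1 := by
    rw [hM, hM', ← LinearMap.toMatrix'_comp]
    have : (g.symm : (Fin n → F) →ₗ[F] (Fin n → F)) ∘ₗ (g : (Fin n → F) →ₗ[F] (Fin n → F)) =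
        LinearMap.id := by
      ext v : 1
      simp
    rw [this, LinearMap.toMatrix'_id]
  refine ⟨⟨Mᵀ, M'ᵀ, ?_, ?_⟩, ?_⟩
  · rw [← Matrix.transpose_mul, h2, Matrix.transpose_one]
  · rw [← Matrix.transpose_mul, h1, Matrix.transpose_one]
  · show (Mᵀ)ᵀ *ᵥ x = y
    rw [Matrix.transpose_transpose, hM, LinearMap.toMatrix'_mulVec]
    exact hg

/-- the Levi elements act (up to a scalar) by `f ↦ f ∘ Aᵀ` -/
theorem h6_lev_fixed [Fintype F] (hodd : Odd (Fintype.card F))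
    (ψ : AddChar F ℂ) (hψ : ψ ≠ 1)
    (ω : ↥(Matrix.symplecticGroup (Fin n) F) →* (Module.End ℂ ((Fin n → F) → ℂ))ˣ)
    (hω : Intertwines ψ ω) (f : (Fin n → F) → ℂ)
    (hfix : ∀ g, (ω g : Module.End ℂ ((Fin n → F) → ℂ)) f = f) (A : GL (Fin n) F)
    (x : Fin n → F) (hx : f x ≠ 0) : f (((A : Matrix (Fin n) (Fin n) F))ᵀ *ᵥ x) ≠ 0 := by
  have hb : ((lev A : ↥(Matrix.symplecticGroup (Fin n) F)) :
      Matrix (Fin n ⊕ Fin n) (Fin n ⊕ Fin n) F).toBlocks₂₁ = 0 := by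
    show (Matrix.fromBlocks (A : Matrix (Fin n) (Fin n) F) 0 0
      (((A⁻¹ : GL (Fin n) F) : Matrix (Fin n) (Fin n) F))ᵀ).toBlocks₂₁ = 0
    rw [Matrix.toBlocks_fromBlocks₂₁]
  obtain ⟨z, hz, hω1⟩ := omega_eq_smul_Mexp hodd ψ hψ ω hω (lev A) hb
  have h1 := congrFun (hfix (lev A)) x
  rw [hω1, LinearMap.smul_apply, Pi.smul_apply, Mexp_apply] at h1
  have e11 : ((lev A : ↥(Matrix.symplecticGroup (Fin n) F)) :
      Matrix (Fin n ⊕ Fin n) (Fin n ⊕ Fin n) F).toBlocks₁₁ = (A : Matrix (Fin n) (Fin n) F) := by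
    show (Matrix.fromBlocks (A : Matrix (Fin n) (Fin n) F) 0 0
      (((A⁻¹ : GL (Fin n) F) : Matrix (Fin n) (Fin n) F))ᵀ).toBlocks₁₁ = _
    rw [Matrix.toBlocks_fromBlocks₁₁]
  rw [e11] at h1
  intro h0
  rw [h0, mul_zero, smul_zero] at h1
  exact hx h1.symm

/-- the Siegel elements act (up to a scalar) by multiplication with `ψ(-xᵀ S x / 2)` -/
theorem h6_uS_fixed [Fintype F] (hodd : Odd (Fintype.card F))
    (ψ : AddChar F ℂ) (hψ : ψ ≠ 1)
    (ω : ↥(Matrix.symplecticGroup (Fin n) F) →* (Module.End ℂ ((Fin n → F) → ℂ))ˣ)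
    (hω : Intertwines ψ ω) (f : (Fin n → F) → ℂ)
    (hfix : ∀ g, (ω g : Module.End ℂ ((Fin n → F) → ℂ)) f = f) (S : ↥(SymM n F)) :
    ∃ z : ℂ, ∀ x : Fin n → F,
      z * (ψ (-(2⁻¹ * (x ⬝ᵥ (S : Matrix (Fin n) (Fin n) F) *ᵥ x))) * f x) = f x := by
  have hb : ((uS S : ↥(Matrix.symplecticGroup (Fin n) F)) :
      Matrix (Fin n ⊕ Fin n) (Fin n ⊕ Fin n) F).toBlocks₂₁ = 0 := by
    rw [coe_uS, Matrix.toBlocks_fromBlocks₂₁]
  obtain ⟨z, hz, hω1⟩ := omega_eq_smul_Mexp hodd ψ hψ ω hω (uS S) hb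
  refine ⟨z, fun x => ?_⟩
  have h1 := congrFun (hfix (uS S)) x
  rw [hω1, LinearMap.smul_apply, Pi.smul_apply, Mexp_apply, coe_uS,
    Matrix.toBlocks_fromBlocks₁₁, Matrix.toBlocks_fromBlocks₁₂, Matrix.transpose_one,
    Matrix.mul_one, Matrix.one_mulVec, smul_eq_mul] at h1
  exact h1

/-- O5 : no nonzero odd function is fixed by the whole group -/
theorem eq_zero_of_fixed [Fintype F] (hn : 2 ≤ n) (hodd : Odd (Fintype.card F))
    (ψ : AddChar F ℂ) (hψ : ψ ≠ 1)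
    (ω : ↥(Matrix.symplecticGroup (Fin n) F) →* (Module.End ℂ ((Fin n → F) → ℂ))ˣ)
    (hω : Intertwines ψ ω) (f : (Fin n → F) → ℂ) (hf : f ∈ Wodd n F)
    (hfix : ∀ g, (ω g : Module.End ℂ ((Fin n → F) → ℂ)) f = f) : f = 0 := by
  have h2 : (2 : F) ≠ 0 := h6_two_ne_zero hodd
  by_contra hne
  obtain ⟨x₀, hx₀⟩ : ∃ x, f x ≠ 0 := by
    by_contra hall
    push Not at hall
    exact hne (funext hall)
  have hf0 : f 0 = 0 := by
    have := hf 0
    rw [neg_zero] at this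
    have h3 : (2 : ℂ) * f 0 = 0 := by linear_combination this
    rcases mul_eq_zero.mp h3 with h | h
    · norm_num at h
    · exact h
  have hx₀0 : x₀ ≠ 0 := by
    rintro rfl
    exact hx₀ hf0
  -- `f` vanishes nowhere outside `0`
  have hall : ∀ y : Fin n → F, y ≠ 0 → f y ≠ 0 := by
    intro y hy
    obtain ⟨A, hA⟩ := h6_exists_GL_transpose_mulVec x₀ y hx₀0 hy
    rw [← hA]
    exact h6_lev_fixed hodd ψ hψ ω hω f hfix A x₀ hx₀
  -- the two test vectors
  let i₀ : Fin n := ⟨0, by omega⟩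
  let i₁ : Fin n := ⟨1, by omega⟩
  have hi : i₀ ≠ i₁ := by
    intro h
    have := congrArg Fin.val h
    simp [i₀, i₁] at this
  have he₀ : (Pi.single i₀ (1 : F) : Fin n → F) ≠ 0 := by
    intro h
    have := congrFun h i₀
    simp at this
  have he₁ : (Pi.single i₁ (1 : F) : Fin n → F) ≠ 0 := by
    intro h
    have := congrFun h i₁
    simp at this
  apply hψ
  -- `ψ = 1`
  have key : ∀ t : F, ψ (-(2⁻¹ * t)) = 1 := by
    intro t
    let S : ↥(SymM n F) := ⟨Matrix.single i₀ i₀ t, by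
      rw [mem_SymM, Matrix.transpose_single]⟩
    obtain ⟨z, hz⟩ := h6_uS_fixed hodd ψ hψ ω hω f hfix S
    have q : ∀ x : Fin n → F, x ⬝ᵥ (S : Matrix (Fin n) (Fin n) F) *ᵥ x = x i₀ * (t * x i₀) := by
      intro x
      show x ⬝ᵥ (Matrix.single i₀ i₀ t) *ᵥ x = _
      rw [Matrix.single_mulVec_eq, dotProduct_smul, dotProduct_single, smul_eq_mul]
      ring
    have hz1 := hz (Pi.single i₁ (1 : F))
    have hz0 := hz (Pi.single i₀ (1 : F))
    rw [q] at hz1 hz0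
    have c1 : (Pi.single i₁ (1 : F) : Fin n → F) i₀ = 0 := by
      rw [Pi.single_apply, if_neg hi]
    have c0 : (Pi.single i₀ (1 : F) : Fin n → F) i₀ = 1 := by
      rw [Pi.single_apply, if_pos rfl]
    rw [c1, zero_mul, mul_zero, neg_zero, AddChar.map_zero_eq_one, one_mul] at hz1
    rw [c0, one_mul, mul_one] at hz0
    have hz_one : z = 1 := by
      have h5 : (z - 1) * f (Pi.single i₁ (1 : F)) = 0 := by linear_combination hz1
      rcases mul_eq_zero.mp h5 with h | h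
      · exact sub_eq_zero.mp h
      · exact absurd h (hall _ he₁)
    rw [hz_one, one_mul] at hz0
    have h6 : (ψ (-(2⁻¹ * t)) - 1) * f (Pi.single i₀ (1 : F)) = 0 := by linear_combination hz0
    rcases mul_eq_zero.mp h6 with h | h
    · exact sub_eq_zero.mp h
    · exact absurd h (hall _ he₀)
  ext s
  have := key (-(2 * s))
  have e : -(2⁻¹ * -(2 * s)) = s := by
    field_simp
  rw [e] at this
  rw [this, AddChar.one_apply]

end O

end Cfsg.Agent.Lib.Helper27.WSP
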