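import Mathlib
import Cfsg.Agent.Lib.Helper28.BP2.Defs

/-!
# BP2 rows AO7d AO7e AO7f (`alt4_invol`, `sym4_invol`, `alt5_invol`), verbatim vs
`Helper28/BP2/Skel.lean.txt`.
-/

set_option autoImplicit false

namespace Cfsg.Agent.Lib.Helper28.BP2

open Cfsg.Agent.Lib.helper14

universe u v w

/-- own extra: the centraliser of one element as a subtype, for counting by `decide`. -/
theorem bp2ao7_card_centralizer {G : Type u} [Group G] [Fintype G] [DecidableEq G] (t : G) :
    Nat.card (Subgroup.centralizer ({t} : Set G)) = Fintype.card {g : G // g * t = t * g} := by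
  rw [← Nat.card_eq_fintype_card]
  refine Nat.card_congr (Equiv.subtypeEquivRight fun g => ?_)
  rw [Subgroup.mem_centralizer_iff]
  constructor
  · intro h
    exact (h t rfl).symm
  · intro h x hx
    rw [Set.mem_singleton_iff.mp hx]
    exact h.symm

/-- **AO7d**  (`decide`-type). -/
theorem alt4_invol : ∃ t : alternatingGroup (Fin 4), orderOf t = 2 ∧
    Nat.card (Subgroup.centralizer ({t} : Set (alternatingGroup (Fin 4)))) = 4 := by
  refine ⟨⟨Equiv.swap 0 1 * Equiv.swap 2 3, Equiv.Perm.mem_alternatingGroup.mpr (by decide)⟩, ?_, ?_⟩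
  · exact orderOf_eq_prime (by decide) (by decide)
  · rw [bp2ao7_card_centralizer]
    decide

/-- **AO7e**  (`decide`-type; a transposition). -/
theorem sym4_invol : ∃ t : Equiv.Perm (Fin 4), orderOf t = 2 ∧
    Nat.card (Subgroup.centralizer ({t} : Set (Equiv.Perm (Fin 4)))) = 4 := by
  refine ⟨Equiv.swap 0 1, ?_, ?_⟩
  · exact orderOf_eq_prime (by decide) (by decide)
  · rw [bp2ao7_card_centralizer]
    decide

/-- **AO7f**  (`decide`-type). -/
theorem alt5_invol : ∃ t : alternatingGroup (Fin 5), orderOf t = 2 ∧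
    Nat.card (Subgroup.centralizer ({t} : Set (alternatingGroup (Fin 5)))) = 4 := by
  refine ⟨⟨Equiv.swap 0 1 * Equiv.swap 2 3, Equiv.Perm.mem_alternatingGroup.mpr (by decide)⟩, ?_, ?_⟩
  · exact orderOf_eq_prime (by decide) (by decide)
  · rw [bp2ao7_card_centralizer]
    decide +kernel

end Cfsg.Agent.Lib.Helper28.BP2
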