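import Mathlib
import Cfsg.Agent.Lib.Helper28.BP2.Defs
import Cfsg.Agent.Lib.helper6.PSL2Index

/-!
# BP2 row AO7h (`card_PGL2`), verbatim vs `Helper28/BP2/Skel.lean.txt`.
-/

set_option autoImplicit false

namespace Cfsg.Agent.Lib.Helper28.BP2

open Cfsg.Agent.Lib.helper14

universe u v w

/-- **AO7h**  (= `Cfsg.Agent.Lib.helper6.PSL2Index.card_PGL2`). -/
theorem card_PGL2 (K : Type) [Field K] [Fintype K] :
    Nat.card (Matrix.ProjGenLinGroup (Fin 2) K) =
      Fintype.card K * (Fintype.card K ^ 2 - 1) :=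
  Cfsg.Agent.Lib.helper6.PSL2Index.card_PGL2

end Cfsg.Agent.Lib.Helper28.BP2
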