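import Mathlib
import Cfsg.Agent.Lib.Helper28.BP2.Defs

/-!
# BP2 row AO7j (`pgl2_three_invol`), verbatim vs `Helper28/BP2/Skel.lean.txt`.

`t = [diag (1, -1)]` in `PGL₂(K)`, `|K| = 3`: its centraliser is `{1, t, s, t s}` with
`s = [antidiag (1, 1)]`.
-/

set_option autoImplicit false

namespace Cfsg.Agent.Lib.Helper28.BP2

open Cfsg.Agent.Lib.helper14

universe u v w

section AO7j

variable {K : Type} [Field K]

open Matrix.ProjGenLinGroup

/-- own extra: `diag (1, -1)` in `GL₂(K)`. -/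
noncomputable def bp2ao7j_d (K : Type) [Field K] : GL (Fin 2) K :=
  Matrix.GeneralLinearGroup.mkOfDetNeZero !![1, 0; 0, -1] (by simp [Matrix.det_fin_two_of])

/-- own extra: `antidiag (1, 1)` in `GL₂(K)`. -/
noncomputable def bp2ao7j_w (K : Type) [Field K] : GL (Fin 2) K :=
  Matrix.GeneralLinearGroup.mkOfDetNeZero !![0, 1; 1, 0] (by simp [Matrix.det_fin_two_of])

theorem bp2ao7j_d_coe : ((bp2ao7j_d K : GL (Fin 2) K) : Matrix (Fin 2) (Fin 2) K) =
    !![1, 0; 0, -1] := rfl

theorem bp2ao7j_w_coe : ((bp2ao7j_w K : GL (Fin 2) K) : Matrix (Fin 2) (Fin 2) K) =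
    !![0, 1; 1, 0] := rfl

/-- own extra: entries of `g * scalar u`. -/
theorem bp2ao7j_mul_scalar (g : GL (Fin 2) K) (u : Kˣ) (i j : Fin 2) :
    ((g * Matrix.GeneralLinearGroup.scalar (Fin 2) u : GL (Fin 2) K) :
      Matrix (Fin 2) (Fin 2) K) i j = (g : Matrix (Fin 2) (Fin 2) K) i j * (u : K) := by
  rw [Units.val_mul, Matrix.GeneralLinearGroup.coe_scalar, Matrix.scalar_apply,
    Matrix.mul_diagonal]

/-- own extra: proportional matrices have the same image in `PGL₂`. -/
theorem bp2ao7j_mk_eq (g g' : GL (Fin 2) K) (u : Kˣ)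
    (h00 : (g' : Matrix (Fin 2) (Fin 2) K) 0 0 = (g : Matrix (Fin 2) (Fin 2) K) 0 0 * u)
    (h01 : (g' : Matrix (Fin 2) (Fin 2) K) 0 1 = (g : Matrix (Fin 2) (Fin 2) K) 0 1 * u)
    (h10 : (g' : Matrix (Fin 2) (Fin 2) K) 1 0 = (g : Matrix (Fin 2) (Fin 2) K) 1 0 * u)
    (h11 : (g' : Matrix (Fin 2) (Fin 2) K) 1 1 = (g : Matrix (Fin 2) (Fin 2) K) 1 1 * u) :
    mk g = mk g' := by
  rw [mk_eq_mk_iff]
  refine ⟨u, Units.ext (Matrix.ext fun i j => ?_)⟩
  rw [bp2ao7j_mul_scalar]
  fin_cases i <;> fin_cases j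
  · exact h00.symm
  · exact h01.symm
  · exact h10.symm
  · exact h11.symm

/-- own extra: the converse. -/
theorem bp2ao7j_of_mk_eq (g g' : GL (Fin 2) K) (h : mk g = mk g') :
    ∃ u : Kˣ, ∀ i j : Fin 2,
      (g' : Matrix (Fin 2) (Fin 2) K) i j = (g : Matrix (Fin 2) (Fin 2) K) i j * u := by
  rw [mk_eq_mk_iff] at h
  obtain ⟨u, hu⟩ := h
  refine ⟨u, fun i j => ?_⟩
  rw [← hu, bp2ao7j_mul_scalar]

/-- own extra: a diagonal matrix over a field whose nonzero elements are `± 1` is `1` or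
`diag (1, -1)` in `PGL₂`. -/
theorem bp2ao7j_diag (hx : ∀ x : K, x ≠ 0 → x = 1 ∨ x = -1) (g : GL (Fin 2) K)
    (h01 : (g : Matrix (Fin 2) (Fin 2) K) 0 1 = 0)
    (h10 : (g : Matrix (Fin 2) (Fin 2) K) 1 0 = 0) :
    mk g = 1 ∨ mk g = mk (bp2ao7j_d K) := by
  have hdet : (g : Matrix (Fin 2) (Fin 2) K) 0 0 * (g : Matrix (Fin 2) (Fin 2) K) 1 1 ≠ 0 := by
    have h1 := (Matrix.GeneralLinearGroup.det g).ne_zero
    rw [Matrix.GeneralLinearGroup.val_det_apply, Matrix.det_fin_two, h01, h10] at h1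
    simpa using h1
  have ha : (g : Matrix (Fin 2) (Fin 2) K) 0 0 ≠ 0 := left_ne_zero_of_mul hdet
  have he : (g : Matrix (Fin 2) (Fin 2) K) 1 1 ≠ 0 := right_ne_zero_of_mul hdet
  have hae : (g : Matrix (Fin 2) (Fin 2) K) 1 1 = (g : Matrix (Fin 2) (Fin 2) K) 0 0 ∨
      (g : Matrix (Fin 2) (Fin 2) K) 1 1 = - (g : Matrix (Fin 2) (Fin 2) K) 0 0 := by
    rcases hx _ ha with h | h <;> rcases hx _ he with h' | h' <;> rw [h, h'] <;> simp
  rcases hae with h | h
  · left
    rw [← mk_one]
    refine (bp2ao7j_mk_eq 1 g (Units.mk0 _ ha) ?_ ?_ ?_ ?_).symm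
    · simp
    · simp [h01]
    · simp [h10]
    · simp [h]
  · right
    refine (bp2ao7j_mk_eq (bp2ao7j_d K) g (Units.mk0 _ ha) ?_ ?_ ?_ ?_).symm
    · simp [bp2ao7j_d_coe]
    · simp [bp2ao7j_d_coe, h01]
    · simp [bp2ao7j_d_coe, h10]
    · simp [bp2ao7j_d_coe, h]

end AO7j

/-- **AO7j**.  The class of `diag (1, -1)` in `PGL₂(𝔽₃)`: its centraliser is the image of the
diagonal and antidiagonal matrices, of order 4. -/
theorem pgl2_three_invol (K : Type) [Field K] [Fintype K] (hK : Fintype.card K = 3) :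
    ∃ t : Matrix.ProjGenLinGroup (Fin 2) K, orderOf t = 2 ∧
      Nat.card (Subgroup.centralizer ({t} : Set (Matrix.ProjGenLinGroup (Fin 2) K))) = 4 := by
  classical
  have h3 : (3 : K) = 0 := by
    have := Nat.cast_card_eq_zero K
    rw [hK] at this
    exact_mod_cast this
  have h2 : (2 : K) ≠ 0 := by
    intro h
    have h1 : (1 : K) = 3 - 2 := by norm_num
    rw [h3, h, sub_zero] at h1
    exact one_ne_zero h1
  have hneg : (1 : K) ≠ -1 := by
    intro h
    apply h2
    linear_combination h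
  have hx : ∀ x : K, x ≠ 0 → x = 1 ∨ x = -1 := by
    intro x hx0
    have h1 := FiniteField.pow_card_sub_one_eq_one x hx0
    rw [hK] at h1
    have h' : (x - 1) * (x + 1) = 0 := by linear_combination h1
    rcases mul_eq_zero.mp h' with h | h
    · left; exact sub_eq_zero.mp h
    · right; exact eq_neg_of_add_eq_zero_left h
  set t : Matrix.ProjGenLinGroup (Fin 2) K := Matrix.ProjGenLinGroup.mk (bp2ao7j_d K) with ht
  set s : Matrix.ProjGenLinGroup (Fin 2) K := Matrix.ProjGenLinGroup.mk (bp2ao7j_w K) with hs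
  -- basic relations
  have htt : t * t = 1 := by
    rw [ht, ← map_mul, ← Matrix.ProjGenLinGroup.mk_one]
    congr 1
    apply Units.ext
    rw [Units.val_mul, bp2ao7j_d_coe]
    ext i j
    fin_cases i <;> fin_cases j <;> simp [Matrix.mul_apply, Fin.sum_univ_two]
  have hss : s * s = 1 := by
    rw [hs, ← map_mul, ← Matrix.ProjGenLinGroup.mk_one]
    congr 1
    apply Units.ext
    rw [Units.val_mul, bp2ao7j_w_coe]
    ext i j
    fin_cases i <;> fin_cases j <;> simp [Matrix.mul_apply, Fin.sum_univ_two]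
  have hts : t * s = s * t := by
    rw [ht, hs, ← map_mul, ← map_mul]
    refine bp2ao7j_mk_eq _ _ (-1) ?_ ?_ ?_ ?_ <;>
      simp [Units.val_mul, bp2ao7j_d_coe, bp2ao7j_w_coe, Matrix.mul_apply, Fin.sum_univ_two]
  have ht1 : t ≠ 1 := by
    intro h
    rw [ht, ← Matrix.ProjGenLinGroup.mk_one] at h
    obtain ⟨u, hu⟩ := bp2ao7j_of_mk_eq _ _ h.symm
    have h00 := hu 0 0
    have h11 := hu 1 1
    simp [bp2ao7j_d_coe] at h00 h11
    exact hneg (h00.trans h11.symm) 
  have hs1 : s ≠ 1 := by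
    intro h
    rw [hs, ← Matrix.ProjGenLinGroup.mk_one] at h
    obtain ⟨u, hu⟩ := bp2ao7j_of_mk_eq _ _ h.symm
    have h00 := hu 0 0
    simp [bp2ao7j_w_coe] at h00
    exact u.ne_zero h00.symm
  have hts' : t ≠ s := by
    intro h
    rw [ht, hs] at h
    obtain ⟨u, hu⟩ := bp2ao7j_of_mk_eq _ _ h
    have h00 := hu 0 0
    simp [bp2ao7j_d_coe, bp2ao7j_w_coe] at h00
    exact u.ne_zero h00.symm
  have hsinv : s⁻¹ = s := inv_eq_of_mul_eq_one_right hss
  refine ⟨t, orderOf_eq_prime (by rw [pow_two]; exact htt) ht1, ?_⟩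
  -- the centraliser is `{1, t, s, t s}`
  have hC : ((Subgroup.centralizer ({t} : Set (Matrix.ProjGenLinGroup (Fin 2) K)) :
      Subgroup (Matrix.ProjGenLinGroup (Fin 2) K)) : Set (Matrix.ProjGenLinGroup (Fin 2) K)) =
      {1, t, s, t * s} := by
    ext x
    simp only [SetLike.mem_coe, Set.mem_insert_iff, Set.mem_singleton_iff]
    constructor
    · intro hxC
      rw [Subgroup.mem_centralizer_iff] at hxC
      have hcomm := hxC t rfl
      induction x using Matrix.ProjGenLinGroup.induction_on with | mk g =>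
      rw [ht, ← map_mul, ← map_mul] at hcomm
      obtain ⟨u, hu⟩ := bp2ao7j_of_mk_eq _ _ hcomm
      have h00 := hu 0 0
      have h01 := hu 0 1
      have h10 := hu 1 0
      have h11 := hu 1 1
      simp [Units.val_mul, bp2ao7j_d_coe, Matrix.mul_apply, Fin.sum_univ_two] at h00 h01 h10 h11
      rcases hx (u : K) u.ne_zero with hu1 | hu1
      · -- `u = 1`: diagonal
        rw [hu1] at h01 h10
        have hb : (g : Matrix (Fin 2) (Fin 2) K) 0 1 = 0 := by
          have : (2 : K) * (g : Matrix (Fin 2) (Fin 2) K) 0 1 = 0 := by linear_combination -h01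
          exact (mul_eq_zero.mp this).resolve_left h2
        have hc : (g : Matrix (Fin 2) (Fin 2) K) 1 0 = 0 := by
          have : (2 : K) * (g : Matrix (Fin 2) (Fin 2) K) 1 0 = 0 := by linear_combination h10
          exact (mul_eq_zero.mp this).resolve_left h2
        rcases bp2ao7j_diag hx g hb hc with h | h
        · left; exact h
        · right; left; exact h
      · -- `u = -1`: antidiagonal
        rw [hu1] at h00 h11
        have ha : (g : Matrix (Fin 2) (Fin 2) K) 0 0 = 0 := by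
          have : (2 : K) * (g : Matrix (Fin 2) (Fin 2) K) 0 0 = 0 := by linear_combination h00
          exact (mul_eq_zero.mp this).resolve_left h2
        have he : (g : Matrix (Fin 2) (Fin 2) K) 1 1 = 0 := by
          have : (2 : K) * (g : Matrix (Fin 2) (Fin 2) K) 1 1 = 0 := by linear_combination h11
          exact (mul_eq_zero.mp this).resolve_left h2
        have hgw := bp2ao7j_diag hx (g * bp2ao7j_w K)
          (by simp [Units.val_mul, bp2ao7j_w_coe, Matrix.mul_apply, Fin.sum_univ_two, ha])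
          (by simp [Units.val_mul, bp2ao7j_w_coe, Matrix.mul_apply, Fin.sum_univ_two, he])
        rw [map_mul] at hgw
        rcases hgw with h | h
        · right; right; left
          have := eq_inv_of_mul_eq_one_left h
          rw [this]; exact hsinv
        · right; right; right
          have : Matrix.ProjGenLinGroup.mk g = t * s⁻¹ := eq_mul_inv_of_mul_eq h
          rw [this, hsinv]
    · rintro (rfl | rfl | rfl | rfl)
      · exact Subgroup.one_mem _
      · rw [Subgroup.mem_centralizer_iff]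
        intro y hy
        rw [Set.mem_singleton_iff.mp hy]
      · rw [Subgroup.mem_centralizer_iff]
        intro y hy
        rw [Set.mem_singleton_iff.mp hy]
        exact hts
      · rw [Subgroup.mem_centralizer_iff]
        intro y hy
        rw [Set.mem_singleton_iff.mp hy, ← mul_assoc, htt, one_mul, mul_assoc, ← hts, ← mul_assoc,
          htt, one_mul]
  rw [show Nat.card (Subgroup.centralizer ({t} : Set (Matrix.ProjGenLinGroup (Fin 2) K))) =
    Set.ncard ((Subgroup.centralizer ({t} : Set (Matrix.ProjGenLinGroup (Fin 2) K)) :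
      Subgroup (Matrix.ProjGenLinGroup (Fin 2) K)) : Set (Matrix.ProjGenLinGroup (Fin 2) K)) from
    (Nat.card_coe_set_eq _).symm, hC]
  have e1 : (1 : Matrix.ProjGenLinGroup (Fin 2) K) ∉
      ({t, s, t * s} : Set (Matrix.ProjGenLinGroup (Fin 2) K)) := by
    simp only [Set.mem_insert_iff, Set.mem_singleton_iff, not_or]
    refine ⟨fun h => ht1 h.symm, fun h => hs1 h.symm, fun h => ?_⟩
    apply hts'
    have := eq_inv_of_mul_eq_one_left h.symm
    rw [this, hsinv]
  have e2 : t ∉ ({s, t * s} : Set (Matrix.ProjGenLinGroup (Fin 2) K)) := by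
    simp only [Set.mem_insert_iff, Set.mem_singleton_iff, not_or]
    refine ⟨hts', fun h => hs1 ?_⟩
    exact mul_eq_left.mp h.symm
  have e3 : s ≠ t * s := by
    intro h
    exact ht1 (mul_eq_right.mp h.symm)
  rw [Set.ncard_insert_of_notMem e1, Set.ncard_insert_of_notMem e2, Set.ncard_pair e3]

end Cfsg.Agent.Lib.Helper28.BP2
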