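import Mathlib
import Cfsg.Agent.Lib.Helper28.BP2.Defs

/-!
# BP2 row U5 (`card_PU`), verbatim vs `Helper28/BP2/Skel.lean.txt`.
-/

set_option autoImplicit false

namespace Cfsg.Agent.Lib.Helper28.BP2

open Cfsg.Agent.Lib.helper14

universe u v w

section Util

variable {F : Type u} [Field F]

/-- own extra: `pr (uS x) = pr (uS y)` only if `x = y`. -/
theorem bp2u5_pr_uS_inj (x y : F) (h : pr F (uS x) = pr F (uS y)) : x = y := by
  have h1 : (uS x)⁻¹ * uS y ∈ Subgroup.center (SL2 F) := by
    have := (QuotientGroup.eq (s := Subgroup.center (SL2 F))).mp h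
    exact this
  have h2 : (uS x)⁻¹ * uS y = uS (y - x) := by
    rw [inv_mul_eq_iff_eq_mul, uS_mul]
    congr 1
    ring
  rw [h2, Matrix.SpecialLinearGroup.mem_center_iff] at h1
  obtain ⟨r, -, hr⟩ := h1
  have h3 := congrArg (fun M : Matrix (Fin 2) (Fin 2) F => M 0 1) hr
  simp [uS_coe] at h3
  exact (sub_eq_zero.mp h3.symm).symm

variable [Fintype F]

/-- **U5**.  `pr` is injective on `US F` (`-uS x` is not unitriangular unless `-1 = 1`). -/
theorem card_PU : Nat.card (PU F) = Fintype.card F := by
  have hinj : Function.Injective ((pr F).comp (uSHom (F := F))) := by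
    intro x y h
    have h' : pr F (uS (Multiplicative.toAdd x)) = pr F (uS (Multiplicative.toAdd y)) := h
    exact Multiplicative.toAdd.injective (bp2u5_pr_uS_inj _ _ h')
  have hPU : PU F = ((pr F).comp (uSHom (F := F))).range := by
    show (uSHom (F := F)).range.map (pr F) = _
    rw [MonoidHom.range_comp]
  rw [hPU, ← Nat.card_congr (MonoidHom.ofInjective hinj).toEquiv, Nat.card_eq_fintype_card,
    Fintype.card_multiplicative]

end Util

end Cfsg.Agent.Lib.Helper28.BP2
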