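import Mathlib
import Cfsg.Prelude.Def_SporadicB
import Cfsg.Prelude.Def_Classical
import Cfsg.Agent.Lib.Helper28.T9.Defs

set_option autoImplicit false

namespace Cfsg.Agent.Lib.Helper28.T9

open Cfsg.Agent.Lib.Helper28.T9

universe u

/-- if the images of the members of a conjugacy class `E` generating `H` pairwise commute,
they are all equal -/
theorem h6_image_const {H : Type*} [Group H] {T : Type*} [Group T] (f : H →* T) {E : Set H} {d : H}
    (hEd : E = conjugatesOf d) (hgen : Subgroup.closure E = ⊤)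
    (hcomm : ∀ a ∈ E, ∀ b ∈ E, f a * f b = f b * f a) : ∀ b ∈ E, f b = f d := by
  have hdE : d ∈ E := by rw [hEd]; exact mem_conjugatesOf_self
  have hC : ∀ g : H, f g * f d = f d * f g := by
    intro g
    have hg : g ∈ Subgroup.closure E := by rw [hgen]; trivial
    induction hg using Subgroup.closure_induction with
    | mem y hy => exact hcomm y hy d hdE
    | one => simp
    | mul x y _ _ hx hy =>
      rw [map_mul, mul_assoc, hy, ← mul_assoc, hx, mul_assoc]
    | inv x _ hx =>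
      rw [map_inv]
      calc (f x)⁻¹ * f d = (f x)⁻¹ * (f d * f x) * (f x)⁻¹ := by group
        _ = (f x)⁻¹ * (f x * f d) * (f x)⁻¹ := by rw [hx]
        _ = f d * (f x)⁻¹ := by group
  intro b hb
  rw [hEd] at hb
  have hb' : IsConj d b := hb
  rw [isConj_iff] at hb'
  obtain ⟨c, rfl⟩ := hb'
  rw [map_mul, map_mul, hC c, map_inv]
  group

theorem quot_facts {H : Type u} [Group H] [Finite H] {E : Set H}
    (hE : Cfsg.IsThreeTranspositionClass E) (hE2 : ∃ a ∈ E, ∃ b ∈ E, a ≠ b)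
    (Q : Subgroup H) [Q.Normal] (hQ : IsPGroup 2 Q)
    (h232 : ∃ P : Sylow 3 (H ⧸ Q), (P : Subgroup (H ⧸ Q)).Normal ∧
      ∃ k : ℕ, (P : Subgroup (H ⧸ Q)).index = 2 ^ k) :
    (∀ a ∈ E, a ∉ Q) ∧
    (∀ a ∈ E, ∀ b ∈ E, (((a * b : H) : H ⧸ Q)) ^ 3 = 1) ∧
    IsPGroup 3 (prodSub ((QuotientGroup.mk' Q) '' E)) ∧
    (∃ a ∈ E, ∃ b ∈ E, ((a : H) : H ⧸ Q) ≠ ((b : H) : H ⧸ Q)) := by
  classical
  obtain ⟨⟨hord, h23⟩, ⟨d, hdE, hEd⟩, hgen⟩ := hE
  have hsq : ∀ a ∈ E, a * a = 1 := by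
    intro a ha
    have := hord a ha
    rw [← pow_two, ← this]
    exact pow_orderOf_eq_one a
  have hinv : ∀ a ∈ E, a⁻¹ = a := fun a ha => inv_eq_of_mul_eq_one_right (hsq a ha)
  -- a coprime-order helper
  have hcop : ∀ {T : Type u} [Group T] (t : T) (m n : ℕ), Nat.Coprime m n → t ^ m = 1 → t ^ n = 1 →
      t = 1 := by
    intro T _ t m n hmn hm hn
    have h1 : orderOf t ∣ m := orderOf_dvd_of_pow_eq_one hm
    have h2 : orderOf t ∣ n := orderOf_dvd_of_pow_eq_one hn
    have : orderOf t ∣ 1 := by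
      have := Nat.dvd_gcd h1 h2
      rwa [hmn] at this
    exact orderOf_eq_one_iff.mp (Nat.dvd_one.mp this)
  -- (A') pairwise commuting is impossible
  have hA : (∀ a ∈ E, ∀ b ∈ E, a * b = b * a) → False := by
    intro hc
    have := h6_image_const (MonoidHom.id H) hEd hgen (by simpa using hc)
    obtain ⟨a, ha, b, hb, hab⟩ := hE2
    apply hab
    have h1 := this a ha
    have h2 := this b hb
    simp only [MonoidHom.id_apply] at h1 h2
    rw [h1, h2]
  -- (K) products in Q commute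
  have hK : ∀ a ∈ E, ∀ b ∈ E, a * b ∈ Q → a * b = b * a := by
    intro a ha b hb hab
    have key : (a * b) ^ 2 = 1 := by
      rcases h23 a ha b hb with h | h
      · exact h
      · obtain ⟨k, hk⟩ := hQ ⟨a * b, hab⟩
        have hk' : (a * b) ^ 2 ^ k = 1 := by
          have := congrArg Subtype.val hk
          simpa using this
        have h1 : a * b = 1 := hcop (a * b) 3 (2 ^ k)
          (Nat.Coprime.pow_right k (by norm_num)) h hk'
        rw [h1]; simp
    have h1 : a * b * (a * b) = 1 := by rw [← pow_two]; exact key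
    calc a * b = a * b * (a * b) * (b⁻¹ * a⁻¹) := by group
      _ = b⁻¹ * a⁻¹ := by rw [h1, one_mul]
      _ = b * a := by rw [hinv a ha, hinv b hb]
  -- (1)
  have h1 : ∀ a ∈ E, a ∉ Q := by
    intro a ha haQ
    apply hA
    have hdQ : d ∈ Q := by
      rw [hEd] at ha
      have ha' : IsConj d a := ha
      rw [isConj_iff] at ha'
      obtain ⟨c, rfl⟩ := ha'
      have := ‹Q.Normal›.conj_mem _ haQ c⁻¹
      have h2 : c⁻¹ * (c * d * c⁻¹) * c⁻¹⁻¹ = d := by group
      rwa [h2] at this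
    have hEQ : ∀ b ∈ E, b ∈ Q := by
      intro b hb
      rw [hEd] at hb
      have hb' : IsConj d b := hb
      rw [isConj_iff] at hb'
      obtain ⟨c, rfl⟩ := hb'
      exact ‹Q.Normal›.conj_mem _ hdQ c
    intro x hx y hy
    exact hK x hx y hy (Q.mul_mem (hEQ x hx) (hEQ y hy))
  -- (4)
  have h4 : ∃ a ∈ E, ∃ b ∈ E, ((a : H) : H ⧸ Q) ≠ ((b : H) : H ⧸ Q) := by
    by_contra hcon
    push Not at hcon
    apply hA
    intro x hx y hy
    apply hK x hx y hy
    rw [← QuotientGroup.eq_one_iff, QuotientGroup.mk_mul, hcon x hx y hy, ← QuotientGroup.mk_mul,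
      hsq y hy]
    rfl
  -- the Sylow 3-subgroup
  obtain ⟨P, hPn, k, hk⟩ := h232
  have hPn' : (P : Subgroup (H ⧸ Q)).Normal := hPn
  have hcardT : Nat.card ((H ⧸ Q) ⧸ (P : Subgroup (H ⧸ Q))) = 2 ^ k := by
    rw [← Subgroup.index_eq_card, hk]
  set f : H →* (H ⧸ Q) ⧸ (P : Subgroup (H ⧸ Q)) :=
    (QuotientGroup.mk' (P : Subgroup (H ⧸ Q))).comp (QuotientGroup.mk' Q) with hf
  have hfpow : ∀ t : (H ⧸ Q) ⧸ (P : Subgroup (H ⧸ Q)), t ^ 2 ^ k = 1 := by
    intro t
    rw [← hcardT]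
    exact pow_card_eq_one'
  have hfsq : ∀ a ∈ E, f a * f a = 1 := by
    intro a ha
    rw [← map_mul, hsq a ha, map_one]
  have hfcomm : ∀ a ∈ E, ∀ b ∈ E, f a * f b = f b * f a := by
    intro a ha b hb
    have key : (f a * f b) ^ 2 = 1 := by
      rcases h23 a ha b hb with h | h
      · rw [← map_mul, ← map_pow, h, map_one]
      · have h3 : (f a * f b) ^ 3 = 1 := by rw [← map_mul, ← map_pow, h, map_one]
        have h1 : f a * f b = 1 := hcop (f a * f b) 3 (2 ^ k)
          (Nat.Coprime.pow_right k (by norm_num)) h3 (hfpow _)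
        rw [h1]; simp
    have h1 : f a * f b * (f a * f b) = 1 := by rw [← pow_two]; exact key
    have hia : (f a)⁻¹ = f a := inv_eq_of_mul_eq_one_right (hfsq a ha)
    have hib : (f b)⁻¹ = f b := inv_eq_of_mul_eq_one_right (hfsq b hb)
    calc f a * f b = f a * f b * (f a * f b) * ((f b)⁻¹ * (f a)⁻¹) := by group
      _ = (f b)⁻¹ * (f a)⁻¹ := by rw [h1, one_mul]
      _ = f b * f a := by rw [hia, hib]
  have hconst := h6_image_const f hEd hgen hfcomm
  have hmemP : ∀ a ∈ E, ∀ b ∈ E, ((a * b : H) : H ⧸ Q) ∈ (P : Subgroup (H ⧸ Q)) := by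
    intro a ha b hb
    have h1 : f (a * b) = 1 := by
      rw [map_mul, hconst a ha, hconst b hb]
      exact hfsq d hdE
    rw [hf] at h1
    simp only [MonoidHom.coe_comp, Function.comp_apply, QuotientGroup.mk'_apply] at h1
    exact (QuotientGroup.eq_one_iff _).mp h1
  -- (2)
  have h2 : ∀ a ∈ E, ∀ b ∈ E, (((a * b : H) : H ⧸ Q)) ^ 3 = 1 := by
    intro a ha b hb
    obtain ⟨j, hj⟩ := P.isPGroup' ⟨_, hmemP a ha b hb⟩
    have hj' : (((a * b : H) : H ⧸ Q)) ^ 3 ^ j = 1 := by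
      have := congrArg Subtype.val hj
      simpa using this
    rcases h23 a ha b hb with h | h
    · have h22 : (((a * b : H) : H ⧸ Q)) ^ 2 = 1 := by
        rw [← QuotientGroup.mk_pow, h]; rfl
      have := hcop _ 2 (3 ^ j) (Nat.Coprime.pow_right j (by norm_num)) h22 hj'
      rw [this]; simp
    · rw [← QuotientGroup.mk_pow, h]; rfl
  refine ⟨h1, h2, ?_, h4⟩
  -- (3)
  have hle : prodSub ((QuotientGroup.mk' Q) '' E) ≤ (P : Subgroup (H ⧸ Q)) := by
    unfold prodSub
    rw [Subgroup.closure_le]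
    rintro g ⟨x, ⟨a, ha, rfl⟩, y, ⟨b, hb, rfl⟩, rfl⟩
    have := hmemP a ha b hb
    rw [QuotientGroup.mk_mul] at this
    exact this
  exact P.isPGroup'.to_le hle

end Cfsg.Agent.Lib.Helper28.T9
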