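import Cfsg.Agent.Lib.helper7.SAP.Defs
import Cfsg.Agent.Lib.helper6.SAPPERM6
import Cfsg.Agent.Lib.Helper13.SAPPERM3core
import Cfsg.Agent.Lib.Helper26.SAPALT3

/-! Project SAP (designer helper7), row PERM7B (`nh_mem`, `th_mem`, `th_sq_mem`), verbatim.  The cores take the statements
of PERM3 (`closure_zh`) and PERM3B (`mem_closure_zh_old`) as hypotheses; the wrappers feed them from helper13's cores
(`Helper13.SAPPERM3core`) and the landed ALT3 (`Helper26.SAPALT3`), so nothing waits for the PERM3 wrappers.  Cites PERM6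
(`helper6.SAPPERM6`). -/

namespace Cfsg.Agent.Lib.helper7.SAP

open Equiv

universe u

section perm
variable (p k l : ℕ)

/-- the sign of `th` is `1` when `l + k` is odd -/
theorem sapperm7b_sign_th_odd [NeZero p] (hlp : l + 1 ≤ p) (hodd : Odd (l + k)) :
    Perm.sign (th p k l) = 1 := by
  by_cases h2 : 2 ≤ l + k
  · rw [sign_th p k l hlp h2]
    exact Even.neg_one_pow (Odd.add_one hodd)
  · have hnd := sapperm6_arc_nodup p k l hlp
    have h1 : th p k l = 1 := by
      unfold th
      rw [List.formPerm_eq_one_iff _ hnd, sapperm6_length]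
      omega
    rw [h1, map_one]

/-- PERM7B core: `th` is in the closure of the Carmichael family when `l + k` is odd. -/
theorem sapperm7b_th_mem_core [NeZero p]
    (hclz : Subgroup.closure (Set.range (zh : Ix p k → Perm (Pt p k))) = alternatingGroup (Pt p k))
    (hlp : l + 1 ≤ p) (hodd : Odd (l + k)) :
    th p k l ∈ Subgroup.closure (Set.range (zh : Ix p k → Perm (Pt p k))) := by
  rw [hclz, Equiv.Perm.mem_alternatingGroup]
  exact sapperm7b_sign_th_odd p k l hlp hodd

/-- PERM7B core: the square of `th`. -/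
theorem sapperm7b_th_sq_mem_core [NeZero p]
    (hclz : Subgroup.closure (Set.range (zh : Ix p k → Perm (Pt p k))) = alternatingGroup (Pt p k)) :
    (th p k l) ^ 2 ∈ Subgroup.closure (Set.range (zh : Ix p k → Perm (Pt p k))) := by
  rw [hclz, Equiv.Perm.mem_alternatingGroup, map_pow]
  exact Int.units_sq _

theorem sapperm7b_pe_notMem_arcO (j : Fin k) : (pe j : Pt p k) ∉ arcO p k l := by
  intro hx
  unfold arcO at hx
  rw [List.mem_map] at hx
  obtain ⟨i, _, h⟩ := hx
  exact absurd h (by simp [po, pe])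

theorem sapperm7b_length_arcO : (arcO p k l).length = l := by
  simp [arcO]

/-- `nh` fixes the new points (own copy of PERM5 `nh_pe`) -/
theorem sapperm7b_nh_pe (j : Fin k) : nh p k l (pe j) = pe j := by
  unfold nh
  rw [Perm.mul_apply]
  have h1 : (if Even l then swap (ps1 : Pt p k) ps2 else 1) (pe j) = pe j := by
    split_ifs
    · exact Equiv.swap_apply_of_ne_of_ne (by simp [pe, ps1]) (by simp [pe, ps2])
    · rfl
  rw [h1]
  exact List.formPerm_apply_of_notMem (sapperm7b_pe_notMem_arcO p k l j)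

/-- the sign of `nh` -/
theorem sapperm7b_sign_nh [NeZero p] (hlp : l + 1 ≤ p) (hl : 1 ≤ l) : Perm.sign (nh p k l) = 1 := by
  have hnd : (arcO p k l).Nodup := (sapperm6_arc_nodup p k l hlp).of_append_left
  have hlen := sapperm7b_length_arcO p k l
  have hne : (ps1 : Pt p k) ≠ ps2 := by simp [ps1, ps2]
  unfold nh
  rw [map_mul]
  by_cases h2 : 2 ≤ l
  · have hcyc : ((arcO p k l).formPerm).IsCycle := List.isCycle_formPerm hnd (by rw [hlen]; exact h2)
    have hsupp : ((arcO p k l).formPerm).support = (arcO p k l).toFinset := by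
      apply List.support_formPerm_of_nodup _ hnd
      intro x hx
      rw [hx] at hlen
      simp at hlen
      omega
    rw [hcyc.sign, hsupp, List.toFinset_card_of_nodup hnd, hlen]
    by_cases he : Even l
    · rw [if_pos he, Equiv.Perm.sign_swap hne, he.neg_one_pow]
      simp
    · rw [if_neg he, map_one, (Nat.not_even_iff_odd.mp he).neg_one_pow]
      simp
  · have hl1 : l = 1 := by omega
    have h1 : (arcO p k l).formPerm = 1 := by
      rw [List.formPerm_eq_one_iff _ hnd, hlen]
      omega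
    have he : ¬ Even l := by rw [hl1]; decide
    rw [h1, if_neg he, map_one, one_mul]

/-- PERM7B core: `nh` is in the old subgroup. -/
theorem sapperm7b_nh_mem_core [NeZero p]
    (hold : ∀ σ : Perm (ZMod p ⊕ Fin 2), Perm.sign σ = 1 →
      (Equiv.sumCongr σ (Equiv.refl (Fin k)) : Perm (Pt p k)) ∈
        Subgroup.closure (Set.range fun x : ZMod p => zh (Sum.inl x : Ix p k)))
    (hlp : l + 1 ≤ p) (hl : 1 ≤ l) :
    nh p k l ∈ Subgroup.closure (Set.range fun x : ZMod p => zh (Sum.inl x : Ix p k)) := by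
  have hfix : ∀ j : Fin k, nh p k l (Sum.inr j) = Sum.inr j := sapperm7b_nh_pe p k l
  have hmaps : Set.MapsTo (nh p k l) (Set.range Sum.inl) (Set.range Sum.inl) := by
    rintro x ⟨y, rfl⟩
    rcases h : nh p k l (Sum.inl y) with y' | j
    · exact ⟨y', rfl⟩
    · exfalso
      have h' : nh p k l (Sum.inl y) = nh p k l (Sum.inr j) := by rw [h, hfix j]
      exact absurd ((nh p k l).injective h') (by simp)
  obtain ⟨⟨σ1, σ2⟩, hσ⟩ := Equiv.Perm.mem_sumCongrHom_range_of_perm_mapsTo_inl hmaps
  rw [Equiv.Perm.sumCongrHom_apply] at hσ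
  simp only at hσ
  have hσ2 : σ2 = Equiv.refl (Fin k) := by
    ext j
    have h := hfix j
    rw [← hσ] at h
    simp only [Equiv.sumCongr_apply, Sum.map_inr, Sum.inr.injEq] at h
    simp [h]
  have hsign : Perm.sign σ1 = 1 := by
    have h := sapperm7b_sign_nh p k l hlp hl
    rw [← hσ, Equiv.Perm.sign_sumCongr, hσ2] at h
    simpa using h
  have := hold σ1 hsign
  rw [← hσ, hσ2]
  exact this

/-- the statement of PERM3 `closure_zh`, from helper13's core and ALT3 -/
theorem sapperm7b_closure_zh [NeZero p] :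
    Subgroup.closure (Set.range (zh : Ix p k → Perm (Pt p k))) = alternatingGroup (Pt p k) :=
  sapperm3_closure_zh_core p k (altgen (ps1 : Pt p k) ps2 (by simp [ps1, ps2]))

/-- the statement of PERM3B `mem_closure_zh_old`, from helper13's core and ALT3 -/
theorem sapperm7b_mem_closure_zh_old [NeZero p] (σ : Perm (ZMod p ⊕ Fin 2)) (hσ : Perm.sign σ = 1) :
    (Equiv.sumCongr σ (Equiv.refl (Fin k)) : Perm (Pt p k)) ∈
      Subgroup.closure (Set.range fun x : ZMod p => zh (Sum.inl x : Ix p k)) :=
  sapperm3b_mem_core p k (altgen (Sum.inr 0 : ZMod p ⊕ Fin 2) (Sum.inr 1) (by simp)) σ hσ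

theorem nh_mem [NeZero p] (hlp : l + 1 ≤ p) (hl : 1 ≤ l) :
    nh p k l ∈ Subgroup.closure (Set.range fun x : ZMod p => zh (Sum.inl x : Ix p k)) :=
  sapperm7b_nh_mem_core p k l (sapperm7b_mem_closure_zh_old p k) hlp hl

theorem th_mem [NeZero p] (hlp : l + 1 ≤ p) (hodd : Odd (l + k)) :
    th p k l ∈ Subgroup.closure (Set.range (zh : Ix p k → Perm (Pt p k))) :=
  sapperm7b_th_mem_core p k l (sapperm7b_closure_zh p k) hlp hodd

theorem th_sq_mem [NeZero p] :
    (th p k l) ^ 2 ∈ Subgroup.closure (Set.range (zh : Ix p k → Perm (Pt p k))) :=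
  sapperm7b_th_sq_mem_core p k l (sapperm7b_closure_zh p k)

end perm

end Cfsg.Agent.Lib.helper7.SAP
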