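import Mathlib
import Cfsg.Agent.Lib.Helper20.GLE.Defs
import Cfsg.Agent.Lib.Helper27.STU.Defs3
import Cfsg.Agent.Lib.Helper24.STCI1
import Cfsg.Agent.Lib.Helper20.SPMA1
import Cfsg.Agent.Lib.Helper29.SPMA3
import Cfsg.Agent.Lib.Helper29.SPMA4
import Cfsg.Agent.Lib.helper6.GLEY4

/-!
# Project GLE (designer helper20, block GLE of S2291), block Y, CORES (helper6): Y1 `xrs_comm`, Y2 `xr_comm_ls`, Y3 `xrl_hh`, Y5 `sysU_of_glue`, Y7 `gen_top`,
Y8 `iso_of_glue` with the statements of the cited rows (E8 E9 I3 I4 I5 T3 T7 C3 C5) as hypotheses.  Own-name copies of small rows: `gley_xrs_add`, `gley_xrs_zero`,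
`gley_xrl_mul`, `gley_xrl_mem_LB`.
-/

set_option autoImplicit false

namespace Cfsg.Agent.Lib.Helper20.GLE

open Cfsg.Agent.Lib.helper3.STC (ng ab)
open Cfsg.Agent.Lib.helper3.SPM (Pts pe sgm sn sig2 ptsFin pe2)
open Cfsg.Agent.Lib.Helper27.STU
open Cfsg.Agent.Lib.helper17.SLP (cm)

universe u v w x v' y

section main
variable {F : Type u} [Field F] [StarRing F] {L : Type x} [Group L] {ι : Type w} [DecidableEq ι] {G : Type v} [Group G]
  (S₂ : SysU F False (Fin 2) L) (swL : L) (ζ : F) (p : Pts ι) (ν : Equiv.Perm ι →* G) (lam : L →* G)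

omit [DecidableEq ι] in
theorem gley_sn_ne (a b : ι ⊕ ι) : sn a 0 ≠ sn b 1 := by
  cases a <;> cases b <;> simp [sn]

omit [DecidableEq ι] in
theorem gley_sn_ne' (a b : ι ⊕ ι) : sn a 0 ≠ ng (sn b 1) := by
  cases a <;> cases b <;> simp [sn, ng]

omit [DecidableEq ι] in
theorem gley_ab_sn (a : ι ⊕ ι) (k : Fin 2) : ab (sn a k) = k := by
  cases a <;> rfl

omit [DecidableEq ι] in
theorem gley_ne_of_ab {a b : ι ⊕ ι} (h : ab a ≠ ab b) : a ≠ b ∧ a ≠ ng b := by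
  refine ⟨fun e => h (by rw [e]), fun e => h ?_⟩
  rw [e, Cfsg.Agent.Lib.helper3.STC.ab_ng]

omit [DecidableEq ι] in
theorem gley_ab_of_ne {a b : ι ⊕ ι} (h : a ≠ b) (h' : a ≠ ng b) : ab a ≠ ab b := by
  intro e
  rcases Cfsg.Agent.Lib.helper3.STC.ab_eq_iff.1 e with e | e
  · exact h e
  · exact h' e

/-- own-name copy of I2 `xrs_add`. -/
theorem gley_xrs_add (a b : ι ⊕ ι) (t u : F) :
    xrs S₂ p ν lam a b t * xrs S₂ p ν lam a b u = xrs S₂ p ν lam a b (t + u) := by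
  unfold xrs
  rw [← map_mul, S₂.adds _ _ (gley_sn_ne a b) (gley_sn_ne' a b)]

/-- own-name copy of I2 `xrs_zero`. -/
theorem gley_xrs_zero (a b : ι ⊕ ι) : xrs S₂ p ν lam a b (0 : F) = 1 := by
  have h := gley_xrs_add S₂ p ν lam a b 0 0
  rw [add_zero] at h
  exact mul_eq_left.1 h

/-- own-name copy of I2 `xrl_mul`. -/
theorem gley_xrl_mul (a : ι ⊕ ι) (ξ η : Lam F False) :
    xrl S₂ p ν lam a ξ * xrl S₂ p ν lam a η = xrl S₂ p ν lam a (ξ * η) := by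
  unfold xrl
  rw [← map_mul, S₂.addl]

/-- own-name copy of T2 `xrl_mem_LB`. -/
theorem gley_xrl_mem_LB (a : ι ⊕ ι) (ξ : Lam F False) : xrl S₂ p ν lam a ξ ∈ LB S₂ p ν lam (ab a) := by
  unfold xrl LB
  refine Subgroup.mem_map_of_mem _ ?_
  refine Subgroup.subset_closure (Or.inr ⟨sn a 1, ξ, ⟨gley_ab_sn a 1, ?_⟩, rfl⟩)
  rw [Cfsg.Agent.Lib.helper3.STC.ab_ng]
  exact gley_ab_sn a 1

/-- Y3 core: `hLB` = the statement of T3 `LB_comm`. -/
theorem gley3_core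
    (hLB : ∀ {i k : ι} (_ : i ≠ k) {g g' : G} (_ : g ∈ LB S₂ p ν lam i) (_ : g' ∈ LB S₂ p ν lam k), Commute g g')
    {a b : ι ⊕ ι} (hab : ab a ≠ ab b) (ξ η : Lam F False) :
    xrl S₂ p ν lam a ξ * xrl S₂ p ν lam b η * (xrl S₂ p ν lam a ξ)⁻¹ * (xrl S₂ p ν lam b η)⁻¹ =
      xrs S₂ p ν lam a (ng b) (-(ξ.v * star η.v)) := by
  have h := hLB hab (gley_xrl_mem_LB S₂ p ν lam a ξ) (gley_xrl_mem_LB S₂ p ν lam b η)
  rw [ξ.hv not_false, zero_mul, neg_zero, gley_xrs_zero, h.eq, mul_inv_cancel_right, mul_inv_cancel]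

/-- Y2 core: `hpair` = the statement of I5 `xr_comm_ls_pair`, `hd3` = the statement of T7 `d3_gen`. -/
theorem gley2_core
    (hpair : ∀ {i j : ι} (_ : i ≠ j) {a c d : ι ⊕ ι}
      (_ : ab a = i ∨ ab a = j) (_ : ab c = i ∨ ab c = j) (_ : ab d = i ∨ ab d = j)
      (_ : ab c ≠ ab d) (_ : c ≠ ng a) (_ : d ≠ a) (ξ : Lam F False) (u : F),
      xrl S₂ p ν lam a ξ * xrs S₂ p ν lam c d u = xrs S₂ p ν lam c d u * xrl S₂ p ν lam a ξ)
    (hd3 : ∀ {a b : ι ⊕ ι} (_ : ab a ≠ ab b) {k : ι} (_ : k ≠ ab a) (_ : k ≠ ab b)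
      (t : F) {g : G} (_ : g ∈ LB S₂ p ν lam k), Commute (xrs S₂ p ν lam a b t) g)
    {a c d : ι ⊕ ι} (hcd : ab c ≠ ab d) (hca : c ≠ ng a) (hda : d ≠ a) (ξ : Lam F False) (u : F) :
    xrl S₂ p ν lam a ξ * xrs S₂ p ν lam c d u = xrs S₂ p ν lam c d u * xrl S₂ p ν lam a ξ := by
  by_cases hAC : ab a = ab c
  · exact hpair hcd (Or.inl hAC) (Or.inl rfl) (Or.inr rfl) hcd hca hda ξ u
  · by_cases hAD : ab a = ab d
    · exact hpair hcd (Or.inr hAD) (Or.inl rfl) (Or.inr rfl) hcd hca hda ξ u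
    · exact ((hd3 hcd hAC hAD u (gley_xrl_mem_LB S₂ p ν lam a ξ)).eq).symm

/-- Y1 core: `hpair` = I5 `xrs_comm_pair`, `hp2` / `hp4` = C3 `p2_gen` / `p4_gen`, `hsym` = I3 `xrs_sym`. -/
theorem gley1_core
    (hpair : ∀ {i j : ι} (_ : i ≠ j) {a b c d : ι ⊕ ι}
      (_ : ab a = i ∨ ab a = j) (_ : ab b = i ∨ ab b = j) (_ : ab c = i ∨ ab c = j) (_ : ab d = i ∨ ab d = j)
      (_ : ab a ≠ ab b) (_ : ab c ≠ ab d) (_ : b ≠ c) (_ : a ≠ d) (_ : b ≠ ng d) (_ : a ≠ ng c) (t u : F),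
      xrs S₂ p ν lam a b t * xrs S₂ p ν lam c d u = xrs S₂ p ν lam c d u * xrs S₂ p ν lam a b t)
    (hp2 : ∀ {a b c : ι ⊕ ι}, ab a ≠ ab b → ab b ≠ ab c → ab a ≠ ab c → P2 S₂ p ν lam a b c)
    (hp4 : ∀ {a b c e : ι ⊕ ι}, ab a ≠ ab b → ab a ≠ ab c → ab a ≠ ab e → ab b ≠ ab c → ab b ≠ ab e →
      ab c ≠ ab e → P4 S₂ p ν lam a b c e)
    (hsym : ∀ {a b : ι ⊕ ι} (_ : ab a ≠ ab b) (t : F),
      xrs S₂ p ν lam a b t = xrs S₂ p ν lam (ng b) (ng a) (-(star t)))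
    {a b c d : ι ⊕ ι} (hAB : ab a ≠ ab b) (hCD : ab c ≠ ab d) (hbc : b ≠ c) (had : a ≠ d)
    (hbd : b ≠ ng d) (hac : a ≠ ng c) (t u : F) :
    xrs S₂ p ν lam a b t * xrs S₂ p ν lam c d u = xrs S₂ p ν lam c d u * xrs S₂ p ν lam a b t := by
  have ab_ng := @Cfsg.Agent.Lib.helper3.STC.ab_ng ι
  have ng_ng := @Cfsg.Agent.Lib.helper3.STC.ng_ng ι
  have ab_eq_iff := @Cfsg.Agent.Lib.helper3.STC.ab_eq_iff ι
  by_cases hAC : ab a = ab c
  · by_cases hBD : ab b = ab d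
    · exact hpair hAB (Or.inl rfl) (Or.inr rfl) (Or.inl hAC.symm) (Or.inr hBD.symm)
        hAB hCD hbc had hbd hac t u
    · -- `a = c`
      have hc : c = a := by
        rcases ab_eq_iff.1 hAC with h | h
        · exact h.symm
        · exact absurd h hac
      subst hc
      exact (hp2 hAB hBD hCD t u).eq
  · by_cases hAD : ab a = ab d
    · by_cases hBC : ab b = ab c
      · exact hpair hAB (Or.inl rfl) (Or.inr rfl) (Or.inr hBC.symm) (Or.inl hAD.symm)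
          hAB hCD hbc had hbd hac t u
      · -- `d = ng a`
        have hd : d = ng a := by
          rcases ab_eq_iff.1 hAD with h | h
          · exact absurd h had
          · rw [h, ng_ng]
        subst hd
        rw [hsym hCD u, ng_ng]
        have h1 : ab b ≠ ab (ng c) := by rw [ab_ng]; exact hBC
        have h2 : ab a ≠ ab (ng c) := by rw [ab_ng]; exact hAC
        exact (hp2 hAB h1 h2 t _).eq
    · by_cases hBC : ab b = ab c
      · -- `c = ng b`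
        have hc : c = ng b := by
          rcases ab_eq_iff.1 hBC with h | h
          · exact absurd h hbc
          · rw [h, ng_ng]
        subst hc
        rw [hsym hAB t]
        have hBD : ab b ≠ ab d := by rw [← ab_ng b]; exact hCD
        have h1 : ab (ng b) ≠ ab (ng a) := by rw [ab_ng, ab_ng]; exact fun h => hAB h.symm
        have h2 : ab (ng a) ≠ ab d := by rw [ab_ng]; exact hAD
        have h3 : ab (ng b) ≠ ab d := by rw [ab_ng]; exact hBD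
        exact (hp2 h1 h2 h3 _ u).eq
      · by_cases hBD : ab b = ab d
        · -- `b = d`
          have hd : d = b := by
            rcases ab_eq_iff.1 hBD with h | h
            · exact h.symm
            · exact absurd h hbd
          subst hd
          rw [hsym hAB t, hsym hCD u]
          have h1 : ab (ng d) ≠ ab (ng a) := by rw [ab_ng, ab_ng]; exact fun h => hAB h.symm
          have h2 : ab (ng a) ≠ ab (ng c) := by rw [ab_ng, ab_ng]; exact hAC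
          have h3 : ab (ng d) ≠ ab (ng c) := by rw [ab_ng, ab_ng]; exact fun h => hCD h.symm
          exact (hp2 h1 h2 h3 _ _).eq
        · exact (hp4 hAB hAC hAD hBC hBD hCD t u).eq

/-- Y5 core: the hypotheses are the conclusions of I3, Y1, Y2, C5, I4, Y3 for the given data (I2 and Y4 are cited). -/
theorem gley5_core
    (hsym : ∀ {a b : ι ⊕ ι} (_ : ab a ≠ ab b) (t : F),
      xrs S₂ p ν lam a b t = xrs S₂ p ν lam (ng b) (ng a) (-(star t)))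
    (hcomm : ∀ {a b c d : ι ⊕ ι} (_ : ab a ≠ ab b) (_ : ab c ≠ ab d) (_ : b ≠ c) (_ : a ≠ d) (_ : b ≠ ng d) (_ : a ≠ ng c) (t u : F),
      xrs S₂ p ν lam a b t * xrs S₂ p ν lam c d u = xrs S₂ p ν lam c d u * xrs S₂ p ν lam a b t)
    (hcommls : ∀ {a c d : ι ⊕ ι} (_ : ab c ≠ ab d) (_ : c ≠ ng a) (_ : d ≠ a) (ξ : Lam F False) (u : F),
      xrl S₂ p ν lam a ξ * xrs S₂ p ν lam c d u = xrs S₂ p ν lam c d u * xrl S₂ p ν lam a ξ)
    (hp1 : ∀ {a b c : ι ⊕ ι}, ab a ≠ ab b → ab b ≠ ab c → ab a ≠ ab c → P1 S₂ p ν lam a b c)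
    (hssl : ∀ {a b : ι ⊕ ι} (_ : ab a ≠ ab b) (t u : F),
      xrs S₂ p ν lam a b t * xrs S₂ p ν lam b (ng a) u * (xrs S₂ p ν lam a b t)⁻¹ * (xrs S₂ p ν lam b (ng a) u)⁻¹ =
        xrl S₂ p ν lam a (Lam.tr (t * u)))
    (hls : ∀ {a b : ι ⊕ ι} (_ : ab a ≠ ab b) (ξ : Lam F False) (u : F),
      xrl S₂ p ν lam a ξ * xrs S₂ p ν lam (ng a) b u * (xrl S₂ p ν lam a ξ)⁻¹ * (xrs S₂ p ν lam (ng a) b u)⁻¹ =
        xrs S₂ p ν lam a b (ξ.c * u) * xrl S₂ p ν lam (ng b) (Lam.act (star u) (Lam.bar ξ)))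
    (hrel : ∀ {a b : ι ⊕ ι} (_ : ab a ≠ ab b) (t u : F) (_ : t ≠ 0),
      Cfsg.Agent.Lib.helper15.St2.cj (xrs S₂ p ν lam a b t * xrs S₂ p ν lam b a (-t⁻¹) * xrs S₂ p ν lam a b t) (xrs S₂ p ν lam a b u) =
        xrs S₂ p ν lam b a (-(t⁻¹ ^ 2 * u)))
    (hhh : ∀ {a b : ι ⊕ ι} (_ : ab a ≠ ab b) (ξ η : Lam F False),
      xrl S₂ p ν lam a ξ * xrl S₂ p ν lam b η * (xrl S₂ p ν lam a ξ)⁻¹ * (xrl S₂ p ν lam b η)⁻¹ =
        xrs S₂ p ν lam a (ng b) (-(ξ.v * star η.v))) :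
    ∃ S : SysU F False ι G, (∀ a b t, S.xs a b t = xrs S₂ p ν lam a b t) ∧ ∀ a ξ, S.xl a ξ = xrl S₂ p ν lam a ξ :=
  ⟨{ xs := xrs S₂ p ν lam
     xl := xrl S₂ p ν lam
     sym := fun a b hab hab' t => hsym (gley_ab_of_ne hab hab') t
     adds := fun a b _ _ t u => gley_xrs_add S₂ p ν lam a b t u
     addl := fun a ξ η => gley_xrl_mul S₂ p ν lam a ξ η
     comm_ss := fun a b c d hab hab' hcd hcd' hbc had hbd hac t u =>
       hcomm (gley_ab_of_ne hab hab') (gley_ab_of_ne hcd hcd') hbc had hbd hac t u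
     comm_ls := fun a c d hcd hcd' hca hda ξ u => hcommls (gley_ab_of_ne hcd hcd') hca hda ξ u
     comm3 := fun a b c hab hab' hbc hbc' hac hac' t u =>
       hp1 (gley_ab_of_ne hab hab') (gley_ab_of_ne hbc hbc') (gley_ab_of_ne hac hac') t u
     ssl := fun a b hab hab' t u => hssl (gley_ab_of_ne hab hab') t u
     ls := fun a b hab hab' ξ u => hls (gley_ab_of_ne hab hab') ξ u
     hh := fun a b hab hab' ξ η => hhh (gley_ab_of_ne hab hab') ξ η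
     rel := fun a b hab hab' t u ht => hrel (gley_ab_of_ne hab hab') t u ht
     r1 := fun a => by
       classical
       exact gley4_r1 S₂ p ν lam a },
   fun _ _ _ => rfl, fun _ _ => rfl⟩

/-! ## Y7, Y8 -/

theorem gley7_ab_pe {a' b' : Fin 2 ⊕ Fin 2} (hab' : ab a' ≠ ab b') : ab (pe p a') ≠ ab (pe p b') := by
  rw [Cfsg.Agent.Lib.helper3.SPM.pe_eq_pe2, Cfsg.Agent.Lib.helper3.SPM.pe_eq_pe2,
    Cfsg.Agent.Lib.helper3.SPM.ab_pe2, Cfsg.Agent.Lib.helper3.SPM.ab_pe2]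
  intro h
  apply hab'
  have h01 := p.h01
  generalize ab a' = k at h ⊢
  generalize ab b' = l at h ⊢
  fin_cases k <;> fin_cases l <;> simp_all

/-- every root element lies in the subgroup generated by the root elements. -/
theorem gley7_xrs_mem (S : SysU F False ι G) (hxs : ∀ a b t, S.xs a b t = xrs S₂ p ν lam a b t)
    {a b : ι ⊕ ι} (hab : ab a ≠ ab b) (t : F) : xrs S₂ p ν lam a b t ∈ S.XQ (fun _ _ => True) :=
  Subgroup.subset_closure (Or.inl ⟨a, b, t, (gley_ne_of_ab hab).1, (gley_ne_of_ab hab).2, trivial, (hxs a b t).symm⟩)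

theorem gley7_xrl_mem (S : SysU F False ι G) (hxl : ∀ a ξ, S.xl a ξ = xrl S₂ p ν lam a ξ)
    (a : ι ⊕ ι) (ξ : Lam F False) : xrl S₂ p ν lam a ξ ∈ S.XQ (fun _ _ => True) :=
  Subgroup.subset_closure (Or.inr ⟨a, ξ, trivial, (hxl a ξ).symm⟩)

/-- the image of `lam` lies in the subgroup generated by the root elements (with the statements of E8 at `σ = 1`). -/
theorem gley7_lam_mem (hesp : S₂.XQ (fun _ _ => True) = ⊤) (S : SysU F False ι G)
    (hxs : ∀ a b t, S.xs a b t = xrs S₂ p ν lam a b t) (hxl : ∀ a ξ, S.xl a ξ = xrl S₂ p ν lam a ξ)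
    (hE8s : ∀ {a' b' : Fin 2 ⊕ Fin 2} (_ : ab a' ≠ ab b') (t : F),
      lamC ν lam 1 (S₂.xs a' b' t) = xrs S₂ p ν lam (sgm 1 (pe p a')) (sgm 1 (pe p b')) t)
    (hE8l : ∀ (a' : Fin 2 ⊕ Fin 2) (ξ : Lam F False),
      lamC ν lam 1 (S₂.xl a' ξ) = xrl S₂ p ν lam (sgm 1 (pe p a')) ξ)
    (g : L) : lam g ∈ S.XQ (fun _ _ => True) := by
  have hg : g ∈ S₂.XQ (fun _ _ => True) := by
    rw [hesp]; exact Subgroup.mem_top g
  have h1 : ∀ g : L, lamC ν lam 1 g = lam g := by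
    intro g
    show ν 1 * lam g * (ν 1)⁻¹ = lam g
    rw [map_one, one_mul, inv_one, mul_one]
  have hle : S₂.XQ (fun _ _ => True) ≤ (S.XQ (fun _ _ => True)).comap lam := by
    conv_lhs => unfold SysU.XQ
    rw [Subgroup.closure_le]
    rintro _ (⟨a', b', t, hab', hab'', -, rfl⟩ | ⟨a', ξ, -, rfl⟩)
    · show lam (S₂.xs a' b' t) ∈ S.XQ (fun _ _ => True)
      have hAB : ab a' ≠ ab b' := gley_ab_of_ne hab' hab''
      rw [← h1, hE8s hAB t, Cfsg.Agent.Lib.helper3.SPM.sgm_one]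
      exact gley7_xrs_mem S₂ p ν lam S hxs (gley7_ab_pe p hAB) t
    · show lam (S₂.xl a' ξ) ∈ S.XQ (fun _ _ => True)
      rw [← h1, hE8l a' ξ]
      exact gley7_xrl_mem S₂ p ν lam S hxl _ ξ
  exact hle hg

/-- the subgroup generated by the root elements is normalised by the `ν σ` (with the statements of E9). -/
theorem gley7_conj_mem (S : SysU F False ι G)
    (hxs : ∀ a b t, S.xs a b t = xrs S₂ p ν lam a b t) (hxl : ∀ a ξ, S.xl a ξ = xrl S₂ p ν lam a ξ)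
    (hE9s : ∀ (σ : Equiv.Perm ι) {a b : ι ⊕ ι} (_ : ab a ≠ ab b) (t : F),
      ν σ * xrs S₂ p ν lam a b t * (ν σ)⁻¹ = xrs S₂ p ν lam (sgm σ a) (sgm σ b) t)
    (hE9l : ∀ (σ : Equiv.Perm ι) (a : ι ⊕ ι) (ξ : Lam F False),
      ν σ * xrl S₂ p ν lam a ξ * (ν σ)⁻¹ = xrl S₂ p ν lam (sgm σ a) ξ)
    (σ : Equiv.Perm ι) {g : G} (hg : g ∈ S.XQ (fun _ _ => True)) :
    ν σ * g * (ν σ)⁻¹ ∈ S.XQ (fun _ _ => True) := by
  have hle : S.XQ (fun _ _ => True) ≤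
      (S.XQ (fun _ _ => True)).comap (MulAut.conj (ν σ)).toMonoidHom := by
    conv_lhs => unfold SysU.XQ
    rw [Subgroup.closure_le]
    rintro _ (⟨a, b, t, hab, hab', -, rfl⟩ | ⟨a, ξ, -, rfl⟩)
    · show ν σ * S.xs a b t * (ν σ)⁻¹ ∈ S.XQ (fun _ _ => True)
      have hAB : ab a ≠ ab b := gley_ab_of_ne hab hab'
      rw [hxs, hE9s σ hAB t]
      refine gley7_xrs_mem S₂ p ν lam S hxs ?_ t
      rw [Cfsg.Agent.Lib.helper3.SPM.ab_sgm, Cfsg.Agent.Lib.helper3.SPM.ab_sgm]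
      exact fun h => hAB (σ.injective h)
    · show ν σ * S.xl a ξ * (ν σ)⁻¹ ∈ S.XQ (fun _ _ => True)
      rw [hxl, hE9l σ a ξ]
      exact gley7_xrl_mem S₂ p ν lam S hxl _ ξ
  exact hle hg

/-- Y7 core: `gen_top` with the statements of E8 (only at `σ = 1`) and E9 as hypotheses. -/
theorem gley7_core [Fintype ι] (hsw : ν (Equiv.swap p.o0 p.o1) = lam swL) (hesp : S₂.XQ (fun _ _ => True) = ⊤)
    (hE8s : ∀ {a' b' : Fin 2 ⊕ Fin 2} (_ : ab a' ≠ ab b') (t : F),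
      lamC ν lam 1 (S₂.xs a' b' t) = xrs S₂ p ν lam (sgm 1 (pe p a')) (sgm 1 (pe p b')) t)
    (hE8l : ∀ (a' : Fin 2 ⊕ Fin 2) (ξ : Lam F False),
      lamC ν lam 1 (S₂.xl a' ξ) = xrl S₂ p ν lam (sgm 1 (pe p a')) ξ)
    (hE9s : ∀ (σ : Equiv.Perm ι) {a b : ι ⊕ ι} (_ : ab a ≠ ab b) (t : F),
      ν σ * xrs S₂ p ν lam a b t * (ν σ)⁻¹ = xrs S₂ p ν lam (sgm σ a) (sgm σ b) t)
    (hE9l : ∀ (σ : Equiv.Perm ι) (a : ι ⊕ ι) (ξ : Lam F False),
      ν σ * xrl S₂ p ν lam a ξ * (ν σ)⁻¹ = xrl S₂ p ν lam (sgm σ a) ξ)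
    (S : SysU F False ι G) (hxs : ∀ a b t, S.xs a b t = xrs S₂ p ν lam a b t)
    (hxl : ∀ a ξ, S.xl a ξ = xrl S₂ p ν lam a ξ)
    (hgen : Subgroup.closure (Set.range ν ∪ Set.range lam) = ⊤) : S.XQ (fun _ _ => True) = ⊤ := by
  have hlam : ∀ g, lam g ∈ S.XQ (fun _ _ => True) := gley7_lam_mem S₂ p ν lam hesp S hxs hxl hE8s hE8l
  have hnu : ∀ σ : Equiv.Perm ι, ν σ ∈ S.XQ (fun _ _ => True) := by
    intro σ
    have hσ : σ ∈ Subgroup.closure {τ : Equiv.Perm ι | τ.IsSwap} := by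
      rw [Equiv.Perm.closure_isSwap]; exact Subgroup.mem_top σ
    have hle : Subgroup.closure {τ : Equiv.Perm ι | τ.IsSwap} ≤ (S.XQ (fun _ _ => True)).comap ν := by
      rw [Subgroup.closure_le]
      rintro τ ⟨i, j, hij, rfl⟩
      show ν (Equiv.swap i j) ∈ S.XQ (fun _ _ => True)
      have e1 : Equiv.swap i j = sig2 p i j * Equiv.swap p.o0 p.o1 * (sig2 p i j)⁻¹ := by
        rw [← Equiv.swap_apply_apply, Cfsg.Agent.Lib.helper3.SPM.sig2_o0 p hij, Cfsg.Agent.Lib.helper3.SPM.sig2_o1 p hij]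
      rw [e1, map_mul, map_mul, map_inv, hsw]
      exact gley7_conj_mem S₂ p ν lam S hxs hxl hE9s hE9l _ (hlam _)
    exact hle hσ
  rw [eq_top_iff, ← hgen, Subgroup.closure_le]
  rintro g (⟨σ, rfl⟩ | ⟨g', rfl⟩)
  · exact hnu σ
  · exact hlam g'

/-- Y8 core: `iso_of_glue` with the statements of Y5 (`sysU_of_glue`) and Y7 (`gen_top`) as hypotheses. -/
theorem gley8_core
    (hY5 : ∃ S : SysU F False ι G, (∀ a b t, S.xs a b t = xrs S₂ p ν lam a b t) ∧ ∀ a ξ, S.xl a ξ = xrl S₂ p ν lam a ξ)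
    (hY7 : ∀ (S : SysU F False ι G), (∀ a b t, S.xs a b t = xrs S₂ p ν lam a b t) → (∀ a ξ, S.xl a ξ = xrl S₂ p ν lam a ξ) →
      S.XQ (fun _ _ => True) = ⊤)
    {M : Type v'} [Group M] (S₀ : SysU F False ι M) {V : Type y} [AddCommGroup V] [Module F V] (R₀ : S₀.Rep V)
    (hgen₀ : S₀.XQ (fun _ _ => True) = ⊤) (π : G →* M)
    (hxs₀ : ∀ a b t, ab a ≠ ab b → xrs S₂ p (π.comp ν) (π.comp lam) a b t = S₀.xs a b t)
    (hxl₀ : ∀ a ξ, xrl S₂ p (π.comp ν) (π.comp lam) a ξ = S₀.xl a ξ)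
    (hinj : ∀ (S : SysU F False ι G) (R : S.Rep V), S.XQ (fun _ _ => True) = ⊤ → Function.Injective R.φ) :
    Function.Bijective π := by
  obtain ⟨S, hxs, hxl⟩ := hY5
  have hπs : ∀ a b, a ≠ b → a ≠ ng b → ∀ t, π (S.xs a b t) = S₀.xs a b t := by
    intro a b hab hab' t
    rw [hxs]
    unfold xrs
    rw [gley6_map_lamC]
    exact hxs₀ a b t (gley_ab_of_ne hab hab')
  have hπl : ∀ a ξ, π (S.xl a ξ) = S₀.xl a ξ := by
    intro a ξ
    rw [hxl]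
    unfold xrl
    rw [gley6_map_lamC]
    exact hxl₀ a ξ
  have hi : Function.Injective (R₀.comap S π hπs hπl).φ := hinj S _ (hY7 S hxs hxl)
  refine ⟨?_, ?_⟩
  · intro g g' hgg
    apply hi
    rw [SysU.Rep.comap_phi, SysU.Rep.comap_phi, hgg]
  · have hle : S₀.XQ (fun _ _ => True) ≤ π.range := by
      conv_lhs => unfold SysU.XQ
      rw [Subgroup.closure_le]
      rintro _ (⟨a, b, t, hab, hab', -, rfl⟩ | ⟨a, ξ, -, rfl⟩)
      · exact ⟨S.xs a b t, hπs a b hab hab' t⟩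
      · exact ⟨S.xl a ξ, hπl a ξ⟩
    intro y
    have hy : y ∈ π.range := hle (by rw [hgen₀]; exact Subgroup.mem_top y)
    exact hy

end main

end Cfsg.Agent.Lib.Helper20.GLE
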