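import Mathlib
import Cfsg.Agent.Lib.Helper20.GLE.Defs
import Cfsg.Agent.Lib.helper6.GLEYcore
import Cfsg.Agent.Lib.Helper24.GLET1
import Cfsg.Agent.Lib.Helper9.GLEE5
import Cfsg.Agent.Lib.Helper9.GLEE9

/-!
# Project GLE (designer helper20, block GLE of S2291), rows Y3 (`xrl_hh`) and Y7 (`gen_top`) (helper6), VERBATIM vs `GLE/SkelA`:
wrappers of `helper6.GLEYcore` on T3 `LB_comm` (Helper24.GLET1), E8 `lamC_xrs lamC_xrl` (Helper9.GLEE5), E9 `xrs_conj xrl_conj` (Helper9.GLEE9).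
-/

set_option autoImplicit false

namespace Cfsg.Agent.Lib.Helper20.GLE

open Cfsg.Agent.Lib.helper3.STC (ng ab)
open Cfsg.Agent.Lib.helper3.SPM (Pts pe sgm sn sig2 ptsFin pe2)
open Cfsg.Agent.Lib.Helper27.STU
open Cfsg.Agent.Lib.helper17.SLP (cm)

universe u v w x v' y

section main
variable {F : Type u} [Field F] [StarRing F] {L : Type x} [Group L] {ι : Type w} [Fintype ι] [DecidableEq ι] {G : Type v} [Group G]
  (S₂ : SysU F False (Fin 2) L) (swL : L) (ζ : F) (p : Pts ι) (ν : Equiv.Perm ι →* G) (lam : L →* G)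

/-- Y3 [S]  the axiom `hh` (trivial in the even case): `LB_comm` with `xrl_mem_LB`; the right hand side is `xrs _ _ (-(0 * _)) = 1` (`ξ.hv`, `xrs_zero`). -/
theorem xrl_hh (H : Glue S₂ swL ζ p ν lam) (hU : UFacts S₂ swL ζ) {a b : ι ⊕ ι} (hab : ab a ≠ ab b) (ξ η : Lam F False) :
    xrl S₂ p ν lam a ξ * xrl S₂ p ν lam b η * (xrl S₂ p ν lam a ξ)⁻¹ * (xrl S₂ p ν lam b η)⁻¹ =
      xrs S₂ p ν lam a (ng b) (-(ξ.v * star η.v)) :=
  gley3_core S₂ p ν lam (fun hik _ _ hg hg' => LB_comm S₂ swL ζ p ν lam H hU hik hg hg') hab ξ η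

/-- Y7 [M]  model SPM Y5: generation.  `K := S.XQ (fun _ _ => True)` contains every `xrs a b t` (`ab a ≠ ab b`) and `xrl a ξ`.  `range lam ≤ K`: `hU.esp` (every element of `L` is a product of `S₂.xs`, `S₂.xl`) and
`lam (S₂.xs a' b' t) = xrs (pe p a') (pe p b') t` (`lamC_xrs`, `σ = 1`), `lam (S₂.xl a' ξ) = xrl (pe p a') ξ`.  `range ν ≤ K`: `ν (swap o0 o1) = lam swL ∈ K`; `K` is normalised by `ν σ` (`xrs_conj`, `xrl_conj`), so
`ν (swap i j) = ν σ * ν (swap o0 o1) * (ν σ)⁻¹ ∈ K` for `σ = sig2 p i j`; the transpositions generate `Equiv.Perm ι` (`Equiv.Perm.closure_isSwap`). -/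
theorem gen_top (H : Glue S₂ swL ζ p ν lam) (hU : UFacts S₂ swL ζ) (S : SysU F False ι G) (hxs : ∀ a b t, S.xs a b t = xrs S₂ p ν lam a b t)
    (hxl : ∀ a ξ, S.xl a ξ = xrl S₂ p ν lam a ξ)
    (hgen : Subgroup.closure (Set.range ν ∪ Set.range lam) = ⊤) : S.XQ (fun _ _ => True) = ⊤ :=
  gley7_core S₂ swL p ν lam H.sw hU.esp
    (fun hab' t => lamC_xrs S₂ swL ζ p ν lam H hU 1 hab' t)
    (fun a' ξ => lamC_xrl S₂ swL ζ p ν lam H hU 1 a' ξ)
    (fun σ _ _ hab t => xrs_conj S₂ swL ζ p ν lam H hU σ hab t)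
    (fun σ a ξ => xrl_conj S₂ swL ζ p ν lam H hU σ a ξ)
    S hxs hxl hgen

end main

end Cfsg.Agent.Lib.Helper20.GLE
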