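import Mathlib
import Cfsg.Agent.Lib.Helper20.GLE.Defs
import Cfsg.Agent.Lib.helper6.GLEYcore
import Cfsg.Agent.Lib.helper6.GLEY2
import Cfsg.Agent.Lib.helper6.GLEY3
import Cfsg.Agent.Lib.Helper20.GLEI3
import Cfsg.Agent.Lib.Helper11.GLEC2

/-!
# Project GLE (designer helper20, block GLE of S2291), rows Y1 (`xrs_comm`), Y5 (`sysU_of_glue`), Y8 (`iso_of_glue`) (helper6), VERBATIM vs `GLE/SkelA`:
wrappers of `helper6.GLEYcore` on I3 I4 I5 (Helper20.GLEI3), C3 C5 (Helper11.GLEC2), Y2 (helper6.GLEY2), Y3 Y7 (helper6.GLEY3).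
-/

set_option autoImplicit false

namespace Cfsg.Agent.Lib.Helper20.GLE

open Cfsg.Agent.Lib.helper3.STC (ng ab)
open Cfsg.Agent.Lib.helper3.SPM (Pts pe sgm sn sig2 ptsFin pe2)
open Cfsg.Agent.Lib.Helper27.STU
open Cfsg.Agent.Lib.helper17.SLP (cm)

universe u v w x v' y

section main
variable {F : Type u} [Field F] [StarRing F] {L : Type x} [Group L] {ι : Type w} [Fintype ι] [DecidableEq ι] {G : Type v} [Group G]
  (S₂ : SysU F False (Fin 2) L) (swL : L) (ζ : F) (p : Pts ι) (ν : Equiv.Perm ι →* G) (lam : L →* G)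

/-- Y1 [L]  model SPM Y1: the commutation axiom `comm_ss` (here `ab a ≠ ab b`, `ab c ≠ ab d`).  If `{ab a, ab b} = {ab c, ab d}`: `xrs_comm_pair`.  If the four absolute values are distinct: `p4_gen`.  Exactly one coincidence:
`ab a = ab c` (then `a = c`): `p2_gen a b d`; `ab a = ab d` (then `d = ng a`): `xrs_sym` on `x c (ng a)` and `p2_gen a b (ng c)`; `ab b = ab c` (then `c = ng b`): `xrs_sym` on `x a b` and `p2_gen (ng b) (ng a) d`;
`ab b = ab d` (then `b = d`): `xrs_sym` on both and `p2_gen (ng b) (ng a) (ng c)`.  (`ab_eq_iff` of `Helper24.STCI1`.) -/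
theorem xrs_comm (hF : Hyp F) (H : Glue S₂ swL ζ p ν lam) (hU : UFacts S₂ swL ζ) {a b c d : ι ⊕ ι} (hab : ab a ≠ ab b) (hcd : ab c ≠ ab d) (hbc : b ≠ c) (had : a ≠ d)
    (hbd : b ≠ ng d) (hac : a ≠ ng c) (t u : F) :
    xrs S₂ p ν lam a b t * xrs S₂ p ν lam c d u = xrs S₂ p ν lam c d u * xrs S₂ p ν lam a b t :=
  gley1_core S₂ p ν lam
    (fun hij _ _ _ _ ha hb hc hd hab hcd hbc had hbd hac t u =>
      xrs_comm_pair S₂ swL ζ p ν lam H hU hij ha hb hc hd hab hcd hbc had hbd hac t u)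
    (fun hab hbc hac => p2_gen S₂ swL ζ p ν lam hF H hU hab hbc hac)
    (fun hab hac hae hbc hbe hce => p4_gen S₂ swL ζ p ν lam hF H hU hab hac hae hbc hbe hce)
    (fun hab t => xrs_sym S₂ swL ζ p ν lam H hU hab t)
    hab hcd hbc had hbd hac t u

/-- Y5 [M]  the system (`ab a ≠ ab b ↔ a ≠ b ∧ a ≠ ng b`: `ab_eq_iff`): `sym` I3, `adds addl` I2, `comm_ss` Y1, `comm_ls` Y2, `comm3` C5 (`cm` unfolded), `ssl ls rel` I4, `hh` Y3, `r1` Y4. -/
theorem sysU_of_glue (hF : Hyp F) (H : Glue S₂ swL ζ p ν lam) (hU : UFacts S₂ swL ζ) :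
    ∃ S : SysU F False ι G, (∀ a b t, S.xs a b t = xrs S₂ p ν lam a b t) ∧ ∀ a ξ, S.xl a ξ = xrl S₂ p ν lam a ξ :=
  gley5_core S₂ p ν lam
    (fun hab t => xrs_sym S₂ swL ζ p ν lam H hU hab t)
    (fun hab hcd hbc had hbd hac t u => xrs_comm S₂ swL ζ p ν lam hF H hU hab hcd hbc had hbd hac t u)
    (fun hcd hca hda ξ u => xr_comm_ls S₂ swL ζ p ν lam hF H hU hcd hca hda ξ u)
    (fun hab hbc hac => p1_gen S₂ swL ζ p ν lam hF H hU hab hbc hac)
    (fun hab t u => xrs_ssl S₂ swL ζ p ν lam H hU hab t u)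
    (fun hab ξ u => xr_ls S₂ swL ζ p ν lam H hU hab ξ u)
    (fun hab t u ht => xrs_rel S₂ swL ζ p ν lam H hU hab t u ht)
    (fun hab ξ η => xrl_hh S₂ swL ζ p ν lam H hU hab ξ η)

/-- Y8 [M]  model SPM Y6: the isomorphism.  `S` from `sysU_of_glue`; `R : S.Rep V` := `R₀` with `φ := R₀.φ.comp π` (`hxs`: `π (S.xs a b t) = xrs S₂ p (π.comp ν) (π.comp lam) a b t` (`map_xrs`) `= S₀.xs a b t` (`hxs₀`), then `R₀.hxs`);
`R.φ` is injective by `hinj` (= STU K3 `SysU.Rep.injective`) with `gen_top`, hence so is `π`; surjective: the range of `π` contains the generators of `S₀.XQ ⊤` (`hgen₀`). -/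
theorem iso_of_glue (hF : Hyp F) (H : Glue S₂ swL ζ p ν lam) (hU : UFacts S₂ swL ζ)
    (hgen : Subgroup.closure (Set.range ν ∪ Set.range lam) = ⊤)
    {M : Type v'} [Group M] (S₀ : SysU F False ι M) {V : Type y} [AddCommGroup V] [Module F V] (R₀ : S₀.Rep V)
    (hgen₀ : S₀.XQ (fun _ _ => True) = ⊤) (π : G →* M)
    (hxs₀ : ∀ a b t, ab a ≠ ab b → xrs S₂ p (π.comp ν) (π.comp lam) a b t = S₀.xs a b t)
    (hxl₀ : ∀ a ξ, xrl S₂ p (π.comp ν) (π.comp lam) a ξ = S₀.xl a ξ)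
    (hinj : ∀ (S : SysU F False ι G) (R : S.Rep V), S.XQ (fun _ _ => True) = ⊤ → Function.Injective R.φ) :
    Function.Bijective π :=
  gley8_core S₂ p ν lam (sysU_of_glue S₂ swL ζ p ν lam hF H hU)
    (fun S hxs hxl => gen_top S₂ swL ζ p ν lam H hU S hxs hxl hgen)
    S₀ R₀ hgen₀ π hxs₀ hxl₀ hinj

end main

end Cfsg.Agent.Lib.Helper20.GLE
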