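import Mathlib
import Cfsg.Agent.Lib.helper6.P4T.Defs
import Cfsg.Agent.Lib.helper23.P4CSS1
import Cfsg.Agent.Lib.helper4.P4TTR4
import Cfsg.Agent.Lib.Helper26.P4TTW2
import Cfsg.Agent.Lib.Helper1.P4TTS1
import Cfsg.Agent.Lib.Helper9.P4TTW4core
import Cfsg.Agent.Lib.Helper20.P4TTW1
import Cfsg.Agent.Lib.Helper1.P4TTW3

set_option autoImplicit false

/-!
# Project P4T, row TS2 (helper6): `rho12_ss`, the master statement for semisimple elements.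
-/

namespace Cfsg.Agent.Lib.helper23.P4S

open Matrix
open scoped Kronecker

/-- TS2 -/
theorem rho12_ss {E : Type} [Field E] [Fintype E] [CharP E 3] (t : ℕ) (ht : 1 ≤ t)
    (hE : Fintype.card E = 3 ^ (2 * (2 * t))) (A : Matrix.SpecialLinearGroup (Fin 2) E) (htr : A.1.trace ^ 2 ≠ 4) :
    ∃ r : ℕ, 0 < r ∧ ¬ r ∣ 2 ∧ orderOf A = r ∧ (r ∣ (3 ^ (2 * t)) ^ 2 - 1 ∨ r ∣ (3 ^ (2 * t)) ^ 2 + 1) ∧
      (∀ k : ℕ, (rho12 (frq E 3 (2 * t)) (frq E 3 (2 * t + 1)) A) ^ k = 1 ↔ r ∣ 2 * k) ∧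
      (gsum ((rho12 (frq E 3 (2 * t)) (frq E 3 (2 * t + 1)) A : GL (Fin 3 × (Fin 2 × Fin 2)) E) :
            Matrix (Fin 3 × (Fin 2 × Fin 2)) (Fin 3 × (Fin 2 × Fin 2)) E)
          (orderOf (rho12 (frq E 3 (2 * t)) (frq E 3 (2 * t + 1)) A)) ≠ 0 ↔
        (r ∣ 2 * (3 ^ (2 * t) + 1) ∨ r ∣ 2 * (3 ^ (2 * t) - 1))) := by
  classical
  obtain ⟨b, P, hb, hP, hAP, hr0, hr2, hAr, hrq⟩ := sl2_ss_data 3 (2 * t) (by omega) hE A htr
  have hK3 : CharP (AlgebraicClosure E) 3 :=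
    charP_of_injective_algebraMap (algebraMap E (AlgebraicClosure E)).injective 3
  obtain ⟨Q, hQ, hconj⟩ := rho12M_conj (2 * t) A.1 b hb P hP hAP
  set g := rho12 (frq E 3 (2 * t)) (frq E 3 (2 * t + 1)) A with hg
  have hpow : ∀ k : ℕ, g ^ k = 1 ↔ orderOf b ∣ 2 * k := by
    intro k
    rw [← wt12_pow b hb (3 ^ (2 * t)) k, ← ss_pow _ Q hQ _ hconj k, Units.ext_iff, Units.val_pow_eq_pow_val,
      Units.val_one, hg, rho12_coe]
  refine ⟨orderOf b, hr0, hr2, hAr, hrq, hpow, ?_⟩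
  -- the order of `g` is prime to `3`
  have hgr : g ^ orderOf b = 1 := (hpow _).mpr (dvd_mul_left _ _)
  have hodvd : orderOf g ∣ orderOf b := orderOf_dvd_of_pow_eq_one hgr
  have h3r : ¬ 3 ∣ orderOf b := by
    intro h3
    have h3q : 3 ∣ (3 ^ (2 * t)) ^ 2 := by
      rw [← pow_mul]
      exact dvd_pow_self 3 (by omega)
    have hq1 : 1 ≤ (3 ^ (2 * t)) ^ 2 := Nat.one_le_pow _ _ (Nat.one_le_pow _ _ (by norm_num))
    rcases hrq with h | h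
    · have h4 : 3 ∣ (3 ^ (2 * t)) ^ 2 - 1 := dvd_trans h3 h
      have h5 : 3 ∣ (3 ^ (2 * t)) ^ 2 - ((3 ^ (2 * t)) ^ 2 - 1) := Nat.dvd_sub h3q h4
      rw [Nat.sub_sub_self hq1] at h5
      omega
    · have h4 : 3 ∣ (3 ^ (2 * t)) ^ 2 + 1 := dvd_trans h3 h
      have h5 : 3 ∣ 1 := (Nat.dvd_add_right h3q).mp h4
      omega
  have hoK : ((orderOf g : ℕ) : AlgebraicClosure E) ≠ 0 := by
    intro h0
    have h3 : 3 ∣ orderOf g := (CharP.cast_eq_zero_iff (AlgebraicClosure E) 3 _).mp h0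
    exact h3r (dvd_trans h3 hodvd)
  have hgo : (rho12M (frq E 3 (2 * t)) (frq E 3 (2 * t + 1)) A.1) ^ orderOf g = 1 := by
    have h1 : g ^ orderOf g = 1 := pow_orderOf_eq_one g
    rw [Units.ext_iff, Units.val_pow_eq_pow_val, Units.val_one, hg, rho12_coe] at h1
    exact h1
  have hsum := ss_gsum _ Q hQ _ hconj (orderOf g) hgo
  have hfix : (∃ j, wt12 b (3 ^ (2 * t)) j = 1) ↔
      (orderOf b ∣ 2 * (3 ^ (2 * t) + 1) ∨ orderOf b ∣ 2 * (3 ^ (2 * t) - 1)) :=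
    p4ttw4_core b hb t ht hr2 hrq (fun j => wt12_zpow b hb _ j)
      (fun j hj => lam12_arith t ht _ hr2 hrq j hj)
  rw [← hfix]
  show gsum (rho12M (frq E 3 (2 * t)) (frq E 3 (2 * t + 1)) A.1) (orderOf g) ≠ 0 ↔ _
  rw [Ne, hsum]
  constructor
  · intro h
    by_contra hcon
    push Not at hcon
    exact h (fun j hj => absurd hj (hcon j))
  · rintro ⟨j, hj⟩ h
    exact hoK (h j hj)

end Cfsg.Agent.Lib.helper23.P4S
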