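import Mathlib
import Cfsg.Agent.Lib.helper14.OBNd
import Cfsg.Agent.Lib.helper14.DBN.Defs
import Cfsg.Agent.Lib.Helper25.DBNQBASIC
import Cfsg.Agent.Lib.helper6.DBNTNORM

set_option autoImplicit false

/-!
# Project DBN (designer helper14), row UNIP (helper6): `BO = UO ⋊ TO`.
Verbatim from `helper14/DBN/Skel.lean.txt`.
-/

namespace Cfsg.Agent.Lib.helper14.DBN

open Matrix DoubleCoset
open Cfsg.Agent.Lib.helper3 Cfsg.Agent.Lib.helper14
open Cfsg.Agent.Lib.helper14.UBN Cfsg.Agent.Lib.helper14.OBN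

universe u
variable {F : Type u} [Field F] {n : ℕ}

theorem UO_le_BO : UO n F ≤ BO n F := by
  exact fun _ hu => ⟨UU_le_BU hu.1, hu.2⟩

theorem UO_inf_TO (u : GS n F) (hu : u ∈ UO n F) (ht : u ∈ TO n F) : u = 1 := by
  exact eq_one_of_mem_UU_of_mem_TU u hu.1 ht

theorem BO_eq_UO_mul_TO (hn : n % 2 = 0) (b : GS n F) (hb : b ∈ BO n F) :
    ∃ u ∈ UO n F, ∃ h ∈ TO n F, b = u * h := by
  have hd : diagOf b hb.1 ∈ TO n F := diagOf_mem b hb.1
  have hdO : diagOf b hb.1 ∈ OQ n F := dbntnorm_mono_mem_OQ hn _ hd.2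
  refine ⟨b * (diagOf b hb.1)⁻¹, ⟨mul_diagOf_inv_mem b hb.1, ?_⟩, diagOf b hb.1, hd, ?_⟩
  · exact (OQ n F).mul_mem hb.2 ((OQ n F).inv_mem hdO)
  · rw [inv_mul_cancel_right]

theorem UO_pow (p : ℕ) [Fact p.Prime] [CharP F p] (u : GS n F) (hu : u ∈ UO n F) :
    ∃ k : ℕ, u ^ (p ^ k) = 1 := by
  exact ⟨n, UU_pow_eq_one p u hu.1⟩

theorem TO_card_not_dvd [Fintype F] (p : ℕ) [Fact p.Prime] [CharP F p] :
    ¬ p ∣ Nat.card ↥(TO n F) := by
  have h := torus_card_not_dvd (n := n) (S := Sid F) p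
  have e : Nat.card ((BU n (Sid F) ⊓ NU n (Sid F)).subgroupOf (BU n (Sid F))) =
      Nat.card ↥(TO n F) :=
    Nat.card_congr (Subgroup.subgroupOfEquivOfLe (inf_le_left)).toEquiv
  rw [e] at h
  exact h

end Cfsg.Agent.Lib.helper14.DBN
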