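import Mathlib
import Cfsg.Prelude.Def_LieTypeChar
import Cfsg.Prelude.Def_ChevStructure
import Cfsg.Prelude.Def_ChevF4
import Cfsg.Prelude.Def_LieTwisted
import Cfsg.Agent.Lib.helper8.ChevTF35
import Cfsg.Agent.Lib.helper8.ChevTwU2
import Cfsg.Agent.Lib.helper14.SQD.Defs
import Cfsg.Agent.Lib.helper14.SQD.DefsTF
import Cfsg.Agent.Lib.Helper29.SQDX3

/-! Project SQD (designer helper14), block TF, rows TF8a (`sqd_tfX1`) and TF9 (`tfGen_mem`), verbatim. -/

set_option autoImplicit false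

namespace Cfsg.Agent.Lib.helper14.SQD

open Cfsg Cfsg.Lie Cfsg.Lie.ChevalleyDatum Cfsg.Agent.Lib.helper8

universe u v

/-- the square of a fixed element of the first class is trivial in characteristic 2 -/
theorem sqdtf8a_pair_sq {K : Type u} [Field K] [CharP K 2] {hB : H8Base.{u} chevF4} (R : H8TF K hB) (t : K) :
    h8tfPair R 33 24 t ^ 2 = 1 := by
  have hC := h8commAll.{u} chevF4 h8tf_F4_mem
  rw [pow_two, h8tfPair_add R hC, CharTwo.add_self_eq_zero]
  unfold h8tfPair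
  rw [map_zero, h8xU_zero', h8xU_zero', one_mul]

/-- TF8a [E]. X3c: generators `h8tfPair R 33 24 t` with square `h8tfPair R 33 24 (t + t) = 1` (`h8tfPair_add R hC`,
`CharTwo.add_self_eq_zero`, `map_zero`, `h8xU_zero'`). -/
theorem sqd_tfX1 {K : Type u} [Field K] [CharP K 2] {hB : H8Base.{u} chevF4} (R : H8TF K hB) : SqD (tfX1 R) := by
  refine sqd_of_invol (tfX1 R) (Set.range fun t : K => h8tfPair R 33 24 t) rfl ?_
  rintro s ⟨t, rfl⟩
  exact sqdtf8a_pair_sq R t

/-- a conjugate of an element of the fundamental subgroup `tfX R k` by `n_w`, `w = tfWd k`, lies in `tfT R` -/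
theorem sqdtf9_conj_mem {K : Type u} [Field K] {hB : H8Base.{u} chevF4} (R : H8TF K hB) (k : ℕ) (hk : k < 8)
    (g : GL chevF4.Idx K) (hg : g ∈ tfX R k) :
    (h8nWU chevF4 hB (tfWd k) : GL chevF4.Idx K) * g * (h8nWU chevF4 hB (tfWd k) : GL chevF4.Idx K)⁻¹ ∈ tfT R := by
  have h1 : (h8nWU chevF4 hB (tfWd k) : GL chevF4.Idx K) * g *
      (h8nWU chevF4 hB (tfWd k) : GL chevF4.Idx K)⁻¹ ∈ tfY R k :=
    Subgroup.mem_map.mpr ⟨g, hg, by simp [MulAut.conj_apply]⟩
  exact (le_iSup (fun k : Fin 8 => tfY R k.val) ⟨k, hk⟩) h1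

/-- TF9 [E]. `tfGen R j t ∈ tfY R k ≤ tfT R` (`le_iSup (fun k : Fin 8 => tfY R k.val) ⟨k, _⟩`), `k = j` for `j < 8`, `k = j - 4`
for `8 ≤ j`; `Subgroup.mem_map`, `MulAut.conj_apply`; the fundamental element is a generator of `tfX1`/`tfX2`. -/
theorem tfGen_mem {K : Type u} [Field K] {hB : H8Base.{u} chevF4} (R : H8TF K hB) :
    ∀ j < 12, ∀ t : K, tfGen R j t ∈ tfT R := by
  intro j hj t
  unfold tfGen
  by_cases h4 : j < 4
  · rw [if_pos h4]
    apply sqdtf9_conj_mem R j (by omega)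
    unfold tfX
    rw [if_pos h4]
    exact Subgroup.subset_closure ⟨t, rfl⟩
  · rw [if_neg h4]
    by_cases h8 : j < 8
    · rw [if_pos h8]
      apply sqdtf9_conj_mem R j h8
      unfold tfX
      rw [if_neg h4]
      exact Subgroup.subset_closure ⟨(t, 0), rfl⟩
    · rw [if_neg h8]
      apply sqdtf9_conj_mem R (j - 4) (by omega)
      unfold tfX
      rw [if_neg (by omega)]
      exact Subgroup.subset_closure ⟨(0, t), rfl⟩

end Cfsg.Agent.Lib.helper14.SQD
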