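import Mathlib
import Cfsg.Prelude.Def_LieTypeChar
import Cfsg.Agent.Lib.helper14.SQD.Defs
import Cfsg.Agent.Lib.helper14.SQD.DefsU
import Cfsg.Agent.Lib.Helper18.SQDUF
import Cfsg.Agent.Lib.Helper18.SQDUE6

/-! Project SQD (designer helper14), row UO3 (`card_suC_ge`), verbatim; `sqduo3_core` has the statements of UF2, UF3, UE6
as hypotheses, the wrapper cites `Helper18.SQDUF` and `Helper18.SQDUE6`. -/

set_option autoImplicit false

namespace Cfsg.Agent.Lib.helper14.SQD

open Cfsg Cfsg.Lie Matrix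

/-- `tadj` of a scalar multiple -/
theorem sqduo3_tadj_smul {m n : Type*} {R : Type*} [CommRing R] (τ : R →+* R) (c : R) (A : Matrix m n R) :
    tadj τ (c • A) = τ c • tadj τ A := by
  unfold tadj
  ext i j
  simp

/-- `tadj` is an involution when `τ` is -/
theorem sqduo3_tadj_tadj {m n : Type*} {R : Type*} [CommRing R] (τ : R →+* R) (hτ : ∀ x, τ (τ x) = x)
    (A : Matrix m n R) : tadj τ (tadj τ A) = A := by
  unfold tadj
  ext i j
  simp [hτ]

/-- the number of `1 × k` matrices -/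
theorem sqduo3_card_row {F : Type} [Fintype F] (k : ℕ) :
    Nat.card (Matrix (Fin 1) (Fin k) F) = Fintype.card F ^ k := by
  show Nat.card (Fin 1 → Fin k → F) = _
  rw [Nat.card_fun, Nat.card_fun]
  simp

/-- UO3 core: hypotheses are the statements of UF2 (`frobE_frobE`), UF3 (`exists_trace_one`), UE6 (`card_herm_ge`). -/
theorem sqduo3_core {F : Type} [Field F] [Fintype F] [CharP F 2] (e : ℕ) {k : ℕ}
    (hUF2 : ∀ x : F, frobE F e (frobE F e x) = x)
    (hUF3 : ∃ a : F, a ^ 2 ^ e + a = 1)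
    (hUE6 : (2 ^ e) ^ (k ^ 2) ≤ Nat.card (hermAdd k (frobE F e)))
    (hF : Fintype.card F = (2 ^ e) ^ 2) :
    (2 ^ e) ^ (2 * k + k ^ 2) ≤
      Nat.card {p : Matrix (Fin 1) (Fin k) F × Matrix (Fin k) (Fin k) F // suC (frobE F e) p.1 p.2} := by
  obtain ⟨lam, hlam⟩ := hUF3
  have hτlam : frobE F e lam = lam ^ 2 ^ e := by
    simp [frobE, iterateFrobenius_def]
  have h2 : (2 : F) = 0 := CharTwo.two_eq_zero
  let φ : (Matrix (Fin 1) (Fin k) F) × (hermAdd k (frobE F e)) →
      {p : Matrix (Fin 1) (Fin k) F × Matrix (Fin k) (Fin k) F // suC (frobE F e) p.1 p.2} :=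
    fun p => ⟨(p.1, lam • (tadj (frobE F e) p.1 * p.1) + (p.2 : Matrix (Fin k) (Fin k) F)), by
      show (lam • (tadj (frobE F e) p.1 * p.1) + (p.2 : Matrix (Fin k) (Fin k) F)) +
        tadj (frobE F e) (lam • (tadj (frobE F e) p.1 * p.1) + (p.2 : Matrix (Fin k) (Fin k) F)) =
          tadj (frobE F e) p.1 * p.1
      have hS : tadj (frobE F e) (p.2 : Matrix (Fin k) (Fin k) F) = p.2 := p.2.2
      rw [tadj_add, sqduo3_tadj_smul, tadj_mul, sqduo3_tadj_tadj _ hUF2, hS, hτlam]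
      ext i j
      simp only [Matrix.add_apply, Matrix.smul_apply, smul_eq_mul]
      linear_combination ((tadj (frobE F e) p.1 * p.1) i j) * hlam +
        ((p.2 : Matrix (Fin k) (Fin k) F) i j) * h2⟩
  have hinj : Function.Injective φ := by
    intro p p' h
    have h' := congrArg Subtype.val h
    simp only [φ, Prod.mk.injEq] at h'
    obtain ⟨h1, h3⟩ := h'
    refine Prod.ext h1 (Subtype.ext ?_)
    rw [h1] at h3
    exact add_left_cancel h3
  have hle := Nat.card_le_card_of_injective φ hinj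
  rw [Nat.card_prod, sqduo3_card_row, hF] at hle
  calc (2 ^ e) ^ (2 * k + k ^ 2) = ((2 ^ e) ^ 2) ^ k * (2 ^ e) ^ (k ^ 2) := by
        rw [pow_add, pow_mul]
    _ ≤ ((2 ^ e) ^ 2) ^ k * Nat.card (hermAdd k (frobE F e)) := Nat.mul_le_mul_left _ hUE6
    _ ≤ _ := hle

section UO
variable {F : Type} [Field F] [Fintype F] [CharP F 2] (e : ℕ) {k : ℕ}

/-- UO3 [M]. `(R, S) ↦ (R, lam • (R^* R) + S)`, `S` Hermitian, `lam ^ q + lam = 1` (UF3), is an injection into the
parameter set: `(q ^ 2) ^ k * q ^ (k ^ 2)` elements at least (UE6). -/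
theorem card_suC_ge (hF : Fintype.card F = (2 ^ e) ^ 2) :
    (2 ^ e) ^ (2 * k + k ^ 2) ≤
      Nat.card {p : Matrix (Fin 1) (Fin k) F × Matrix (Fin k) (Fin k) F // suC (frobE F e) p.1 p.2} :=
  sqduo3_core e (frobE_frobE e hF) (exists_trace_one e hF) (card_herm_ge e hF) hF

end UO

end Cfsg.Agent.Lib.helper14.SQD
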