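import Mathlib
import Cfsg.Prelude.Def_LieTypeChar
import Cfsg.Agent.Lib.helper14.SQD.Defs
import Cfsg.Agent.Lib.helper14.SQD.DefsU
import Cfsg.Agent.Lib.Helper29.SQDH1
import Cfsg.Agent.Lib.Helper18.SQDUF
import Cfsg.Agent.Lib.Helper22.SQDH2
import Cfsg.Agent.Lib.Helper21.SQDH6
import Cfsg.Agent.Lib.Helper10.SQDUO1

/-! Project SQD (designer helper14), row UO4 (`suO_sq`), verbatim.  `sqduo4_core` has the statements of H2 (at `suC`), H6,
H7 as hypotheses and cites H1 (`Helper29.SQDH1`), UF (`Helper18.SQDUF`); the wrapper cites `Helper22.SQDH2`,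
`Helper21.SQDH6`, `Helper10.SQDUO1`. -/

set_option autoImplicit false

namespace Cfsg.Agent.Lib.helper14.SQD

open Cfsg Cfsg.Lie Matrix

/-- `tadj` of a scalar multiple -/
theorem sqduo4_tadj_smul {m n : Type*} {R : Type*} [CommRing R] (τ : R →+* R) (c : R) (A : Matrix m n R) :
    tadj τ (c • A) = τ c • tadj τ A := by
  unfold tadj
  ext i j
  simp

/-- `tadj` of a negative -/
theorem sqduo4_tadj_neg {m n : Type*} {R : Type*} [CommRing R] (τ : R →+* R) (A : Matrix m n R) :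
    tadj τ (-A) = -tadj τ A := by
  unfold tadj
  ext i j
  simp

/-- `tadj` is an involution when `τ` is -/
theorem sqduo4_tadj_tadj {m n : Type*} {R : Type*} [CommRing R] (τ : R →+* R) (hτ : ∀ x, τ (τ x) = x)
    (A : Matrix m n R) : tadj τ (tadj τ A) = A := by
  unfold tadj
  ext i j
  simp [hτ]

/-- every Heisenberg matrix is invertible: the unit with matrix `hsM τ G₀ R C` -/
def sqduo4_unit {k d : ℕ} {F : Type*} [Field F] (τ : F →+* F) (G₀ : Matrix (Fin d) (Fin d) F)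
    (R : Matrix (Fin d) (Fin k) F) (C : Matrix (Fin k) (Fin k) F) : GL ((Fin k ⊕ Fin k) ⊕ Fin d) F :=
  ⟨hsM τ G₀ R C, hsM τ G₀ (-R) (-C + tadj τ R * G₀ * R), by
    rw [hsM_mul, ← hsM_zero τ G₀]
    congr 1
    · simp
    · simp,
   by
    rw [hsM_mul, ← hsM_zero τ G₀]
    congr 1
    · simp
    · rw [sqduo4_tadj_neg]
      simp⟩

theorem sqduo4_unit_coe {k d : ℕ} {F : Type*} [Field F] (τ : F →+* F) (G₀ : Matrix (Fin d) (Fin d) F)
    (R : Matrix (Fin d) (Fin k) F) (C : Matrix (Fin k) (Fin k) F) :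
    ((sqduo4_unit τ G₀ R C : GL ((Fin k ⊕ Fin k) ⊕ Fin d) F) :
      Matrix ((Fin k ⊕ Fin k) ⊕ Fin d) ((Fin k ⊕ Fin k) ⊕ Fin d) F) = hsM τ G₀ R C := rfl

/-- UO4 core: hypotheses are the statements of H2 (`mem_hsGrp` at `𝒞 = suC`, i.e. after feeding it UO1), H6 (`hs_comm`),
H7 (`hs_sq`). -/
theorem sqduo4_core {F : Type} [Field F] [Fintype F] [CharP F 2] (e : ℕ) {k : ℕ}
    (hH2 : ∀ g : GL ((Fin k ⊕ Fin k) ⊕ Fin 1) F,
      g ∈ hsGrp (frobE F e) (1 : Matrix (Fin 1) (Fin 1) F) (suC (k := k) (frobE F e)) ↔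
        ∃ R C, suC (k := k) (frobE F e) R C ∧
          (g : Matrix ((Fin k ⊕ Fin k) ⊕ Fin 1) ((Fin k ⊕ Fin k) ⊕ Fin 1) F) =
            hsM (frobE F e) (1 : Matrix (Fin 1) (Fin 1) F) R C)
    (hH6 : ∀ (R R' : Matrix (Fin 1) (Fin k) F) (C C' : Matrix (Fin k) (Fin k) F)
      (w w' : GL ((Fin k ⊕ Fin k) ⊕ Fin 1) F),
      (w : Matrix ((Fin k ⊕ Fin k) ⊕ Fin 1) ((Fin k ⊕ Fin k) ⊕ Fin 1) F) =
        hsM (frobE F e) (1 : Matrix (Fin 1) (Fin 1) F) R C →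
      (w' : Matrix ((Fin k ⊕ Fin k) ⊕ Fin 1) ((Fin k ⊕ Fin k) ⊕ Fin 1) F) =
        hsM (frobE F e) (1 : Matrix (Fin 1) (Fin 1) F) R' C' →
      ((w * w' * w⁻¹ * w'⁻¹ : GL ((Fin k ⊕ Fin k) ⊕ Fin 1) F) :
        Matrix ((Fin k ⊕ Fin k) ⊕ Fin 1) ((Fin k ⊕ Fin k) ⊕ Fin 1) F) =
        hsM (frobE F e) (1 : Matrix (Fin 1) (Fin 1) F) 0
          (tadj (frobE F e) R * (1 : Matrix (Fin 1) (Fin 1) F) * R' +
            tadj (frobE F e) R' * (1 : Matrix (Fin 1) (Fin 1) F) * R))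
    (hH7 : ∀ (R : Matrix (Fin 1) (Fin k) F) (C : Matrix (Fin k) (Fin k) F),
      hsM (frobE F e) (1 : Matrix (Fin 1) (Fin 1) F) R C * hsM (frobE F e) (1 : Matrix (Fin 1) (Fin 1) F) R C =
        hsM (frobE F e) (1 : Matrix (Fin 1) (Fin 1) F) 0
          (tadj (frobE F e) R * (1 : Matrix (Fin 1) (Fin 1) F) * R))
    (hF : Fintype.card F = (2 ^ e) ^ 2) (w : GL ((Fin k ⊕ Fin k) ⊕ Fin 1) F)
    (hw : w ∈ hsGrp (frobE F e) (1 : Matrix (Fin 1) (Fin 1) F) (suC (k := k) (frobE F e))) :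
    w ^ 2 ∈ ⁅hsGrp (frobE F e) (1 : Matrix (Fin 1) (Fin 1) F) (suC (k := k) (frobE F e)),
      hsGrp (frobE F e) (1 : Matrix (Fin 1) (Fin 1) F) (suC (k := k) (frobE F e))⁆ := by
  obtain ⟨lam, hlam⟩ := exists_trace_one (F := F) e hF
  have hτ2 : ∀ x : F, frobE F e (frobE F e x) = x := frobE_frobE e hF
  have hτlam : frobE F e lam = lam ^ 2 ^ e := frobE_apply e lam
  obtain ⟨R, C, hRC, hwM⟩ := (hH2 w).1 hw
  -- the partner
  have hRC' : suC (k := k) (frobE F e) (lam • R) ((lam ^ 2 ^ e * lam) • C) := by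
    unfold suC at hRC ⊢
    rw [sqduo4_tadj_smul, sqduo4_tadj_smul, Matrix.smul_mul, Matrix.mul_smul, smul_smul, ← hRC,
      map_mul, hτlam, ← hτlam, hτ2, hτlam, smul_add, mul_comm lam]
  set w' : GL ((Fin k ⊕ Fin k) ⊕ Fin 1) F :=
    sqduo4_unit (frobE F e) (1 : Matrix (Fin 1) (Fin 1) F) (lam • R) ((lam ^ 2 ^ e * lam) • C) with hw'def
  have hw'M : (w' : Matrix ((Fin k ⊕ Fin k) ⊕ Fin 1) ((Fin k ⊕ Fin k) ⊕ Fin 1) F) =
      hsM (frobE F e) (1 : Matrix (Fin 1) (Fin 1) F) (lam • R) ((lam ^ 2 ^ e * lam) • C) := rfl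
  have hw' : w' ∈ hsGrp (frobE F e) (1 : Matrix (Fin 1) (Fin 1) F) (suC (k := k) (frobE F e)) :=
    (hH2 w').2 ⟨_, _, hRC', hw'M⟩
  have hcomm := Subgroup.commutator_mem_commutator hw hw'
  rw [commutatorElement_def] at hcomm
  have heq : w ^ 2 = w * w' * w⁻¹ * w'⁻¹ := by
    apply Units.ext
    rw [hH6 R (lam • R) C ((lam ^ 2 ^ e * lam) • C) w w' hwM hw'M, pow_two, Units.val_mul, hwM, hH7]
    congr 1
    rw [sqduo4_tadj_smul, hτlam, Matrix.mul_smul, Matrix.smul_mul, Matrix.smul_mul, ← add_smul,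
      add_comm lam, hlam, one_smul]
  rw [heq]
  exact hcomm

section UO
variable {F : Type} [Field F] [Fintype F] [CharP F 2] (e : ℕ) {k : ℕ}

/-- UO4 [M]. The square `hsM 0 (R^* R)` (H7) of `hsM R C` is the commutator with `hsM (lam • R) (lam ^ (q + 1) • C)`
(H6: `lam ^ q + lam = 1`; `lam ^ (q + 1)` lies in the fixed field, so the second parameter pair satisfies `suC`). -/
theorem suO_sq (hF : Fintype.card F = (2 ^ e) ^ 2) (w : GL ((Fin k ⊕ Fin k) ⊕ Fin 1) F)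
    (hw : w ∈ hsGrp (frobE F e) (1 : Matrix (Fin 1) (Fin 1) F) (suC (k := k) (frobE F e))) :
    w ^ 2 ∈ ⁅hsGrp (frobE F e) (1 : Matrix (Fin 1) (Fin 1) F) (suC (k := k) (frobE F e)),
      hsGrp (frobE F e) (1 : Matrix (Fin 1) (Fin 1) F) (suC (k := k) (frobE F e))⁆ :=
  sqduo4_core e
    (mem_hsGrp (frobE F e) 1 (suC (k := k) (frobE F e)) (suC_props e hF).1 (suC_props e hF).2.1
      (suC_props e hF).2.2)
    (fun R R' C C' w w' => hs_comm (frobE F e) 1 R R' C C' w w') (hs_sq (frobE F e) 1) hF w hw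

end UO

end Cfsg.Agent.Lib.helper14.SQD
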