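import Mathlib
import Cfsg.Prelude.Def_ChevStructure
import Cfsg.Prelude.Def_LieTwisted
import Cfsg.Agent.Lib.helper14.TWI.D4Defs
import Cfsg.Agent.Lib.helper14.INVNCb
import Cfsg.Agent.Lib.helper14.INVNCa
import Cfsg.Agent.Lib.helper14.F4Ca
import Cfsg.Agent.Lib.Helper10.INVWZERO
import Cfsg.Agent.Lib.Helper11.INVMEM
import Cfsg.Agent.Lib.Helper11.INVSTDN
import Cfsg.Agent.Lib.helper8.ChevCommAll
import Cfsg.Agent.Lib.helper8.ChevOrdAll

/-!
# Project TWI (S2183): piece MEM. The two representatives of `³D₄(q)`, `q` even, have order two.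
(Same proof as `Helper25/INVE7MEM.lean`.)
-/

set_option autoImplicit false
set_option linter.unusedVariables false

namespace Cfsg.Agent.Lib.helper14.TWI

open Cfsg.Lie Cfsg.Lie.ChevalleyDatum Cfsg.Agent.Lib.helper8 Cfsg.Agent.Lib.helper14
  Cfsg.Agent.Lib.helper14.INV

universe u

variable {K : Type u} [Field K]

/-- the representatives are increasing lists of positive roots -/
theorem twimem_fil : ∀ a ∈ d4Reps,
    (h8Lk chevD4 0).filter (fun r => decide (r ∈ a)) = a := by
  decide +kernel

/-- the root subgroups of a representative commute pairwise -/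
theorem twimem_comm : ∀ a ∈ d4Reps, a.Pairwise (fun r s => invstdnChk1 chevD4 r s = true) := by
  decide +kernel

/-- the roots of the representatives are positive -/
theorem twimem_pos : ∀ a ∈ d4Reps, ∀ r ∈ a, chevD4.IsPosRoot r := by
  decide +kernel

/-- the representatives are nonempty -/
theorem twimem_ne : ∀ a ∈ d4Reps, a ≠ [] := by
  decide

/-- MEM : the representatives have order two -/
theorem d4_order [CharP K 2] (hB : H8Base.{u} chevD4) (a : List ℕ) (ha : a ∈ d4Reps) :
    orderOf (w1 chevD4 hB a : GL chevD4.Idx K) = 2 := by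
  have hD : chevD4 ∈ [chevG2, chevB2, chevD4, chevF4, chevE6, chevE7, chevE8] := by simp
  have hC := h8commAll.{u} chevD4 hD
  obtain ⟨hO, hO2⟩ := h8ord_all chevD4 hD
  apply orderOf_eq_prime
  · rw [pow_two]
    unfold w1 h8wordU
    apply invstdn_prod_sq
    · intro g hg
      rw [List.map_map, List.mem_map] at hg
      obtain ⟨r, hr, rfl⟩ := hg
      exact invmem_x_sq chevD4 hB r (twimem_pos a ha r hr).1
    · rw [List.map_map, List.pairwise_map]
      exact (twimem_comm a ha).imp (fun {r s} h => invstdn_comm1 chevD4 hB hC r s h 1 1)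
  · intro h
    have e1 : (w1 chevD4 hB a : GL chevD4.Idx K) =
        f4cW chevD4 hB 0 (fun r => if (decide (r ∈ a)) = true then (1 : K) else 0) := by
      rw [← f4c_ordP_fill chevD4 hB (fun r => decide (r ∈ a)) (fun _ => (1 : K)) chevD4.nroots 0
        (by omega)]
      unfold w1 h8ordP
      rw [twimem_fil a ha]
    have e2 : f4cW chevD4 hB 0 (fun _ => (0 : K)) = 1 :=
      f4cW_zero' chevD4 hB _ (fun _ _ => rfl)
    obtain ⟨r, hr⟩ := List.exists_mem_of_ne_nil a (twimem_ne a ha)
    have h3 := f4c_W_unique0 chevD4 hB hO2 _ _ (e1.symm.trans (h.trans e2.symm)) r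
      (twimem_pos a ha r hr)
    simp only [hr, decide_true, if_true] at h3
    exact one_ne_zero h3

end Cfsg.Agent.Lib.helper14.TWI
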