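import Cfsg.Agent.Lib.helper15.SLM.Defs
import Cfsg.Agent.Lib.helper7.ClassSum
import Cfsg.Agent.Lib.Helper1.SLMC1
import Cfsg.Agent.Lib.Helper1.SLMC2

set_option autoImplicit false
set_option linter.unusedSectionVars false
set_option linter.unusedVariables false

namespace Cfsg.Agent.Lib.helper15.SLM

open Matrix

section C

variable {F : Type*} [Field F] [Fintype F] [DecidableEq F]
  {ι : Type*} [Fintype ι] [DecidableEq ι]

/-- a conjugate of a transvection is a transvection -/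
theorem h6_conj_tv (c : SpecialLinearGroup ι F) (y η : ι → F) (hy : y ≠ 0) (hη : η ≠ 0)
    (h : η ⬝ᵥ y = 0) :
    ∃ (y' η' : ι → F) (h' : η' ⬝ᵥ y' = 0), y' ≠ 0 ∧ η' ≠ 0 ∧ c * tv y η h * c⁻¹ = tv y' η' h' := by
  have hB : (c : Matrix ι ι F) * ((c⁻¹ : SpecialLinearGroup ι F) : Matrix ι ι F) = 1 := by
    have := congrArg (fun g : SpecialLinearGroup ι F => (g : Matrix ι ι F)) (mul_inv_cancel c)
    exact this
  have hB' : ((c⁻¹ : SpecialLinearGroup ι F) : Matrix ι ι F) * (c : Matrix ι ι F) = 1 := by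
    have := congrArg (fun g : SpecialLinearGroup ι F => (g : Matrix ι ι F)) (inv_mul_cancel c)
    exact this
  have hconj := conj_tvMat (c : Matrix ι ι F) ((c⁻¹ : SpecialLinearGroup ι F) : Matrix ι ι F) hB y η
  have h' : (η ᵥ* ((c⁻¹ : SpecialLinearGroup ι F) : Matrix ι ι F)) ⬝ᵥ ((c : Matrix ι ι F) *ᵥ y) = 0 := by
    rw [Matrix.dotProduct_mulVec, Matrix.vecMul_vecMul, hB', Matrix.vecMul_one, h]
  refine ⟨(c : Matrix ι ι F) *ᵥ y, η ᵥ* ((c⁻¹ : SpecialLinearGroup ι F) : Matrix ι ι F), h', ?_, ?_, ?_⟩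
  · intro h0
    apply hy
    have := congrArg (fun v => ((c⁻¹ : SpecialLinearGroup ι F) : Matrix ι ι F) *ᵥ v) h0
    simp only [Matrix.mulVec_mulVec, hB', Matrix.one_mulVec, Matrix.mulVec_zero] at this
    exact this
  · intro h0
    apply hη
    have := congrArg (fun v => v ᵥ* (c : Matrix ι ι F)) h0
    simp only [Matrix.vecMul_vecMul, hB', Matrix.vecMul_one, Matrix.zero_vecMul] at this
    exact this
  · apply Subtype.ext
    show (c : Matrix ι ι F) * tvMat y η * ((c⁻¹ : SpecialLinearGroup ι F) : Matrix ι ι F) = _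
    exact hconj

theorem h6_class_iff (hι : 3 ≤ Fintype.card ι) (y η : ι → F) (hy : y ≠ 0) (hη : η ≠ 0)
    (h : η ⬝ᵥ y = 0) (g : SpecialLinearGroup ι F) :
    IsConj (tv y η h) g ↔ ∃ (y' η' : ι → F) (h' : η' ⬝ᵥ y' = 0), y' ≠ 0 ∧ η' ≠ 0 ∧ g = tv y' η' h' := by
  constructor
  · intro hg
    obtain ⟨c, hc⟩ := isConj_iff.mp hg
    obtain ⟨y', η', h', hy', hη', he⟩ := h6_conj_tv c y η hy hη h
    exact ⟨y', η', h', hy', hη', by rw [← hc, he]⟩
  · rintro ⟨y', η', h', hy', hη', rfl⟩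
    obtain ⟨c, hc⟩ := tv_conj hι y η y' η' hy hη hy' hη' h h'
    exact isConj_iff.mpr ⟨c, hc⟩

/-- C3 : class size of a transvection -/
theorem index_centralizer_tv (q n : ℕ) (hq : Fintype.card F = q) (hn : Fintype.card ι = n)
    (hn3 : 3 ≤ n) (y η : ι → F) (hy : y ≠ 0) (hη : η ≠ 0) (h : η ⬝ᵥ y = 0) :
    (Subgroup.centralizer ({tv y η h} : Set (SpecialLinearGroup ι F))).index * (q - 1) =
      (q ^ n - 1) * (q ^ (n - 1) - 1) := by
  classical
  rw [Cfsg.Agent.Lib.helper7.h7_index_centralizer_eq_card_class, ← card_transvections q n hq hn (by omega)]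
  have hcard : Nat.card {x : SpecialLinearGroup ι F // IsConj (tv y η h) x} =
      (Finset.univ.filter (fun g : SpecialLinearGroup ι F =>
      ∃ (y η : ι → F) (h : η ⬝ᵥ y = 0), y ≠ 0 ∧ η ≠ 0 ∧ g = tv y η h)).card := by
    rw [Nat.card_eq_fintype_card, Fintype.card_subtype]
    apply congrArg Finset.card
    apply Finset.filter_congr
    intro g _
    exact h6_class_iff (by omega) y η hy hη h g
  rw [hcard]

end C

end Cfsg.Agent.Lib.helper15.SLM
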