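import Mathlib
import Cfsg.Prelude.Def_KGroupFacts
import Cfsg.Agent.Lib.Helper12.TCG.ONPres
import Cfsg.Agent.Lib.helper17.ONM.Defs

/-!
Project ONM (S2052), piece COVEX (core): if the central element of the presented cover `Cov` is not trivial, then
`Cov` is a finite stem extension of `ON` with kernel of order three -- with `Finite ON` as an instance hypothesis
(it is `Cfsg.Agent.Lib.Helper12.Ord.ONOrder.finite`).  The cover is perfect by a direct computation in its
abelianisation, so the simplicity of `ON` is not needed.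
-/

set_option autoImplicit false
set_option linter.unusedSimpArgs false
set_option linter.unusedVariables false

namespace Cfsg.Agent.Lib.helper17.ONM

open Cfsg.Spor Cfsg.Agent.Lib.Helper12.TC Cfsg.Agent.Lib.Helper12.TCG

/-- the images in `ON` of the generators of the cover -/
noncomputable def onmcovexF : CGen → ON := fun o => match o with
  | none => 1
  | some y => PresentedGroup.mk ONPres.rels (FreeGroup.of y)

theorem onmcovex_lift_emb (w : FreeGroup ON.Gen) :
    FreeGroup.lift onmcovexF (embW w) = PresentedGroup.mk ONPres.rels w := by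
  have h : (FreeGroup.lift onmcovexF).comp embW = PresentedGroup.mk ONPres.rels := by
    apply FreeGroup.ext_hom
    intro y
    show FreeGroup.lift onmcovexF (embW (FreeGroup.of y)) = _
    rw [show embW (FreeGroup.of y) = FreeGroup.of (some y) from FreeGroup.map.of,
      FreeGroup.lift_apply_of]
    rfl
  exact DFunLike.congr_fun h w

theorem onmcovex_lift_z : FreeGroup.lift onmcovexF zW = 1 := by
  show FreeGroup.lift onmcovexF (FreeGroup.of none) = 1
  rw [FreeGroup.lift_apply_of]
  rfl

theorem onmcovex_extra_mem :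
    (ON.a * ON.f) * ((ON.g ^ 2)⁻¹) ∈ ONPres.rels ∧
    (ON.a * ON.f) * (((ON.c * ON.d) ^ 4)⁻¹) ∈ ONPres.rels ∧
    ON.c * ((ON.d * ON.g * ON.d * ON.g)⁻¹ * ON.c * (ON.d * ON.g * ON.d * ON.g)) ∈ ONPres.rels ∧
    ON.d * ((ON.c * ON.g * ON.c * ON.g)⁻¹ * ON.d * (ON.c * ON.g * ON.c * ON.g)) ∈ ONPres.rels ∧
    (ON.b * ON.c * ON.d * ON.g) ^ 5 ∈ ONPres.rels ∧
    ON.g * ON.b * (ON.c⁻¹ * ON.g * ON.c) * (ON.b⁻¹ * ON.g * ON.b) * (ON.c⁻¹ * ON.g * ON.c) ∈
      ONPres.rels ∧
    ON.g * ON.e * (ON.d⁻¹ * ON.g * ON.d) * (ON.e⁻¹ * ON.g * ON.e) * (ON.d⁻¹ * ON.g * ON.d) ∈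
      ONPres.rels := by
  refine ⟨Or.inr ?_, Or.inr ?_, Or.inr ?_, Or.inr ?_, Or.inr ?_, Or.inr ?_, Or.inr ?_⟩ <;>
  · show _ ∈ ON.extra
    unfold ON.extra
    simp only [List.mem_cons, true_or, or_true]

theorem onmcovex_rels : ∀ r ∈ coverRels, FreeGroup.lift onmcovexF r = 1 := by
  obtain ⟨m0, m1, m2, m3, m4, m5, m6⟩ := onmcovex_extra_mem
  intro r hr
  rcases hr with (⟨r0, hr0, rfl⟩ | hr) | ⟨y, rfl⟩
  · rw [onmcovex_lift_emb]
    exact PresentedGroup.one_of_mem (Or.inl hr0)
  · simp only [Set.mem_setOf_eq, List.mem_cons, List.not_mem_nil, or_false] at hr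
    rcases hr with rfl | rfl | rfl | rfl | rfl | rfl | rfl | rfl
    · rw [onmcovex_lift_emb]; exact PresentedGroup.one_of_mem m0
    · rw [onmcovex_lift_emb]; exact PresentedGroup.one_of_mem m1
    · rw [onmcovex_lift_emb]; exact PresentedGroup.one_of_mem m2
    · rw [onmcovex_lift_emb]; exact PresentedGroup.one_of_mem m3
    · rw [map_mul, map_inv, onmcovex_lift_emb, onmcovex_lift_z, inv_one, mul_one]
      exact PresentedGroup.one_of_mem m4
    · rw [map_mul, map_inv, onmcovex_lift_emb, onmcovex_lift_z, inv_one, mul_one]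
      exact PresentedGroup.one_of_mem m5
    · rw [map_mul, map_inv, onmcovex_lift_emb, onmcovex_lift_z, inv_one, mul_one]
      exact PresentedGroup.one_of_mem m6
    · rw [map_pow, onmcovex_lift_z, one_pow]
  · rw [map_mul, map_mul, map_mul, map_inv, map_inv, onmcovex_lift_z, mul_one, inv_one, mul_one,
      mul_inv_cancel]

/-- the projection of the cover onto `ON` -/
noncomputable def onmcovexSigma : Cov →* ON := PresentedGroup.toGroup onmcovex_rels

theorem onmcovexSigma_g (y : ON.Gen) :
    onmcovexSigma (gC y) = PresentedGroup.mk ONPres.rels (FreeGroup.of y) := by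
  show PresentedGroup.toGroup onmcovex_rels (PresentedGroup.of (some y)) = _
  rw [PresentedGroup.toGroup.of]
  rfl

theorem onmcovexSigma_z : onmcovexSigma zC = 1 := by
  show PresentedGroup.toGroup onmcovex_rels (PresentedGroup.of none) = _
  rw [PresentedGroup.toGroup.of]
  rfl

/-- the words of `ON` in the cover -/
noncomputable def onmcovexIota : FreeGroup ON.Gen →* Cov := (PresentedGroup.mk coverRels).comp embW

theorem onmcovexIota_of (y : ON.Gen) : onmcovexIota (FreeGroup.of y) = gC y := by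
  show PresentedGroup.mk coverRels (embW (FreeGroup.of y)) = _
  rw [show embW (FreeGroup.of y) = FreeGroup.of (some y) from FreeGroup.map.of]
  rfl

theorem onmcovexSigma_iota (w : FreeGroup ON.Gen) :
    onmcovexSigma (onmcovexIota w) = PresentedGroup.mk ONPres.rels w := by
  have h : onmcovexSigma.comp onmcovexIota = PresentedGroup.mk ONPres.rels := by
    apply FreeGroup.ext_hom
    intro y
    show onmcovexSigma (onmcovexIota (FreeGroup.of y)) = _
    rw [onmcovexIota_of, onmcovexSigma_g]
  exact DFunLike.congr_fun h w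

theorem onmcovexSigma_surj : Function.Surjective onmcovexSigma := by
  intro x
  obtain ⟨w, rfl⟩ := PresentedGroup.mk_surjective ONPres.rels x
  exact ⟨onmcovexIota w, onmcovexSigma_iota w⟩

/-- the relators of the cover, in the cover -/
theorem onmcovex_iota_cox (r : FreeGroup ON.Gen) (hr : r ∈ coxRelators ON.edges) :
    onmcovexIota r = 1 :=
  PresentedGroup.one_of_mem (Or.inl (Or.inl ⟨r, hr, rfl⟩))

theorem onmcovex_list_mem (r : FreeGroup CGen)
    (hr : r ∈ [embW ((ON.a * ON.f) * ((ON.g ^ 2)⁻¹)),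
            embW ((ON.a * ON.f) * (((ON.c * ON.d) ^ 4)⁻¹)),
            embW (ON.c * ((ON.d * ON.g * ON.d * ON.g)⁻¹ * ON.c * (ON.d * ON.g * ON.d * ON.g))),
            embW (ON.d * ((ON.c * ON.g * ON.c * ON.g)⁻¹ * ON.d * (ON.c * ON.g * ON.c * ON.g))),
            embW ((ON.b * ON.c * ON.d * ON.g) ^ 5) * zW⁻¹,
            embW (ON.g * ON.b * (ON.c⁻¹ * ON.g * ON.c) * (ON.b⁻¹ * ON.g * ON.b) * (ON.c⁻¹ * ON.g * ON.c)) * zW⁻¹,
            embW (ON.g * ON.e * (ON.d⁻¹ * ON.g * ON.d) * (ON.e⁻¹ * ON.g * ON.e) * (ON.d⁻¹ * ON.g * ON.d)) * zW⁻¹,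
            zW ^ 3]) : PresentedGroup.mk coverRels r = 1 :=
  PresentedGroup.one_of_mem (Or.inl (Or.inr hr))

theorem onmcovex_z_pow : zC ^ 3 = 1 := by
  have := onmcovex_list_mem (zW ^ 3) (by simp only [List.mem_cons, true_or, or_true])
  rw [map_pow] at this
  exact this

theorem onmcovex_comm_gen (y : ON.Gen) : gC y * zC = zC * gC y := by
  have h : PresentedGroup.mk coverRels
      (FreeGroup.of (some y) * zW * (FreeGroup.of (some y))⁻¹ * zW⁻¹) = 1 :=
    PresentedGroup.one_of_mem (Or.inr ⟨y, rfl⟩)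
  rw [map_mul, map_mul, map_mul, map_inv, map_inv] at h
  have h2 : gC y * zC * (gC y)⁻¹ * zC⁻¹ = 1 := h
  calc gC y * zC = (gC y * zC * (gC y)⁻¹ * zC⁻¹) * (zC * gC y) := by group
    _ = zC * gC y := by rw [h2, one_mul]

theorem onmcovex_central (x : Cov) : x * zC = zC * x := by
  have hle : (⊤ : Subgroup Cov) ≤ Subgroup.centralizer ({zC} : Set Cov) := by
    rw [← PresentedGroup.closure_range_of coverRels, Subgroup.closure_le]
    rintro _ ⟨o, rfl⟩
    rw [SetLike.mem_coe, Subgroup.mem_centralizer_iff]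
    intro h hh
    rw [Set.mem_singleton_iff] at hh
    subst hh
    cases o with
    | none => rfl
    | some y => exact (onmcovex_comm_gen y).symm
  have := Subgroup.mem_centralizer_iff.mp (hle (Subgroup.mem_top x)) zC (Set.mem_singleton _)
  exact this.symm

theorem onmcovex_zpowers_normal : (Subgroup.zpowers zC).Normal := by
  refine ⟨fun n hn g => ?_⟩
  obtain ⟨k, rfl⟩ := Subgroup.mem_zpowers_iff.mp hn
  have hc : Commute g zC := onmcovex_central g
  have hc' : Commute g (zC ^ k) := hc.zpow_right k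
  have : g * zC ^ k * g⁻¹ = zC ^ k := by
    rw [hc'.eq, mul_inv_cancel_right]
  rw [this]
  exact Subgroup.zpow_mem_zpowers zC k

/-- the extra relators of `ON`, in the cover: four are trivial, three are equal to the central element -/
theorem onmcovex_iota_extra (r : FreeGroup ON.Gen) (hr : r ∈ ON.extra) :
    onmcovexIota r = 1 ∨ onmcovexIota r = zC := by
  unfold ON.extra at hr
  simp only [List.mem_cons, List.not_mem_nil, or_false] at hr
  have hz : ∀ w : FreeGroup ON.Gen, PresentedGroup.mk coverRels (embW w * zW⁻¹) = 1 →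
      onmcovexIota w = zC := by
    intro w h
    rw [map_mul, map_inv, mul_inv_eq_one] at h
    exact h
  rcases hr with rfl | rfl | rfl | rfl | rfl | rfl | rfl
  · exact Or.inl (onmcovex_list_mem _ (by simp only [List.mem_cons, true_or, or_true]))
  · exact Or.inl (onmcovex_list_mem _ (by simp only [List.mem_cons, true_or, or_true]))
  · exact Or.inl (onmcovex_list_mem _ (by simp only [List.mem_cons, true_or, or_true]))
  · exact Or.inl (onmcovex_list_mem _ (by simp only [List.mem_cons, true_or, or_true]))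
  · exact Or.inr (hz _ (onmcovex_list_mem _ (by simp only [List.mem_cons, true_or, or_true])))
  · exact Or.inr (hz _ (onmcovex_list_mem _ (by simp only [List.mem_cons, true_or, or_true])))
  · exact Or.inr (hz _ (onmcovex_list_mem _ (by simp only [List.mem_cons, true_or, or_true])))

/-- the kernel of the projection is generated by the central element -/
theorem onmcovex_ker : onmcovexSigma.ker = Subgroup.zpowers zC := by
  haveI := onmcovex_zpowers_normal
  apply le_antisymm
  · -- the inverse modulo `⟨z⟩`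
    let fQ : ON.Gen → Cov ⧸ Subgroup.zpowers zC := fun y => (QuotientGroup.mk (gC y))
    have hlift : ∀ w : FreeGroup ON.Gen,
        FreeGroup.lift fQ w = (QuotientGroup.mk (onmcovexIota w) : Cov ⧸ Subgroup.zpowers zC) := by
      have h : FreeGroup.lift fQ = (QuotientGroup.mk' (Subgroup.zpowers zC)).comp onmcovexIota := by
        apply FreeGroup.ext_hom
        intro y
        rw [FreeGroup.lift_apply_of, MonoidHom.comp_apply, onmcovexIota_of]
        rfl
      intro w
      rw [h]
      rfl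
    have hrel : ∀ r ∈ ONPres.rels, FreeGroup.lift fQ r = 1 := by
      intro r hr
      rw [hlift]
      rcases hr with hr | hr
      · rw [onmcovex_iota_cox r hr]
        rfl
      · rcases onmcovex_iota_extra r hr with h | h
        · rw [h]
          rfl
        · rw [h]
          exact (QuotientGroup.eq_one_iff _).mpr (Subgroup.mem_zpowers zC)
    let τ : ON →* Cov ⧸ Subgroup.zpowers zC := PresentedGroup.toGroup hrel
    have hτσ : τ.comp onmcovexSigma = QuotientGroup.mk' (Subgroup.zpowers zC) := by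
      apply PresentedGroup.ext
      intro o
      rw [MonoidHom.comp_apply]
      cases o with
      | none =>
        have h1 : (PresentedGroup.of none : Cov) = zC := rfl
        rw [h1, onmcovexSigma_z, map_one]
        exact ((QuotientGroup.eq_one_iff _).mpr (Subgroup.mem_zpowers zC)).symm
      | some y =>
        have h1 : (PresentedGroup.of (some y) : Cov) = gC y := rfl
        rw [h1, onmcovexSigma_g]
        show PresentedGroup.toGroup hrel (PresentedGroup.of y) = _
        rw [PresentedGroup.toGroup.of]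
        rfl
    intro x hx
    rw [MonoidHom.mem_ker] at hx
    have h2 := DFunLike.congr_fun hτσ x
    rw [MonoidHom.comp_apply, hx, map_one] at h2
    exact (QuotientGroup.eq_one_iff x).mp h2.symm
  · rw [Subgroup.zpowers_le, MonoidHom.mem_ker]
    exact onmcovexSigma_z

/-- the central element lies in the commutator subgroup: computation in the abelianisation -/
theorem onmcovex_z_mem_commutator : zC ∈ commutator Cov := by
  rw [← Abelianization.ker_of Cov, MonoidHom.mem_ker]
  set π : Cov →* Abelianization Cov := Abelianization.of with hπ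
  have hsq : ∀ y ∈ coxNodes ON.edges, gC y * gC y = 1 := by
    intro y hy
    have h1 := onmcovex_iota_cox _ ⟨y, hy, y, hy, rfl⟩
    have : coxLabel ON.edges y y = 1 := by
      delta coxLabel
      rw [if_pos rfl]
    rw [this, pow_one, map_mul, onmcovexIota_of] at h1
    exact h1
  have ha : π (gC ON.Gen.a) ^ 2 = 1 := by
    rw [pow_two, ← map_mul, hsq _ (by decide), map_one]
  have hb : π (gC ON.Gen.b) ^ 2 = 1 := by
    rw [pow_two, ← map_mul, hsq _ (by decide), map_one]
  have hf : π (gC ON.Gen.f) ^ 2 = 1 := by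
    rw [pow_two, ← map_mul, hsq _ (by decide), map_one]
  -- `a f = g ^ 2`
  have h1 : π (gC ON.Gen.a) * π (gC ON.Gen.f) = π (gC ON.Gen.g) ^ 2 := by
    have := onmcovex_list_mem (embW ((ON.a * ON.f) * ((ON.g ^ 2)⁻¹)))
      (by simp only [List.mem_cons, true_or, or_true])
    have h2 : onmcovexIota ((ON.a * ON.f) * ((ON.g ^ 2)⁻¹)) = 1 := this
    rw [map_mul, map_mul, map_inv, map_pow, mul_inv_eq_one] at h2
    rw [← map_mul, ← map_pow]
    show π (gC ON.Gen.a * gC ON.Gen.f) = π (gC ON.Gen.g ^ 2)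
    rw [← onmcovexIota_of, ← onmcovexIota_of, ← onmcovexIota_of, h2]
  have hg4 : π (gC ON.Gen.g) ^ 4 = 1 := by
    have : π (gC ON.Gen.g) ^ 4 = (π (gC ON.Gen.g) ^ 2) ^ 2 := by rw [← pow_mul]
    rw [this, ← h1, mul_pow, ha, hf, one_mul]
  -- `z = g b g^c g^b g^c`
  have h3 : π zC = π (gC ON.Gen.g) ^ 4 * π (gC ON.Gen.b) := by
    have := onmcovex_list_mem (embW (ON.g * ON.b * (ON.c⁻¹ * ON.g * ON.c) * (ON.b⁻¹ * ON.g * ON.b) *
      (ON.c⁻¹ * ON.g * ON.c)) * zW⁻¹) (by simp only [List.mem_cons, true_or, or_true])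
    rw [map_mul, map_inv, mul_inv_eq_one] at this
    have h2 : onmcovexIota (ON.g * ON.b * (ON.c⁻¹ * ON.g * ON.c) * (ON.b⁻¹ * ON.g * ON.b) *
      (ON.c⁻¹ * ON.g * ON.c)) = zC := this
    rw [← h2]
    simp only [map_mul, map_inv, onmcovexIota_of]
    have e1 : (π (gC ON.Gen.c))⁻¹ * π (gC ON.Gen.g) * π (gC ON.Gen.c) = π (gC ON.Gen.g) := by
      rw [mul_comm (π (gC ON.Gen.c))⁻¹, mul_assoc, inv_mul_cancel, mul_one]
    have e2 : (π (gC ON.Gen.b))⁻¹ * π (gC ON.Gen.g) * π (gC ON.Gen.b) = π (gC ON.Gen.g) := by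
      rw [mul_comm (π (gC ON.Gen.b))⁻¹, mul_assoc, inv_mul_cancel, mul_one]
    rw [e1, e2, mul_comm (π (gC ON.Gen.g)) (π (gC ON.Gen.b))]
    rw [pow_succ, pow_succ, pow_succ, pow_one]
    rw [mul_comm ((π (gC ON.Gen.g)) * (π (gC ON.Gen.g)) * (π (gC ON.Gen.g)) * (π (gC ON.Gen.g)))]
    simp only [mul_assoc]
  rw [hg4, one_mul] at h3
  have hz2 : π zC ^ 2 = 1 := by rw [h3, hb]
  have hz3 : π zC ^ 3 = 1 := by rw [← map_pow, onmcovex_z_pow, map_one]
  calc π zC = π zC ^ 3 * (π zC ^ 2)⁻¹ := by
        rw [pow_succ (π zC) 2, mul_assoc, mul_inv_cancel_comm_assoc]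
    _ = 1 := by rw [hz2, hz3, inv_one, mul_one]

/-- COVEX (core): with `ON` finite -/
theorem onmcovex_core [Finite ON] {M : Type*} [Group M] (μ : Cov →* M) (hμ : μ zC ≠ 1) :
    ∃ (Γ : Type) (_ : Group Γ) (_ : Finite Γ) (σ : Γ →* ON),
      Cfsg.IsStemExtension σ ∧ Nonempty (σ.ker ≃* Multiplicative (ZMod 3)) := by
  have hz1 : zC ≠ 1 := by
    intro h
    apply hμ
    rw [h, map_one]
  have hord : orderOf zC = 3 := orderOf_eq_prime onmcovex_z_pow hz1
  have hcardZ : Nat.card (Subgroup.zpowers zC) = 3 := by rw [Nat.card_zpowers, hord]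
  have hker := onmcovex_ker
  haveI hfinZ : Finite (Subgroup.zpowers zC) := Nat.finite_of_card_ne_zero (by rw [hcardZ]; norm_num)
  haveI hfinK : Finite onmcovexSigma.ker := by rw [hker]; exact hfinZ
  haveI hfinQ : Finite (Cov ⧸ onmcovexSigma.ker) :=
    Finite.of_equiv ON
      (QuotientGroup.quotientKerEquivOfSurjective onmcovexSigma onmcovexSigma_surj).symm.toEquiv
  haveI hfin : Finite Cov :=
    Finite.of_equiv _ (Subgroup.groupEquivQuotientProdSubgroup (s := onmcovexSigma.ker)).symm
  refine ⟨Cov, inferInstance, hfin, onmcovexSigma, ⟨onmcovexSigma_surj, ?_, ?_⟩, ?_⟩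
  · rw [hker, Subgroup.zpowers_le, Subgroup.mem_center_iff]
    exact onmcovex_central
  · rw [hker, Subgroup.zpowers_le]
    exact onmcovex_z_mem_commutator
  · have hc3 : Nat.card (Subgroup.zpowers zC) = Nat.card (Multiplicative (ZMod 3)) := by
      rw [hcardZ, Nat.card_eq_fintype_card, Fintype.card_multiplicative, ZMod.card]
    exact ⟨(MulEquiv.subgroupCongr hker).trans (mulEquivOfCyclicCardEq hc3)⟩

end Cfsg.Agent.Lib.helper17.ONM
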