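import Mathlib
import Cfsg.Prelude.Def_KGroupFacts
import Cfsg.Agent.Lib.Helper12.TCG.ONPres
import Cfsg.Agent.Lib.helper17.ONM.Defs

/-!
Project ONM (S2052), piece COVLIFT: the universal property of the presented cover `Cov` of the O'Nan group,
for letters in any group.
-/

set_option autoImplicit false
set_option linter.unusedSimpArgs false
set_option linter.unusedVariables false

namespace Cfsg.Agent.Lib.helper17.ONM

open Cfsg.Spor Cfsg.Agent.Lib.Helper12.TC Cfsg.Agent.Lib.Helper12.TCG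

universe u v

section
variable {K : Type*} [Group K] (φ : FreeGroup ON.Gen →* K)

set_option maxRecDepth 10000 in
set_option maxHeartbeats 1000000 in
/-- the further relators as words (the equalities `e0, ..., e6` of `ONPres.hextra`) -/
theorem onmcovlift_words
    (hsq : ∀ y ∈ coxNodes ON.edges, φ (FreeGroup.of y) * φ (FreeGroup.of y) = 1) :
    φ ((ON.a * ON.f) * ((ON.g ^ 2)⁻¹)) =
      wprod (ONPres.vOf (fun y => φ (FreeGroup.of y))) [0, 5, 7, 7] ∧
    φ ((ON.a * ON.f) * (((ON.c * ON.d) ^ 4)⁻¹)) =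
      wprod (ONPres.vOf (fun y => φ (FreeGroup.of y))) [0, 5, 3, 2, 3, 2, 3, 2, 3, 2] ∧
    φ (ON.c * ((ON.d * ON.g * ON.d * ON.g)⁻¹ * ON.c * (ON.d * ON.g * ON.d * ON.g))) =
      wprod (ONPres.vOf (fun y => φ (FreeGroup.of y))) [2, 7, 3, 7, 3, 2, 3, 6, 3, 6] ∧
    φ (ON.d * ((ON.c * ON.g * ON.c * ON.g)⁻¹ * ON.d * (ON.c * ON.g * ON.c * ON.g))) =
      wprod (ONPres.vOf (fun y => φ (FreeGroup.of y))) [3, 7, 2, 7, 2, 3, 2, 6, 2, 6] ∧
    φ ((ON.b * ON.c * ON.d * ON.g) ^ 5) =
      wprod (ONPres.vOf (fun y => φ (FreeGroup.of y)))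
        [1, 2, 3, 6, 1, 2, 3, 6, 1, 2, 3, 6, 1, 2, 3, 6, 1, 2, 3, 6] ∧
    φ (ON.g * ON.b * (ON.c⁻¹ * ON.g * ON.c) * (ON.b⁻¹ * ON.g * ON.b) * (ON.c⁻¹ * ON.g * ON.c)) =
      wprod (ONPres.vOf (fun y => φ (FreeGroup.of y))) [6, 1, 2, 6, 2, 1, 6, 1, 2, 6, 2] ∧
    φ (ON.g * ON.e * (ON.d⁻¹ * ON.g * ON.d) * (ON.e⁻¹ * ON.g * ON.e) * (ON.d⁻¹ * ON.g * ON.d)) =
      wprod (ONPres.vOf (fun y => φ (FreeGroup.of y))) [6, 4, 3, 6, 3, 4, 6, 4, 3, 6, 3] := by
  have hia : (φ (FreeGroup.of ON.Gen.a))⁻¹ = φ (FreeGroup.of ON.Gen.a) :=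
    inv_eq_of_mul_eq_one_left (hsq _ (by decide))
  have hib : (φ (FreeGroup.of ON.Gen.b))⁻¹ = φ (FreeGroup.of ON.Gen.b) :=
    inv_eq_of_mul_eq_one_left (hsq _ (by decide))
  have hic : (φ (FreeGroup.of ON.Gen.c))⁻¹ = φ (FreeGroup.of ON.Gen.c) :=
    inv_eq_of_mul_eq_one_left (hsq _ (by decide))
  have hid : (φ (FreeGroup.of ON.Gen.d))⁻¹ = φ (FreeGroup.of ON.Gen.d) :=
    inv_eq_of_mul_eq_one_left (hsq _ (by decide))
  have hie : (φ (FreeGroup.of ON.Gen.e))⁻¹ = φ (FreeGroup.of ON.Gen.e) :=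
    inv_eq_of_mul_eq_one_left (hsq _ (by decide))
  have hif : (φ (FreeGroup.of ON.Gen.f))⁻¹ = φ (FreeGroup.of ON.Gen.f) :=
    inv_eq_of_mul_eq_one_left (hsq _ (by decide))
  refine ⟨?_, ?_, ?_, ?_, ?_, ?_, ?_⟩ <;>
  simp only [map_mul, map_inv, mul_inv_rev, pow_succ, pow_zero, one_mul, hia, hib, hic, hid, hie, hif,
    wprod, List.map, List.prod_cons, List.prod_nil, mul_one, mul_assoc, ONPres.vOf, inv_inv]

end

/-- COVLIFT: the universal property of the cover, for letters in any group -/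
theorem onm_cov_lift {M : Type*} [Group M] (f : ℕ → M) (ζ : M)
    (hf : ∀ s < 8, f (invS ONPres.cIV s) = (f s)⁻¹)
    (hw : ∀ b ∈ coxWords ON.edges ONPres.gen 6 ++ ([[0, 5, 7, 7], [0, 5, 3, 2, 3, 2, 3, 2, 3, 2],
      [2, 7, 3, 7, 3, 2, 3, 6, 3, 6], [3, 7, 2, 7, 2, 3, 2, 6, 2, 6]] ++ ONPres.pairWords), wprod f b = 1)
    (hz : ∀ b ∈ [[1, 2, 3, 6, 1, 2, 3, 6, 1, 2, 3, 6, 1, 2, 3, 6, 1, 2, 3, 6],
      [6, 1, 2, 6, 2, 1, 6, 1, 2, 6, 2], [6, 4, 3, 6, 3, 4, 6, 4, 3, 6, 3]], wprod f b = ζ)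
    (hζ3 : ζ ^ 3 = 1) (hζc : ∀ s < 7, f s * ζ = ζ * f s) :
    ∃ μ : Cov →* M, (∀ y : ON.Gen, μ (gC y) = f (ONPres.idx y)) ∧ μ zC = ζ := by
  let F : CGen → M := fun o => match o with
    | none => ζ
    | some y => f (ONPres.idx y)
  let ψ : FreeGroup CGen →* M := FreeGroup.lift F
  let φ : FreeGroup ON.Gen →* M := ψ.comp embW
  have hψz : ψ zW = ζ := FreeGroup.lift_apply_of
  have hψs : ∀ y : ON.Gen, ψ (FreeGroup.of (some y)) = f (ONPres.idx y) := fun y => FreeGroup.lift_apply_of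
  have hφ : ∀ y, φ (FreeGroup.of y) = f (ONPres.idx y) := by
    intro y
    show ψ (embW (FreeGroup.of y)) = _
    rw [show embW (FreeGroup.of y) = FreeGroup.of (some y) from FreeGroup.map.of]
    exact hψs y
  have hφe : ∀ w, ψ (embW w) = φ w := fun w => rfl
  have h7 : f 7 = (f 6)⁻¹ := hf 6 (by decide)
  have hvf : ∀ i < 8, ONPres.vOf (fun y => φ (FreeGroup.of y)) i = f i := by
    intro i hi
    interval_cases i
    · exact hφ _
    · exact hφ _
    · exact hφ _
    · exact hφ _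
    · exact hφ _
    · exact hφ _
    · exact hφ _
    · show (φ (FreeGroup.of ON.Gen.g))⁻¹ = f 7
      rw [hφ, h7]
      rfl
  have hwv : ∀ l : List ℕ, (∀ s ∈ l, s < 8) →
      wprod (ONPres.vOf (fun y => φ (FreeGroup.of y))) l = wprod f l := by
    intro l
    induction l with
    | nil => intro _; rfl
    | cons s l ih =>
      intro hl
      rw [wprod_cons, wprod_cons, ih (fun t ht => hl t (List.mem_cons_of_mem _ ht)),
        hvf s (hl s List.mem_cons_self)]
  have hsq : ∀ y ∈ coxNodes ON.edges, φ (FreeGroup.of y) * φ (FreeGroup.of y) = 1 := by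
    intro y hy
    obtain ⟨i, hi, rfl⟩ := ONPres.nodes_cases y hy
    have h1 := hw [i, i] (by
      apply List.mem_append_right
      apply List.mem_append_right
      interval_cases i <;> decide)
    rw [wprod_cons, wprod_cons, wprod_nil, mul_one] at h1
    rw [← ONPres.vOf_gen φ (by omega), hvf i (by omega)]
    exact h1
  obtain ⟨e0, e1, e2, e3, e4, e5, e6⟩ := onmcovlift_words φ hsq
  have hcoxlet : lettersK 6 (coxWords ON.edges ONPres.gen 6) = true := by decide
  have hrel : ∀ r ∈ coverRels, ψ r = 1 := by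
    intro r hr
    rcases hr with (⟨r0, hr0, rfl⟩ | hr) | ⟨y, rfl⟩
    · rw [hφe]
      refine ONPres.cox_hom_of_words' φ hsq (fun b hb => ?_) r0 hr0
      have hl : ∀ s ∈ b, s < 6 := fun s hs => lettersK_lt hcoxlet hb hs
      rw [← ONPres.wprod_vOf_of_lt φ b hl, hwv b (fun s hs => by have := hl s hs; omega)]
      exact hw b (List.mem_append_left _ hb)
    · simp only [Set.mem_setOf_eq, List.mem_cons, List.not_mem_nil, or_false] at hr
      rcases hr with rfl | rfl | rfl | rfl | rfl | rfl | rfl | rfl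
      · rw [hφe, e0, hwv _ (by decide)]
        exact hw _ (by
          apply List.mem_append_right
          apply List.mem_append_left
          decide)
      · rw [hφe, e1, hwv _ (by decide)]
        exact hw _ (by
          apply List.mem_append_right
          apply List.mem_append_left
          decide)
      · rw [hφe, e2, hwv _ (by decide)]
        exact hw _ (by
          apply List.mem_append_right
          apply List.mem_append_left
          decide)
      · rw [hφe, e3, hwv _ (by decide)]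
        exact hw _ (by
          apply List.mem_append_right
          apply List.mem_append_left
          decide)
      · rw [map_mul, map_inv, hφe, e4, hwv _ (by decide), hψz, hz _ (by decide), mul_inv_cancel]
      · rw [map_mul, map_inv, hφe, e5, hwv _ (by decide), hψz, hz _ (by decide), mul_inv_cancel]
      · rw [map_mul, map_inv, hφe, e6, hwv _ (by decide), hψz, hz _ (by decide), mul_inv_cancel]
      · rw [map_pow, hψz, hζ3]
    · rw [map_mul, map_mul, map_mul, map_inv, map_inv, hψz, hψs]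
      have hc := hζc (ONPres.idx y) (by cases y <;> decide)
      rw [hc, mul_inv_cancel_right, mul_inv_cancel]
  refine ⟨PresentedGroup.toGroup hrel, fun y => ?_, ?_⟩
  · show PresentedGroup.toGroup hrel (PresentedGroup.mk coverRels (FreeGroup.of (some y))) = _
    exact (PresentedGroup.toGroup.of hrel).trans (by rfl)
  · show PresentedGroup.toGroup hrel (PresentedGroup.mk coverRels (FreeGroup.of none)) = _
    exact (PresentedGroup.toGroup.of hrel).trans (by rfl)

end Cfsg.Agent.Lib.helper17.ONM
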