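import Cfsg.Agent.Lib.helper17.SLN.Defs

/-!
# SLN row C0 (helper6): `spread` (generic): from the instance `s = t = 1` of a commutator relation to all `s t`,
by two torus elements.
-/

set_option autoImplicit false

namespace Cfsg.Agent.Lib.helper17.SLN

open Cfsg.Agent.Lib.helper17.SLP

universe u v w v'

section C

variable {F : Type u} [Field F] [Fintype F] {ι : Type w} [Fintype ι] [DecidableEq ι] {G : Type v} [Group G]

/-- extra: conjugation of a commutator -/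
theorem slnc0_conj_cm {G : Type v} [Group G] (g a b : G) :
    g * cm a b * g⁻¹ = cm (g * a * g⁻¹) (g * b * g⁻¹) := by
  unfold cm
  group

/-- extra: `cm 1 b = 1`, `cm a 1 = 1` -/
theorem slnc0_cm_one_left {G : Type v} [Group G] (b : G) : cm 1 b = 1 := by
  unfold cm
  group

theorem slnc0_cm_one_right {G : Type v} [Group G] (a : G) : cm a 1 = 1 := by
  unfold cm
  group

/-- C0 [S-M]  generic (no `Glue`, no finiteness). -/
theorem spread (X Y Z : F → G) (hX0 : X 0 = 1) (hY0 : Y 0 = 1) (hZ0 : Z 0 = 1) (g g' : Fˣ → G)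
    (hgX : ∀ r : Fˣ, Act (g r) X (r : F)) (hgY : ∀ r : Fˣ, Act (g r) Y 1) (hgZ : ∀ r : Fˣ, Act (g r) Z (r : F))
    (hg'X : ∀ r : Fˣ, Act (g' r) X 1) (hg'Y : ∀ r : Fˣ, Act (g' r) Y (r : F))
    (hg'Z : ∀ r : Fˣ, Act (g' r) Z (r : F))
    (h : cm (X 1) (Y 1) = Z 1) : ∀ s t, cm (X s) (Y t) = Z (s * t) := by
  intro s t
  by_cases hs : s = 0
  · rw [hs, zero_mul, hX0, hZ0, slnc0_cm_one_left]
  by_cases ht : t = 0
  · rw [ht, mul_zero, hY0, hZ0, slnc0_cm_one_right]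
  set rs : Fˣ := Units.mk0 s hs with hrs
  set rt : Fˣ := Units.mk0 t ht with hrt
  have e1 : cm (X s) (Y 1) = Z s := by
    have h1 : g rs * cm (X 1) (Y 1) * (g rs)⁻¹ = g rs * Z 1 * (g rs)⁻¹ := by rw [h]
    rw [slnc0_conj_cm, hgX rs 1, hgY rs 1, hgZ rs 1, mul_one, mul_one] at h1
    exact h1
  have e2 : g' rt * cm (X s) (Y 1) * (g' rt)⁻¹ = g' rt * Z s * (g' rt)⁻¹ := by rw [e1]
  rw [slnc0_conj_cm, hg'X rt s, hg'Y rt 1, hg'Z rt s, mul_one, one_mul] at e2
  rw [mul_comm s t]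
  exact e2

end C

end Cfsg.Agent.Lib.helper17.SLN
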