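import Cfsg.Agent.Lib.helper17.SLN.Defs
import Cfsg.Agent.Lib.helper2.SLPM1
import Cfsg.Agent.Lib.Helper24.SLNA1
import Cfsg.Agent.Lib.Helper25.SLNS2

/-!
# SLN row E6 (helper6): `xr_conj hr_conj xr_swap hr_swap`.

The file is self-contained: it has own-name copies `slne6_phiR_conj` / `slne6_phiR_swap` of the
statements of rows E3 / E5 (through `slne6_phiC_congr`, the statement of E2), so that it does not wait
for those rows.
-/

set_option autoImplicit false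

namespace Cfsg.Agent.Lib.helper17.SLN

open Cfsg.Agent.Lib.helper17.SLP

universe u v w v'

section E

variable {F : Type u} [Field F] {ι : Type w} [Fintype ι] [DecidableEq ι] {G : Type v} [Group G]

/-- own copy of the statement of E1 `phiC_apply` -/
theorem slne6_phiC_apply (ν : alternatingGroup ι →* G) (φ : Matrix.SpecialLinearGroup (Fin 2) F →* G)
    (σ : alternatingGroup ι) (m : Matrix.SpecialLinearGroup (Fin 2) F) :
    phiC ν φ σ m = ν σ * φ m * (ν σ)⁻¹ := rfl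

/-- own copy of the statement of E2 `phiC_congr` -/
theorem slne6_phiC_congr (p : Pts ι) (ν : alternatingGroup ι →* G)
    (φ : Matrix.SpecialLinearGroup (Fin 2) F →* G)
    (h1 : ∀ σ : alternatingGroup ι, (σ : Equiv.Perm ι) p.o0 = p.o0 → (σ : Equiv.Perm ι) p.o1 = p.o1 →
      ∀ m, ν σ * φ m * (ν σ)⁻¹ = φ m)
    (σ τ : alternatingGroup ι) (h0 : (σ : Equiv.Perm ι) p.o0 = (τ : Equiv.Perm ι) p.o0)
    (h1' : (σ : Equiv.Perm ι) p.o1 = (τ : Equiv.Perm ι) p.o1) (m : Matrix.SpecialLinearGroup (Fin 2) F) :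
    phiC ν φ σ m = phiC ν φ τ m := by
  rw [slne6_phiC_apply, slne6_phiC_apply]
  have ha : ((τ⁻¹ * σ : alternatingGroup ι) : Equiv.Perm ι) p.o0 = p.o0 := by
    rw [Subgroup.coe_mul, Subgroup.coe_inv, Equiv.Perm.mul_apply, h0]
    exact Equiv.Perm.inv_eq_iff_eq.2 rfl
  have hb : ((τ⁻¹ * σ : alternatingGroup ι) : Equiv.Perm ι) p.o1 = p.o1 := by
    rw [Subgroup.coe_mul, Subgroup.coe_inv, Equiv.Perm.mul_apply, h1']
    exact Equiv.Perm.inv_eq_iff_eq.2 rfl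
  have h := h1 (τ⁻¹ * σ) ha hb m
  rw [map_mul, map_inv] at h
  calc ν σ * φ m * (ν σ)⁻¹ = ν τ * ((ν τ)⁻¹ * ν σ * φ m * ((ν τ)⁻¹ * ν σ)⁻¹) * (ν τ)⁻¹ := by group
    _ = ν τ * φ m * (ν τ)⁻¹ := by rw [h]

/-- own copy of the statement of E3 `phiR_conj` -/
theorem slne6_phiR_conj (p : Pts ι) (ν : alternatingGroup ι →* G)
    (φ : Matrix.SpecialLinearGroup (Fin 2) F →* G)
    (h1 : ∀ σ : alternatingGroup ι, (σ : Equiv.Perm ι) p.o0 = p.o0 → (σ : Equiv.Perm ι) p.o1 = p.o1 →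
      ∀ m, ν σ * φ m * (ν σ)⁻¹ = φ m)
    (σ : alternatingGroup ι) (i j : ι) (hij : i ≠ j) (m : Matrix.SpecialLinearGroup (Fin 2) F) :
    ν σ * phiR p ν φ i j m * (ν σ)⁻¹ = phiR p ν φ ((σ : Equiv.Perm ι) i) ((σ : Equiv.Perm ι) j) m := by
  have hσ : (σ : Equiv.Perm ι) i ≠ (σ : Equiv.Perm ι) j := fun h => hij ((σ : Equiv.Perm ι).injective h)
  obtain ⟨a0, a1⟩ := sig_spec p i j hij
  obtain ⟨b0, b1⟩ := sig_spec p _ _ hσ
  unfold phiR
  have h2 : ν σ * phiC ν φ (sig p i j) m * (ν σ)⁻¹ = phiC ν φ (σ * sig p i j) m := by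
    rw [slne6_phiC_apply, slne6_phiC_apply, map_mul]
    group
  rw [h2]
  apply slne6_phiC_congr p ν φ h1
  · rw [Subgroup.coe_mul, Equiv.Perm.mul_apply, a0, b0]
  · rw [Subgroup.coe_mul, Equiv.Perm.mul_apply, a1, b1]

/-- own copy of the statement of E5 `phiR_swap` -/
theorem slne6_phiR_swap (p : Pts ι) (ν : alternatingGroup ι →* G)
    (φ : Matrix.SpecialLinearGroup (Fin 2) F →* G)
    (h2 : ∀ σ : alternatingGroup ι, (σ : Equiv.Perm ι) p.o0 = p.o1 → (σ : Equiv.Perm ι) p.o1 = p.o0 →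
      ∀ m, ν σ * φ m * (ν σ)⁻¹ = φ (swM m))
    (i j : ι) (hij : i ≠ j) (m : Matrix.SpecialLinearGroup (Fin 2) F) :
    phiR p ν φ j i m = phiR p ν φ i j (swM m) := by
  obtain ⟨a0, a1⟩ := sig_spec p i j hij
  obtain ⟨b0, b1⟩ := sig_spec p j i hij.symm
  unfold phiR
  rw [slne6_phiC_apply, slne6_phiC_apply]
  have ha : (((sig p i j)⁻¹ * sig p j i : alternatingGroup ι) : Equiv.Perm ι) p.o0 = p.o1 := by
    rw [Subgroup.coe_mul, Subgroup.coe_inv, Equiv.Perm.mul_apply, b0]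
    exact Equiv.Perm.inv_eq_iff_eq.2 a1.symm
  have hb : (((sig p i j)⁻¹ * sig p j i : alternatingGroup ι) : Equiv.Perm ι) p.o1 = p.o0 := by
    rw [Subgroup.coe_mul, Subgroup.coe_inv, Equiv.Perm.mul_apply, b1]
    exact Equiv.Perm.inv_eq_iff_eq.2 a0.symm
  have h := h2 ((sig p i j)⁻¹ * sig p j i) ha hb m
  rw [map_mul, map_inv] at h
  rw [← h]
  group

/-- E6 [S-M] -/
theorem xr_conj (p : Pts ι) (ζ : Fˣ) (ν : alternatingGroup ι →* G)
    (φ : Matrix.SpecialLinearGroup (Fin 2) F →* G) (H : Glue p ζ ν φ) (σ : alternatingGroup ι) (i j : ι) (t : F) :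
    ν σ * xr p ν φ i j t * (ν σ)⁻¹ = xr p ν φ ((σ : Equiv.Perm ι) i) ((σ : Equiv.Perm ι) j) t := by
  by_cases hij : i = j
  · subst hij
    unfold xr
    rw [if_pos rfl, if_pos rfl, mul_one, mul_inv_cancel]
  · have hσ : (σ : Equiv.Perm ι) i ≠ (σ : Equiv.Perm ι) j :=
      fun h => hij ((σ : Equiv.Perm ι).injective h)
    unfold xr
    rw [if_neg hij, if_neg hσ]
    exact slne6_phiR_conj p ν φ H.stab1 σ i j hij (xM t)

theorem hr_conj (p : Pts ι) (ζ : Fˣ) (ν : alternatingGroup ι →* G)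
    (φ : Matrix.SpecialLinearGroup (Fin 2) F →* G) (H : Glue p ζ ν φ) (σ : alternatingGroup ι) (i j : ι)
    (hij : i ≠ j) (s : Fˣ) :
    ν σ * hr p ν φ i j s * (ν σ)⁻¹ = hr p ν φ ((σ : Equiv.Perm ι) i) ((σ : Equiv.Perm ι) j) s := by
  unfold hr
  exact slne6_phiR_conj p ν φ H.stab1 σ i j hij (hM s)

theorem xr_swap (p : Pts ι) (ζ : Fˣ) (ν : alternatingGroup ι →* G)
    (φ : Matrix.SpecialLinearGroup (Fin 2) F →* G) (H : Glue p ζ ν φ) (i j : ι) (hij : i ≠ j) (t : F) :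
    xr p ν φ j i t = phiR p ν φ i j (yM t) := by
  unfold xr
  rw [if_neg hij.symm, slne6_phiR_swap p ν φ H.stab2 i j hij, swM_xM]

theorem hr_swap (p : Pts ι) (ζ : Fˣ) (ν : alternatingGroup ι →* G)
    (φ : Matrix.SpecialLinearGroup (Fin 2) F →* G) (H : Glue p ζ ν φ) (i j : ι) (hij : i ≠ j) (s : Fˣ) :
    hr p ν φ j i s = (hr p ν φ i j s)⁻¹ := by
  unfold hr
  rw [slne6_phiR_swap p ν φ H.stab2 i j hij, swM_hM, map_inv]

/-- extra: `wr` version of `hr_conj` -/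
theorem slne6_wr_conj (p : Pts ι) (ζ : Fˣ) (ν : alternatingGroup ι →* G)
    (φ : Matrix.SpecialLinearGroup (Fin 2) F →* G) (H : Glue p ζ ν φ) (σ : alternatingGroup ι) (i j : ι)
    (hij : i ≠ j) :
    ν σ * wr p ν φ i j * (ν σ)⁻¹ = wr p ν φ ((σ : Equiv.Perm ι) i) ((σ : Equiv.Perm ι) j) := by
  unfold wr
  exact slne6_phiR_conj p ν φ H.stab1 σ i j hij wM

end E

end Cfsg.Agent.Lib.helper17.SLN
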