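import Cfsg.Agent.Lib.helper17.SLN.Defs
import Cfsg.Agent.Lib.helper2.SLPM1

/-!
# SLN row E7 (helper6): rank one facts for every pair, pushed through the hom `phiR p ν φ i j`.
-/

set_option autoImplicit false

namespace Cfsg.Agent.Lib.helper17.SLN

open Cfsg.Agent.Lib.helper17.SLP

universe u v w v'

section E

variable {F : Type u} [Field F] {ι : Type w} [Fintype ι] [DecidableEq ι] {G : Type v} [Group G]

/-- extra: `hM s * yM t * (hM s)⁻¹ = yM ((s⁻¹)² t)` (2×2). -/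
theorem slne7_hM_yM (s : Fˣ) (t : F) :
    hM s * yM t * (hM s)⁻¹ = yM (((s⁻¹ : Fˣ) : F) ^ 2 * t) := by
  rw [slpm1_hM_inv]
  apply Subtype.ext
  rw [Matrix.SpecialLinearGroup.coe_mul, Matrix.SpecialLinearGroup.coe_mul, slpm1_coe_hM,
    slpm1_coe_hM]
  show !![(s : F), 0; 0, ((s⁻¹ : Fˣ) : F)] * !![1, 0; t, 1] *
      !![((s⁻¹ : Fˣ) : F), 0; 0, (((s⁻¹)⁻¹ : Fˣ) : F)] = !![1, 0; ((s⁻¹ : Fˣ) : F) ^ 2 * t, 1]
  rw [Matrix.mul_fin_two, Matrix.mul_fin_two, inv_inv]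
  have h1 : (s : F) * ((s⁻¹ : Fˣ) : F) = 1 := by rw [← Units.val_mul, mul_inv_cancel, Units.val_one]
  have h2 : ((s⁻¹ : Fˣ) : F) * (s : F) = 1 := by rw [← Units.val_mul, inv_mul_cancel, Units.val_one]
  ext a b
  fin_cases a <;> fin_cases b <;> simp [h1, h2] <;> ring

/-- extra: `xr` off the diagonal -/
theorem slne7_xr_of_ne (p : Pts ι) (ν : alternatingGroup ι →* G)
    (φ : Matrix.SpecialLinearGroup (Fin 2) F →* G) {i j : ι} (hij : i ≠ j) (t : F) :
    xr p ν φ i j t = phiR p ν φ i j (xM t) := by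
  unfold xr
  rw [if_neg hij]

/-- extra: `xr` on the diagonal -/
theorem slne7_xr_self (p : Pts ι) (ν : alternatingGroup ι →* G)
    (φ : Matrix.SpecialLinearGroup (Fin 2) F →* G) (i : ι) (t : F) :
    xr p ν φ i i t = 1 := by
  unfold xr
  rw [if_pos rfl]

/-- E7 [S-M]  rank one facts for every pair. -/
theorem xr_basic (p : Pts ι) (ν : alternatingGroup ι →* G) (φ : Matrix.SpecialLinearGroup (Fin 2) F →* G)
    (i j : ι) :
    (∀ s t, xr p ν φ i j (s + t) = xr p ν φ i j s * xr p ν φ i j t) ∧ xr p ν φ i j 0 = 1 ∧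
      (∀ t, xr p ν φ i j (-t) = (xr p ν φ i j t)⁻¹) ∧
      (∀ s r : Fˣ, hr p ν φ i j (s * r) = hr p ν φ i j s * hr p ν φ i j r) ∧
      (∀ s : Fˣ, hr p ν φ i j s⁻¹ = (hr p ν φ i j s)⁻¹) ∧
      (∀ (s : Fˣ) (k : ℤ), hr p ν φ i j (s ^ k) = hr p ν φ i j s ^ k) ∧
      (∀ s : Fˣ, Act (hr p ν φ i j s) (xr p ν φ i j) ((s : F) ^ 2)) ∧
      (∀ (s : Fˣ) (t : F), hr p ν φ i j s * phiR p ν φ i j (yM t) * (hr p ν φ i j s)⁻¹ =
        phiR p ν φ i j (yM (((s⁻¹ : Fˣ) : F) ^ 2 * t))) := by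
  have hadd : ∀ s t, xr p ν φ i j (s + t) = xr p ν φ i j s * xr p ν φ i j t := by
    intro s t
    by_cases hij : i = j
    · subst hij
      rw [slne7_xr_self, slne7_xr_self, slne7_xr_self, mul_one]
    · rw [slne7_xr_of_ne p ν φ hij, slne7_xr_of_ne p ν φ hij, slne7_xr_of_ne p ν φ hij, ← map_mul,
        xM_mul]
  have hzero : xr p ν φ i j 0 = 1 := by
    by_cases hij : i = j
    · subst hij
      rw [slne7_xr_self]
    · rw [slne7_xr_of_ne p ν φ hij, xM_zero, map_one]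
  refine ⟨hadd, hzero, ?_, ?_, ?_, ?_, ?_, ?_⟩
  · intro t
    rw [eq_inv_iff_mul_eq_one, ← hadd, neg_add_cancel, hzero]
  · intro s r
    unfold hr
    rw [← map_mul, hM_mul]
  · intro s
    unfold hr
    rw [← map_inv, slpm1_hM_inv]
  · intro s k
    unfold hr
    rw [← map_zpow, slpm1_hM_zpow]
  · intro s t
    by_cases hij : i = j
    · subst hij
      rw [slne7_xr_self, slne7_xr_self, mul_one, mul_inv_cancel]
    · rw [slne7_xr_of_ne p ν φ hij, slne7_xr_of_ne p ν φ hij]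
      unfold hr
      rw [← map_inv, ← map_mul, ← map_mul, hM_conj]
  · intro s t
    unfold hr
    rw [← map_inv, ← map_mul, ← map_mul, slne7_hM_yM]

end E

end Cfsg.Agent.Lib.helper17.SLN
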