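import Cfsg.Agent.Lib.helper17.SLN.Defs
import Cfsg.Agent.Lib.helper17.SP4Kit

/-!
# SLN row T0 (helper6): `act_of_instance` (generic) + small `Act` calculus for `SLN.Act`.
-/

set_option autoImplicit false

namespace Cfsg.Agent.Lib.helper17.SLN

open Cfsg.Agent.Lib.helper17.SLP
open Cfsg.Agent.Lib.helper3.SP4 (sp4kit_act_span sp4kit_sq_span)

universe u v w v'

section Tgen

variable {F : Type u} [Field F] {G : Type v} [Group G]

/-- extra: `Act` of the trivial element -/
theorem slnt0_act_one (X : F → G) : Act (1 : G) X 1 := by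
  intro t
  simp

/-- extra: `Act` is multiplicative -/
theorem slnt0_act_mul (g g' : G) (X : F → G) (c c' : F) (h : Act g X c) (h' : Act g' X c') :
    Act (g * g') X (c * c') := by
  intro t
  calc g * g' * X t * (g * g')⁻¹ = g * (g' * X t * g'⁻¹) * g⁻¹ := by group
    _ = X (c * c' * t) := by rw [h' t, h (c' * t), mul_assoc]

/-- extra: `Act` of the inverse -/
theorem slnt0_act_inv (g : G) (X : F → G) (c : F) (hc : c ≠ 0) (h : Act g X c) : Act g⁻¹ X c⁻¹ := by
  intro t
  have h1 := h (c⁻¹ * t)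
  rw [← mul_assoc, mul_inv_cancel₀ hc, one_mul] at h1
  rw [← h1]
  group

/-- extra: `Act` of integer powers -/
theorem slnt0_act_zpow (g : G) (X : F → G) (c : F) (hc : c ≠ 0) (h : Act g X c) (i : ℤ) :
    Act (g ^ i) X (c ^ i) := by
  have hn : ∀ n : ℕ, Act (g ^ n) X (c ^ n) := by
    intro n
    induction n with
    | zero => simpa using slnt0_act_one (G := G) X
    | succ n ih =>
      rw [pow_succ, pow_succ]
      exact slnt0_act_mul _ _ X _ _ ih h
  cases i with
  | ofNat n => simpa using hn n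
  | negSucc n =>
    rw [zpow_negSucc, zpow_negSucc]
    exact slnt0_act_inv _ X _ (pow_ne_zero _ hc) (hn (n + 1))

/-- extra: conjugating an `Act` statement: if `n g n⁻¹ = g'` and `n (X t) n⁻¹ = X' t` then `Act g X c → Act g' X' c` -/
theorem slnt0_act_conj (n g g' : G) (X X' : F → G) (c : F) (hg : n * g * n⁻¹ = g')
    (hX : ∀ t, n * X t * n⁻¹ = X' t) (h : Act g X c) : Act g' X' c := by
  intro t
  rw [← hg, ← hX t, ← hX (c * t), ← h t]
  group

/-- extra: `Act` on the constant map `1` -/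
theorem slnt0_act_const_one (g : G) (c : F) : Act g (fun _ : F => (1 : G)) c := by
  intro t
  simp

end Tgen

section T

variable {F : Type u} [Field F] [Fintype F] {G : Type v} [Group G]

/-- T0 [S-M]  generic (no `Glue`). -/
theorem act_of_instance (X : F → G) (hX : ∀ s t, X (s + t) = X s * X t) (hs : Fˣ → G)
    (hact : ∀ s : Fˣ, Act (hs s) X ((s : F) ^ 2)) (g : G) (hg : ∀ s, Commute g (hs s)) (c : F)
    (h1 : g * X 1 * g⁻¹ = X c) : Act g X c := by
  refine sp4kit_act_span X X hX hX g c _ sp4kit_sq_span ?_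
  rintro t ⟨s, rfl⟩
  show g * X ((s : F) ^ 2) * g⁻¹ = X (c * (s : F) ^ 2)
  have e1 : X ((s : F) ^ 2) = hs s * X 1 * (hs s)⁻¹ := by
    have := hact s 1
    rw [mul_one] at this
    exact this.symm
  have e2 : X (c * (s : F) ^ 2) = hs s * X c * (hs s)⁻¹ := by
    have := hact s c
    rw [mul_comm] at this
    exact this.symm
  rw [e1, e2, ← h1]
  have hc := (hg s).eq
  have hc' : g * (hs s)⁻¹ = (hs s)⁻¹ * g := ((hg s).inv_right).eq
  calc g * (hs s * X 1 * (hs s)⁻¹) * g⁻¹ = (g * hs s) * X 1 * ((hs s)⁻¹ * g⁻¹) := by group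
    _ = (hs s * g) * X 1 * ((hs s)⁻¹ * g⁻¹) := by rw [hc]
    _ = hs s * (g * X 1 * (g * hs s)⁻¹) := by group
    _ = hs s * (g * X 1 * (hs s * g)⁻¹) := by rw [hc]
    _ = hs s * (g * X 1 * g⁻¹) * (hs s)⁻¹ := by group

end T

end Cfsg.Agent.Lib.helper17.SLN
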