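import Cfsg.Agent.Lib.helper17.SLN.Defs
import Cfsg.Agent.Lib.Helper24.SLNA1
import Cfsg.Agent.Lib.helper6.SLNE6
import Cfsg.Agent.Lib.helper6.SLNE7
import Cfsg.Agent.Lib.helper6.SLNT0

/-!
# SLN rows T1 T2 T3 T4 (helper6): the torus action `tor_comm_base act_base_gen act_base act_all`.
-/

set_option autoImplicit false

namespace Cfsg.Agent.Lib.helper17.SLN

open Cfsg.Agent.Lib.helper17.SLP

universe u v w v'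

section T

variable {F : Type u} [Field F] [Fintype F] {ι : Type w} [Fintype ι] [DecidableEq ι] {G : Type v} [Group G]

/-- T1 [S-M]  deps E6 E7. -/
theorem tor_comm_base (p : Pts ι) (ζ : Fˣ) (hζ : ∀ y : Fˣ, y ∈ Subgroup.zpowers ζ) (ν : alternatingGroup ι →* G)
    (φ : Matrix.SpecialLinearGroup (Fin 2) F →* G) (H : Glue p ζ ν φ) (s : Fˣ) :
    Commute (hr p ν φ p.o0 p.o2 ζ) (hr p ν φ p.o0 p.o1 s) ∧ Commute (hr p ν φ p.o1 p.o2 ζ) (hr p ν φ p.o0 p.o1 s) ∧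
      Commute (hr p ν φ p.o0 p.o2 ζ) (hr p ν φ p.o1 p.o0 s) ∧ Commute (hr p ν φ p.o1 p.o2 ζ) (hr p ν φ p.o1 p.o0 s) := by
  obtain ⟨k, hk⟩ := Subgroup.mem_zpowers_iff.mp (hζ s)
  have hz : hr p ν φ p.o0 p.o1 s = hr p ν φ p.o0 p.o1 ζ ^ k := by
    rw [← hk]
    exact (xr_basic p ν φ p.o0 p.o1).2.2.2.2.2.1 ζ k
  have hsw : hr p ν φ p.o1 p.o0 s = (hr p ν φ p.o0 p.o1 s)⁻¹ := hr_swap p ζ ν φ H p.o0 p.o1 p.h01 s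
  have c1 : Commute (hr p ν φ p.o0 p.o2 ζ) (hr p ν φ p.o0 p.o1 s) := by
    rw [hz]
    exact H.T1.symm.zpow_right k
  have c2 : Commute (hr p ν φ p.o1 p.o2 ζ) (hr p ν φ p.o0 p.o1 s) := by
    rw [hz]
    exact H.T1'.symm.zpow_right k
  refine ⟨c1, c2, ?_, ?_⟩
  · rw [hsw]
    exact c1.inv_right
  · rw [hsw]
    exact c2.inv_right

/-- T2 [S-M]  deps T0 T1 E7. -/
theorem act_base_gen (p : Pts ι) (ζ : Fˣ) (hζ : ∀ y : Fˣ, y ∈ Subgroup.zpowers ζ) (ν : alternatingGroup ι →* G)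
    (φ : Matrix.SpecialLinearGroup (Fin 2) F →* G) (H : Glue p ζ ν φ) :
    Act (hr p ν φ p.o0 p.o2 ζ) (xr p ν φ p.o0 p.o1) (ζ : F) ∧
      Act (hr p ν φ p.o1 p.o2 ζ) (xr p ν φ p.o0 p.o1) ((ζ⁻¹ : Fˣ) : F) ∧
      Act (hr p ν φ p.o1 p.o2 ζ) (xr p ν φ p.o1 p.o0) (ζ : F) ∧
      Act (hr p ν φ p.o0 p.o2 ζ) (xr p ν φ p.o1 p.o0) ((ζ⁻¹ : Fˣ) : F) := by
  have b01 := xr_basic p ν φ p.o0 p.o1
  have b10 := xr_basic p ν φ p.o1 p.o0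
  refine ⟨?_, ?_, ?_, ?_⟩
  · exact act_of_instance (xr p ν φ p.o0 p.o1) b01.1 (hr p ν φ p.o0 p.o1) b01.2.2.2.2.2.2.1
      (hr p ν φ p.o0 p.o2 ζ) (fun s => (tor_comm_base p ζ hζ ν φ H s).1) (ζ : F) H.T2
  · exact act_of_instance (xr p ν φ p.o0 p.o1) b01.1 (hr p ν φ p.o0 p.o1) b01.2.2.2.2.2.2.1
      (hr p ν φ p.o1 p.o2 ζ) (fun s => (tor_comm_base p ζ hζ ν φ H s).2.1) ((ζ⁻¹ : Fˣ) : F) H.T3
  · exact act_of_instance (xr p ν φ p.o1 p.o0) b10.1 (hr p ν φ p.o1 p.o0) b10.2.2.2.2.2.2.1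
      (hr p ν φ p.o1 p.o2 ζ) (fun s => (tor_comm_base p ζ hζ ν φ H s).2.2.2) (ζ : F) H.T2m
  · exact act_of_instance (xr p ν φ p.o1 p.o0) b10.1 (hr p ν φ p.o1 p.o0) b10.2.2.2.2.2.2.1
      (hr p ν φ p.o0 p.o2 ζ) (fun s => (tor_comm_base p ζ hζ ν φ H s).2.2.1) ((ζ⁻¹ : Fˣ) : F) H.T3m

/-- T3 [S-M]  deps T2 E7. -/
theorem act_base (p : Pts ι) (ζ : Fˣ) (hζ : ∀ y : Fˣ, y ∈ Subgroup.zpowers ζ) (ν : alternatingGroup ι →* G)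
    (φ : Matrix.SpecialLinearGroup (Fin 2) F →* G) (H : Glue p ζ ν φ) (r : Fˣ) :
    Act (hr p ν φ p.o0 p.o2 r) (xr p ν φ p.o0 p.o1) (r : F) ∧
      Act (hr p ν φ p.o1 p.o2 r) (xr p ν φ p.o0 p.o1) ((r⁻¹ : Fˣ) : F) ∧
      Act (hr p ν φ p.o1 p.o2 r) (xr p ν φ p.o1 p.o0) (r : F) ∧
      Act (hr p ν φ p.o0 p.o2 r) (xr p ν φ p.o1 p.o0) ((r⁻¹ : Fˣ) : F) := by
  obtain ⟨k, hk⟩ := Subgroup.mem_zpowers_iff.mp (hζ r)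
  obtain ⟨g1, g2, g3, g4⟩ := act_base_gen p ζ hζ ν φ H
  have z02 : hr p ν φ p.o0 p.o2 r = hr p ν φ p.o0 p.o2 ζ ^ k := by
    rw [← hk]
    exact (xr_basic p ν φ p.o0 p.o2).2.2.2.2.2.1 ζ k
  have z12 : hr p ν φ p.o1 p.o2 r = hr p ν φ p.o1 p.o2 ζ ^ k := by
    rw [← hk]
    exact (xr_basic p ν φ p.o1 p.o2).2.2.2.2.2.1 ζ k
  have e1 : (r : F) = (ζ : F) ^ k := by
    rw [← hk, Units.val_zpow_eq_zpow_val]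
  have e2 : ((r⁻¹ : Fˣ) : F) = ((ζ⁻¹ : Fˣ) : F) ^ k := by
    rw [← hk, ← inv_zpow, Units.val_zpow_eq_zpow_val]
  have hζ0 : (ζ : F) ≠ 0 := ζ.ne_zero
  have hζ1 : ((ζ⁻¹ : Fˣ) : F) ≠ 0 := (ζ⁻¹).ne_zero
  rw [z02, z12, e1, e2]
  exact ⟨slnt0_act_zpow _ _ _ hζ0 g1 k, slnt0_act_zpow _ _ _ hζ1 g2 k,
    slnt0_act_zpow _ _ _ hζ0 g3 k, slnt0_act_zpow _ _ _ hζ1 g4 k⟩

/-- T4 [M]  deps A3 E6 T3. -/
theorem act_all (p : Pts ι) (ζ : Fˣ) (hζ : ∀ y : Fˣ, y ∈ Subgroup.zpowers ζ) (ν : alternatingGroup ι →* G)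
    (φ : Matrix.SpecialLinearGroup (Fin 2) F →* G) (H : Glue p ζ ν φ)
    (i j k : ι) (hij : i ≠ j) (hik : i ≠ k) (hjk : j ≠ k) (r : Fˣ) :
    Act (hr p ν φ i k r) (xr p ν φ i j) (r : F) ∧ Act (hr p ν φ j k r) (xr p ν φ i j) ((r⁻¹ : Fˣ) : F) := by
  obtain ⟨σ, h2, h01⟩ := exists_move3 p i j k hij hik hjk
  obtain ⟨g1, g2, g3, g4⟩ := act_base p ζ hζ ν φ H r
  rcases h01 with ⟨h0, h1⟩ | ⟨h1, h0⟩
  · constructor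
    · refine slnt0_act_conj (ν σ) _ _ _ _ _ ?_ ?_ g1
      · rw [hr_conj p ζ ν φ H σ p.o0 p.o2 p.h02 r, h0, h2]
      · intro t
        rw [xr_conj p ζ ν φ H σ p.o0 p.o1 t, h0, h1]
    · refine slnt0_act_conj (ν σ) _ _ _ _ _ ?_ ?_ g2
      · rw [hr_conj p ζ ν φ H σ p.o1 p.o2 p.h12 r, h1, h2]
      · intro t
        rw [xr_conj p ζ ν φ H σ p.o0 p.o1 t, h0, h1]
  · constructor
    · refine slnt0_act_conj (ν σ) _ _ _ _ _ ?_ ?_ g3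
      · rw [hr_conj p ζ ν φ H σ p.o1 p.o2 p.h12 r, h1, h2]
      · intro t
        rw [xr_conj p ζ ν φ H σ p.o1 p.o0 t, h0, h1]
    · refine slnt0_act_conj (ν σ) _ _ _ _ _ ?_ ?_ g4
      · rw [hr_conj p ζ ν φ H σ p.o0 p.o2 p.h02 r, h0, h2]
      · intro t
        rw [xr_conj p ζ ν φ H σ p.o1 p.o0 t, h0, h1]

end T

end Cfsg.Agent.Lib.helper17.SLN
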