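import Cfsg.Agent.Lib.helper17.SLN.Defs
import Cfsg.Agent.Lib.Helper24.SLNA1
import Cfsg.Agent.Lib.Helper12.SLND1core
import Cfsg.Agent.Lib.Helper12.SLND2core
import Cfsg.Agent.Lib.helper6.SLNE6
import Cfsg.Agent.Lib.helper6.SLNE7
import Cfsg.Agent.Lib.helper6.SLNT0
import Cfsg.Agent.Lib.helper6.SLNT14
import Cfsg.Agent.Lib.helper6.SLNC0

/-!
# SLN rows C1 C2 C3 C4 (helper6): the commutator families `fam1_base fam2_base fam3_base fam_all`.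

Own-name copies `slnc14_comm_disj` / `slnc14_act_disj` of the statements of rows D1 / D2 (helper12's cores
`slnd1_core` / `slnd2_core` closed with `exists_move4` and `slne6_phiR_conj` / `slne6_phiR_swap`), so that
the file does not wait for the verbatim D rows.
-/

set_option autoImplicit false

namespace Cfsg.Agent.Lib.helper17.SLN

open Cfsg.Agent.Lib.helper17.SLP

universe u v w v'

section D

variable {F : Type u} [Field F] {ι : Type w} [Fintype ι] [DecidableEq ι] {G : Type v} [Group G]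

/-- own copy of the statement of D1 `comm_disj` -/
theorem slnc14_comm_disj (p : Pts ι) (ζ : Fˣ) (ν : alternatingGroup ι →* G)
    (φ : Matrix.SpecialLinearGroup (Fin 2) F →* G) (H : Glue p ζ ν φ)
    (i j k l : ι) (hij : i ≠ j) (hik : i ≠ k) (hil : i ≠ l) (hjk : j ≠ k) (hjl : j ≠ l) (hkl : k ≠ l)
    (m m' : Matrix.SpecialLinearGroup (Fin 2) F) :
    Commute (phiR p ν φ i j m) (phiR p ν φ k l m') :=
  slnd1_core p ζ ν φ H i j k l hij (exists_move4 p i j k l hij hik hil hjk hjl hkl)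
    (fun σ i j hij m => slne6_phiR_conj p ν φ H.stab1 σ i j hij m)
    (fun i j hij m => slne6_phiR_swap p ν φ H.stab2 i j hij m) m m'

/-- own copy of the statement of D2 `act_disj` -/
theorem slnc14_act_disj (p : Pts ι) (ζ : Fˣ) (ν : alternatingGroup ι →* G)
    (φ : Matrix.SpecialLinearGroup (Fin 2) F →* G) (H : Glue p ζ ν φ)
    (i j k l : ι) (hij : i ≠ j) (hik : i ≠ k) (hil : i ≠ l) (hjk : j ≠ k) (hjl : j ≠ l) (hkl : k ≠ l) (r : Fˣ) :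
    Act (hr p ν φ i j r) (xr p ν φ k l) 1 :=
  slnd2_core p ν φ i j k l hkl r
    (fun m m' => slnc14_comm_disj p ζ ν φ H i j k l hij hik hil hjk hjl hkl m m')

end D

section C

variable {F : Type u} [Field F] [Fintype F] {ι : Type w} [Fintype ι] [DecidableEq ι] {G : Type v} [Group G]

/-- extra: `act_all`, second part, at `r⁻¹`: `h_jk(r⁻¹)` acts on `x_ij` through `r`. -/
theorem slnc14_act_inv (p : Pts ι) (ζ : Fˣ) (hζ : ∀ y : Fˣ, y ∈ Subgroup.zpowers ζ)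
    (ν : alternatingGroup ι →* G) (φ : Matrix.SpecialLinearGroup (Fin 2) F →* G) (H : Glue p ζ ν φ)
    (i j k : ι) (hij : i ≠ j) (hik : i ≠ k) (hjk : j ≠ k) (r : Fˣ) :
    Act (hr p ν φ j k r⁻¹) (xr p ν φ i j) (r : F) := by
  have h := (act_all p ζ hζ ν φ H i j k hij hik hjk r⁻¹).2
  rwa [inv_inv] at h

/-- C1 [M]  deps C0 T4 D2 E7. -/
theorem fam1_base (p : Pts ι) (ζ : Fˣ) (hζ : ∀ y : Fˣ, y ∈ Subgroup.zpowers ζ) (ν : alternatingGroup ι →* G)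
    (φ : Matrix.SpecialLinearGroup (Fin 2) F →* G) (H : Glue p ζ ν φ) (s t : F) :
    cm (xr p ν φ p.o0 p.o1 s) (xr p ν φ p.o1 p.o2 t) = xr p ν φ p.o0 p.o2 (s * t) ∧
      cm (xr p ν φ p.o1 p.o0 s) (xr p ν φ p.o0 p.o2 t) = xr p ν φ p.o1 p.o2 (s * t) := by
  constructor
  · exact spread (xr p ν φ p.o0 p.o1) (xr p ν φ p.o1 p.o2) (xr p ν φ p.o0 p.o2)
      (xr_basic p ν φ _ _).2.1 (xr_basic p ν φ _ _).2.1 (xr_basic p ν φ _ _).2.1
      (fun r => hr p ν φ p.o0 p.o3 r) (fun r => hr p ν φ p.o2 p.o3 r⁻¹)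
      (fun r => (act_all p ζ hζ ν φ H p.o0 p.o1 p.o3 p.h01 p.h03 p.h13 r).1)
      (fun r => slnc14_act_disj p ζ ν φ H p.o0 p.o3 p.o1 p.o2 p.h03 p.h01 p.h02 p.h13.symm p.h23.symm p.h12 r)
      (fun r => (act_all p ζ hζ ν φ H p.o0 p.o2 p.o3 p.h02 p.h03 p.h23 r).1)
      (fun r => slnc14_act_disj p ζ ν φ H p.o2 p.o3 p.o0 p.o1 p.h23 p.h02.symm p.h12.symm p.h03.symm
        p.h13.symm p.h01 r⁻¹)
      (fun r => slnc14_act_inv p ζ hζ ν φ H p.o1 p.o2 p.o3 p.h12 p.h13 p.h23 r)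
      (fun r => slnc14_act_inv p ζ hζ ν φ H p.o0 p.o2 p.o3 p.h02 p.h03 p.h23 r)
      H.C1 s t
  · exact spread (xr p ν φ p.o1 p.o0) (xr p ν φ p.o0 p.o2) (xr p ν φ p.o1 p.o2)
      (xr_basic p ν φ _ _).2.1 (xr_basic p ν φ _ _).2.1 (xr_basic p ν φ _ _).2.1
      (fun r => hr p ν φ p.o1 p.o3 r) (fun r => hr p ν φ p.o2 p.o3 r⁻¹)
      (fun r => (act_all p ζ hζ ν φ H p.o1 p.o0 p.o3 p.h01.symm p.h13 p.h03 r).1)
      (fun r => slnc14_act_disj p ζ ν φ H p.o1 p.o3 p.o0 p.o2 p.h13 p.h01.symm p.h12 p.h03.symm p.h23.symm p.h02 r)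
      (fun r => (act_all p ζ hζ ν φ H p.o1 p.o2 p.o3 p.h12 p.h13 p.h23 r).1)
      (fun r => slnc14_act_disj p ζ ν φ H p.o2 p.o3 p.o1 p.o0 p.h23 p.h12.symm p.h02.symm p.h13.symm
        p.h03.symm p.h01.symm r⁻¹)
      (fun r => slnc14_act_inv p ζ hζ ν φ H p.o0 p.o2 p.o3 p.h02 p.h03 p.h23 r)
      (fun r => slnc14_act_inv p ζ hζ ν φ H p.o1 p.o2 p.o3 p.h12 p.h13 p.h23 r)
      H.C1m s t

/-- extra: `spread` with trivial right hand side, in `Commute` form -/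
theorem slnc14_spread_comm (X Y : F → G) (hX0 : X 0 = 1) (hY0 : Y 0 = 1) (g g' : Fˣ → G)
    (hgX : ∀ r : Fˣ, Act (g r) X (r : F)) (hgY : ∀ r : Fˣ, Act (g r) Y 1)
    (hg'X : ∀ r : Fˣ, Act (g' r) X 1) (hg'Y : ∀ r : Fˣ, Act (g' r) Y (r : F))
    (h : Commute (X 1) (Y 1)) : ∀ s t, Commute (X s) (Y t) := by
  intro s t
  rw [← cm_eq_one_iff]
  exact spread X Y (fun _ => 1) hX0 hY0 rfl g g' hgX hgY (fun r => slnt0_act_const_one _ _) hg'X hg'Y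
    (fun r => slnt0_act_const_one _ _) ((cm_eq_one_iff _ _).2 h) s t

/-- C2 [M]  deps C0 T4 D2 E7. -/
theorem fam2_base (p : Pts ι) (ζ : Fˣ) (hζ : ∀ y : Fˣ, y ∈ Subgroup.zpowers ζ) (ν : alternatingGroup ι →* G)
    (φ : Matrix.SpecialLinearGroup (Fin 2) F →* G) (H : Glue p ζ ν φ) (s t : F) :
    Commute (xr p ν φ p.o0 p.o1 s) (xr p ν φ p.o0 p.o2 t) ∧
      Commute (xr p ν φ p.o1 p.o0 s) (xr p ν φ p.o1 p.o2 t) := by
  constructor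
  · exact slnc14_spread_comm (xr p ν φ p.o0 p.o1) (xr p ν φ p.o0 p.o2)
      (xr_basic p ν φ _ _).2.1 (xr_basic p ν φ _ _).2.1
      (fun r => hr p ν φ p.o1 p.o3 r⁻¹) (fun r => hr p ν φ p.o2 p.o3 r⁻¹)
      (fun r => slnc14_act_inv p ζ hζ ν φ H p.o0 p.o1 p.o3 p.h01 p.h03 p.h13 r)
      (fun r => slnc14_act_disj p ζ ν φ H p.o1 p.o3 p.o0 p.o2 p.h13 p.h01.symm p.h12 p.h03.symm p.h23.symm p.h02 r⁻¹)
      (fun r => slnc14_act_disj p ζ ν φ H p.o2 p.o3 p.o0 p.o1 p.h23 p.h02.symm p.h12.symm p.h03.symm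
        p.h13.symm p.h01 r⁻¹)
      (fun r => slnc14_act_inv p ζ hζ ν φ H p.o0 p.o2 p.o3 p.h02 p.h03 p.h23 r)
      H.C2 s t
  · exact slnc14_spread_comm (xr p ν φ p.o1 p.o0) (xr p ν φ p.o1 p.o2)
      (xr_basic p ν φ _ _).2.1 (xr_basic p ν φ _ _).2.1
      (fun r => hr p ν φ p.o0 p.o3 r⁻¹) (fun r => hr p ν φ p.o2 p.o3 r⁻¹)
      (fun r => slnc14_act_inv p ζ hζ ν φ H p.o1 p.o0 p.o3 p.h01.symm p.h13 p.h03 r)
      (fun r => slnc14_act_disj p ζ ν φ H p.o0 p.o3 p.o1 p.o2 p.h03 p.h01 p.h02 p.h13.symm p.h23.symm p.h12 r⁻¹)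
      (fun r => slnc14_act_disj p ζ ν φ H p.o2 p.o3 p.o1 p.o0 p.h23 p.h12.symm p.h02.symm p.h13.symm
        p.h03.symm p.h01.symm r⁻¹)
      (fun r => slnc14_act_inv p ζ hζ ν φ H p.o1 p.o2 p.o3 p.h12 p.h13 p.h23 r)
      H.C2m s t

/-- C3 [M]  deps C0 T4 D2 E7. -/
theorem fam3_base (p : Pts ι) (ζ : Fˣ) (hζ : ∀ y : Fˣ, y ∈ Subgroup.zpowers ζ) (ν : alternatingGroup ι →* G)
    (φ : Matrix.SpecialLinearGroup (Fin 2) F →* G) (H : Glue p ζ ν φ) (s t : F) :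
    Commute (xr p ν φ p.o0 p.o1 s) (xr p ν φ p.o2 p.o1 t) ∧
      Commute (xr p ν φ p.o1 p.o0 s) (xr p ν φ p.o2 p.o0 t) := by
  constructor
  · exact slnc14_spread_comm (xr p ν φ p.o0 p.o1) (xr p ν φ p.o2 p.o1)
      (xr_basic p ν φ _ _).2.1 (xr_basic p ν φ _ _).2.1
      (fun r => hr p ν φ p.o0 p.o3 r) (fun r => hr p ν φ p.o2 p.o3 r)
      (fun r => (act_all p ζ hζ ν φ H p.o0 p.o1 p.o3 p.h01 p.h03 p.h13 r).1)
      (fun r => slnc14_act_disj p ζ ν φ H p.o0 p.o3 p.o2 p.o1 p.h03 p.h02 p.h01 p.h23.symm p.h13.symm p.h12.symm r)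
      (fun r => slnc14_act_disj p ζ ν φ H p.o2 p.o3 p.o0 p.o1 p.h23 p.h02.symm p.h12.symm p.h03.symm
        p.h13.symm p.h01 r)
      (fun r => (act_all p ζ hζ ν φ H p.o2 p.o1 p.o3 p.h12.symm p.h23 p.h13 r).1)
      H.C3 s t
  · exact slnc14_spread_comm (xr p ν φ p.o1 p.o0) (xr p ν φ p.o2 p.o0)
      (xr_basic p ν φ _ _).2.1 (xr_basic p ν φ _ _).2.1
      (fun r => hr p ν φ p.o1 p.o3 r) (fun r => hr p ν φ p.o2 p.o3 r)
      (fun r => (act_all p ζ hζ ν φ H p.o1 p.o0 p.o3 p.h01.symm p.h13 p.h03 r).1)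
      (fun r => slnc14_act_disj p ζ ν φ H p.o1 p.o3 p.o2 p.o0 p.h13 p.h12 p.h01.symm p.h23.symm p.h03.symm p.h02.symm r)
      (fun r => slnc14_act_disj p ζ ν φ H p.o2 p.o3 p.o1 p.o0 p.h23 p.h12.symm p.h02.symm p.h13.symm
        p.h03.symm p.h01.symm r)
      (fun r => (act_all p ζ hζ ν φ H p.o2 p.o0 p.o3 p.h02.symm p.h23 p.h03 r).1)
      H.C3m s t

/-- C4 [M]  deps A3 E6 C1 C2 C3. -/
theorem fam_all (p : Pts ι) (ζ : Fˣ) (hζ : ∀ y : Fˣ, y ∈ Subgroup.zpowers ζ) (ν : alternatingGroup ι →* G)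
    (φ : Matrix.SpecialLinearGroup (Fin 2) F →* G) (H : Glue p ζ ν φ)
    (i j l : ι) (hij : i ≠ j) (hil : i ≠ l) (hjl : j ≠ l) (s t : F) :
    cm (xr p ν φ i j s) (xr p ν φ j l t) = xr p ν φ i l (s * t) ∧
      Commute (xr p ν φ i j s) (xr p ν φ i l t) ∧ Commute (xr p ν φ i j s) (xr p ν φ l j t) := by
  obtain ⟨σ, h2, h01⟩ := exists_move3 p i j l hij hil hjl
  obtain ⟨a1, a2⟩ := fam1_base p ζ hζ ν φ H s t
  obtain ⟨b1, b2⟩ := fam2_base p ζ hζ ν φ H s t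
  obtain ⟨c1, c2⟩ := fam3_base p ζ hζ ν φ H s t
  have hx : ∀ (a b : ι) (u : F), ν σ * xr p ν φ a b u * (ν σ)⁻¹ =
      xr p ν φ ((σ : Equiv.Perm ι) a) ((σ : Equiv.Perm ι) b) u := fun a b u => xr_conj p ζ ν φ H σ a b u
  rcases h01 with ⟨h0, h1⟩ | ⟨h1, h0⟩
  · refine ⟨?_, ?_, ?_⟩
    · have e : ν σ * cm (xr p ν φ p.o0 p.o1 s) (xr p ν φ p.o1 p.o2 t) * (ν σ)⁻¹ =
          ν σ * xr p ν φ p.o0 p.o2 (s * t) * (ν σ)⁻¹ := by rw [a1]
      rw [slnc0_conj_cm, hx, hx, hx, h0, h1, h2] at e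
      exact e
    · have e := (Commute.conj_iff (ν σ)).2 b1
      rw [hx, hx, h0, h1, h2] at e
      exact e
    · have e := (Commute.conj_iff (ν σ)).2 c1
      rw [hx, hx, h0, h1, h2] at e
      exact e
  · refine ⟨?_, ?_, ?_⟩
    · have e : ν σ * cm (xr p ν φ p.o1 p.o0 s) (xr p ν φ p.o0 p.o2 t) * (ν σ)⁻¹ =
          ν σ * xr p ν φ p.o1 p.o2 (s * t) * (ν σ)⁻¹ := by rw [a2]
      rw [slnc0_conj_cm, hx, hx, hx, h0, h1, h2] at e
      exact e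
    · have e := (Commute.conj_iff (ν σ)).2 b2
      rw [hx, hx, h0, h1, h2] at e
      exact e
    · have e := (Commute.conj_iff (ν σ)).2 c2
      rw [hx, hx, h0, h1, h2] at e
      exact e

end C

end Cfsg.Agent.Lib.helper17.SLN
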