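import Mathlib
import Cfsg.Agent.Lib.helper2.CHMDefs

/-!
# Project CHM (S4139), piece CHM-C4: an abstract congruence.
If `ν : G → ℕ` is invariant under right multiplication by a subgroup `Z`, and every nonzero value
is `≡ 1 [MOD p]`, then `∑ ν ≡ |support ν| [MOD p * |Z|]`.
-/

set_option autoImplicit false
set_option linter.unusedSectionVars false
set_option linter.unusedVariables false

namespace Cfsg.Agent.Lib.helper6.CHM

open Cfsg.Agent.Lib.helper2.CHM

/-- Summation of a right-`Z`-invariant function: collect along the cosets of `Z`. -/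
theorem sum_eq_card_mul_sum_out {G : Type*} [Group G] [Fintype G] (Z : Subgroup G)
    [Fintype (G ⧸ Z)] (g : G → ℕ) (hinv : ∀ x : G, ∀ z ∈ Z, g (x * z) = g x) :
    ∑ x : G, g x = ∑ q : G ⧸ Z, Nat.card Z * g q.out := by
  classical
  rw [← Finset.sum_fiberwise Finset.univ (fun x : G => (QuotientGroup.mk x : G ⧸ Z)) g]
  refine Finset.sum_congr rfl (fun q _ => ?_)
  have hconst : ∀ x ∈ Finset.univ.filter (fun x : G => (QuotientGroup.mk x : G ⧸ Z) = q),
      g x = g q.out := by
    intro x hx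
    rw [Finset.mem_filter] at hx
    have h1 : (QuotientGroup.mk q.out : G ⧸ Z) = QuotientGroup.mk x := by
      rw [hx.2]; exact QuotientGroup.out_eq' q
    have h2 : q.out⁻¹ * x ∈ Z := QuotientGroup.eq.mp h1
    have h3 := hinv q.out _ h2
    rw [mul_inv_cancel_left] at h3
    exact h3
  rw [Finset.sum_congr rfl hconst, Finset.sum_const, smul_eq_mul]
  congr 1
  -- the fibre has `|Z|` elements
  have hcard := QuotientGroup.card_preimage_mk Z ({q} : Set (G ⧸ Z))
  have h1 : Nat.card ({q} : Set (G ⧸ Z)) = 1 := by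
    rw [Nat.card_eq_fintype_card]; simp
  rw [h1, mul_one] at hcard
  rw [← hcard, Nat.card_eq_fintype_card, ← Set.toFinset_card]
  congr 1
  ext x
  simp

/-! ## CHM-C4 : an abstract congruence -/
theorem sum_modEq_card_support {G : Type*} [Group G] [Finite G] (Z : Subgroup G) (p : ℕ)
    (ν : G → ℕ) (hinv : ∀ x : G, ∀ z ∈ Z, ν (x * z) = ν x)
    (hmod : ∀ x : G, ν x ≠ 0 → ν x ≡ 1 [MOD p]) :
    ∑ᶠ x : G, ν x ≡ Nat.card {x : G // ν x ≠ 0} [MOD p * Nat.card Z] := by
  classical
  haveI := Fintype.ofFinite G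
  haveI : Fintype (G ⧸ Z) := Fintype.ofFinite _
  rw [finsum_eq_sum_of_fintype]
  have h1 := sum_eq_card_mul_sum_out Z ν hinv
  set f : G → ℕ := fun x => if ν x ≠ 0 then 1 else 0 with hf
  have hfinv : ∀ x : G, ∀ z ∈ Z, f (x * z) = f x := by
    intro x z hz
    simp only [hf, hinv x z hz]
  have h2 := sum_eq_card_mul_sum_out Z f hfinv
  have h3 : Nat.card {x : G // ν x ≠ 0} = ∑ x, f x := by
    rw [Nat.card_eq_fintype_card, Fintype.card_subtype, Finset.card_filter]
  rw [h3, h1, h2, mul_comm p]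
  refine Nat.ModEq.sum (fun q _ => ?_)
  refine Nat.ModEq.mul_left' _ ?_
  by_cases h0 : ν q.out = 0
  · simp [hf, h0, Nat.ModEq.refl]
  · have : f q.out = 1 := by simp [hf, h0]
    rw [this]
    exact hmod _ h0

end Cfsg.Agent.Lib.helper6.CHM
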