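import Cfsg.Agent.Lib.helper7.TO.Basic
import Cfsg.Agent.Lib.Helper28.SsA

/-!
# TO SYMP1: a hyperbolic pair inside `⟨w, w'⟩^⊥`
-/

set_option autoImplicit false

namespace Cfsg.Agent.Lib.helper7.TO

open Matrix Cfsg.Agent.Lib.helper7.TP Cfsg.Agent.Lib.Helper28.SympAbs
open scoped Kronecker

variable {a b : ℕ} {F : Type*} [Field F]

/-- the map `x ↦ (f x w, f x w')`. -/
def tosymp1_map {n : ℕ} {f : (Fin n → F) → (Fin n → F) → F}
    (hf : Cfsg.Geo.IsSymplecticForm f) (w w' : Fin n → F) : (Fin n → F) →ₗ[F] (Fin 2 → F) where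
  toFun x := ![f x w, f x w']
  map_add' x y := by
    ext i
    fin_cases i <;> simp [hf.bilinear.add_left]
  map_smul' c x := by
    ext i
    fin_cases i <;> simp [hf.bilinear.smul_left]

theorem tosymp1_mem_ker {n : ℕ} {f : (Fin n → F) → (Fin n → F) → F}
    (hf : Cfsg.Geo.IsSymplecticForm f) (w w' x : Fin n → F) :
    x ∈ LinearMap.ker (tosymp1_map hf w w') ↔ f x w = 0 ∧ f x w' = 0 := by
  rw [LinearMap.mem_ker]
  constructor
  · intro h
    have h0 := congrFun h 0
    have h1 := congrFun h 1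
    simp only [tosymp1_map, LinearMap.coe_mk, AddHom.coe_mk, Matrix.cons_val_zero, Matrix.cons_val_one,
      Pi.zero_apply] at h0 h1
    exact ⟨h0, h1⟩
  · rintro ⟨h0, h1⟩
    ext i
    fin_cases i
    · simpa [tosymp1_map] using h0
    · simpa [tosymp1_map] using h1

/-- SYMP1: a hyperbolic pair inside `⟨w, w'⟩^⊥` (no condition on `w, w'`). -/
theorem exists_hyp_perp2 {n : ℕ} {f : (Fin n → F) → (Fin n → F) → F}
    (hf : Cfsg.Geo.IsSymplecticForm f) (hn : 5 ≤ n) (w w' : Fin n → F) :
    ∃ z z' : Fin n → F, f z w = 0 ∧ f z w' = 0 ∧ f z' w = 0 ∧ f z' w' = 0 ∧ f z z' = 1 := by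
  classical
  set φ := tosymp1_map hf w w' with hφ
  set S : Submodule F (Fin n → F) := Submodule.span F {w, w'} with hS
  -- dimensions
  have h1 := LinearMap.finrank_range_add_finrank_ker φ
  rw [Module.finrank_fin_fun] at h1
  have h2 : Module.finrank F (LinearMap.range φ) ≤ 2 := by
    have := Submodule.finrank_le (LinearMap.range φ)
    rwa [Module.finrank_fin_fun] at this
  have h3 : Module.finrank F S ≤ 2 := by
    have := finrank_span_le_card (R := F) ({w, w'} : Set (Fin n → F))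
    refine this.trans ?_
    rw [Set.toFinset_card]
    have : Fintype.card ({w, w'} : Set (Fin n → F)) ≤ 2 := by
      rw [← Set.toFinset_card]
      have : ({w, w'} : Set (Fin n → F)).toFinset = {w, w'} := by
        ext x; simp
      rw [this]
      exact Finset.card_le_two
    exact this
  have hnot : ¬ LinearMap.ker φ ≤ S := by
    intro hle
    have := Submodule.finrank_mono hle
    omega
  obtain ⟨z, hzU, hzS⟩ := SetLike.not_le_iff_exists.mp hnot
  rw [tosymp1_mem_ker] at hzU
  obtain ⟨y, hy1, hy2⟩ := Cfsg.Agent.Lib.Helper28.Ss.dperp hf S z hzS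
  have hwS : w ∈ S := Submodule.subset_span (by simp)
  have hw'S : w' ∈ S := Submodule.subset_span (by simp)
  refine ⟨z, (f z y)⁻¹ • y, hzU.1, hzU.2, ?_, ?_, ?_⟩
  · rw [hf.bilinear.smul_left, hf.skew y w, hy1 w hwS, neg_zero, mul_zero]
  · rw [hf.bilinear.smul_left, hf.skew y w', hy1 w' hw'S, neg_zero, mul_zero]
  · rw [hf.bilinear.smul_right, inv_mul_cancel₀ hy2]

end Cfsg.Agent.Lib.helper7.TO
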