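import Mathlib
import Cfsg.Agent.Lib.helper6.CEB.Defs
import Cfsg.Agent.Lib.helper7.CEDS5
import Cfsg.Agent.Lib.Helper24.STCI1
import Cfsg.Agent.Lib.Lead.STDB1
import Cfsg.Agent.Lib.helper6.STDW14

/-!
# CEB R3 core (helper6): `lift_ss` on the STATEMENTS of R1 `lift_comm_ls`, R2 `lift_ls`, Z8 `Xsh_map`, `Xsh_add`.

`cebr3_abs`: the abstract group computation; `cebr3_core`: the statement of `lift_ss` with the cited rows as hypotheses.
-/

set_option autoImplicit false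

namespace Cfsg.Agent.Lib.helper6.CEB

open Cfsg.Agent.Lib.helper15.St2 Cfsg.Agent.Lib.helper7.Ce Cfsg.Agent.Lib.helper3.STC Cfsg.Agent.Lib.Lead.STD
  Cfsg.Agent.Lib.helper7.CED Cfsg.Agent.Lib.Lead.STB
open Cfsg.Agent.Lib.helper7.CEC (I2 I3 I4 U3)

universe v w w'

/-- the abstract computation behind `lift_ss`: expand `cm A (Xa (t + u))` in two ways -/
theorem cebr3_abs {Γ : Type*} [Group Γ] {K : Type*} [Field K] (A : Γ) (Xa Xb X : K → Γ)
    (hls : ∀ s, cm A (Xa s) = Xb s * X (s ^ 2))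
    (haddA : ∀ s s', Xa (s + s') = Xa s * Xa s')
    (haddB : ∀ s s', Xb (s + s') = Xb s * Xb s')
    (haddX : ∀ s s', X s * X s' = X (s + s'))
    (hAX : ∀ s s', Xa s * X s' = X s' * Xa s)
    (hBX : ∀ s s', Xb s * X s' = X s' * Xb s)
    (t u : K) (z : Γ) (hz : ∀ y, z * y = y * z) (hκ : cm (Xa t) (Xb u) = X (2 * t * u) * z) :
    cm (Xa t) (Xb u) = X (2 * t * u) := by
  have h1 := cm_mul_right A (Xa t) (Xa u)
  rw [← haddA, hls, hls, hls] at h1
  have h2 : Xa t * (Xb u * X (u ^ 2)) * (Xa t)⁻¹ = cm (Xa t) (Xb u) * Xb u * X (u ^ 2) := by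
    have e : Xa t * (Xb u * X (u ^ 2)) * (Xa t)⁻¹ = (Xa t * Xb u * (Xa t)⁻¹) * (Xa t * X (u ^ 2) * (Xa t)⁻¹) := by group
    rw [e, hAX, mul_inv_cancel_right]
    unfold cm
    group
  rw [h2, hκ, haddB] at h1
  -- h1 : Xb t * Xb u * X ((t+u)^2) = Xb t * X (t^2) * (X (2tu) * z * Xb u * X (u^2))
  have h3 : Xb t * X (t ^ 2) * (X (2 * t * u) * z * Xb u * X (u ^ 2)) = Xb t * Xb u * X ((t + u) ^ 2) * z := by
    have e1 : X (2 * t * u) * z * Xb u * X (u ^ 2) = X (2 * t * u) * Xb u * X (u ^ 2) * z := by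
      rw [mul_assoc (X (2 * t * u)) z, hz (Xb u), ← mul_assoc, mul_assoc _ z, hz (X (u ^ 2)), ← mul_assoc]
    have e2 : X (2 * t * u) * Xb u = Xb u * X (2 * t * u) := (hBX u (2 * t * u)).symm
    have e3 : X (t ^ 2) * Xb u = Xb u * X (t ^ 2) := (hBX u (t ^ 2)).symm
    rw [e1, e2]
    calc Xb t * X (t ^ 2) * (Xb u * X (2 * t * u) * X (u ^ 2) * z)
        = Xb t * (X (t ^ 2) * Xb u) * X (2 * t * u) * X (u ^ 2) * z := by group
      _ = Xb t * (Xb u * X (t ^ 2)) * X (2 * t * u) * X (u ^ 2) * z := by rw [e3]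
      _ = Xb t * Xb u * (X (t ^ 2) * X (2 * t * u) * X (u ^ 2)) * z := by group
      _ = Xb t * Xb u * X ((t + u) ^ 2) * z := by
          rw [haddX, haddX]
          congr 3
          ring
  rw [h3] at h1
  have hz1 : z = 1 := by
    have := h1.symm
    exact mul_eq_left.1 this
  rw [hκ, hz1, mul_one]

section R

variable {K : Type*} [Field K] {ι : Type*} {Γ G : Type*} [Group Γ] [Group G] {S : SysB K ι G} {σ : Γ →* G}

/-- R3 core: `lift_ss` for any family `Y` of lifts of the short root elements which is additive and satisfies the statements of R1 `lift_comm_ls` and R2 `lift_ls`. -/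
theorem cebr3_core (h : IsCE σ) (P : SysD K ι Γ) (hP : ∀ a b t, σ (P.x a b t) = S.x a b t) (Y : ι ⊕ ι → K → Γ)
    (hmap : ∀ a s, σ (Y a s) = S.xs a s)
    (hadd : ∀ a s s', Y a (s + s') = Y a s * Y a s')
    (hR1 : ∀ {a c d : ι ⊕ ι}, c ≠ d → c ≠ ng d → d ≠ a → c ≠ ng a → ∀ t u : K, Y a t * P.x c d u = P.x c d u * Y a t)
    (hR2 : ∀ {a b : ι ⊕ ι}, a ≠ b → a ≠ ng b → ∀ t u : K,
      P.x a b t * Y b u * (P.x a b t)⁻¹ * (Y b u)⁻¹ = Y a (t * u) * P.x a (ng b) (t * u ^ 2))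
    {a b : ι ⊕ ι} (hab : a ≠ b) (hab' : a ≠ ng b) (t u : K) :
    Y a t * Y b u * (Y a t)⁻¹ * (Y b u)⁻¹ = P.x a (ng b) (-(2 * t * u)) := by
  have hba : b ≠ a := hab.symm
  have hba' : b ≠ ng a := fun e => hab' (by rw [e, ng_ng])
  have hbna : b ≠ ng (ng a) := by rw [ng_ng]; exact hba
  -- the central discrepancy
  have hσκ : σ (cm (Y a t) (Y b u)) = σ (P.x b (ng a) (2 * t * u)) := by
    rw [map_cm, hmap, hmap, hP]
    have e := S.ss a b hab hab' t u
    unfold cm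
    rw [e, S.toSysD.stdw14_sym_r hab hab', neg_neg]
  let z : Γ := (P.x b (ng a) (2 * t * u))⁻¹ * cm (Y a t) (Y b u)
  have hz1 : σ z = 1 := by
    show σ ((P.x b (ng a) (2 * t * u))⁻¹ * cm (Y a t) (Y b u)) = 1
    rw [map_mul, map_inv, hσκ, inv_mul_cancel]
  have hz : ∀ y, z * y = y * z := fun y => h.comm_of_map_one hz1 y
  have hκ : cm (Y a t) (Y b u) = P.x b (ng a) (2 * t * u) * z := by
    show cm (Y a t) (Y b u) = P.x b (ng a) (2 * t * u) * ((P.x b (ng a) (2 * t * u))⁻¹ * cm (Y a t) (Y b u))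
    rw [mul_inv_cancel_left]
  have key := cebr3_abs (P.x b a 1) (Y a) (Y b) (fun s => P.x b (ng a) s)
    (fun s => by
      have e := hR2 hba hba' 1 s
      rw [one_mul, one_mul] at e
      unfold cm
      exact e)
    (hadd a) (hadd b) (fun s s' => P.add b (ng a) hba' hbna s s')
    (fun s s' => hR1 hba' hbna (ng_ne a) hba' s s')
    (fun s s' => hR1 hba' hbna (fun e => hba' e.symm) (ne_ng b) s s')
    t u z hz hκ
  have e2 : P.x a (ng b) (-(2 * t * u)) = P.x b (ng a) (2 * t * u) := by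
    rw [P.stdw14_sym_r hab hab', neg_neg]
  rw [e2, ← key]
  rfl

end R

end Cfsg.Agent.Lib.helper6.CEB
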