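import Mathlib
import Cfsg.Agent.Lib.helper6.CEB.Defs
import Cfsg.Agent.Lib.helper7.CEDS5
import Cfsg.Agent.Lib.Helper24.STCI1
import Cfsg.Agent.Lib.Helper21.CEBZ1
import Cfsg.Agent.Lib.Helper12.CEBZ8
import Cfsg.Agent.Lib.helper6.CEBZ5
import Cfsg.Agent.Lib.helper6.CEBR3core

/-!
# CEB R3 (helper6): `lift_ss` — VERBATIM row of `helper6/CEB/Skel.lean.txt`.

On `helper6.CEBR3core` (`cebr3_core`), `Helper12.CEBZ8` (Z8 `Xsh_map`, `Xsh_add`), `helper6.CEBZ5` (Z7 `Ds_eq_Xsh`), `Helper21.CEBZ1` (Z1 `Zs_eq`).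
Extras: `cebr3_comm_ls`, `cebr3_ls`: own-name copies of the statements of R1 `lift_comm_ls` and R2 `lift_ls` (those rows belong to other seats; the copies keep this row from waiting).
-/

set_option autoImplicit false

namespace Cfsg.Agent.Lib.helper6.CEB

open Cfsg.Agent.Lib.helper15.St2 Cfsg.Agent.Lib.helper7.Ce Cfsg.Agent.Lib.helper3.STC Cfsg.Agent.Lib.Lead.STD
  Cfsg.Agent.Lib.helper7.CED Cfsg.Agent.Lib.Lead.STB
open Cfsg.Agent.Lib.helper7.CEC (I2 I3 I4 U3)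

universe v w w'

section R

variable {K : Type*} [Field K] {ι : Type*} {Γ G : Type*} [Group Γ] [Group G] {S : SysB K ι G} {σ : Γ →* G}

/-- own-name copy of the statement of R1 `lift_comm_ls` -/
theorem cebr3_comm_ls (h : IsCE σ) (hCs : HCs S σ) (P : SysD K ι Γ) (hP : ∀ a b t, σ (P.x a b t) = S.x a b t) (h2 : I2 ι)
    {a c d : ι ⊕ ι} (hcd : c ≠ d) (hcd' : c ≠ ng d) (hda : d ≠ a) (hca : c ≠ ng a) (t u : K) :
    Xsh S h P h2 a t * P.x c d u = P.x c d u * Xsh S h P h2 a t :=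
  hCs a c d hcd hcd' hda hca t u _ _ (Xsh_map h P hP h2 a t) (hP c d u)

/-- own-name copy of the statement of R2 `lift_ls` -/
theorem cebr3_ls [DecidableEq ι] [Finite K] (h : IsCE σ) (hCs : HCs S σ) (hSs : HSs S σ) (h2 : I2 ι) (h3 : I3 ι) (P : SysD K ι Γ)
    (hP : ∀ a b t, σ (P.x a b t) = S.x a b t) {a b : ι ⊕ ι} (hab : a ≠ b) (hab' : a ≠ ng b) (t u : K) :
    P.x a b t * Xsh S h P h2 b u * (P.x a b t)⁻¹ * (Xsh S h P h2 b u)⁻¹ = Xsh S h P h2 a (t * u) * P.x a (ng b) (t * u ^ 2) := by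
  have hab2 : ab a ≠ ab b := ceds5_ab_ne hab hab'
  have e1 : cm (P.x a b t) (Xsh S h P h2 b u) = Zs S h a b t u := Zs_eq h (hP a b t) (Xsh_map h P hP h2 b u)
  have e2 : Zs S h a b t u = Ds S h P a b t u * P.x a (ng b) (t * u ^ 2) := by
    unfold Ds
    rw [inv_mul_cancel_right]
  have e3 := Ds_eq_Xsh h hCs hSs h2 h3 P hP hab2 t u
  rw [← e3, ← e2, ← e1]
  rfl

/-- R3 [M-L]  model CEC L12 `xF_ssl` (`helper7.CECL12`). -/
theorem lift_ss [DecidableEq ι] [Finite K] (h : IsCE σ) (hCs : HCs S σ) (hSs : HSs S σ) (h2 : I2 ι) (h3 : I3 ι) (P : SysD K ι Γ)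
    (hP : ∀ a b t, σ (P.x a b t) = S.x a b t) {a b : ι ⊕ ι} (hab : a ≠ b) (hab' : a ≠ ng b) (t u : K) :
    Xsh S h P h2 a t * Xsh S h P h2 b u * (Xsh S h P h2 a t)⁻¹ * (Xsh S h P h2 b u)⁻¹ = P.x a (ng b) (-(2 * t * u)) :=
  cebr3_core h P hP (Xsh S h P h2) (Xsh_map h P hP h2) (Xsh_add h hCs hSs P hP h2)
    (fun hcd hcd' hda hca t u => cebr3_comm_ls h hCs P hP h2 hcd hcd' hda hca t u)
    (fun hab hab' t u => cebr3_ls h hCs hSs h2 h3 P hP hab hab' t u) hab hab' t u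

end R

end Cfsg.Agent.Lib.helper6.CEB
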