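import Mathlib
import Cfsg.Agent.Lib.helper6.ZPk3

set_option autoImplicit false

namespace Cfsg.Agent.Lib.helper6.ZP

section rep

universe uV uG

variable {r : ℕ} [hr : Fact r.Prime] {V : Type uV} [AddCommGroup V] [Module (ZMod r) V] [Finite V]
  [Nontrivial V]
variable {G : Type uG} [Group G] [Finite G] {ρ : G →* Module.End (ZMod r) V}

namespace PCore

variable {S : Subgroup G} {z : G}

theorem index_centralizer (c : PCore ρ S z) :
    (Subgroup.centralizer (S : Set G)).index = 60 ∨
      (Subgroup.centralizer (S : Set G)).index = 120 := by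
  haveI := c.hn
  have h1 := Subgroup.relIndex_mul_index
    (le_sup_right : Subgroup.centralizer (S : Set G) ≤ S ⊔ Subgroup.centralizer (S : Set G))
  rw [Subgroup.relIndex_sup_right, c.relIndex_centralizer] at h1
  rcases c.index_sup_centralizer with h | h <;> rw [h] at h1 <;> omega

/-- `S` has exactly five Sylow `2`-subgroups -/
theorem card_sylow_two (c : PCore ρ S z) : Nat.card (Sylow 2 S) = 5 := by
  haveI := c.hn
  have h0 := c.index_centralizer
  rw [← c.ker_sylPerm_eq, Subgroup.index_ker] at h0
  have h1 : Nat.card (sylPerm S).range ≤ Nat.card (Equiv.Perm (Sylow 2 S)) :=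
    Nat.card_le_card_of_injective _ Subtype.val_injective
  rw [Nat.card_perm] at h1
  have h2 := c.ctx.card_sylow_two_le
  obtain ⟨n, hn⟩ : ∃ n, n = Nat.card (Sylow 2 S) := ⟨_, rfl⟩
  rw [← hn] at h1 h2 ⊢
  have h3 : 60 ≤ Nat.factorial n := by omega
  interval_cases n <;> simp [Nat.factorial] at h3 ⊢

/-- the action on the five Sylow `2`-subgroups of `S`, with kernel `C_G(S)` -/
theorem exists_perm5 (c : PCore ρ S z) :
    ∃ f : G →* Equiv.Perm (Fin 5), f.ker = Subgroup.centralizer (S : Set G) ∧
      (Nat.card f.range = 60 ∨ Nat.card f.range = 120) := by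
  haveI := c.hn
  have e : Sylow 2 S ≃ Fin 5 := Finite.equivFinOfCardEq c.card_sylow_two
  have hker : ((e.permCongrHom).toMonoidHom.comp (sylPerm S)).ker =
      Subgroup.centralizer (S : Set G) := by
    rw [← c.ker_sylPerm_eq]
    ext x
    rw [MonoidHom.mem_ker, MonoidHom.mem_ker, MonoidHom.comp_apply]
    exact MulEquiv.map_eq_one_iff e.permCongrHom
  refine ⟨(e.permCongrHom).toMonoidHom.comp (sylPerm S), hker, ?_⟩
  rw [← Subgroup.index_ker, hker]
  exact c.index_centralizer

/-- all Sylow subgroups of `C_G(S)` are cyclic -/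
theorem centralizer_sylow_cyclic (c : PCore ρ S z) (p : ℕ) [Fact p.Prime]
    (P : Sylow p (Subgroup.centralizer (S : Set G))) : IsCyclic P := by
  obtain ⟨m, hm, hcop⟩ := c.card_centralizer
  have hF : FPF (ρ.comp (Subgroup.centralizer (S : Set G)).subtype) := c.hf.comp_subtype _
  rcases hF.pgroup_structure (P : Subgroup (Subgroup.centralizer (S : Set G))) P.2 with
    h | ⟨rfl, n, ⟨e⟩⟩
  · exact h
  · rcases Nat.eq_zero_or_pos n with h0 | h0
    · subst h0
      haveI := QuaternionGroup.quaternionGroup_one_isCyclic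
      exact isCyclic_of_surjective e.symm e.symm.surjective
    · exfalso
      have h1 : Nat.card (P : Subgroup (Subgroup.centralizer (S : Set G))) = 4 * 2 ^ n := by
        haveI : NeZero (2 ^ n) := ⟨by positivity⟩
        rw [Nat.card_congr e.toEquiv, Nat.card_eq_fintype_card, QuaternionGroup.card]
      have h2 := Subgroup.card_subgroup_dvd_card
        (P : Subgroup (Subgroup.centralizer (S : Set G)))
      rw [h1, hm] at h2
      obtain ⟨k, rfl⟩ : ∃ k, n = k + 1 := ⟨n - 1, by omega⟩
      have h3 : 2 ∣ m := by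
        obtain ⟨t, ht⟩ := h2
        exact ⟨2 * 2 ^ k * t, by rw [pow_succ] at ht; nlinarith⟩
      have hm2 : m.Coprime 2 := Nat.Coprime.coprime_dvd_right (by norm_num : 2 ∣ 30) hcop
      have := Nat.Coprime.eq_one_of_dvd hm2.symm h3
      omega

end PCore

end rep

end Cfsg.Agent.Lib.helper6.ZP
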