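import Mathlib
import Cfsg.Agent.Lib.helper6.P4T.Defs
import Cfsg.Agent.Lib.helper6.P4TTS2
import Cfsg.Agent.Lib.Helper24.P4CSL6
import Cfsg.Agent.Lib.Helper22.P4CSL7
import Cfsg.Agent.Lib.Helper20.P4CSL8

set_option autoImplicit false

/-!
# Project P4T, row TA2 (written by the designer helper6): `t3_lower`, the generators of the spectrum inside `H12`.
-/

namespace Cfsg.Agent.Lib.helper23.P4S

open Matrix
open scoped Kronecker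

/-- a semisimple `A` of even order `2 m`: `ρ₁₂ A` has order `m`, and the fixed-point criterion of TS2 -/
theorem p4tta2h6_even {E : Type} [Field E] [Fintype E] [CharP E 3] (t : ℕ) (ht : 1 ≤ t)
    (hE : Fintype.card E = 3 ^ (2 * (2 * t))) (A : Matrix.SpecialLinearGroup (Fin 2) E) (htr : A.1.trace ^ 2 ≠ 4)
    (m : ℕ) (hm : orderOf A = 2 * m) :
    orderOf (rho12 (frq E 3 (2 * t)) (frq E 3 (2 * t + 1)) A) = m ∧
      (gsum ((rho12 (frq E 3 (2 * t)) (frq E 3 (2 * t + 1)) A : GL (Fin 3 × (Fin 2 × Fin 2)) E) :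
            Matrix (Fin 3 × (Fin 2 × Fin 2)) (Fin 3 × (Fin 2 × Fin 2)) E)
          (orderOf (rho12 (frq E 3 (2 * t)) (frq E 3 (2 * t + 1)) A)) ≠ 0 ↔
        (2 * m ∣ 2 * (3 ^ (2 * t) + 1) ∨ 2 * m ∣ 2 * (3 ^ (2 * t) - 1))) := by
  obtain ⟨r, _, _, hAr, _, hpow, hg⟩ := rho12_ss t ht hE A htr
  have hr : r = 2 * m := hAr.symm.trans hm
  subst hr
  refine ⟨?_, hg⟩
  apply Nat.dvd_antisymm
  · apply orderOf_dvd_of_pow_eq_one
    rw [hpow]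
  · have h1 := (hpow _).mp (pow_orderOf_eq_one (rho12 (frq E 3 (2 * t)) (frq E 3 (2 * t + 1)) A))
    exact (Nat.mul_dvd_mul_iff_left (by norm_num)).mp h1

/-- TA2 -/
theorem t3_lower {E : Type} [Field E] [Fintype E] [CharP E 3] (t : ℕ) (ht : 1 ≤ t)
    (hE : Fintype.card E = 3 ^ (2 * (2 * t))) :
    (∃ g ∈ H12 (frq E 3 (2 * t)) (frq E 3 (2 * t + 1)), orderOf g = ((3 ^ (2 * t)) ^ 2 + 1) / 2) ∧
    (∃ g ∈ H12 (frq E 3 (2 * t)) (frq E 3 (2 * t + 1)), orderOf g = ((3 ^ (2 * t)) ^ 2 - 1) / 2) ∧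
    (∃ g ∈ H12 (frq E 3 (2 * t)) (frq E 3 (2 * t + 1)), orderOf g = 3 ^ (2 * t) + 1 ∧
      gsum ((g : GL (Fin 3 × (Fin 2 × Fin 2)) E) : Matrix (Fin 3 × (Fin 2 × Fin 2)) (Fin 3 × (Fin 2 × Fin 2)) E)
        (orderOf g) ≠ 0) ∧
    (∃ g ∈ H12 (frq E 3 (2 * t)) (frq E 3 (2 * t + 1)), orderOf g = 3 ^ (2 * t) - 1 ∧
      gsum ((g : GL (Fin 3 × (Fin 2 × Fin 2)) E) : Matrix (Fin 3 × (Fin 2 × Fin 2)) (Fin 3 × (Fin 2 × Fin 2)) E)
        (orderOf g) ≠ 0) := by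
  have h3 : Fact (Nat.Prime 3) := ⟨Nat.prime_three⟩
  have h2t : 1 ≤ 2 * t := by omega
  -- arithmetic of `q = 3^(2t)`
  obtain ⟨c, hc⟩ : ∃ c : ℕ, 3 ^ (2 * t) = 2 * c + 9 := by
    have h9 : 9 ≤ 3 ^ (2 * t) := by
      calc 9 = 3 ^ 2 := by norm_num
        _ ≤ 3 ^ (2 * t) := Nat.pow_le_pow_right (by norm_num) (by omega)
    have hodd : Odd (3 ^ (2 * t)) := Odd.pow (by decide)
    obtain ⟨d, hd⟩ := hodd
    exact ⟨d - 4, by omega⟩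
  have hsq : (3 ^ (2 * t)) ^ 2 = 2 * (2 * c * c + 18 * c + 40) + 1 := by
    rw [hc]; ring
  have hsqm : (3 ^ (2 * t)) ^ 2 - 1 = 2 * (2 * c * c + 18 * c + 40) := by
    rw [hsq]; rfl
  have hsqp : (3 ^ (2 * t)) ^ 2 + 1 = 2 * (2 * c * c + 18 * c + 41) := by
    rw [hsq]; ring
  have hqm : 3 ^ (2 * t) - 1 = 2 * (c + 4) := by
    rw [hc]; omega
  have hqp : 3 ^ (2 * t) + 1 = 2 * (c + 5) := by
    rw [hc]; ring
  have hfac : (3 ^ (2 * t)) ^ 2 - 1 = (3 ^ (2 * t) + 1) * (3 ^ (2 * t) - 1) := by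
    rw [hsqm, hqp, hqm]; ring
  refine ⟨?_, ?_, ?_, ?_⟩
  · -- `(q² + 1) / 2`
    obtain ⟨A, hA⟩ := exists_nonsplit (E := E) 3 (2 * t) h2t hE
    have htr : A.1.trace ^ 2 ≠ 4 := by
      intro h4
      have h6 := sl2_uni_order 3 A h4
      rw [hA, hsqp] at h6
      have := Nat.le_of_dvd (by norm_num) h6
      omega
    have hm : orderOf A = 2 * (((3 ^ (2 * t)) ^ 2 + 1) / 2) := by
      rw [hA, hsqp, Nat.mul_div_cancel_left _ (by norm_num : 0 < 2)]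
    exact ⟨_, ⟨A, rfl⟩, (p4tta2h6_even t ht hE A htr _ hm).1⟩
  · -- `(q² - 1) / 2`
    obtain ⟨a, _, A, _, hA, htr⟩ := exists_split (E := E) 3 (2 * t) h2t hE ((3 ^ (2 * t)) ^ 2 - 1) dvd_rfl (by
      intro h
      have := Nat.le_of_dvd (by norm_num) h
      omega)
    have hm : orderOf A = 2 * (((3 ^ (2 * t)) ^ 2 - 1) / 2) := by
      rw [hA, hsqm, Nat.mul_div_cancel_left _ (by norm_num : 0 < 2)]
    exact ⟨_, ⟨A, rfl⟩, (p4tta2h6_even t ht hE A htr _ hm).1⟩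
  · -- `q + 1`
    obtain ⟨a, _, A, _, hA, htr⟩ := exists_split (E := E) 3 (2 * t) h2t hE (2 * (3 ^ (2 * t) + 1)) (by
      rw [hfac, hqm, mul_comm 2 (3 ^ (2 * t) + 1)]
      exact Nat.mul_dvd_mul_left _ (dvd_mul_right _ _)) (by
      intro h
      have := Nat.le_of_dvd (by norm_num) h
      omega)
    obtain ⟨ho, hg⟩ := p4tta2h6_even t ht hE A htr _ hA
    refine ⟨_, ⟨A, rfl⟩, ho, ?_⟩
    exact hg.mpr (Or.inl dvd_rfl)
  · -- `q - 1`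
    obtain ⟨a, _, A, _, hA, htr⟩ := exists_split (E := E) 3 (2 * t) h2t hE (2 * (3 ^ (2 * t) - 1)) (by
      rw [hfac, hqp, mul_comm (2 * (c + 5)) (3 ^ (2 * t) - 1), mul_comm 2 (3 ^ (2 * t) - 1)]
      exact Nat.mul_dvd_mul_left _ (dvd_mul_right _ _)) (by
      intro h
      have := Nat.le_of_dvd (by norm_num) h
      omega)
    obtain ⟨ho, hg⟩ := p4tta2h6_even t ht hE A htr _ hA
    refine ⟨_, ⟨A, rfl⟩, ho, ?_⟩
    exact hg.mpr (Or.inr dvd_rfl)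

end Cfsg.Agent.Lib.helper23.P4S
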