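import Mathlib
import Cfsg.Agent.Lib.helper6.P4T.Defs
import Cfsg.Agent.Lib.Helper22.P4CAFF1
import Cfsg.Agent.Lib.Helper22.P4CAFF2
import Cfsg.Agent.Lib.helper15.P4CAFF3
import Cfsg.Agent.Lib.Helper26.P4CGEN
import Cfsg.Agent.Lib.Helper20.P4TTR6
import Cfsg.Agent.Lib.Helper25.P4TTR5
import Cfsg.Agent.Lib.Helper9.P4TTA1core
import Cfsg.Agent.Lib.helper6.P4TTS2
import Cfsg.Agent.Lib.helper6.P4TTA2

set_option autoImplicit false

/-!
# Project P4T (designer helper6): MAIN = helper23's contract `constr_three` (S3466, `p = 3`, `q = 9^t`).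
Cites helper23's SkelC rows AFF1 `aff_spec`, AFF2 `aff_normal`, AFF3 `aff_finite`, GEN `spec_of_gens` and the P4T rows TA1 (helper9's `p4tta1_core` on TS2 `rho12_ss` + TR5 `rho12M_uni`), TA2 `t3_lower`, TR6 `t3_nine`.
-/

namespace Cfsg.Agent.Lib.helper23.P4S

open Matrix

/-- P3 contract -/
theorem constr_three (t : ℕ) (ht : 1 ≤ t) :
    ∃ (G : Type) (_ : Group G) (_ : Finite G) (K : Subgroup G), K.Normal ∧ K ≠ ⊥ ∧ Group.IsSolvable K ∧
      ∀ m : ℕ, m ∈ Set.range (orderOf : G → ℕ) ↔ InT4 3 (3 ^ (2 * t)) m := by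
  classical
  let E := GaloisField 3 (2 * (2 * t))
  let _ : Fintype E := Fintype.ofFinite E
  have hE : Fintype.card E = 3 ^ (2 * (2 * t)) := by
    rw [← Nat.card_eq_fintype_card]
    exact GaloisField.card 3 (2 * (2 * t)) (by omega)
  let H := H12 (frq E 3 (2 * t)) (frq E 3 (2 * t + 1))
  have : Finite (Aff H) := aff_finite H
  obtain ⟨K, hKn, hK, hKs⟩ := aff_normal H
  refine ⟨Aff H, inferInstance, inferInstance, K, hKn, hK, hKs, fun m => ?_⟩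
  have hup : ∀ g ∈ H, InT4 3 (3 ^ (2 * t)) (orderOf g) ∧
      (gsum ((g : GL (Fin 3 × (Fin 2 × Fin 2)) E) : Matrix (Fin 3 × (Fin 2 × Fin 2)) (Fin 3 × (Fin 2 × Fin 2)) E)
          (orderOf g) ≠ 0 → InT4 3 (3 ^ (2 * t)) (3 * orderOf g)) := by
    intro g hg
    obtain ⟨A, rfl⟩ := MonoidHom.mem_range.mp hg
    exact p4tta1_core t ht A (rho12_ss t ht hE A) (rho12M_uni _ _ A.1 A.2)
  constructor
  · intro hm
    rcases (aff_spec 3 H m).1 hm with ⟨g, hg, rfl⟩ | ⟨g, hg, rfl, hne⟩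
    · exact (hup g hg).1
    · exact (hup g hg).2 hne
  · intro hm
    obtain ⟨⟨g1, hg1, h1⟩, ⟨g2, hg2, h2⟩, ⟨g3, hg3, h3, h3'⟩, ⟨g4, hg4, h4, h4'⟩⟩ := t3_lower t ht hE
    obtain ⟨g5, hg5, h5, h5'⟩ := t3_nine (frq E 3 (2 * t)) (frq E 3 (2 * t + 1))
    have hgcd : Nat.gcd 2 (3 ^ (2 * t) - 1) = 2 := by
      have hodd : Odd (3 ^ (2 * t)) := Odd.pow (by decide)
      obtain ⟨k, hk⟩ := hodd
      have h : 3 ^ (2 * t) - 1 = 2 * k := by omega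
      rw [h]
      exact Nat.gcd_mul_right_right k 2
    refine spec_of_gens 3 (3 ^ (2 * t)) ?_ ?_ ?_ ?_ ?_ ?_ m hm
    · rw [hgcd]
      exact (aff_spec 3 H _).2 (Or.inl ⟨g1, hg1, h1⟩)
    · rw [hgcd]
      exact (aff_spec 3 H _).2 (Or.inl ⟨g2, hg2, h2⟩)
    · exact (aff_spec 3 H _).2 (Or.inr ⟨g3, hg3, by rw [h3], h3'⟩)
    · exact (aff_spec 3 H _).2 (Or.inr ⟨g4, hg4, by rw [h4], h4'⟩)
    · intro h; omega
    · intro _
      exact (aff_spec 3 H _).2 (Or.inr ⟨g5, hg5, by rw [h5], by rw [h5]; exact h5'⟩)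

end Cfsg.Agent.Lib.helper23.P4S
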