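import Mathlib
import Cfsg.Agent.Lib.Helper1.SLN.Defs
import Cfsg.Agent.Lib.Helper1.SLN.Defs2
import Cfsg.Agent.Lib.helper6.SLPM4
import Cfsg.Agent.Lib.helper6.SL7Q0

/-!
Project SL7 (designer helper1), skeleton 2, row Q1 (`exists_flip_gens`), by helper6.
-/

set_option autoImplicit false

namespace Cfsg.Agent.Lib.Helper1.SLN

open Matrix Equiv
open Cfsg.Agent.Lib.helper17.SLP

universe u v w

section Q

variable {F : Type u} [Field F]

/-- the lower unitriangular matrix -/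
def sl7q1_yM (t : F) : Matrix.SpecialLinearGroup (Fin 2) F :=
  ⟨!![1, 0; t, 1], by simp [Matrix.det_fin_two_of]⟩

theorem sl7q1_coe_yM (t : F) : (sl7q1_yM t : Matrix (Fin 2) (Fin 2) F) = !![1, 0; t, 1] := rfl

/-- `a₁ = [[1,-1],[1,0]]` -/
def sl7q1_a : Matrix.SpecialLinearGroup (Fin 2) F :=
  ⟨!![1, -1; 1, 0], by simp [Matrix.det_fin_two_of]⟩

theorem sl7q1_coe_a :
    ((sl7q1_a : Matrix.SpecialLinearGroup (Fin 2) F) : Matrix (Fin 2) (Fin 2) F) = !![1, -1; 1, 0] := rfl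

/-- `a₁⁻¹ = [[0,1],[-1,1]]` -/
def sl7q1_ai : Matrix.SpecialLinearGroup (Fin 2) F :=
  ⟨!![0, 1; -1, 1], by simp [Matrix.det_fin_two_of]⟩

theorem sl7q1_coe_ai :
    ((sl7q1_ai : Matrix.SpecialLinearGroup (Fin 2) F) : Matrix (Fin 2) (Fin 2) F) = !![0, 1; -1, 1] := rfl

theorem sl7q1_ai_mul_a : (sl7q1_ai : Matrix.SpecialLinearGroup (Fin 2) F) * sl7q1_a = 1 := by
  apply Subtype.ext
  simp only [Matrix.SpecialLinearGroup.coe_mul, sl7q1_coe_a, sl7q1_coe_ai, Matrix.SpecialLinearGroup.coe_one]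
  ext i j
  fin_cases i <;> fin_cases j <;> simp [Matrix.mul_apply, Fin.sum_univ_two]

theorem sl7q1_a_inv : (sl7q1_a : Matrix.SpecialLinearGroup (Fin 2) F)⁻¹ = sl7q1_ai :=
  (eq_inv_of_mul_eq_one_left sl7q1_ai_mul_a).symm

theorem sl7q1_flip_a : flip2 (sl7q1_a : Matrix.SpecialLinearGroup (Fin 2) F) = sl7q1_a⁻¹ := by
  rw [sl7q1_a_inv]
  apply Subtype.ext
  show ((flip2F sl7q1_a : Matrix.SpecialLinearGroup (Fin 2) F) : Matrix (Fin 2) (Fin 2) F) = _
  rw [flip2F_coe, sl7q1_coe_ai]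
  ext i j
  fin_cases i <;> fin_cases j <;> simp [sl7q1_a]

theorem sl7q1_flip_w : flip2 (wM : Matrix.SpecialLinearGroup (Fin 2) F) = wM⁻¹ := by
  apply Subtype.ext
  show ((flip2F wM : Matrix.SpecialLinearGroup (Fin 2) F) : Matrix (Fin 2) (Fin 2) F) = _
  rw [flip2F_coe, slpm3_coe_wM_inv]
  ext i j
  fin_cases i <;> fin_cases j <;> simp [wM]

theorem sl7q1_flip_h (s : Fˣ) : flip2 (hM s : Matrix.SpecialLinearGroup (Fin 2) F) = (hM s)⁻¹ := by
  apply Subtype.ext
  show ((flip2F (hM s) : Matrix.SpecialLinearGroup (Fin 2) F) : Matrix (Fin 2) (Fin 2) F) = _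
  rw [flip2F_coe, slpm3_coe_hM_inv]
  ext i j
  fin_cases i <;> fin_cases j <;> simp [hM]

theorem sl7q1_a_mul_w : (sl7q1_a : Matrix.SpecialLinearGroup (Fin 2) F) * wM = xM 1 := by
  apply Subtype.ext
  simp only [Matrix.SpecialLinearGroup.coe_mul, sl7q1_coe_a, slpm3_coe_wM, slpm3_coe_xM]
  ext i j
  fin_cases i <;> fin_cases j <;> simp [Matrix.mul_apply, Fin.sum_univ_two]

theorem sl7q1_w_sq : (wM : Matrix.SpecialLinearGroup (Fin 2) F) * wM = hM (-1) := by
  apply Subtype.ext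
  simp only [Matrix.SpecialLinearGroup.coe_mul, slpm3_coe_wM, slpm3_coe_hM]
  ext i j
  fin_cases i <;> fin_cases j <;> simp [Matrix.mul_apply, Fin.sum_univ_two]

theorem sl7q1_hM_one : (hM (1 : Fˣ) : Matrix.SpecialLinearGroup (Fin 2) F) = 1 := by
  apply Subtype.ext
  simp only [slpm3_coe_hM, Matrix.SpecialLinearGroup.coe_one]
  ext i j
  fin_cases i <;> fin_cases j <;> simp

theorem sl7q1_yM_mul (s t : F) : sl7q1_yM s * sl7q1_yM t = sl7q1_yM (s + t) := by
  apply Subtype.ext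
  simp only [Matrix.SpecialLinearGroup.coe_mul, sl7q1_coe_yM]
  ext i j
  fin_cases i <;> fin_cases j <;> simp [Matrix.mul_apply, Fin.sum_univ_two, add_comm]

theorem sl7q1_yM_zero : sl7q1_yM (0 : F) = 1 := by
  apply Subtype.ext
  simp only [sl7q1_coe_yM, Matrix.SpecialLinearGroup.coe_one]
  ext i j
  fin_cases i <;> fin_cases j <;> simp

theorem sl7q1_yM_neg (t : F) : sl7q1_yM (-t) = (sl7q1_yM t)⁻¹ := by
  apply eq_inv_of_mul_eq_one_left
  rw [sl7q1_yM_mul, neg_add_cancel, sl7q1_yM_zero]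

/-- conjugation of `yM t` by the inverse of the torus element multiplies the parameter by `s²` -/
theorem sl7q1_hinv_yM (s : Fˣ) (t : F) :
    (hM s)⁻¹ * sl7q1_yM t * hM s = sl7q1_yM ((s : F) ^ 2 * t) := by
  apply Subtype.ext
  simp only [Matrix.SpecialLinearGroup.coe_mul, sl7q1_coe_yM, slpm3_coe_hM, slpm3_coe_hM_inv]
  ext i j
  fin_cases i <;> fin_cases j <;> simp [Matrix.mul_apply, Fin.sum_univ_two]
  ring

/-- the key word -/
theorem sl7q1_word (s : Fˣ) :
    hM s * hM s * (sl7q1_ai * (hM s * sl7q1_a * (hM s)⁻¹)) =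
      sl7q1_yM (((s⁻¹ : Fˣ) : F) ^ 4 - ((s⁻¹ : Fˣ) : F) ^ 2) := by
  have hs0 : (s : F) ≠ 0 := s.ne_zero
  apply Subtype.ext
  simp only [Matrix.SpecialLinearGroup.coe_mul, sl7q1_coe_yM, slpm3_coe_hM, slpm3_coe_hM_inv,
    sl7q1_coe_a, sl7q1_coe_ai, Units.val_inv_eq_inv_val]
  ext i j
  fin_cases i <;> fin_cases j
  · simp [Matrix.mul_apply, Fin.sum_univ_two]
    field_simp
  · simp [Matrix.mul_apply, Fin.sum_univ_two]
  · simp [Matrix.mul_apply, Fin.sum_univ_two]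
    field_simp
    ring
  · simp [Matrix.mul_apply, Fin.sum_univ_two]
    field_simp

theorem sl7q1_yneg_a : sl7q1_yM (-1 : F) * sl7q1_a = xM (-1) := by
  apply Subtype.ext
  simp only [Matrix.SpecialLinearGroup.coe_mul, sl7q1_coe_yM, sl7q1_coe_a, slpm3_coe_xM]
  ext i j
  fin_cases i <;> fin_cases j <;> simp [Matrix.mul_apply, Fin.sum_univ_two]

theorem sl7q1_w_eq : xM (1 : F) * sl7q1_yM (-1) * xM 1 = wM := by
  apply Subtype.ext
  simp only [Matrix.SpecialLinearGroup.coe_mul, sl7q1_coe_yM, slpm3_coe_wM, slpm3_coe_xM]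
  ext i j
  fin_cases i <;> fin_cases j <;> simp [Matrix.mul_apply, Fin.sum_univ_two]

theorem sl7q1_hk (q : ℕ) (hq : 2 ≤ q) : q < ((q - 1) / Nat.gcd 2 (q - 1) + 1) ^ 2 := by
  rcases Nat.even_or_odd q with ⟨m, hm⟩ | ⟨m, hm⟩
  · have hodd : Odd (q - 1) := ⟨m - 1, by omega⟩
    have hg : Nat.gcd 2 (q - 1) = 1 := Nat.coprime_two_left.mpr hodd
    rw [hg, Nat.div_one]
    have : q - 1 + 1 = q := by omega
    rw [this]
    nlinarith
  · have hg : Nat.gcd 2 (q - 1) = 2 := by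
      have : q - 1 = 2 * m := by omega
      rw [this]
      exact Nat.gcd_eq_left (dvd_mul_right 2 m)
    rw [hg]
    have h1 : (q - 1) / 2 = m := by omega
    rw [h1]
    have hm1 : 1 ≤ m := by omega
    nlinarith

/-- Q1 [M] -/
theorem exists_flip_gens [Fintype F] :
    ∃ a₁ a₂ : Matrix.SpecialLinearGroup (Fin 2) F, flip2 a₁ = a₁⁻¹ ∧ flip2 a₂ = a₂⁻¹ ∧
      Subgroup.closure ({a₁, a₂} : Set (Matrix.SpecialLinearGroup (Fin 2) F)) = ⊤ := by
  classical
  obtain ⟨ζ, hζ⟩ := IsCyclic.exists_generator (α := Fˣ)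
  by_cases hsq : ((ζ : Fˣ) : F) ^ 2 = 1
  · -- small fields: `a₂ = wM`
    refine ⟨sl7q1_a, wM, sl7q1_flip_a, sl7q1_flip_w, ?_⟩
    set K := Subgroup.closure ({sl7q1_a, wM} : Set (Matrix.SpecialLinearGroup (Fin 2) F)) with hK
    have ha : sl7q1_a ∈ K := Subgroup.subset_closure (by simp)
    have hw : (wM : Matrix.SpecialLinearGroup (Fin 2) F) ∈ K := Subgroup.subset_closure (by simp)
    have hx : xM (1 : F) ∈ K := by
      rw [← sl7q1_a_mul_w]; exact K.mul_mem ha hw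
    have hh : hM ζ ∈ K := by
      have h2 : ((ζ : F) - 1) * ((ζ : F) + 1) = 0 := by linear_combination hsq
      rcases mul_eq_zero.mp h2 with h | h
      · have : ζ = 1 := Units.ext (by simpa using sub_eq_zero.mp h)
        rw [this, sl7q1_hM_one]; exact K.one_mem
      · have : ζ = -1 := Units.ext (by simpa using eq_neg_of_add_eq_zero_left h)
        rw [this, ← sl7q1_w_sq]; exact K.mul_mem hw hw
    rw [eq_top_iff, ← closure_M ζ hζ, Subgroup.closure_le]
    intro g hg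
    simp only [Set.mem_insert_iff, Set.mem_singleton_iff] at hg
    rcases hg with rfl | rfl | rfl
    · exact hx
    · exact hh
    · exact hw
  · -- `a₂ = hM ζ`
    refine ⟨sl7q1_a, hM ζ, sl7q1_flip_a, sl7q1_flip_h ζ, ?_⟩
    set K := Subgroup.closure ({sl7q1_a, hM ζ} : Set (Matrix.SpecialLinearGroup (Fin 2) F)) with hK
    have ha : sl7q1_a ∈ K := Subgroup.subset_closure (by simp)
    have hh : hM ζ ∈ K := Subgroup.subset_closure (by simp)
    have hai : sl7q1_ai ∈ K := by rw [← sl7q1_a_inv]; exact K.inv_mem ha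
    set r : F := ((ζ⁻¹ : Fˣ) : F) ^ 4 - ((ζ⁻¹ : Fˣ) : F) ^ 2 with hr
    have hr0 : r ≠ 0 := by
      intro h0
      apply hsq
      have hz0 : (ζ : F) ≠ 0 := ζ.ne_zero
      rw [hr, Units.val_inv_eq_inv_val] at h0
      field_simp at h0
      linear_combination -h0
    have hyr : sl7q1_yM r ∈ K := by
      rw [hr, ← sl7q1_word ζ]
      exact K.mul_mem (K.mul_mem hh hh) (K.mul_mem hai (K.mul_mem (K.mul_mem hh ha) (K.inv_mem hh)))
    let S : AddSubgroup F :=
      { carrier := {t | sl7q1_yM (r * t) ∈ K}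
        zero_mem' := by
          show sl7q1_yM (r * 0) ∈ K
          rw [mul_zero, sl7q1_yM_zero]; exact K.one_mem
        add_mem' := by
          intro s t hs ht
          show sl7q1_yM (r * (s + t)) ∈ K
          rw [mul_add, ← sl7q1_yM_mul]; exact K.mul_mem hs ht
        neg_mem' := by
          intro s hs
          show sl7q1_yM (r * -s) ∈ K
          rw [mul_neg, sl7q1_yM_neg]; exact K.inv_mem hs }
    have hS1 : (1 : F) ∈ S := by
      show sl7q1_yM (r * 1) ∈ K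
      rwa [mul_one]
    have hSz : ∀ t ∈ S, ((ζ ^ 2 : Fˣ) : F) * t ∈ S := by
      intro t ht
      show sl7q1_yM (r * (((ζ ^ 2 : Fˣ) : F) * t)) ∈ K
      have : r * (((ζ ^ 2 : Fˣ) : F) * t) = (ζ : F) ^ 2 * (r * t) := by
        rw [Units.val_pow_eq_pow_val]; ring
      rw [this, ← sl7q1_hinv_yM]
      exact K.mul_mem (K.mul_mem (K.inv_mem hh) ht) hh
    have hStop : S = ⊤ :=
      span_pow_top ζ hζ 2 (sl7q1_hk _ Fintype.one_lt_card) S hS1 hSz
    have hy : ∀ t : F, sl7q1_yM t ∈ K := by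
      intro t
      have : t / r ∈ S := by rw [hStop]; trivial
      have h2 : sl7q1_yM (r * (t / r)) ∈ K := this
      rwa [mul_div_cancel₀ t hr0] at h2
    have hxn : xM (-1 : F) ∈ K := by
      rw [← sl7q1_yneg_a]; exact K.mul_mem (hy _) ha
    have hx : xM (1 : F) ∈ K := by
      have : xM (1 : F) = (xM (-1 : F))⁻¹ := by
        apply eq_inv_of_mul_eq_one_left
        rw [slpm4_xM_mul, add_neg_cancel, slpm4_xM_zero]
      rw [this]; exact K.inv_mem hxn
    have hw : (wM : Matrix.SpecialLinearGroup (Fin 2) F) ∈ K := by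
      rw [← sl7q1_w_eq]; exact K.mul_mem (K.mul_mem hx (hy _)) hx
    rw [eq_top_iff, ← closure_M ζ hζ, Subgroup.closure_le]
    intro g hg
    simp only [Set.mem_insert_iff, Set.mem_singleton_iff] at hg
    rcases hg with rfl | rfl | rfl
    · exact hx
    · exact hh
    · exact hw

end Q

end Cfsg.Agent.Lib.Helper1.SLN
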