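import Mathlib
import Cfsg.Prelude.Def_Classical
import Cfsg.Agent.Lib.helper3.O9A.Defs

set_option autoImplicit false

/-!
# Project O9A, row EMB1 (helper6): `emb8` is an isometric embedding `(F^8, Q⁻₈) → (F^9, Q₉)`.
-/

namespace Cfsg.Agent.Lib.helper3.O9A

open Matrix Module Polynomial Cfsg.Agent.Lib.Helper1.S8U

/-- the coordinates of `emb8 a b v` -/
theorem o9aemb1_inl {F : Type*} [Field F] (a b : F) (v : MI8 → F) :
    emb8 a b v (Sum.inl ()) = v (Sum.inr 0) + a / 2 * v (Sum.inr 1) := rfl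

theorem o9aemb1_x {F : Type*} [Field F] (a b : F) (v : MI8 → F) (j : Fin 4) (h : (j : ℕ) < 3) :
    emb8 a b v (Sum.inr (Sum.inl j)) = v (Sum.inl (Sum.inl ⟨j, h⟩)) := by
  show (if h : (j : ℕ) < 3 then v (Sum.inl (Sum.inl ⟨j, h⟩)) else v (Sum.inr 1)) = _
  rw [dif_pos h]

theorem o9aemb1_y {F : Type*} [Field F] (a b : F) (v : MI8 → F) (j : Fin 4) (h : (j : ℕ) < 3) :
    emb8 a b v (Sum.inr (Sum.inr j)) = v (Sum.inl (Sum.inr ⟨j, h⟩)) := by
  show (if h : (j : ℕ) < 3 then v (Sum.inl (Sum.inr ⟨j, h⟩)) else - dl a b * v (Sum.inr 1)) = _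
  rw [dif_pos h]

theorem o9aemb1_x3 {F : Type*} [Field F] (a b : F) (v : MI8 → F) :
    emb8 a b v (Sum.inr (Sum.inl 3)) = v (Sum.inr 1) := by
  show (if h : ((3 : Fin 4) : ℕ) < 3 then v (Sum.inl (Sum.inl ⟨(3 : Fin 4), h⟩)) else v (Sum.inr 1)) = _
  rw [dif_neg (by decide)]

theorem o9aemb1_y3 {F : Type*} [Field F] (a b : F) (v : MI8 → F) :
    emb8 a b v (Sum.inr (Sum.inr 3)) = - dl a b * v (Sum.inr 1) := by
  show (if h : ((3 : Fin 4) : ℕ) < 3 then v (Sum.inl (Sum.inr ⟨(3 : Fin 4), h⟩)) else - dl a b * v (Sum.inr 1)) = _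
  rw [dif_neg (by decide)]

/-- EMB1 -/
theorem emb8_quad {F : Type*} [Field F] (h2 : (2 : F) ≠ 0) (a b : F) (v : MI8 → F) :
    Cfsg.quadFormOdd 4 F (emb8 a b v) = Cfsg.quadFormMinus 3 F a b v := by
  unfold Cfsg.quadFormOdd Cfsg.quadFormMinus
  rw [Fin.sum_univ_four, Fin.sum_univ_three, o9aemb1_inl, o9aemb1_x3, o9aemb1_y3,
    o9aemb1_x a b v 0 (by decide), o9aemb1_x a b v 1 (by decide), o9aemb1_x a b v 2 (by decide),
    o9aemb1_y a b v 0 (by decide), o9aemb1_y a b v 1 (by decide), o9aemb1_y a b v 2 (by decide)]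
  unfold dl
  have e0 : (⟨((0 : Fin 4) : ℕ), by decide⟩ : Fin 3) = 0 := rfl
  have e1 : (⟨((1 : Fin 4) : ℕ), by decide⟩ : Fin 3) = 1 := rfl
  have e2 : (⟨((2 : Fin 4) : ℕ), by decide⟩ : Fin 3) = 2 := rfl
  rw [e0, e1, e2]
  have h4 : (4 : F) ≠ 0 := by
    have : (4 : F) = 2 * 2 := by norm_num
    rw [this]
    exact mul_ne_zero h2 h2
  field_simp
  ring

end Cfsg.Agent.Lib.helper3.O9A
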