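import Mathlib
import Cfsg.Prelude.Def_Classical
import Cfsg.Agent.Lib.helper3.O9A.Defs
import Cfsg.Agent.Lib.Helper16.SpinG2
import Cfsg.Agent.Lib.helper6.O9AEMB1

set_option autoImplicit false

/-!
# Project O9A, row EMB2 (helper6): the vector `w9` spanning the orthogonal complement of `emb8 (F^8)`.
-/

namespace Cfsg.Agent.Lib.helper3.O9A

open Matrix Module Polynomial Cfsg.Agent.Lib.Helper1.S8U Cfsg.Agent.Lib.Helper16

theorem o9aemb2_inl {F : Type*} [Field F] (a b : F) : w9 a b (Sum.inl ()) = 0 := rfl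

theorem o9aemb2_x {F : Type*} [Field F] (a b : F) (j : Fin 4) :
    w9 a b (Sum.inr (Sum.inl j)) = if (j : ℕ) = 3 then 1 else 0 := rfl

theorem o9aemb2_y {F : Type*} [Field F] (a b : F) (j : Fin 4) :
    w9 a b (Sum.inr (Sum.inr j)) = if (j : ℕ) = 3 then dl a b else 0 := rfl

/-- EMB2 (1) -/
theorem w9_quad {F : Type*} [Field F] (a b : F) : Cfsg.quadFormOdd 4 F (w9 a b) = dl a b := by
  unfold Cfsg.quadFormOdd
  rw [Fin.sum_univ_four]
  simp only [o9aemb2_inl, o9aemb2_x, o9aemb2_y]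
  simp

/-- EMB2 (2) -/
theorem w9_perp {F : Type*} [Field F] (a b : F) (v : MI8 → F) :
    QuadraticMap.polar (Cfsg.quadFormOdd 4 F) (w9 a b) (emb8 a b v) = 0 := by
  rw [polar_odd, Fin.sum_univ_four]
  simp only [o9aemb2_inl, o9aemb2_x, o9aemb2_y, o9aemb1_x3, o9aemb1_y3]
  simp
  ring

/-- EMB2 (3) -/
theorem dl_ne {F : Type*} [Field F] (h2 : (2 : F) ≠ 0) (a b : F) (hab : Aniso a b) : dl a b ≠ 0 := by
  intro h
  unfold dl at h
  have h4 : (4 : F) ≠ 0 := by
    have : (4 : F) = 2 * 2 := by norm_num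
    rw [this]
    exact mul_ne_zero h2 h2
  have hb : b = a ^ 2 / 4 := by
    have := sub_eq_zero.mp h
    exact this.symm
  have h0 := hab (-a / 2) 1 (by
    rw [hb]
    field_simp
    ring)
  exact one_ne_zero h0.2

end Cfsg.Agent.Lib.helper3.O9A
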