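import Mathlib
import Cfsg.Prelude.Def_Classical
import Cfsg.Agent.Lib.helper3.O9A.Defs
import Cfsg.Agent.Lib.helper6.O9AEMB1
import Cfsg.Agent.Lib.helper6.O9AEMB2

set_option autoImplicit false

/-!
# Project O9A, row EMB3 (helper6): `(v, t) ↦ emb8 v + t • w9` is a linear equivalence `F^8 × F ≃ F^9`.
-/

namespace Cfsg.Agent.Lib.helper3.O9A

open Matrix Module Polynomial Cfsg.Agent.Lib.Helper1.S8U

/-- the map `(v, t) ↦ emb8 v + t • w9` -/
noncomputable def o9aemb3_map {F : Type*} [Field F] (a b : F) : ((MI8 → F) × F) →ₗ[F] (OI9 → F) :=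
  (emb8 a b).coprod (LinearMap.toSpanSingleton F (OI9 → F) (w9 a b))

theorem o9aemb3_map_apply {F : Type*} [Field F] (a b : F) (v : MI8 → F) (t : F) :
    o9aemb3_map a b (v, t) = emb8 a b v + t • w9 a b := by
  unfold o9aemb3_map
  rw [LinearMap.coprod_apply, LinearMap.toSpanSingleton_apply]

theorem o9aemb3_inj {F : Type*} [Field F] (h2 : (2 : F) ≠ 0) (a b : F) (hd : dl a b ≠ 0) :
    Function.Injective (o9aemb3_map a b) := by
  rw [← LinearMap.ker_eq_bot, LinearMap.ker_eq_bot']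
  rintro ⟨v, t⟩ h
  rw [o9aemb3_map_apply] at h
  have hc : ∀ i, emb8 a b v i + t * w9 a b i = 0 := by
    intro i
    have := congrFun h i
    simpa using this
  have hx3 := hc (Sum.inr (Sum.inl 3))
  have hy3 := hc (Sum.inr (Sum.inr 3))
  rw [o9aemb1_x3, o9aemb2_x] at hx3
  rw [o9aemb1_y3, o9aemb2_y] at hy3
  have h33 : ((3 : Fin 4) : ℕ) = 3 := rfl
  rw [if_pos h33, mul_one] at hx3
  rw [if_pos h33] at hy3
  have hy3' : dl a b * (t - v (Sum.inr 1)) = 0 := by
    rw [← hy3]; ring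
  have ht : t = v (Sum.inr 1) := by
    rcases mul_eq_zero.mp hy3' with h' | h'
    · exact absurd h' hd
    · exact sub_eq_zero.mp h'
  have hz2 : v (Sum.inr 1) = 0 := by
    rw [ht] at hx3
    have : (2 : F) * v (Sum.inr 1) = 0 := by rw [← hx3]; ring
    rcases mul_eq_zero.mp this with h' | h'
    · exact absurd h' h2
    · exact h'
  have ht0 : t = 0 := by rw [ht, hz2]
  have h0 := hc (Sum.inl ())
  rw [o9aemb1_inl, o9aemb2_inl, hz2] at h0
  have hz1 : v (Sum.inr 0) = 0 := by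
    rw [← h0]; ring
  have hxj : ∀ j : Fin 3, v (Sum.inl (Sum.inl j)) = 0 := by
    intro j
    have := hc (Sum.inr (Sum.inl (Fin.castSucc j)))
    rw [o9aemb1_x a b v (Fin.castSucc j) (by simp), o9aemb2_x, ht0] at this
    simpa using this
  have hyj : ∀ j : Fin 3, v (Sum.inl (Sum.inr j)) = 0 := by
    intro j
    have := hc (Sum.inr (Sum.inr (Fin.castSucc j)))
    rw [o9aemb1_y a b v (Fin.castSucc j) (by simp), o9aemb2_y, ht0] at this
    simpa using this
  refine Prod.ext ?_ ht0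
  funext i
  rcases i with (j | j) | j
  · exact hxj j
  · exact hyj j
  · fin_cases j
    · exact hz1
    · exact hz2

/-- EMB3 -/
theorem emb8_equiv {F : Type*} [Field F] (h2 : (2 : F) ≠ 0) (a b : F) (hd : dl a b ≠ 0) :
    ∃ P : ((MI8 → F) × F) ≃ₗ[F] (OI9 → F), ∀ (v : MI8 → F) (t : F), P (v, t) = emb8 a b v + t • w9 a b := by
  have hfr : finrank F ((MI8 → F) × F) = finrank F (OI9 → F) := by
    rw [Module.finrank_prod, Module.finrank_pi, Module.finrank_pi, Module.finrank_self]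
    simp
  refine ⟨LinearEquiv.ofInjectiveOfFinrankEq (o9aemb3_map a b) (o9aemb3_inj h2 a b hd) hfr, ?_⟩
  intro v t
  have h := LinearEquiv.coe_ofInjectiveOfFinrankEq (o9aemb3_map a b) (o9aemb3_inj h2 a b hd) hfr
  have h' := congrArg (fun f : ((MI8 → F) × F) →ₗ[F] (OI9 → F) => f (v, t)) h
  simp only [LinearEquiv.coe_coe] at h'
  rw [h', o9aemb3_map_apply]

end Cfsg.Agent.Lib.helper3.O9A
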