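import Mathlib
import Cfsg.Prelude.Def_Classical
import Cfsg.Agent.Lib.helper3.O9A.Defs
import Cfsg.Agent.Lib.Helper16.SpinG2
import Cfsg.Agent.Lib.Helper16.SpinA
import Cfsg.Agent.Lib.helper6.O9AEMB1
import Cfsg.Agent.Lib.helper6.O9AEMB2
import Cfsg.Agent.Lib.helper6.O9AEMB3

set_option autoImplicit false

/-!
# Project O9A, row HAT (helper6): the injective homomorphism `GO⁻₈ → GO₉`, `g ↦ ĝ = g ⊕ 1` on `F^9 = emb8 (F^8) ⟂ ⟨w9⟩`.
-/

namespace Cfsg.Agent.Lib.helper3.O9A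

open Matrix Module Polynomial Cfsg.Agent.Lib.Helper1.S8U Cfsg.Agent.Lib.Helper16

section
variable {F : Type*} [Field F] (a b : F) (P : ((MI8 → F) × F) ≃ₗ[F] (OI9 → F))

/-- the matrix of `P ∘ (M × id) ∘ P⁻¹` -/
noncomputable def o9ahat_mat (M : Matrix MI8 MI8 F) : Matrix OI9 OI9 F :=
  LinearMap.toMatrix' (P.toLinearMap ∘ₗ ((Matrix.toLin' M).prodMap LinearMap.id) ∘ₗ P.symm.toLinearMap)

theorem o9ahat_mat_mulVec (M : Matrix MI8 MI8 F) (x : OI9 → F) :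
    o9ahat_mat P M *ᵥ x = P (M *ᵥ (P.symm x).1, (P.symm x).2) := by
  unfold o9ahat_mat
  rw [← Matrix.toLin'_apply, Matrix.toLin'_toMatrix']
  simp only [LinearMap.comp_apply, LinearEquiv.coe_coe, LinearMap.prodMap_apply, Matrix.toLin'_apply,
    LinearMap.id_apply]

theorem o9ahat_mat_apply (M : Matrix MI8 MI8 F) (v : MI8 → F) (t : F) :
    o9ahat_mat P M *ᵥ P (v, t) = P (M *ᵥ v, t) := by
  rw [o9ahat_mat_mulVec, LinearEquiv.symm_apply_apply]

theorem o9ahat_ext (A B : Matrix OI9 OI9 F) (h : ∀ x, A *ᵥ x = B *ᵥ x) : A = B := by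
  apply Matrix.toLin'.injective
  apply LinearMap.ext
  intro x
  rw [Matrix.toLin'_apply, Matrix.toLin'_apply, h]

theorem o9ahat_mat_one : o9ahat_mat P (1 : Matrix MI8 MI8 F) = 1 := by
  apply o9ahat_ext
  intro x
  obtain ⟨⟨v, t⟩, rfl⟩ := P.surjective x
  rw [o9ahat_mat_apply, Matrix.one_mulVec, Matrix.one_mulVec]

theorem o9ahat_mat_mul (M N : Matrix MI8 MI8 F) :
    o9ahat_mat P (M * N) = o9ahat_mat P M * o9ahat_mat P N := by
  apply o9ahat_ext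
  intro x
  obtain ⟨⟨v, t⟩, rfl⟩ := P.surjective x
  rw [← Matrix.mulVec_mulVec, o9ahat_mat_apply, o9ahat_mat_apply, o9ahat_mat_apply, Matrix.mulVec_mulVec]

/-- `M ↦ M ⊕ 1` as a monoid homomorphism of matrix rings -/
noncomputable def o9ahat_hom : Matrix MI8 MI8 F →* Matrix OI9 OI9 F where
  toFun := o9ahat_mat P
  map_one' := o9ahat_mat_one P
  map_mul' := o9ahat_mat_mul P

theorem o9ahat_hom_apply (M : Matrix MI8 MI8 F) : o9ahat_hom P M = o9ahat_mat P M := rfl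

/-- `Q₉ (emb8 v + t • w9) = Q₈ v + t² δ` -/
theorem o9ahat_quad (h2 : (2 : F) ≠ 0) (v : MI8 → F) (t : F) :
    Cfsg.quadFormOdd 4 F (emb8 a b v + t • w9 a b) = Cfsg.quadFormMinus 3 F a b v + t * t * dl a b := by
  rw [← qfOdd_coe, quad_add, QuadraticMap.map_smul, QuadraticMap.polar_smul_right,
    QuadraticMap.polar_comm, qfOdd_coe, w9_perp, emb8_quad h2, w9_quad]
  simp only [smul_eq_mul, mul_zero, add_zero]

end

/-- HAT, core on the statement of EMB3 -/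
theorem o9ahat_core {F : Type*} [Field F] (h2 : (2 : F) ≠ 0) (a b : F)
    (P : ((MI8 → F) × F) ≃ₗ[F] (OI9 → F))
    (hP : ∀ (v : MI8 → F) (t : F), P (v, t) = emb8 a b v + t • w9 a b) :
    ∃ φ : ↥(Cfsg.isometryGroup F (Cfsg.quadFormMinus 3 F a b)) →* ↥(Cfsg.isometryGroup F (Cfsg.quadFormOdd 4 F)),
      Function.Injective φ ∧
      (∀ (g : ↥(Cfsg.isometryGroup F (Cfsg.quadFormMinus 3 F a b))) (v : MI8 → F),
        ((φ g : GL OI9 F) : Matrix OI9 OI9 F) *ᵥ emb8 a b v = emb8 a b (((g : GL MI8 F) : Matrix MI8 MI8 F) *ᵥ v)) ∧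
      (∀ g : ↥(Cfsg.isometryGroup F (Cfsg.quadFormMinus 3 F a b)),
        ((φ g : GL OI9 F) : Matrix OI9 OI9 F) *ᵥ w9 a b = w9 a b) := by
  have hemb : ∀ v : MI8 → F, emb8 a b v = P (v, 0) := by
    intro v
    rw [hP, zero_smul, add_zero]
  have hw : w9 a b = P (0, 1) := by
    rw [hP, map_zero, zero_add, one_smul]
  have hembinj : Function.Injective (emb8 a b) := by
    intro v v' h
    rw [hemb, hemb] at h
    have := P.injective h
    exact (Prod.mk.inj this).1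
  let φ0 : GL MI8 F →* GL OI9 F := Units.map (o9ahat_hom P)
  have hφ0 : ∀ g : GL MI8 F, ((φ0 g : GL OI9 F) : Matrix OI9 OI9 F) = o9ahat_mat P (g : Matrix MI8 MI8 F) := by
    intro g
    rfl
  have hmem : ∀ g : ↥(Cfsg.isometryGroup F (Cfsg.quadFormMinus 3 F a b)),
      φ0 (g : GL MI8 F) ∈ Cfsg.isometryGroup F (Cfsg.quadFormOdd 4 F) := by
    intro g
    rw [mem_iso_iff]
    intro x
    obtain ⟨⟨v, t⟩, rfl⟩ := P.surjective x
    rw [hφ0, o9ahat_mat_apply, hP, hP, o9ahat_quad a b h2, o9ahat_quad a b h2,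
      iso_pres (Cfsg.quadFormMinus 3 F a b) g v]
  let φ : ↥(Cfsg.isometryGroup F (Cfsg.quadFormMinus 3 F a b)) →* ↥(Cfsg.isometryGroup F (Cfsg.quadFormOdd 4 F)) :=
    (φ0.comp (Cfsg.isometryGroup F (Cfsg.quadFormMinus 3 F a b)).subtype).codRestrict
      (Cfsg.isometryGroup F (Cfsg.quadFormOdd 4 F)) hmem
  have hφ : ∀ g : ↥(Cfsg.isometryGroup F (Cfsg.quadFormMinus 3 F a b)),
      ((φ g : GL OI9 F) : Matrix OI9 OI9 F) = o9ahat_mat P ((g : GL MI8 F) : Matrix MI8 MI8 F) := by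
    intro g
    rfl
  have h1 : ∀ (g : ↥(Cfsg.isometryGroup F (Cfsg.quadFormMinus 3 F a b))) (v : MI8 → F),
        ((φ g : GL OI9 F) : Matrix OI9 OI9 F) *ᵥ emb8 a b v = emb8 a b (((g : GL MI8 F) : Matrix MI8 MI8 F) *ᵥ v) := by
    intro g v
    rw [hφ, hemb, o9ahat_mat_apply, hemb]
  refine ⟨φ, ?_, h1, ?_⟩
  · intro g g' h
    apply iso_ext'
    apply Matrix.toLin'.injective
    apply LinearMap.ext
    intro v
    rw [Matrix.toLin'_apply, Matrix.toLin'_apply]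
    apply hembinj
    rw [← h1, ← h1, h]
  · intro g
    rw [hφ, hw, o9ahat_mat_apply, Matrix.mulVec_zero]

/-- HAT -/
theorem hat_ex {F : Type*} [Field F] (h2 : (2 : F) ≠ 0) (a b : F) (hd : dl a b ≠ 0) :
    ∃ φ : ↥(Cfsg.isometryGroup F (Cfsg.quadFormMinus 3 F a b)) →* ↥(Cfsg.isometryGroup F (Cfsg.quadFormOdd 4 F)),
      Function.Injective φ ∧
      (∀ (g : ↥(Cfsg.isometryGroup F (Cfsg.quadFormMinus 3 F a b))) (v : MI8 → F),
        ((φ g : GL OI9 F) : Matrix OI9 OI9 F) *ᵥ emb8 a b v = emb8 a b (((g : GL MI8 F) : Matrix MI8 MI8 F) *ᵥ v)) ∧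
      (∀ g : ↥(Cfsg.isometryGroup F (Cfsg.quadFormMinus 3 F a b)),
        ((φ g : GL OI9 F) : Matrix OI9 OI9 F) *ᵥ w9 a b = w9 a b) := by
  obtain ⟨P, hP⟩ := emb8_equiv h2 a b hd
  exact o9ahat_core h2 a b P hP

end Cfsg.Agent.Lib.helper3.O9A
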