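import Mathlib
import Cfsg.Prelude.Def_Classical
import Cfsg.Agent.Lib.helper3.O9A.Defs

set_option autoImplicit false

/-!
# Project O9A, row HATOM (helper6): a homomorphism maps the commutator subgroup into the commutator subgroup.
-/

namespace Cfsg.Agent.Lib.helper3.O9A

/-- HATOM -/
theorem hom_commutator {G H : Type*} [Group G] [Group H] (φ : G →* H) (g : G) (hg : g ∈ commutator G) :
    φ g ∈ commutator H := by
  have h1 : (commutator G).map φ ≤ commutator H := by
    rw [commutator_def, Subgroup.map_commutator, commutator_def]
    exact Subgroup.commutator_mono le_top le_top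
  exact h1 (Subgroup.mem_map_of_mem φ hg)

end Cfsg.Agent.Lib.helper3.O9A
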