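import Mathlib
import Cfsg.Agent.Lib.helper3.S77.Defs

set_option autoImplicit false

/-! Project S77, piece GQ1: in an abstract strongly regular graph with parameters `(15,6,1,3)` two
distinct non-adjacent vertices lie in exactly one coclique of size 5 ("ovoid"). -/

namespace Cfsg.Agent.Lib.helper6.S77

open Cfsg.Agent.Lib.helper3.S77 Finset

section fin

variable {C : Type*} [Fintype C] [DecidableEq C] (T : C → C → Prop) [DecidableRel T]

/-- neighbourhood of a vertex, as a finset -/
def nb (v : C) : Finset C := univ.filter (fun x => T v x)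

omit [DecidableEq C] in
theorem mem_nb {T : C → C → Prop} [DecidableRel T] {v x : C} : x ∈ nb T v ↔ T v x := by
  simp [nb]

/-- finset form of `IsGQ` -/
structure FGQ : Prop where
  card : Fintype.card C = 15
  symm : ∀ c d, T c d → T d c
  irrefl : ∀ c, ¬T c c
  deg : ∀ c, (nb T c).card = 6
  lam : ∀ c d, T c d → (nb T c ∩ nb T d).card = 1
  mu : ∀ c d, c ≠ d → ¬T c d → (nb T c ∩ nb T d).card = 3

theorem fgq_of_isGQ (hT : IsGQ T) : FGQ T := by
  have key : ∀ (P : C → Prop) [DecidablePred P], {e | P e}.ncard = (univ.filter P).card := by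
    intro P _
    have : {e | P e} = ((univ.filter P : Finset C) : Set C) := by
      ext x
      simp
    rw [this, Set.ncard_coe_finset]
  refine ⟨?_, hT.symm, hT.irrefl, fun c => ?_, fun c d h => ?_, fun c d h1 h2 => ?_⟩
  · rw [← Nat.card_eq_fintype_card]
    exact hT.card
  · have := hT.deg c
    rw [key] at this
    exact this
  · have := hT.lam c d h
    rw [key] at this
    rw [← this]
    congr 1
    ext x
    simp [nb]
  · have := hT.mu c d h1 h2
    rw [key] at this
    rw [← this]
    congr 1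
    ext x
    simp [nb]

variable {T}

/-- the vertices different from `c`, `d` and adjacent to neither -/
def rest (T : C → C → Prop) [DecidableRel T] (c d : C) : Finset C :=
  univ.filter (fun x => x ≠ c ∧ x ≠ d ∧ ¬T c x ∧ ¬T d x)

theorem mem_rest {c d x : C} : x ∈ rest T c d ↔ x ≠ c ∧ x ≠ d ∧ ¬T c x ∧ ¬T d x := by
  simp [rest]

/-- every finset splits along `{c,d}`, `N(c) ∪ N(d)` and the rest -/
theorem card_split (h : FGQ T) {c d : C} (hn : ¬T c d) (S : Finset C) :
    S.card = (S ∩ {c, d}).card + (S ∩ (nb T c ∪ nb T d)).card + (S ∩ rest T c d).card := by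
  have hnd : ¬T d c := fun h' => hn (h.symm _ _ h')
  have h1 : S = (S ∩ {c, d}) ∪ (S ∩ (nb T c ∪ nb T d)) ∪ (S ∩ rest T c d) := by
    ext x
    simp only [mem_union, mem_inter, mem_insert, mem_singleton, mem_nb, mem_rest]
    constructor
    · intro hx
      by_cases hc : x = c
      · exact Or.inl (Or.inl ⟨hx, Or.inl hc⟩)
      by_cases hd : x = d
      · exact Or.inl (Or.inl ⟨hx, Or.inr hd⟩)
      by_cases h3 : T c x
      · exact Or.inl (Or.inr ⟨hx, Or.inl h3⟩)
      by_cases h4 : T d x
      · exact Or.inl (Or.inr ⟨hx, Or.inr h4⟩)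
      exact Or.inr ⟨hx, hc, hd, h3, h4⟩
    · rintro ((⟨hx, _⟩ | ⟨hx, _⟩) | ⟨hx, _⟩) <;> exact hx
  have d1 : Disjoint (S ∩ {c, d}) (S ∩ (nb T c ∪ nb T d)) := by
    rw [Finset.disjoint_left]
    intro x hx hx'
    simp only [mem_union, mem_inter, mem_insert, mem_singleton, mem_nb] at hx hx'
    rcases hx.2 with rfl | rfl
    · rcases hx'.2 with h' | h'
      · exact h.irrefl _ h'
      · exact hnd h'
    · rcases hx'.2 with h' | h'
      · exact hn h'
      · exact h.irrefl _ h'
  have d2 : Disjoint ((S ∩ {c, d}) ∪ (S ∩ (nb T c ∪ nb T d))) (S ∩ rest T c d) := by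
    rw [Finset.disjoint_left]
    intro x hx hx'
    simp only [mem_union, mem_inter, mem_insert, mem_singleton, mem_nb, mem_rest] at hx hx'
    obtain ⟨_, hc, hd, h3, h4⟩ := hx'
    rcases hx with ⟨_, rfl | rfl⟩ | ⟨_, h' | h'⟩
    · exact hc rfl
    · exact hd rfl
    · exact h3 h'
    · exact h4 h'
  conv_lhs => rw [h1]
  rw [Finset.card_union_of_disjoint d2, Finset.card_union_of_disjoint d1]

/-- inclusion–exclusion for the middle part -/
theorem card_mid (c d : C) (S : Finset C) :
    (S ∩ (nb T c ∪ nb T d)).card + (S ∩ (nb T c ∩ nb T d)).card =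
      (S ∩ nb T c).card + (S ∩ nb T d).card := by
  have h1 : S ∩ (nb T c ∪ nb T d) = (S ∩ nb T c) ∪ (S ∩ nb T d) := Finset.inter_union_distrib_left _ _ _
  have h2 : S ∩ (nb T c ∩ nb T d) = (S ∩ nb T c) ∩ (S ∩ nb T d) := by
    ext x
    simp only [mem_inter]
    tauto
  rw [h1, h2, Finset.card_union_add_card_inter]


section main

variable (h : FGQ T) {c d : C} (hcd : c ≠ d) (hn : ¬T c d)

include h hcd hn

theorem card_rest : (rest T c d).card = 4 := by
  have h0 := card_split h hn (univ : Finset C)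
  have h1 := card_mid (T := T) c d (univ : Finset C)
  simp only [Finset.univ_inter] at h0 h1
  rw [Finset.card_univ, h.card, Finset.card_pair hcd] at h0
  rw [h.mu c d hcd hn, h.deg, h.deg] at h1
  omega

theorem rest_ne_left {x : C} (hx : x ∈ rest T c d) : x ≠ c := (mem_rest.mp hx).1
theorem rest_ne_right {x : C} (hx : x ∈ rest T c d) : x ≠ d := (mem_rest.mp hx).2.1
theorem rest_not_left {x : C} (hx : x ∈ rest T c d) : ¬T c x := (mem_rest.mp hx).2.2.1
theorem rest_not_right {x : C} (hx : x ∈ rest T c d) : ¬T d x := (mem_rest.mp hx).2.2.2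

/-- a vertex of the rest has as many neighbours in the rest as among the common neighbours -/
theorem deg_rest {r : C} (hr : r ∈ rest T c d) :
    (nb T r ∩ rest T c d).card = (nb T r ∩ (nb T c ∩ nb T d)).card := by
  obtain ⟨hrc, hrd, hcr, hdr⟩ := mem_rest.mp hr
  have h0 := card_split h hn (nb T r)
  have h1 := card_mid (T := T) c d (nb T r)
  have h2 : nb T r ∩ {c, d} = ∅ := by
    ext x
    simp only [mem_inter, mem_insert, mem_singleton, mem_nb, Finset.notMem_empty, iff_false,
      not_and]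
    rintro hx (rfl | rfl)
    · exact hcr (h.symm _ _ hx)
    · exact hdr (h.symm _ _ hx)
  rw [h2, Finset.card_empty, h.deg] at h0
  rw [h.mu r c hrc (fun h' => hcr (h.symm _ _ h')), h.mu r d hrd (fun h' => hdr (h.symm _ _ h'))] at h1
  omega

/-- the common neighbours form a coclique -/
theorem common_coc {s s' : C} (hs : s ∈ nb T c ∩ nb T d) (hs' : s' ∈ nb T c ∩ nb T d) :
    ¬T s s' := by
  intro hss
  have h1 := h.lam s s' hss
  have hc : c ∈ nb T s ∩ nb T s' := by
    simp only [mem_inter, mem_nb] at hs hs' ⊢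
    exact ⟨h.symm _ _ hs.1, h.symm _ _ hs'.1⟩
  have hd : d ∈ nb T s ∩ nb T s' := by
    simp only [mem_inter, mem_nb] at hs hs' ⊢
    exact ⟨h.symm _ _ hs.2, h.symm _ _ hs'.2⟩
  exact hcd (Finset.card_le_one.mp h1.le c hc d hd)

/-- the neighbours of a common neighbour inside `N(c) ∪ N(d)`: two of them -/
theorem card_mid_common {s : C} (hs : s ∈ nb T c ∩ nb T d) :
    (nb T s ∩ (nb T c ∪ nb T d)).card = 2 := by
  have hs0 := hs
  simp only [mem_inter, mem_nb] at hs0
  have h1 := card_mid (T := T) c d (nb T s)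
  have h2 : nb T s ∩ (nb T c ∩ nb T d) = ∅ := by
    ext x
    simp only [Finset.notMem_empty, iff_false]
    intro hx
    rw [mem_inter] at hx
    exact common_coc h hcd hn hs hx.2 (mem_nb.mp hx.1)
  rw [h2, Finset.card_empty, h.lam s c (h.symm _ _ hs0.1), h.lam s d (h.symm _ _ hs0.2)] at h1
  omega

/-- a common neighbour has exactly two neighbours in the rest -/
theorem card_edge {s : C} (hs : s ∈ nb T c ∩ nb T d) : (nb T s ∩ rest T c d).card = 2 := by
  have hs0 := hs
  simp only [mem_inter, mem_nb] at hs0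
  have h0 := card_split h hn (nb T s)
  have h2 : nb T s ∩ {c, d} = {c, d} := by
    rw [Finset.inter_eq_right]
    intro x hx
    simp only [mem_insert, mem_singleton] at hx
    rcases hx with rfl | rfl
    · exact mem_nb.mpr (h.symm _ _ hs0.1)
    · exact mem_nb.mpr (h.symm _ _ hs0.2)
  rw [h2, Finset.card_pair hcd, card_mid_common h hcd hn hs, h.deg] at h0
  omega

/-- the two neighbours in the rest of a common neighbour are adjacent -/
theorem edge_adj {s r : C} (hs : s ∈ nb T c ∩ nb T d) (hr : r ∈ nb T s ∩ rest T c d) :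
    ∃ r' ∈ nb T s ∩ rest T c d, T r r' := by
  have hs0 := hs
  simp only [mem_inter, mem_nb] at hs0
  obtain ⟨hsr, hrR⟩ := mem_inter.mp hr
  rw [mem_nb] at hsr
  obtain ⟨hrc, hrd, hcr, hdr⟩ := mem_rest.mp hrR
  have h1 := h.lam s r hsr
  obtain ⟨z, hz⟩ := Finset.card_pos.mp (by omega : 0 < (nb T s ∩ nb T r).card)
  obtain ⟨hsz, hrz⟩ := mem_inter.mp hz
  rw [mem_nb] at hsz hrz
  refine ⟨z, mem_inter.mpr ⟨mem_nb.mpr hsz, mem_rest.mpr ⟨?_, ?_, ?_, ?_⟩⟩, hrz⟩
  · rintro rfl
    exact hcr (h.symm _ _ hrz)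
  · rintro rfl
    exact hdr (h.symm _ _ hrz)
  · intro hcz
    -- then c and r are two common neighbours of s and z
    have h2 := h.lam s z hsz
    have hc' : c ∈ nb T s ∩ nb T z :=
      mem_inter.mpr ⟨mem_nb.mpr (h.symm _ _ hs0.1), mem_nb.mpr (h.symm _ _ hcz)⟩
    have hr' : r ∈ nb T s ∩ nb T z :=
      mem_inter.mpr ⟨mem_nb.mpr hsr, mem_nb.mpr (h.symm _ _ hrz)⟩
    exact hrc (Finset.card_le_one.mp h2.le r hr' c hc')
  · intro hdz
    have h2 := h.lam s z hsz
    have hd' : d ∈ nb T s ∩ nb T z :=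
      mem_inter.mpr ⟨mem_nb.mpr (h.symm _ _ hs0.2), mem_nb.mpr (h.symm _ _ hdz)⟩
    have hr' : r ∈ nb T s ∩ nb T z :=
      mem_inter.mpr ⟨mem_nb.mpr hsr, mem_nb.mpr (h.symm _ _ hrz)⟩
    exact hrd (Finset.card_le_one.mp h2.le r hr' d hd')

/-- distinct vertices of an edge `N(s) ∩ rest` are adjacent -/
theorem edge_adj' {s r r' : C} (hs : s ∈ nb T c ∩ nb T d) (hr : r ∈ nb T s ∩ rest T c d)
    (hr' : r' ∈ nb T s ∩ rest T c d) (hne : r ≠ r') : T r r' := by
  obtain ⟨z, hz, hrz⟩ := edge_adj h hcd hn hs hr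
  have hzr : z ≠ r := by
    rintro rfl
    exact h.irrefl _ hrz
  -- the edge has only two elements
  have h2 := card_edge h hcd hn hs
  by_contra hcon
  have hzr' : z ≠ r' := by
    rintro rfl
    exact hcon hrz
  have h3 : ({r, r', z} : Finset C) ⊆ nb T s ∩ rest T c d := by
    intro x hx
    simp only [mem_insert, mem_singleton] at hx
    rcases hx with rfl | rfl | rfl
    · exact hr
    · exact hr'
    · exact hz
  have h4 := Finset.card_le_card h3
  rw [Finset.card_insert_of_notMem (by simp [hne, hzr.symm]), Finset.card_pair hzr'.symm] at h4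
  omega

/-- a vertex of the rest not adjacent to the common neighbour `s`: it is adjacent to exactly one end
of the edge of `s`, and to both neighbours of `s` in `N(c) ∪ N(d)` -/
theorem off_edge {s p : C} (hs : s ∈ nb T c ∩ nb T d) (hp : p ∈ rest T c d) (hsp : ¬T s p) :
    (nb T p ∩ (nb T s ∩ rest T c d)).card = 1 ∧ nb T s ∩ (nb T c ∪ nb T d) ⊆ nb T p := by
  have hs0 := hs
  simp only [mem_inter, mem_nb] at hs0
  obtain ⟨hpc, hpd, hcp, hdp⟩ := mem_rest.mp hp
  have hps : p ≠ s := by
    rintro rfl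
    exact hcp hs0.1
  have h1 := h.mu p s hps (fun h' => hsp (h.symm _ _ h'))
  have h0 := card_split h hn (nb T p ∩ nb T s)
  have h2 : nb T p ∩ nb T s ∩ {c, d} = ∅ := by
    ext x
    simp only [mem_inter, mem_insert, mem_singleton, mem_nb, Finset.notMem_empty, iff_false,
      not_and]
    rintro ⟨hx, _⟩ (rfl | rfl)
    · exact hcp (h.symm _ _ hx)
    · exact hdp (h.symm _ _ hx)
  rw [h2, Finset.card_empty, h1] at h0
  have h3 : nb T p ∩ nb T s ∩ (nb T c ∪ nb T d) ⊆ nb T s ∩ (nb T c ∪ nb T d) := by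
    intro x hx
    simp only [mem_inter] at hx ⊢
    exact ⟨hx.1.2, hx.2⟩
  have h4 := Finset.card_le_card h3
  rw [card_mid_common h hcd hn hs] at h4
  have h5 : nb T p ∩ nb T s ∩ rest T c d = nb T p ∩ (nb T s ∩ rest T c d) := Finset.inter_assoc _ _ _
  rw [h5] at h0
  -- at most one
  have h6 : (nb T p ∩ (nb T s ∩ rest T c d)).card ≤ 1 := by
    rw [Finset.card_le_one]
    intro r hr r' hr'
    by_contra hne
    obtain ⟨hpr, hrE⟩ := mem_inter.mp hr
    obtain ⟨hpr', hrE'⟩ := mem_inter.mp hr'
    rw [mem_nb] at hpr hpr'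
    have hadj := edge_adj' h hcd hn hs hrE hrE' hne
    have h7 := h.lam r r' hadj
    have hs' : s ∈ nb T r ∩ nb T r' :=
      mem_inter.mpr ⟨mem_nb.mpr (h.symm _ _ (mem_nb.mp (mem_inter.mp hrE).1)),
        mem_nb.mpr (h.symm _ _ (mem_nb.mp (mem_inter.mp hrE').1))⟩
    have hp' : p ∈ nb T r ∩ nb T r' :=
      mem_inter.mpr ⟨mem_nb.mpr (h.symm _ _ hpr), mem_nb.mpr (h.symm _ _ hpr')⟩
    exact hps (Finset.card_le_one.mp h7.le p hp' s hs')
  refine ⟨by omega, ?_⟩
  have h8 : nb T p ∩ nb T s ∩ (nb T c ∪ nb T d) = nb T s ∩ (nb T c ∪ nb T d) :=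
    Finset.eq_of_subset_of_card_le h3 (by rw [card_mid_common h hcd hn hs]; omega)
  intro x hx
  rw [← h8] at hx
  exact (mem_inter.mp (mem_inter.mp hx).1).1


/-- the key step: the two vertices off an edge are joined to the same end of it -/
theorem same_centre {s r r' p p' : C} (hs : s ∈ nb T c ∩ nb T d)
    (hE : nb T s ∩ rest T c d = {r, r'}) (hrr : r ≠ r')
    (hR : rest T c d = {r, r', p, p'}) (hpp : p ≠ p') (hpr : p ≠ r) (hpr' : p ≠ r')
    (hp'r : p' ≠ r) (hp'r' : p' ≠ r') (hadj : T p r) :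
    T p' r ∧ ¬T p r' ∧ ¬T p' r' ∧ ¬T p p' := by
  have hpR : p ∈ rest T c d := by rw [hR]; simp
  have hp'R : p' ∈ rest T c d := by rw [hR]; simp
  have hrR : r ∈ rest T c d := by rw [hR]; simp
  have hsp : ¬T s p := by
    intro h'
    have : p ∈ nb T s ∩ rest T c d := mem_inter.mpr ⟨mem_nb.mpr h', hpR⟩
    rw [hE] at this
    simp only [mem_insert, mem_singleton] at this
    rcases this with h'' | h''
    · exact hpr h''
    · exact hpr' h''
  have hsp' : ¬T s p' := by
    intro h'
    have : p' ∈ nb T s ∩ rest T c d := mem_inter.mpr ⟨mem_nb.mpr h', hp'R⟩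
    rw [hE] at this
    simp only [mem_insert, mem_singleton] at this
    rcases this with h'' | h''
    · exact hp'r h''
    · exact hp'r' h''
  obtain ⟨h1, hF⟩ := off_edge h hcd hn hs hpR hsp
  obtain ⟨h1', hF'⟩ := off_edge h hcd hn hs hp'R hsp'
  rw [hE] at h1 h1'
  -- p is not adjacent to r'
  have hpr'n : ¬T p r' := by
    intro h'
    have ha : r ∈ nb T p ∩ {r, r'} := by simp [mem_nb, hadj]
    have hb : r' ∈ nb T p ∩ {r, r'} := by simp [mem_nb, h']
    exact hrr (Finset.card_le_one.mp h1.le r ha r' hb)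
  -- p and p' are not adjacent
  have hppn : ¬T p p' := by
    intro h'
    have h2 := h.lam p p' h'
    have h3 : nb T s ∩ (nb T c ∪ nb T d) ⊆ nb T p ∩ nb T p' := by
      intro x hx
      exact mem_inter.mpr ⟨hF hx, hF' hx⟩
    have h4 := Finset.card_le_card h3
    rw [card_mid_common h hcd hn hs] at h4
    omega
  -- the neighbour of p' on the edge
  obtain ⟨q, hq⟩ := Finset.card_pos.mp (by omega : 0 < (nb T p' ∩ {r, r'}).card)
  have hq' := hq
  simp only [mem_inter, mem_insert, mem_singleton, mem_nb] at hq'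
  have hmain : T p' r := by
    by_contra hcon
    have hp'r'a : T p' r' := by
      rcases hq'.2 with rfl | rfl
      · exact absurd hq'.1 hcon
      · exact hq'.1
    -- p has exactly one neighbour in the rest
    have h5 : nb T p ∩ rest T c d = {r} := by
      ext x
      rw [hR]
      simp only [mem_inter, mem_insert, mem_singleton, mem_nb]
      constructor
      · rintro ⟨hx, rfl | rfl | rfl | rfl⟩
        · rfl
        · exact absurd hx hpr'n
        · exact absurd hx (h.irrefl _)
        · exact absurd hx hppn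
      · rintro rfl
        exact ⟨hadj, Or.inl rfl⟩
    have h6 := deg_rest h hcd hn hpR
    rw [h5, Finset.card_singleton] at h6
    obtain ⟨s', hs'⟩ := Finset.card_pos.mp (by omega : 0 < (nb T p ∩ (nb T c ∩ nb T d)).card)
    obtain ⟨hps', hs'A⟩ := mem_inter.mp hs'
    rw [mem_nb] at hps'
    have hpE' : p ∈ nb T s' ∩ rest T c d := mem_inter.mpr ⟨mem_nb.mpr (h.symm _ _ hps'), hpR⟩
    obtain ⟨q', hq'E, hpq'⟩ := edge_adj h hcd hn hs'A hpE'
    have hq'r : q' = r := by
      have : q' ∈ nb T p ∩ rest T c d := mem_inter.mpr ⟨mem_nb.mpr hpq', (mem_inter.mp hq'E).2⟩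
      rw [h5] at this
      exact Finset.mem_singleton.mp this
    subst hq'r
    -- the edge of s' is {p, q'}
    have h7 := card_edge h hcd hn hs'A
    have hs'p' : ¬T s' p' := by
      intro h'
      have hp'E' : p' ∈ nb T s' ∩ rest T c d := mem_inter.mpr ⟨mem_nb.mpr h', hp'R⟩
      have h8 : ({p, q', p'} : Finset C) ⊆ nb T s' ∩ rest T c d := by
        intro x hx
        simp only [mem_insert, mem_singleton] at hx
        rcases hx with rfl | rfl | rfl
        · exact hpE'
        · exact hq'E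
        · exact hp'E'
      have h9 := Finset.card_le_card h8
      rw [Finset.card_insert_of_notMem (by simp [hpr, hpp]), Finset.card_pair hp'r.symm] at h9
      omega
    obtain ⟨h10, -⟩ := off_edge h hcd hn hs'A hp'R hs'p'
    obtain ⟨y, hy⟩ := Finset.card_pos.mp (by omega : 0 < (nb T p' ∩ (nb T s' ∩ rest T c d)).card)
    obtain ⟨hp'y, hyE⟩ := mem_inter.mp hy
    rw [mem_nb] at hp'y
    have h11 : nb T s' ∩ rest T c d = {p, q'} := by
      symm
      apply Finset.eq_of_subset_of_card_le
      · intro x hx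
        simp only [mem_insert, mem_singleton] at hx
        rcases hx with rfl | rfl
        · exact hpE'
        · exact hq'E
      · rw [h7, Finset.card_pair hpr]
    rw [h11] at hyE
    simp only [mem_insert, mem_singleton] at hyE
    rcases hyE with rfl | rfl
    · exact hppn (h.symm _ _ hp'y)
    · exact hcon hp'y
  refine ⟨hmain, hpr'n, ?_, hppn⟩
  intro h'
  have ha : r ∈ nb T p' ∩ {r, r'} := by simp [mem_nb, hmain]
  have hb : r' ∈ nb T p' ∩ {r, r'} := by simp [mem_nb, h']
  exact hrr (Finset.card_le_one.mp h1'.le r ha r' hb)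

/-- the conclusion, once the centre `r` of the star is known -/
theorem ovoid_of_centre {s r r' p p' : C} (hs : s ∈ nb T c ∩ nb T d)
    (hE : nb T s ∩ rest T c d = {r, r'}) (hrr : r ≠ r')
    (hR : rest T c d = {r, r', p, p'}) (hpp : p ≠ p') (hpr : p ≠ r) (hpr' : p ≠ r')
    (hp'r : p' ≠ r) (hp'r' : p' ≠ r') (hadj : T p r) :
    ∃! O : Finset C, IsOv T O ∧ c ∈ O ∧ d ∈ O := by
  obtain ⟨hp'ra, hpr'n, hp'r'n, hppn⟩ :=
    same_centre h hcd hn hs hE hrr hR hpp hpr hpr' hp'r hp'r' hadj
  have hpR : p ∈ rest T c d := by rw [hR]; simp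
  have hp'R : p' ∈ rest T c d := by rw [hR]; simp
  have hrR : r ∈ rest T c d := by rw [hR]; simp
  have hr'R : r' ∈ rest T c d := by rw [hR]; simp
  have hrr'a : T r r' := by
    apply edge_adj' h hcd hn hs _ _ hrr
    · rw [hE]; simp
    · rw [hE]; simp
  have hnd : ¬T d c := fun h' => hn (h.symm _ _ h')
  have sy : ∀ {a b : C}, ¬T a b → ¬T b a := fun hab hba => hab (h.symm _ _ hba)
  refine ⟨{c, d, r', p, p'}, ⟨⟨?_, ?_⟩, by simp, by simp⟩, ?_⟩
  · rw [Finset.card_insert_of_notMem, Finset.card_insert_of_notMem, Finset.card_insert_of_notMem,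
      Finset.card_pair hpp]
    · simp [hpr'.symm, hp'r'.symm]
    · simp only [mem_insert, mem_singleton, not_or]
      exact ⟨(rest_ne_right h hcd hn hr'R).symm, (rest_ne_right h hcd hn hpR).symm,
        (rest_ne_right h hcd hn hp'R).symm⟩
    · simp only [mem_insert, mem_singleton, not_or]
      exact ⟨hcd, (rest_ne_left h hcd hn hr'R).symm, (rest_ne_left h hcd hn hpR).symm,
        (rest_ne_left h hcd hn hp'R).symm⟩
  · have c1 := rest_not_left h hcd hn hr'R
    have c2 := rest_not_left h hcd hn hpR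
    have c3 := rest_not_left h hcd hn hp'R
    have d1 := rest_not_right h hcd hn hr'R
    have d2 := rest_not_right h hcd hn hpR
    have d3 := rest_not_right h hcd hn hp'R
    intro a ha b hb
    simp only [mem_insert, mem_singleton] at ha hb
    rcases ha with rfl | rfl | rfl | rfl | rfl <;> rcases hb with rfl | rfl | rfl | rfl | rfl <;>
      first
        | exact h.irrefl _
        | assumption
        | exact sy (by assumption)
  · rintro O' ⟨⟨hcard, hcoc⟩, hcO, hdO⟩
    have hmem : ∀ y ∈ O', y = c ∨ y = d ∨ y ∈ rest T c d := by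
      intro y hy
      by_cases h1 : y = c
      · exact Or.inl h1
      by_cases h2 : y = d
      · exact Or.inr (Or.inl h2)
      exact Or.inr (Or.inr (mem_rest.mpr ⟨h1, h2, hcoc c hcO y hy, hcoc d hdO y hy⟩))
    have hrO : r ∉ O' := by
      intro hr
      have hsub : O' ⊆ {c, d, r} := by
        intro y hy
        simp only [mem_insert, mem_singleton]
        rcases hmem y hy with rfl | rfl | hyR
        · exact Or.inl rfl
        · exact Or.inr (Or.inl rfl)
        · rw [hR] at hyR
          simp only [mem_insert, mem_singleton] at hyR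
          rcases hyR with rfl | rfl | rfl | rfl
          · exact Or.inr (Or.inr rfl)
          · exact absurd hrr'a (hcoc _ hr _ hy)
          · exact absurd hadj (hcoc _ hy _ hr)
          · exact absurd hp'ra (hcoc _ hy _ hr)
      have := Finset.card_le_card hsub
      have h3 : ({c, d, r} : Finset C).card ≤ 3 := Finset.card_le_three
      omega
    have hsub : O' ⊆ {c, d, r', p, p'} := by
      intro y hy
      simp only [mem_insert, mem_singleton]
      rcases hmem y hy with rfl | rfl | hyR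
      · exact Or.inl rfl
      · exact Or.inr (Or.inl rfl)
      · rw [hR] at hyR
        simp only [mem_insert, mem_singleton] at hyR
        rcases hyR with rfl | rfl | rfl | rfl
        · exact absurd hy hrO
        · exact Or.inr (Or.inr (Or.inl rfl))
        · exact Or.inr (Or.inr (Or.inr (Or.inl rfl)))
        · exact Or.inr (Or.inr (Or.inr (Or.inr rfl)))
    apply Finset.eq_of_subset_of_card_le hsub
    rw [hcard]
    exact Finset.card_le_five

/-- GQ1, finset form -/
theorem gq_unique_ovoid_fin : ∃! O : Finset C, IsOv T O ∧ c ∈ O ∧ d ∈ O := by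
  have hA := h.mu c d hcd hn
  obtain ⟨s, hs⟩ := Finset.card_pos.mp (by omega : 0 < (nb T c ∩ nb T d).card)
  have hE2 := card_edge h hcd hn hs
  obtain ⟨r, r', hrr, hE⟩ := Finset.card_eq_two.mp hE2
  have hsub : nb T s ∩ rest T c d ⊆ rest T c d := Finset.inter_subset_right
  have h4 := card_rest h hcd hn
  have hD2 : (rest T c d \ (nb T s ∩ rest T c d)).card = 2 := by
    rw [Finset.card_sdiff_of_subset hsub, h4, hE2]
  obtain ⟨p, p', hpp, hD⟩ := Finset.card_eq_two.mp hD2
  have hR : rest T c d = {r, r', p, p'} := by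
    have : rest T c d = (nb T s ∩ rest T c d) ∪ (rest T c d \ (nb T s ∩ rest T c d)) := by
      rw [Finset.union_sdiff_of_subset hsub]
    rw [this, hD, hE]
    ext x
    simp only [mem_union, mem_insert, mem_singleton]
    tauto
  have hpD : p ∈ rest T c d \ (nb T s ∩ rest T c d) := by rw [hD]; simp
  have hp'D : p' ∈ rest T c d \ (nb T s ∩ rest T c d) := by rw [hD]; simp
  rw [hE] at hpD hp'D
  simp only [mem_sdiff, mem_insert, mem_singleton, not_or] at hpD hp'D
  obtain ⟨hpR, hpr, hpr'⟩ := hpD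
  obtain ⟨hp'R, hp'r, hp'r'⟩ := hp'D
  have hsp : ¬T s p := by
    intro h'
    have : p ∈ nb T s ∩ rest T c d := mem_inter.mpr ⟨mem_nb.mpr h', hpR⟩
    rw [hE] at this
    simp only [mem_insert, mem_singleton] at this
    rcases this with h'' | h''
    · exact hpr h''
    · exact hpr' h''
  obtain ⟨h1, -⟩ := off_edge h hcd hn hs hpR hsp
  obtain ⟨q, hq⟩ := Finset.card_pos.mp (by omega : 0 < (nb T p ∩ (nb T s ∩ rest T c d)).card)
  rw [hE] at hq
  simp only [mem_inter, mem_insert, mem_singleton, mem_nb] at hq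
  obtain ⟨hpq, rfl | rfl⟩ := hq
  · exact ovoid_of_centre h hcd hn hs hE hrr hR hpp hpr hpr' hp'r hp'r' hpq
  · have hE' : nb T s ∩ rest T c d = {q, r} := by rw [hE, Finset.pair_comm]
    have hR' : rest T c d = {q, r, p, p'} := by
      rw [hR]
      ext x
      simp only [mem_insert, mem_singleton]
      tauto
    exact ovoid_of_centre h hcd hn hs hE' hrr.symm hR' hpp hpr' hpr hp'r' hp'r hpq

end main

end fin

/-- GQ1: two distinct non-adjacent vertices lie in exactly one ovoid -/
theorem gq_unique_ovoid {C : Type*} (T : C → C → Prop) (hT : IsGQ T) {c d : C} (hcd : c ≠ d)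
    (hn : ¬T c d) : ∃! O : Finset C, IsOv T O ∧ c ∈ O ∧ d ∈ O := by
  classical
  haveI : Finite C := Nat.finite_of_card_ne_zero (by rw [hT.card]; norm_num)
  haveI := Fintype.ofFinite C
  exact gq_unique_ovoid_fin (fgq_of_isGQ T hT) hcd hn

end Cfsg.Agent.Lib.helper6.S77
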