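import Mathlib
import Cfsg.Agent.Lib.helper3.S77.Defs
import Cfsg.Agent.Lib.helper6.S77GQ1

set_option autoImplicit false

/-! Project S77, piece GQ2: an abstract strongly regular graph with parameters `(15,6,1,3)` has exactly
six ovoids (cocliques of size 5), two through each vertex. By double counting from GQ1. -/

namespace Cfsg.Agent.Lib.helper6.S77

open Cfsg.Agent.Lib.helper3.S77 Finset

section fin

variable {C : Type*} [Fintype C] [DecidableEq C] {T : C → C → Prop} [DecidableRel T]

/-- the non-neighbours of `a` other than `a` -/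
def far (T : C → C → Prop) [DecidableRel T] (a : C) : Finset C :=
  univ.filter (fun b => a ≠ b ∧ ¬T a b)

theorem card_far (h : FGQ T) (a : C) : (far T a).card = 8 := by
  have h1 : far T a = univ \ insert a (nb T a) := by
    ext b
    simp only [far, mem_filter, mem_univ, true_and, mem_sdiff, mem_insert, mem_nb, not_or]
    constructor
    · rintro ⟨h1, h2⟩
      exact ⟨fun h' => h1 h'.symm, h2⟩
    · rintro ⟨h1, h2⟩
      exact ⟨fun h' => h1 h'.symm, h2⟩
  have h2 : a ∉ nb T a := fun h' => h.irrefl a (mem_nb.mp h')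
  rw [h1, Finset.card_sdiff_of_subset (Finset.subset_univ _), Finset.card_univ, h.card,
    Finset.card_insert_of_notMem h2, h.deg]

variable [DecidablePred (IsOv T)]

/-- the ovoids through two distinct non-adjacent vertices: exactly one -/
theorem card_ov_two (hT : IsGQ T) {a b : C} (hab : a ≠ b) (hn : ¬T a b) :
    ((univ.filter (IsOv T)).filter (fun O => a ∈ O ∧ b ∈ O)).card = 1 := by
  obtain ⟨O, hO, huniq⟩ := gq_unique_ovoid T hT hab hn
  rw [Finset.card_eq_one]
  refine ⟨O, ?_⟩
  ext O'
  simp only [mem_filter, mem_univ, true_and, mem_singleton]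
  constructor
  · rintro ⟨h1, h2⟩
    exact huniq O' ⟨h1, h2⟩
  · rintro rfl
    exact hO

theorem card_ovoids (hT : IsGQ T) : (univ.filter (IsOv T)).card = 6 := by
  have h := fgq_of_isGQ T hT
  -- the ordered pairs of distinct non-adjacent vertices
  set P : Finset (C × C) := univ.filter (fun ab => ab.1 ≠ ab.2 ∧ ¬T ab.1 ab.2) with hP
  have hPcard : P.card = 120 := by
    have h1 : (univ.sigma (fun a => far T a)).card = P.card := by
      apply Finset.card_bij (fun x _ => (x.1, x.2))
      · rintro ⟨a, b⟩ hx
        simp only [mem_sigma, mem_univ, true_and, far, mem_filter] at hx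
        simp only [hP, mem_filter, mem_univ, true_and]
        exact hx
      · rintro ⟨a, b⟩ _ ⟨a', b'⟩ _ hxy
        simp only [Prod.mk.injEq] at hxy
        obtain ⟨rfl, rfl⟩ := hxy
        rfl
      · rintro ⟨a, b⟩ hab
        simp only [hP, mem_filter, mem_univ, true_and] at hab
        refine ⟨⟨a, b⟩, ?_, rfl⟩
        simp only [mem_sigma, mem_univ, true_and, far, mem_filter]
        exact hab
    rw [← h1, Finset.card_sigma]
    simp only [card_far h, Finset.sum_const, Finset.card_univ, h.card, smul_eq_mul]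
  have key := Finset.sum_card_bipartiteAbove_eq_sum_card_bipartiteBelow
    (s := univ.filter (IsOv T)) (t := P) (fun (O : Finset C) (ab : C × C) => ab.1 ∈ O ∧ ab.2 ∈ O)
  have hL : ∀ O ∈ univ.filter (IsOv T),
      (P.bipartiteAbove (fun (O : Finset C) (ab : C × C) => ab.1 ∈ O ∧ ab.2 ∈ O) O).card = 20 := by
    intro O hO
    have hO' : IsOv T O := (mem_filter.mp hO).2
    have h1 : P.bipartiteAbove (fun (O : Finset C) (ab : C × C) => ab.1 ∈ O ∧ ab.2 ∈ O) O
        = O.offDiag := by
      ext ⟨a, b⟩
      simp only [Finset.bipartiteAbove, hP, mem_filter, mem_univ, true_and, Finset.mem_offDiag]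
      constructor
      · rintro ⟨⟨h1, _⟩, h3, h4⟩
        exact ⟨h3, h4, h1⟩
      · rintro ⟨h3, h4, h1⟩
        exact ⟨⟨h1, hO'.2 a h3 b h4⟩, h3, h4⟩
    rw [h1, Finset.offDiag_card, hO'.1]
  have hRr : ∀ ab ∈ P,
      ((univ.filter (IsOv T)).bipartiteBelow
        (fun (O : Finset C) (ab : C × C) => ab.1 ∈ O ∧ ab.2 ∈ O) ab).card = 1 := by
    intro ab hab
    have hab' := (mem_filter.mp hab).2
    exact card_ov_two hT hab'.1 hab'.2
  rw [Finset.sum_congr rfl hL, Finset.sum_congr rfl hRr] at key
  simp only [Finset.sum_const, smul_eq_mul, hPcard] at key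
  omega

theorem card_ovoids_through (hT : IsGQ T) (c : C) :
    ((univ.filter (IsOv T)).filter (fun O => c ∈ O)).card = 2 := by
  have h := fgq_of_isGQ T hT
  have key := Finset.sum_card_bipartiteAbove_eq_sum_card_bipartiteBelow
    (s := (univ.filter (IsOv T)).filter (fun O => c ∈ O)) (t := far T c)
    (fun (O : Finset C) (b : C) => b ∈ O)
  have hL : ∀ O ∈ (univ.filter (IsOv T)).filter (fun O => c ∈ O),
      ((far T c).bipartiteAbove (fun (O : Finset C) (b : C) => b ∈ O) O).card = 4 := by
    intro O hO
    obtain ⟨hO1, hcO⟩ := mem_filter.mp hO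
    have hO' : IsOv T O := (mem_filter.mp hO1).2
    have h1 : (far T c).bipartiteAbove (fun (O : Finset C) (b : C) => b ∈ O) O = O.erase c := by
      ext b
      simp only [Finset.bipartiteAbove, far, mem_filter, mem_univ, true_and, Finset.mem_erase]
      constructor
      · rintro ⟨⟨h1, _⟩, h3⟩
        exact ⟨fun h' => h1 h'.symm, h3⟩
      · rintro ⟨h1, h3⟩
        exact ⟨⟨fun h' => h1 h'.symm, hO'.2 c hcO b h3⟩, h3⟩
    rw [h1, Finset.card_erase_of_mem hcO, hO'.1]
  have hRr : ∀ b ∈ far T c,
      (((univ.filter (IsOv T)).filter (fun O => c ∈ O)).bipartiteBelow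
        (fun (O : Finset C) (b : C) => b ∈ O) b).card = 1 := by
    intro b hb
    have hb' := (mem_filter.mp hb).2
    have := card_ov_two hT hb'.1 hb'.2
    rw [← this]
    congr 1
    ext O
    simp only [Finset.bipartiteBelow, mem_filter, mem_univ, true_and]
    tauto
  rw [Finset.sum_congr rfl hL, Finset.sum_congr rfl hRr] at key
  simp only [Finset.sum_const, smul_eq_mul, card_far h] at key
  omega

end fin

/-- GQ2 (from GQ1 by counting) -/
theorem gq_ovoids {C : Type*} (T : C → C → Prop) (hT : IsGQ T) :
    {O : Finset C | IsOv T O}.ncard = 6 ∧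
      ∀ c, {O : Finset C | IsOv T O ∧ c ∈ O}.ncard = 2 := by
  classical
  haveI : Finite C := Nat.finite_of_card_ne_zero (by rw [hT.card]; norm_num)
  haveI := Fintype.ofFinite C
  constructor
  · have : {O : Finset C | IsOv T O} = ((univ.filter (IsOv T) : Finset (Finset C)) : Set (Finset C)) := by
      ext O
      simp
    rw [this, Set.ncard_coe_finset]
    exact card_ovoids hT
  · intro c
    have : {O : Finset C | IsOv T O ∧ c ∈ O} =
        (((univ.filter (IsOv T)).filter (fun O => c ∈ O) : Finset (Finset C)) : Set (Finset C)) := by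
      ext O
      simp
    rw [this, Set.ncard_coe_finset]
    exact card_ovoids_through hT c

end Cfsg.Agent.Lib.helper6.S77
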