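import Mathlib
import Cfsg.Agent.Lib.helper8.SylowBasic
import Cfsg.Agent.Lib.helper8.SylowConj
import Cfsg.Agent.Lib.helper8.Parity
import Cfsg.Agent.Lib.helper23.OrdGen3
import Cfsg.Agent.Lib.helper3.S496Chk
import Cfsg.Agent.S1018

/-!
# Project S983, row N3960: no simple group of order 3960 = 2^3 3^2 5 11   (helper6)

Paper proof.  `n_11 ∈ {12, 45}`; 12 dies by the sieve (K1).  `n_11 = 45`: `|N(P)| = 88`, `e = 2`, `|C(P)| = 44`.
(A) an involution `c ∈ C(P)` fixes `f` points of `X = G/N(P)` with `f ≡ 1 mod 11`, `4 ∣ 45 - f`, `f ≠ 45`: `f = 1`.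
(B) ANY involution `u` of `G` fixes a point of `G/C(P)` (`4 ∣ 90 - fix`), so it is conjugate into `C(P)` and fixes exactly one point of `X`.
(C) `|N(P)| = 88 > 44`: two elements of `N(P)` move a point `x ≠ N(P)` of `X` to the same point, so some `h ≠ 1` in `N(P)` fixes `x` and the
base point; a power of `h` has order 2 or 11 and two fixed points: against (B), resp. S1018 (a).
-/

set_option autoImplicit false

namespace Cfsg.Agent.Lib.helper3.S983

open Cfsg.Agent.Lib.helper8 Cfsg.Agent.Lib.helper23

/-- conjugate elements have the same number of fixed points -/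
theorem s983n3960_card_fixedBy_conj {G X : Type*} [Group G] [MulAction G X] (g u : G) :
    Nat.card (MulAction.fixedBy X (g⁻¹ * u * g)) = Nat.card (MulAction.fixedBy X u) := by
  apply Nat.card_congr
  refine ⟨fun x => ⟨g • x.1, ?_⟩, fun x => ⟨g⁻¹ • x.1, ?_⟩, ?_, ?_⟩
  · have hx := x.2
    rw [MulAction.mem_fixedBy] at hx ⊢
    conv_rhs => rw [← hx]
    simp only [mul_smul]
    rw [smul_inv_smul]
  · have hx := x.2
    rw [MulAction.mem_fixedBy] at hx ⊢
    simp only [mul_smul]
    rw [smul_inv_smul, hx]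
  · intro x
    apply Subtype.ext
    simp
  · intro x
    apply Subtype.ext
    simp

theorem no_simple_3960 {G : Type*} [Group G] [Finite G] [IsSimpleGroup G] (hG : Nat.card G = 3960) : False := by
  have : Fact (Nat.Prime 11) := ⟨by norm_num⟩
  have hG' : Nat.card G = 11 ^ 1 * 360 := by rw [hG]; norm_num
  have hnd : ¬ 11 ∣ 360 := by norm_num
  have hnc : ¬ IsMulCommutative G := h8_not_comm_of_card (by rw [hG]; norm_num)
  have hmem := h8_nsylow_mem 11 1 360 hG' hnd
  have hne1 := h8_simple_nsylow_ne_one 11 1 360 hG' hnd (by norm_num) (by norm_num)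
  obtain ⟨P⟩ : Nonempty (Sylow 11 G) := inferInstance
  obtain ⟨hP, hNn, hXn, r, hr10, hr1, hCr⟩ := og3_sylow_data 11 360 hG' hnd (by norm_num) P
  have hdiv : (Nat.divisors 360).filter (fun d => d % 11 = 1) = {1, 12, 45} := by decide
  rw [hdiv] at hmem
  simp only [Finset.mem_insert, Finset.mem_singleton] at hmem
  have hr10' : r ∣ 10 := by simpa using hr10
  have hrle : r ≤ 10 := Nat.le_of_dvd (by norm_num) hr10'
  rcases hmem with h | h | h
  · exact hne1 h
  · exact helper3.S496.candDead_sound hnc 11 1 360 hG' hnd (by norm_num) (by norm_num)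
      (by rw [h]; decide)
  · -- n_11 = 45
    rw [h, hG] at hNn
    rw [h] at hXn
    set N := Subgroup.normalizer ((P : Subgroup G) : Set G) with hNdef
    set C := Subgroup.centralizer ((P : Subgroup G) : Set G) with hCdef
    have hN : Nat.card N = 88 := by omega
    rw [hN] at hCr
    have hC : Nat.card C = 44 := by
      interval_cases r <;> omega
    have hNtop : N ≠ ⊤ := by
      intro htop
      have h1 : Nat.card N = Nat.card G := by rw [htop]; exact Subgroup.card_top
      omega
    -- (A)
    have hA : ∀ c : G, c ∈ C → orderOf c = 2 →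
        Nat.card (MulAction.fixedBy (G ⧸ N) c) = 1 := by
      intro c hc hc2
      have h1 : Nat.card (MulAction.fixedBy (G ⧸ N) c) % 11 = 1 :=
        og2_card_fixedBy_modEq_one 11 P hP c hc
      have h2 := h8_simple_involution_fixed (X := G ⧸ N) hnc c
        (by rw [← hc2]; exact pow_orderOf_eq_one c)
      rw [hXn] at h2
      have h3 : Nat.card (MulAction.fixedBy (G ⧸ N) c) ≤ Nat.card (G ⧸ N) :=
        Finite.card_subtype_le _
      rw [hXn] at h3
      have h4 : Nat.card (MulAction.fixedBy (G ⧸ N) c) ≠ 45 := by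
        intro h45
        have := og2_eq_one_of_card_fixedBy N hNtop c (by rw [h45, hXn])
        rw [this, orderOf_one] at hc2
        omega
      obtain ⟨k, hk⟩ := h2
      omega
    -- (B)
    have hXC : Nat.card (G ⧸ C) = 90 := by
      have := Subgroup.card_eq_card_quotient_mul_card_subgroup C
      rw [hG, hC] at this
      omega
    have hB : ∀ u : G, orderOf u = 2 → Nat.card (MulAction.fixedBy (G ⧸ N) u) = 1 := by
      intro u hu2
      have h2 := h8_simple_involution_fixed (X := G ⧸ C) hnc u
        (by rw [← hu2]; exact pow_orderOf_eq_one u)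
      rw [hXC] at h2
      have hpos : Nat.card (MulAction.fixedBy (G ⧸ C) u) ≠ 0 := by
        intro h0
        rw [h0] at h2
        omega
      have hne : Nonempty (MulAction.fixedBy (G ⧸ C) u) := by
        by_contra hcon
        rw [not_nonempty_iff] at hcon
        exact hpos Nat.card_of_isEmpty
      obtain ⟨⟨z, hz⟩⟩ := hne
      obtain ⟨g, rfl⟩ := QuotientGroup.mk_surjective z
      have hgc : g⁻¹ * u * g ∈ C := by
        rw [MulAction.mem_fixedBy, MulAction.Quotient.smul_mk, QuotientGroup.eq,
          ← Subgroup.inv_mem_iff] at hz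
        simpa [mul_assoc] using hz
      have := hA (g⁻¹ * u * g) hgc (by rw [h8_orderOf_conj, hu2])
      rwa [s983n3960_card_fixedBy_conj] at this
    -- (C)
    have hnt : Nontrivial (G ⧸ N) := by
      apply (Finite.one_lt_card_iff_nontrivial).mp
      rw [hXn]; norm_num
    obtain ⟨x, hx⟩ := exists_ne ((1 : G) : G ⧸ N)
    have two_fix : ∀ y : G, y • x = x → y • ((1 : G) : G ⧸ N) = ((1 : G) : G ⧸ N) →
        Nat.card (MulAction.fixedBy (G ⧸ N) y) ≠ 1 := by
      intro y h1 h2 hc
      rw [Nat.card_eq_one_iff_unique] at hc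
      obtain ⟨hs, _⟩ := hc
      have := hs.elim ⟨x, h1⟩ ⟨((1 : G) : G ⧸ N), h2⟩
      exact hx (Subtype.ext_iff.mp this)
    -- pigeonhole
    classical
    have : Fintype (G ⧸ N) := Fintype.ofFinite _
    have : Fintype N := Fintype.ofFinite _
    have hcard44 : Fintype.card {y : G ⧸ N // ¬ (y = ((1 : G) : G ⧸ N))} = 44 := by
      rw [Fintype.card_subtype_compl, Fintype.card_subtype_eq, ← Nat.card_eq_fintype_card, hXn]
    have hmove : ∀ n : N, (n : G) • x ≠ ((1 : G) : G ⧸ N) := by
      intro n hcon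
      apply hx
      have h1 : (n : G)⁻¹ • ((n : G) • x) = (n : G)⁻¹ • ((1 : G) : G ⧸ N) := by rw [hcon]
      rw [inv_smul_smul] at h1
      rw [h1]
      exact og2_base_fixed N _ (N.inv_mem n.2)
    obtain ⟨n₁, n₂, hne, heq⟩ := Fintype.exists_ne_map_eq_of_card_lt
      (fun n : N => (⟨(n : G) • x, hmove n⟩ : {y : G ⧸ N // ¬ (y = ((1 : G) : G ⧸ N))}))
      (by rw [hcard44, ← Nat.card_eq_fintype_card, hN]; norm_num)
    have heq' : (n₁ : G) • x = (n₂ : G) • x := Subtype.ext_iff.mp heq
    set hh : G := (n₂ : G)⁻¹ * (n₁ : G) with hhdef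
    have hhN : hh ∈ N := N.mul_mem (N.inv_mem n₂.2) n₁.2
    have hhx : hh • x = x := by
      rw [hhdef, mul_smul, heq', inv_smul_smul]
    have hh1 : hh ≠ 1 := by
      intro h1
      apply hne
      apply Subtype.ext
      have : (n₂ : G) * hh = (n₁ : G) := by rw [hhdef]; group
      rw [h1, mul_one] at this
      exact this.symm
    have hhb : hh • ((1 : G) : G ⧸ N) = ((1 : G) : G ⧸ N) := og2_base_fixed N hh hhN
    have hd88 : orderOf hh ∣ 88 := by
      have h1 : orderOf (⟨hh, hhN⟩ : N) ∣ Nat.card N := orderOf_dvd_natCard _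
      rw [hN, ← Subgroup.orderOf_coe] at h1
      exact h1
    have hd1 : orderOf hh ≠ 1 := by
      intro h1
      exact hh1 (orderOf_eq_one_iff.mp h1)
    have hd0 : orderOf hh ≠ 0 := by
      intro h0
      rw [h0] at hd88
      omega
    have hpow : ∀ k : ℕ, (hh ^ k) • x = x ∧ (hh ^ k) • ((1 : G) : G ⧸ N) = ((1 : G) : G ⧸ N) := by
      intro k
      constructor
      · have : hh ^ k ∈ MulAction.stabilizer G x :=
          Subgroup.pow_mem _ (MulAction.mem_stabilizer_iff.mpr hhx) k
        exact MulAction.mem_stabilizer_iff.mp this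
      · have : hh ^ k ∈ MulAction.stabilizer G ((1 : G) : G ⧸ N) :=
          Subgroup.pow_mem _ (MulAction.mem_stabilizer_iff.mpr hhb) k
        exact MulAction.mem_stabilizer_iff.mp this
    have hcases : 2 ∣ orderOf hh ∨ 11 ∣ orderOf hh := by
      have hm : orderOf hh ∈ Nat.divisors 88 := Nat.mem_divisors.mpr ⟨hd88, by norm_num⟩
      have hdv : Nat.divisors 88 = {1, 2, 4, 8, 11, 22, 44, 88} := by decide
      rw [hdv] at hm
      simp only [Finset.mem_insert, Finset.mem_singleton] at hm
      rcases hm with h | h | h | h | h | h | h | h <;> rw [h] <;> omega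
    rcases hcases with h2 | h11
    · have ho := orderOf_pow_orderOf_div hd0 h2
      exact two_fix _ (hpow _).1 (hpow _).2 (hB _ ho)
    · have ho := orderOf_pow_orderOf_div hd0 h11
      exact two_fix _ (hpow _).1 (hpow _).2 (Cfsg.Agent.S1018.part_a 11 P hP _ ho)

end Cfsg.Agent.Lib.helper3.S983
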