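import Mathlib
import Cfsg.Prelude.Def_GeometricClasses
import Cfsg.Agent.Lib.Helper27.ASC.Defs
import Cfsg.Agent.Lib.Helper19.ASG.Defs
import Cfsg.Agent.Lib.Helper18.ASP.Defs
import Cfsg.Agent.Lib.Helper26.ASGD1.Defs
import Cfsg.Agent.Lib.Helper19.ASGD1GRP

set_option autoImplicit false
set_option linter.unusedVariables false
set_option linter.unusedSectionVars false

/-!
# Project ASP, block D1, pieces D1-PM (`spd1_scalar_pm`) and D1-ODD (`spd1_odd`)
-/

namespace Cfsg.Agent.Lib.Helper18.ASP

open Cfsg Cfsg.Geo Cfsg.Agent.Lib.Helper27.ASC Cfsg.Agent.Lib.Helper19.ASG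
open scoped MatrixGroups Matrix

variable {n : ℕ} {F : Type*} [Field F] [Fintype F]

open scoped commutatorElement

/-- D1-PM : a scalar isometry of a symplectic form is `±1` (`f (c u) (c v) = c² f u v`, pick `u, v` with `f u v ≠ 0`) -/
theorem spd1_scalar_pm (hn : 0 < n) (f : (Fin n → F) → (Fin n → F) → F) (hf : IsSymplecticForm f) (c : Fˣ)
    (h : (d1scal c : GL (Fin n) F) ∈ isoGL f) : c = 1 ∨ c = -1 := by
  rw [mem_isoGL_iff] at h
  have h0 : (Pi.single (⟨0, hn⟩ : Fin n) (1 : F) : Fin n → F) ≠ 0 := by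
    intro h'
    have := congrFun h' ⟨0, hn⟩
    simp at this
  obtain ⟨⟨x, hx⟩, -⟩ := hf.nondegenerate _ h0
  have h1 := h x (Pi.single (⟨0, hn⟩ : Fin n) (1 : F))
  rw [d1scal_coe, Matrix.smul_mulVec, Matrix.one_mulVec, Matrix.smul_mulVec, Matrix.one_mulVec,
    hf.bilinear.smul_left, hf.bilinear.smul_right] at h1
  have h2 : ((c : F) * (c : F) - 1) * f x (Pi.single (⟨0, hn⟩ : Fin n) (1 : F)) = 0 := by
    linear_combination h1
  have h3 : (c : F) * (c : F) - 1 = 0 := by
    rcases mul_eq_zero.mp h2 with h3 | h3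
    · exact h3
    · exact absurd h3 hx
  have h4 : ((c : F) - 1) * ((c : F) + 1) = 0 := by linear_combination h3
  rcases mul_eq_zero.mp h4 with h5 | h5
  · left
    apply Units.ext
    rw [Units.val_one]
    linear_combination h5
  · right
    apply Units.ext
    rw [Units.val_neg, Units.val_one]
    linear_combination h5

/-- D1-ODD : `N` is not abelian (`d1_nonab`), a commutator `≠ 1` is a scalar of `isoGL f`, so it is `-1 ≠ 1` -/
theorem spd1_odd (hn : 2 ≤ n) (f : (Fin n → F) → (Fin n → F) → F) (hf : IsSymplecticForm f)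
    {N : Subgroup (GL (Fin n) F)} (hNI : N ≤ isoGL f) (hA : AbsIrr N) (hab : ⁅N, N⁆ ≤ scalars (Fin n) F) :
    Odd (Fintype.card F) ∧ (d1scal (-1 : Fˣ) : GL (Fin n) F) ∈ N := by
  obtain ⟨x, hx, y, hy, hxy⟩ := d1_nonab hn hA
  have hcN : ⁅x, y⁆ ∈ N := by
    rw [commutatorElement_def]
    exact N.mul_mem (N.mul_mem (N.mul_mem hx hy) (N.inv_mem hx)) (N.inv_mem hy)
  have hcS : ⁅x, y⁆ ∈ scalars (Fin n) F := hab (Subgroup.commutator_mem_commutator hx hy)
  obtain ⟨c, hc⟩ := (mem_scalars_iff_d1scal _).mp hcS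
  have hc1 : c ≠ 1 := by
    rintro rfl
    rw [d1scal_one, commutatorElement_eq_one_iff_mul_comm] at hc
    exact hxy hc
  have hcI : (d1scal c : GL (Fin n) F) ∈ isoGL f := by
    rw [← hc]
    exact hNI hcN
  rcases spd1_scalar_pm (by omega) f hf c hcI with h | h
  · exact absurd h hc1
  · subst h
    refine ⟨?_, ?_⟩
    · -- `-1 ≠ 1` in `F` : the characteristic is odd
      have hne : (-1 : F) ≠ 1 := by
        intro h
        apply hc1
        apply Units.ext
        rw [Units.val_neg, Units.val_one]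
        exact h
      by_contra hev
      rw [Nat.not_odd_iff_even] at hev
      -- even order: characteristic two
      obtain ⟨p, hp⟩ := CharP.exists F
      haveI := hp
      obtain ⟨k, hpk, hk⟩ := FiniteField.card F p
      haveI : Fact p.Prime := ⟨hpk⟩
      have hp2 : p = 2 := by
        have h2 : 2 ∣ p ^ (k : ℕ) := by
          rw [← hk]
          exact hev.two_dvd
        exact ((Nat.prime_dvd_prime_iff_eq Nat.prime_two hpk).mp (Nat.Prime.dvd_of_dvd_pow Nat.prime_two h2)).symm
      subst hp2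
      apply hne
      have h2 : (2 : F) = 0 := by
        have := CharP.cast_eq_zero F 2
        exact_mod_cast this
      linear_combination -h2
    · rw [← hc]
      exact hcN

end Cfsg.Agent.Lib.Helper18.ASP

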