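import Mathlib
import Cfsg.Agent.Lib.Helper27.AltFus.Defs
import Cfsg.Agent.Lib.helper17.AltFusO0

set_option autoImplicit false

/-! Piece O4 of project AltFus (S5165): the sign formula in the odd model. -/

namespace Cfsg.Agent.Lib.helper6.AltFus
open Cfsg.Agent.Lib.Helper27.AltFus Equiv
open Cfsg.Agent.Lib.helper17.AltFus

/-- an element of odd order is even -/
theorem sign_eq_one_of_pow_odd {α : Type*} [Fintype α] [DecidableEq α] (g : Perm α) {n : ℕ}
    (hn : Odd n) (h : g ^ n = 1) : Perm.sign g = 1 := by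
  have h1 : (Perm.sign g) ^ n = 1 := by rw [← map_pow, h, map_one]
  rcases Int.units_eq_one_or (Perm.sign g) with h2 | h2
  · exact h2
  · rw [h2, Odd.neg_one_pow hn] at h1
    exact absurd h1 (by decide)

theorem odd_of_prime_ne_two {p : ℕ} [hp : Fact p.Prime] (h2 : p ≠ 2) : Odd p :=
  hp.out.odd_of_ne_two h2

/-- the sign of a block permutation -/
theorem sign_nrm_blk {p : ℕ} [Fact p.Prime] (hp : p ≠ 2) {I : Type*} [Fintype I] [DecidableEq I]
    (π : Perm I) :
    Perm.sign (nrm π (1 : I → (ZMod p)ˣ) (0 : I → ZMod p)) = Perm.sign π := by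
  have h1 : nrm π (1 : I → (ZMod p)ˣ) (0 : I → ZMod p) =
      Equiv.prodCongrLeft (fun _ : ZMod p => π) := by
    refine Equiv.ext ?_
    rintro ⟨i, x⟩
    rw [nrm_apply]
    simp
  rw [h1, Perm.sign_prodCongrLeft, Finset.prod_const, Finset.card_univ, ZMod.card,
    Int.units_pow_eq_pow_mod_two, Nat.odd_iff.mp (odd_of_prime_ne_two hp), pow_one]

/-- translations of `ZMod p` are even (`p` odd) -/
theorem sign_addRight {p : ℕ} [Fact p.Prime] (hp : p ≠ 2) (c : ZMod p) :
    Perm.sign (Equiv.addRight c : Perm (ZMod p)) = 1 := by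
  refine sign_eq_one_of_pow_odd _ (odd_of_prime_ne_two hp) ?_
  rw [Equiv.nsmul_addRight]
  refine Equiv.ext fun x => ?_
  simp

/-- the sign of the fibrewise affine part -/
theorem sign_nrm_aff {p : ℕ} [Fact p.Prime] (hp : p ≠ 2) {I : Type*} [Fintype I] [DecidableEq I]
    (a : I → (ZMod p)ˣ) (b : I → ZMod p) :
    Perm.sign (nrm (1 : Perm I) a b) = signU p (∏ i, a i) := by
  have h1 : nrm (1 : Perm I) a b =
      Equiv.prodCongrRight (fun i : I =>
        ((Equiv.addRight (b i) : Perm (ZMod p)) * (Units.mulLeft (a i) : Perm (ZMod p)))) := by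
    refine Equiv.ext ?_
    rintro ⟨i, x⟩
    rw [nrm_apply]
    simp
  rw [h1, Perm.sign_prodCongrRight, map_prod]
  refine Finset.prod_congr rfl fun i _ => ?_
  rw [map_mul, sign_addRight hp, one_mul]
  rfl

theorem nrm_eq_blk_mul {p : ℕ} [Fact p.Prime] {I : Type*} (π : Perm I) (a : I → (ZMod p)ˣ)
    (b : I → ZMod p) :
    nrm π a b = nrm π (1 : I → (ZMod p)ˣ) (0 : I → ZMod p) * nrm (1 : Perm I) a b := by
  rw [nrm_mul]
  congr 1
  · funext i; simp
  · funext i; simp

theorem sign_nrm {p : ℕ} [Fact p.Prime] (hp : p ≠ 2) {I : Type*} [Fintype I] [DecidableEq I]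
    (π : Perm I) (a : I → (ZMod p)ˣ) (b : I → ZMod p) :
    Perm.sign (nrm π a b) = Perm.sign π * signU p (∏ i, a i) := by
  rw [nrm_eq_blk_mul, map_mul, sign_nrm_blk hp, sign_nrm_aff hp]

theorem sign_ext_nrm (p : ℕ) [Fact p.Prime] (hp : p ≠ 2) (m' r : ℕ) (π : Perm (Blk p m'))
    (a : Blk p m' → (ZMod p)ˣ) (b : Blk p m' → ZMod p) :
    Perm.sign (ext (nrm π a b) : Perm (Mdl p m' r)) = Perm.sign π * signU p (∏ i, a i) := by
  rw [sign_ext, sign_nrm hp]

end Cfsg.Agent.Lib.helper6.AltFus
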