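import Mathlib
import Cfsg.Agent.Lib.Helper27.AltFus.Defs
import Cfsg.Agent.Lib.helper17.AltFusO0

set_option autoImplicit false

/-! Piece O8 of project AltFus (S5165): `W0`, `R2` and the torus element. -/

namespace Cfsg.Agent.Lib.helper6.AltFus
open Cfsg.Agent.Lib.Helper27.AltFus Equiv
open Cfsg.Agent.Lib.helper17.AltFus

/-- conjugation by `g` preserves `closure S` as soon as it maps `S` into `closure S` -/
theorem conj_mem_closure_of_gens {G : Type*} [Group G] (S : Set G) (g : G)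
    (h : ∀ s ∈ S, g * s * g⁻¹ ∈ Subgroup.closure S) :
    ∀ x ∈ Subgroup.closure S, g * x * g⁻¹ ∈ Subgroup.closure S := by
  intro x hx
  induction hx using Subgroup.closure_induction with
  | mem s hs => exact h s hs
  | one => simp
  | mul a b _ _ ha hb =>
    have : g * (a * b) * g⁻¹ = (g * a * g⁻¹) * (g * b * g⁻¹) := by group
    rw [this]; exact mul_mem ha hb
  | inv a _ ha =>
    have : g * a⁻¹ * g⁻¹ = (g * a * g⁻¹)⁻¹ := by group
    rw [this]; exact inv_mem ha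

/-- an element of odd order is even -/
theorem sign_eq_one_of_pow_odd' {α : Type*} [Fintype α] [DecidableEq α] (g : Perm α) {n : ℕ}
    (hn : Odd n) (h : g ^ n = 1) : Perm.sign g = 1 := by
  have h1 : (Perm.sign g) ^ n = 1 := by rw [← map_pow, h, map_one]
  rcases Int.units_eq_one_or (Perm.sign g) with h2 | h2
  · exact h2
  · rw [h2, Odd.neg_one_pow hn] at h1
    exact absurd h1 (by decide)

/-- how a general element of the normalizer moves a translation past itself -/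
theorem nrm_mul_nrm11 {p : ℕ} [Fact p.Prime] {I : Type*} (π : Perm I) (a : I → (ZMod p)ˣ)
    (c b : I → ZMod p) :
    nrm π a c * nrm 1 1 b =
      nrm 1 1 (fun i => (a (π.symm i) : ZMod p) * b (π.symm i)) * nrm π a c := by
  refine Equiv.ext ?_
  rintro ⟨i, x⟩
  simp only [Perm.mul_apply, nrm_apply, Perm.coe_one, id_eq, Pi.one_apply, Units.val_one,
    one_mul, Equiv.symm_apply_apply]
  refine Prod.ext rfl ?_
  ring

/-- the shift of the first `p` blocks by `j` -/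
def sft (p : ℕ) [Fact p.Prime] (m' : ℕ) (j : ZMod p) : Perm (Blk p m' × ZMod p) :=
  nrm (Equiv.Perm.sumCongr (Equiv.addRight j) 1) 1 0

theorem sft_inl (p : ℕ) [Fact p.Prime] (m' : ℕ) (j i x : ZMod p) :
    sft p m' j (Sum.inl i, x) = (Sum.inl (i + j), x) := by
  rw [sft, nrm_apply]
  simp

theorem sft_inr (p : ℕ) [Fact p.Prime] (m' : ℕ) (j : ZMod p) (k : Fin m') (x : ZMod p) :
    sft p m' j (Sum.inr k, x) = (Sum.inr k, x) := by
  rw [sft, nrm_apply]
  simp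

theorem sft_one_eq_sig (p : ℕ) [Fact p.Prime] (m' : ℕ) : sft p m' 1 = sig p m' := rfl

theorem sft_zero (p : ℕ) [Fact p.Prime] (m' : ℕ) : sft p m' 0 = 1 := by
  refine Equiv.ext ?_
  rintro ⟨i | k, x⟩
  · rw [sft_inl]; simp
  · rw [sft_inr]; simp

theorem sft_mul (p : ℕ) [Fact p.Prime] (m' : ℕ) (j j' : ZMod p) :
    sft p m' j * sft p m' j' = sft p m' (j + j') := by
  refine Equiv.ext ?_
  rintro ⟨i | k, x⟩
  · rw [Perm.mul_apply, sft_inl, sft_inl, sft_inl]
    congr 2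
    ring
  · rw [Perm.mul_apply, sft_inr, sft_inr, sft_inr]

theorem sig_pow (p : ℕ) [Fact p.Prime] (m' : ℕ) (n : ℕ) :
    sig p m' ^ n = sft p m' (n : ZMod p) := by
  induction n with
  | zero => simp [sft_zero]
  | succ n ih => rw [pow_succ, ih, ← sft_one_eq_sig, sft_mul, Nat.cast_succ]

theorem sig_pow_p (p : ℕ) [Fact p.Prime] (m' : ℕ) : sig p m' ^ p = 1 := by
  rw [sig_pow, ZMod.natCast_self, sft_zero]

theorem ext_sig_pow_p (p : ℕ) [Fact p.Prime] (m' r : ℕ) :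
    (ext (sig p m') : Perm (Mdl p m' r)) ^ p = 1 := by
  rw [← ext_pow, sig_pow_p, ext_one]

theorem ext_cyc_mem_W0 (p : ℕ) [Fact p.Prime] (m' r : ℕ) (i : Blk p m') :
    (ext (cyc p m' i) : Perm (Mdl p m' r)) ∈ W0 p m' r :=
  Subgroup.subset_closure (Or.inl (Set.mem_range_self i))

theorem ext_sig_mem_W0 (p : ℕ) [Fact p.Prime] (m' r : ℕ) :
    (ext (sig p m') : Perm (Mdl p m' r)) ∈ W0 p m' r :=
  Subgroup.subset_closure (Or.inr rfl)

theorem B0_le_W0 (p : ℕ) [Fact p.Prime] (m' r : ℕ) : B0 p m' r ≤ W0 p m' r :=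
  Subgroup.closure_mono Set.subset_union_left

theorem ext_sft_mem_W0 (p : ℕ) [Fact p.Prime] (m' r : ℕ) (j : ZMod p) :
    (ext (sft p m' j) : Perm (Mdl p m' r)) ∈ W0 p m' r := by
  have h := pow_mem (ext_sig_mem_W0 p m' r) j.val
  rwa [← ext_pow, sig_pow, ZMod.natCast_zmod_val] at h

theorem R2_le_W0 (p : ℕ) [Fact p.Prime] (m' r : ℕ) : R2 p m' r ≤ W0 p m' r := by
  unfold R2
  rw [Subgroup.closure_le]
  rintro x (hx | ⟨k, rfl⟩)
  · rcases hx with rfl | hx
    · exact ext_sig_mem_W0 p m' r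
    · rw [Set.mem_singleton_iff] at hx
      subst hx
      exact B0_le_W0 p m' r (ext_nrm11_mem p m' r _)
  · exact ext_cyc_mem_W0 p m' r _

theorem B0_pgroup (p : ℕ) [Fact p.Prime] (m' r : ℕ) : IsPGroup p ↥(B0 p m' r) := by
  rintro ⟨g, hg⟩
  obtain ⟨b, rfl⟩ := (mem_B0_iff p m' r g).mp hg
  refine ⟨1, Subtype.ext ?_⟩
  have hpow : ∀ n : ℕ, (nrm (1 : Perm (Blk p m')) (1 : Blk p m' → (ZMod p)ˣ) b) ^ n =
      nrm 1 1 (n • b) := by
    intro n
    induction n with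
    | zero => simp [nrm11_zero]
    | succ n ih => rw [pow_succ, ih, nrm11_mul, succ_nsmul]
  have hpb : p • b = 0 := by
    funext i
    simp
  show (ext (nrm 1 1 b) : Perm (Mdl p m' r)) ^ p ^ 1 = 1
  rw [pow_one, ← ext_pow, hpow, hpb, nrm11_zero, ext_one]

/-- every `ext (nrm π a c)` normalizes the base group -/
theorem ext_nrm_conj_mem_B0 (p : ℕ) [Fact p.Prime] (m' r : ℕ) (π : Perm (Blk p m'))
    (a : Blk p m' → (ZMod p)ˣ) (c : Blk p m' → ZMod p) (h : Perm (Mdl p m' r))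
    (hh : h ∈ B0 p m' r) :
    (ext (nrm π a c) : Perm (Mdl p m' r)) * h * (ext (nrm π a c))⁻¹ ∈ B0 p m' r := by
  obtain ⟨b, rfl⟩ := (mem_B0_iff p m' r h).mp hh
  rw [← ext_mul, nrm_mul_nrm11, ext_mul, mul_inv_cancel_right]
  exact ext_nrm11_mem p m' r _

theorem ext_nrm_mem_normalizer_B0 (p : ℕ) [Fact p.Prime] (m' r : ℕ) (π : Perm (Blk p m'))
    (a : Blk p m' → (ZMod p)ˣ) (c : Blk p m' → ZMod p) :
    (ext (nrm π a c) : Perm (Mdl p m' r)) ∈
      Subgroup.normalizer ((B0 p m' r : Subgroup (Perm (Mdl p m' r))) : Set (Perm (Mdl p m' r))) :=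
  Subgroup.mem_normalizer_fintype fun h hh => ext_nrm_conj_mem_B0 p m' r π a c h hh

theorem W0_eq_sup (p : ℕ) [Fact p.Prime] (m' r : ℕ) :
    W0 p m' r = Subgroup.zpowers (ext (sig p m') : Perm (Mdl p m' r)) ⊔ B0 p m' r := by
  unfold W0 B0
  rw [Subgroup.closure_union, Subgroup.zpowers_eq_closure, sup_comm]

theorem W0_pgroup (p : ℕ) [Fact p.Prime] (m' r : ℕ) : IsPGroup p ↥(W0 p m' r) := by
  rw [W0_eq_sup]
  refine IsPGroup.to_sup_of_normal_right' ?_ (B0_pgroup p m' r) ?_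
  · rintro ⟨g, hg⟩
    obtain ⟨z, rfl⟩ := Subgroup.mem_zpowers_iff.mp hg
    refine ⟨1, Subtype.ext ?_⟩
    show ((ext (sig p m') : Perm (Mdl p m' r)) ^ z) ^ p ^ 1 = 1
    rw [pow_one, ← zpow_natCast, ← zpow_mul, mul_comm, zpow_mul, zpow_natCast, ext_sig_pow_p,
      one_zpow]
  · rw [Subgroup.zpowers_le]
    exact ext_nrm_mem_normalizer_B0 p m' r _ _ _

theorem W0_le_alt (p : ℕ) [Fact p.Prime] (hp : p ≠ 2) (m' r : ℕ) :
    W0 p m' r ≤ alternatingGroup (Mdl p m' r) := by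
  have hodd : Odd p := (Fact.out : p.Prime).odd_of_ne_two hp
  unfold W0
  rw [Subgroup.closure_le]
  rintro x (⟨i, rfl⟩ | hx)
  · exact Perm.mem_alternatingGroup.mpr
      (sign_eq_one_of_pow_odd' _ hodd (ext_cyc_pow_p p m' r i))
  · rw [Set.mem_singleton_iff] at hx
    subst hx
    exact Perm.mem_alternatingGroup.mpr
      (sign_eq_one_of_pow_odd' _ hodd (ext_sig_pow_p p m' r))

theorem B0_ne_bot (p : ℕ) [Fact p.Prime] (m' r : ℕ) : B0 p m' r ≠ ⊥ := by
  intro h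
  have h0 : (ext (cyc p m' (Sum.inl 0)) : Perm (Mdl p m' r)) ∈ B0 p m' r :=
    Subgroup.subset_closure (Set.mem_range_self _)
  rw [h, Subgroup.mem_bot] at h0
  exact ext_cyc_ne_one p m' r _ h0

theorem uu_mul_sig (p : ℕ) [Fact p.Prime] (m' : ℕ) (l : (ZMod p)ˣ) :
    uu p m' l * sig p m' = sft p m' ((l⁻¹ : (ZMod p)ˣ) : ZMod p) * uu p m' l := by
  refine Equiv.ext ?_
  rintro ⟨i | k, x⟩
  · rw [Perm.mul_apply, Perm.mul_apply, ← sft_one_eq_sig, sft_inl, uu, nrm_apply, nrm_apply]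
    simp only [Perm.sumCongr_apply, Sum.map_inl, Units.mulLeft_apply, Sum.elim_inl, Pi.zero_apply,
      add_zero]
    rw [sft_inl]
    congr 2
    ring
  · rw [Perm.mul_apply, Perm.mul_apply, ← sft_one_eq_sig, sft_inr, uu, nrm_apply]
    simp only [Perm.sumCongr_apply, Sum.map_inr, Sum.elim_inr, Pi.zero_apply, add_zero,
      Perm.coe_one, id_eq]
    rw [sft_inr]

theorem uu_mem_normalizer_W0 (p : ℕ) [Fact p.Prime] (m' r : ℕ) (l : (ZMod p)ˣ) :
    (ext (uu p m' l) : Perm (Mdl p m' r)) ∈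
      Subgroup.normalizer ((W0 p m' r : Subgroup (Perm (Mdl p m' r))) : Set (Perm (Mdl p m' r))) := by
  refine Subgroup.mem_normalizer_fintype fun n hn => ?_
  refine conj_mem_closure_of_gens _ _ ?_ n hn
  rintro s (⟨i, rfl⟩ | hs)
  · exact B0_le_W0 p m' r (ext_nrm_conj_mem_B0 p m' r _ _ _ _
      (Subgroup.subset_closure (Set.mem_range_self i)))
  · rw [Set.mem_singleton_iff] at hs
    subst hs
    rw [← ext_mul, uu_mul_sig, ext_mul, mul_inv_cancel_right]
    exact ext_sft_mem_W0 p m' r _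

end Cfsg.Agent.Lib.helper6.AltFus
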