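import Mathlib
import Cfsg.Agent.Lib.Helper27.AltFus.Defs
import Cfsg.Agent.Lib.helper17.AltFusO0
import Cfsg.Agent.Lib.helper6.AltFusO8

set_option autoImplicit false

/-! Piece O9 of project AltFus (S5165): `R2` is self-centralizing. -/

namespace Cfsg.Agent.Lib.helper6.AltFus
open Cfsg.Agent.Lib.Helper27.AltFus Equiv
open Cfsg.Agent.Lib.helper17.AltFus

/-- the general element of `R2` -/
def rho (p : ℕ) [Fact p.Prime] (m' : ℕ) (j x : ZMod p) (t : Fin m' → ZMod p) :
    Perm (Blk p m' × ZMod p) :=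
  nrm (Equiv.Perm.sumCongr (Equiv.addRight j) 1) 1 (Sum.elim (fun _ => x) t)

theorem rho_inl (p : ℕ) [Fact p.Prime] (m' : ℕ) (j x : ZMod p) (t : Fin m' → ZMod p)
    (i y : ZMod p) : rho p m' j x t (Sum.inl i, y) = (Sum.inl (i + j), y + x) := by
  rw [rho, nrm_apply]
  simp

theorem rho_inr (p : ℕ) [Fact p.Prime] (m' : ℕ) (j x : ZMod p) (t : Fin m' → ZMod p)
    (k : Fin m') (y : ZMod p) : rho p m' j x t (Sum.inr k, y) = (Sum.inr k, y + t k) := by
  rw [rho, nrm_apply]
  simp

theorem rho_eq (p : ℕ) [Fact p.Prime] (m' : ℕ) (j x : ZMod p) (t : Fin m' → ZMod p) :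
    rho p m' j x t = sft p m' j * (nrm 1 1 (Sum.elim (fun _ => x) (fun _ => 0)) *
      nrm 1 1 (Sum.elim (fun _ => 0) t)) := by
  refine Equiv.ext ?_
  rintro ⟨i | k, y⟩
  · rw [rho_inl, Perm.mul_apply, Perm.mul_apply, nrm11_apply, nrm11_apply, sft_inl]
    simp
  · rw [rho_inr, Perm.mul_apply, Perm.mul_apply, nrm11_apply, nrm11_apply, sft_inr]
    simp

theorem ext_sig_mem_R2 (p : ℕ) [Fact p.Prime] (m' r : ℕ) :
    (ext (sig p m') : Perm (Mdl p m' r)) ∈ R2 p m' r :=
  Subgroup.subset_closure (Or.inl (Or.inl rfl))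

theorem ext_zz_mem_R2 (p : ℕ) [Fact p.Prime] (m' r : ℕ) :
    (ext (zz p m') : Perm (Mdl p m' r)) ∈ R2 p m' r :=
  Subgroup.subset_closure (Or.inl (Or.inr rfl))

theorem ext_cyc_inr_mem_R2 (p : ℕ) [Fact p.Prime] (m' r : ℕ) (k : Fin m') :
    (ext (cyc p m' (Sum.inr k)) : Perm (Mdl p m' r)) ∈ R2 p m' r :=
  Subgroup.subset_closure (Or.inr (Set.mem_range_self k))

theorem ext_sft_mem_R2 (p : ℕ) [Fact p.Prime] (m' r : ℕ) (j : ZMod p) :
    (ext (sft p m' j) : Perm (Mdl p m' r)) ∈ R2 p m' r := by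
  have h := pow_mem (ext_sig_mem_R2 p m' r) j.val
  rwa [← ext_pow, sig_pow, ZMod.natCast_zmod_val] at h

theorem nrm11_pow {p : ℕ} [Fact p.Prime] {I : Type*} (b : I → ZMod p) (n : ℕ) :
    (nrm (1 : Perm I) (1 : I → (ZMod p)ˣ) b) ^ n = nrm 1 1 (n • b) := by
  induction n with
  | zero => simp [nrm11_zero]
  | succ n ih => rw [pow_succ, ih, nrm11_mul, succ_nsmul]

theorem ext_zzx_mem_R2 (p : ℕ) [Fact p.Prime] (m' r : ℕ) (x : ZMod p) :
    (ext (nrm 1 1 (Sum.elim (fun _ => x) (fun _ => 0))) : Perm (Mdl p m' r)) ∈ R2 p m' r := by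
  have h := pow_mem (ext_zz_mem_R2 p m' r) x.val
  rw [← ext_pow, zz, nrm11_pow] at h
  have e : (x.val • (Sum.elim (fun _ => 1) (fun _ => 0) : Blk p m' → ZMod p)) =
      Sum.elim (fun _ => x) (fun _ => 0) := by
    funext i
    rcases i with i | k <;> simp
  rwa [e] at h

theorem ext_tt_mem_R2 (p : ℕ) [Fact p.Prime] (m' r : ℕ) (t : Fin m' → ZMod p) :
    (ext (nrm 1 1 (Sum.elim (fun _ => 0) t)) : Perm (Mdl p m' r)) ∈ R2 p m' r := by
  have single : ∀ (k : Fin m') (s : ZMod p),
      (ext (nrm 1 1 (Pi.single (Sum.inr k) s)) : Perm (Mdl p m' r)) ∈ R2 p m' r := by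
    intro k s
    have h := pow_mem (ext_cyc_inr_mem_R2 p m' r k) s.val
    rwa [← ext_pow, cyc_pow, ZMod.natCast_zmod_val] at h
  have key : ∀ s : Finset (Fin m'),
      (ext (nrm 1 1 (∑ k ∈ s, Pi.single (Sum.inr k : Blk p m') (t k))) : Perm (Mdl p m' r)) ∈
        R2 p m' r := by
    intro s
    induction s using Finset.induction_on with
    | empty => rw [Finset.sum_empty, nrm11_zero, ext_one]; exact one_mem _
    | insert j s hj ih =>
      rw [Finset.sum_insert hj, ← nrm11_mul, ext_mul]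
      exact mul_mem (single j (t j)) ih
  have h := key Finset.univ
  have e : (∑ k : Fin m', Pi.single (Sum.inr k : Blk p m') (t k)) =
      (Sum.elim (fun _ => 0) t : Blk p m' → ZMod p) := by
    funext i
    rw [Finset.sum_apply]
    rcases i with i | k'
    · simp [Pi.single_apply]
    · simp [Pi.single_apply]
  rwa [e] at h

theorem ext_rho_mem_R2 (p : ℕ) [Fact p.Prime] (m' r : ℕ) (j x : ZMod p) (t : Fin m' → ZMod p) :
    (ext (rho p m' j x t) : Perm (Mdl p m' r)) ∈ R2 p m' r := by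
  rw [rho_eq, ext_mul, ext_mul]
  exact mul_mem (ext_sft_mem_R2 p m' r j)
    (mul_mem (ext_zzx_mem_R2 p m' r x) (ext_tt_mem_R2 p m' r t))

theorem centralizer_R2 (p : ℕ) [Fact p.Prime] (m' r : ℕ) (hr : r ≤ 1) (g : Perm (Mdl p m' r))
    (hg : ∀ b ∈ R2 p m' r, g * b = b * g) : g ∈ R2 p m' r := by
  -- commutation, pointwise
  have hc : ∀ (j x : ZMod p) (t : Fin m' → ZMod p) (q : Mdl p m' r),
      g (ext (rho p m' j x t) q) = ext (rho p m' j x t) (g q) := by
    intro j x t q
    have := hg _ (ext_rho_mem_R2 p m' r j x t)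
    have h2 := congrArg (fun f : Perm (Mdl p m' r) => f q) this
    simpa [Perm.mul_apply] using h2
  -- the first `p` blocks are preserved
  have hΔ : ∀ (i y : ZMod p), ∃ i' y' : ZMod p, g (Sum.inl (Sum.inl i, y)) = Sum.inl (Sum.inl i', y') := by
    intro i y
    have h1 := hc 1 0 0 (Sum.inl (Sum.inl i, y))
    rw [ext_inl, rho_inl] at h1
    rcases hq : g (Sum.inl (Sum.inl i, y)) with ⟨i' | k, y'⟩ | e
    · exact ⟨i', y', rfl⟩
    · exfalso
      rw [hq, ext_inl, rho_inr] at h1
      simp only [Pi.zero_apply, add_zero] at h1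
      rw [← hq] at h1
      have := g.injective h1
      simp at this
    · exfalso
      rw [hq, ext_inr] at h1
      rw [← hq] at h1
      have := g.injective h1
      simp at this
  -- the other blocks are preserved
  have hk : ∀ (k : Fin m') (y : ZMod p), ∃ y' : ZMod p,
      g (Sum.inl (Sum.inr k, y)) = Sum.inl (Sum.inr k, y') := by
    intro k y
    have h1 := hc 0 0 (Pi.single k 1) (Sum.inl (Sum.inr k, y))
    rw [ext_inl, rho_inr] at h1
    simp only [Pi.single_eq_same] at h1
    rcases hq : g (Sum.inl (Sum.inr k, y)) with ⟨i' | k', y'⟩ | e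
    · exfalso
      rw [hq, ext_inl, rho_inl] at h1
      simp only [add_zero] at h1
      rw [← hq] at h1
      have := g.injective h1
      simp at this
    · by_cases hkk : k' = k
      · subst hkk; exact ⟨y', rfl⟩
      · exfalso
        rw [hq, ext_inl, rho_inr, Pi.single_eq_of_ne hkk, add_zero] at h1
        rw [← hq] at h1
        have := g.injective h1
        simp at this
    · exfalso
      rw [hq, ext_inr] at h1
      rw [← hq] at h1
      have := g.injective h1
      simp at this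
  -- the further points are fixed
  have he : ∀ e : Fin r, g (Sum.inr e) = Sum.inr e := by
    intro e
    have hfix : ∀ (j x : ZMod p) (t : Fin m' → ZMod p),
        ext (rho p m' j x t) (g (Sum.inr e)) = g (Sum.inr e) := by
      intro j x t
      have := hc j x t (Sum.inr e)
      rw [ext_inr] at this
      exact this.symm
    rcases hq : g (Sum.inr e) with ⟨i' | k', y'⟩ | e'
    · exfalso
      have h1 := hfix 1 0 0
      rw [hq, ext_inl, rho_inl] at h1
      simp at h1
    · exfalso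
      have h1 := hfix 0 0 (Pi.single k' 1)
      rw [hq, ext_inl, rho_inr] at h1
      simp at h1
    · congr 1
      have : Subsingleton (Fin r) := by
        interval_cases r
        · exact Fin.subsingleton_zero
        · exact Fin.subsingleton_one
      exact Subsingleton.elim _ _
  obtain ⟨j0, x0, h00⟩ := hΔ 0 0
  choose t ht using fun k => hk k 0
  have hgeq : g = ext (rho p m' j0 x0 t) := by
    refine Equiv.ext ?_
    rintro (⟨i | k, y⟩ | e)
    · have h1 := hc i y 0 (Sum.inl (Sum.inl 0, 0))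
      rw [ext_inl, rho_inl, h00, ext_inl, rho_inl, zero_add, zero_add] at h1
      rw [h1, ext_inl, rho_inl, add_comm j0 i, add_comm x0 y]
    · have h1 := hc 0 0 (Pi.single k y) (Sum.inl (Sum.inr k, 0))
      rw [ext_inl, rho_inr, ht, ext_inl, rho_inr, Pi.single_eq_same, zero_add] at h1
      rw [h1, ext_inl, rho_inr, add_comm]
    · rw [he, ext_inr]
  rw [hgeq]
  exact ext_rho_mem_R2 p m' r j0 x0 t

end Cfsg.Agent.Lib.helper6.AltFus
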