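import Mathlib

set_option autoImplicit false

/-!
# Square roots of `-1` in commutative irreducible algebras of isometries (helper6; for project BCG)
-/

namespace Cfsg.Agent.Lib.helper6.SqrtM1

open Module Polynomial

/-- in a finite commutative domain, `-1` is a square iff the order is not `3 (mod 4)` -/
theorem h6sq_neg_one_iff (K : Type*) [CommRing K] [IsDomain K] [Finite K] :
    (∃ i : K, i * i = -1) ↔ Nat.card K % 4 ≠ 3 := by
  classical
  let _ := Fintype.ofFinite K
  let _ : Field K := Fintype.fieldOfDomain K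
  have h := FiniteField.isSquare_neg_one_iff (F := K)
  rw [Nat.card_eq_fintype_card]
  constructor
  · rintro ⟨i, hi⟩
    exact h.1 ⟨i, hi.symm⟩
  · intro h3
    obtain ⟨i, hi⟩ := h.2 h3
    exact ⟨i, hi.symm⟩

/-- Fermat in a finite commutative domain -/
theorem h6sq_pow_card (K : Type*) [CommRing K] [IsDomain K] [Finite K] (a : K) :
    a ^ Nat.card K = a := by
  classical
  let _ := Fintype.ofFinite K
  let _ : Field K := Fintype.fieldOfDomain K
  rw [Nat.card_eq_fintype_card]
  exact FiniteField.pow_card a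

/-- at most `N` elements of a commutative domain satisfy `a ^ N = a` (`N ≥ 2`) -/
theorem h6sq_roots_le (A : Type*) [CommRing A] [IsDomain A] (N : ℕ) (hN : 2 ≤ N) (S : Finset A)
    (hS : ∀ a ∈ S, a ^ N = a) : S.card ≤ N := by
  classical
  have h1 : (X : A[X]).degree < (X ^ N : A[X]).degree := by
    rw [degree_X_pow, degree_X]
    exact_mod_cast (by omega : 1 < N)
  have hdeg : (X ^ N - X : A[X]).natDegree = N := by
    rw [natDegree_eq_of_degree_eq (degree_sub_eq_left_of_degree_lt h1), natDegree_X_pow]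
  have hne : (X ^ N - X : A[X]) ≠ 0 :=
    ne_zero_of_natDegree_gt (n := 1) (by rw [hdeg]; omega)
  have hsub : S ⊆ (X ^ N - X : A[X]).roots.toFinset := by
    intro a ha
    rw [Multiset.mem_toFinset, mem_roots hne, IsRoot.def, eval_sub, eval_pow, eval_X, hS a ha,
      sub_self]
  calc S.card ≤ (X ^ N - X : A[X]).roots.toFinset.card := Finset.card_le_card hsub
    _ ≤ Multiset.card (X ^ N - X : A[X]).roots := Multiset.toFinset_card_le _
    _ ≤ (X ^ N - X : A[X]).natDegree := card_roots' _
    _ = N := hdeg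

section alg

variable {F : Type*} [Field F] {V : Type*} [AddCommGroup V] [Module F V]

theorem h6sq_mul_apply (a b : Module.End F V) (v : V) : (a * b) v = a (b v) := rfl

/-- nonzero elements of a commutative irreducible algebra of endomorphisms are injective -/
theorem h6sq_inj (A : Subalgebra F (Module.End F V))
    (hcomm : ∀ a ∈ A, ∀ b ∈ A, a * b = b * a)
    (hirr : ∀ W : Submodule F V, (∀ a ∈ A, ∀ w ∈ W, a w ∈ W) → W = ⊥ ∨ W = ⊤)
    (a : Module.End F V) (ha : a ∈ A) (ha0 : a ≠ 0) : Function.Injective a := by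
  have hker : ∀ b ∈ A, ∀ w ∈ LinearMap.ker a, b w ∈ LinearMap.ker a := by
    intro b hb w hw
    rw [LinearMap.mem_ker] at hw ⊢
    have h1 : a (b w) = b (a w) := by
      rw [← h6sq_mul_apply, ← h6sq_mul_apply, hcomm a ha b hb]
    rw [h1, hw, map_zero]
  rcases hirr _ hker with h | h
  · exact LinearMap.ker_eq_bot.1 h
  · exact absurd (LinearMap.ker_eq_top.1 h) ha0

/-- a commutative irreducible algebra of endomorphisms has the dimension of the space -/
theorem h6sq_finrank [FiniteDimensional F V] [Nontrivial V] (A : Subalgebra F (Module.End F V))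
    (hcomm : ∀ a ∈ A, ∀ b ∈ A, a * b = b * a)
    (hirr : ∀ W : Submodule F V, (∀ a ∈ A, ∀ w ∈ W, a w ∈ W) → W = ⊥ ∨ W = ⊤) :
    finrank F ↥A = finrank F V := by
  obtain ⟨v₀, hv₀⟩ := exists_ne (0 : V)
  let ev : ↥A →ₗ[F] V :=
    { toFun := fun a => (a : Module.End F V) v₀
      map_add' := fun a b => by simp
      map_smul' := fun c a => by simp }
  have hev : ∀ a : ↥A, ev a = (a : Module.End F V) v₀ := fun _ => rfl
  have hinj : Function.Injective ev := by
    rw [← LinearMap.ker_eq_bot, LinearMap.ker_eq_bot']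
    intro a ha
    by_contra h0
    have hi := h6sq_inj A hcomm hirr a.1 a.2 (fun h => h0 (Subtype.ext h))
    apply hv₀
    apply hi
    rw [map_zero]
    exact ha
  have hrange : LinearMap.range ev = ⊤ := by
    have hinv : ∀ a ∈ A, ∀ w ∈ LinearMap.range ev, a w ∈ LinearMap.range ev := by
      rintro a ha w ⟨b, rfl⟩
      exact ⟨⟨a, ha⟩ * b, rfl⟩
    rcases hirr _ hinv with h | h
    · exfalso
      apply hv₀
      have h1 : v₀ ∈ LinearMap.range ev := ⟨1, by rw [hev]; simp⟩
      rw [h] at h1
      exact (Submodule.mem_bot F).1 h1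
    · exact h
  exact (LinearEquiv.ofBijective ev ⟨hinj, LinearMap.range_eq_top.1 hrange⟩).finrank_eq

/-- the commutative ring structure -/
@[reducible] def h6sqCommRing (A : Subalgebra F (Module.End F V))
    (hcomm : ∀ a ∈ A, ∀ b ∈ A, a * b = b * a) : CommRing ↥A :=
  { (inferInstance : Ring ↥A) with
    mul_comm := fun a b => Subtype.ext (hcomm a.1 a.2 b.1 b.2) }

theorem h6sq_noZeroDivisors (A : Subalgebra F (Module.End F V))
    (hcomm : ∀ a ∈ A, ∀ b ∈ A, a * b = b * a)
    (hirr : ∀ W : Submodule F V, (∀ a ∈ A, ∀ w ∈ W, a w ∈ W) → W = ⊥ ∨ W = ⊤)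
    (K : Subalgebra F (Module.End F V)) (hK : K ≤ A) (a b : ↥K) (hab : a * b = 0) :
    a = 0 ∨ b = 0 := by
  by_cases ha : a = 0
  · exact Or.inl ha
  · right
    have hi := h6sq_inj A hcomm hirr a.1 (hK a.2) (fun h => ha (Subtype.ext h))
    apply Subtype.ext
    apply LinearMap.ext
    intro v
    apply hi
    have h1 := congrArg (fun x : ↥K => (x : Module.End F V) v) hab
    simpa [h6sq_mul_apply] using h1

end alg

section form

variable {F : Type*} [Field F] {V : Type*} [AddCommGroup V] [Module F V]

/-- the self-adjoint elements of a commutative algebra of endomorphisms -/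
def h6sqK (B : LinearMap.BilinForm F V) (A : Subalgebra F (Module.End F V))
    (hcomm : ∀ a ∈ A, ∀ b ∈ A, a * b = b * a) : Subalgebra F (Module.End F V) where
  carrier := {a | a ∈ A ∧ ∀ u v, B (a u) v = B u (a v)}
  mul_mem' := by
    rintro a b ⟨ha, ha'⟩ ⟨hb, hb'⟩
    refine ⟨A.mul_mem ha hb, fun u v => ?_⟩
    rw [h6sq_mul_apply, ha', hb', ← h6sq_mul_apply, ← hcomm a ha b hb]
  one_mem' := ⟨A.one_mem, fun u v => rfl⟩
  add_mem' := by
    rintro a b ⟨ha, ha'⟩ ⟨hb, hb'⟩
    refine ⟨A.add_mem ha hb, fun u v => ?_⟩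
    rw [LinearMap.add_apply, map_add, LinearMap.add_apply, ha', hb', LinearMap.add_apply, map_add]
  zero_mem' := ⟨A.zero_mem, fun u v => by simp⟩
  algebraMap_mem' := by
    intro c
    refine ⟨A.algebraMap_mem c, fun u v => ?_⟩
    simp [Module.algebraMap_end_apply]

theorem h6sq_mem_K (B : LinearMap.BilinForm F V) (A : Subalgebra F (Module.End F V))
    (hcomm : ∀ a ∈ A, ∀ b ∈ A, a * b = b * a) (a : Module.End F V) :
    a ∈ h6sqK B A hcomm ↔ a ∈ A ∧ ∀ u v, B (a u) v = B u (a v) := Iff.rfl

/-- the skew-adjoint elements -/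
def h6sqM (B : LinearMap.BilinForm F V) (A : Subalgebra F (Module.End F V)) :
    Submodule F (Module.End F V) where
  carrier := {a | a ∈ A ∧ ∀ u v, B (a u) v = - B u (a v)}
  add_mem' := by
    rintro a b ⟨ha, ha'⟩ ⟨hb, hb'⟩
    refine ⟨A.add_mem ha hb, fun u v => ?_⟩
    rw [LinearMap.add_apply, map_add, LinearMap.add_apply, ha', hb', LinearMap.add_apply, map_add]
    ring
  zero_mem' := ⟨A.zero_mem, fun u v => by simp⟩
  smul_mem' := by
    rintro c a ⟨ha, ha'⟩
    refine ⟨A.smul_mem ha c, fun u v => ?_⟩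
    rw [LinearMap.smul_apply, map_smul, LinearMap.smul_apply, LinearMap.smul_apply, ha', map_smul]
    simp

theorem h6sq_mem_M (B : LinearMap.BilinForm F V) (A : Subalgebra F (Module.End F V))
    (a : Module.End F V) :
    a ∈ h6sqM B A ↔ a ∈ A ∧ ∀ u v, B (a u) v = - B u (a v) := Iff.rfl

end form

section main

variable {F : Type*} [Field F] [Fintype F] {V : Type*} [AddCommGroup V] [Module F V]
  [FiniteDimensional F V]

/-- MAIN (irreducible case with a form): `A` a commutative irreducible algebra of endomorphisms of the `2n`-space `V`, closed under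
adjoints for the nondegenerate skew form `B`, containing a skew-adjoint `z` with `z * z = -1`.  Then `q^n ≡ 3 (mod 4)`, and every
`a ∈ A` with `a^(q^n) = a` is self-adjoint. -/
theorem h6sq_main (h2 : (2 : F) ≠ 0) (B : LinearMap.BilinForm F V)
    (hsk : ∀ u v, B u v = - B v u) (hnd : ∀ u, (∀ v, B u v = 0) → u = 0)
    (A : Subalgebra F (Module.End F V))
    (hcomm : ∀ a ∈ A, ∀ b ∈ A, a * b = b * a)
    (hirr : ∀ W : Submodule F V, (∀ a ∈ A, ∀ w ∈ W, a w ∈ W) → W = ⊥ ∨ W = ⊤)
    (hadj : ∀ a ∈ A, ∃ a' ∈ A, ∀ u v, B (a u) v = B u (a' v))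
    (z : Module.End F V) (hzA : z ∈ A) (hz2 : z * z = -1)
    (hzadj : ∀ u v, B (z u) v = - B u (z v))
    (n : ℕ) (hn : 1 ≤ n) (hdim : finrank F V = 2 * n) :
    Fintype.card F ^ n % 4 = 3 ∧
      ∀ a ∈ A, a ^ (Fintype.card F ^ n) = a → ∀ u v, B (a u) v = B u (a v) := by
  classical
  haveI : Nontrivial V := Module.nontrivial_of_finrank_pos (R := F) (by omega)
  have hndr : ∀ w, (∀ u, B u w = 0) → w = 0 := by
    intro w hw
    apply hnd
    intro v
    rw [hsk, hw, neg_zero]
  set K := h6sqK B A hcomm with hKdef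
  set M := h6sqM B A with hMdef
  have hKA : K ≤ A := fun a ha => ha.1
  have hA : finrank F ↥A = 2 * n := by rw [h6sq_finrank A hcomm hirr, hdim]
  have hsup : Subalgebra.toSubmodule K ⊔ M = Subalgebra.toSubmodule A := by
    apply le_antisymm
    · apply sup_le
      · intro a ha
        exact ha.1
      · intro a ha
        exact ha.1
    · intro a ha
      obtain ⟨a', ha', hadj'⟩ := hadj a ha
      have hadj'' : ∀ u v, B (a' u) v = B u (a v) := by
        intro u v
        rw [hsk, ← hadj', hsk, neg_neg]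
      rw [Submodule.mem_sup]
      refine ⟨(2 : F)⁻¹ • (a + a'), ?_, (2 : F)⁻¹ • (a - a'), ?_, ?_⟩
      · refine ⟨A.smul_mem (A.add_mem ha ha') _, fun u v => ?_⟩
        simp only [LinearMap.smul_apply, LinearMap.add_apply, map_smul, map_add, hadj', hadj'',
          smul_eq_mul]
        ring
      · refine ⟨A.smul_mem (A.sub_mem ha ha') _, fun u v => ?_⟩
        simp only [LinearMap.smul_apply, LinearMap.sub_apply, map_smul, map_sub, hadj', hadj'',
          smul_eq_mul]
        ring
      · rw [← smul_add, add_add_sub_cancel, ← two_smul F a, smul_smul, inv_mul_cancel₀ h2,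
          one_smul]
  have hinf : Subalgebra.toSubmodule K ⊓ M = ⊥ := by
    rw [eq_bot_iff]
    rintro a ⟨haK, haM⟩
    rw [Submodule.mem_bot]
    apply LinearMap.ext
    intro v
    apply hndr
    intro u
    have h1 := haK.2 u v
    have h3 := haM.2 u v
    rw [h1] at h3
    have h4 : (2 : F) * B u (a v) = 0 := by linear_combination h3
    rcases mul_eq_zero.1 h4 with h | h
    · exact absurd h h2
    · simpa using h
  -- multiplication by `z` exchanges `K` and `M`
  have hzz : (-z) * z = 1 := by rw [neg_mul, hz2, neg_neg]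
  let L : Module.End F V →ₗ[F] Module.End F V := LinearMap.mulLeft F z
  have hL : ∀ a, L a = z * a := fun a => rfl
  have hLinj : Function.Injective L := by
    intro a b hab
    rw [hL, hL] at hab
    have := congrArg (fun x => (-z) * x) hab
    simpa [← mul_assoc, hzz] using this
  have hKM : (Subalgebra.toSubmodule K).map L ≤ M := by
    rintro _ ⟨k, hk, rfl⟩
    refine ⟨A.mul_mem hzA hk.1, fun u v => ?_⟩
    rw [hL, h6sq_mul_apply, hzadj, hk.2, ← h6sq_mul_apply, hcomm z hzA k hk.1]
  have hMK : M.map L ≤ Subalgebra.toSubmodule K := by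
    rintro _ ⟨m, hm, rfl⟩
    refine ⟨A.mul_mem hzA hm.1, fun u v => ?_⟩
    rw [hL, h6sq_mul_apply, hzadj, hm.2, neg_neg, ← h6sq_mul_apply, hcomm z hzA m hm.1]
  have hfKM : finrank F ↥(Subalgebra.toSubmodule K) ≤ finrank F ↥M := by
    rw [(Submodule.equivMapOfInjective L hLinj (Subalgebra.toSubmodule K)).finrank_eq]
    exact Submodule.finrank_mono hKM
  have hfMK : finrank F ↥M ≤ finrank F ↥(Subalgebra.toSubmodule K) := by
    rw [(Submodule.equivMapOfInjective L hLinj M).finrank_eq]
    exact Submodule.finrank_mono hMK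
  have hsum := Submodule.finrank_sup_add_finrank_inf_eq (Subalgebra.toSubmodule K) M
  rw [hsup, hinf, finrank_bot, add_zero] at hsum
  have hKn : finrank F ↥K = n := by
    have h1 : finrank F ↥(Subalgebra.toSubmodule A) = finrank F ↥A := rfl
    have h2' : finrank F ↥(Subalgebra.toSubmodule K) = finrank F ↥K := rfl
    omega
  have hcardK : Nat.card ↥K = Fintype.card F ^ n := by
    rw [Module.natCard_eq_pow_finrank (K := F) (V := ↥K), hKn, Nat.card_eq_fintype_card]
  have hcommK : ∀ a ∈ K, ∀ b ∈ K, a * b = b * a := fun a ha b hb => hcomm a (hKA ha) b (hKA hb)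
  have h01 : (0 : Module.End F V) ≠ 1 := by
    intro h
    obtain ⟨v, hv⟩ := exists_ne (0 : V)
    apply hv
    have := congrArg (fun f : Module.End F V => f v) h
    simpa using this.symm
  haveI : Finite (Module.End F V) := Module.finite_of_finite F
  letI crK : CommRing ↥K := h6sqCommRing K hcommK
  haveI nzK : NoZeroDivisors ↥K :=
    ⟨fun {a b} hab => h6sq_noZeroDivisors A hcomm hirr K hKA a b hab⟩
  haveI ntK : Nontrivial ↥K := ⟨⟨0, 1, fun h => h01 (congrArg Subtype.val h)⟩⟩
  haveI : IsDomain ↥K := NoZeroDivisors.to_isDomain ↥K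
  refine ⟨?_, ?_⟩
  · by_contra h3
    have h3' : Nat.card ↥K % 4 ≠ 3 := by rw [hcardK]; exact h3
    obtain ⟨i, hi⟩ := (h6sq_neg_one_iff ↥K).2 h3'
    have hi' : (i : Module.End F V) * (i : Module.End F V) = -1 := by
      have := congrArg (fun x : ↥K => (x : Module.End F V)) hi
      simpa using this
    have hc : z * (i : Module.End F V) = i * z := hcomm z hzA i (hKA i.2)
    have hprod : (z - (i : Module.End F V)) * (z + i) = 0 := by
      calc (z - (i : Module.End F V)) * (z + i)
          = z * z - (i : Module.End F V) * i + (z * i - i * z) := by noncomm_ring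
        _ = 0 := by rw [hz2, hi', hc]; simp
    have hzK : z ∈ K := by
      by_cases h0 : z - (i : Module.End F V) = 0
      · rw [sub_eq_zero.1 h0]
        exact i.2
      · have hinj := h6sq_inj A hcomm hirr (z - i) (A.sub_mem hzA (hKA i.2)) h0
        have h1 : z + (i : Module.End F V) = 0 := by
          apply LinearMap.ext
          intro v
          apply hinj
          rw [← h6sq_mul_apply, hprod]
          simp
        rw [eq_neg_of_add_eq_zero_left h1]
        exact K.neg_mem i.2
    have hz0 : z ∈ Subalgebra.toSubmodule K ⊓ M := ⟨hzK, hzA, hzadj⟩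
    rw [hinf, Submodule.mem_bot] at hz0
    rw [hz0, mul_zero] at hz2
    apply h01
    have := congrArg (fun x : Module.End F V => -x) hz2
    simpa using this
  · intro a ha haN
    set N := Fintype.card F ^ n with hNdef
    have hN2 : 2 ≤ N := by
      have h1 : 1 < Fintype.card F := Fintype.one_lt_card
      have : 1 < Fintype.card F ^ n := Nat.one_lt_pow (by omega) h1
      omega
    letI crA : CommRing ↥A := h6sqCommRing A hcomm
    haveI nzA : NoZeroDivisors ↥A :=
      ⟨fun {a b} hab => h6sq_noZeroDivisors A hcomm hirr A le_rfl a b hab⟩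
    haveI ntA : Nontrivial ↥A := ⟨⟨0, 1, fun h => h01 (congrArg Subtype.val h)⟩⟩
    haveI : IsDomain ↥A := NoZeroDivisors.to_isDomain ↥A
    letI := Fintype.ofFinite ↥K
    let incl : ↥K → ↥A := fun k => ⟨k.1, hKA k.2⟩
    have hincl : Function.Injective incl := by
      intro k k' h
      apply Subtype.ext
      have h1 := congrArg (fun x : ↥A => (x : Module.End F V)) h
      exact h1
    let S : Finset ↥A := insert ⟨a, ha⟩ (Finset.univ.image incl)
    have hS : ∀ x ∈ S, x ^ N = x := by
      intro x hx
      rw [Finset.mem_insert] at hx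
      rcases hx with rfl | hx
      · apply Subtype.ext
        simpa using haN
      · obtain ⟨k, -, rfl⟩ := Finset.mem_image.1 hx
        have hk := h6sq_pow_card ↥K k
        rw [hcardK] at hk
        apply Subtype.ext
        have := congrArg (fun x : ↥K => (x : Module.End F V)) hk
        simpa using this
    have hle := h6sq_roots_le ↥A N hN2 S hS
    by_contra hne
    have hnotin : (⟨a, ha⟩ : ↥A) ∉ Finset.univ.image incl := by
      intro hmem
      obtain ⟨k, -, hk⟩ := Finset.mem_image.1 hmem
      apply hne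
      intro u v
      have h1 : k.1 = a := congrArg Subtype.val hk
      rw [← h1]
      exact k.2.2 u v
    rw [Finset.card_insert_of_notMem hnotin, Finset.card_image_of_injective _ hincl,
      Finset.card_univ, ← Nat.card_eq_fintype_card, hcardK] at hle
    omega

end main

section noform

variable {F : Type*} [Field F] [Fintype F] {V : Type*} [AddCommGroup V] [Module F V]
  [FiniteDimensional F V]

/-- without a form: a commutative irreducible algebra containing a square root of `-1` -/
theorem h6sq_noform (hodd : Odd (Fintype.card F)) [Nontrivial V]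
    (A : Subalgebra F (Module.End F V))
    (hcomm : ∀ a ∈ A, ∀ b ∈ A, a * b = b * a)
    (hirr : ∀ W : Submodule F V, (∀ a ∈ A, ∀ w ∈ W, a w ∈ W) → W = ⊥ ∨ W = ⊤)
    (z : Module.End F V) (hzA : z ∈ A) (hz2 : z * z = -1) :
    Fintype.card F ^ finrank F V % 4 = 1 := by
  classical
  have hA : finrank F ↥A = finrank F V := h6sq_finrank A hcomm hirr
  have hcardA : Nat.card ↥A = Fintype.card F ^ finrank F V := by
    rw [Module.natCard_eq_pow_finrank (K := F) (V := ↥A), hA, Nat.card_eq_fintype_card]
  have h01 : (0 : Module.End F V) ≠ 1 := by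
    intro h
    obtain ⟨v, hv⟩ := exists_ne (0 : V)
    apply hv
    have := congrArg (fun f : Module.End F V => f v) h
    simpa using this.symm
  haveI : Finite (Module.End F V) := Module.finite_of_finite F
  letI crA : CommRing ↥A := h6sqCommRing A hcomm
  haveI nzA : NoZeroDivisors ↥A :=
    ⟨fun {a b} hab => h6sq_noZeroDivisors A hcomm hirr A le_rfl a b hab⟩
  haveI ntA : Nontrivial ↥A := ⟨⟨0, 1, fun h => h01 (congrArg Subtype.val h)⟩⟩
  haveI : IsDomain ↥A := NoZeroDivisors.to_isDomain ↥A
  have h3 : Nat.card ↥A % 4 ≠ 3 := by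
    apply (h6sq_neg_one_iff ↥A).1
    refine ⟨⟨z, hzA⟩, ?_⟩
    apply Subtype.ext
    simpa using hz2
  rw [hcardA] at h3
  have ho : Odd (Fintype.card F ^ finrank F V) := hodd.pow
  obtain ⟨t, ht⟩ := ho
  omega

end noform

section gen

variable {F : Type*} [Field F] {V : Type*} [AddCommGroup V] [Module F V]

theorem h6sq_adjoin_comm (y z : Module.End F V) (hc : Commute z y) :
    ∀ a ∈ Algebra.adjoin F ({y, z} : Set (Module.End F V)),
      ∀ b ∈ Algebra.adjoin F ({y, z} : Set (Module.End F V)), a * b = b * a := by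
  have hg : ∀ a ∈ ({y, z} : Set (Module.End F V)), ∀ b ∈ ({y, z} : Set (Module.End F V)),
      a * b = b * a := by
    intro a ha b hb
    rcases ha with rfl | ha <;> rcases hb with rfl | hb
    · rfl
    · rw [Set.mem_singleton_iff.1 hb]; exact hc.eq.symm
    · rw [Set.mem_singleton_iff.1 ha]; exact hc.eq
    · rw [Set.mem_singleton_iff.1 ha, Set.mem_singleton_iff.1 hb]
  have h1 := isMulCommutative_iff.1 (Algebra.isMulCommutative_adjoin F hg)
  intro a ha b hb
  exact congrArg Subtype.val (h1 ⟨a, ha⟩ ⟨b, hb⟩)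

/-- a subspace invariant under `y` and `z` is invariant under the algebra they generate -/
theorem h6sq_adjoin_inv (y z : Module.End F V) (W : Submodule F V) (hy : ∀ w ∈ W, y w ∈ W)
    (hz : ∀ w ∈ W, z w ∈ W) :
    ∀ a ∈ Algebra.adjoin F ({y, z} : Set (Module.End F V)), ∀ w ∈ W, a w ∈ W := by
  intro a ha
  induction ha using Algebra.adjoin_induction with
  | mem x hx =>
    rcases hx with rfl | hx
    · exact hy
    · rw [Set.mem_singleton_iff.1 hx]; exact hz
  | algebraMap c =>
    intro w hw
    rw [Module.algebraMap_end_apply]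
    exact W.smul_mem c hw
  | add a b _ _ iha ihb =>
    intro w hw
    rw [LinearMap.add_apply]
    exact W.add_mem (iha w hw) (ihb w hw)
  | mul a b _ _ iha ihb =>
    intro w hw
    rw [h6sq_mul_apply]
    exact iha _ (ihb w hw)

/-- the algebra generated by two isometries (one of finite order, one with square `-1`) is closed under adjoints -/
theorem h6sq_adjoin_adj (B : LinearMap.BilinForm F V) (y z : Module.End F V)
    (hy : ∀ u v, B (y u) (y v) = B u v) (hz : ∀ u v, B (z u) (z v) = B u v)
    (hz2 : z * z = -1) (r : ℕ) (hr : 0 < r) (hyr : y ^ r = 1) :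
    ∀ a ∈ Algebra.adjoin F ({y, z} : Set (Module.End F V)),
      ∃ a' ∈ Algebra.adjoin F ({y, z} : Set (Module.End F V)), ∀ u v, B (a u) v = B u (a' v) := by
  have hyA : y ∈ Algebra.adjoin F ({y, z} : Set (Module.End F V)) :=
    Algebra.subset_adjoin (Set.mem_insert _ _)
  have hzA : z ∈ Algebra.adjoin F ({y, z} : Set (Module.End F V)) :=
    Algebra.subset_adjoin (Set.mem_insert_of_mem _ rfl)
  intro a ha
  induction ha using Algebra.adjoin_induction with
  | mem x hx =>
    rcases hx with rfl | hx
    · refine ⟨x ^ (r - 1), Subalgebra.pow_mem _ hyA _, fun u v => ?_⟩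
      have h1 : x * x ^ (r - 1) = 1 := by rw [← pow_succ', Nat.sub_add_cancel hr, hyr]
      have h2 : x ((x ^ (r - 1)) v) = v := by rw [← h6sq_mul_apply, h1]; rfl
      rw [← hy u ((x ^ (r - 1)) v), h2]
    · rw [Set.mem_singleton_iff.1 hx]
      refine ⟨-z, Subalgebra.neg_mem _ hzA, fun u v => ?_⟩
      have h1 : z * (-z) = 1 := by rw [mul_neg, hz2, neg_neg]
      have h2 : z ((-z) v) = v := by rw [← h6sq_mul_apply, h1]; rfl
      rw [← hz u ((-z) v), h2]
  | algebraMap c =>
    refine ⟨algebraMap F _ c, Subalgebra.algebraMap_mem _ c, fun u v => ?_⟩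
    simp [Module.algebraMap_end_apply]
  | add a b _ _ iha ihb =>
    obtain ⟨a', ha', ha''⟩ := iha
    obtain ⟨b', hb', hb''⟩ := ihb
    refine ⟨a' + b', Subalgebra.add_mem _ ha' hb', fun u v => ?_⟩
    rw [LinearMap.add_apply, map_add, LinearMap.add_apply, ha'', hb'', LinearMap.add_apply,
      map_add]
  | mul a b _ _ iha ihb =>
    obtain ⟨a', ha', ha''⟩ := iha
    obtain ⟨b', hb', hb''⟩ := ihb
    refine ⟨b' * a', Subalgebra.mul_mem _ hb' ha', fun u v => ?_⟩
    rw [h6sq_mul_apply, ha'', hb'', h6sq_mul_apply]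

end gen

section final

variable {F : Type*} [Field F] [Fintype F] {V : Type*} [AddCommGroup V] [Module F V]
  [FiniteDimensional F V]

/-- TYPE CONDITION: `y`, `z` commuting isometries of a nondegenerate skew form on a `2n`-space over `F_q` (`q` odd), `y` of finite order,
`z * z = -1`, all `y`-invariant subspaces of dimension divisible by `d`.  If `d = 2n` then `q^n ≡ 3 (mod 4)`; if `d = n` (and `y^(q^n) = y`,
`y² ≠ 1`) then `q^n ≡ 1 (mod 4)`. -/
theorem h6sq_type (hodd : Odd (Fintype.card F)) (B : LinearMap.BilinForm F V)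
    (hsk : ∀ u v, B u v = - B v u) (hnd : ∀ u, (∀ v, B u v = 0) → u = 0)
    (y z : Module.End F V) (hy : ∀ u v, B (y u) (y v) = B u v)
    (hz : ∀ u v, B (z u) (z v) = B u v) (hc : Commute z y) (hz2 : z * z = -1)
    (r : ℕ) (hr : 0 < r) (hyr : y ^ r = 1) (d n : ℕ) (hn : 1 ≤ n)
    (hdim : finrank F V = 2 * n)
    (hdiv : ∀ W : Submodule F V, (∀ w ∈ W, y w ∈ W) → d ∣ finrank F W) :
    (d = 2 * n → Fintype.card F ^ n % 4 = 3) ∧
      (d = n → y ^ (Fintype.card F ^ n) = y → y * y ≠ 1 → Fintype.card F ^ n % 4 = 1) := by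
  classical
  have h2 : (2 : F) ≠ 0 := by
    apply Ring.two_ne_zero
    intro h
    have := FiniteField.even_card_iff_char_two.1 h
    obtain ⟨t, ht⟩ := hodd
    omega
  have hndr : ∀ w, (∀ u, B u w = 0) → w = 0 := by
    intro w hw
    apply hnd
    intro v
    rw [hsk, hw, neg_zero]
  set A := Algebra.adjoin F ({y, z} : Set (Module.End F V)) with hAdef
  have hyA : y ∈ A := Algebra.subset_adjoin (Set.mem_insert _ _)
  have hzA : z ∈ A := Algebra.subset_adjoin (Set.mem_insert_of_mem _ rfl)
  have hcommA := h6sq_adjoin_comm y z hc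
  have hadjA := h6sq_adjoin_adj B y z hy hz hz2 r hr hyr
  have hzadj : ∀ u v, B (z u) v = - B u (z v) := by
    intro u v
    have h1 : z * (-z) = 1 := by rw [mul_neg, hz2, neg_neg]
    have h3 : z ((-z) v) = v := by rw [← h6sq_mul_apply, h1]; rfl
    have h4 : B (z u) v = B u ((-z) v) := by
      conv_lhs => rw [← h3]
      exact hz u ((-z) v)
    rw [h4, LinearMap.neg_apply, map_neg]
  refine ⟨fun hd => ?_, fun hd hyN hyy => ?_⟩
  · have hirr : ∀ W : Submodule F V, (∀ a ∈ A, ∀ w ∈ W, a w ∈ W) → W = ⊥ ∨ W = ⊤ := by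
      intro W hW
      obtain ⟨k, hk⟩ := hdiv W (hW y hyA)
      have hle : finrank F W ≤ finrank F V := Submodule.finrank_le W
      rcases Nat.eq_zero_or_pos k with h0 | h0
      · left
        apply Submodule.finrank_eq_zero.1
        rw [hk, h0, mul_zero]
      · right
        apply Submodule.eq_top_of_finrank_eq
        have : 2 * n ≤ d * k := by rw [hd]; exact Nat.le_mul_of_pos_right _ h0
        omega
    exact (h6sq_main h2 B hsk hnd A hcommA hirr hadjA z hzA hz2 hzadj n hn hdim).1
  · by_cases hirrV : ∀ W : Submodule F V, (∀ w ∈ W, y w ∈ W) → (∀ w ∈ W, z w ∈ W) →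
        W = ⊥ ∨ W = ⊤
    · exfalso
      have hirr : ∀ W : Submodule F V, (∀ a ∈ A, ∀ w ∈ W, a w ∈ W) → W = ⊥ ∨ W = ⊤ :=
        fun W hW => hirrV W (hW y hyA) (hW z hzA)
      have hsa := (h6sq_main h2 B hsk hnd A hcommA hirr hadjA z hzA hz2 hzadj n hn hdim).2 y hyA
        hyN
      apply hyy
      apply LinearMap.ext
      intro v
      rw [h6sq_mul_apply, Module.End.one_apply]
      have h0 : y (y v) - v = 0 := by
        apply hndr
        intro u
        rw [map_sub, ← hsa, hy, sub_self]
      exact sub_eq_zero.1 h0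
    · push Not at hirrV
      obtain ⟨W, hWy, hWz, hW0, hW1⟩ := hirrV
      have hfW : finrank F W = n := by
        obtain ⟨k, hk⟩ := hdiv W hWy
        have hlt : finrank F W < finrank F V := Submodule.finrank_lt hW1
        have hpos : 0 < finrank F W := by
          rw [Nat.pos_iff_ne_zero]
          intro h
          exact hW0 (Submodule.finrank_eq_zero.1 h)
        rw [hd] at hk
        have hk1 : k = 1 := by
          rcases Nat.lt_or_ge k 2 with h | h
          · rcases Nat.eq_zero_or_pos k with h0 | h0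
            · rw [h0, mul_zero] at hk; omega
            · omega
          · have : n * 2 ≤ n * k := Nat.mul_le_mul_left n h
            omega
        rw [hk, hk1, mul_one]
      haveI : Nontrivial ↥W := Submodule.nontrivial_iff_ne_bot.2 hW0
      let yW : Module.End F ↥W := y.restrict hWy
      let zW : Module.End F ↥W := z.restrict hWz
      have hyW : ∀ w : ↥W, ((yW w : ↥W) : V) = y w := fun w => rfl
      have hzW : ∀ w : ↥W, ((zW w : ↥W) : V) = z w := fun w => rfl
      have hcW : Commute zW yW := by
        apply LinearMap.ext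
        intro w
        apply Subtype.ext
        rw [h6sq_mul_apply, h6sq_mul_apply, hzW, hyW, hyW, hzW, ← h6sq_mul_apply,
          ← h6sq_mul_apply, hc.eq]
      have hzW2 : zW * zW = -1 := by
        apply LinearMap.ext
        intro w
        apply Subtype.ext
        rw [h6sq_mul_apply, hzW, hzW, ← h6sq_mul_apply, hz2]
        simp
      set AW := Algebra.adjoin F ({yW, zW} : Set (Module.End F ↥W)) with hAWdef
      have hyAW : yW ∈ AW := Algebra.subset_adjoin (Set.mem_insert _ _)
      have hzAW : zW ∈ AW := Algebra.subset_adjoin (Set.mem_insert_of_mem _ rfl)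
      have hirrW : ∀ W' : Submodule F ↥W, (∀ a ∈ AW, ∀ w ∈ W', a w ∈ W') →
          W' = ⊥ ∨ W' = ⊤ := by
        intro W' hW'
        have hinv : ∀ w ∈ W'.map W.subtype, y w ∈ W'.map W.subtype := by
          rintro _ ⟨w', hw', rfl⟩
          exact ⟨yW w', hW' yW hyAW w' hw', rfl⟩
        obtain ⟨k, hk⟩ := hdiv _ hinv
        have he : finrank F ↥(W'.map W.subtype) = finrank F ↥W' :=
          (Submodule.equivMapOfInjective W.subtype W.injective_subtype W').finrank_eq.symm
        have hle : finrank F ↥W' ≤ finrank F ↥W := Submodule.finrank_le W'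
        rw [he, hd] at hk
        rcases Nat.eq_zero_or_pos k with h0 | h0
        · left
          apply Submodule.finrank_eq_zero.1
          rw [hk, h0, mul_zero]
        · right
          apply Submodule.eq_top_of_finrank_eq
          have : n ≤ n * k := Nat.le_mul_of_pos_right _ h0
          omega
      have hres := h6sq_noform hodd AW (h6sq_adjoin_comm yW zW hcW) hirrW zW hzAW hzW2
      rw [hfW] at hres
      exact hres

end final

end Cfsg.Agent.Lib.helper6.SqrtM1
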