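import Mathlib
import Cfsg.Agent.Lib.Lead.BCG.Defs
import Cfsg.Agent.Lib.helper6.SqrtM1
import Cfsg.Agent.Lib.helper6.Symp
import Cfsg.Agent.Lib.helper17.BCSA4
import Cfsg.Agent.Lib.helper7.BCSA3
import Cfsg.Agent.Lib.Helper20.S5956O5
import Cfsg.Agent.Lib.Lead.S5955T2
import Cfsg.Agent.Lib.helper8.S5955X1

set_option autoImplicit false

/-!
# Project BCG, row S4 (helper6): the TYPE CONDITION for a square root of `-1` commuting with an element of order `s`, `c(s) = 2n`,
proved directly on the symplectic side (replaces `sq_neg_build` + O6 in the proof of S7).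
-/

namespace Cfsg.Agent.Lib.Lead.BCG

open Polynomial Module Matrix Cfsg.Agent.Lib.Helper13.S5955 Cfsg.Agent.Lib.helper15.S5972
  Cfsg.Agent.Lib.Helper18.ONE Cfsg.Agent.Lib.Lead.BCS

theorem bcgs4_toLin_pow {F : Type*} [Field F] {ι : Type*} [Fintype ι] [DecidableEq ι]
    (M : Matrix ι ι F) (k : ℕ) : Matrix.toLin' (M ^ k) = (Matrix.toLin' M) ^ k := by
  induction k with
  | zero => rw [pow_zero, pow_zero, Matrix.toLin'_one]; rfl
  | succ k ih => rw [pow_succ, pow_succ, Matrix.toLin'_mul, ih]; rfl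

theorem bcgs4_coe_pow {F : Type*} [Field F] (n : ℕ) (y : Matrix.symplecticGroup (Fin n) F)
    (k : ℕ) : ((y ^ k : Matrix.symplecticGroup (Fin n) F) :
      Matrix (Fin n ⊕ Fin n) (Fin n ⊕ Fin n) F) =
      (y : Matrix (Fin n ⊕ Fin n) (Fin n ⊕ Fin n) F) ^ k := by
  induction k with
  | zero => rfl
  | succ k ih => rw [pow_succ, pow_succ, ← ih]; rfl

/-- S4' (helper6): the type condition, directly -/
theorem bcgs4_type {F : Type*} [Field F] [Fintype F] {p : ℕ} [Fact p.Prime] [CharP F p]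
    (hodd : Odd (Fintype.card F)) (n : ℕ) (hn : 1 ≤ n) (s : ℕ) [Fact s.Prime] (hsp : s ≠ p)
    (hs2 : s ≠ 2) (hc : cOf (Fintype.card F) s = 2 * n)
    (t y : Matrix.symplecticGroup (Fin n) F) (hty : Commute t y) (hy : orderOf y = s)
    (ht : t * t = Cfsg.Agent.S0246.negOne F n) :
    (Odd (orderOf ((Fintype.card F : ℕ) : ZMod s)) ↔ Fintype.card F ^ n % 4 = 1) := by
  classical
  have hsprime : s.Prime := Fact.out
  set q := Fintype.card F with hq
  set y' : Module.End F (Fin n ⊕ Fin n → F) :=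
    Matrix.toLin' (y : Matrix (Fin n ⊕ Fin n) (Fin n ⊕ Fin n) F) with hy'
  set z : Module.End F (Fin n ⊕ Fin n → F) :=
    Matrix.toLin' (t : Matrix (Fin n ⊕ Fin n) (Fin n ⊕ Fin n) F) with hz
  -- powers
  have hpow : ∀ k : ℕ, y' ^ k = Matrix.toLin' ((y ^ k : Matrix.symplecticGroup (Fin n) F) :
      Matrix (Fin n ⊕ Fin n) (Fin n ⊕ Fin n) F) := by
    intro k
    rw [bcgs4_coe_pow, bcgs4_toLin_pow]
  have hone : ∀ g : Matrix.symplecticGroup (Fin n) F,
      Matrix.toLin' (g : Matrix (Fin n ⊕ Fin n) (Fin n ⊕ Fin n) F) = 1 → g = 1 := by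
    intro g hg
    apply Subtype.ext
    apply Matrix.toLin'.injective
    rw [hg]
    exact Matrix.toLin'_one.symm
  have hys : y' ^ s = 1 := by
    rw [hpow, ← hy, pow_orderOf_eq_one]
    exact Matrix.toLin'_one
  have hzz : z * z = -1 := by
    have h1 : z * z = Matrix.toLin' ((t * t : Matrix.symplecticGroup (Fin n) F) :
        Matrix (Fin n ⊕ Fin n) (Fin n ⊕ Fin n) F) := by
      rw [hz]
      exact (Matrix.toLin'_mul _ _).symm
    rw [h1, ht, Cfsg.Agent.S0246.negOne_coe, map_neg, Matrix.toLin'_one]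
    rfl
  have hcomm : Commute z y' := by
    have h1 : z * y' = Matrix.toLin' ((t * y : Matrix.symplecticGroup (Fin n) F) :
        Matrix (Fin n ⊕ Fin n) (Fin n ⊕ Fin n) F) := (Matrix.toLin'_mul _ _).symm
    have h2 : y' * z = Matrix.toLin' ((y * t : Matrix.symplecticGroup (Fin n) F) :
        Matrix (Fin n ⊕ Fin n) (Fin n ⊕ Fin n) F) := (Matrix.toLin'_mul _ _).symm
    show z * y' = y' * z
    rw [h1, h2, hty.eq]
  -- isometries
  have hiso : ∀ g : Matrix.symplecticGroup (Fin n) F, ∀ u v,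
      stdB n F (Matrix.toLin' (g : Matrix (Fin n ⊕ Fin n) (Fin n ⊕ Fin n) F) u)
        (Matrix.toLin' (g : Matrix (Fin n ⊕ Fin n) (Fin n ⊕ Fin n) F) v) = stdB n F u v := by
    intro g u v
    rw [stdB_apply, stdB_apply, Matrix.toLin'_apply, Matrix.toLin'_apply]
    exact (Cfsg.Agent.Lib.helper6.mem_symplecticGroup_iff_sympForm n _).1 g.2 u v
  obtain ⟨halt, hnd⟩ := stdB_alt_nd (F := F) n
  have hsk : ∀ u v, stdB n F u v = - stdB n F v u := by
    intro u v
    have h1 := halt (u + v)
    simp only [map_add, LinearMap.add_apply] at h1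
    linear_combination h1 - halt u - halt v
  have hctx : SCtx s (stdB n F) y' := ⟨halt, hnd, hiso y, hys⟩
  have hy1 : y ≠ 1 := by
    intro h
    rw [h, orderOf_one] at hy
    exact hsprime.one_lt.ne hy
  have hy'1 : y' ≠ 1 := fun h => hy1 (hone y h)
  have hdimV : finrank F (Fin n ⊕ Fin n → F) = 2 * n := by
    rw [Module.finrank_fintype_fun_eq_card, Fintype.card_sum, Fintype.card_fin]
    ring
  -- the cyclotomic part is everything
  obtain ⟨-, hcompl, -, hcycnd⟩ := Cfsg.Agent.Lib.Helper13.S5955.split (p := p) hsp hctx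
  have hcycinv : SInv y' (cycS s y') := (bcs_comm_inv y' y' (Commute.refl _) s).2
  have hcdvd : cOf q s ∣ finrank F (cycS s y') :=
    Cfsg.Agent.Lib.helper3.S5956.cyc_nd_dvd (p := p) hsp hctx _ _ rfl rfl (cycS s y') hcycinv
      le_rfl hcycnd
  have hcycne : cycS s y' ≠ ⊥ := by
    intro h
    apply hy'1
    have htop : fixS y' = ⊤ := by
      have := hcompl.sup_eq_top
      rwa [h, sup_bot_eq] at this
    apply LinearMap.ext
    intro v
    have hv : v ∈ fixS y' := by rw [htop]; exact Submodule.mem_top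
    rw [Module.End.one_apply]
    exact (bcs_mem_fixS y' v).1 hv
  have hcyctop : cycS s y' = ⊤ := by
    apply Submodule.eq_top_of_finrank_eq
    rw [hdimV]
    have hle : finrank F (cycS s y') ≤ 2 * n := by
      rw [← hdimV]
      exact Submodule.finrank_le _
    have hpos : 0 < finrank F (cycS s y') := by
      rw [Nat.pos_iff_ne_zero]
      intro h
      exact hcycne (Submodule.finrank_eq_zero.1 h)
    rw [hc] at hcdvd
    exact Nat.le_antisymm hle (Nat.le_of_dvd hpos hcdvd)
  have hdiv : ∀ W : Submodule F (Fin n ⊕ Fin n → F), (∀ w ∈ W, y' w ∈ W) →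
      orderOf ((q : ℕ) : ZMod s) ∣ finrank F W := by
    intro W hW
    exact bcs_inv_dvd (p := p) hsp y' W hW (by rw [hcyctop]; exact le_top)
  have hmain := Cfsg.Agent.Lib.helper6.SqrtM1.h6sq_type hodd (stdB n F) hsk hnd y' z (hiso y)
    (hiso t) hcomm hzz s hsprime.pos hys (orderOf ((q : ℕ) : ZMod s)) n hn hdimV hdiv
  rcases ordc_of_cof hc with h2n | ⟨hnn, hno⟩
  · have h3 := hmain.1 h2n
    constructor
    · intro ho
      rw [h2n] at ho
      exact absurd ho (Nat.not_odd_iff_even.2 ⟨n, by ring⟩)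
    · intro h1
      rw [h1] at h3
      exact absurd h3 (by norm_num)
  · constructor
    · intro _
      apply hmain.2 hnn
      · -- `y' ^ (q ^ n) = y'`
        have h1 : ((q : ℕ) : ZMod s) ^ n = 1 := by
          rw [← hnn]
          exact pow_orderOf_eq_one _
        have h2 : ((q ^ n : ℕ) : ZMod s) = ((1 : ℕ) : ZMod s) := by
          rw [Nat.cast_pow, h1, Nat.cast_one]
        have h3 : q ^ n ≡ 1 [MOD s] := (ZMod.natCast_eq_natCast_iff _ _ _).1 h2
        have h4 : 1 ≤ q ^ n := Nat.one_le_pow _ _ Fintype.card_pos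
        have h5 : s ∣ q ^ n - 1 := (Nat.modEq_iff_dvd' h4).1 h3.symm
        obtain ⟨k, hk⟩ := h5
        have h6 : q ^ n = 1 + s * k := by omega
        rw [h6, pow_add, pow_one, pow_mul, hys, one_pow, mul_one]
      · intro hyy
        have h1 : y * y = 1 := by
          apply hone
          rw [← hyy]
          exact Matrix.toLin'_mul _ _
        have h2 : orderOf y ∣ 2 := by
          apply orderOf_dvd_of_pow_eq_one
          rw [pow_two, h1]
        rw [hy] at h2
        have h3 := (Nat.prime_dvd_prime_iff_eq hsprime Nat.prime_two).1 h2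
        exact hs2 h3
    · intro _
      rw [hnn]
      exact hno

end Cfsg.Agent.Lib.Lead.BCG
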