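import Mathlib
import Cfsg.Agent.Lib.Lead.BCG.Defs
import Cfsg.Agent.Lib.helper6.BCGS4
import Cfsg.Agent.Lib.Helper24.BCGL3
import Cfsg.Agent.Lib.Helper20.BCGR1
import Cfsg.Agent.Lib.Helper20.BCGA17
import Cfsg.Agent.Lib.Helper26.BCGS6core
import Cfsg.Agent.Lib.helper15.BCGX1h15

set_option autoImplicit false

/-!
# Project BCG, row S7 (helper6): `s_2s_nec`, verbatim from `Lead/BCG/Skel.lean.txt` (L3 + R1 + A17 + X1 + symplectic twin of BCS A9 + `bcgs4_type`).
-/

namespace Cfsg.Agent.Lib.Lead.BCG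

open Polynomial Module Matrix Cfsg.Agent.Lib.Helper13.S5955 Cfsg.Agent.Lib.helper15.S5972
  Cfsg.Agent.Lib.Helper18.ONE Cfsg.Agent.Lib.Lead.BCS

/-- the symplectic twin of BCS A9 (port of helper7's `bcs_invol_cyc`): an involutory isometry commuting with `y` is `±1` on `cycS ℓ y`
when `c(ℓ) = dim cycS` -/
theorem bcgs7_invol_cyc {F : Type*} [Field F] [Fintype F] {p : ℕ} [Fact p.Prime] [CharP F p]
    (h2 : (2 : F) ≠ 0) {V : Type*} [AddCommGroup V] [Module F V] [FiniteDimensional F V]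
    {ℓ : ℕ} [Fact ℓ.Prime] (hℓp : ℓ ≠ p) {B : LinearMap.BilinForm F V}
    {y z : Module.End F V} (h : SCtx ℓ B y) (hzz : ∀ v, z (z v) = v)
    (hzpres : ∀ u v, B (z u) (z v) = B u v) (hc : Commute z y) (m : ℕ)
    (hm : 1 ≤ m) (hi : OrdC (Fintype.card F) m ℓ) (hdim : finrank F (cycS ℓ y) = 2 * m) :
    (∀ w ∈ cycS ℓ y, z w = w) ∨ (∀ w ∈ cycS ℓ y, z w = -w) := by
  classical
  obtain ⟨-, -, -, hWnd⟩ := Cfsg.Agent.Lib.Helper13.S5955.split (p := p) hℓp h
  have hsk : ∀ u v, B u v = - B v u := by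
    intro u v
    have h1 := h.alt (u + v)
    simp only [map_add, LinearMap.add_apply] at h1
    linear_combination h1 - h.alt u - h.alt v
  set W := cycS ℓ y with hW
  have hWz : SInv z W := (bcs_comm_inv z y hc ℓ).2
  have hWy : SInv y W := (bcs_comm_inv y y (Commute.refl _) ℓ).2
  have hy_fix : SInv y (fixS z) := (bcs_comm_inv y z hc.symm 2).1
  have hy_cyc : SInv y (cycS 2 z) := (bcs_comm_inv y z hc.symm 2).2
  set Ep := W ⊓ fixS z with hEp
  set Em := W ⊓ cycS 2 z with hEm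
  have hEp_mem : ∀ v, v ∈ Ep ↔ v ∈ W ∧ z v = v := by
    intro v; rw [hEp, Submodule.mem_inf, bcs_mem_fixS]
  have hEm_mem : ∀ v, v ∈ Em ↔ v ∈ W ∧ z v = -v := by
    intro v; rw [hEm, Submodule.mem_inf, bcs_mem_cyc_two]
  have hEp_inv : SInv y Ep := fun v hv => ⟨hWy v hv.1, hy_fix v hv.2⟩
  have hEm_inv : SInv y Em := fun v hv => ⟨hWy v hv.1, hy_cyc v hv.2⟩
  have horth : ∀ v ∈ Ep, ∀ w ∈ Em, B v w = 0 := by
    intro v hv w hw
    have hv' := ((hEp_mem v).mp hv).2
    have hw' := ((hEm_mem w).mp hw).2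
    have h1 := hzpres v w
    rw [hv', hw', map_neg] at h1
    have h3 : (2 : F) * B v w = 0 := by linear_combination -h1
    exact (mul_eq_zero.mp h3).resolve_left h2
  have hdec : ∀ w ∈ W, ∃ a ∈ Ep, ∃ b ∈ Em, w = a + b := by
    intro w hw
    refine ⟨(2 : F)⁻¹ • (w + z w), ?_, (2 : F)⁻¹ • (w - z w), ?_, ?_⟩
    · rw [hEp_mem]
      refine ⟨W.smul_mem _ (W.add_mem hw (hWz w hw)), ?_⟩
      rw [map_smul, map_add, hzz, add_comm]
    · rw [hEm_mem]
      refine ⟨W.smul_mem _ (W.sub_mem hw (hWz w hw)), ?_⟩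
      rw [map_smul, map_sub, hzz, ← smul_neg, neg_sub]
    · rw [← smul_add, add_add_sub_cancel, ← two_smul F w, smul_smul, inv_mul_cancel₀ h2, one_smul]
  have hEp_nd : SND B Ep := by
    intro u hu hu0
    apply hWnd u hu.1
    intro w hw
    obtain ⟨a, ha, b, hb, rfl⟩ := hdec w hw
    rw [map_add, hu0 a ha, horth u hu b hb, add_zero]
  have hEm_nd : SND B Em := by
    intro u hu hu0
    apply hWnd u hu.1
    intro w hw
    obtain ⟨a, ha, b, hb, rfl⟩ := hdec w hw
    rw [map_add, hu0 b hb, hsk u a, horth a ha u hu, neg_zero, add_zero]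
  have hcc := ordc_c hi
  have hdp : 2 * m ∣ finrank F Ep :=
    Cfsg.Agent.Lib.helper3.S5956.cyc_nd_dvd (p := p) hℓp h _ (2 * m) rfl hcc Ep hEp_inv
      inf_le_left hEp_nd
  have hdm : 2 * m ∣ finrank F Em :=
    Cfsg.Agent.Lib.helper3.S5956.cyc_nd_dvd (p := p) hℓp h _ (2 * m) rfl hcc Em hEm_inv
      inf_le_left hEm_nd
  have hdisj : Ep ⊓ Em = ⊥ := by
    rw [eq_bot_iff]
    intro v hv
    rw [Submodule.mem_inf] at hv
    have h1 := ((hEp_mem v).mp hv.1).2
    have h3 := ((hEm_mem v).mp hv.2).2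
    rw [h1] at h3
    have h4 : (2 : F) • v = 0 := by
      rw [two_smul]
      nth_rewrite 1 [h3]
      exact neg_add_cancel _
    rcases smul_eq_zero.mp h4 with h5 | h5
    · exact absurd h5 h2
    · rw [Submodule.mem_bot]; exact h5
  have hle : finrank F Ep + finrank F Em ≤ 2 * m := by
    have h1 := Submodule.finrank_sup_add_finrank_inf_eq Ep Em
    rw [hdisj, finrank_bot, add_zero] at h1
    rw [← h1, ← hdim]
    exact Submodule.finrank_mono (sup_le inf_le_left inf_le_left)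
  have hcase : finrank F Em = 0 ∨ finrank F Ep = 0 := by
    obtain ⟨a, ha⟩ := hdp
    obtain ⟨b, hb⟩ := hdm
    rw [ha, hb] at hle
    rcases Nat.eq_zero_or_pos a with h0 | h0
    · right; rw [ha, h0, mul_zero]
    · left
      rcases Nat.eq_zero_or_pos b with hb0 | hb0
      · rw [hb, hb0, mul_zero]
      · exfalso
        have : 2 * m * 1 + 2 * m * 1 ≤ 2 * m * a + 2 * m * b :=
          Nat.add_le_add (Nat.mul_le_mul_left _ h0) (Nat.mul_le_mul_left _ hb0)
        omega
  rcases hcase with h0 | h0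
  · left
    intro w hw
    have hbot : Em = ⊥ := Submodule.finrank_eq_zero.mp h0
    have hmem : w - z w ∈ Em := by
      rw [hEm_mem]
      refine ⟨W.sub_mem hw (hWz w hw), ?_⟩
      rw [map_sub, hzz, neg_sub]
    rw [hbot, Submodule.mem_bot, sub_eq_zero] at hmem
    exact hmem.symm
  · right
    intro w hw
    have hbot : Ep = ⊥ := Submodule.finrank_eq_zero.mp h0
    have hmem : w + z w ∈ Ep := by
      rw [hEp_mem]
      refine ⟨W.add_mem hw (hWz w hw), ?_⟩
      rw [map_add, hzz, add_comm]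
    rw [hbot, Submodule.mem_bot] at hmem
    exact (eq_neg_of_add_eq_zero_right hmem)

theorem bcgs7_inj {F : Type*} [Field F] (n : ℕ) (g g' : Matrix.symplecticGroup (Fin n) F)
    (hg : Matrix.toLin' (g : Matrix (Fin n ⊕ Fin n) (Fin n ⊕ Fin n) F) =
      Matrix.toLin' (g' : Matrix (Fin n ⊕ Fin n) (Fin n ⊕ Fin n) F)) : g = g' :=
  Subtype.ext (Matrix.toLin'.injective hg)

/-- S7 [M-L] -/
theorem s_2s_nec {F : Type*} [Field F] [Fintype F] {p : ℕ} [Fact p.Prime] [CharP F p]
    (hodd : Odd (Fintype.card F)) (n : ℕ) (hn : 3 ≤ n) (s : ℕ) [Fact s.Prime] (hsp : s ≠ p)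
    (hs2 : s ≠ 2) (h : 2 * s ∈ Set.range (orderOf : Cfsg.PSp n F → ℕ)) :
    Crit2 (Fintype.card F) n s := by
  classical
  have hsprime : s.Prime := Fact.out
  have h2 : (2 : F) ≠ 0 := bcgs6_two_ne hodd
  have hsq : ¬ s ∣ Fintype.card F := bcgs6_not_dvd s hsp
  obtain ⟨hceven, hc2, -⟩ := cof_facts (Fintype.card F) s hsprime hs2 hsq
  obtain ⟨t, y, hty, hy, htt, ht1, htn⟩ := (ins_two_s h2 n (by omega) s hsprime hs2).1 h
  set y' : Module.End F (Fin n ⊕ Fin n → F) :=
    Matrix.toLin' (y : Matrix (Fin n ⊕ Fin n) (Fin n ⊕ Fin n) F) with hy'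
  set z : Module.End F (Fin n ⊕ Fin n → F) :=
    Matrix.toLin' (t : Matrix (Fin n ⊕ Fin n) (Fin n ⊕ Fin n) F) with hz
  have hys : y ^ s = 1 := by rw [← hy]; exact pow_orderOf_eq_one y
  have hctx : SCtx s (stdB n F) y' := bcgx1_h15 n y s hys
  have hy1 : y ≠ 1 := by
    intro h1
    rw [h1, orderOf_one] at hy
    exact hsprime.one_lt.ne hy
  have hy'1 : y' ≠ 1 := by
    intro h1
    apply hy1
    apply bcgs7_inj
    rw [← hy', h1]
    exact Matrix.toLin'_one.symm
  obtain ⟨hpos, hcdvd, -⟩ := s_cyc_dim (p := p) hsp hctx hy'1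
  have hdimV : finrank F (Fin n ⊕ Fin n → F) = 2 * n := by
    rw [Module.finrank_fintype_fun_eq_card, Fintype.card_sum, Fintype.card_fin]
    ring
  have hle : finrank F (cycS s y') ≤ 2 * n := by
    rw [← hdimV]
    exact Submodule.finrank_le _
  have hcle : cOf (Fintype.card F) s ≤ finrank F (cycS s y') := Nat.le_of_dvd hpos hcdvd
  by_cases hcase : cOf (Fintype.card F) s + 2 ≤ 2 * n
  · exact Or.inl hcase
  · right
    have hc : cOf (Fintype.card F) s = 2 * n := by
      obtain ⟨k, hk⟩ := hceven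
      omega
    refine ⟨hc, ?_⟩
    rcases htt with htt | htt
    · exfalso
      have hdimcyc : finrank F (cycS s y') = 2 * n := by omega
      have hcyctop : cycS s y' = ⊤ := by
        apply Submodule.eq_top_of_finrank_eq
        rw [hdimV, hdimcyc]
      have hzz1 : z * z = 1 := by
        have h1 : z * z = Matrix.toLin' ((t * t : Matrix.symplecticGroup (Fin n) F) :
            Matrix (Fin n ⊕ Fin n) (Fin n ⊕ Fin n) F) := (Matrix.toLin'_mul _ _).symm
        rw [h1, htt]
        exact Matrix.toLin'_one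
      have hzz : ∀ v, z (z v) = v := by
        intro v
        have := congrArg (fun f : Module.End F (Fin n ⊕ Fin n → F) => f v) hzz1
        simpa using this
      have hzpres : ∀ u v, stdB n F (z u) (z v) = stdB n F u v :=
        (bcgx1_h15 n t 2 (by rw [pow_two, htt])).pres
      have hcomm : Commute z y' := by
        have h1 : z * y' = Matrix.toLin' ((t * y : Matrix.symplecticGroup (Fin n) F) :
            Matrix (Fin n ⊕ Fin n) (Fin n ⊕ Fin n) F) := (Matrix.toLin'_mul _ _).symm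
        have h3 : y' * z = Matrix.toLin' ((y * t : Matrix.symplecticGroup (Fin n) F) :
            Matrix (Fin n ⊕ Fin n) (Fin n ⊕ Fin n) F) := (Matrix.toLin'_mul _ _).symm
        show z * y' = y' * z
        rw [h1, h3, hty.eq]
      rcases bcgs7_invol_cyc (p := p) h2 hsp hctx hzz hzpres hcomm n (by omega)
        (ordc_of_cof hc) hdimcyc with h1 | h1
      · apply ht1
        apply bcgs7_inj
        rw [← hz]
        apply LinearMap.ext
        intro v
        rw [h1 v (by rw [hcyctop]; exact Submodule.mem_top)]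
        have h3 : Matrix.toLin' (((1 : Matrix.symplecticGroup (Fin n) F)) :
            Matrix (Fin n ⊕ Fin n) (Fin n ⊕ Fin n) F) = 1 := Matrix.toLin'_one
        rw [h3]
        rfl
      · apply htn
        apply bcgs7_inj
        rw [← hz]
        apply LinearMap.ext
        intro v
        rw [h1 v (by rw [hcyctop]; exact Submodule.mem_top), Cfsg.Agent.S0246.negOne_coe,
          map_neg, Matrix.toLin'_one]
        rfl
    · exact bcgs4_type hodd n (by omega) s hsp hs2 hc t y hty hy htt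

end Cfsg.Agent.Lib.Lead.BCG
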