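import Mathlib
import Cfsg.Agent.Lib.Helper28.BP2.Defs

/-!
# BP2 row AO6 (`card_of_binS_even`): core under own names (helper6, second writer).

`bp2ao6_h6_core` is the EXACT Skel statement of AO6 with the statements of AO3 `card_cent_invol`,
AO4 `cent_invol_inter`, AO5 `cent_le_of_binS` as hypotheses; the verbatim row is then
`bp2ao6_h6_core hodd H h2 (card_cent_invol hodd) (cent_invol_inter hodd)
  (fun t ht ht2 => cent_le_of_binS hodd H hBin t ht ht2)`.
-/

set_option autoImplicit false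

namespace Cfsg.Agent.Lib.Helper28.BP2

open Cfsg.Agent.Lib.helper14

universe u v w

/-- own extra: `|A| * |B : A| = |B|` for `A ≤ B`. -/
theorem bp2ao6_card_mul_relIndex {G : Type u} [Group G] (A B : Subgroup G) (h : A ≤ B) :
    Nat.card A * A.relIndex B = Nat.card B := by
  have h1 := (A.subgroupOf B).card_mul_index
  rw [Nat.card_congr (Subgroup.subgroupOfEquivOfLe h).toEquiv] at h1
  exact h1

/-- own extra: the abstract form of AO6 in a finite group `G`: all involutions have centralisers of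
the same order `c`, the involution centralisers of involutions of `H` lie in `H`, and every
involution `t` commutes with an involution `s` with `|C(t) ∩ C(s)| ≤ 4`. -/
theorem bp2ao6_abstract {G : Type u} [Group G] [Finite G] (H : Subgroup G) (c : ℕ)
    (h2 : 2 ∣ Nat.card H)
    (hAO3 : ∀ t : G, orderOf t = 2 → Nat.card (Subgroup.centralizer ({t} : Set G)) = c)
    (hAO4 : ∀ t : G, orderOf t = 2 → ∃ s : G, orderOf s = 2 ∧ Commute t s ∧ s ≠ t ∧
      Nat.card ↥(Subgroup.centralizer ({t} : Set G) ⊓ Subgroup.centralizer ({s} : Set G)) ≤ 4)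
    (hAO5 : ∀ t : G, t ∈ H → orderOf t = 2 → Subgroup.centralizer ({t} : Set G) ≤ H) :
    c ∣ Nat.card H ∧ c * c ≤ 4 * Nat.card H ∧
      ∀ t : H, orderOf t = 2 → Nat.card (Subgroup.centralizer ({t} : Set H)) = c := by
  have : Fact (Nat.Prime 2) := ⟨Nat.prime_two⟩
  obtain ⟨t₀, ht₀⟩ := exists_prime_orderOf_dvd_card' (G := H) 2 h2
  have ht₀' : orderOf (t₀ : G) = 2 := by rw [Subgroup.orderOf_coe]; exact ht₀
  have hC : Subgroup.centralizer ({(t₀ : G)} : Set G) ≤ H := hAO5 _ t₀.2 ht₀'
  have hCc := hAO3 _ ht₀'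
  obtain ⟨s, hs2, hts, -, hinter⟩ := hAO4 _ ht₀'
  have hsC : s ∈ Subgroup.centralizer ({(t₀ : G)} : Set G) := by
    rw [Subgroup.mem_centralizer_iff]
    intro y hy
    rw [Set.mem_singleton_iff.mp hy]
    exact hts
  have hD : Subgroup.centralizer ({s} : Set G) ≤ H := hAO5 _ (hC hsC) hs2
  have hDc := hAO3 _ hs2
  refine ⟨?_, ?_, ?_⟩
  · rw [← hCc]
    exact Subgroup.card_dvd_of_le hC
  · -- `c = |C ∩ D| * |C : C ∩ D| ≤ 4 * |C : D ∩ C| ≤ 4 * |H : D|`, `c * |H : D| = |H|`
    set C := Subgroup.centralizer ({(t₀ : G)} : Set G) with hCdef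
    set D := Subgroup.centralizer ({s} : Set G) with hDdef
    have e1 := bp2ao6_card_mul_relIndex (C ⊓ D) C inf_le_left
    have e2 := bp2ao6_card_mul_relIndex D H hD
    rw [Subgroup.inf_relIndex_left] at e1
    have hne : D.relIndex H ≠ 0 := by
      intro h0
      rw [h0, mul_zero] at e2
      exact (Nat.card_pos (α := H)).ne' e2.symm
    have e3 : D.relIndex C ≤ D.relIndex H := Subgroup.relIndex_le_of_le_right hC hne
    rw [hCc] at e1
    rw [hDc] at e2
    calc c * c = (Nat.card ↥(C ⊓ D) * D.relIndex C) * c := by rw [e1]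
      _ ≤ (4 * D.relIndex H) * c := by
          apply Nat.mul_le_mul_right
          exact Nat.mul_le_mul hinter e3
      _ = 4 * (c * D.relIndex H) := by ring
      _ = 4 * Nat.card H := by rw [e2]
  · intro t ht
    have ht' : orderOf (t : G) = 2 := by rw [Subgroup.orderOf_coe]; exact ht
    have hle := hAO5 _ t.2 ht'
    have heq : Subgroup.centralizer ({t} : Set H) =
        (Subgroup.centralizer ({(t : G)} : Set G)).subgroupOf H := by
      ext x
      rw [Subgroup.mem_subgroupOf, Subgroup.mem_centralizer_iff, Subgroup.mem_centralizer_iff]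
      constructor
      · intro h y hy
        rw [Set.mem_singleton_iff.mp hy]
        have := h t rfl
        exact congrArg Subtype.val this
      · intro h y hy
        rw [Set.mem_singleton_iff.mp hy]
        exact Subtype.ext (h _ rfl)
    rw [heq, Nat.card_congr (Subgroup.subgroupOfEquivOfLe hle).toEquiv]
    exact hAO3 _ ht'

section AOdd

variable {F : Type u} [Field F] [Fintype F]

/-- **AO6**, core: EXACT Skel statement, with the statements of AO3, AO4, AO5 as hypotheses
(`hBin` enters only through AO5). -/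
theorem bp2ao6_h6_core (hodd : Odd (Fintype.card F)) (H : Subgroup (PSL2 F))
    (h2 : 2 ∣ Nat.card H)
    (hAO3 : ∀ t : PSL2 F, orderOf t = 2 →
      (Fintype.card F % 4 = 1 →
        Nat.card (Subgroup.centralizer ({t} : Set (PSL2 F))) = Fintype.card F - 1) ∧
      (Fintype.card F % 4 = 3 →
        Nat.card (Subgroup.centralizer ({t} : Set (PSL2 F))) = Fintype.card F + 1))
    (hAO4 : ∀ t : PSL2 F, orderOf t = 2 →
      ∃ s : PSL2 F, orderOf s = 2 ∧ Commute t s ∧ s ≠ t ∧
        Nat.card ↥(Subgroup.centralizer ({t} : Set (PSL2 F)) ⊓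
          Subgroup.centralizer ({s} : Set (PSL2 F))) ≤ 4)
    (hAO5 : ∀ t : PSL2 F, t ∈ H → orderOf t = 2 →
      Subgroup.centralizer ({t} : Set (PSL2 F)) ≤ H) :
    ∃ c : ℕ, ((Fintype.card F % 4 = 1 ∧ c = Fintype.card F - 1) ∨
        (Fintype.card F % 4 = 3 ∧ c = Fintype.card F + 1)) ∧
      c ∣ Nat.card H ∧ c * c ≤ 4 * Nat.card H ∧
      ∀ t : H, orderOf t = 2 → Nat.card (Subgroup.centralizer ({t} : Set H)) = c := by
  have hq : Fintype.card F % 4 = 1 ∨ Fintype.card F % 4 = 3 := by
    obtain ⟨k, hk⟩ := hodd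
    omega
  rcases hq with hq | hq
  · exact ⟨Fintype.card F - 1, Or.inl ⟨hq, rfl⟩,
      bp2ao6_abstract H _ h2 (fun t ht => (hAO3 t ht).1 hq) hAO4 hAO5⟩
  · exact ⟨Fintype.card F + 1, Or.inr ⟨hq, rfl⟩,
      bp2ao6_abstract H _ h2 (fun t ht => (hAO3 t ht).2 hq) hAO4 hAO5⟩

end AOdd

end Cfsg.Agent.Lib.Helper28.BP2
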