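import Mathlib
import Cfsg.Agent.Lib.helper3.BSZ.Defs
import Cfsg.Agent.Lib.helper4.BSZC04
import Cfsg.Agent.Lib.helper8.BSZC06
import Cfsg.Agent.Lib.helper6.BSZC07core

set_option autoImplicit false

/-!
# BSZ row C07 (`f20_case`), verbatim: `bszc07_core` + the landed C04 `f20_all` and C06 `sylow_ti_fpf`
-/

namespace Cfsg.Agent.Lib.helper3.BSZ

open Cfsg Cfsg.Agent.Lib.helper3

variable {F : Type*} [Field F] [Fintype F] {m : ℕ}

/-- C07 -/
theorem f20_case (hF : Fintype.card F = 2 ^ (2 * m + 1)) (hm : 1 ≤ m) (P : Sylow 2 (Sz F m))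
    (H : Subgroup (Sz F m)) (hHP : H ≤ (P : Subgroup (Sz F m))) {f : Sz F m} (hf : f ∈ H) (hf2 : f * f ≠ 1) :
    ¬ BinH H :=
  bszc07_core hF hm (fun h2 h4 => f20_all hF hm h2 h4)
    (fun P _ _ hy hk hk' => sylow_ti_fpf hF hm P hy hk hk') P H hHP hf hf2

end Cfsg.Agent.Lib.helper3.BSZ
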