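import Mathlib
import Cfsg.Agent.Lib.helper8.BTT.Defs

/-!
# BTT row GEN10 (helper6): parallelogram law for `nsq`
-/

set_option autoImplicit false

namespace Cfsg.Agent.Lib.helper8.BTT

universe u

/-- extra: parallelogram identity -/
theorem bttgen10_parallelogram {n : ℕ} (L L' : Fin n → ℝ) :
    nsq (L + L') + nsq (L - L') = 2 * nsq L + 2 * nsq L' := by
  unfold nsq
  rw [← Finset.sum_add_distrib, Finset.mul_sum, Finset.mul_sum, ← Finset.sum_add_distrib]
  refine Finset.sum_congr rfl (fun r _ => ?_)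
  simp only [Pi.add_apply, Pi.sub_apply]
  ring

/-- extra: `nsq` is non-negative -/
theorem bttgen10_nsq_nonneg {n : ℕ} (L : Fin n → ℝ) : 0 ≤ nsq L := by
  unfold nsq
  exact Finset.sum_nonneg (fun r _ => sq_nonneg _)

theorem nsq_smul {n : ℕ} (a : ℝ) (L : Fin n → ℝ) : nsq (a • L) = a ^ 2 * nsq L := by
  unfold nsq
  rw [Finset.mul_sum]
  refine Finset.sum_congr rfl (fun r _ => ?_)
  simp only [Pi.smul_apply, smul_eq_mul]
  ring

theorem nsq_eq_zero {n : ℕ} (L : Fin n → ℝ) (h : nsq L = 0) : L = 0 := by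
  unfold nsq at h
  funext r
  have h1 := (Finset.sum_eq_zero_iff_of_nonneg (fun r _ => sq_nonneg (L r))).1 h r (Finset.mem_univ r)
  simpa using h1

/-- GEN10 [S]: parallelogram law. -/
theorem nsq_eq_of_add {n : ℕ} (L L' : Fin n → ℝ) (h1 : nsq L = 1) (h2 : nsq L' = 1)
    (h : 4 ≤ nsq (L + L')) : L = L' := by
  have hp := bttgen10_parallelogram L L'
  have h0 : nsq (L - L') = 0 := by
    have := bttgen10_nsq_nonneg (L - L')
    linarith
  have := nsq_eq_zero _ h0
  exact sub_eq_zero.1 this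

end Cfsg.Agent.Lib.helper8.BTT
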