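import Mathlib
import Cfsg.Agent.Lib.helper8.BTT.Defs

/-!
# BTT row OPT1 (helper6): the analytic core (a continuous function attains its maximum on
(finite set) × (unit sphere of `E`))
-/

set_option autoImplicit false

namespace Cfsg.Agent.Lib.helper8.BTT

universe u

/-- extra: `nsq` is continuous -/
theorem bttopt1_continuous_nsq {n : ℕ} : Continuous (nsq : (Fin n → ℝ) → ℝ) := by
  unfold nsq
  fun_prop

/-- extra: the unit sphere of a subspace (for `nsq`) is compact -/
theorem bttopt1_isCompact {n : ℕ} (E : Submodule ℝ (Fin n → ℝ)) :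
    IsCompact {L : Fin n → ℝ | L ∈ E ∧ nsq L = 1} := by
  have hcl : IsClosed {L : Fin n → ℝ | L ∈ E ∧ nsq L = 1} := by
    have h1 : IsClosed (E : Set (Fin n → ℝ)) := Submodule.closed_of_finiteDimensional E
    have h2 : IsClosed {L : Fin n → ℝ | nsq L = 1} :=
      isClosed_eq bttopt1_continuous_nsq continuous_const
    exact h1.inter h2
  refine Metric.isCompact_of_isClosed_isBounded hcl ?_
  refine (Metric.isBounded_closedBall (x := (0 : Fin n → ℝ)) (r := 1)).subset ?_
  rintro L ⟨-, hL⟩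
  rw [mem_closedBall_zero_iff, pi_norm_le_iff_of_nonneg zero_le_one]
  intro r
  rw [Real.norm_eq_abs, ← sq_le_one_iff_abs_le_one, ← hL]
  unfold nsq
  exact Finset.single_le_sum (f := fun r => L r ^ 2) (fun r _ => sq_nonneg _) (Finset.mem_univ r)

/-- extra: the unit sphere of a non-zero subspace is non-empty -/
theorem bttopt1_nonempty {n : ℕ} (E : Submodule ℝ (Fin n → ℝ)) (hE : ∃ L ∈ E, L ≠ 0) :
    {L : Fin n → ℝ | L ∈ E ∧ nsq L = 1}.Nonempty := by
  obtain ⟨L, hL, hL0⟩ := hE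
  have hpos : 0 < nsq L := by
    have h0 : 0 ≤ nsq L := by
      unfold nsq
      exact Finset.sum_nonneg (fun r _ => sq_nonneg _)
    rcases h0.lt_or_eq with h | h
    · exact h
    · exfalso
      apply hL0
      funext r
      have h1 := (Finset.sum_eq_zero_iff_of_nonneg (fun r _ => sq_nonneg (L r))).1 h.symm r
        (Finset.mem_univ r)
      simpa using h1
  refine ⟨(Real.sqrt (nsq L))⁻¹ • L, E.smul_mem _ hL, ?_⟩
  have hs : nsq ((Real.sqrt (nsq L))⁻¹ • L) = ((Real.sqrt (nsq L))⁻¹) ^ 2 * nsq L := by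
    unfold nsq
    rw [Finset.mul_sum]
    refine Finset.sum_congr rfl (fun r _ => ?_)
    simp only [Pi.smul_apply, smul_eq_mul]
    ring
  rw [hs, inv_pow, Real.sq_sqrt hpos.le, inv_mul_cancel₀ hpos.ne']

/-- OPT1 [M]: a continuous function attains its maximum on (finite set) × (unit sphere of `E`)
(`isCompact_sphere` / closed and bounded in `Fin n → ℝ`, `Submodule.closed_of_finiteDimensional`,
`IsCompact.exists_isMaxOn`). -/
theorem opt_exists {n : ℕ} (E : Submodule ℝ (Fin n → ℝ)) (hE : ∃ L ∈ E, L ≠ 0)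
    {κ : Type*} [Finite κ] [Nonempty κ] (f : κ → (Fin n → ℝ) → ℝ) (hf : ∀ g, Continuous (f g)) :
    ∃ g L, L ∈ E ∧ nsq L = 1 ∧ ∀ g' L', L' ∈ E → nsq L' = 1 → f g' L' ≤ f g L := by
  classical
  have hc := bttopt1_isCompact E
  have hne := bttopt1_nonempty E hE
  have hmax : ∀ g : κ, ∃ L ∈ {L : Fin n → ℝ | L ∈ E ∧ nsq L = 1},
      IsMaxOn (f g) {L : Fin n → ℝ | L ∈ E ∧ nsq L = 1} L :=
    fun g => hc.exists_isMaxOn hne (hf g).continuousOn
  choose Lg hLg hLmax using hmax
  obtain ⟨g, hg⟩ := Finite.exists_max (fun g : κ => f g (Lg g))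
  refine ⟨g, Lg g, (hLg g).1, (hLg g).2, ?_⟩
  intro g' L' hL' hn'
  have h1 : f g' L' ≤ f g' (Lg g') := hLmax g' (show L' ∈ {L : Fin n → ℝ | L ∈ E ∧ nsq L = 1} from ⟨hL', hn'⟩)
  exact h1.trans (hg g')

end Cfsg.Agent.Lib.helper8.BTT
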