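import Mathlib
import Cfsg.Agent.Lib.Helper10.C6P.Defs
import Cfsg.Agent.Lib.helper6.C6PE2core
import Cfsg.Agent.Lib.helper23.C6PE2SQ
import Cfsg.Agent.Lib.Helper26.C6PLINV
import Cfsg.Agent.Lib.Helper16.C6PE2W
import Cfsg.Agent.Lib.Helper9.C6PCONJ

/-! Project C6P (designer helper10), row E2 (helper6): `AllFix R 2`. -/

set_option autoImplicit false

namespace Cfsg.Agent.Lib.Helper10.C6P

open Polynomial Matrix

variable {F : Type*} [Field F]

section fin

variable [Fintype F] {p : ℕ} [Fact p.Prime] [CharP F p]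

theorem suff_two (hF : Fintype.card F = p) (hp4 : p % 4 = 1) {i : F} {R : Subgroup (GL (Fin 4) F)} (hctx : RCtx i R)
    (hstd : HasStd i R) : AllFix R 2 :=
  c6pe2_core
    (fun x hx z hxx => sq_of_sq hF i hctx.hi x hx z hxx)
    (fun u hu h1 h1' => linv hctx.two u hu h1 h1')
    (fun j hj1 hj3 => wit_two hstd hctx.two j hj1 hj3)
    (fun x hx w hw y hyN hur hyr hc => conj_into R 2 (by exact_mod_cast hctx.two) x hx w hw y hyN hur hyr hc)

end fin

end Cfsg.Agent.Lib.Helper10.C6P
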