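import Mathlib
import Cfsg.Agent.Lib.helper3.C6U.Defs
import Cfsg.Agent.Lib.Helper20.C6UA1
import Cfsg.Agent.Lib.helper23.C6UA8

/-! Project C6U (designer helper3), towards row E6 (second writer helper6): the centraliser lemma.  For every `δ` of norm one there is
`C = diag(M, (σ(M)ᵀ)⁻¹)`, `M = α + β A` (`A` the companion block of `X² - τ X + 1`), preserving the Gram matrix `G5`, commuting with the
normal form `D5 τ`, of determinant `δ`. -/

set_option autoImplicit false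

namespace Cfsg.Agent.Lib.helper3.C6U

open Polynomial Matrix
open Cfsg.Agent.Lib.Helper10.C6P
open scoped MatrixGroups

variable {F : Type*} [Field F]

/-- determinant of a block diagonal `4 × 4` matrix -/
theorem c6ue6h6_det4_diag {R : Type*} [CommRing R] (N : Matrix (Fin 4) (Fin 4) R)
    (h02 : N 0 2 = 0) (h03 : N 0 3 = 0) (h12 : N 1 2 = 0) (h13 : N 1 3 = 0)
    (h20 : N 2 0 = 0) (h21 : N 2 1 = 0) (h30 : N 3 0 = 0) (h31 : N 3 1 = 0) :
    N.det = (N 0 0 * N 1 1 - N 0 1 * N 1 0) * (N 2 2 * N 3 3 - N 2 3 * N 3 2) := by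
  rw [Matrix.det_succ_row_zero]
  simp [Fin.sum_univ_succ, Matrix.det_fin_three, Fin.succAbove, h02, h03, h12, h13, h20, h21, h30, h31]
  ring

section fin

variable [Fintype F] {p : ℕ} [Fact p.Prime] [CharP F p]

/-- the matrix `C` -/
def c6ue6h6_C (τ α β a b n : F) : M4 F :=
  !![α, -β, 0, 0; β, α + τ * β, 0, 0; 0, 0, n * (a + (-1 - τ) * b), n * (-b); 0, 0, n * b, n * a]

theorem c6ue6h6_cent (hF : Fintype.card F = p ^ 2) (τ : F) (hτp : τ ^ p = -1 - τ)
    (hirr : Irreducible (X ^ 2 - C τ * X + 1 : F[X])) (δ : F) (hδ : δ ^ (p + 1) = 1) :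
    ∃ C : GL (Fin 4) F, (C : M4 F).transpose * G5 F * (C : M4 F).map (fun a => a ^ p) = G5 F ∧
      (C : M4 F) * D5 τ = D5 τ * (C : M4 F) ∧ (C : M4 F).det = δ := by
  classical
  obtain ⟨hadd, hinv⟩ := frob_p (F := F) (p := p) hF
  have hδ0 : δ ≠ 0 := by
    intro h
    rw [h, zero_pow (by omega)] at hδ
    exact zero_ne_one hδ
  have hδi : (δ⁻¹) ^ (p + 1) = 1 := by rw [inv_pow, hδ, inv_one]
  obtain ⟨ν, hν0, hνp⟩ := h90 (p := p) hF δ⁻¹ hδi
  obtain ⟨α, β, hαβ⟩ := norm_form τ hirr ν hν0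
  -- Frobenius
  set φ : F →+* F := frobenius F p with hφ
  have hφd : ∀ x : F, x ^ p = φ x := fun x => (frobenius_def p x).symm
  have hφφ : ∀ x : F, φ (φ x) = x := by
    intro x
    rw [← hφd, ← hφd]
    exact hinv x
  have hφτ : φ τ = -1 - τ := by rw [← hφd]; exact hτp
  have hφν : φ ν = δ⁻¹ * ν := by rw [← hφd]; exact hνp
  set a : F := φ α with ha
  set b : F := φ β with hb
  have hφa : φ a = α := hφφ α
  have hφb : φ b = β := hφφ β
  have hνφ : φ ν = a ^ 2 + (-1 - τ) * a * b + b ^ 2 := by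
    rw [← hαβ]
    simp only [map_add, map_mul, map_pow, hφτ]
    rw [ha, hb]
  have hφν0 : φ ν ≠ 0 := by
    rw [hφν]
    exact mul_ne_zero (inv_ne_zero hδ0) hν0
  set n : F := (φ ν)⁻¹ with hn
  have hφn : φ n = ν⁻¹ := by
    rw [hn, map_inv₀, hφφ]
  have hnν : n * (a ^ 2 + (-1 - τ) * a * b + b ^ 2) = 1 := by
    rw [← hνφ, hn]
    exact inv_mul_cancel₀ hφν0
  set Cm : M4 F := c6ue6h6_C τ α β a b n with hCm
  have hdet : Cm.det = δ := by
    rw [c6ue6h6_det4_diag Cm (by simp [hCm, c6ue6h6_C]) (by simp [hCm, c6ue6h6_C]) (by simp [hCm, c6ue6h6_C])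
      (by simp [hCm, c6ue6h6_C]) (by simp [hCm, c6ue6h6_C]) (by simp [hCm, c6ue6h6_C]) (by simp [hCm, c6ue6h6_C])
      (by simp [hCm, c6ue6h6_C])]
    have e1 : Cm 0 0 * Cm 1 1 - Cm 0 1 * Cm 1 0 = ν := by
      simp [hCm, c6ue6h6_C]
      linear_combination hαβ
    have e2 : Cm 2 2 * Cm 3 3 - Cm 2 3 * Cm 3 2 = n := by
      simp [hCm, c6ue6h6_C]
      have : n * (a + (-1 - τ) * b) * (n * a) + n * b * (n * b) = n * n * (a ^ 2 + (-1 - τ) * a * b + b ^ 2) := by ring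
      rw [this, ← hνφ, hn]
      field_simp
    rw [e1, e2, hn, hφν]
    field_simp
  have hdet0 : Cm.det ≠ 0 := by rw [hdet]; exact hδ0
  refine ⟨Matrix.GeneralLinearGroup.mkOfDetNeZero Cm hdet0, ?_, ?_, ?_⟩
  · show Cm.transpose * G5 F * Cm.map (fun a => a ^ p) = G5 F
    have hmap : Cm.map (fun a => a ^ p) = c6ue6h6_C (-1 - τ) a b α β ν⁻¹ := by
      have : (fun x : F => x ^ p) = φ := funext hφd
      rw [this]
      ext i j
      fin_cases i <;> fin_cases j <;>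
        simp [hCm, c6ue6h6_C, hφτ, hφa, hφb, hφn, ← ha, ← hb]
    rw [hmap]
    ext i j
    fin_cases i <;> fin_cases j <;>
      simp [hCm, c6ue6h6_C, G5, Matrix.mul_apply, Fin.sum_univ_four]
    all_goals first | ring1 | (field_simp; linear_combination hαβ) | linear_combination hnν
  · show Cm * D5 τ = D5 τ * Cm
    ext i j
    fin_cases i <;> fin_cases j <;>
      simp [hCm, c6ue6h6_C, D5, Matrix.mul_apply, Fin.sum_univ_four]
    all_goals ring
  · exact hdet

end fin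

end Cfsg.Agent.Lib.helper3.C6U
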