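import Mathlib
import Cfsg.Agent.Lib.helper3.C6U.Defs
import Cfsg.Agent.Lib.Helper5.C6PG0
import Cfsg.Agent.Lib.Helper9.C6UA4
import Cfsg.Agent.Lib.helper23.C6UA6
import Cfsg.Agent.Lib.helper15.C6UW1
import Cfsg.Agent.Lib.helper15.C6UE0
import Cfsg.Agent.Lib.Helper20.C6UW4
import Cfsg.Agent.Lib.helper6.C6UE6cent

/-! Project C6U (designer helper3), row E6 as a CORE (second writer helper6): `AllFixU p R 5` when `ord_5(p) = 4`, with the statement of
E5 (`nf_five`) as the only hypothesis. -/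

set_option autoImplicit false
set_option linter.unusedSectionVars false

namespace Cfsg.Agent.Lib.helper3.C6U

open Polynomial Matrix
open Cfsg.Agent.Lib.Helper10.C6P
open scoped MatrixGroups

variable {F : Type*} [Field F]

section fin

variable [Fintype F] {p : ℕ} [Fact p.Prime] [CharP F p]

/-- the Gram matrix of a scalar multiple -/
theorem c6ue6h6_gram_smul (c : F) (A : M4 F) : gram p (c • A) = c ^ (p + 1) • gram p A := by
  unfold gram
  ext a b
  simp only [Matrix.mul_apply, Matrix.transpose_apply, Matrix.smul_apply, Matrix.map_apply, smul_eq_mul, Finset.mul_sum]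
  apply Finset.sum_congr rfl
  intro k _
  rw [mul_pow, pow_succ]
  ring

theorem c6ue6_h6core (hF : Fintype.card F = p ^ 2) (hp4 : p % 4 = 3) (h5 : orderOf (p : ZMod 5) = 4) {i : F}
    {R : Subgroup (GL (Fin 4) F)} (hctx : RCtx i R) (hstd : HasStdU p i R)
    (hE5 : ∀ τ : F, τ ^ 2 + τ = 1 → τ ^ p = -1 - τ → Irreducible (X ^ 2 - C τ * X + 1 : F[X]) →
      ∀ u : M4 F, IsU p u → u ^ 5 = 1 → u ≠ 1 →
        ∃ B : GL (Fin 4) F, gram p (B : M4 F) = G5 F ∧ ((B⁻¹ : GL (Fin 4) F) : M4 F) * u * (B : M4 F) = D5 τ) :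
    AllFixU p R 5 := by
  intro x hx hz hns
  obtain ⟨z, hz⟩ := hz
  have hxU : x ∈ Cfsg.GU 4 F p := hx.1
  have hxdet : (x : M4 F).det = 1 := c6pg_det_of_mem x hx.2
  -- `z ^ 4 = 1`
  have hz4 : z ^ 4 = 1 := by
    have h1 := congrArg Matrix.det hz
    rw [Units.val_pow_eq_pow_val, Matrix.det_pow, hxdet, one_pow, Matrix.det_smul, Matrix.det_one, mul_one,
      Fintype.card_fin] at h1
    exact h1.symm
  have hz0 : z ≠ 0 := by
    rintro rfl
    rw [zero_pow (by norm_num)] at hz4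
    exact zero_ne_one hz4
  -- `z ^ (p + 1) = 1`
  have hzn : z ^ (p + 1) = 1 := by
    have h1 : IsU p ((x ^ 5 : GL (Fin 4) F) : M4 F) := c6uw1_isU_of_mem _ (Subgroup.pow_mem _ hxU 5)
    rw [hz] at h1
    unfold IsU at h1
    rw [c6ue6h6_gram_smul] at h1
    have h2 := congrFun (congrFun h1 0) 0
    have hg1 : gram p (1 : M4 F) = 1 := by
      unfold gram
      rw [Matrix.transpose_one, Matrix.one_mul]
      ext a b
      simp only [Matrix.map_apply, Matrix.one_apply]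
      split_ifs
      · exact one_pow p
      · exact zero_pow (Fact.out : p.Prime).ne_zero
    rw [hg1] at h2
    simpa using h2
  -- `u = z⁻¹ • x`
  set u : M4 F := z⁻¹ • (x : M4 F) with hu
  have hxIsU : IsU p (x : M4 F) := c6uw1_isU_of_mem x hxU
  have huU : IsU p u := by
    unfold IsU
    rw [hu, c6ue6h6_gram_smul, hxIsU, inv_pow, hzn, inv_one, one_smul]
  have hu5 : u ^ 5 = 1 := by
    rw [hu, _root_.smul_pow, ← Units.val_pow_eq_pow_val, hz, smul_smul, inv_pow]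
    have : (z ^ 5)⁻¹ * z = 1 := by
      have h5' : z ^ 5 = z := by
        calc z ^ 5 = z ^ 4 * z := by ring
          _ = z := by rw [hz4, one_mul]
      rw [h5', inv_mul_cancel₀ hz0]
    rw [this, one_smul]
  have hu1 : u ≠ 1 := by
    intro h
    apply hns z
    have := congrArg (fun M : M4 F => z • M) h
    simp only [hu, smul_smul, mul_inv_cancel₀ hz0, one_smul] at this
    exact this
  obtain ⟨τ, hτ, hτp, hirr⟩ := tau_five (p := p) hF h5
  obtain ⟨Bu, hBu, hDu⟩ := hE5 τ hτ hτp hirr u huU hu5 hu1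
  -- the witness
  obtain ⟨P, hPU, hPstd⟩ := hstd
  have hip : i ^ p = -i := i_frob hp4 i hctx.hi
  obtain ⟨y₀, hy₀N, hy₀5, hy₀1⟩ := wit_five_u (p := p) hPstd hctx.two hip
  have hyN := nrmu_transport hF R P hPU y₀ hy₀N
  set y : M4 F := ((P⁻¹ : GL (Fin 4) F) : M4 F) * y₀ * (P : M4 F) with hy
  have hPP : (P : M4 F) * ((P⁻¹ : GL (Fin 4) F) : M4 F) = 1 := by
    rw [← Units.val_mul, mul_inv_cancel, Units.val_one]
  have hPP' : ((P⁻¹ : GL (Fin 4) F) : M4 F) * (P : M4 F) = 1 := by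
    rw [← Units.val_mul, inv_mul_cancel, Units.val_one]
  have hypow : ∀ n : ℕ, y ^ n = ((P⁻¹ : GL (Fin 4) F) : M4 F) * y₀ ^ n * (P : M4 F) := by
    intro n
    induction n with
    | zero => rw [pow_zero, pow_zero, Matrix.mul_one, hPP']
    | succ n ih =>
      rw [pow_succ, ih, pow_succ, hy]
      calc ((P⁻¹ : GL (Fin 4) F) : M4 F) * y₀ ^ n * (P : M4 F) * (((P⁻¹ : GL (Fin 4) F) : M4 F) * y₀ * (P : M4 F))
          = ((P⁻¹ : GL (Fin 4) F) : M4 F) * y₀ ^ n * ((P : M4 F) * ((P⁻¹ : GL (Fin 4) F) : M4 F)) * y₀ * (P : M4 F) := by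
            simp only [Matrix.mul_assoc]
        _ = ((P⁻¹ : GL (Fin 4) F) : M4 F) * (y₀ ^ n * y₀) * (P : M4 F) := by
            rw [hPP, Matrix.mul_one]
            simp only [Matrix.mul_assoc]
  have hy5 : y ^ 5 = 1 := by
    rw [hypow, hy₀5, Matrix.mul_one, hPP']
  have hy1 : y ≠ 1 := by
    intro h
    apply hy₀1
    have := congrArg (fun M : M4 F => (P : M4 F) * M * ((P⁻¹ : GL (Fin 4) F) : M4 F)) h
    simp only [hy, Matrix.mul_one, hPP] at this
    rw [← this]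
    calc y₀ = ((P : M4 F) * ((P⁻¹ : GL (Fin 4) F) : M4 F)) * y₀ * ((P : M4 F) * ((P⁻¹ : GL (Fin 4) F) : M4 F)) := by
          rw [hPP, Matrix.one_mul, Matrix.mul_one]
      _ = _ := by simp only [Matrix.mul_assoc]
  obtain ⟨By, hBy, hDy⟩ := hE5 τ hτ hτp hirr y hyN.2 hy5 hy1
  exact uconj hF R x hx z hzn y hyN.1 (G5 F) (D5 τ) Bu By hBu hBy hDu hDy
    (fun δ hδ => c6ue6h6_cent hF τ hτp hirr δ hδ)

end fin

end Cfsg.Agent.Lib.helper3.C6U
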