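import Mathlib
import Cfsg.Agent.Lib.helper3.C6U.Defs
import Cfsg.Agent.Lib.Helper5.C6UE5
import Cfsg.Agent.Lib.helper6.C6UE6h6

/-! Project C6U (designer helper3), row E6 (`suff_five_u`): `c6ue6_h6core` (helper6) + `nf_five` (helper5). -/

set_option autoImplicit false
set_option linter.unusedSectionVars false

namespace Cfsg.Agent.Lib.helper3.C6U

open Polynomial Matrix
open Cfsg.Agent.Lib.Helper10.C6P
open scoped MatrixGroups

variable {F : Type*} [Field F]

section fin

variable [Fintype F] {p : ℕ} [Fact p.Prime] [CharP F p]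

theorem suff_five_u (hF : Fintype.card F = p ^ 2) (hp4 : p % 4 = 3) (h5 : orderOf (p : ZMod 5) = 4) {i : F}
    {R : Subgroup (GL (Fin 4) F)} (hctx : RCtx i R) (hstd : HasStdU p i R) : AllFixU p R 5 :=
  c6ue6_h6core hF hp4 h5 hctx hstd
    (fun τ hτ hτp hirr u hU hu hne => nf_five hF τ hτ hτp hirr u hU hu hne)

end fin

end Cfsg.Agent.Lib.helper3.C6U
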