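import Mathlib
import Cfsg.Agent.Lib.helper3.C6U.Defs
import Cfsg.Agent.Lib.Helper29.C6PBSTD
import Cfsg.Agent.Lib.Helper29.C6UB2
import Cfsg.Agent.Lib.Helper9.C6UB3
import Cfsg.Agent.Lib.Helper11.C6UB5
import Cfsg.Agent.Lib.Helper9.C6UG1
import Cfsg.Agent.Lib.Helper19.C6UG2
import Cfsg.Agent.Lib.Helper19.C6UG3
import Cfsg.Agent.Lib.Helper24.C6UG4
import Cfsg.Agent.Lib.Helper22.C6UE2
import Cfsg.Agent.Lib.Helper11.C6UE4
import Cfsg.Agent.Lib.helper6.C6UE6

set_option autoImplicit false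
open scoped MatrixGroups

/-! Project C6U (designer helper3): MAIN for S6001, assembled by helper6 from helper3's `Main.lean.txt` (all rows on main). -/

namespace Cfsg.Agent.Lib.helper3.C6U

open Cfsg.Agent.Lib.Helper10.C6P

theorem c6umain_ord2 : orderOf (2 : ZMod 5) = 4 := by
  rw [orderOf_eq_iff (by norm_num)]
  refine ⟨by decide, ?_⟩
  intro m hm hm0
  interval_cases m <;> decide

theorem c6umain_ord3 : orderOf (3 : ZMod 5) = 4 := by
  rw [orderOf_eq_iff (by norm_num)]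
  refine ⟨by decide, ?_⟩
  intro m hm hm0
  interval_cases m <;> decide

theorem c6u_main {F : Type*} [Field F] [Fintype F] {p : ℕ} [Fact p.Prime] [CharP F p] (hF : Fintype.card F = p ^ 2) (hp4 : p % 4 = 3)
    (R : Subgroup (GL (Fin 4) F)) (hRs : Cfsg.Geo.IsSymplecticTypeGroup 2 R) (hRi : Cfsg.Geo.ActsAbsolutelyIrreducibly (Cfsg.Geo.matrixSet R))
    (hRU : R ≤ Cfsg.GU 4 F p) (hR6 : Nat.card R = 2 ^ 6) (hRZ : Nat.card (Subgroup.center R) = 4)
    (r : ℕ) [Fact r.Prime]
    (hΩ : r ∣ (Cfsg.Geo.subgroupNormalizer R).relIndex (Cfsg.GU 4 F p ⊓ Cfsg.Geo.specialLinear (Fin 4) F)) :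
    (∀ x ∈ Cfsg.GU 4 F p ⊓ Cfsg.Geo.specialLinear (Fin 4) F, (∃ z : F, ((x ^ r : GL (Fin 4) F) : Matrix (Fin 4) (Fin 4) F) = z • (1 : Matrix (Fin 4) (Fin 4) F)) →
      (∀ z : F, (x : Matrix (Fin 4) (Fin 4) F) ≠ z • (1 : Matrix (Fin 4) (Fin 4) F)) →
      ∃ g ∈ Cfsg.GU 4 F p ⊓ Cfsg.Geo.specialLinear (Fin 4) F, g⁻¹ * x * g ∈ Cfsg.Geo.subgroupNormalizer R) ↔ (r = 2 ∨ (r = 3 ∧ p % 3 = 1) ∨ (r = 5 ∧ orderOf (p : ZMod 5) = 4)) := by
  classical
  have hp : p.Prime := Fact.out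
  have hrp : r.Prime := Fact.out
  have h2F : (2 : F) ≠ 0 := by
    intro h0
    have h1 : ((2 : ℕ) : F) = 0 := by exact_mod_cast h0
    have h2' := (CharP.cast_eq_zero_iff F p 2).mp h1
    have h4 := (Nat.prime_dvd_prime_iff_eq hp Nat.prime_two).mp h2'
    omega
  obtain ⟨i, P, hi, hP⟩ := c6u_std R hRs hRi hRZ hR6 h2F
  have hctx : RCtx i R := rctx_u R hRs hRi hRZ hR6 h2F i P hi hP
  have hstd0 : HasStd i R := has_std R i P hi hP
  have hstd : HasStdU p i R := std_unitary hF hp4 hctx hRU hstd0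
  have hdvd : r ∣ Nat.card (Cfsg.GU 4 F p ⊓ Cfsg.Geo.specialLinear (Fin 4) F : Subgroup (GL (Fin 4) F)) :=
    dvd_trans hΩ (Subgroup.relIndex_dvd_card _ _)
  show AllFixU p R r ↔ _
  constructor
  · intro hall
    by_contra hne
    push Not at hne
    obtain ⟨hr2, hr3', hr5'⟩ := hne
    by_cases hr3 : r = 3
    · subst hr3
      have h1 : p % 3 ≠ 1 := hr3' rfl
      by_cases h0 : p % 3 = 0
      · have hd : 3 ∣ p := Nat.dvd_of_mod_eq_zero h0
        have hp3 : p = 3 := ((Nat.prime_dvd_prime_iff_eq Nat.prime_three hp).mp hd).symm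
        exact nec_three_p hF hp3 hctx hall
      · exact nec_three_u hF hp4 (by omega) hctx hall
    · by_cases hr5 : r = 5
      · subst hr5
        have hord : orderOf (p : ZMod 5) ≠ 4 := hr5' rfl
        have hp5' : p % 5 = 1 ∨ p % 5 = 4 := by
          have h0 : p % 5 ≠ 0 := by
            intro h0
            have hd : 5 ∣ p := Nat.dvd_of_mod_eq_zero h0
            have := (Nat.prime_dvd_prime_iff_eq (by norm_num : Nat.Prime 5) hp).mp hd
            omega
          by_contra hcon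
          push Not at hcon
          apply hord
          have hcases : p % 5 = 2 ∨ p % 5 = 3 := by omega
          have hcast : ((p : ℕ) : ZMod 5) = ((p % 5 : ℕ) : ZMod 5) := by
            rw [ZMod.natCast_eq_natCast_iff']
            simp
          rw [hcast]
          rcases hcases with h | h <;> rw [h]
          · have : ((2 : ℕ) : ZMod 5) = 2 := by norm_num
            rw [this]; exact c6umain_ord2
          · have : ((3 : ℕ) : ZMod 5) = 3 := by norm_num
            rw [this]; exact c6umain_ord3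
        exact nec_five_u hF hp4 hp5' hctx hall
      · exact nec_big_u hF hctx r hr2 hr3 hr5 hdvd hall
  · rintro (hr | ⟨hr, h3⟩ | ⟨hr, h5⟩)
    · subst hr; exact suff_two_u hF hp4 hctx hstd
    · subst hr; exact suff_three_u hF hp4 h3 hctx hstd
    · subst hr; exact suff_five_u hF hp4 h5 hctx hstd

end Cfsg.Agent.Lib.helper3.C6U
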