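import Mathlib
import Cfsg.Agent.Lib.helper6.CEB.Defs
import Cfsg.Agent.Lib.helper7.CEDM8
import Cfsg.Agent.Lib.helper7.CeG
import Cfsg.Agent.Lib.Helper24.CECM3
import Cfsg.Agent.Lib.Helper24.CECM4
import Cfsg.Agent.Lib.Helper29.CECZ7
import Cfsg.Agent.Lib.Helper24.CEBG1
import Cfsg.Agent.Lib.helper4.CEBG3
import Cfsg.Agent.Lib.helper2.CEBT5
import Cfsg.Agent.Lib.Helper12.CEBT6
import Cfsg.Agent.Lib.Helper18.CEBA1
import Cfsg.Agent.Lib.helper14.CEBA3
import Cfsg.Agent.Lib.Helper22.CEBA6core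
import Cfsg.Agent.Lib.Helper12.CEBZ8
import Cfsg.Agent.Lib.Helper18.CEBR2
import Cfsg.Agent.Lib.helper6.CEBR3
import Cfsg.Agent.Lib.helper23.CEBR1core
import Cfsg.Agent.Lib.Helper16.CEBM6
import Cfsg.Agent.Lib.Helper16.CEBM7

/-!
# CEB M8 (`exists_lift_sysB`) and M9 (`ceb_split_core`) (helper6) — VERBATIM rows of `helper6/CEB/Skel.lean.txt`.

The regimes.  Own-name instances `cebm8_exists_lift_three` (= the statement of A6, from `Helper22.CEBA6core`) and `cebm8_exists_sysB` (= the statement of R5, from `helper23.CEBR1core`) keep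
this module from waiting for the verbatim wrappers of those rows.
-/

set_option autoImplicit false

namespace Cfsg.Agent.Lib.helper6.CEB

open Cfsg.Agent.Lib.helper15.St2 Cfsg.Agent.Lib.helper7.Ce Cfsg.Agent.Lib.helper3.STC Cfsg.Agent.Lib.Lead.STD
  Cfsg.Agent.Lib.helper7.CED Cfsg.Agent.Lib.Lead.STB
open Cfsg.Agent.Lib.helper7.CEC (I2 I3 I4 U3)

universe v w w'

section aux

variable {K : Type*} [Field K] {ι : Type*} {Γ G : Type*} [Group Γ] [Group G] {S : SysB K ι G} {σ : Γ →* G}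

/-- own-name instance of the statement of A6 `exists_lift_three` -/
theorem cebm8_exists_lift_three [DecidableEq ι] [Finite K] (h : IsCE σ) (hCs : HCs S σ) (h3 : I3 ι) (u3 : U3 ι) (v : K) (hv0 : v ≠ 0) (hv2 : v ^ 2 ≠ 1) :
    ∃ P : SysD K ι Γ, ∀ a b t, σ (P.x a b t) = S.x a b t :=
  ceba6_core h h3 (HT_three h h3 u3 v hv0 hv2)
    (fun hC => by
      have hB := Ys_B_hs h hC v hv0 hv2
      exact ⟨hB, Ys_I_three h hCs u3 hB⟩)

/-- own-name instance of the statement of R5 `exists_sysB` -/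
theorem cebm8_exists_sysB [DecidableEq ι] [Finite K] (h : IsCE σ) (hCs : HCs S σ) (hSs : HSs S σ) (h2 : I2 ι) (h3 : I3 ι) (P : SysD K ι Γ)
    (hP : ∀ a b t, σ (P.x a b t) = S.x a b t) :
    ∃ Q : SysB K ι Γ, (∀ a b t, σ (Q.x a b t) = S.x a b t) ∧ ∀ a t, σ (Q.xs a t) = S.xs a t :=
  cebr5_core h h2 P hP (Xsh_map h P hP h2) (Xsh_add h hCs hSs P hP h2)
    (fun hcd hcd' hda hca t u => cebr3_comm_ls h hCs P hP h2 hcd hcd' hda hca t u)
    (fun hab hab' t u => lift_ls h hCs hSs h2 h3 P hP hab hab' t u)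
    (fun hab hab' t u => lift_ss h hCs hSs h2 h3 P hP hab hab' t u)
    (fun a t u ht => lift_rels h hCs hSs h2 h3 P hP a t u ht)

end aux

section M'

variable {K : Type*} [Field K] [Finite K]

/-- M8 [M]  the regimes. -/
theorem exists_lift_sysB [Fintype K] {l : ℕ} (hl : 3 ≤ l) (h2 : (2 : K) ≠ 0) (hexc : ¬ (l = 3 ∧ Fintype.card K = 3)) {Γ : Type*} {G : Type*} [Group Γ] [Group G]
    (S : SysB K (Fin l) G) {σ : Γ →* G} (h : IsCE σ) :
    ∃ Q : SysB K (Fin l) Γ, (∀ a b t, σ (Q.x a b t) = S.x a b t) ∧ ∀ a t, σ (Q.xs a t) = S.xs a t := by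
  classical
  have hi2 : I2 (Fin l) := Cfsg.Agent.Lib.helper7.CEC.I2_fin (by omega)
  have hi3 : I3 (Fin l) := Cfsg.Agent.Lib.helper7.CEC.I3_fin hl
  have hq2 : Fintype.card K ≠ 2 := by
    intro e
    apply h2
    have := Nat.cast_card_eq_zero K
    rw [e] at this
    exact_mod_cast this
  -- the same short root
  have hSs : HSs S σ := by
    by_cases hq3 : Fintype.card K = 3
    · exact ts_same_three h (Cfsg.Agent.Lib.helper7.CEC.field_three hq3).2
    · obtain ⟨c, hc0, hc1, hc⟩ := Cfsg.Agent.Lib.helper7.CEC.exists_steinberg (F := K) (card_ge_five h2 hq3)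
      exact ts_same_steinberg h hi2 c hc0 hc1 hc
  by_cases hl4 : 4 ≤ l
  · have hi4 : I4 (Fin l) := Cfsg.Agent.Lib.helper7.CEC.I4_fin hl4
    have hCs : HCs S σ := HCs_of (ts_45 h hi3) (ts_orth_milnor h hi4)
    obtain ⟨P, hP⟩ := exists_lift_sysD hl4 (fun e => hq2 e.2) S.toSysD h
    exact cebm8_exists_sysB h hCs hSs hi2 hi3 P hP
  · have hl3 : l = 3 := by omega
    subst hl3
    have hq3 : Fintype.card K ≠ 3 := fun e => hexc ⟨rfl, e⟩
    have hq5 := card_ge_five h2 hq3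
    obtain ⟨v, hv0, hv2⟩ := exists_sq_ne_one K (by omega)
    have hv2' : v ^ 2 ≠ 1 := by rwa [pow_two]
    have hCs : HCs S σ := HCs_of (ts_45 h hi3) (ts_orth_torus h v hv0 hv2')
    obtain ⟨P, hP⟩ := cebm8_exists_lift_three h hCs hi3 Cfsg.Agent.Lib.helper7.CEC.U3_fin v hv0 hv2'
    exact cebm8_exists_sysB h hCs hSs hi2 hi3 P hP

/-- M9 [S]  `exists_lift_sysB`, `split_of_sysB`. -/
theorem ceb_split_core [Fintype K] {l : ℕ} (hl : 3 ≤ l) (h2 : (2 : K) ≠ 0) (hexc : ¬ (l = 3 ∧ Fintype.card K = 3)) {Γ : Type w} {G : Type w'} [Group Γ] [Group G]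
    (S : SysB K (Fin l) G) (R : S.Rep (Fin l)) (hgen : S.XQ (fun _ _ => True) (fun _ => True) = ⊤) (a : Fin l ⊕ Fin l) (hspin : S.hs a (-1) ≠ 1)
    {σ : Γ →* G} (h : IsCE σ)
    (hinj : ∀ (H : Type w) [Group H] (S' : SysB K (Fin l) H) (R' : S'.Rep (Fin l)), S'.Spin → S'.XQ (fun _ _ => True) (fun _ => True) = ⊤ →
      Function.Injective R'.φ) :
    ∃ s : G →* Γ, ∀ g, σ (s g) = g := by
  classical
  obtain ⟨Q, hQ, hQs⟩ := exists_lift_sysB hl h2 hexc S h
  exact split_of_sysB S R hgen a hspin Q hQ hQs hinj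

end M'

end Cfsg.Agent.Lib.helper6.CEB
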