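import Mathlib
import Cfsg.Agent.Lib.helper6.CEB.Defs
import Cfsg.Agent.Lib.helper6.CEBM8
import Cfsg.Agent.Lib.Helper16.STBK3

/-!
# CEB M9 (helper6): `ceb_split`, **the main theorem of CEB** — VERBATIM row of `helper6/CEB/Skel.lean.txt` (the interface the lead asked for, message 15434).

`ceb_split_core` (`helper6.CEBM8`) fed with the main theorem of STB, `SysB.Rep.injective` (`Helper16.STBK3`).
-/

set_option autoImplicit false

namespace Cfsg.Agent.Lib.helper6.CEB

open Cfsg.Agent.Lib.helper15.St2 Cfsg.Agent.Lib.helper7.Ce Cfsg.Agent.Lib.helper3.STC Cfsg.Agent.Lib.Lead.STD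
  Cfsg.Agent.Lib.helper7.CED Cfsg.Agent.Lib.Lead.STB
open Cfsg.Agent.Lib.helper7.CEC (I2 I3 I4 U3)

universe v w w'

section M'

variable {K : Type*} [Field K] [Finite K]

/-- M9 [S]  **the main theorem of CEB** (the interface for the lead's `B_m` family). -/
theorem ceb_split [Fintype K] {l : ℕ} (hl : 3 ≤ l) (h2 : (2 : K) ≠ 0) (hexc : ¬ (l = 3 ∧ Fintype.card K = 3)) {Γ : Type w} {G : Type w'} [Group Γ] [Group G]
    (S : SysB K (Fin l) G) (R : S.Rep (Fin l)) (hgen : S.XQ (fun _ _ => True) (fun _ => True) = ⊤) (a : Fin l ⊕ Fin l) (hspin : S.hs a (-1) ≠ 1)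
    {σ : Γ →* G} (h : IsCE σ) : ∃ s : G →* Γ, ∀ g, σ (s g) = g :=
  ceb_split_core hl h2 hexc S R hgen a hspin h (fun _ _ _ R' hS hgen' => SysB.Rep.injective R' hS hgen')

end M'

end Cfsg.Agent.Lib.helper6.CEB
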