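import Mathlib
import Cfsg.Agent.Lib.helper7.CEC.Defs
import Cfsg.Agent.Lib.Helper24.STCI1
import Cfsg.Agent.Lib.Helper24.STCB1
import Cfsg.Agent.Lib.Helper24.STCW13
import Cfsg.Agent.Lib.Helper22.STCF1
import Cfsg.Agent.Lib.helper23.STCH1

/-!
Project CEC (designer helper7; S2092), block X (rows X1–X5): the torus lifts `Xt` of the short root elements for two indices, by helper6.
-/

set_option autoImplicit false

namespace Cfsg.Agent.Lib.helper7.CEC

open Cfsg.Agent.Lib.helper15.St2 Cfsg.Agent.Lib.helper7.Ce Cfsg.Agent.Lib.helper3.STC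

section X

variable {K : Type*} [Field K] {ι : Type*} {Γ G : Type*} [Group Γ] [Group G] {S : SysC K ι G} {σ : Γ →* G}

/-- the short torus element `h a b c₁` scales `x a b` by `c₁²` -/
theorem cecx_cj_h_x [DecidableEq ι] (hH : S.HH) {c₁ : K} (hc0 : c₁ ≠ 0) {a b : ι ⊕ ι} (hab : ab a ≠ ab b) (s : K) :
    cj (S.h a b c₁) (S.x a b s) = S.x a b (c₁ ^ 2 * s) := by
  have hne : a ≠ b := fun e => hab (by rw [e])
  have hne' : a ≠ ng b := fun e => hab (by rw [e, ab_ng])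
  have hb : b ≠ ng a := fun e => hne' (ng_eq_iff.1 e.symm)
  have hm := hH a b hne c₁ hc0
  rw [SysC.dhc_short hb] at hm
  have h2 := hm.2 a b hne s
  rw [h2]
  simp only [Equiv.Perm.one_apply]
  congr 1
  have da : dhs a b c₁ a = c₁ := by
    unfold dhs; rw [if_pos (Or.inl rfl)]
  have db : dhs a b c₁ b = c₁⁻¹ := by
    unfold dhs
    rw [if_neg, if_pos (Or.inl rfl)]
    rintro (e | e)
    · exact hne e.symm
    · exact ne_ng b e
  rw [da, db, inv_inv]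
  ring

theorem cecx_cm_h_x [DecidableEq ι] (hH : S.HH) {c₁ : K} (hc0 : c₁ ≠ 0) {a b : ι ⊕ ι} (hab : ab a ≠ ab b) (s : K) :
    cm (S.h a b c₁) (S.x a b s) = S.x a b ((c₁ ^ 2 - 1) * s) := by
  have hne : a ≠ b := fun e => hab (by rw [e])
  have e : cm (S.h a b c₁) (S.x a b s) = cj (S.h a b c₁) (S.x a b s) * (S.x a b s)⁻¹ := by
    unfold cm cj; group
  rw [e, cecx_cj_h_x hH hc0 hab, ← SysC.x_neg, S.add a b hne]
  congr 1
  ring

/-- X1 [S-M] -/
theorem Xt_map [DecidableEq ι] (h : IsCE σ) (hH : S.HH) {c₁ : K} (hc0 : c₁ ≠ 0) (hc2 : c₁ ^ 2 ≠ 1) {a b : ι ⊕ ι} (hab : ab a ≠ ab b) (t : K) :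
    σ (Xt S h c₁ a b t) = S.x a b t := by
  unfold Xt
  rw [map_cm, map_lf, map_lf, cecx_cm_h_x hH hc0 hab]
  congr 1
  have : c₁ ^ 2 - 1 ≠ 0 := sub_ne_zero.2 hc2
  field_simp

/-- X2 [S-M] -/
theorem Xt_add [DecidableEq ι] (h : IsCE σ) (hC : HC S σ) (hH : S.HH) {c₁ : K} (hc0 : c₁ ≠ 0) (hc2 : c₁ ^ 2 ≠ 1) {a b : ι ⊕ ι} (hab : ab a ≠ ab b) (t u : K) :
    Xt S h c₁ a b (t + u) = Xt S h c₁ a b t * Xt S h c₁ a b u := by
  have hne : a ≠ b := fun e => hab (by rw [e])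
  have hne' : a ≠ ng b := fun e => hab (by rw [e, ab_ng])
  set s : K := (c₁ ^ 2 - 1)⁻¹ with hs
  set p : Γ := lf h (S.x a b (s * t)) with hp
  set q : Γ := lf h (S.x a b (s * u)) with hq
  have e1 : σ (lf h (S.x a b (s * (t + u)))) = σ (p * q) := by
    rw [map_mul, map_lf, hp, hq, map_lf, map_lf, S.add a b hne, mul_add]
  have e2 : Xt S h c₁ a b (t + u) = cm (lf h (S.h a b c₁)) (p * q) := by
    unfold Xt
    exact h.cm_congr rfl e1
  have e3 : cm (lf h (S.h a b c₁)) q = Xt S h c₁ a b u := rfl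
  have e4 : cm (lf h (S.h a b c₁)) p = Xt S h c₁ a b t := rfl
  rw [e2, cm_mul_right, e3, e4]
  -- `p` commutes with `Xt u`
  have hcl : CL σ (S.x a b (s * t)) (S.x a b u) :=
    hC a b a b hne hne hne.symm hne (ne_ng b) (ne_ng a) (s * t) u
  have hcomm : p * Xt S h c₁ a b u = Xt S h c₁ a b u * p :=
    hcl p (Xt S h c₁ a b u) (map_lf h _) (Xt_map h hH hc0 hc2 hab u)
  rw [hcomm, mul_inv_cancel_right]

/-- X3 [S] -/
theorem Xt_sym [Finite K] [DecidableEq ι] (h : IsCE σ) {c₁ : K} (hc0 : c₁ ≠ 0) {a b : ι ⊕ ι} (hab : ab a ≠ ab b) (t : K) :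
    Xt S h c₁ a b t = Xt S h c₁ (ng b) (ng a) (-(sg a * sg b * t)) := by
  have hne : a ≠ b := fun e => hab (by rw [e])
  have hne' : a ≠ ng b := fun e => hab (by rw [e, ab_ng])
  unfold Xt
  rw [S.h_sym hne hne' c₁ hc0, S.sym a b hne]
  congr 3
  ring

/-- X4 [M] -/
theorem Xt_eqv [Finite K] [DecidableEq ι] (h : IsCE σ) {c₁ : K} (hc0 : c₁ ≠ 0) {g : G} {π : Equiv.Perm (ι ⊕ ι)} {d : ι ⊕ ι → K}
    (hg : S.IsMon g π d) {e : Γ} (he : σ e = g) {a b : ι ⊕ ι} (hab : a ≠ b) (t : K) :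
    cj e (Xt S h c₁ a b t) = Xt S h c₁ (π a) (π b) (d a * (d b)⁻¹ * t) := by
  have hπ : π a ≠ π b := fun e' => hab (π.injective e')
  have hda := hg.1 a
  have hdb := hg.1 b
  have hδ : d a * (d b)⁻¹ ≠ 0 := mul_ne_zero hda (inv_ne_zero hdb)
  unfold Xt
  rw [cj_cm]
  apply h.cm_congr
  · rw [map_cj, he, map_lf, map_lf, SysC.IsMon.cj_h S hg hab c₁ hc0,
      S.w_mul_w hπ _ _ (mul_ne_zero hδ hc0) (neg_ne_zero.2 hδ)]
    congr 1
    field_simp
  · rw [map_cj, he, map_lf, map_lf, hg.2 a b hab]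
    congr 1
    ring

/-- X5 [S-M] -/
theorem shortLift_tor [Finite K] [DecidableEq ι] (h : IsCE σ) (hC : HC S σ) (hH : S.HH) (u2 : U2 ι) {c₁ : K} (hc0 : c₁ ≠ 0) (hc2 : c₁ ^ 2 ≠ 1) :
    ∃ L : ShortLift S h, ∀ a b t, L.X a b t = Xt S h c₁ a b t := by
  refine ⟨{ X := Xt S h c₁
            map := fun a b hab t => Xt_map h hH hc0 hc2 hab t
            add := fun a b hab t u => Xt_add h hC hH hc0 hc2 hab t u
            sym := fun a b hab t => Xt_sym h hc0 hab t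
            eqv := fun g π d hg _ e he a b hab t =>
              Xt_eqv h hc0 hg he (fun e' => hab (by rw [e'])) t
            c3 := fun a c b hac hcb hab' t u => by
              exfalso
              rcases u2 a c b hac with e | e
              · exact hab' e.symm
              · exact hcb e.symm }, fun a b t => rfl⟩

end X

end Cfsg.Agent.Lib.helper7.CEC
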