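import Mathlib
import Cfsg.Agent.Lib.helper2.CHMDefs

/-!
# Project CHM (S4139), piece CHM-C3: Sylow counting inside a centraliser.
If some Sylow `p`-subgroup of `G` is centralised by `x`, then the number of Sylow `p`-subgroups of
`G` centralised by `x` is the number of Sylow `p`-subgroups of `C_G(x)`, hence `≡ 1 [MOD p]`.
-/

set_option autoImplicit false
set_option linter.unusedSectionVars false
set_option linter.unusedVariables false

namespace Cfsg.Agent.Lib.helper6.CHM

open Cfsg.Agent.Lib.helper2.CHM

/-- `x` centralises `S` iff `S ≤ C_G(x)`. -/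
theorem mem_centralizer_coe_iff_le {G : Type*} [Group G] (S : Subgroup G) (x : G) :
    x ∈ Subgroup.centralizer (S : Set G) ↔ S ≤ Subgroup.centralizer ({x} : Set G) := by
  constructor
  · intro h s hs
    rw [Subgroup.mem_centralizer_iff]
    intro y hy
    rw [Set.mem_singleton_iff] at hy
    subst hy
    exact (Subgroup.mem_centralizer_iff.mp h s hs).symm
  · intro h
    rw [Subgroup.mem_centralizer_iff]
    intro s hs
    exact (Subgroup.mem_centralizer_iff.mp (h hs) x rfl).symm

/-- If a subgroup `C` contains a Sylow `p`-subgroup of `G`, the Sylow `p`-subgroups of `G` inside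
`C` correspond to the Sylow `p`-subgroups of `C`. -/
noncomputable def sylowLeEquiv {G : Type*} [Group G] [Finite G] (p : ℕ) [Fact p.Prime]
    (C : Subgroup G) (P0 : Sylow p G) (hP0 : (P0 : Subgroup G) ≤ C) :
    {S : Sylow p G // (S : Subgroup G) ≤ C} ≃ Sylow p C := by
  have hfac : (Nat.card C).factorization p = (Nat.card G).factorization p := by
    apply le_antisymm
    · exact (Nat.factorization_le_iff_dvd Nat.card_pos.ne' Nat.card_pos.ne').mpr
        (Subgroup.card_subgroup_dvd_card C) p
    · have h1 : Nat.card (P0 : Subgroup G) ∣ Nat.card C := Subgroup.card_dvd_of_le hP0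
      rw [P0.card_eq_multiplicity] at h1
      exact (Nat.Prime.pow_dvd_iff_le_factorization Fact.out Nat.card_pos.ne').mp h1
  have hcard : ∀ Q : Sylow p C, Nat.card ((Q : Subgroup C).map C.subtype) =
      p ^ (Nat.card G).factorization p := by
    intro Q
    rw [Subgroup.card_map_of_injective C.subtype_injective, Q.card_eq_multiplicity, hfac]
  refine
    { toFun := fun S => S.1.subtype S.2
      invFun := fun Q => ⟨Sylow.ofCard ((Q : Subgroup C).map C.subtype) (hcard Q), ?_⟩
      left_inv := ?_
      right_inv := ?_ }
  · show (Q : Subgroup C).map C.subtype ≤ C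
    exact Subgroup.map_subtype_le _
  · rintro ⟨S, hS⟩
    apply Subtype.ext
    apply Sylow.ext
    show ((S : Subgroup G).subgroupOf C).map C.subtype = S
    rw [Subgroup.subgroupOf_map_subtype]
    exact inf_eq_left.mpr hS
  · intro Q
    apply Sylow.ext
    show ((Q : Subgroup C).map C.subtype).subgroupOf C = Q
    exact Subgroup.comap_map_eq_self_of_injective C.subtype_injective _

/-! ## CHM-C3 : Sylow counting inside a centraliser -/
theorem nu_modEq_one {G : Type*} [Group G] [Finite G] (p : ℕ) [Fact p.Prime] (x : G)
    (hx : nu p x ≠ 0) : nu p x ≡ 1 [MOD p] := by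
  classical
  have hcard : nu p x =
      Nat.card {S : Sylow p G // (S : Subgroup G) ≤ Subgroup.centralizer ({x} : Set G)} := by
    unfold nu
    exact Nat.card_congr (Equiv.subtypeEquivRight
      (fun S => mem_centralizer_coe_iff_le (S : Subgroup G) x))
  rw [hcard] at hx ⊢
  obtain ⟨⟨P0, hP0⟩⟩ := (Nat.card_ne_zero.mp hx).1
  rw [Nat.card_congr (sylowLeEquiv p _ P0 hP0)]
  exact card_sylow_modEq_one p _

end Cfsg.Agent.Lib.helper6.CHM
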