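import Mathlib
import Cfsg.Agent.Lib.Helper11.SuzukiCA
import Cfsg.Agent.Lib.helper6.CTa

/-!
# CT-groups: the basic data (centraliser of an involution and its normaliser)
-/

set_option autoImplicit false

namespace Cfsg.Agent.Lib.helper6.CT

open Cfsg.Agent.Lib.Helper11.SuzukiCA

universe u

/-- the data extracted from a simple CA-group of even order -/
structure CTData (G : Type*) [Group G] (A N : Subgroup G) : Prop where
  ca : ∀ z : G, z ≠ 1 → ∀ a b : G, z * a = a * z → z * b = b * z → a * b = b * a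
  cent : ∀ a ∈ A, a ≠ 1 → ∀ x : G, x * a = a * x → x ∈ A
  comm : ∀ a ∈ A, ∀ b ∈ A, a * b = b * a
  le : A ≤ N
  norm : ∀ n ∈ N, ∀ a ∈ A, n * a * n⁻¹ ∈ A
  ti : ∀ g : G, g ∉ N → ∀ a ∈ A, g * a * g⁻¹ ∈ A → a = 1
  invN : ∀ u ∈ N, u * u = 1 → u ∈ A
  invConj : ∀ u : G, u * u = 1 → ∃ g : G, g⁻¹ * u * g ∈ A
  invol : ∃ t ∈ A, t ≠ 1 ∧ t * t = 1
  lt : ∃ n ∈ N, n ∉ A
  ne_top : ∃ g : G, g ∉ N

theorem exists_ctdata {G : Type u} [Group G] [Finite G] (hCA : CA G)
    (hsimple : ∀ N : Subgroup G, N.Normal → N = ⊥ ∨ N = ⊤)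
    (hnc : ¬ ∀ a b : G, a * b = b * a) (heven : 2 ∣ Nat.card G) :
    ∃ A N : Subgroup G, CTData G A N := by
  haveI : Fact (Nat.Prime 2) := ⟨Nat.prime_two⟩
  obtain ⟨t, ht⟩ := exists_prime_orderOf_dvd_card' (G := G) 2 heven
  have ht1 : t ≠ 1 := by
    intro h
    rw [h, orderOf_one] at ht
    omega
  have htt : t * t = 1 := by
    have := pow_orderOf_eq_one t
    rwa [ht, pow_two] at this
  set A : Subgroup G := Subgroup.centralizer ({t} : Set G) with hAdef
  have hA : A ∈ Cents G := ⟨t, ht1, rfl⟩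
  have htA : t ∈ A := by rw [hAdef, mem_cent]
  set N : Subgroup G := Subgroup.normalizer (A : Set G) with hNdef
  -- a Sylow 2-subgroup inside A
  have h2A : 2 ∣ Nat.card A := by
    have h1 : orderOf (⟨t, htA⟩ : A) = 2 := by
      rw [← ht]
      exact Subgroup.orderOf_mk t htA
    rw [← h1]
    exact orderOf_dvd_natCard _
  obtain ⟨S, hSA, hS1⟩ := cents_sylow hCA hA h2A
  have hoddidx : ¬ 2 ∣ A.relIndex N := by
    intro h
    have h1 : A.relIndex N ∣ A.index := Subgroup.relIndex_dvd_index_of_le Subgroup.le_normalizer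
    have h2 : A.index ∣ (S : Subgroup G).index := Subgroup.index_dvd_of_le hSA
    exact S.not_dvd_index (h.trans (h1.trans h2))
  refine ⟨A, N, ?_⟩
  refine
    { ca := ?_
      cent := ?_
      comm := ?_
      le := Subgroup.le_normalizer
      norm := ?_
      ti := cents_TI hCA hA
      invN := ?_
      invConj := ?_
      invol := ⟨t, htA, ht1, htt⟩
      lt := ?_
      ne_top := ?_ }
  · intro z hz a b h1 h2
    exact hCA z hz a (mem_cent.2 h1) b (mem_cent.2 h2)
  · intro a ha ha1 x hx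
    rw [cent_of_mem hCA hA ha ha1, mem_cent]
    exact hx.symm
  · intro a ha b hb
    exact hCA t ht1 a ha b hb
  · intro n hn a ha
    exact ((Subgroup.mem_set_normalizer_iff).1 hn a).1 ha
  · intro u hu huu
    haveI : (A.subgroupOf N).Normal := Subgroup.normal_in_normalizer
    let q : N →* N ⧸ A.subgroupOf N := QuotientGroup.mk' _
    have h1 : q ⟨u, hu⟩ ^ 2 = 1 := by
      rw [← map_pow]
      have : (⟨u, hu⟩ : N) ^ 2 = 1 := by
        apply Subtype.ext
        rw [pow_two]
        exact huu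
      rw [this, map_one]
    have h2 : orderOf (q ⟨u, hu⟩) ∣ 2 := orderOf_dvd_of_pow_eq_one h1
    have h3 : orderOf (q ⟨u, hu⟩) ∣ Nat.card (N ⧸ A.subgroupOf N) := orderOf_dvd_natCard _
    have h4 : Nat.card (N ⧸ A.subgroupOf N) = A.relIndex N := rfl
    rw [h4] at h3
    have h5 : orderOf (q ⟨u, hu⟩) = 1 := by
      rcases (Nat.dvd_prime Nat.prime_two).1 h2 with h | h
      · exact h
      · exfalso
        rw [h] at h3
        exact hoddidx h3
    have h6 : q ⟨u, hu⟩ = 1 := orderOf_eq_one_iff.1 h5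
    have h7 : (⟨u, hu⟩ : N) ∈ A.subgroupOf N := (QuotientGroup.eq_one_iff _).1 h6
    exact Subgroup.mem_subgroupOf.1 h7
  · intro u huu
    by_cases hu1 : u = 1
    · refine ⟨1, ?_⟩
      rw [hu1]
      simp
    have hord : orderOf u = 2 := orderOf_eq_prime (by rw [pow_two]; exact huu) hu1
    have hpg : IsPGroup 2 (Subgroup.zpowers u) := by
      apply IsPGroup.of_card (n := 1)
      rw [Nat.card_zpowers, hord, pow_one]
    obtain ⟨T, hT⟩ := hpg.exists_le_sylow
    obtain ⟨g, hg⟩ := MulAction.exists_smul_eq G S T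
    have huT : u ∈ (T : Subgroup G) := hT (Subgroup.mem_zpowers u)
    rw [← hg, Sylow.smul_def, Sylow.pointwise_smul_def,
      Subgroup.mem_pointwise_smul_iff_inv_smul_mem] at huT
    refine ⟨g, hSA ?_⟩
    have : (MulAut.conj g)⁻¹ • u = g⁻¹ * u * g := by
      rw [MulAut.smul_def, MulAut.conj_inv_apply]
    rwa [this] at huT
  · obtain ⟨n, hn, hnA⟩ := SetLike.exists_of_lt (cents_lt_normalizer hCA hsimple hnc hA)
    exact ⟨n, hn, hnA⟩
  · by_contra hcon
    push Not at hcon
    have hNtop : N = ⊤ := by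
      rw [eq_top_iff]
      intro g _
      exact hcon g
    have hnorm : A.Normal := Subgroup.normalizer_eq_top_iff.1 hNtop
    rcases hsimple A hnorm with h | h
    · exact cents_ne_bot hA h
    · exact cents_ne_top hCA hnc hA h

end Cfsg.Agent.Lib.helper6.CT
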