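import Mathlib
import Cfsg.Agent.Lib.helper6.CTb

/-!
# CT-groups: the action on the cosets of the normaliser of an involution centraliser
-/

set_option autoImplicit false

namespace Cfsg.Agent.Lib.helper6.CT

open MulAction

variable {G : Type*} [Group G] [Finite G] {A N : Subgroup G}
  {Ω : Type*} [MulAction G Ω] [IsPretransitive G Ω] {o : Ω}

section

variable (D : CTData G A N) (ho : ∀ g : G, g • o = o ↔ g ∈ N)
include D ho

theorem swap_back {s : G} {ω : Ω} (hss : s * s = 1) (hso : s • o = ω) : s • ω = o := by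
  rw [← hso, ← mul_smul, hss, one_smul]

/-- every point other than the base point is the image of the base point under an involution -/
theorem exists_swap {ω : Ω} (hω : ω ≠ o) : ∃ s : G, s * s = 1 ∧ s • o = ω := by
  obtain ⟨g, hg⟩ := exists_smul_eq G o ω
  have hgN : g ∉ N := by
    intro h
    apply hω
    rw [← hg]
    exact (ho g).2 h
  obtain ⟨t, htA, ht1, htt⟩ := D.invol
  have htt' : (g * t * g⁻¹) * (g * t * g⁻¹) = 1 := by
    calc (g * t * g⁻¹) * (g * t * g⁻¹) = g * (t * t) * g⁻¹ := by group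
      _ = 1 := by rw [htt]; group
  have hnc : t * (g * t * g⁻¹) ≠ (g * t * g⁻¹) * t := by
    intro h
    have h1 : g * t * g⁻¹ ∈ A := D.cent t htA ht1 _ h.symm
    exact ht1 (D.ti g hgN t htA h1)
  obtain ⟨s, hss, hs⟩ := exists_invol_conj D.ca htt htt' hnc
  refine ⟨s, hss, ?_⟩
  have h1 : (g⁻¹ * s) * t = t * (g⁻¹ * s) := by
    calc (g⁻¹ * s) * t = g⁻¹ * (s * t * s⁻¹) * s := by group
      _ = g⁻¹ * (g * t * g⁻¹) * s := by rw [hs]
      _ = t * (g⁻¹ * s) := by group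
  have h2 : g⁻¹ * s ∈ N := D.le (D.cent t htA ht1 _ h1)
  have h3 : (g⁻¹ * s) • o = o := (ho _).2 h2
  rw [← hg]
  rw [mul_smul, inv_smul_eq_iff] at h3
  exact h3

/-- `A` acts semiregularly off the base point -/
theorem kfpf : ∀ k ∈ A, k ≠ 1 → ∀ ω : Ω, ω ≠ o → k • ω ≠ ω := by
  intro k hk hk1 ω hω hkω
  obtain ⟨s, hss, hso⟩ := exists_swap D ho hω
  have hsω : s • ω = o := swap_back D ho hss hso
  have hsi : s⁻¹ = s := inv_eq_of_sq hss
  have hsN : s ∉ N := by
    intro h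
    apply hω
    rw [← hso]
    exact (ho s).2 h
  -- k' = s k s⁻¹ fixes o
  have hk'N : s * k * s⁻¹ ∈ N := by
    rw [← ho, hsi, mul_smul, mul_smul, hso, hkω, hsω]
  -- m = s⁻¹ k s fixes o
  have hmN : s⁻¹ * k * s ∈ N := by
    rw [← ho, hsi, mul_smul, mul_smul, hso, hkω, hsω]
  set k' := s * k * s⁻¹ with hk'
  set c := k * k' * k⁻¹ * k'⁻¹ with hc
  have hcA : c ∈ A := by
    have h1 : k' * k⁻¹ * k'⁻¹ ∈ A := D.norm k' hk'N k⁻¹ (A.inv_mem hk)
    have : c = k * (k' * k⁻¹ * k'⁻¹) := by rw [hc]; group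
    rw [this]
    exact A.mul_mem hk h1
  have hxA : s⁻¹ * c * s ∈ A := by
    have h1 : (s⁻¹ * k * s) * k * (s⁻¹ * k * s)⁻¹ ∈ A := D.norm _ hmN k hk
    have : s⁻¹ * c * s = ((s⁻¹ * k * s) * k * (s⁻¹ * k * s)⁻¹) * k⁻¹ := by
      rw [hc, hk']; group
    rw [this]
    exact A.mul_mem h1 (A.inv_mem hk)
  have hx1 : s⁻¹ * c * s = 1 := by
    apply D.ti s hsN _ hxA
    have : s * (s⁻¹ * c * s) * s⁻¹ = c := by group
    rw [this]
    exact hcA
  have hc1 : c = 1 := by
    have : c = s * (s⁻¹ * c * s) * s⁻¹ := by group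
    rw [this, hx1]; group
  have hcomm : k' * k = k * k' := by
    have : k * k' = c * (k' * k) := by rw [hc]; group
    rw [this, hc1, one_mul]
  have hk'A : k' ∈ A := D.cent k hk hk1 k' hcomm
  exact hk1 (D.ti s hsN k hk hk'A)

/-- a non-identity element commuting with an involution fixes exactly the fixed point of the involution -/
theorem comm_invol_fix {c s : G} (hc1 : c ≠ 1) (hss : s * s = 1) (hs1 : s ≠ 1)
    (hcs : c * s = s * c) {γ : Ω} (hsγ : s • γ = γ) :
    c • γ = γ ∧ ∀ ω : Ω, c • ω = ω → ω = γ := by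
  obtain ⟨g, hg⟩ := exists_smul_eq G o γ
  have hs'N : g⁻¹ * s * g ∈ N := by
    rw [← ho, mul_smul, mul_smul, hg, hsγ, ← hg, inv_smul_smul]
  have hs's' : (g⁻¹ * s * g) * (g⁻¹ * s * g) = 1 := by
    calc (g⁻¹ * s * g) * (g⁻¹ * s * g) = g⁻¹ * (s * s) * g := by group
      _ = 1 := by rw [hss]; group
  have hs'A : g⁻¹ * s * g ∈ A := D.invN _ hs'N hs's'
  have hs'1 : g⁻¹ * s * g ≠ 1 := by
    intro h
    apply hs1
    calc s = g * (g⁻¹ * s * g) * g⁻¹ := by group
      _ = 1 := by rw [h]; group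
  have hc'comm : (g⁻¹ * c * g) * (g⁻¹ * s * g) = (g⁻¹ * s * g) * (g⁻¹ * c * g) := by
    calc (g⁻¹ * c * g) * (g⁻¹ * s * g) = g⁻¹ * (c * s) * g := by group
      _ = g⁻¹ * (s * c) * g := by rw [hcs]
      _ = _ := by group
  have hc'A : g⁻¹ * c * g ∈ A := D.cent _ hs'A hs'1 _ hc'comm
  have hc'1 : g⁻¹ * c * g ≠ 1 := by
    intro h
    apply hc1
    calc c = g * (g⁻¹ * c * g) * g⁻¹ := by group
      _ = 1 := by rw [h]; group
  constructor
  · have h1 : (g⁻¹ * c * g) • o = o := (ho _).2 (D.le hc'A)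
    rw [mul_smul, mul_smul, hg, inv_smul_eq_iff, hg] at h1
    exact h1
  · intro ω hω
    by_contra hne
    have h2 : g⁻¹ • ω ≠ o := by
      intro h
      apply hne
      rw [inv_smul_eq_iff, hg] at h
      exact h
    apply kfpf D ho _ hc'A hc'1 _ h2
    rw [← mul_smul]
    have : g⁻¹ * c * g * g⁻¹ = g⁻¹ * c := by group
    rw [this, mul_smul, hω]

theorem invol_exists_fix {u : G} (huu : u * u = 1) : ∃ ω : Ω, u • ω = ω := by
  obtain ⟨g, hg⟩ := D.invConj u huu
  refine ⟨g • o, ?_⟩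
  have h1 : (g⁻¹ * u * g) • o = o := (ho _).2 (D.le hg)
  rw [mul_smul, mul_smul, inv_smul_eq_iff] at h1
  exact h1

theorem invol_fix_unique {u : G} (huu : u * u = 1) (hu1 : u ≠ 1) {ω ω' : Ω}
    (h1 : u • ω = ω) (h2 : u • ω' = ω') : ω' = ω :=
  (comm_invol_fix D ho hu1 huu hu1 rfl h1).2 ω' h2

/-- an involution interchanging the base point and `ω` inverts the stabiliser of the two points -/
theorem swap_inverts {ω : Ω} (hω : ω ≠ o) {s : G} (hss : s * s = 1) (hso : s • o = ω) :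
    ∀ d : G, d • o = o → d • ω = ω → s * d * s⁻¹ = d⁻¹ := by
  have hsω : s • ω = o := swap_back D ho hss hso
  have hsi : s⁻¹ = s := inv_eq_of_sq hss
  have hs1 : s ≠ 1 := by
    intro h
    apply hω
    rw [← hso, h, one_smul]
  have key := inverts_of_fpf (stabilizer G o ⊓ stabilizer G ω) hss (s := s) ?_ ?_
  · intro d hdo hdω
    exact key d (Subgroup.mem_inf.2 ⟨mem_stabilizer_iff.2 hdo, mem_stabilizer_iff.2 hdω⟩)
  · intro d hd
    obtain ⟨hdo, hdω⟩ := Subgroup.mem_inf.1 hd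
    rw [mem_stabilizer_iff] at hdo hdω
    refine Subgroup.mem_inf.2 ⟨mem_stabilizer_iff.2 ?_, mem_stabilizer_iff.2 ?_⟩
    · rw [hsi, mul_smul, mul_smul, hso, hdω, hsω]
    · rw [hsi, mul_smul, mul_smul, hsω, hdo, hso]
  · intro d hd hfix
    obtain ⟨hdo, hdω⟩ := Subgroup.mem_inf.1 hd
    rw [mem_stabilizer_iff] at hdo hdω
    by_contra hd1
    obtain ⟨γ, hγ⟩ := invol_exists_fix D ho hss (Ω := Ω)
    have hds : d * s = s * d := by
      calc d * s = (s * d * s⁻¹) * s := by rw [hfix]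
        _ = s * d := by group
    have h := (comm_invol_fix D ho hd1 hss hs1 hds hγ).2
    have h1 := h o hdo
    have h2 := h ω hdω
    exact hω (h2.trans h1.symm)

/-- the stabiliser of the base point and another point is commutative -/
theorem stab_comm {ω : Ω} (hω : ω ≠ o) {d e : G} (hdo : d • o = o) (hdω : d • ω = ω)
    (heo : e • o = o) (heω : e • ω = ω) : d * e = e * d := by
  obtain ⟨s, hss, hso⟩ := exists_swap D ho hω
  have hinv := swap_inverts D ho hω hss hso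
  have h1 := hinv d hdo hdω
  have h2 := hinv e heo heω
  have h3 := hinv (d * e) (by rw [mul_smul, heo, hdo]) (by rw [mul_smul, heω, hdω])
  have h4 : s * (d * e) * s⁻¹ = (s * d * s⁻¹) * (s * e * s⁻¹) := by group
  rw [h4, h1, h2, mul_inv_rev] at h3
  -- d⁻¹ e⁻¹ = e⁻¹ d⁻¹
  have h5 : (d * e)⁻¹ = (e * d)⁻¹ := by
    rw [mul_inv_rev, mul_inv_rev]
    exact h3.symm
  exact inv_injective h5

end

end Cfsg.Agent.Lib.helper6.CT
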