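import Mathlib
import Cfsg.Agent.Lib.helper6.CTc

/-!
# CT-groups: counting involutions; all two-point stabilisers have the same order
-/

set_option autoImplicit false

namespace Cfsg.Agent.Lib.helper6.CT

open MulAction Finset

variable {G : Type*} [Group G] [Fintype G] [DecidableEq G] {A N : Subgroup G}
  {Ω : Type*} [MulAction G Ω] [IsPretransitive G Ω] [Fintype Ω] [DecidableEq Ω] {o : Ω}

/-- the involutions of a finite group -/
def invs (G : Type*) [Group G] [Fintype G] [DecidableEq G] : Finset G :=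
  univ.filter (fun u : G => u ≠ 1 ∧ u * u = 1)

theorem mem_invs {u : G} : u ∈ invs G ↔ u ≠ 1 ∧ u * u = 1 := by
  simp [invs]

section

variable (D : CTData G A N) (ho : ∀ g : G, g • o = o ↔ g ∈ N)
include D ho

theorem card_invFix (ω : Ω) :
    #((invs G).filter (fun u => u • ω = ω)) = #((invs G).filter (fun u => u • o = o)) := by
  obtain ⟨g, hg⟩ := exists_smul_eq G o ω
  refine card_nbij' (fun u => g⁻¹ * u * g) (fun u => g * u * g⁻¹) ?_ ?_ ?_ ?_
  · intro u hu
    simp only [coe_filter, Set.mem_setOf_eq, mem_invs] at hu ⊢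
    obtain ⟨⟨hu1, huu⟩, hfix⟩ := hu
    refine ⟨⟨?_, ?_⟩, ?_⟩
    · intro h
      apply hu1
      calc u = g * (g⁻¹ * u * g) * g⁻¹ := by group
        _ = 1 := by rw [h]; group
    · calc (g⁻¹ * u * g) * (g⁻¹ * u * g) = g⁻¹ * (u * u) * g := by group
        _ = 1 := by rw [huu]; group
    · rw [mul_smul, mul_smul, hg, hfix, ← hg, inv_smul_smul]
  · intro u hu
    simp only [coe_filter, Set.mem_setOf_eq, mem_invs] at hu ⊢
    obtain ⟨⟨hu1, huu⟩, hfix⟩ := hu
    refine ⟨⟨?_, ?_⟩, ?_⟩
    · intro h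
      apply hu1
      calc u = g⁻¹ * (g * u * g⁻¹) * g := by group
        _ = 1 := by rw [h]; group
    · calc (g * u * g⁻¹) * (g * u * g⁻¹) = g * (u * u) * g⁻¹ := by group
        _ = 1 := by rw [huu]; group
    · rw [mul_smul, mul_smul, ← hg, inv_smul_smul, hfix]
  · intro u _
    simp only
    group
  · intro u _
    simp only
    group

theorem card_invs_fix :
    #(invs G) = Fintype.card Ω * #((invs G).filter (fun u => u • o = o)) := by
  have h := sum_card_bipartiteAbove_eq_sum_card_bipartiteBelow (s := invs G)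
    (t := (univ : Finset Ω)) (r := fun u ω => u • ω = ω)
  have h1 : ∀ u ∈ invs G, #((univ : Finset Ω).bipartiteAbove (fun u ω => u • ω = ω) u) = 1 := by
    intro u hu
    rw [mem_invs] at hu
    obtain ⟨γ, hγ⟩ := invol_exists_fix D ho hu.2 (Ω := Ω)
    rw [card_eq_one]
    refine ⟨γ, ?_⟩
    ext ω
    simp only [bipartiteAbove, mem_filter, mem_univ, true_and, mem_singleton]
    constructor
    · intro hω
      exact invol_fix_unique D ho hu.2 hu.1 hγ hω
    · intro hω
      rw [hω]
      exact hγ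
  have h2 : ∀ ω ∈ (univ : Finset Ω), #((invs G).bipartiteBelow (fun u ω => u • ω = ω) ω) =
      #((invs G).filter (fun u => u • o = o)) := by
    intro ω _
    exact card_invFix D ho ω
  rw [sum_congr rfl h1, sum_congr rfl h2] at h
  simp only [sum_const, smul_eq_mul, mul_one, card_univ] at h
  exact h

omit D ho in
theorem card_invs_image :
    #(invs G) = ∑ ω : Ω, #((invs G).filter (fun u => u • o = ω)) :=
  card_eq_sum_card_fiberwise (fun _ _ => mem_univ _)

theorem card_swap_fiber {ω : Ω} (hω : ω ≠ o) :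
    #((invs G).filter (fun u => u • o = ω)) =
      Nat.card ↥(stabilizer G o ⊓ stabilizer G ω : Subgroup G) := by
  classical
  obtain ⟨s, hss, hso⟩ := exists_swap D ho hω
  have hsω : s • ω = o := swap_back D ho hss hso
  have hsi : s⁻¹ = s := inv_eq_of_sq hss
  have hinv := swap_inverts D ho hω hss hso
  rw [Nat.card_eq_fintype_card, Fintype.card_subtype]
  symm
  refine card_nbij' (fun d => s * d) (fun u => s⁻¹ * u) ?_ ?_ ?_ ?_
  · intro d hd
    simp only [coe_filter, Set.mem_setOf_eq, mem_univ, true_and, Subgroup.mem_inf,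
      mem_stabilizer_iff, mem_invs] at hd ⊢
    obtain ⟨hdo, hdω⟩ := hd
    refine ⟨⟨?_, ?_⟩, ?_⟩
    · intro h
      apply hω
      have : (s * d) • o = ω := by rw [mul_smul, hdo, hso]
      rw [← this, h, one_smul]
    · have h1 := hinv d hdo hdω
      rw [hsi] at h1
      calc s * d * (s * d) = (s * d * s) * d := by group
        _ = 1 := by rw [h1]; group
    · rw [mul_smul, hdo, hso]
  · intro u hu
    simp only [coe_filter, Set.mem_setOf_eq, mem_univ, true_and, Subgroup.mem_inf,
      mem_stabilizer_iff, mem_invs] at hu ⊢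
    obtain ⟨⟨hu1, huu⟩, huo⟩ := hu
    have huω : u • ω = o := swap_back D ho huu huo
    constructor
    · rw [mul_smul, huo, hsi, hsω]
    · rw [mul_smul, huω, hsi, hso]
  · intro d _
    simp only
    group
  · intro u _
    simp only
    group

/-- a subgroup of `N` meeting `A` trivially embeds into the involutions of `A` -/
theorem card_le_invFix (E : Subgroup G) (hEN : E ≤ N) (hEA : ∀ x ∈ E, x ∈ A → x = 1) :
    Nat.card E ≤ #((invs G).filter (fun u => u • o = o)) ∧
    (#((invs G).filter (fun u => u • o = o)) ≤ Nat.card E →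
      ∀ m ∈ N, ∃ d ∈ E, ∃ a ∈ A, m = d * a) := by
  classical
  obtain ⟨t, htA, ht1, htt⟩ := D.invol
  rw [Nat.card_eq_fintype_card, Fintype.card_subtype]
  have hmaps : ∀ d ∈ univ.filter (fun x : G => x ∈ E),
      d * t * d⁻¹ ∈ (invs G).filter (fun u => u • o = o) := by
    intro d hd
    simp only [mem_filter, mem_univ, true_and, mem_invs] at hd ⊢
    have hA : d * t * d⁻¹ ∈ A := D.norm d (hEN hd) t htA
    refine ⟨⟨?_, ?_⟩, (ho _).2 (D.le hA)⟩
    · intro h
      apply ht1
      calc t = d⁻¹ * (d * t * d⁻¹) * d := by group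
        _ = 1 := by rw [h]; group
    · calc (d * t * d⁻¹) * (d * t * d⁻¹) = d * (t * t) * d⁻¹ := by group
        _ = 1 := by rw [htt]; group
  have hinj : ∀ d₁ d₂ : G, d₁ ∈ univ.filter (fun x : G => x ∈ E) →
      d₂ ∈ univ.filter (fun x : G => x ∈ E) → d₁ * t * d₁⁻¹ = d₂ * t * d₂⁻¹ → d₁ = d₂ := by
    intro d₁ d₂ h1 h2 h
    simp only [mem_filter, mem_univ, true_and] at h1 h2
    have hc : (d₂⁻¹ * d₁) * t = t * (d₂⁻¹ * d₁) := by
      calc (d₂⁻¹ * d₁) * t = d₂⁻¹ * (d₁ * t * d₁⁻¹) * d₁ := by group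
        _ = d₂⁻¹ * (d₂ * t * d₂⁻¹) * d₁ := by rw [h]
        _ = t * (d₂⁻¹ * d₁) := by group
    have hA : d₂⁻¹ * d₁ ∈ A := D.cent t htA ht1 _ hc
    have h3 := hEA _ (E.mul_mem (E.inv_mem h2) h1) hA
    calc d₁ = d₂ * (d₂⁻¹ * d₁) := by group
      _ = d₂ := by rw [h3, mul_one]
  constructor
  · exact card_le_card_of_injOn (fun d => d * t * d⁻¹) hmaps
      (fun d₁ h1 d₂ h2 h => hinj d₁ d₂ h1 h2 h)
  · intro hle m hm
    have hsurj := surj_on_of_inj_on_of_card_le (fun d _ => d * t * d⁻¹) hmaps hinj hle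
    have hmt : m * t * m⁻¹ ∈ (invs G).filter (fun u => u • o = o) := by
      simp only [mem_filter, mem_invs]
      have hA : m * t * m⁻¹ ∈ A := D.norm m hm t htA
      refine ⟨⟨?_, ?_⟩, (ho _).2 (D.le hA)⟩
      · intro h
        apply ht1
        calc t = m⁻¹ * (m * t * m⁻¹) * m := by group
          _ = 1 := by rw [h]; group
      · calc (m * t * m⁻¹) * (m * t * m⁻¹) = m * (t * t) * m⁻¹ := by group
          _ = 1 := by rw [htt]; group
    obtain ⟨d, hd, hdm⟩ := hsurj _ hmt
    simp only [mem_filter, mem_univ, true_and] at hd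
    refine ⟨d, hd, d⁻¹ * m, ?_, by group⟩
    apply D.cent t htA ht1
    calc (d⁻¹ * m) * t = d⁻¹ * (m * t * m⁻¹) * m := by group
      _ = d⁻¹ * (d * t * d⁻¹) * m := by rw [hdm]
      _ = t * (d⁻¹ * m) := by group

theorem stab_meet {ω : Ω} (hω : ω ≠ o) :
    (stabilizer G o ⊓ stabilizer G ω : Subgroup G) ≤ N ∧
      ∀ x ∈ (stabilizer G o ⊓ stabilizer G ω : Subgroup G), x ∈ A → x = 1 := by
  constructor
  · intro x hx
    exact (ho x).1 (mem_stabilizer_iff.1 (Subgroup.mem_inf.1 hx).1)
  · intro x hx hxA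
    by_contra hx1
    exact kfpf D ho x hxA hx1 ω hω (mem_stabilizer_iff.1 (Subgroup.mem_inf.1 hx).2)

/-- all two-point stabilisers (with the base point) have as many elements as `A` has involutions -/
theorem card_stab_eq {ω : Ω} (hω : ω ≠ o) :
    Nat.card ↥(stabilizer G o ⊓ stabilizer G ω : Subgroup G) =
      #((invs G).filter (fun u => u • o = o)) := by
  set i := #((invs G).filter (fun u => u • o = o)) with hi
  have h1 := card_invs_fix D ho (Ω := Ω)
  have h2 := card_invs_image (G := G) (Ω := Ω) (o := o)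
  rw [h1] at h2
  have hle : ∀ ω' ∈ (univ : Finset Ω), #((invs G).filter (fun u => u • o = ω')) ≤ i := by
    intro ω' _
    by_cases h : ω' = o
    · rw [h]
    · rw [card_swap_fiber D ho h]
      exact (card_le_invFix D ho _ (stab_meet D ho h).1 (stab_meet D ho h).2).1
  have hsum : ∑ ω' : Ω, #((invs G).filter (fun u => u • o = ω')) = ∑ _ω' : Ω, i := by
    rw [← h2, sum_const, smul_eq_mul, card_univ]
  have := (sum_eq_sum_iff_of_le hle).1 hsum ω (mem_univ _)
  rw [← this, card_swap_fiber D ho hω]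

/-- factorisation of `N` as a two-point stabiliser times `A` -/
theorem exists_factor {ω : Ω} (hω : ω ≠ o) :
    ∀ m ∈ N, ∃ d : G, d • o = o ∧ d • ω = ω ∧ ∃ a ∈ A, m = d * a := by
  intro m hm
  have h := (card_le_invFix D ho _ (stab_meet D ho hω).1 (stab_meet D ho hω).2).2
    (card_stab_eq D ho hω).ge m hm
  obtain ⟨d, hd, a, ha, hma⟩ := h
  obtain ⟨h1, h2⟩ := Subgroup.mem_inf.1 hd
  exact ⟨d, mem_stabilizer_iff.1 h1, mem_stabilizer_iff.1 h2, a, ha, hma⟩

end

end Cfsg.Agent.Lib.helper6.CT
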