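import Mathlib
import Cfsg.Agent.Lib.helper6.CTe
import Cfsg.Agent.Lib.helper6.ZassFeitC
import Cfsg.Agent.Lib.helper6.ZassFeitE
import Cfsg.Agent.Lib.helper6.ZassInvol
import Cfsg.Agent.Lib.helper6.SuzClass

/-!
# Simple CA-groups of even order are `PSL₂(2^f)`
-/

set_option autoImplicit false

namespace Cfsg.Agent.Lib.helper6.CT

open MulAction Finset
open Cfsg.Agent.Lib.Helper11.SuzukiCA

universe u

section

variable {G : Type*} [Group G] [Finite G] {A N : Subgroup G}
  {Ω : Type*} [MulAction G Ω] [IsPretransitive G Ω] [Fintype Ω] {o : Ω}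
variable (D : CTData G A N) (ho : ∀ g : G, g • o = o ↔ g ∈ N)
include D ho

theorem ct_ktr : ∀ x y : Ω, x ≠ o → y ≠ o → ∃ k ∈ A, k • x = y := by
  classical
  haveI : Fintype G := Fintype.ofFinite G
  intro x y hx hy
  exact ktr_base D ho hx hy

theorem ct_three : ∀ g : G, ∀ a b c : Ω, a ≠ b → b ≠ c → a ≠ c → g • a = a → g • b = b →
    g • c = c → g = 1 := by
  classical
  haveI : Fintype G := Fintype.ofFinite G
  exact three D ho

theorem ct_two : ∀ {a b c d : Ω}, a ≠ b → c ≠ d → ∃ g : G, g • a = c ∧ g • b = d := by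
  intro a b c d hab hcd
  obtain ⟨g₁, hg₁⟩ := exists_smul_eq G a o
  obtain ⟨g₂, hg₂⟩ := exists_smul_eq G c o
  have h1 : g₁ • b ≠ o := by
    intro h
    apply hab
    rw [← hg₁] at h
    exact (MulAction.injective g₁ h).symm
  have h2 : g₂ • d ≠ o := by
    intro h
    apply hcd
    rw [← hg₂] at h
    exact (MulAction.injective g₂ h).symm
  obtain ⟨k, hk, hkb⟩ := ct_ktr D ho _ _ h1 h2
  have hko : k • o = o := (ho k).2 (D.le hk)
  refine ⟨g₂⁻¹ * k * g₁, ?_, ?_⟩
  · rw [mul_smul, mul_smul, hg₁, hko, inv_smul_eq_iff, hg₂]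
  · rw [mul_smul, mul_smul, hkb, inv_smul_smul]

theorem ct_zk {p0 : Ω} (hp0 : o ≠ p0) : Cfsg.Agent.Lib.helper6.ZassPSL3.ZK G Ω o p0 A :=
  { two := fun h1 h2 => ct_two D ho h1 h2
    three := ct_three D ho
    hi0 := hp0
    kfix := fun k hk => (ho k).2 (D.le hk)
    kfpf := fun k hk hk1 x hx => kfpf D ho k hk hk1 x hx
    ktr := ct_ktr D ho
    knorm := fun g hg k hk => D.norm g ((ho g).1 hg) k hk }

theorem ct_stab_odd {p0 : Ω} (hp0 : o ≠ p0) :
    Odd (Nat.card ↥(stabilizer G o ⊓ stabilizer G p0 : Subgroup G)) := by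
  rw [← Nat.not_even_iff_odd]
  intro heven
  haveI : Fact (Nat.Prime 2) := ⟨Nat.prime_two⟩
  obtain ⟨u, hu⟩ := exists_prime_orderOf_dvd_card' (G := ↥(stabilizer G o ⊓ stabilizer G p0 : Subgroup G))
    2 heven.two_dvd
  have hu1 : (u : G) ≠ 1 := by
    intro h
    have : u = 1 := Subtype.ext h
    rw [this, orderOf_one] at hu
    omega
  have huu : (u : G) * (u : G) = 1 := by
    have := pow_orderOf_eq_one u
    rw [hu, pow_two] at this
    exact congrArg Subtype.val this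
  obtain ⟨h1, h2⟩ := Subgroup.mem_inf.1 u.2
  rw [mem_stabilizer_iff] at h1 h2
  have huN : (u : G) ∈ N := (ho _).1 h1
  have huA : (u : G) ∈ A := D.invN _ huN huu
  exact kfpf D ho _ huA hu1 p0 (Ne.symm hp0) h2

theorem ct_card_even : Even (Nat.card A) := by
  obtain ⟨t, htA, ht1, htt⟩ := D.invol
  have hord : orderOf (⟨t, htA⟩ : A) = 2 := by
    apply orderOf_eq_prime
    · apply Subtype.ext
      rw [pow_two]
      exact htt
    · intro h
      exact ht1 (congrArg Subtype.val h)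
  have := orderOf_dvd_natCard (⟨t, htA⟩ : A)
  rw [hord] at this
  exact even_iff_two_dvd.2 this

end

/-- the main theorem on simple CA-groups of even order -/
theorem ct_even_psl {G : Type u} [Group G] [Finite G] [IsSimpleGroup G] (hCA : CA G)
    (hnc : ¬ ∀ a b : G, a * b = b * a) (heven : 2 ∣ Nat.card G) :
    ∃ (F : Type) (_ : Field F) (_ : Fintype F) (f : ℕ), 2 ≤ f ∧ Fintype.card F = 2 ^ f ∧
      Nonempty (G ≃* Matrix.ProjectiveSpecialLinearGroup (Fin 2) F) := by
  classical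
  have hsimple : ∀ N : Subgroup G, N.Normal → N = ⊥ ∨ N = ⊤ := fun N hN => hN.eq_bot_or_eq_top
  obtain ⟨A, N, D⟩ := exists_ctdata hCA hsimple hnc heven
  let Ω := G ⧸ N
  haveI : Fintype Ω := Fintype.ofFinite Ω
  let o : Ω := ((1 : G) : G ⧸ N)
  have ho : ∀ g : G, g • o = o ↔ g ∈ N := by
    intro g
    rw [← mem_stabilizer_iff, MulAction.stabilizer_quotient]
  obtain ⟨g0, hg0⟩ := D.ne_top
  have hp0 : o ≠ g0 • o := by
    intro h
    exact hg0 ((ho g0).1 h.symm)
  set p0 : Ω := g0 • o with hp0def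
  have Z := ct_zk D ho hp0
  have kcomm : ∀ x ∈ A, ∀ y ∈ A, x * y = y * x := D.comm
  -- a third point
  obtain ⟨t, htA, ht1, htt⟩ := D.invol
  have htp0 : t • p0 ≠ p0 := kfpf D ho t htA ht1 p0 (Ne.symm hp0)
  have htp0o : t • p0 ≠ o := by
    intro h
    have h2 : t • o = o := (ho t).2 (D.le htA)
    rw [← h2] at h
    exact hp0 (MulAction.injective t h).symm
  -- nontrivial two point stabiliser
  haveI : Fintype G := Fintype.ofFinite G
  obtain ⟨d0, hd01, hd0o, hd0p⟩ := stab_nontrivial D ho (Ne.symm hp0)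
  -- Zassenhaus group
  have hfaith : FaithfulSMul G Ω := by
    constructor
    intro g₁ g₂ h
    have h1 : g₂⁻¹ * g₁ = 1 := by
      apply ct_three D ho _ o p0 (t • p0) hp0 (Ne.symm htp0) (Ne.symm htp0o)
      · rw [mul_smul, h, inv_smul_smul]
      · rw [mul_smul, h, inv_smul_smul]
      · rw [mul_smul, h, inv_smul_smul]
    calc g₁ = g₂ * (g₂⁻¹ * g₁) := by group
      _ = g₂ := by rw [h1, mul_one]
  have h2tr : IsMultiplyPretransitive G Ω 2 :=
    MulAction.is_two_pretransitive_iff.2 (fun h1 h2 => ct_two D ho h1 h2)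
  have hZ : Cfsg.IsZassenhausGroup G Ω := by
    refine ⟨hfaith, h2tr, ct_three D ho, ⟨d0, hd01, o, p0, hp0, hd0o, hd0p⟩, ?_⟩
    intro N' hN' htr
    rcases hsimple N' hN' with h | h
    · exfalso
      subst h
      obtain ⟨n, hn⟩ := htr.exists_smul_eq o p0
      have : (n : G) = 1 := Subgroup.mem_bot.1 n.2
      apply hp0
      rw [← hn, Subgroup.smul_def, this, one_smul]
    · subst h
      refine ⟨o, ?_⟩
      intro hbot
      have hmem : (⟨d0, trivial⟩ : (⊤ : Subgroup G)) ∈ (⊥ : Subgroup (⊤ : Subgroup G)) := by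
        rw [← hbot, mem_stabilizer_iff]
        exact hd0o
      rw [Subgroup.mem_bot] at hmem
      exact hd01 (congrArg Subtype.val hmem)
  set e := Nat.card ↥(stabilizer G o ⊓ stabilizer G p0 : Subgroup G) with he
  have hodd : Odd e := ct_stab_odd D ho hp0
  have hbound : Fintype.card Ω - 2 ≤ 2 * e :=
    Cfsg.Agent.Lib.helper6.ZassFeit.simple_odd_bound hZ Z kcomm hodd
  have hEd : e ∣ Fintype.card Ω - 2 := Cfsg.Agent.Lib.helper6.ZassFeit.E_dvd (ct_three D ho) hp0
  have hcardA : Nat.card A + 1 = Fintype.card Ω := Cfsg.Agent.Lib.helper6.ZassFeit.card_KG Z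
  have hAeven : Even (Nat.card A) := ct_card_even D ho
  have hA2 : 2 ≤ Nat.card A := by
    obtain ⟨k, hk⟩ := hAeven
    have : 0 < Nat.card A := Nat.card_pos
    omega
  have he2 : 2 ≤ e := by
    have hpos : 0 < e := Nat.card_pos
    by_contra hlt
    have he1 : e = 1 := by omega
    have := Subgroup.card_eq_one.1 he1
    have hmem : d0 ∈ (stabilizer G o ⊓ stabilizer G p0 : Subgroup G) :=
      Subgroup.mem_inf.2 ⟨mem_stabilizer_iff.2 hd0o, mem_stabilizer_iff.2 hd0p⟩
    rw [this, Subgroup.mem_bot] at hmem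
    exact hd01 hmem
  have hcard_e : Fintype.card Ω - 2 = e := by
    obtain ⟨k, hk⟩ := hEd
    obtain ⟨j, hj⟩ := hAeven
    obtain ⟨l, hl⟩ := hodd
    have hk1 : 1 ≤ k := by
      rcases Nat.eq_zero_or_pos k with h | h
      · rw [h, mul_zero] at hk; omega
      · exact h
    have hk2 : k ≤ 2 := by
      by_contra hlt
      push Not at hlt
      have : e * 3 ≤ e * k := Nat.mul_le_mul_left e hlt
      omega
    interval_cases k
    · omega
    · exfalso
      omega
  have hpair : ∀ a b : Ω, a ≠ b →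
      Nat.card ↥(stabilizer G a ⊓ stabilizer G b : Subgroup G) + 2 = Fintype.card Ω := by
    intro a b hab
    rw [Cfsg.Agent.Lib.helper6.ZassInvol.card_pair hZ hp0 hab]
    omega
  obtain ⟨h3, hsharp⟩ := Cfsg.Agent.Lib.helper6.ZassFeit.sharp3_of_card
    (fun h1 h2 => ct_two D ho h1 h2) (ct_three D ho) hpair
  have hoddΩ : Odd (Fintype.card Ω) := by
    obtain ⟨j, hj⟩ := hAeven
    exact ⟨j, by omega⟩
  obtain ⟨F, iF, iFin, hcardF, ⟨hiso⟩⟩ :=
    Cfsg.Agent.Lib.helper6.Sharp3.sharp3_odd (G := G) (α := Ω) hoddΩ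
      (Cfsg.Agent.Lib.helper6.SuzGrp.sharp_T3 h3) (Cfsg.Agent.Lib.helper6.SuzGrp.sharp_S3 hsharp)
      (Ne.symm htp0) hp0 (Ne.symm htp0o)
  have hFeven : Fintype.card F % 2 = 0 := by
    obtain ⟨j, hj⟩ := hAeven
    omega
  have hchar : ringChar F = 2 := FiniteField.even_card_iff_char_two.mpr hFeven
  have h2F : (2 : F) = 0 := by
    have := CharP.cast_eq_zero F (ringChar F)
    rw [hchar] at this
    exact_mod_cast this
  obtain ⟨e'⟩ := Cfsg.Agent.Lib.helper6.SuzGrp.pgl_psl_char_two (F := F) h2F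
  obtain ⟨n, _, hn⟩ := FiniteField.card F (ringChar F)
  rw [hchar] at hn
  refine ⟨F, iF, iFin, (n : ℕ), ?_, hn, ⟨hiso.trans e'⟩⟩
  by_contra hlt
  have hn1 : (n : ℕ) = 1 := by
    have := n.pos
    omega
  rw [hn1, pow_one] at hn
  omega

end Cfsg.Agent.Lib.helper6.CT
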