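import Mathlib

/-!
# `PSL₂(F)` in characteristic two is a CT-group
-/

set_option autoImplicit false

namespace Cfsg.Agent.Lib.helper6.CT

open Matrix

theorem mat2_comm_aux {F : Type*} [Field F] {A B C : Matrix (Fin 2) (Fin 2) F}
    (hq : B 0 1 ≠ 0) (hAB : A * B = B * A) (hCB : C * B = B * C) : A * C = C * A := by
  have E00 := congrFun (congrFun hAB 0) 0
  have E01 := congrFun (congrFun hAB 0) 1
  have F00 := congrFun (congrFun hCB 0) 0
  have F01 := congrFun (congrFun hCB 0) 1
  simp only [Matrix.mul_apply, Fin.sum_univ_two] at E00 E01 F00 F01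
  ext i j
  fin_cases i <;> fin_cases j
  · simp only [Fin.zero_eta, Matrix.mul_apply, Fin.sum_univ_two]
    apply mul_left_cancel₀ hq
    linear_combination (-(A 0 1)) * F00 + (C 0 1) * E00
  · simp only [Fin.zero_eta, Fin.mk_one, Matrix.mul_apply, Fin.sum_univ_two]
    apply mul_left_cancel₀ hq
    linear_combination (C 0 1) * E01 - (A 0 1) * F01
  · simp only [Fin.zero_eta, Fin.mk_one, Matrix.mul_apply, Fin.sum_univ_two]
    apply mul_left_cancel₀ (mul_ne_zero hq hq)
    linear_combination (A 0 1 * B 1 0) * F01 - (B 0 1 * (C 0 0 - C 1 1)) * E00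
      - (C 0 1 * B 1 0) * E01 + (B 0 1 * (A 0 0 - A 1 1)) * F00
  · simp only [Fin.mk_one, Matrix.mul_apply, Fin.sum_univ_two]
    apply mul_left_cancel₀ hq
    linear_combination (-(C 0 1)) * E00 + (A 0 1) * F00

/-- two matrices commuting with a non-scalar `2 × 2` matrix commute -/
theorem mat2_comm {F : Type*} [Field F] {A B C : Matrix (Fin 2) (Fin 2) F}
    (hB : B 0 1 ≠ 0 ∨ B 1 0 ≠ 0 ∨ B 0 0 ≠ B 1 1) (hAB : A * B = B * A) (hCB : C * B = B * C) :
    A * C = C * A := by
  by_cases hq : B 0 1 ≠ 0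
  · exact mat2_comm_aux hq hAB hCB
  by_cases hr : B 1 0 ≠ 0
  · have h' : Bᵀ 0 1 ≠ 0 := by simpa [Matrix.transpose_apply] using hr
    have h1 : Aᵀ * Bᵀ = Bᵀ * Aᵀ := by
      rw [← Matrix.transpose_mul, ← Matrix.transpose_mul, hAB]
    have h2 : Cᵀ * Bᵀ = Bᵀ * Cᵀ := by
      rw [← Matrix.transpose_mul, ← Matrix.transpose_mul, hCB]
    have := mat2_comm_aux h' h1 h2
    rw [← Matrix.transpose_mul, ← Matrix.transpose_mul] at this
    exact (Matrix.transpose_injective this).symm
  push Not at hq hr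
  have hps : B 0 0 ≠ B 1 1 := by
    rcases hB with h | h | h
    · exact absurd hq h
    · exact absurd hr h
    · exact h
  have E01 := congrFun (congrFun hAB 0) 1
  have E10 := congrFun (congrFun hAB 1) 0
  have F01 := congrFun (congrFun hCB 0) 1
  have F10 := congrFun (congrFun hCB 1) 0
  simp only [Matrix.mul_apply, Fin.sum_univ_two, hq, hr, mul_zero, zero_mul, zero_add,
    add_zero] at E01 E10 F01 F10
  have hsub : B 0 0 - B 1 1 ≠ 0 := sub_ne_zero.2 hps
  have ha2 : A 0 1 = 0 := by
    apply mul_left_cancel₀ hsub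
    linear_combination -E01
  have ha3 : A 1 0 = 0 := by
    apply mul_left_cancel₀ hsub
    linear_combination E10
  have hc2 : C 0 1 = 0 := by
    apply mul_left_cancel₀ hsub
    linear_combination -F01
  have hc3 : C 1 0 = 0 := by
    apply mul_left_cancel₀ hsub
    linear_combination F10
  ext i j
  fin_cases i <;> fin_cases j <;>
    simp [Matrix.mul_apply, Fin.sum_univ_two, ha2, ha3, hc2, hc3, mul_comm]

/-- the centre of `SL₂(F)` is trivial in characteristic two -/
theorem sl2_center_char_two {F : Type*} [Field F] (h2 : (2 : F) = 0) :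
    Subgroup.center (SpecialLinearGroup (Fin 2) F) = ⊥ := by
  rw [eq_bot_iff]
  intro x hx
  rw [Matrix.SpecialLinearGroup.mem_center_iff] at hx
  obtain ⟨r, hr, hrx⟩ := hx
  rw [Fintype.card_fin] at hr
  have hr1 : r = 1 := by
    have h : (r - 1) * (r - 1) = 0 := by
      linear_combination hr - (r - 1) * h2
    have := mul_self_eq_zero.1 h
    exact sub_eq_zero.1 this
  rw [Subgroup.mem_bot]
  apply Subtype.ext
  rw [← hrx, hr1]
  simp

theorem psl2_char_two_ct {F : Type*} [Field F] (h2 : (2 : F) = 0)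
    (a b c : ProjectiveSpecialLinearGroup (Fin 2) F) (hb : b ≠ 1)
    (hab : Commute a b) (hbc : Commute b c) : Commute a c := by
  have hcen := sl2_center_char_two h2
  obtain ⟨a', rfl⟩ := QuotientGroup.mk_surjective a
  obtain ⟨b', rfl⟩ := QuotientGroup.mk_surjective b
  obtain ⟨c', rfl⟩ := QuotientGroup.mk_surjective c
  have hinj : ∀ x y : SpecialLinearGroup (Fin 2) F,
      (QuotientGroup.mk x : ProjectiveSpecialLinearGroup (Fin 2) F) = QuotientGroup.mk y → x = y := by
    intro x y hxy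
    rw [QuotientGroup.eq, hcen, Subgroup.mem_bot] at hxy
    calc x = x * (x⁻¹ * y) := by rw [hxy, mul_one]
      _ = y := by group
  have hab' : a' * b' = b' * a' := by
    apply hinj
    rw [QuotientGroup.mk_mul, QuotientGroup.mk_mul]
    exact hab
  have hbc' : b' * c' = c' * b' := by
    apply hinj
    rw [QuotientGroup.mk_mul, QuotientGroup.mk_mul]
    exact hbc
  have hb1 : b' ≠ 1 := by
    intro h
    apply hb
    rw [h]
    rfl
  -- b' is not scalar
  have hns : (b' : Matrix (Fin 2) (Fin 2) F) 0 1 ≠ 0 ∨ (b' : Matrix (Fin 2) (Fin 2) F) 1 0 ≠ 0 ∨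
      (b' : Matrix (Fin 2) (Fin 2) F) 0 0 ≠ (b' : Matrix (Fin 2) (Fin 2) F) 1 1 := by
    by_contra hcon
    push Not at hcon
    obtain ⟨h01, h10, h00⟩ := hcon
    have hdet := b'.2
    rw [Matrix.det_fin_two, h01, h10, ← h00] at hdet
    have hp : (b' : Matrix (Fin 2) (Fin 2) F) 0 0 = 1 := by
      have h : ((b' : Matrix (Fin 2) (Fin 2) F) 0 0 - 1) * ((b' : Matrix (Fin 2) (Fin 2) F) 0 0 - 1) = 0 := by
        linear_combination hdet - ((b' : Matrix (Fin 2) (Fin 2) F) 0 0 - 1) * h2
      exact sub_eq_zero.1 (mul_self_eq_zero.1 h)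
    apply hb1
    apply Subtype.ext
    ext i j
    fin_cases i <;> fin_cases j
    · simpa using hp
    · simpa using h01
    · simpa using h10
    · simp only [Fin.mk_one]
      rw [← h00, hp]
      simp
  have hmab : (a' : Matrix (Fin 2) (Fin 2) F) * (b' : Matrix (Fin 2) (Fin 2) F) =
      (b' : Matrix (Fin 2) (Fin 2) F) * (a' : Matrix (Fin 2) (Fin 2) F) := by
    have := congrArg Subtype.val hab'
    simpa using this
  have hmcb : (c' : Matrix (Fin 2) (Fin 2) F) * (b' : Matrix (Fin 2) (Fin 2) F) =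
      (b' : Matrix (Fin 2) (Fin 2) F) * (c' : Matrix (Fin 2) (Fin 2) F) := by
    have := congrArg Subtype.val hbc'
    simpa using this.symm
  have hmac := mat2_comm hns hmab hmcb
  have hac' : a' * c' = c' * a' := by
    apply Subtype.ext
    simpa using hmac
  show (QuotientGroup.mk a' : ProjectiveSpecialLinearGroup (Fin 2) F) * QuotientGroup.mk c' =
    QuotientGroup.mk c' * QuotientGroup.mk a'
  rw [← QuotientGroup.mk_mul, ← QuotientGroup.mk_mul, hac']

end Cfsg.Agent.Lib.helper6.CT
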