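import Cfsg.Agent.Lib.Helper21.DGU.Grp

set_option autoImplicit false
set_option maxRecDepth 1000000

/-!
# DGU piece E2 (helper6): the 6048 elements of `E1144` are the products of the transversal elements of
the two levels of the chain.
-/

namespace Cfsg.Agent.Lib.Helper21.DGU

open Cfsg.Agent.Lib.helper23 Subgroup

theorem h6_hb1 : u3eL1.b < 1144 := (pgChkLvlW0_spec u3echk0x1).1

theorem h6_hb2 : u3eL2.b < 1144 := (pgChkLvlW0_spec u3echk0x2).1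

theorem h6_chk2 : pgChkW 1144 (pgRigidAll 1144).base [u3eL2] = true :=
  pgChkW_tail (L := u3eL1) u3echkC

theorem h6_grp2 : pgGrpW 1144 [u3eL2] = closure (pgSet 1144 u3eL2.own) := rfl

/-- the first transversal moves the first base point to `z` -/
theorem h6_U1_apply (z : ℕ) (hz : z < 1144) (hO : u3eL1.inO z = true) :
    ((dguU1 z : ↥E1144) : Equiv.Perm (Fin 1144)) ⟨u3eL1.b, h6_hb1⟩ = ⟨z, hz⟩ := by
  obtain ⟨-, -, hok, -, -, hU, -⟩ := pgChkLvlW0_spec u3echk0x1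
  apply Fin.ext
  change ((pgWordPerm 1144 u3eL1.own (u3eL1.path z)) ⟨u3eL1.b, h6_hb1⟩).1 = z
  rw [pgWordPerm_apply hok]
  exact (hU z hz hO).2

/-- the second transversal moves the second base point to `y` -/
theorem h6_U2_apply (y : ℕ) (hy : y < 1144) (hO : u3eL2.inO y = true) :
    ((dguU2 y : ↥E1144) : Equiv.Perm (Fin 1144)) ⟨u3eL2.b, h6_hb2⟩ = ⟨y, hy⟩ := by
  obtain ⟨-, -, hok, -, -, hU, -⟩ := pgChkLvlW0_spec u3echk0x2
  apply Fin.ext
  change ((pgWordPerm 1144 u3eL2.own (u3eL2.path y)) ⟨u3eL2.b, h6_hb2⟩).1 = y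
  rw [pgWordPerm_apply hok]
  exact (hU y hy hO).2

theorem h6_U2_mem (y : ℕ) :
    ((dguU2 y : ↥E1144) : Equiv.Perm (Fin 1144)) ∈ closure (pgSet 1144 u3eL2.own) :=
  pgWordPerm_mem dguok2 _

/-- the group of the second level fixes the first base point -/
theorem h6_fix1 : ∀ k ∈ closure (pgSet 1144 u3eL2.own),
    k (⟨u3eL1.b, h6_hb1⟩ : Fin 1144) = ⟨u3eL1.b, h6_hb1⟩ := by
  obtain ⟨-, hfix, -, -, -, -, -⟩ := pgChkLvlW0_spec u3echk0x1
  have h := pgGrpW_fix (n := 1144) (C := [u3eL2]) (b := ⟨u3eL1.b, h6_hb1⟩) hfix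
    (pgChkW_own_ok 1144 (pgRigidAll 1144).base [u3eL2] h6_chk2)
  exact h

theorem h6_stab1 : ∀ g ∈ E1144, g (⟨u3eL1.b, h6_hb1⟩ : Fin 1144) = ⟨u3eL1.b, h6_hb1⟩ →
    g ∈ closure (pgSet 1144 u3eL2.own) := by
  obtain ⟨_, h1, -, -, -⟩ := pgLvlW_main (pgRigidAll 1144) (L := u3eL1) (C := [u3eL2]) u3echkC u3eA
  exact h1

theorem h6_stab2 : ∀ g ∈ closure (pgSet 1144 u3eL2.own),
    g (⟨u3eL2.b, h6_hb2⟩ : Fin 1144) = ⟨u3eL2.b, h6_hb2⟩ → g = 1 := by
  obtain ⟨_, h1, -, -, -⟩ := pgLvlW_main (pgRigidAll 1144) (L := u3eL2) (C := []) h6_chk2 le_top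
  intro g hg hfix
  have := h1 g hg hfix
  rw [pgGrpW_nil] at this
  exact Subgroup.mem_bot.1 this

theorem h6_orb1 : ∀ g ∈ E1144, u3eL1.inO (g (⟨u3eL1.b, h6_hb1⟩ : Fin 1144)).1 = true :=
  pgLvlW_orbit (pgRigidAll 1144) (L := u3eL1) (C := [u3eL2]) u3echkC u3eA h6_hb1

theorem h6_orb2 : ∀ g ∈ closure (pgSet 1144 u3eL2.own),
    u3eL2.inO (g (⟨u3eL2.b, h6_hb2⟩ : Fin 1144)).1 = true :=
  pgLvlW_orbit (pgRigidAll 1144) (L := u3eL2) (C := []) h6_chk2 le_top h6_hb2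

/-- uniqueness of the factorisation -/
theorem h6_inj (z y z' y' : ℕ) (hz : z < 1144) (hO : u3eL1.inO z = true) (hy : y < 1144)
    (hO2 : u3eL2.inO y = true) (hz' : z' < 1144) (hO' : u3eL1.inO z' = true) (hy' : y' < 1144)
    (hO2' : u3eL2.inO y' = true) (h : dguU1 z * dguU2 y = dguU1 z' * dguU2 y') :
    z = z' ∧ y = y' := by
  have hp : ((dguU1 z : ↥E1144) : Equiv.Perm (Fin 1144)) * ((dguU2 y : ↥E1144) : Equiv.Perm (Fin 1144))
      = ((dguU1 z' : ↥E1144) : Equiv.Perm (Fin 1144)) *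
        ((dguU2 y' : ↥E1144) : Equiv.Perm (Fin 1144)) := by
    have := congrArg (fun g : ↥E1144 => (g : Equiv.Perm (Fin 1144))) h
    simpa using this
  have h1 := DFunLike.congr_fun hp (⟨u3eL1.b, h6_hb1⟩ : Fin 1144)
  rw [Equiv.Perm.mul_apply, Equiv.Perm.mul_apply] at h1
  rw [h6_fix1 _ (h6_U2_mem y), h6_fix1 _ (h6_U2_mem y'), h6_U1_apply z hz hO,
    h6_U1_apply z' hz' hO'] at h1
  have hzz : z = z' := congrArg Fin.val h1
  subst hzz
  have hp2 : ((dguU2 y : ↥E1144) : Equiv.Perm (Fin 1144)) =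
      ((dguU2 y' : ↥E1144) : Equiv.Perm (Fin 1144)) := mul_left_cancel hp
  have h2 := DFunLike.congr_fun hp2 (⟨u3eL2.b, h6_hb2⟩ : Fin 1144)
  rw [h6_U2_apply y hy hO2, h6_U2_apply y' hy' hO2'] at h2
  exact ⟨rfl, congrArg Fin.val h2⟩

/-- existence of the factorisation -/
theorem h6_surj (g : ↥E1144) : ∃ z y : ℕ, z < 1144 ∧ u3eL1.inO z = true ∧ y < 1144 ∧
    u3eL2.inO y = true ∧ dguU1 z * dguU2 y = g := by
  set b1 : Fin 1144 := ⟨u3eL1.b, h6_hb1⟩ with hb1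
  set b2 : Fin 1144 := ⟨u3eL2.b, h6_hb2⟩ with hb2
  set z : Fin 1144 := (g : Equiv.Perm (Fin 1144)) b1 with hzdef
  have hzO : u3eL1.inO z.1 = true := h6_orb1 g g.2
  set h : Equiv.Perm (Fin 1144) :=
    ((dguU1 z.1 : ↥E1144) : Equiv.Perm (Fin 1144))⁻¹ * (g : Equiv.Perm (Fin 1144)) with hh
  have hhE : h ∈ E1144 := E1144.mul_mem (E1144.inv_mem (dguU1 z.1).2) g.2
  have hhfix : h b1 = b1 := by
    rw [hh, Equiv.Perm.mul_apply, ← hzdef, Equiv.Perm.inv_eq_iff_eq]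
    exact (h6_U1_apply z.1 z.2 hzO).symm
  have hh2 : h ∈ closure (pgSet 1144 u3eL2.own) := h6_stab1 h hhE hhfix
  set y : Fin 1144 := h b2 with hydef
  have hyO : u3eL2.inO y.1 = true := h6_orb2 h hh2
  set k : Equiv.Perm (Fin 1144) :=
    ((dguU2 y.1 : ↥E1144) : Equiv.Perm (Fin 1144))⁻¹ * h with hk
  have hk2 : k ∈ closure (pgSet 1144 u3eL2.own) :=
    Subgroup.mul_mem _ (Subgroup.inv_mem _ (h6_U2_mem y.1)) hh2
  have hkfix : k b2 = b2 := by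
    rw [hk, Equiv.Perm.mul_apply, ← hydef, Equiv.Perm.inv_eq_iff_eq]
    exact (h6_U2_apply y.1 y.2 hyO).symm
  have hk1 : k = 1 := h6_stab2 k hk2 hkfix
  refine ⟨z.1, y.1, z.2, hzO, y.2, hyO, ?_⟩
  apply Subtype.ext
  show ((dguU1 z.1 : ↥E1144) : Equiv.Perm (Fin 1144)) *
    ((dguU2 y.1 : ↥E1144) : Equiv.Perm (Fin 1144)) = (g : Equiv.Perm (Fin 1144))
  have e1 : ((dguU2 y.1 : ↥E1144) : Equiv.Perm (Fin 1144)) = h := by
    have := hk1
    rw [hk, inv_mul_eq_one] at this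
    exact this
  rw [e1, hh, mul_inv_cancel_left]

/-- DGU-E2: the 6048 elements of `E1144` are the products of the transversal elements of the two levels of the chain. -/
theorem dgu_sum_group [Fintype ↥E1144] (F : ↥E1144 → ℂ) :
    ∑ g : ↥E1144, F g = ∑ z ∈ Finset.range 1144, if u3eL1.inO z = true then
      (∑ y ∈ Finset.range 1144, if u3eL2.inO y = true then F (dguU1 z * dguU2 y) else 0) else 0 := by
  classical
  rw [← Finset.sum_filter]
  have hin : ∀ z, (∑ y ∈ Finset.range 1144,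
      if u3eL2.inO y = true then F (dguU1 z * dguU2 y) else 0) =
      ∑ y ∈ (Finset.range 1144).filter (fun y => u3eL2.inO y = true),
        F (dguU1 z * dguU2 y) := fun z => (Finset.sum_filter _ _).symm
  simp only [hin]
  rw [← Finset.sum_product']
  symm
  refine Finset.sum_bij (fun p _ => dguU1 p.1 * dguU2 p.2) (fun _ _ => Finset.mem_univ _) ?_ ?_
    (fun _ _ => rfl)
  · rintro ⟨z, y⟩ hp ⟨z', y'⟩ hp' h
    simp only [Finset.mem_product, Finset.mem_filter, Finset.mem_range] at hp hp'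
    obtain ⟨e1, e2⟩ := h6_inj z y z' y' hp.1.1 hp.1.2 hp.2.1 hp.2.2 hp'.1.1 hp'.1.2 hp'.2.1
      hp'.2.2 h
    rw [e1, e2]
  · intro g _
    obtain ⟨z, y, hz, hzO, hy, hyO, e⟩ := h6_surj g
    refine ⟨(z, y), ?_, e⟩
    simp only [Finset.mem_product, Finset.mem_filter, Finset.mem_range]
    exact ⟨⟨hz, hzO⟩, ⟨hy, hyO⟩⟩

end Cfsg.Agent.Lib.Helper21.DGU
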