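import Mathlib
import Cfsg.Agent.Lib.helper6.Disc2

set_option autoImplicit false

namespace Cfsg.Agent.Lib.helper6.Disc

open Module Matrix LinearMap TensorProduct
open scoped Kronecker

section
variable {F : Type*} [Field F]
variable {U W : Type*} [AddCommGroup U] [Module F U] [AddCommGroup W] [Module F W]

theorem gdet_tmul {ι κ : Type*} [Fintype ι] [DecidableEq ι] [Fintype κ] [DecidableEq κ]
    (b₁ : Basis ι F U) (b₂ : Basis κ F W) (B₁ : LinearMap.BilinForm F U)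
    (B₂ : LinearMap.BilinForm F W) :
    gdet (b₁.tensorProduct b₂) (B₁.tmul B₂) =
      gdet b₁ B₁ ^ Fintype.card κ * gdet b₂ B₂ ^ Fintype.card ι := by
  unfold gdet
  have : LinearMap.BilinForm.toMatrix (b₁.tensorProduct b₂) (B₁.tmul B₂) =
      (LinearMap.BilinForm.toMatrix b₁ B₁) ⊗ₖ (LinearMap.BilinForm.toMatrix b₂ B₂) := by
    ext ⟨i, j⟩ ⟨i', j'⟩
    rw [LinearMap.BilinForm.toMatrix_apply, Basis.tensorProduct_apply, Basis.tensorProduct_apply,
      Matrix.kroneckerMap_apply, LinearMap.BilinForm.toMatrix_apply,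
      LinearMap.BilinForm.toMatrix_apply]
    show LinearMap.BilinForm.tensorDistrib F F (B₁ ⊗ₜ B₂) _ _ = _
    rw [LinearMap.BilinForm.tensorDistrib_tmul, smul_eq_mul, mul_comm]
  rw [this, Matrix.det_kronecker]

theorem tmul_isSymm_bf (B₁ : LinearMap.BilinForm F U) (B₂ : LinearMap.BilinForm F W)
    (hS₁ : B₁.IsSymm) (hS₂ : B₂.IsSymm) : LinearMap.BilinForm.IsSymm (B₁.tmul B₂) :=
  LinearMap.BilinForm.isSymm_iff.mpr (LinearMap.IsSymm.tmul
    (LinearMap.BilinForm.isSymm_iff.mp hS₁) (LinearMap.BilinForm.isSymm_iff.mp hS₂))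

theorem main834 [Fintype F] [FiniteDimensional F U] [FiniteDimensional F W] (h2 : (2 : F) ≠ 0)
    (B₁ : LinearMap.BilinForm F U) (B₂ : LinearMap.BilinForm F W) (h₁ : B₁.Nondegenerate)
    (h₂ : B₂.Nondegenerate) (hS₁ : B₁.IsSymm) (hS₂ : B₂.IsSymm) (k l : ℕ)
    (hU : Module.finrank F U = 2 * k) (hW : Module.finrank F W = 2 * l) :
    ∃ X : Submodule F (TensorProduct F U W), Module.finrank F X = 2 * k * l ∧
      ∀ x ∈ X, ∀ y ∈ X, (B₁.tmul B₂) x y = 0 := by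
  classical
  let b₁ := Module.finBasisOfFinrankEq F U hU
  let b₂ := Module.finBasisOfFinrankEq F W hW
  have hdet := gdet_tmul b₁ b₂ B₁ B₂
  simp only [Fintype.card_fin] at hdet
  have hS := tmul_isSymm_bf B₁ B₂ hS₁ hS₂
  have ha : gdet b₁ B₁ ≠ 0 := (LinearMap.BilinForm.nondegenerate_iff_det_ne_zero b₁).mp h₁
  have hc : gdet b₂ B₂ ≠ 0 := (LinearMap.BilinForm.nondegenerate_iff_det_ne_zero b₂).mp h₂
  have hnd : (B₁.tmul B₂).Nondegenerate := by
    apply (LinearMap.BilinForm.nondegenerate_iff_det_ne_zero (b₁.tensorProduct b₂)).mpr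
    show gdet (b₁.tensorProduct b₂) (B₁.tmul B₂) ≠ 0
    rw [hdet]
    exact mul_ne_zero (pow_ne_zero _ ha) (pow_ne_zero _ hc)
  have hfr : finrank F (U ⊗[F] W) = 2 * (2 * k * l) := by
    rw [finrank_tensorProduct, hU, hW]; ring
  apply exists_ti_of_isSquare h2 (B₁.tmul B₂) hS hnd (2 * k * l) hfr (b₁.tensorProduct b₂)
  rw [hdet]
  refine ⟨gdet b₁ B₁ ^ l * gdet b₂ B₂ ^ k, ?_⟩
  have : (-1 : F) ^ (2 * k * l) = 1 := by rw [mul_assoc, pow_mul]; simp
  rw [this, one_mul, pow_mul, pow_mul]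
  ring

theorem main835 [Fintype F] [FiniteDimensional F U] [FiniteDimensional F W] (h2 : (2 : F) ≠ 0)
    (B₁ : LinearMap.BilinForm F U) (B₂ : LinearMap.BilinForm F W) (h₁ : B₁.Nondegenerate)
    (h₂ : B₂.Nondegenerate) (hS₁ : B₁.IsSymm) (hS₂ : B₂.IsSymm) (k l : ℕ)
    (hU : Module.finrank F U = 2 * k) (hW : Module.finrank F W = 2 * l + 1)
    (hm₁ : ¬ ∃ X : Submodule F U, finrank F X = k ∧ ∀ x ∈ X, ∀ y ∈ X, B₁ x y = 0) :
    ¬ ∃ X : Submodule F (TensorProduct F U W), finrank F X = k * (2 * l + 1) ∧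
      ∀ x ∈ X, ∀ y ∈ X, (B₁.tmul B₂) x y = 0 := by
  classical
  rintro ⟨X, hXdim, hXti⟩
  apply hm₁
  let b₁ := Module.finBasisOfFinrankEq F U hU
  let b₂ := Module.finBasisOfFinrankEq F W hW
  have hdet := gdet_tmul b₁ b₂ B₁ B₂
  simp only [Fintype.card_fin] at hdet
  have hS := tmul_isSymm_bf B₁ B₂ hS₁ hS₂
  have hc : gdet b₂ B₂ ≠ 0 := (LinearMap.BilinForm.nondegenerate_iff_det_ne_zero b₂).mp h₂
  have hfr : finrank F (U ⊗[F] W) = 2 * (k * (2 * l + 1)) := by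
    rw [finrank_tensorProduct, hU, hW]; ring
  have hsq := isSquare_of_ti (B₁.tmul B₂) hS X (k * (2 * l + 1)) hXdim hfr hXti
    (b₁.tensorProduct b₂)
  rw [hdet] at hsq
  apply exists_ti_of_isSquare h2 B₁ hS₁ h₁ k hU b₁
  set a := gdet b₁ B₁
  set c := gdet b₂ B₂
  set e := (-1 : F) ^ k * a with he_def
  have he : (-1 : F) ^ (k * (2 * l + 1)) * (a ^ (2 * l + 1) * c ^ (2 * k))
      = e ^ (2 * l + 1) * (c ^ k) ^ 2 := by
    rw [he_def, pow_mul, mul_pow, pow_mul', ← pow_mul]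
    ring
  by_cases he0 : e = 0
  · rw [he0]; exact ⟨0, by simp⟩
  · obtain ⟨s, hs⟩ := hsq
    rw [he] at hs
    refine ⟨s / (c ^ k * e ^ l), ?_⟩
    have hck : c ^ k ≠ 0 := pow_ne_zero _ hc
    have hel : e ^ l ≠ 0 := pow_ne_zero _ he0
    field_simp
    rw [← pow_two] at hs
    rw [← hs]
    ring

end
end Cfsg.Agent.Lib.helper6.Disc
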