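import Mathlib

set_option autoImplicit false

namespace Cfsg.Agent.Lib.helper6.L213

open Subgroup

variable {G : Type*} [Group G]

/-- In a simple group the action on the cosets of a proper subgroup is faithful. -/
theorem toPerm_inj [IsSimpleGroup G] (H : Subgroup G) (hH : H ≠ ⊤) :
    Function.Injective (MulAction.toPermHom G (G ⧸ H)) := by
  rw [← MonoidHom.ker_eq_bot_iff, ← Subgroup.normalCore_eq_ker]
  rcases (Subgroup.normalCore_normal H).eq_bot_or_eq_top with h | h
  · exact h
  · exfalso
    apply hH
    rw [eq_top_iff, ← h]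
    exact Subgroup.normalCore_le H

theorem card_dvd_fact [Finite G] [IsSimpleGroup G] (H : Subgroup G) (hH : H ≠ ⊤) :
    Nat.card G ∣ (H.index).factorial := by
  classical
  let _ : Fintype (G ⧸ H) := Fintype.ofFinite _
  have hinj := toPerm_inj H hH
  have h1 : Nat.card G = Nat.card (MulAction.toPermHom G (G ⧸ H)).range :=
    Nat.card_congr (MonoidHom.ofInjective hinj).toEquiv
  have h2 : Nat.card (MulAction.toPermHom G (G ⧸ H)).range ∣ Nat.card (Equiv.Perm (G ⧸ H)) :=
    Subgroup.card_subgroup_dvd_card _
  rw [h1]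
  refine h2.trans ?_
  rw [Nat.card_eq_fintype_card, Fintype.card_perm, ← Nat.card_eq_fintype_card,
    ← Subgroup.index_eq_card]

section

variable [Finite G] [IsSimpleGroup G] (hc : Nat.card G = 1092)
include hc

theorem index_ge (H : Subgroup G) (hH : H ≠ ⊤) : 13 ≤ H.index := by
  have h1 := card_dvd_fact H hH
  rw [hc] at h1
  have h13 : 13 ∣ (H.index).factorial := dvd_trans (by norm_num) h1
  exact (Nat.Prime.dvd_factorial (by norm_num)).mp h13

theorem card_le (H : Subgroup G) (hH : H ≠ ⊤) : Nat.card H ≤ 84 := by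
  have h1 := index_ge hc H hH
  have h2 := H.card_mul_index
  rw [hc] at h2
  nlinarith

theorem card_dvd (H : Subgroup G) : Nat.card H ∣ 1092 := by
  rw [← hc]; exact Subgroup.card_subgroup_dvd_card H

theorem ne_top_of_card_lt (H : Subgroup G) (h : Nat.card H < 1092) : H ≠ ⊤ := by
  rintro rfl
  rw [Subgroup.card_top, hc] at h
  exact lt_irrefl _ h

/-- In a proper subgroup `H`, a subgroup `P` of prime order `p` (`p ∥ 1092`) is normal provided
the Sylow counting leaves no other possibility. -/
theorem le_normalizer_of_prime (p : ℕ) [hp : Fact p.Prime] (hpp : ¬ p * p ∣ 1092)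
    (hcnt : ∀ m n : ℕ, p * m ∣ 1092 → p * m ≤ 84 → n ∣ m → n % p = 1 → n = 1)
    (H : Subgroup G) (hH : H ≠ ⊤) (P : Subgroup G) (hPH : P ≤ H) (hP : Nat.card P = p) :
    H ≤ normalizer P := by
  classical
  -- work inside H
  set P' : Subgroup H := P.subgroupOf H with hP'
  have hP'card : Nat.card P' = p := by
    rw [hP', ← hP]
    exact Nat.card_congr (Subgroup.subgroupOfEquivOfLe hPH).toEquiv
  have hP'p : IsPGroup p P' := IsPGroup.of_card (n := 1) (by rw [hP'card, pow_one])
  obtain ⟨Q, hQ⟩ := hP'p.exists_le_sylow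
  -- Q has order p
  have hQcard : Nat.card Q = p := by
    obtain ⟨k, hk⟩ := IsPGroup.iff_card.mp Q.isPGroup'
    have h1 : Nat.card Q ∣ 1092 :=
      (Subgroup.card_subgroup_dvd_card (Q : Subgroup H)).trans (card_dvd hc H)
    have h2 : p ∣ Nat.card Q := by
      have := Subgroup.card_dvd_of_le hQ
      rwa [hP'card] at this
    rw [hk] at h1 h2 ⊢
    rcases k with _ | _ | k
    · simp at h2
      exact absurd h2 hp.out.one_lt.ne'
    · simp
    · exfalso
      apply hpp
      refine dvd_trans ?_ h1
      rw [pow_succ, pow_succ, mul_assoc]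
      exact Dvd.intro_left _ rfl
  have hQP : (Q : Subgroup H) = P' := by
    symm
    apply Subgroup.eq_of_le_of_card_ge hQ
    rw [hQcard, hP'card]
  -- count
  have hmod := card_sylow_modEq_one p H
  have hdvd := Q.card_dvd_index
  have hidx : Nat.card (Q : Subgroup H) * (Q : Subgroup H).index = Nat.card H :=
    (Q : Subgroup H).card_mul_index
  rw [hQcard] at hidx
  have hone : Nat.card (Sylow p H) = 1 := by
    apply hcnt (Q : Subgroup H).index (Nat.card (Sylow p H))
    · rw [hidx]; exact card_dvd hc H
    · rw [hidx]; exact card_le hc H hH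
    · exact hdvd
    · have := hmod
      unfold Nat.ModEq at this
      rw [this]
      exact Nat.mod_eq_of_lt hp.out.one_lt
  have hsub : Subsingleton (Sylow p H) := (Nat.card_eq_one_iff_unique.mp hone).1
  have hnorm : (Q : Subgroup H).Normal := Q.normal_of_subsingleton
  rw [hQP] at hnorm
  exact (normal_subgroupOf_iff_le_normalizer hPH).mp hnorm

end

end Cfsg.Agent.Lib.helper6.L213
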