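import Mathlib
import Cfsg.Agent.Lib.helper6.L213a

set_option autoImplicit false

namespace Cfsg.Agent.Lib.helper6.L213

open Subgroup

variable {G : Type*} [Group G]

/-- existence of a subgroup of prime order -/
theorem exists_sub_prime [Finite G] (p : ℕ) [hp : Fact p.Prime] (H : Subgroup G) (h : p ∣ Nat.card H) :
    ∃ P : Subgroup G, P ≤ H ∧ Nat.card P = p := by
  obtain ⟨x, hx⟩ := exists_prime_orderOf_dvd_card' p h
  refine ⟨Subgroup.zpowers (x : G), ?_, ?_⟩
  · rw [Subgroup.zpowers_le]; exact x.2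
  · rw [Nat.card_zpowers, Subgroup.orderOf_coe, hx]

section

variable [Finite G] [IsSimpleGroup G] (hc : Nat.card G = 1092)
include hc

theorem ne_bot_top_of_card (H : Subgroup G) (h1 : 1 < Nat.card H) (h2 : Nat.card H < 1092) :
    ¬ H.Normal := by
  intro hn
  rcases hn.eq_bot_or_eq_top with h | h
  · rw [h, Subgroup.card_bot] at h1; exact lt_irrefl _ h1
  · exact ne_top_of_card_lt hc H h2 h

/-- order of the normalizer of a subgroup of prime order `p ∥ 1092` when Sylow counting pins
down the number `n0` of Sylow subgroups -/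
theorem sylow_normalizer_card (p : ℕ) [hp : Fact p.Prime] (hpp : ¬ p * p ∣ 1092) (hp2 : p < 1092)
    (n0 : ℕ) (hcnt : ∀ n m : ℕ, p * m = 1092 → n ∣ m → n % p = 1 → n = 1 ∨ n = n0)
    (P : Subgroup G) (hP : Nat.card P = p) :
    (normalizer (P : Set G)).index = n0 := by
  classical
  have hPp : IsPGroup p P := IsPGroup.of_card (n := 1) (by rw [hP, pow_one])
  obtain ⟨Q, hQ⟩ := hPp.exists_le_sylow
  have hQcard : Nat.card Q = p := by
    obtain ⟨k, hk⟩ := IsPGroup.iff_card.mp Q.isPGroup'
    have h1 : Nat.card Q ∣ 1092 := card_dvd hc (Q : Subgroup G)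
    have h2 : p ∣ Nat.card Q := by
      have := Subgroup.card_dvd_of_le hQ
      rwa [hP] at this
    rw [hk] at h1 h2 ⊢
    rcases k with _ | _ | k
    · simp at h2
      exact absurd h2 hp.out.one_lt.ne'
    · simp
    · exfalso
      apply hpp
      refine dvd_trans ?_ h1
      rw [pow_succ, pow_succ, mul_assoc]
      exact Dvd.intro_left _ rfl
  have hQP : (Q : Subgroup G) = P := by
    symm
    apply Subgroup.eq_of_le_of_card_ge hQ
    rw [hQcard, hP]
  have hmod := card_sylow_modEq_one p G
  have hdvd := Q.card_dvd_index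
  have hidx : Nat.card (Q : Subgroup G) * (Q : Subgroup G).index = Nat.card G :=
    (Q : Subgroup G).card_mul_index
  rw [hQcard, hc] at hidx
  have hn := Q.card_eq_index_normalizer
  have hset : ((Q : Sylow p G) : Set G) = (P : Set G) := by rw [← hQP]; rfl
  rw [hset] at hn
  have hcases := hcnt (Nat.card (Sylow p G)) (Q : Subgroup G).index hidx hdvd (by
    have := hmod
    unfold Nat.ModEq at this
    rw [this]
    exact Nat.mod_eq_of_lt hp.out.one_lt)
  rcases hcases with h | h
  · exfalso
    have hsub : Subsingleton (Sylow p G) := (Nat.card_eq_one_iff_unique.mp h).1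
    have hnorm : (Q : Subgroup G).Normal := Q.normal_of_subsingleton
    rw [hQP] at hnorm
    exact ne_bot_top_of_card hc P (by rw [hP]; exact hp.out.one_lt) (by rw [hP]; exact hp2) hnorm
  · rw [← hn]; exact h

theorem normalizer_card_13 (P : Subgroup G) (hP : Nat.card P = 13) :
    Nat.card (normalizer (P : Set G)) = 78 := by
  haveI : Fact (Nat.Prime 13) := ⟨by norm_num⟩
  have h := sylow_normalizer_card hc 13 (by norm_num) (by norm_num) 14 (by
    intro n m hm hn hmod
    have hm' : m = 84 := by omega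
    subst hm'
    have hle : n ≤ 84 := Nat.le_of_dvd (by norm_num) hn
    interval_cases n <;> omega) P hP
  have h2 := (normalizer (P : Set G)).card_mul_index
  rw [h, hc] at h2
  omega

theorem normalizer_card_7 (P : Subgroup G) (hP : Nat.card P = 7) :
    Nat.card (normalizer (P : Set G)) = 14 := by
  haveI : Fact (Nat.Prime 7) := ⟨by norm_num⟩
  have h := sylow_normalizer_card hc 7 (by norm_num) (by norm_num) 78 (by
    intro n m hm hn hmod
    have hm' : m = 156 := by omega
    subst hm'
    have hle : n ≤ 156 := Nat.le_of_dvd (by norm_num) hn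
    interval_cases n <;> omega) P hP
  have h2 := (normalizer (P : Set G)).card_mul_index
  rw [h, hc] at h2
  omega

theorem le_normalizer_13 (H : Subgroup G) (hH : H ≠ ⊤) (P : Subgroup G) (hPH : P ≤ H)
    (hP : Nat.card P = 13) : H ≤ normalizer P := by
  haveI : Fact (Nat.Prime 13) := ⟨by norm_num⟩
  refine le_normalizer_of_prime hc 13 (by norm_num) ?_ H hH P hPH hP
  intro m n h1 h2 h3 h4
  have hm : m ≤ 6 := by omega
  have hm0 : 0 < m := by
    rcases Nat.eq_zero_or_pos m with h | h
    · subst h; simp at h1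
    · exact h
  have hn : n ≤ 6 := (Nat.le_of_dvd hm0 h3).trans hm
  interval_cases n <;> omega

theorem le_normalizer_7 (H : Subgroup G) (hH : H ≠ ⊤) (P : Subgroup G) (hPH : P ≤ H)
    (hP : Nat.card P = 7) : H ≤ normalizer P := by
  haveI : Fact (Nat.Prime 7) := ⟨by norm_num⟩
  refine le_normalizer_of_prime hc 7 (by norm_num) ?_ H hH P hPH hP
  intro m n h1 h2 h3 h4
  have hm : m ≤ 12 := by omega
  have hm0 : 0 < m := by
    rcases Nat.eq_zero_or_pos m with h | h
    · subst h; simp at h1
    · exact h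
  have hn : n ≤ m := Nat.le_of_dvd hm0 h3
  interval_cases m <;> interval_cases n <;> omega

theorem card_dvd_14 (K : Subgroup G) (hK : K ≠ ⊤) (h7 : 7 ∣ Nat.card K) : Nat.card K ∣ 14 := by
  haveI : Fact (Nat.Prime 7) := ⟨by norm_num⟩
  obtain ⟨P, hPK, hP⟩ := exists_sub_prime 7 K h7
  have h1 := le_normalizer_7 hc K hK P hPK hP
  have h2 := Subgroup.card_dvd_of_le h1
  rwa [normalizer_card_7 hc P hP] at h2

theorem card_dvd_78 (K : Subgroup G) (hK : K ≠ ⊤) (h13 : 13 ∣ Nat.card K) :
    Nat.card K ∣ 78 := by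
  haveI : Fact (Nat.Prime 13) := ⟨by norm_num⟩
  obtain ⟨P, hPK, hP⟩ := exists_sub_prime 13 K h13
  have h1 := le_normalizer_13 hc K hK P hPK hP
  have h2 := Subgroup.card_dvd_of_le h1
  rwa [normalizer_card_13 hc P hP] at h2

theorem card_dvd_12 (K : Subgroup G) (h7 : ¬ 7 ∣ Nat.card K) (h13 : ¬ 13 ∣ Nat.card K) :
    Nat.card K ∣ 12 := by
  have h := card_dvd hc K
  have hcop : Nat.Coprime (Nat.card K) 91 := by
    have h91 : (91 : ℕ) = 7 * 13 := by norm_num
    rw [h91]
    apply Nat.Coprime.mul_right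
    · exact (Nat.Coprime.symm ((Nat.Prime.coprime_iff_not_dvd (by norm_num)).mpr h7))
    · exact (Nat.Coprime.symm ((Nat.Prime.coprime_iff_not_dvd (by norm_num)).mpr h13))
  have h' : Nat.card K ∣ 12 * 91 := by norm_num; exact h
  exact hcop.dvd_of_dvd_mul_right h'

/-- a proper subgroup of order divisible by 12 has order 12 -/
theorem card_eq_12 (K : Subgroup G) (hK : K ≠ ⊤) (h : 12 ∣ Nat.card K) : Nat.card K = 12 := by
  by_cases h7 : 7 ∣ Nat.card K
  · have := card_dvd_14 hc K hK h7
    have h2 : 12 ∣ 14 := h.trans this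
    omega
  by_cases h13 : 13 ∣ Nat.card K
  · have := card_dvd_78 hc K hK h13
    have h2 : 12 ∣ 78 := h.trans this
    omega
  exact Nat.dvd_antisymm (card_dvd_12 hc K h7 h13) h

/-- subgroups of order 12 are maximal -/
theorem isCoatom_of_card_12 (K : Subgroup G) (h : Nat.card K = 12) : IsCoatom K := by
  refine ⟨ne_top_of_card_lt hc K (by omega), ?_⟩
  intro X hX
  by_contra hXt
  have h1 : 12 ∣ Nat.card X := by
    rw [← h]; exact Subgroup.card_dvd_of_le hX.le
  have h2 := card_eq_12 hc X hXt h1
  have : K = X := Subgroup.eq_of_le_of_card_ge hX.le (by omega)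
  exact hX.ne this

theorem isCoatom_normalizer_13 (P : Subgroup G) (hP : Nat.card P = 13) :
    IsCoatom (normalizer (P : Set G)) := by
  have hN := normalizer_card_13 hc P hP
  refine ⟨ne_top_of_card_lt hc _ (by omega), ?_⟩
  intro X hX
  by_contra hXt
  have h1 := le_normalizer_13 hc X hXt P (le_normalizer.trans hX.le) hP
  exact hX.not_ge h1

theorem isCoatom_normalizer_7 (P : Subgroup G) (hP : Nat.card P = 7) :
    IsCoatom (normalizer (P : Set G)) := by
  have hN := normalizer_card_7 hc P hP
  refine ⟨ne_top_of_card_lt hc _ (by omega), ?_⟩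
  intro X hX
  by_contra hXt
  have h1 := le_normalizer_7 hc X hXt P (le_normalizer.trans hX.le) hP
  exact hX.not_ge h1

end

end Cfsg.Agent.Lib.helper6.L213
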