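import Mathlib
import Cfsg.Agent.Lib.helper6.L213b

set_option autoImplicit false

namespace Cfsg.Agent.Lib.helper6.L213

open Subgroup

variable {G : Type*} [Group G]

section

variable [Finite G] [IsSimpleGroup G] (hc : Nat.card G = 1092)
include hc

/-- a subgroup of prime order `p ∥ 1092` is a Sylow subgroup -/
theorem exists_sylow_eq (p : ℕ) [hp : Fact p.Prime] (hpp : ¬ p * p ∣ 1092)
    (P : Subgroup G) (hP : Nat.card P = p) : ∃ Q : Sylow p G, (Q : Subgroup G) = P := by
  have hPp : IsPGroup p P := IsPGroup.of_card (n := 1) (by rw [hP, pow_one])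
  obtain ⟨Q, hQ⟩ := hPp.exists_le_sylow
  have hQcard : Nat.card Q = p := by
    obtain ⟨k, hk⟩ := IsPGroup.iff_card.mp Q.isPGroup'
    have h1 : Nat.card Q ∣ 1092 := card_dvd hc (Q : Subgroup G)
    have h2 : p ∣ Nat.card Q := by
      have := Subgroup.card_dvd_of_le hQ
      rwa [hP] at this
    rw [hk] at h1 h2 ⊢
    rcases k with _ | _ | k
    · simp at h2
      exact absurd h2 hp.out.one_lt.ne'
    · simp
    · exfalso
      apply hpp
      refine dvd_trans ?_ h1
      rw [pow_succ, pow_succ, mul_assoc]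
      exact Dvd.intro_left _ rfl
  refine ⟨Q, ?_⟩
  symm
  apply Subgroup.eq_of_le_of_card_ge hQ
  rw [hQcard, hP]

theorem index_normalizer_eq (p : ℕ) [hp : Fact p.Prime] (hpp : ¬ p * p ∣ 1092)
    (P : Subgroup G) (hP : Nat.card P = p) :
    (normalizer (P : Set G)).index = Nat.card (Sylow p G) := by
  obtain ⟨Q, hQ⟩ := exists_sylow_eq hc p hpp P hP
  have hn := Q.card_eq_index_normalizer
  have hset : ((Q : Sylow p G) : Set G) = (P : Set G) := by rw [← hQ]; rfl
  rw [hset] at hn
  exact hn.symm

theorem normalizer_card_3 (t : G) (ht : orderOf t = 6) (Q : Subgroup G) (hQ : Nat.card Q = 3) :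
    Nat.card (normalizer (Q : Set G)) = 12 := by
  haveI : Fact (Nat.Prime 3) := ⟨by norm_num⟩
  set Q0 : Subgroup G := Subgroup.zpowers (t ^ 2) with hQ0
  have hQ0card : Nat.card Q0 = 3 := by
    rw [hQ0, Nat.card_zpowers, orderOf_pow' t (by norm_num), ht]; norm_num
  have hidx : (normalizer (Q : Set G)).index = (normalizer (Q0 : Set G)).index := by
    rw [index_normalizer_eq hc 3 (by norm_num) Q hQ, index_normalizer_eq hc 3 (by norm_num) Q0 hQ0card]
  -- t normalizes Q0
  have htN : t ∈ normalizer (Q0 : Set G) := by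
    rw [mem_normalizer_iff]
    intro h
    have key : ∀ z ∈ Q0, t * z * t⁻¹ = z := by
      intro z hz
      obtain ⟨k, rfl⟩ := Subgroup.mem_zpowers_iff.mp hz
      have : Commute t ((t ^ 2) ^ k) := ((Commute.refl t).pow_right 2).zpow_right k
      rw [this.eq, mul_inv_cancel_right]
    have key' : ∀ z ∈ Q0, t⁻¹ * z * t = z := by
      intro z hz
      obtain ⟨k, rfl⟩ := Subgroup.mem_zpowers_iff.mp hz
      have : Commute t ((t ^ 2) ^ k) := ((Commute.refl t).pow_right 2).zpow_right k
      rw [mul_assoc, ← this.eq, inv_mul_cancel_left]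
    constructor
    · intro hh
      rw [key h hh]; exact hh
    · intro hh
      have := key' _ hh
      have h2 : t⁻¹ * (t * h * t⁻¹) * t = h := by group
      rw [h2] at this
      rw [this]; exact hh
  have h6 : 6 ∣ Nat.card (normalizer (Q0 : Set G)) := by
    rw [← ht]
    exact (Subgroup.orderOf_coe ⟨t, htN⟩).symm ▸ orderOf_dvd_natCard (⟨t, htN⟩ : normalizer (Q0 : Set G))
  have hnt : normalizer (Q0 : Set G) ≠ ⊤ := by
    intro h
    exact ne_bot_top_of_card hc Q0 (by omega) (by omega) (normalizer_eq_top_iff.mp h)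
  have hmod : (normalizer (Q0 : Set G)).index % 3 = 1 := by
    rw [index_normalizer_eq hc 3 (by norm_num) Q0 hQ0card]
    have := card_sylow_modEq_one 3 G
    unfold Nat.ModEq at this
    rw [this]
  have hmul := (normalizer (Q0 : Set G)).card_mul_index
  rw [hc] at hmul
  have h12 : Nat.card (normalizer (Q0 : Set G)) = 12 := by
    set c := Nat.card (normalizer (Q0 : Set G)) with hcdef
    set i := (normalizer (Q0 : Set G)).index with hidef
    by_cases h7 : 7 ∣ c
    · have := card_dvd_14 hc _ hnt h7
      have : 6 ∣ 14 := h6.trans this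
      omega
    by_cases h13 : 13 ∣ c
    · have h78 := card_dvd_78 hc _ hnt h13
      have hle : c ≤ 78 := Nat.le_of_dvd (by norm_num) h78
      have hc0 : 0 < c := Nat.pos_of_dvd_of_pos h78 (by norm_num)
      obtain ⟨k, hk⟩ := h6
      obtain ⟨j, hj⟩ := h13
      have : c = 78 := by omega
      rw [this] at hmul
      have : i = 14 := by omega
      omega
    · have h12 := card_dvd_12 hc _ h7 h13
      have hle : c ≤ 12 := Nat.le_of_dvd (by norm_num) h12
      obtain ⟨k, hk⟩ := h6
      have hc0 : 0 < c := Nat.pos_of_dvd_of_pos h12 (by norm_num)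
      have hk' : k = 1 ∨ k = 2 := by omega
      rcases hk' with rfl | rfl
      · rw [hk] at hmul
        have : i = 182 := by omega
        omega
      · omega
  have hmulQ := (normalizer (Q : Set G)).card_mul_index
  rw [hidx, hc] at hmulQ
  rw [h12] at hmul
  have : (normalizer (Q0 : Set G)).index = 91 := by omega
  rw [this] at hmulQ
  omega

end

end Cfsg.Agent.Lib.helper6.L213
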