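import Mathlib
import Cfsg.Agent.Lib.helper6.L213c

set_option autoImplicit false

namespace Cfsg.Agent.Lib.helper6.L213

open Subgroup

variable {G : Type*} [Group G]

section

variable [Finite G] [IsSimpleGroup G] (hc : Nat.card G = 1092)
include hc

theorem sylow2_card (T : Sylow 2 G) : Nat.card T = 4 := by
  haveI : Fact (Nat.Prime 2) := ⟨by norm_num⟩
  obtain ⟨k, hk⟩ := IsPGroup.iff_card.mp T.isPGroup'
  have h1 := (T : Subgroup G).card_mul_index
  have h2 := T.not_dvd_index
  rw [hc, hk] at h1
  rw [hk]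
  have hk3 : k ≤ 2 := by
    by_contra hcon
    push Not at hcon
    have : 2 ^ 3 ∣ 2 ^ k := pow_dvd_pow 2 hcon
    have : 2 ^ 3 ∣ 1092 := by
      rw [← h1]; exact Dvd.dvd.mul_right this _
    omega
  interval_cases k
  · exfalso; apply h2; omega
  · exfalso; apply h2; omega
  · norm_num

theorem sylow2_comm (T : Sylow 2 G) : ∀ a ∈ (T : Subgroup G), ∀ b ∈ (T : Subgroup G), a * b = b * a := by
  haveI : Fact (Nat.Prime 2) := ⟨by norm_num⟩
  have h : Nat.card (T : Subgroup G) = 2 ^ 2 := by rw [sylow2_card hc T]; norm_num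
  have hcomm := IsPGroup.isMulCommutative_of_card_eq_prime_sq h
  intro a ha b hb
  have := hcomm.is_comm.comm (⟨a, ha⟩ : (T : Subgroup G)) ⟨b, hb⟩
  exact congrArg Subtype.val this

/-- Burnside: a Sylow 2-subgroup is not central in its normalizer -/
theorem sylow2_not_le (T : Sylow 2 G) :
    ¬ normalizer ((T : Subgroup G) : Set G) ≤ centralizer ((T : Subgroup G) : Set G) := by
  haveI : Fact (Nat.Prime 2) := ⟨by norm_num⟩
  intro hP
  have hcomp := MonoidHom.ker_transferSylow_isComplement' T hP
  have hcard := hcomp.card_mul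
  rw [hc] at hcard
  have hT : Nat.card (T : Subgroup G) = 4 := sylow2_card hc T
  rw [hT] at hcard
  have hker : Nat.card (MonoidHom.transferSylow T hP).ker = 273 := by omega
  rcases (MonoidHom.normal_ker (MonoidHom.transferSylow T hP)).eq_bot_or_eq_top with h | h
  · rw [h, Subgroup.card_bot] at hker; omega
  · rw [h, Subgroup.card_top, hc] at hker; omega

theorem card_4_or_12 (K : Subgroup G) (hK : K ≠ ⊤) (h4 : 4 ∣ Nat.card K) :
    Nat.card K = 4 ∨ Nat.card K = 12 := by
  by_cases h7 : 7 ∣ Nat.card K
  · have := card_dvd_14 hc K hK h7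
    have : 4 ∣ 14 := h4.trans this
    omega
  by_cases h13 : 13 ∣ Nat.card K
  · have := card_dvd_78 hc K hK h13
    have : 4 ∣ 78 := h4.trans this
    omega
  have h12 := card_dvd_12 hc K h7 h13
  have hle : Nat.card K ≤ 12 := Nat.le_of_dvd (by norm_num) h12
  obtain ⟨k, hk⟩ := h4
  have h0 : 0 < Nat.card K := Nat.pos_of_dvd_of_pos h12 (by norm_num)
  have : k = 1 ∨ k = 2 ∨ k = 3 := by omega
  rcases this with rfl | rfl | rfl
  · left; omega
  · exfalso; rw [hk] at h12; omega
  · right; omega

theorem sylow2_not_normal (T : Sylow 2 G) : ¬ (T : Subgroup G).Normal :=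
  ne_bot_top_of_card hc T (by rw [sylow2_card hc T]; norm_num) (by rw [sylow2_card hc T]; norm_num)

theorem sylow2_normalizer_card (T : Sylow 2 G) :
    Nat.card (normalizer ((T : Subgroup G) : Set G)) = 12 ∧
    Nat.card (centralizer ((T : Subgroup G) : Set G)) = 4 := by
  have hT := sylow2_card hc T
  have hTC : (T : Subgroup G) ≤ centralizer ((T : Subgroup G) : Set G) := by
    intro a ha
    rw [mem_centralizer_iff]
    intro b hb
    exact sylow2_comm hc T b hb a ha
  have hCN : centralizer ((T : Subgroup G) : Set G) ≤ normalizer ((T : Subgroup G) : Set G) :=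
    Subgroup.centralizer_le_normalizer _
  have hNt : normalizer ((T : Subgroup G) : Set G) ≠ ⊤ := fun h =>
    sylow2_not_normal hc T (normalizer_eq_top_iff.mp h)
  have hCt : centralizer ((T : Subgroup G) : Set G) ≠ ⊤ := fun h =>
    hNt (top_le_iff.mp (h ▸ hCN))
  have h4C : 4 ∣ Nat.card (centralizer ((T : Subgroup G) : Set G)) := by
    rw [← hT]; exact Subgroup.card_dvd_of_le hTC
  have h4N : 4 ∣ Nat.card (normalizer ((T : Subgroup G) : Set G)) := by
    rw [← hT]; exact Subgroup.card_dvd_of_le (hTC.trans hCN)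
  have hC := card_4_or_12 hc _ hCt h4C
  have hN := card_4_or_12 hc _ hNt h4N
  have hne : ¬ normalizer ((T : Subgroup G) : Set G) ≤ centralizer ((T : Subgroup G) : Set G) :=
    sylow2_not_le hc T
  have hlt : Nat.card (centralizer ((T : Subgroup G) : Set G)) <
      Nat.card (normalizer ((T : Subgroup G) : Set G)) := by
    by_contra hcon
    push Not at hcon
    have := Subgroup.eq_of_le_of_card_ge hCN hcon
    exact hne this.ge
  omega

/-- all non-identity elements of a Sylow 2-subgroup are conjugate -/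
theorem sylow2_fusion (T : Sylow 2 G) :
    ∃ a : G, ∀ z ∈ (T : Subgroup G), z ≠ 1 → ∃ g : G, g * a * g⁻¹ = z := by
  classical
  haveI : Fact (Nat.Prime 3) := ⟨by norm_num⟩
  obtain ⟨hN, hC⟩ := sylow2_normalizer_card hc T
  have hT := sylow2_card hc T
  -- element of order 3 in the normalizer
  obtain ⟨y, hy⟩ := exists_prime_orderOf_dvd_card' (G := normalizer ((T : Subgroup G) : Set G)) 3
    (by rw [hN]; norm_num)
  have hy3 : orderOf (y : G) = 3 := by rw [Subgroup.orderOf_coe]; exact hy
  have hyC : (y : G) ∉ centralizer ((T : Subgroup G) : Set G) := by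
    intro hmem
    have h1 : orderOf (⟨(y : G), hmem⟩ : centralizer ((T : Subgroup G) : Set G)) ∣
        Nat.card (centralizer ((T : Subgroup G) : Set G)) := orderOf_dvd_natCard _
    rw [← Subgroup.orderOf_coe, hC] at h1
    simp only at h1
    rw [hy3] at h1
    omega
  rw [mem_centralizer_iff] at hyC
  push Not at hyC
  obtain ⟨a, haT, hay⟩ := hyC
  have hyN : ∀ z ∈ (T : Subgroup G), (y : G) * z * (y : G)⁻¹ ∈ (T : Subgroup G) := by
    intro z hz
    exact ((mem_normalizer_iff.mp y.2) z).mp hz
  set b := (y : G) * a * (y : G)⁻¹ with hb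
  set c := (y : G) * b * (y : G)⁻¹ with hcdef
  have hbT : b ∈ (T : Subgroup G) := hyN a haT
  have hcT : c ∈ (T : Subgroup G) := hyN b hbT
  have hy3' : (y : G) ^ 3 = 1 := by rw [← hy3]; exact pow_orderOf_eq_one _
  have hya : (y : G) * c * (y : G)⁻¹ = a := by
    have : (y : G) * c * (y : G)⁻¹ = (y : G) ^ 3 * a * ((y : G) ^ 3)⁻¹ := by
      rw [hcdef, hb]
      simp only [pow_succ, pow_zero, one_mul, mul_inv_rev, mul_assoc]
    rw [this, hy3']; simp
  have hab : a ≠ b := by
    intro h
    apply hay
    have : b * (y : G) = (y : G) * a := by rw [hb]; group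
    rw [← h] at this
    exact this
  have hbc : b ≠ c := by
    intro h
    apply hab
    have h1 : (y : G)⁻¹ * b * (y : G) = a := by rw [hb]; group
    have h2 : (y : G)⁻¹ * c * (y : G) = b := by rw [hcdef]; group
    calc a = (y : G)⁻¹ * b * (y : G) := h1.symm
      _ = (y : G)⁻¹ * c * (y : G) := by rw [h]
      _ = b := h2
  have hac : a ≠ c := by
    intro h
    apply hab
    rw [← h] at hya
    rw [hb, hya]
  have ha1 : a ≠ 1 := by
    intro h
    apply hab
    rw [hb, h]; simp
  have hb1 : b ≠ 1 := by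
    intro h
    apply ha1
    have h1 : (y : G)⁻¹ * b * (y : G) = a := by rw [hb]; group
    rw [← h1, h]; simp
  have hc1 : c ≠ 1 := by
    intro h
    apply hb1
    have h2 : (y : G)⁻¹ * c * (y : G) = b := by rw [hcdef]; group
    rw [← h2, h]; simp
  -- T = {1, a, b, c}
  have hsub : (({1, a, b, c} : Finset G) : Set G) ⊆ ((T : Subgroup G) : Set G) := by
    intro z hz
    simp only [Finset.coe_insert, Finset.coe_singleton, Set.mem_insert_iff,
      Set.mem_singleton_iff] at hz
    rcases hz with rfl | rfl | rfl | rfl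
    · exact (T : Subgroup G).one_mem
    · exact haT
    · exact hbT
    · exact hcT
  have hcard4 : ({1, a, b, c} : Finset G).card = 4 := by
    rw [Finset.card_insert_of_notMem, Finset.card_insert_of_notMem, Finset.card_insert_of_notMem,
      Finset.card_singleton]
    · simp only [Finset.mem_singleton]; exact hbc
    · simp only [Finset.mem_insert, Finset.mem_singleton, not_or]; exact ⟨hab, hac⟩
    · simp only [Finset.mem_insert, Finset.mem_singleton, not_or]
      exact ⟨ha1.symm, hb1.symm, hc1.symm⟩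
  have heq : (({1, a, b, c} : Finset G) : Set G) = ((T : Subgroup G) : Set G) := by
    apply Set.eq_of_subset_of_ncard_le hsub
    · rw [Set.ncard_coe_finset, hcard4]
      have : ((T : Subgroup G) : Set G).ncard = Nat.card (T : Subgroup G) := by
        rw [← Nat.card_coe_set_eq]; rfl
      rw [this, hT]
  refine ⟨a, ?_⟩
  intro z hz hz1
  have hz' : z ∈ (({1, a, b, c} : Finset G) : Set G) := by rw [heq]; exact hz
  simp only [Finset.coe_insert, Finset.coe_singleton, Set.mem_insert_iff,
    Set.mem_singleton_iff] at hz'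
  rcases hz' with rfl | rfl | rfl | rfl
  · exact absurd rfl hz1
  · exact ⟨1, by simp⟩
  · exact ⟨(y : G), rfl⟩
  · refine ⟨(y : G) * (y : G), ?_⟩
    rw [hcdef, hb]; group

end

end Cfsg.Agent.Lib.helper6.L213
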