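import Mathlib
import Cfsg.Agent.Lib.helper6.L213d

set_option autoImplicit false

namespace Cfsg.Agent.Lib.helper6.L213

open Subgroup

variable {G : Type*} [Group G]

theorem card_subgroupOf_of_le {H K : Subgroup G} (h : H ≤ K) :
    Nat.card (H.subgroupOf K) = Nat.card H :=
  Nat.card_congr (Subgroup.subgroupOfEquivOfLe h).toEquiv

theorem normal_subgroupOf_of_card [Finite G] {H K : Subgroup G} (h : H ≤ K)
    (hc : Nat.card K = 2 * Nat.card H) : K ≤ normalizer (H : Set G) := by
  have h1 := (H.subgroupOf K).card_mul_index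
  rw [card_subgroupOf_of_le h, hc] at h1
  have hpos : 0 < Nat.card H := Nat.card_pos
  have h2 : (H.subgroupOf K).index = 2 := by
    have : Nat.card H * (H.subgroupOf K).index = Nat.card H * 2 := by rw [h1]; ring
    exact Nat.eq_of_mul_eq_mul_left hpos this
  have := Subgroup.normal_of_index_eq_two h2
  exact (normal_subgroupOf_iff_le_normalizer h).mp this

section

variable [Finite G] [IsSimpleGroup G] (hc : Nat.card G = 1092)
include hc

/-- every involution lies in a Sylow 2-subgroup, which centralizes it -/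
theorem four_dvd_centralizer (x : G) (hx : orderOf x = 2) :
    4 ∣ Nat.card (centralizer ({x} : Set G)) := by
  haveI : Fact (Nat.Prime 2) := ⟨by norm_num⟩
  have hz : IsPGroup 2 (Subgroup.zpowers x) :=
    IsPGroup.of_card (n := 1) (by rw [Nat.card_zpowers, hx, pow_one])
  obtain ⟨T, hT⟩ := hz.exists_le_sylow
  have hxT : x ∈ (T : Subgroup G) := hT (Subgroup.mem_zpowers x)
  have hle : (T : Subgroup G) ≤ centralizer ({x} : Set G) := by
    intro a ha
    rw [mem_centralizer_iff]
    intro b hb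
    rw [Set.mem_singleton_iff] at hb
    subst hb
    exact sylow2_comm hc T b hxT a ha
  rw [← sylow2_card hc T]
  exact Subgroup.card_dvd_of_le hle

theorem centralizer_ne_top (x : G) (hx : orderOf x = 2) : centralizer ({x} : Set G) ≠ ⊤ := by
  intro h
  have hn : (Subgroup.zpowers x).Normal := by
    constructor
    intro n hn g
    obtain ⟨k, rfl⟩ := Subgroup.mem_zpowers_iff.mp hn
    have hg : g ∈ centralizer ({x} : Set G) := by rw [h]; exact Subgroup.mem_top g
    rw [mem_centralizer_iff] at hg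
    have hcomm : Commute g x := (hg x rfl).symm
    have : g * x ^ k * g⁻¹ = x ^ k := by
      rw [(hcomm.zpow_right k).eq, mul_inv_cancel_right]
    rw [this]
    exact Subgroup.zpow_mem_zpowers x k
  exact ne_bot_top_of_card hc _ (by rw [Nat.card_zpowers, hx]; norm_num)
    (by rw [Nat.card_zpowers, hx]; norm_num) hn

theorem centralizer_card_of (x : G) (hx : orderOf x = 2) (s : G) (hs : orderOf s = 6)
    (hsx : s * x = x * s) : Nat.card (centralizer ({x} : Set G)) = 12 := by
  apply card_eq_12 hc _ (centralizer_ne_top hc x hx)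
  have h4 := four_dvd_centralizer hc x hx
  have hmem : s ∈ centralizer ({x} : Set G) := by
    rw [mem_centralizer_iff]
    intro b hb
    rw [Set.mem_singleton_iff] at hb
    subst hb
    exact hsx.symm
  have h6 : 6 ∣ Nat.card (centralizer ({x} : Set G)) := by
    rw [← hs]
    exact (Subgroup.orderOf_coe ⟨s, hmem⟩).symm ▸
      orderOf_dvd_natCard (⟨s, hmem⟩ : centralizer ({x} : Set G))
  omega

/-- all involutions are conjugate to `t ^ 3` -/
theorem invol_conj (t : G) (ht : orderOf t = 6) (x : G) (hx : orderOf x = 2) :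
    ∃ k : G, x = k * t ^ 3 * k⁻¹ := by
  haveI : Fact (Nat.Prime 2) := ⟨by norm_num⟩
  have hx0 : orderOf (t ^ 3) = 2 := by
    rw [orderOf_pow' t (by norm_num), ht]; norm_num
  have hz : IsPGroup 2 (Subgroup.zpowers x) :=
    IsPGroup.of_card (n := 1) (by rw [Nat.card_zpowers, hx, pow_one])
  have hz0 : IsPGroup 2 (Subgroup.zpowers (t ^ 3)) :=
    IsPGroup.of_card (n := 1) (by rw [Nat.card_zpowers, hx0, pow_one])
  obtain ⟨T, hT⟩ := hz.exists_le_sylow
  obtain ⟨T0, hT0⟩ := hz0.exists_le_sylow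
  have hxT : x ∈ (T : Subgroup G) := hT (Subgroup.mem_zpowers x)
  have hx0T : t ^ 3 ∈ (T0 : Subgroup G) := hT0 (Subgroup.mem_zpowers _)
  obtain ⟨g, hg⟩ := MulAction.exists_smul_eq G T0 T
  have hx1 : g⁻¹ * x * g ∈ (T0 : Subgroup G) := by
    have h1 : x ∈ ((g • T0 : Sylow 2 G) : Subgroup G) := by rw [hg]; exact hxT
    rw [Sylow.coe_subgroup_smul, Subgroup.mem_pointwise_smul_iff_inv_smul_mem] at h1
    simpa [MulAut.smul_def, mul_assoc] using h1
  have hx1ne : g⁻¹ * x * g ≠ 1 := by
    intro h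
    have : x = 1 := by
      have h2 : x = g * (g⁻¹ * x * g) * g⁻¹ := by group
      rw [h2, h]; group
    rw [this, orderOf_one] at hx
    omega
  have hx0ne : t ^ 3 ≠ 1 := by
    intro h
    rw [h, orderOf_one] at hx0
    omega
  obtain ⟨a, ha⟩ := sylow2_fusion hc T0
  obtain ⟨h1, hh1⟩ := ha _ hx1 hx1ne
  obtain ⟨h0, hh0⟩ := ha _ hx0T hx0ne
  refine ⟨g * h1 * h0⁻¹, ?_⟩
  rw [← hh0]
  have : x = g * (g⁻¹ * x * g) * g⁻¹ := by group
  rw [this, ← hh1]
  group

theorem centralizer_card_12 (t : G) (ht : orderOf t = 6) (x : G) (hx : orderOf x = 2) :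
    Nat.card (centralizer ({x} : Set G)) = 12 := by
  obtain ⟨k, hk⟩ := invol_conj hc t ht x hx
  apply centralizer_card_of hc x hx (k * t * k⁻¹)
  · have : k * t * k⁻¹ = MulAut.conj k t := by simp [MulAut.conj_apply]
    rw [this, ← ht]
    exact orderOf_injective (MulAut.conj k).toMonoidHom (MulAut.conj k).injective t
  · rw [hk]
    have h3 : t * t ^ 3 = t ^ 3 * t := by rw [← pow_succ', ← pow_succ]
    calc k * t * k⁻¹ * (k * t ^ 3 * k⁻¹) = k * (t * t ^ 3) * k⁻¹ := by group
      _ = k * (t ^ 3 * t) * k⁻¹ := by rw [h3]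
      _ = k * t ^ 3 * k⁻¹ * (k * t * k⁻¹) := by group

end

end Cfsg.Agent.Lib.helper6.L213
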