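import Mathlib
import Cfsg.Agent.Lib.helper6.L213e

set_option autoImplicit false

namespace Cfsg.Agent.Lib.helper6.L213

open Subgroup

variable {G : Type*} [Group G]

section

variable [Finite G] [IsSimpleGroup G] (hc : Nat.card G = 1092)
include hc

/-- the centralizer of a subgroup of order 13 is the subgroup itself -/
theorem centralizer_13 (t : G) (ht : orderOf t = 6) (u : G) (hu : orderOf u = 13) :
    centralizer ({u} : Set G) = Subgroup.zpowers u := by
  haveI : Fact (Nat.Prime 2) := ⟨by norm_num⟩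
  haveI : Fact (Nat.Prime 3) := ⟨by norm_num⟩
  set P := Subgroup.zpowers u with hP
  have hPcard : Nat.card P = 13 := by rw [hP, Nat.card_zpowers, hu]
  set C := centralizer ({u} : Set G) with hC
  have hPC : P ≤ C := by
    rw [hP, Subgroup.zpowers_le, hC, mem_centralizer_iff]
    intro b hb
    rw [Set.mem_singleton_iff] at hb
    rw [hb]
  have hCN : C ≤ normalizer (P : Set G) := by
    intro g hg
    rw [hC, mem_centralizer_iff] at hg
    have hcomm : Commute g u := (hg u rfl).symm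
    rw [mem_normalizer_iff]
    intro h
    have key : ∀ z ∈ P, g * z * g⁻¹ = z := by
      intro z hz
      obtain ⟨k, rfl⟩ := Subgroup.mem_zpowers_iff.mp hz
      rw [(hcomm.zpow_right k).eq, mul_inv_cancel_right]
    have key' : ∀ z ∈ P, g⁻¹ * z * g = z := by
      intro z hz
      obtain ⟨k, rfl⟩ := Subgroup.mem_zpowers_iff.mp hz
      rw [mul_assoc, ← (hcomm.zpow_right k).eq, inv_mul_cancel_left]
    constructor
    · intro hh; rw [key h hh]; exact hh
    · intro hh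
      have := key' _ hh
      have h2 : g⁻¹ * (g * h * g⁻¹) * g = h := by group
      rw [h2] at this
      rw [this]; exact hh
  have h78 : Nat.card C ∣ 78 := by
    rw [← normalizer_card_13 hc P hPcard]; exact Subgroup.card_dvd_of_le hCN
  have h13 : 13 ∣ Nat.card C := by
    rw [← hPcard]; exact Subgroup.card_dvd_of_le hPC
  have h2 : ¬ 2 ∣ Nat.card C := by
    intro h2
    obtain ⟨x, hx⟩ := exists_prime_orderOf_dvd_card' (G := C) 2 h2
    have hx2 : orderOf (x : G) = 2 := by rw [Subgroup.orderOf_coe]; exact hx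
    have h12 := centralizer_card_12 hc t ht (x : G) hx2
    have hxu : (x : G) * u = u * (x : G) := by
      have hxm : (x : G) ∈ centralizer ({u} : Set G) := x.2
      rw [mem_centralizer_iff] at hxm
      exact (hxm u rfl).symm
    have humem : u ∈ centralizer ({(x : G)} : Set G) := by
      rw [mem_centralizer_iff]
      intro b hb
      rw [Set.mem_singleton_iff] at hb
      rw [hb]; exact hxu
    have : orderOf u ∣ Nat.card (centralizer ({(x : G)} : Set G)) :=
      (Subgroup.orderOf_coe ⟨u, humem⟩).symm ▸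
        orderOf_dvd_natCard (⟨u, humem⟩ : centralizer ({(x : G)} : Set G))
    rw [hu, h12] at this
    omega
  have h3 : ¬ 3 ∣ Nat.card C := by
    intro h3
    obtain ⟨y, hy⟩ := exists_prime_orderOf_dvd_card' (G := C) 3 h3
    have hy3 : orderOf (y : G) = 3 := by rw [Subgroup.orderOf_coe]; exact hy
    have hQ : Nat.card (Subgroup.zpowers (y : G)) = 3 := by rw [Nat.card_zpowers, hy3]
    have h12 := normalizer_card_3 hc t ht _ hQ
    have hyu : Commute u (y : G) := by
      have hym : (y : G) ∈ centralizer ({u} : Set G) := y.2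
      rw [mem_centralizer_iff] at hym
      exact (hym u rfl)
    have humem : u ∈ normalizer ((Subgroup.zpowers (y : G) : Subgroup G) : Set G) := by
      rw [mem_normalizer_iff]
      intro h
      have key : ∀ z ∈ Subgroup.zpowers (y : G), u * z * u⁻¹ = z := by
        intro z hz
        obtain ⟨k, rfl⟩ := Subgroup.mem_zpowers_iff.mp hz
        rw [(hyu.zpow_right k).eq, mul_inv_cancel_right]
      have key' : ∀ z ∈ Subgroup.zpowers (y : G), u⁻¹ * z * u = z := by
        intro z hz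
        obtain ⟨k, rfl⟩ := Subgroup.mem_zpowers_iff.mp hz
        rw [mul_assoc, ← (hyu.zpow_right k).eq, inv_mul_cancel_left]
      constructor
      · intro hh; rw [key h hh]; exact hh
      · intro hh
        have := key' _ hh
        have h2 : u⁻¹ * (u * h * u⁻¹) * u = h := by group
        rw [h2] at this
        rw [this]; exact hh
    have : orderOf u ∣ Nat.card (normalizer ((Subgroup.zpowers (y : G) : Subgroup G) : Set G)) :=
      (Subgroup.orderOf_coe ⟨u, humem⟩).symm ▸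
        orderOf_dvd_natCard (⟨u, humem⟩ :
          normalizer ((Subgroup.zpowers (y : G) : Subgroup G) : Set G))
    rw [hu, h12] at this
    omega
  have hCcard : Nat.card C = 13 := by
    have hle : Nat.card C ≤ 78 := Nat.le_of_dvd (by norm_num) h78
    obtain ⟨k, hk⟩ := h13
    have hk6 : k ∣ 6 := by
      rw [hk] at h78
      have : 13 * k ∣ 13 * 6 := by norm_num; exact h78
      exact Nat.dvd_of_mul_dvd_mul_left (by norm_num) this
    have hk' : k ≤ 6 := Nat.le_of_dvd (by norm_num) hk6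
    have hk0 : 0 < k := Nat.pos_of_dvd_of_pos hk6 (by norm_num)
    interval_cases k
    · omega
    · exfalso; apply h2; rw [hk]; norm_num
    · exfalso; apply h3; rw [hk]; norm_num
    · exfalso; apply h2; rw [hk]; norm_num
    · omega
    · exfalso; apply h2; rw [hk]; norm_num
  symm
  exact Subgroup.eq_of_le_of_card_ge hPC (by rw [hCcard, hPcard])

/-- the normalizer of a subgroup of order 13 has its commutators inside the subgroup -/
theorem commutator_mem_13 (t : G) (ht : orderOf t = 6) (u : G) (hu : orderOf u = 13)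
    (b₁ b₂ : G) (h₁ : b₁ ∈ normalizer ((Subgroup.zpowers u : Subgroup G) : Set G))
    (h₂ : b₂ ∈ normalizer ((Subgroup.zpowers u : Subgroup G) : Set G)) :
    b₁ * b₂ * b₁⁻¹ * b₂⁻¹ ∈ Subgroup.zpowers u := by
  have hcent := centralizer_13 hc t ht u hu
  -- general form: c₁⁻¹ c₂⁻¹ c₁ c₂ centralizes u
  have key : ∀ c₁ c₂ : G, c₁ ∈ normalizer ((Subgroup.zpowers u : Subgroup G) : Set G) →
      c₂ ∈ normalizer ((Subgroup.zpowers u : Subgroup G) : Set G) →
      c₁⁻¹ * c₂⁻¹ * c₁ * c₂ ∈ Subgroup.zpowers u := by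
    intro c₁ c₂ hc₁ hc₂
    obtain ⟨k₁, hk₁⟩ := Subgroup.mem_zpowers_iff.mp
      (((mem_normalizer_iff.mp hc₁) u).mp (Subgroup.mem_zpowers u))
    obtain ⟨k₂, hk₂⟩ := Subgroup.mem_zpowers_iff.mp
      (((mem_normalizer_iff.mp hc₂) u).mp (Subgroup.mem_zpowers u))
    -- c₁ c₂ u (c₁ c₂)⁻¹ = u^(k₂ k₁)
    have e12 : c₁ * c₂ * u * (c₁ * c₂)⁻¹ = u ^ (k₁ * k₂) := by
      calc c₁ * c₂ * u * (c₁ * c₂)⁻¹ = c₁ * (c₂ * u * c₂⁻¹) * c₁⁻¹ := by group
        _ = c₁ * u ^ k₂ * c₁⁻¹ := by rw [hk₂]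
        _ = (c₁ * u * c₁⁻¹) ^ k₂ := conj_zpow.symm
        _ = (u ^ k₁) ^ k₂ := by rw [hk₁]
        _ = u ^ (k₁ * k₂) := (zpow_mul u k₁ k₂).symm
    have e21 : c₂ * c₁ * u * (c₂ * c₁)⁻¹ = u ^ (k₁ * k₂) := by
      calc c₂ * c₁ * u * (c₂ * c₁)⁻¹ = c₂ * (c₁ * u * c₁⁻¹) * c₂⁻¹ := by group
        _ = c₂ * u ^ k₁ * c₂⁻¹ := by rw [hk₁]
        _ = (c₂ * u * c₂⁻¹) ^ k₁ := conj_zpow.symm
        _ = (u ^ k₂) ^ k₁ := by rw [hk₂]
        _ = u ^ (k₂ * k₁) := (zpow_mul u k₂ k₁).symm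
        _ = u ^ (k₁ * k₂) := by rw [mul_comm]
    rw [← hcent, mem_centralizer_iff]
    intro b hb
    rw [Set.mem_singleton_iff] at hb
    subst hb
    -- (c₂ c₁)⁻¹ (c₁ c₂) commutes with b
    have h1 : (c₂ * c₁)⁻¹ * (c₁ * c₂ * b * (c₁ * c₂)⁻¹) * (c₂ * c₁) = b := by
      rw [e12, ← e21]; group
    have h2 : c₁⁻¹ * c₂⁻¹ * c₁ * c₂ * b * (c₁⁻¹ * c₂⁻¹ * c₁ * c₂)⁻¹ = b := by
      calc c₁⁻¹ * c₂⁻¹ * c₁ * c₂ * b * (c₁⁻¹ * c₂⁻¹ * c₁ * c₂)⁻¹
          = (c₂ * c₁)⁻¹ * (c₁ * c₂ * b * (c₁ * c₂)⁻¹) * (c₂ * c₁) := by group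
        _ = b := h1
    calc b * (c₁⁻¹ * c₂⁻¹ * c₁ * c₂)
        = (c₁⁻¹ * c₂⁻¹ * c₁ * c₂ * b * (c₁⁻¹ * c₂⁻¹ * c₁ * c₂)⁻¹) * (c₁⁻¹ * c₂⁻¹ * c₁ * c₂) := by
          rw [h2]
      _ = c₁⁻¹ * c₂⁻¹ * c₁ * c₂ * b := by group
  have := key b₁⁻¹ b₂⁻¹ (inv_mem h₁) (inv_mem h₂)
  simpa using this

end

end Cfsg.Agent.Lib.helper6.L213
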