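import Mathlib
import Cfsg.Agent.Lib.helper6.L213f

set_option autoImplicit false

namespace Cfsg.Agent.Lib.helper6.L213

open Subgroup

variable {G : Type*} [Group G]

theorem coatom_of_le {H M : Subgroup G} (hM : IsCoatom M) (hle : M ≤ normalizer (H : Set G))
    (hH : ¬ H.Normal) : IsCoatom (normalizer (H : Set G)) := by
  rcases hM.le_iff.mp hle with h | h
  · exact absurd (normalizer_eq_top_iff.mp h) hH
  · rw [h]; exact hM

section

variable [Finite G] [IsSimpleGroup G] (hc : Nat.card G = 1092)
include hc

/-- in a simple group of order 1092 containing an element of order 6, the normalizer of every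
nontrivial proper subgroup is a maximal subgroup -/
theorem core (t : G) (ht : orderOf t = 6) (H : Subgroup G) (hb : H ≠ ⊥) (htop : H ≠ ⊤) :
    IsCoatom (normalizer (H : Set G)) := by
  classical
  haveI : Fact (Nat.Prime 2) := ⟨by norm_num⟩
  haveI : Fact (Nat.Prime 3) := ⟨by norm_num⟩
  haveI : Fact (Nat.Prime 7) := ⟨by norm_num⟩
  haveI : Fact (Nat.Prime 13) := ⟨by norm_num⟩
  have hHn : ¬ H.Normal := by
    intro hn
    rcases hn.eq_bot_or_eq_top with h | h
    · exact hb h
    · exact htop h
  have hcard1 : Nat.card H ≠ 1 := by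
    intro h
    exact hb (Subgroup.card_eq_one.mp h)
  by_cases h13 : 13 ∣ Nat.card H
  · -- Borel case
    obtain ⟨u, hu⟩ := exists_prime_orderOf_dvd_card' (G := H) 13 h13
    have hu13 : orderOf (u : G) = 13 := by rw [Subgroup.orderOf_coe]; exact hu
    set P := Subgroup.zpowers (u : G) with hP
    have hPH : P ≤ H := by rw [hP, Subgroup.zpowers_le]; exact u.2
    have hPcard : Nat.card P = 13 := by rw [hP, Nat.card_zpowers, hu13]
    have hHB := le_normalizer_13 hc H htop P hPH hPcard
    apply coatom_of_le (isCoatom_normalizer_13 hc P hPcard) _ hHn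
    rw [le_normalizer_iff]
    intro b hbB h hh
    have hcomm := commutator_mem_13 hc t ht (u : G) hu13 b h hbB (hHB hh)
    have : b * h * b⁻¹ = (b * h * b⁻¹ * h⁻¹) * h := by group
    rw [this]
    exact H.mul_mem (hPH hcomm) hh
  by_cases h7 : 7 ∣ Nat.card H
  · obtain ⟨P, hPH, hPcard⟩ := exists_sub_prime 7 H h7
    have hHB := le_normalizer_7 hc H htop P hPH hPcard
    have hBcard := normalizer_card_7 hc P hPcard
    have hdvd := card_dvd_14 hc H htop h7
    have hle : Nat.card H ≤ 14 := Nat.le_of_dvd (by norm_num) hdvd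
    obtain ⟨k, hk⟩ := h7
    have hk' : k = 1 ∨ k = 2 := by
      have : 0 < Nat.card H := Nat.card_pos
      omega
    rcases hk' with rfl | rfl
    · have : P = H := Subgroup.eq_of_le_of_card_ge hPH (by omega)
      rw [← this]
      exact isCoatom_normalizer_7 hc P hPcard
    · have : H = normalizer (P : Set G) := Subgroup.eq_of_le_of_card_ge hHB (by omega)
      apply coatom_of_le (isCoatom_normalizer_7 hc P hPcard) _ hHn
      rw [← this]
      exact le_normalizer
  · have h12 := card_dvd_12 hc H h7 h13
    have hle : Nat.card H ≤ 12 := Nat.le_of_dvd (by norm_num) h12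
    have hpos : 0 < Nat.card H := Nat.card_pos
    have hcases : Nat.card H = 2 ∨ Nat.card H = 3 ∨ Nat.card H = 4 ∨ Nat.card H = 6 ∨
        Nat.card H = 12 := by
      generalize Nat.card H = n at *
      interval_cases n <;> omega
    rcases hcases with h | h | h | h | h
    · -- order 2
      obtain ⟨x, hx⟩ := exists_prime_orderOf_dvd_card' (G := H) 2 (by rw [h])
      have hx2 : orderOf (x : G) = 2 := by rw [Subgroup.orderOf_coe]; exact hx
      have hzH : Subgroup.zpowers (x : G) = H := by
        apply Subgroup.eq_of_le_of_card_ge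
        · rw [Subgroup.zpowers_le]; exact x.2
        · rw [Nat.card_zpowers, hx2, h]
      have hC := centralizer_card_12 hc t ht (x : G) hx2
      apply coatom_of_le (isCoatom_of_card_12 hc _ hC) _ hHn
      rw [le_normalizer_iff]
      intro g hg z hz
      rw [← hzH] at hz ⊢
      obtain ⟨k, rfl⟩ := Subgroup.mem_zpowers_iff.mp hz
      rw [mem_centralizer_iff] at hg
      have hcomm : Commute g (x : G) := (hg (x : G) rfl).symm
      rw [(hcomm.zpow_right k).eq, mul_inv_cancel_right]
      exact Subgroup.zpow_mem_zpowers _ k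
    · -- order 3
      exact isCoatom_of_card_12 hc _ (normalizer_card_3 hc t ht H h)
    · -- order 4 : a Sylow 2-subgroup
      have hHp : IsPGroup 2 H := IsPGroup.of_card (n := 2) (by rw [h]; norm_num)
      obtain ⟨T, hT⟩ := hHp.exists_le_sylow
      have hTH : H = (T : Subgroup G) :=
        Subgroup.eq_of_le_of_card_ge hT (by rw [sylow2_card hc T, h])
      rw [hTH]
      exact isCoatom_of_card_12 hc _ (sylow2_normalizer_card hc T).1
    · -- order 6
      obtain ⟨y, hy⟩ := exists_prime_orderOf_dvd_card' (G := H) 3 (by rw [h]; norm_num)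
      have hy3 : orderOf (y : G) = 3 := by rw [Subgroup.orderOf_coe]; exact hy
      set Q := Subgroup.zpowers (y : G) with hQ
      have hQH : Q ≤ H := by rw [hQ, Subgroup.zpowers_le]; exact y.2
      have hQcard : Nat.card Q = 3 := by rw [hQ, Nat.card_zpowers, hy3]
      have hHD : H ≤ normalizer (Q : Set G) :=
        normal_subgroupOf_of_card hQH (by rw [h, hQcard])
      have hD := normalizer_card_3 hc t ht Q hQcard
      apply coatom_of_le (isCoatom_of_card_12 hc _ hD) _ hHn
      exact normal_subgroupOf_of_card hHD (by rw [hD, h])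
    · -- order 12
      exact coatom_of_le (isCoatom_of_card_12 hc _ h) le_normalizer hHn

end

end Cfsg.Agent.Lib.helper6.L213
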