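import Mathlib

set_option autoImplicit false

namespace Cfsg.Agent.Lib.helper6.L213

open Subgroup

/-- every non-normal subgroup has a maximal normalizer -/
def MaxNorm (K : Type*) [Group K] : Prop :=
  ∀ H : Subgroup K, ¬ H.Normal → IsCoatom (normalizer (H : Set K))

theorem isCoatom_comap_of_surjective {L G : Type*} [Group L] [Group G] (π : L →* G)
    (hπ : Function.Surjective π) (M : Subgroup G) (hM : IsCoatom M) : IsCoatom (M.comap π) := by
  refine ⟨?_, ?_⟩
  · intro h
    apply hM.1
    rw [← Subgroup.map_comap_eq_self_of_surjective hπ M, h, ← MonoidHom.range_eq_map,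
      MonoidHom.range_eq_top.mpr hπ]
  · intro X hX
    have hker : π.ker ≤ X := le_trans (by
      intro x hx
      rw [Subgroup.mem_comap, MonoidHom.mem_ker.mp hx]
      exact M.one_mem) hX.le
    have hXX : (X.map π).comap π = X := by
      rw [Subgroup.comap_map_eq, sup_eq_left.mpr hker]
    have hle : M ≤ X.map π := by
      rw [← Subgroup.map_comap_eq_self_of_surjective hπ M]
      exact Subgroup.map_mono hX.le
    rcases hM.le_iff.mp hle with h | h
    · rw [← hXX, h, Subgroup.comap_top]
    · exfalso
      apply hX.ne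
      rw [← hXX, h]

theorem maxNorm_of_equiv {K K' : Type*} [Group K] [Group K'] (e : K ≃* K') (h : MaxNorm K) :
    MaxNorm K' := by
  intro H hH
  have hsurj : Function.Surjective e.toMonoidHom := e.surjective
  have hinj : Function.Injective e.toMonoidHom := e.injective
  have h1 : ¬ (H.comap e.toMonoidHom).Normal := by
    intro hn
    apply hH
    have := hn.map e.toMonoidHom hsurj
    rwa [Subgroup.map_comap_eq_self_of_surjective hsurj] at this
  have h2 := h _ h1
  have h3 : normalizer ((H.comap e.toMonoidHom : Subgroup K) : Set K) =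
      (normalizer (H : Set K')).comap e.toMonoidHom := by
    rw [Subgroup.comap_normalizer_eq_of_le_range]
    rw [MonoidHom.range_eq_top.mpr hsurj]
    exact le_top
  rw [h3] at h2
  -- transport back along e.symm
  have h4 := isCoatom_comap_of_surjective e.symm.toMonoidHom e.symm.surjective _ h2
  have h5 : ((normalizer (H : Set K')).comap e.toMonoidHom).comap e.symm.toMonoidHom =
      normalizer (H : Set K') := by
    ext x
    simp [Subgroup.mem_comap]
  rwa [h5] at h4

/-- lifting through a central extension by a group of order 2 generated by the unique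
involution -/
theorem maxNorm_lift {L G : Type*} [Group L] [Group G] [Finite L] (π : L →* G)
    (hπ : Function.Surjective π) (z : L) (hzc : ∀ g : L, g * z = z * g)
    (hker : ∀ x : L, π x = 1 → x = 1 ∨ x = z) (hπz : π z = 1)
    (huniq : ∀ x : L, orderOf x = 2 → x = z) (h : MaxNorm G) : MaxNorm L := by
  intro H hH
  haveI : Fact (Nat.Prime 2) := ⟨by norm_num⟩
  have hz2 : z * z = 1 := by
    by_cases hz1 : z = 1
    · rw [hz1, one_mul]
    · have h1 : π (z * z) = 1 := by rw [map_mul, hπz, one_mul]
      rcases hker _ h1 with h2 | h2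
      · exact h2
      · exfalso
        apply hz1
        have : z * z = z * 1 := by rw [mul_one]; exact h2
        exact mul_left_cancel this
  have hkey : (normalizer ((H.map π : Subgroup G) : Set G)).comap π ≤ normalizer (H : Set L) := by
    rw [le_normalizer_iff]
    intro g hg x hx
    rw [Subgroup.mem_comap, mem_normalizer_iff] at hg
    have h1 : π g * π x * (π g)⁻¹ ∈ H.map π := (hg (π x)).mp (Subgroup.mem_map_of_mem π hx)
    obtain ⟨x', hx', hxx⟩ := Subgroup.mem_map.mp h1
    have h2 : π (g * x * g⁻¹ * x'⁻¹) = 1 := by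
      rw [map_mul, map_mul, map_mul, map_inv, map_inv, hxx]; group
    rcases hker _ h2 with h3 | h3
    · have : g * x * g⁻¹ = x' := by
        have := mul_inv_eq_one.mp h3
        exact this
      rw [this]; exact hx'
    · have hgx : g * x * g⁻¹ = z * x' := by
        rw [← h3]; group
      by_cases hzH : z ∈ H
      · rw [hgx]; exact H.mul_mem hzH hx'
      · exfalso
        -- H has odd order
        have hodd : ¬ 2 ∣ Nat.card H := by
          intro h2
          obtain ⟨y, hy⟩ := exists_prime_orderOf_dvd_card' (G := H) 2 h2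
          have hy2 : orderOf (y : L) = 2 := by rw [Subgroup.orderOf_coe]; exact hy
          apply hzH
          rw [← huniq _ hy2]; exact y.2
        set n := orderOf x with hn
        have hnodd : ¬ 2 ∣ n := by
          intro h2
          apply hodd
          have : orderOf (⟨x, hx⟩ : H) ∣ Nat.card H := orderOf_dvd_natCard _
          rw [← Subgroup.orderOf_coe] at this
          exact h2.trans this
        have h5 : (g * x * g⁻¹) ^ n = 1 := by
          rw [conj_pow, hn, pow_orderOf_eq_one]; group
        rw [hgx] at h5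
        have hcomm : Commute z x' := (hzc x').symm
        rw [hcomm.mul_pow] at h5
        have hzn : z ^ n = z := by
          obtain ⟨k, hk⟩ := Nat.odd_iff.mpr (by omega : n % 2 = 1)
          rw [hk, pow_succ, pow_mul, pow_two, hz2, one_pow, one_mul]
        rw [hzn] at h5
        apply hzH
        have : z = (x' ^ n)⁻¹ := eq_inv_of_mul_eq_one_left h5
        rw [this]
        exact H.inv_mem (H.pow_mem hx' n)
  have heq : normalizer (H : Set L) = (normalizer ((H.map π : Subgroup G) : Set G)).comap π := by
    apply le_antisymm _ hkey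
    rw [← Subgroup.map_le_iff_le_comap]
    exact Subgroup.le_normalizer_map π
  have hHbar : ¬ (H.map π).Normal := by
    intro hn
    apply hH
    rw [← normalizer_eq_top_iff, heq, normalizer_eq_top_iff.mpr hn, Subgroup.comap_top]
  rw [heq]
  exact isCoatom_comap_of_surjective π hπ _ (h _ hHbar)

/-- direct product with an abelian group of coprime order -/
theorem maxNorm_prod {K S : Type*} [Group K] [CommGroup S] [Finite K] [Finite S]
    (hKS : (Nat.card K).Coprime (Nat.card S)) (h : MaxNorm K) : MaxNorm (K × S) := by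
  intro H hH
  -- the K-part
  set HK : Subgroup K := H.comap (MonoidHom.inl K S) with hHK
  have hsplit : ∀ k : K, ∀ s : S, (k, s) ∈ H → (k, 1) ∈ H := by
    intro k s hks
    -- choose a with a ≡ 1 mod |K|, a ≡ 0 mod |S|
    obtain ⟨a, ha1, ha2⟩ : ∃ a : ℕ, a % Nat.card K = 1 % Nat.card K ∧ a % Nat.card S = 0 := by
      have := Nat.chineseRemainder hKS 1 0
      exact ⟨this.1, this.2.1, this.2.2⟩
    have h1 : (k, s) ^ a ∈ H := H.pow_mem hks a
    have h2 : (k, s) ^ a = (k, 1) := by
      rw [Prod.pow_mk]
      congr 1
      · have : k ^ a = k ^ (a % Nat.card K) := by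
          rw [← pow_mod_natCard]
        rw [this, ha1, pow_mod_natCard, pow_one]
      · have hd : Nat.card S ∣ a := Nat.dvd_of_mod_eq_zero ha2
        obtain ⟨c, rfl⟩ := hd
        rw [pow_mul, pow_card_eq_one', one_pow]
    rwa [h2] at h1
  have hsplit2 : ∀ k : K, ∀ s : S, (k, s) ∈ H → ((1 : K), s) ∈ H := by
    intro k s hks
    have h1 := hsplit k s hks
    have : ((1 : K), s) = (k, 1)⁻¹ * (k, s) := by
      rw [Prod.inv_mk, Prod.mk_mul_mk]; simp
    rw [this]
    exact H.mul_mem (H.inv_mem h1) hks
  have hmem : ∀ k : K, ∀ s : S, (k, s) ∈ H ↔ (k ∈ HK ∧ ((1 : K), s) ∈ H) := by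
    intro k s
    constructor
    · intro hks
      exact ⟨hsplit k s hks, hsplit2 k s hks⟩
    · rintro ⟨h1, h2⟩
      have : (k, s) = (k, (1 : S)) * ((1 : K), s) := by
        rw [Prod.mk_mul_mk]; simp
      rw [this]
      exact H.mul_mem h1 h2
  have hnorm : normalizer (H : Set (K × S)) = (normalizer (HK : Set K)).prod ⊤ := by
    ext ⟨g, s'⟩
    rw [Subgroup.mem_prod]
    simp only [Subgroup.mem_top, and_true]
    rw [mem_normalizer_iff, mem_normalizer_iff]
    constructor
    · intro hg k
      have := hg (k, 1)
      simp only [Prod.mk_mul_mk, Prod.inv_mk, mul_one, mul_inv_cancel] at this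
      exact this
    · intro hg ⟨k, s⟩
      have e : (g, s') * (k, s) * (g, s')⁻¹ = (g * k * g⁻¹, s) := by
        rw [Prod.inv_mk, Prod.mk_mul_mk, Prod.mk_mul_mk]
        congr 1
        rw [mul_comm s' s, mul_inv_cancel_right]
      rw [e, hmem, hmem (g * k * g⁻¹)]
      rw [hg k]
  have hHKn : ¬ HK.Normal := by
    intro hn
    apply hH
    rw [← normalizer_eq_top_iff, hnorm, normalizer_eq_top_iff.mpr hn, Subgroup.top_prod_top]
  have hco := h HK hHKn
  rw [hnorm]
  set M := normalizer (HK : Set K) with hM
  refine ⟨?_, ?_⟩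
  · intro htop
    apply hco.1
    rw [eq_top_iff]
    intro k _
    have : (k, (1 : S)) ∈ M.prod (⊤ : Subgroup S) := by rw [htop]; exact Subgroup.mem_top _
    exact (Subgroup.mem_prod.mp this).1
  · intro X hX
    set XK : Subgroup K := X.comap (MonoidHom.inl K S) with hXK
    have hS : ∀ s : S, ((1 : K), s) ∈ X := by
      intro s
      apply hX.le
      rw [Subgroup.mem_prod]
      exact ⟨M.one_mem, Subgroup.mem_top _⟩
    have hMX : M ≤ XK := by
      intro k hk
      show (k, (1 : S)) ∈ X
      apply hX.le
      rw [Subgroup.mem_prod]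
      exact ⟨hk, Subgroup.mem_top _⟩
    have hne : M ≠ XK := by
      intro heq
      apply hX.ne
      apply le_antisymm hX.le
      rintro ⟨k, s⟩ hks
      rw [Subgroup.mem_prod]
      refine ⟨?_, Subgroup.mem_top _⟩
      rw [heq]
      show (k, (1 : S)) ∈ X
      have : (k, (1 : S)) = (k, s) * ((1 : K), s⁻¹) := by
        rw [Prod.mk_mul_mk]; simp
      rw [this]
      exact X.mul_mem hks (hS s⁻¹)
    have hXKtop : XK = ⊤ := hco.2 XK (lt_of_le_of_ne hMX hne)
    rw [eq_top_iff]
    rintro ⟨k, s⟩ _
    have h1 : (k, (1 : S)) ∈ X := by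
      have : k ∈ XK := by rw [hXKtop]; exact Subgroup.mem_top _
      exact this
    have : (k, s) = (k, (1 : S)) * ((1 : K), s) := by
      rw [Prod.mk_mul_mk]; simp
    rw [this]
    exact X.mul_mem h1 (hS s)

end Cfsg.Agent.Lib.helper6.L213
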