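import Mathlib
import Cfsg.Agent.Lib.helper6.L213g
import Cfsg.Agent.Lib.helper6.L213h
import Cfsg.Agent.Lib.Helper19.SL2Normal
import Cfsg.Agent.Lib.Helper28.P2Card

set_option autoImplicit false

namespace Cfsg.Agent.Lib.helper6.L213

open Subgroup Matrix

instance fact13 : Fact (Nat.Prime 13) := ⟨by norm_num⟩

/-- the diagonal matrix `diag(2, 7)` -/
def A13 : Matrix.SpecialLinearGroup (Fin 2) (ZMod 13) := ⟨!![2,0;0,7], by decide⟩

theorem A13_pow6 : A13 ^ 6 = -1 := by decide
theorem A13_pow3 : A13 ^ 3 ≠ 1 ∧ A13 ^ 3 ≠ -1 := by decide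
theorem A13_pow2 : A13 ^ 2 ≠ 1 ∧ A13 ^ 2 ≠ -1 := by decide

theorem two_ne_zero_13 : (2 : ZMod 13) ≠ 0 := by decide

theorem psl13_mk_eq_one (B : Matrix.SpecialLinearGroup (Fin 2) (ZMod 13)) :
    ((B : Matrix.SpecialLinearGroup (Fin 2) (ZMod 13)) :
      Matrix.ProjectiveSpecialLinearGroup (Fin 2) (ZMod 13)) = 1 ↔ B = 1 ∨ B = -1 := by
  rw [← Cfsg.Agent.Lib.Helper19.SL2Normal.mem_center_iff' two_ne_zero_13]
  exact QuotientGroup.eq_one_iff B

theorem psl13_order6 : orderOf ((A13 : Matrix.SpecialLinearGroup (Fin 2) (ZMod 13)) :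
      Matrix.ProjectiveSpecialLinearGroup (Fin 2) (ZMod 13)) = 6 := by
  apply orderOf_eq_of_pow_and_pow_div_prime (by norm_num)
  · rw [← QuotientGroup.mk_pow, psl13_mk_eq_one]
    right; exact A13_pow6
  · intro p hp hpd
    have hp6 : p ≤ 6 := Nat.le_of_dvd (by norm_num) hpd
    interval_cases p
    · exact absurd hp (by norm_num)
    · exact absurd hp (by norm_num)
    · rw [← QuotientGroup.mk_pow, Ne, psl13_mk_eq_one]
      push Not
      exact A13_pow3
    · rw [← QuotientGroup.mk_pow, Ne, psl13_mk_eq_one]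
      push Not
      exact A13_pow2
    · exact absurd hp (by norm_num)
    · exact absurd hpd (by norm_num)
    · exact absurd hp (by norm_num)

theorem psl13_card : Nat.card (Matrix.ProjectiveSpecialLinearGroup (Fin 2) (ZMod 13)) = 1092 := by
  have h := Cfsg.Agent.Lib.Helper28.P2.card_psl2 (F := ZMod 13)
  rw [ZMod.card] at h
  have h2 : Nat.gcd 2 (13 - 1) = 2 := by decide
  rw [h2] at h
  omega

theorem psl13_maxNorm : MaxNorm (Matrix.ProjectiveSpecialLinearGroup (Fin 2) (ZMod 13)) := by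
  haveI : IsSimpleGroup (Matrix.ProjectiveSpecialLinearGroup (Fin 2) (ZMod 13)) :=
    Matrix.ProjectiveSpecialLinearGroup.rank_two_simple (by
      rw [Nat.card_eq_fintype_card, ZMod.card]; norm_num)
  haveI : Finite (Matrix.ProjectiveSpecialLinearGroup (Fin 2) (ZMod 13)) :=
    Nat.finite_of_card_ne_zero (by rw [psl13_card]; norm_num)
  intro H hH
  apply core psl13_card _ psl13_order6 H
  · rintro rfl; exact hH inferInstance
  · rintro rfl; exact hH inferInstance

theorem sl13_maxNorm : MaxNorm (Matrix.SpecialLinearGroup (Fin 2) (ZMod 13)) := by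
  refine maxNorm_lift (QuotientGroup.mk' (Subgroup.center _)) (QuotientGroup.mk'_surjective _) (-1)
    ?_ ?_ ?_ ?_ psl13_maxNorm
  · intro g
    apply Subtype.ext
    simp
  · intro x hx
    exact (psl13_mk_eq_one x).mp hx
  · exact (psl13_mk_eq_one (-1)).mpr (Or.inr rfl)
  · intro x hx
    have h1 : x * x = 1 := by
      have := pow_orderOf_eq_one x
      rw [hx, pow_two] at this
      exact this
    rcases Cfsg.Agent.Lib.Helper19.SL2Normal.eq_one_or_neg_one_of_sq two_ne_zero_13 x h1 with h | h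
    · rw [h, orderOf_one] at hx; omega
    · exact h

end Cfsg.Agent.Lib.helper6.L213
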