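import Mathlib

set_option autoImplicit false

namespace Cfsg.Agent.Lib.helper6.Mat2

open Matrix

/-- 2x2 matrices with natural number entries (used modulo `p`) -/
structure M2 where
  a : ℕ
  b : ℕ
  c : ℕ
  d : ℕ
deriving DecidableEq

def mulP (p : ℕ) (x y : M2) : M2 :=
  ⟨(x.a * y.a + x.b * y.c) % p, (x.a * y.b + x.b * y.d) % p, (x.c * y.a + x.d * y.c) % p, (x.c * y.b + x.d * y.d) % p⟩

def one2 : M2 := ⟨1, 0, 0, 1⟩

def red (p : ℕ) (x : M2) : Prop := x.a < p ∧ x.b < p ∧ x.c < p ∧ x.d < p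

def toMat (p : ℕ) (x : M2) : Matrix (Fin 2) (Fin 2) (ZMod p) :=
  !![(x.a : ZMod p), (x.b : ZMod p); (x.c : ZMod p), (x.d : ZMod p)]

theorem toMat_mulP (p : ℕ) (x y : M2) : toMat p (mulP p x y) = toMat p x * toMat p y := by
  unfold toMat mulP
  ext i j
  fin_cases i <;> fin_cases j <;> simp [Matrix.mul_apply, Fin.sum_univ_two, ZMod.natCast_mod]

theorem toMat_one2 (p : ℕ) : toMat p one2 = 1 := by
  unfold toMat one2
  ext i j
  fin_cases i <;> fin_cases j <;> simp

theorem red_mulP (p : ℕ) (hp : 0 < p) (x y : M2) : red p (mulP p x y) :=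
  ⟨Nat.mod_lt _ hp, Nat.mod_lt _ hp, Nat.mod_lt _ hp, Nat.mod_lt _ hp⟩

theorem toMat_inj (p : ℕ) [NeZero p] (x y : M2) (hx : red p x) (hy : red p y) (h : toMat p x = toMat p y) : x = y := by
  have key : ∀ u v : ℕ, u < p → v < p → (u : ZMod p) = (v : ZMod p) → u = v := by
    intro u v hu hv huv
    have := congrArg ZMod.val huv
    rwa [ZMod.val_natCast_of_lt hu, ZMod.val_natCast_of_lt hv] at this
  obtain ⟨xa, xb, xc, xd⟩ := x
  obtain ⟨ya, yb, yc, yd⟩ := y
  obtain ⟨h1, h2, h3, h4⟩ := hx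
  obtain ⟨h1', h2', h3', h4'⟩ := hy
  unfold toMat at h
  have e1 := congrFun (congrFun h 0) 0
  have e2 := congrFun (congrFun h 0) 1
  have e3 := congrFun (congrFun h 1) 0
  have e4 := congrFun (congrFun h 1) 1
  simp at e1 e2 e3 e4
  have k1 : xa = ya := key _ _ h1 h1' e1
  have k2 : xb = yb := key _ _ h2 h2' e2
  have k3 : xc = yc := key _ _ h3 h3' e3
  have k4 : xd = yd := key _ _ h4 h4' e4
  rw [k1, k2, k3, k4]

/-- evaluate a word in the generators -/
def eval (p : ℕ) {k : ℕ} (gens : Fin k → M2) : List (Fin k) → M2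
  | [] => one2
  | i :: w => mulP p (gens i) (eval p gens w)

/-- `det (x - 1)` modulo `p` -/
def fdet (p : ℕ) (x : M2) : ℕ := ((x.a + (p - 1)) * (x.d + (p - 1)) + (p - 1) * (x.b * x.c)) % p

theorem fdet_cast (p : ℕ) (hp : 0 < p) (x : M2) :
    ((fdet p x : ℕ) : ZMod p) = (toMat p x - 1).det := by
  unfold fdet toMat
  rw [Matrix.det_fin_two]
  have h1 : ((p - 1 : ℕ) : ZMod p) = -1 := by
    rw [Nat.cast_sub hp]
    simp
  simp [ZMod.natCast_mod, h1]
  ring


theorem inv_mulVec_mulVec {p : ℕ} (h : GL (Fin 2) (ZMod p)) (v : Fin 2 → ZMod p) :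
    ((h⁻¹ : GL (Fin 2) (ZMod p)) : Matrix (Fin 2) (Fin 2) (ZMod p)) *ᵥ
      ((h : Matrix (Fin 2) (Fin 2) (ZMod p)) *ᵥ v) = v := by
  rw [Matrix.mulVec_mulVec, ← Units.val_mul, inv_mul_cancel, Units.val_one, Matrix.one_mulVec]

section group

variable (p : ℕ) [hp : Fact p.Prime] {k : ℕ} (gens : Fin k → M2)
  (G : Fin k → GL (Fin 2) (ZMod p))

/-- evaluate a word in the group -/
def evalGL : List (Fin k) → GL (Fin 2) (ZMod p)
  | [] => 1
  | i :: w => G i * evalGL w

variable (hG : ∀ i, ((G i : GL (Fin 2) (ZMod p)) : Matrix (Fin 2) (Fin 2) (ZMod p)) = toMat p (gens i))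

include hG in
theorem evalGL_coe (w : List (Fin k)) :
    ((evalGL p G w : GL (Fin 2) (ZMod p)) : Matrix (Fin 2) (Fin 2) (ZMod p)) = toMat p (eval p gens w) := by
  induction w with
  | nil => simp [evalGL, eval, toMat_one2]
  | cons i w ih => simp only [evalGL, eval, Units.val_mul, hG, ih, toMat_mulP]

theorem red_eval (w : List (Fin k)) : red p (eval p gens w) := by
  cases w with
  | nil => exact ⟨hp.out.one_lt, hp.out.pos, hp.out.pos, hp.out.one_lt⟩
  | cons i w => exact red_mulP p hp.out.pos _ _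

theorem evalGL_mem (w : List (Fin k)) : evalGL p G w ∈ Subgroup.closure (Set.range G) := by
  induction w with
  | nil => exact Subgroup.one_mem _
  | cons i w ih => exact Subgroup.mul_mem _ (Subgroup.subset_closure ⟨i, rfl⟩) ih

variable (words : List (List (Fin k))) (H3 : [] ∈ words)
  (H2 : ∀ i, ∀ w ∈ words, mulP p (gens i) (eval p gens w) ∈ words.map (eval p gens))

include hG H3 H2 in
theorem closure_eq : (Subgroup.closure (Set.range G) : Set (GL (Fin 2) (ZMod p))) =
    {g | ∃ w ∈ words, g = evalGL p G w} := by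
  have : NeZero p := ⟨hp.out.ne_zero⟩
  have hfin : ({g | ∃ w ∈ words, g = evalGL p G w} : Set (GL (Fin 2) (ZMod p))).Finite := Set.toFinite _
  have hmaps : ∀ i, Set.MapsTo (fun g => G i * g) {g | ∃ w ∈ words, g = evalGL p G w}
      {g | ∃ w ∈ words, g = evalGL p G w} := by
    rintro i _ ⟨w, hw, rfl⟩
    have h1 := H2 i w hw
    rw [List.mem_map] at h1
    obtain ⟨w', hw', he⟩ := h1
    refine ⟨w', hw', ?_⟩
    apply Units.ext
    rw [Units.val_mul, hG, evalGL_coe p gens G hG, evalGL_coe p gens G hG, he, toMat_mulP]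
  apply Set.Subset.antisymm
  · intro g hg
    induction hg using Subgroup.closure_induction_left with
    | one => exact ⟨[], H3, rfl⟩
    | mul_left x hx y _ ih =>
      obtain ⟨i, rfl⟩ := hx
      exact hmaps i ih
    | inv_mul_cancel x hx y _ ih =>
      obtain ⟨i, rfl⟩ := hx
      have hinj : Set.InjOn (fun g => G i * g) {g | ∃ w ∈ words, g = evalGL p G w} := by
        intro a _ b _ hab
        exact mul_left_cancel hab
      have hbij := (Set.Finite.injOn_iff_bijOn_of_mapsTo hfin (hmaps i)).mp hinj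
      obtain ⟨z, hz, hzy⟩ := hbij.surjOn ih
      have : (G i)⁻¹ * y = z := by
        rw [← hzy]
        simp
      rw [this]
      exact hz
  · rintro _ ⟨w, -, rfl⟩
    exact evalGL_mem p G w

variable (H1 : (words.map (eval p gens)).Nodup)

include hG H3 H2 H1 in
theorem closure_card : Nat.card (Subgroup.closure (Set.range G)) = words.length := by
  classical
  have : NeZero p := ⟨hp.out.ne_zero⟩
  have h1 : Nat.card (Subgroup.closure (Set.range G)) =
      Nat.card ({g | ∃ w ∈ words, g = evalGL p G w} : Set (GL (Fin 2) (ZMod p))) := by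
    have := closure_eq p gens G hG words H3 H2
    exact Nat.card_congr (Equiv.setCongr this)
  rw [h1]
  have h2 : ({g | ∃ w ∈ words, g = evalGL p G w} : Set (GL (Fin 2) (ZMod p))) =
      ↑(words.toFinset.image (evalGL p G)) := by
    ext g
    simp only [Set.mem_ofPred_eq, Finset.coe_image, List.coe_toFinset, Set.mem_image]
    constructor
    · rintro ⟨w, hw, rfl⟩; exact ⟨w, hw, rfl⟩
    · rintro ⟨w, hw, rfl⟩; exact ⟨w, hw, rfl⟩
  rw [h2, Nat.card_coe_set_eq, Set.ncard_coe_finset, Finset.card_image_of_injOn, List.toFinset_card_of_nodup]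
  · exact List.Nodup.of_map _ H1
  · intro w hw w' hw' hww'
    have h3 : toMat p (eval p gens w) = toMat p (eval p gens w') := by
      rw [← evalGL_coe p gens G hG, ← evalGL_coe p gens G hG, hww']
    have h4 := toMat_inj p _ _ (red_eval p gens w) (red_eval p gens w') h3
    exact List.inj_on_of_nodup_map H1 (by simpa using hw) (by simpa using hw') h4

variable (H5 : words.length + 1 = p ^ 2)
  (H6 : ∀ w ∈ words, eval p gens w ≠ one2 → fdet p (eval p gens w) ≠ 0)

include hG H3 H2 H6 in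
theorem closure_free (h : Subgroup.closure (Set.range G)) (v : Fin 2 → ZMod p) (hv : v ≠ 0)
    (hhv : ((h : GL (Fin 2) (ZMod p)) : Matrix (Fin 2) (Fin 2) (ZMod p)) *ᵥ v = v) : h = 1 := by
  have : NeZero p := ⟨hp.out.ne_zero⟩
  have hmem : (h : GL (Fin 2) (ZMod p)) ∈ (Subgroup.closure (Set.range G) : Set (GL (Fin 2) (ZMod p))) := h.2
  rw [closure_eq p gens G hG words H3 H2] at hmem
  obtain ⟨w, hw, hhw⟩ := hmem
  by_cases hone : eval p gens w = one2
  · apply Subtype.ext
    apply Units.ext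
    rw [hhw, evalGL_coe p gens G hG, hone, toMat_one2]
    rfl
  · exfalso
    have h1 := H6 w hw hone
    have h2 : ((fdet p (eval p gens w) : ℕ) : ZMod p) ≠ 0 := by
      intro h0
      rw [ZMod.natCast_eq_zero_iff] at h0
      have hlt : fdet p (eval p gens w) < p := Nat.mod_lt _ hp.out.pos
      exact h1 (Nat.eq_zero_of_dvd_of_lt h0 hlt)
    rw [fdet_cast p hp.out.pos, ← evalGL_coe p gens G hG, ← hhw] at h2
    apply h2
    apply Matrix.exists_mulVec_eq_zero_iff.mp
    exact ⟨v, hv, by rw [Matrix.sub_mulVec, hhv, Matrix.one_mulVec, sub_self]⟩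

include hG H3 H2 H1 H5 H6 in
theorem closure_regular (v w : Fin 2 → ZMod p) (hv : v ≠ 0) (hw : w ≠ 0) :
    ∃! h : Subgroup.closure (Set.range G),
      ((h : GL (Fin 2) (ZMod p)) : Matrix (Fin 2) (Fin 2) (ZMod p)) *ᵥ v = w := by
  classical
  have : NeZero p := ⟨hp.out.ne_zero⟩
  have hfin : Finite (Subgroup.closure (Set.range G)) := inferInstance
  have : Fintype (Subgroup.closure (Set.range G)) := Fintype.ofFinite _
  let f : Subgroup.closure (Set.range G) → {u : Fin 2 → ZMod p // u ≠ 0} := fun h =>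
    ⟨((h : GL (Fin 2) (ZMod p)) : Matrix (Fin 2) (Fin 2) (ZMod p)) *ᵥ v, by
      intro h0
      apply hv
      rw [← inv_mulVec_mulVec (h : GL (Fin 2) (ZMod p)) v, h0, Matrix.mulVec_zero]⟩
  have hfinj : Function.Injective f := by
    intro h h' hh
    have h1 : ((h : GL (Fin 2) (ZMod p)) : Matrix (Fin 2) (Fin 2) (ZMod p)) *ᵥ v =
        ((h' : GL (Fin 2) (ZMod p)) : Matrix (Fin 2) (Fin 2) (ZMod p)) *ᵥ v := congrArg Subtype.val hh
    have h2 : (((h'⁻¹ * h : Subgroup.closure (Set.range G)) : GL (Fin 2) (ZMod p)) :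
        Matrix (Fin 2) (Fin 2) (ZMod p)) *ᵥ v = v := by
      rw [Subgroup.coe_mul, Units.val_mul, ← Matrix.mulVec_mulVec, h1]
      exact inv_mulVec_mulVec (h' : GL (Fin 2) (ZMod p)) v
    have h3 := closure_free p gens G hG words H3 H2 H6 _ v hv h2
    exact (inv_mul_eq_one.mp h3).symm
  have hcard : Fintype.card (Subgroup.closure (Set.range G)) = Fintype.card {u : Fin 2 → ZMod p // u ≠ 0} := by
    rw [← Nat.card_eq_fintype_card, closure_card p gens G hG words H3 H2 H1, Fintype.card_subtype_compl,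
      Fintype.card_fun, ZMod.card, Fintype.card_fin]
    simp
    omega
  have hbij := (Fintype.bijective_iff_injective_and_card f).mpr ⟨hfinj, hcard⟩
  obtain ⟨h, hh⟩ := hbij.2 ⟨w, hw⟩
  refine ⟨h, congrArg Subtype.val hh, ?_⟩
  intro h' hh'
  apply hfinj
  apply Subtype.ext
  rw [hh]
  exact hh'

end group

end Cfsg.Agent.Lib.helper6.Mat2
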