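import Mathlib
import Cfsg.Agent.Lib.helper6.Mat2

set_option autoImplicit false

namespace Cfsg.Agent.Lib.helper6.Mat2

open Matrix

/-- a subgroup acting freely with `p^2 - 1` elements acts regularly on non-zero vectors -/
theorem regular_of_free_card (p : ℕ) [hp : Fact p.Prime] (Γ : Subgroup (GL (Fin 2) (ZMod p)))
    (hfree : ∀ h : Γ, ∀ v : Fin 2 → ZMod p, v ≠ 0 →
      ((h : GL (Fin 2) (ZMod p)) : Matrix (Fin 2) (Fin 2) (ZMod p)) *ᵥ v = v → h = 1)
    (hcard : Nat.card Γ + 1 = p ^ 2) (v w : Fin 2 → ZMod p) (hv : v ≠ 0) (hw : w ≠ 0) :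
    ∃! h : Γ, ((h : GL (Fin 2) (ZMod p)) : Matrix (Fin 2) (Fin 2) (ZMod p)) *ᵥ v = w := by
  classical
  have : NeZero p := ⟨hp.out.ne_zero⟩
  have hfin : Finite Γ := inferInstance
  have : Fintype Γ := Fintype.ofFinite _
  let f : Γ → {u : Fin 2 → ZMod p // u ≠ 0} := fun h =>
    ⟨((h : GL (Fin 2) (ZMod p)) : Matrix (Fin 2) (Fin 2) (ZMod p)) *ᵥ v, by
      intro h0
      apply hv
      rw [← inv_mulVec_mulVec (h : GL (Fin 2) (ZMod p)) v, h0, Matrix.mulVec_zero]⟩
  have hfinj : Function.Injective f := by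
    intro h h' hh
    have h1 : ((h : GL (Fin 2) (ZMod p)) : Matrix (Fin 2) (Fin 2) (ZMod p)) *ᵥ v =
        ((h' : GL (Fin 2) (ZMod p)) : Matrix (Fin 2) (Fin 2) (ZMod p)) *ᵥ v := congrArg Subtype.val hh
    have h2 : (((h'⁻¹ * h : Γ) : GL (Fin 2) (ZMod p)) :
        Matrix (Fin 2) (Fin 2) (ZMod p)) *ᵥ v = v := by
      rw [Subgroup.coe_mul, Units.val_mul, ← Matrix.mulVec_mulVec, h1]
      exact inv_mulVec_mulVec (h' : GL (Fin 2) (ZMod p)) v
    have h3 := hfree _ v hv h2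
    exact (inv_mul_eq_one.mp h3).symm
  have hcard' : Fintype.card Γ = Fintype.card {u : Fin 2 → ZMod p // u ≠ 0} := by
    rw [Fintype.card_subtype_compl,
      Fintype.card_fun, ZMod.card, Fintype.card_fin]
    rw [Nat.card_eq_fintype_card] at hcard
    simp
    omega
  have hbij := (Fintype.bijective_iff_injective_and_card f).mpr ⟨hfinj, hcard'⟩
  obtain ⟨h, hh⟩ := hbij.2 ⟨w, hw⟩
  refine ⟨h, congrArg Subtype.val hh, ?_⟩
  intro h' hh'
  apply hfinj
  apply Subtype.ext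
  rw [hh]
  exact hh'

/-- scalar matrix `c^j` -/
def zpw (p c j : ℕ) : M2 := ⟨c ^ j % p, 0, 0, c ^ j % p⟩

section central

variable (p : ℕ) [hp : Fact p.Prime] {k : ℕ} (gens : Fin k → M2)
  (G : Fin k → GL (Fin 2) (ZMod p))
  (hG : ∀ i, ((G i : GL (Fin 2) (ZMod p)) : Matrix (Fin 2) (Fin 2) (ZMod p)) = toMat p (gens i))
  (words : List (List (Fin k))) (H3 : [] ∈ words)
  (H2 : ∀ i, ∀ w ∈ words, mulP p (gens i) (eval p gens w) ∈ words.map (eval p gens))
  (H1 : (words.map (eval p gens)).Nodup)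
  (c r : ℕ) (Z : GL (Fin 2) (ZMod p))
  (hZ : (Z : Matrix (Fin 2) (Fin 2) (ZMod p)) = toMat p ⟨c, 0, 0, c⟩)

include hZ in
theorem Z_pow_coe (j : ℕ) : ((Z ^ j : GL (Fin 2) (ZMod p)) : Matrix (Fin 2) (Fin 2) (ZMod p)) = toMat p (zpw p c j) := by
  have h1 : (Z : Matrix (Fin 2) (Fin 2) (ZMod p)) = Matrix.diagonal (fun _ => (c : ZMod p)) := by
    rw [hZ]
    unfold toMat
    ext a b
    fin_cases a <;> fin_cases b <;> simp
  rw [Units.val_pow_eq_pow_val, h1, Matrix.diagonal_pow]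
  unfold toMat zpw
  ext a b
  fin_cases a <;> fin_cases b <;> simp [ZMod.natCast_mod]

include hZ in
theorem Z_comm (g : GL (Fin 2) (ZMod p)) : Z * g = g * Z := by
  apply Units.ext
  have h1 : (Z : Matrix (Fin 2) (Fin 2) (ZMod p)) = Matrix.diagonal (fun _ => (c : ZMod p)) := by
    rw [hZ]
    unfold toMat
    ext a b
    fin_cases a <;> fin_cases b <;> simp
  rw [Units.val_mul, Units.val_mul, h1]
  ext a b
  rw [Matrix.diagonal_mul, Matrix.mul_diagonal, mul_comm]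

variable (Hc1 : c ^ r % p = 1) (hr : 0 < r)

include hZ Hc1 in
theorem Z_pow_r : Z ^ r = 1 := by
  apply Units.ext
  rw [Z_pow_coe p c Z hZ, zpw, Hc1, Units.val_one]
  exact toMat_one2 p

/-- the big group -/
abbrev Gam : Subgroup (GL (Fin 2) (ZMod p)) := Subgroup.closure (insert Z (Set.range G))

include hG H3 H2 hZ Hc1 hr in
theorem gam_eq : (Gam p G Z : Set (GL (Fin 2) (ZMod p))) =
    {g | ∃ j < r, ∃ w ∈ words, g = Z ^ j * evalGL p G w} := by
  have : NeZero p := ⟨hp.out.ne_zero⟩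
  have hK := closure_eq p gens G hG words H3 H2
  have hfin : ({g | ∃ j < r, ∃ w ∈ words, g = Z ^ j * evalGL p G w} : Set (GL (Fin 2) (ZMod p))).Finite :=
    Set.toFinite _
  have hmapsG : ∀ i, Set.MapsTo (fun g => G i * g) {g | ∃ j < r, ∃ w ∈ words, g = Z ^ j * evalGL p G w}
      {g | ∃ j < r, ∃ w ∈ words, g = Z ^ j * evalGL p G w} := by
    rintro i _ ⟨j, hj, w, hw, rfl⟩
    have h1 : G i * evalGL p G w ∈ (Subgroup.closure (Set.range G) : Set (GL (Fin 2) (ZMod p))) :=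
      Subgroup.mul_mem _ (Subgroup.subset_closure ⟨i, rfl⟩) (evalGL_mem p G w)
    rw [hK] at h1
    obtain ⟨w', hw', he⟩ := h1
    refine ⟨j, hj, w', hw', ?_⟩
    show G i * (Z ^ j * evalGL p G w) = _
    rw [← he, ← mul_assoc, ← mul_assoc]
    congr 1
    have : ∀ n : ℕ, G i * Z ^ n = Z ^ n * G i := by
      intro n
      induction n with
      | zero => simp
      | succ n ih => rw [pow_succ, ← mul_assoc, ih, mul_assoc, ← Z_comm p c Z hZ, mul_assoc]
    exact this j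
  have hmapsZ : Set.MapsTo (fun g => Z * g) {g | ∃ j < r, ∃ w ∈ words, g = Z ^ j * evalGL p G w}
      {g | ∃ j < r, ∃ w ∈ words, g = Z ^ j * evalGL p G w} := by
    rintro _ ⟨j, hj, w, hw, rfl⟩
    by_cases hj1 : j + 1 < r
    · exact ⟨j + 1, hj1, w, hw, by show Z * (Z ^ j * evalGL p G w) = _; rw [← mul_assoc, ← pow_succ']⟩
    · have : j + 1 = r := by omega
      refine ⟨0, hr, w, hw, ?_⟩
      show Z * (Z ^ j * evalGL p G w) = _
      rw [← mul_assoc, ← pow_succ', this, Z_pow_r p c r Z hZ Hc1, pow_zero]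
  have hmaps : ∀ x ∈ insert Z (Set.range G), Set.MapsTo (fun g => x * g)
      {g | ∃ j < r, ∃ w ∈ words, g = Z ^ j * evalGL p G w} {g | ∃ j < r, ∃ w ∈ words, g = Z ^ j * evalGL p G w} := by
    intro x hx
    rcases hx with rfl | ⟨i, rfl⟩
    · exact hmapsZ
    · exact hmapsG i
  apply Set.Subset.antisymm
  · intro g hg
    induction hg using Subgroup.closure_induction_left with
    | one => exact ⟨0, hr, [], H3, by simp [evalGL]⟩
    | mul_left x hx y _ ih => exact hmaps x hx ih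
    | inv_mul_cancel x hx y _ ih =>
      have hinj : Set.InjOn (fun g => x * g) {g | ∃ j < r, ∃ w ∈ words, g = Z ^ j * evalGL p G w} := by
        intro a _ b _ hab
        exact mul_left_cancel hab
      have hbij := (Set.Finite.injOn_iff_bijOn_of_mapsTo hfin (hmaps x hx)).mp hinj
      obtain ⟨z, hz, hzy⟩ := hbij.surjOn ih
      have : x⁻¹ * y = z := by
        rw [← hzy]
        simp
      rw [this]
      exact hz
  · rintro _ ⟨j, -, w, -, rfl⟩
    apply Subgroup.mul_mem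
    · exact Subgroup.pow_mem _ (Subgroup.subset_closure (Set.mem_insert _ _)) j
    · exact Subgroup.closure_mono (Set.subset_insert _ _) (evalGL_mem p G w)


variable (Hc2 : ∀ j ∈ List.range r, 0 < j → zpw p c j ∉ words.map (eval p gens))

theorem red_zpw (j : ℕ) : red p (zpw p c j) :=
  ⟨Nat.mod_lt _ hp.out.pos, hp.out.pos, hp.out.pos, Nat.mod_lt _ hp.out.pos⟩

include hG H3 H2 H1 hZ Hc2 in
theorem gam_inj_aux (j j' : ℕ) (hjj : j ≤ j') (hj' : j' < r) (w w' : List (Fin k)) (hw : w ∈ words) (hw' : w' ∈ words)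
    (h : Z ^ j * evalGL p G w = Z ^ j' * evalGL p G w') : j = j' ∧ w = w' := by
  have : NeZero p := ⟨hp.out.ne_zero⟩
  have hK := closure_eq p gens G hG words H3 H2
  obtain ⟨i, rfl⟩ := Nat.exists_eq_add_of_le hjj
  have h1 : evalGL p G w = Z ^ i * evalGL p G w' := by
    rw [pow_add, mul_assoc] at h
    exact mul_left_cancel h
  have h2 : Z ^ i ∈ (Subgroup.closure (Set.range G) : Set (GL (Fin 2) (ZMod p))) := by
    have : Z ^ i = evalGL p G w * (evalGL p G w')⁻¹ := by rw [h1]; group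
    rw [this]
    exact Subgroup.mul_mem _ (evalGL_mem p G w) (Subgroup.inv_mem _ (evalGL_mem p G w'))
  rw [hK] at h2
  obtain ⟨w0, hw0, he⟩ := h2
  have h3 : zpw p c i = eval p gens w0 := by
    apply toMat_inj p _ _ (red_zpw p c i) (red_eval p gens w0)
    rw [← Z_pow_coe p c Z hZ, ← evalGL_coe p gens G hG, he]
  have hi0 : i = 0 := by
    by_contra hne
    apply Hc2 i (List.mem_range.mpr (by omega)) (Nat.pos_of_ne_zero hne)
    rw [h3]
    exact List.mem_map_of_mem hw0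
  subst hi0
  refine ⟨rfl, ?_⟩
  rw [pow_zero, one_mul] at h1
  have h4 : toMat p (eval p gens w) = toMat p (eval p gens w') := by
    rw [← evalGL_coe p gens G hG, ← evalGL_coe p gens G hG, h1]
  have h5 := toMat_inj p _ _ (red_eval p gens w) (red_eval p gens w') h4
  exact List.inj_on_of_nodup_map H1 hw hw' h5

include hG H3 H2 H1 hZ Hc1 hr Hc2 in
theorem gam_card : Nat.card (Gam p G Z) = r * words.length := by
  classical
  have h1 : Nat.card (Gam p G Z) =
      Nat.card ({g | ∃ j < r, ∃ w ∈ words, g = Z ^ j * evalGL p G w} : Set (GL (Fin 2) (ZMod p))) := by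
    have := gam_eq p gens G hG words H3 H2 c r Z hZ Hc1 hr
    exact Nat.card_congr (Equiv.setCongr this)
  rw [h1]
  have h2 : ({g | ∃ j < r, ∃ w ∈ words, g = Z ^ j * evalGL p G w} : Set (GL (Fin 2) (ZMod p))) =
      ↑((Finset.range r ×ˢ words.toFinset).image (fun x => Z ^ x.1 * evalGL p G x.2)) := by
    ext g
    simp only [Set.mem_ofPred_eq, Finset.coe_image, Set.mem_image, Finset.mem_coe, Finset.mem_product,
      Finset.mem_range, List.mem_toFinset, Prod.exists]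
    constructor
    · rintro ⟨j, hj, w, hw, rfl⟩; exact ⟨j, w, ⟨hj, hw⟩, rfl⟩
    · rintro ⟨j, w, ⟨hj, hw⟩, rfl⟩; exact ⟨j, hj, w, hw, rfl⟩
  rw [h2, Nat.card_coe_set_eq, Set.ncard_coe_finset, Finset.card_image_of_injOn, Finset.card_product,
    Finset.card_range, List.toFinset_card_of_nodup (List.Nodup.of_map _ H1)]
  rintro ⟨j, w⟩ hx ⟨j', w'⟩ hx' hxx
  simp only [Finset.coe_product, Finset.coe_range, List.coe_toFinset, Set.mem_prod, Set.mem_Iio,
    Set.mem_ofPred_eq] at hx hx'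
  simp only at hxx
  rcases le_total j j' with hle | hle
  · obtain ⟨e1, e2⟩ := gam_inj_aux p gens G hG words H3 H2 H1 c r Z hZ Hc2 j j' hle hx'.1 w w' hx.2 hx'.2 hxx
    rw [e1, e2]
  · obtain ⟨e1, e2⟩ := gam_inj_aux p gens G hG words H3 H2 H1 c r Z hZ Hc2 j' j hle hx.1 w' w hx'.2 hx.2 hxx.symm
    rw [e1, e2]

variable (Hc3 : ∀ j ∈ List.range r, ∀ w ∈ words, mulP p (zpw p c j) (eval p gens w) ≠ one2 →
  fdet p (mulP p (zpw p c j) (eval p gens w)) ≠ 0)

include hG H3 H2 hZ Hc1 hr Hc3 in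
theorem gam_free (h : Gam p G Z) (v : Fin 2 → ZMod p) (hv : v ≠ 0)
    (hhv : ((h : GL (Fin 2) (ZMod p)) : Matrix (Fin 2) (Fin 2) (ZMod p)) *ᵥ v = v) : h = 1 := by
  have : NeZero p := ⟨hp.out.ne_zero⟩
  have hmem : (h : GL (Fin 2) (ZMod p)) ∈ (Gam p G Z : Set (GL (Fin 2) (ZMod p))) := h.2
  rw [gam_eq p gens G hG words H3 H2 c r Z hZ Hc1 hr] at hmem
  obtain ⟨j, hj, w, hw, hhw⟩ := hmem
  have hcoe : ((h : GL (Fin 2) (ZMod p)) : Matrix (Fin 2) (Fin 2) (ZMod p)) =
      toMat p (mulP p (zpw p c j) (eval p gens w)) := by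
    rw [hhw, Units.val_mul, Z_pow_coe p c Z hZ, evalGL_coe p gens G hG, toMat_mulP]
  by_cases hone : mulP p (zpw p c j) (eval p gens w) = one2
  · apply Subtype.ext
    apply Units.ext
    rw [hcoe, hone, toMat_one2]
    rfl
  · exfalso
    have h1 := Hc3 j (List.mem_range.mpr hj) w hw hone
    have h2 : ((fdet p (mulP p (zpw p c j) (eval p gens w)) : ℕ) : ZMod p) ≠ 0 := by
      intro h0
      rw [ZMod.natCast_eq_zero_iff] at h0
      have hlt : fdet p (mulP p (zpw p c j) (eval p gens w)) < p := Nat.mod_lt _ hp.out.pos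
      exact h1 (Nat.eq_zero_of_dvd_of_lt h0 hlt)
    rw [fdet_cast p hp.out.pos, ← hcoe] at h2
    apply h2
    apply Matrix.exists_mulVec_eq_zero_iff.mp
    exact ⟨v, hv, by rw [Matrix.sub_mulVec, hhv, Matrix.one_mulVec, sub_self]⟩

end central

end Cfsg.Agent.Lib.helper6.Mat2
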