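import Mathlib

set_option autoImplicit false

namespace Cfsg.Agent.Lib.helper6.NF3361A

/-- pulling back an index-2 subgroup along a surjective hom -/
theorem index_two_of_surj {G Q : Type*} [Group G] [Group Q] (f : G →* Q)
    (hf : Function.Surjective f) (K : Subgroup Q) (hK : K.index = 2) :
    ∃ N : Subgroup G, N.Normal ∧ N.index = 2 := by
  have h2 : (K.comap f).index = 2 := by
    rw [Subgroup.index_comap_of_surjective K hf, hK]
  exact ⟨K.comap f, Subgroup.normal_of_index_eq_two h2, h2⟩

/-- a surjective hom to `ℤˣ` gives an index-2 normal subgroup -/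
theorem index_two_of_hom_units {G : Type*} [Group G] (f : G →* ℤˣ)
    (hf : ∃ g, f g = -1) : ∃ N : Subgroup G, N.Normal ∧ N.index = 2 := by
  refine ⟨f.ker, inferInstance, ?_⟩
  rw [Subgroup.index_ker]
  have htop : f.range = ⊤ := by
    rw [eq_top_iff]
    intro u _
    rcases Int.units_eq_one_or u with h | h
    · rw [h]; exact one_mem _
    · rw [h]
      obtain ⟨g, hg⟩ := hf
      exact ⟨g, hg⟩
  rw [htop, Subgroup.card_top, Nat.card_eq_fintype_card]
  rfl

theorem quadChar_ringEquiv {F : Type} [Field F] [Fintype F] [DecidableEq F] (σ : F ≃+* F) (x : F) :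
    quadraticChar F (σ x) = quadraticChar F x := by
  by_cases hx : x = 0
  · rw [hx, map_zero]
  · have hσx : σ x ≠ 0 := fun h => hx ((map_eq_zero_iff σ σ.injective).mp h)
    rcases quadraticChar_dichotomy hx with h | h
    · rw [h, quadraticChar_one_iff_isSquare hσx]
      obtain ⟨y, hy⟩ := (quadraticChar_one_iff_isSquare hx).mp h
      exact ⟨σ y, by rw [hy, map_mul]⟩
    · rw [h, quadraticChar_neg_one_iff_not_isSquare]
      rw [quadraticChar_neg_one_iff_not_isSquare] at h
      rintro ⟨y, hy⟩
      apply h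
      refine ⟨σ.symm y, ?_⟩
      rw [← map_mul, ← hy]
      simp

theorem index_two_of_semilinear {q : ℕ} [Fact q.Prime] (hq2 : q ≠ 2) {V : Type*}
    [AddCommGroup V] [Module (ZMod q) V]
    {G : Type*} [Group G] (ρ : G →* (V ≃ₗ[ZMod q] V))
    (htrans : ∀ v w : V, v ≠ 0 → w ≠ 0 → ∃ g : G, ρ g v = w)
    {F : Type} [Field F] [Fintype F] (e : V ≃+ F)
    (hsl : ∀ g : G, ∃ (a : F) (σ : F ≃+* F), ∀ v : V, e (ρ g v) = a * σ (e v)) :
    ∃ N : Subgroup G, N.Normal ∧ N.index = 2 := by
  classical
  have hqp : q.Prime := Fact.out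
  set v₁ : V := e.symm 1 with hv₁
  have hev₁ : e v₁ = 1 := by rw [hv₁]; simp
  have hv₁0 : v₁ ≠ 0 := by
    intro h
    rw [h, map_zero] at hev₁
    exact zero_ne_one hev₁
  have hchar : ringChar F ≠ 2 := by
    intro h2
    haveI : CharP F 2 := by rw [← h2]; exact ringChar.charP F
    have h1 : e (v₁ + v₁) = 0 := by
      rw [map_add, hev₁]
      exact CharTwo.add_self_eq_zero 1
    have h3 : v₁ + v₁ = 0 := by
      rw [← map_zero e] at h1
      exact e.injective h1
    have h4 : (2 : ZMod q) • v₁ = 0 := by rw [two_smul]; exact h3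
    rcases smul_eq_zero.mp h4 with h5 | h5
    · have : ((2 : ℕ) : ZMod q) = 0 := by exact_mod_cast h5
      rw [ZMod.natCast_eq_zero_iff] at this
      have := (Nat.prime_dvd_prime_iff_eq hqp Nat.prime_two).mp this
      exact hq2 this
    · exact hv₁0 h5
  set a : G → F := fun g => e (ρ g v₁) with ha
  have ha0 : ∀ g, a g ≠ 0 := by
    intro g h
    rw [ha] at h
    have h' : e (ρ g v₁) = e 0 := by rw [map_zero]; exact h
    have := e.injective h'
    exact hv₁0 ((LinearEquiv.map_eq_zero_iff _).mp this)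
  have hsl' : ∀ g : G, ∃ σ : F ≃+* F, ∀ v : V, e (ρ g v) = a g * σ (e v) := by
    intro g
    obtain ⟨a', σ, h⟩ := hsl g
    refine ⟨σ, ?_⟩
    have h1 : a g = a' := by
      rw [ha]
      simp only
      rw [h v₁, hev₁, map_one, mul_one]
    rw [h1]
    exact h
  have hmul : ∀ g h : G, quadraticChar F (a (g * h)) = quadraticChar F (a g) * quadraticChar F (a h) := by
    intro g h
    obtain ⟨σ, hσ⟩ := hsl' g
    have h1 : a (g * h) = a g * σ (a h) := by
      rw [ha]
      simp only
      rw [map_mul, LinearEquiv.mul_apply, hσ]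
    rw [h1, map_mul, quadChar_ringEquiv]
  have hunit : ∀ g, IsUnit (quadraticChar F (a g)) := by
    intro g
    rcases quadraticChar_dichotomy (ha0 g) with h | h
    · rw [h]; exact isUnit_one
    · rw [h]; exact isUnit_one.neg
  let f : G →* ℤˣ := MonoidHom.mk' (fun g => (hunit g).unit) (by
    intro g h
    apply Units.ext
    simp only [Units.val_mul, IsUnit.unit_spec]
    exact hmul g h)
  apply index_two_of_hom_units f
  obtain ⟨b, hb⟩ := quadraticChar_exists_neg_one hchar
  have hb0 : b ≠ 0 := by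
    intro h
    rw [h, quadraticChar_zero] at hb
    norm_num at hb
  have hw0 : e.symm b ≠ 0 := by
    intro h
    apply hb0
    have := congrArg e h
    simpa using this
  obtain ⟨g, hg⟩ := htrans v₁ (e.symm b) hv₁0 hw0
  refine ⟨g, ?_⟩
  apply Units.ext
  show ((hunit g).unit : ℤ) = ((-1 : ℤˣ) : ℤ)
  rw [IsUnit.unit_spec]
  have : a g = b := by
    rw [ha]
    simp only
    rw [hg]
    simp
  rw [this, hb]
  rfl

end Cfsg.Agent.Lib.helper6.NF3361A
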