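import Mathlib
import Cfsg.Agent.Lib.Helper1.TwoGroupUnique
import Cfsg.Agent.Lib.Helper1.FrobCenter

set_option autoImplicit false

namespace Cfsg.Agent.Lib.helper6.Q8Min

open QuaternionGroup
open scoped commutatorElement

/-- a generalized quaternion group whose commutators are central is `Q8` or cyclic of order 4 -/
theorem quat_class_two (n : ℕ) [NeZero n]
    (h : ∀ x y c z : QuaternionGroup n, x * y = c * y * x → c * z = z * c) :
    n ≤ 2 := by
  have h1 := h (a 1) (xa 0) (a 2) (xa 0) (by
    simp only [QuaternionGroup.a_mul_xa, QuaternionGroup.xa_mul_a]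
    rw [QuaternionGroup.xa.injEq]; ring)
  simp only [QuaternionGroup.a_mul_xa, QuaternionGroup.xa_mul_a] at h1
  rw [QuaternionGroup.xa.injEq] at h1
  by_contra hn
  push Not at hn
  have h2 : ((4 : ℕ) : ZMod (2 * n)) = 0 := by
    have : (4 : ZMod (2 * n)) = 0 := by linear_combination (-1 : ZMod (2*n)) * h1
    exact_mod_cast this
  rw [ZMod.natCast_eq_zero_iff] at h2
  have := Nat.le_of_dvd (by norm_num) h2
  omega


theorem pgroup_of_minimal {G : Type*} [Group G] [Finite G]
    (hna : ∃ x y : G, x * y ≠ y * x)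
    (hc2 : commutator G ≤ Subgroup.center G)
    (hchar : ∀ K : Subgroup G, K.Characteristic → (∀ x ∈ K, ∀ y ∈ K, x * y = y * x) ∨ K = ⊤) :
    ∃ (q : ℕ) (_ : Fact q.Prime), IsPGroup q G := by
  classical
  haveI hnil : Group.IsNilpotent G := by
    apply Subgroup.isNilpotent_of_ker_le_center (Abelianization.of (G := G))
    rw [Abelianization.ker_of]; exact hc2
  by_contra hcon
  push Not at hcon
  have hsyl : ∀ (q : ℕ) [Fact q.Prime] (Q : Sylow q G), ∀ x ∈ Q, ∀ y ∈ Q, x * y = y * x := by
    intro q _ Q
    haveI : (Q : Subgroup G).Normal := inferInstance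
    haveI : (Q : Subgroup G).Characteristic := Sylow.characteristic_of_normal Q inferInstance
    rcases hchar Q inferInstance with h | h
    · exact h
    · exfalso
      apply hcon q inferInstance
      intro g
      have hg : g ∈ (Q : Subgroup G) := by rw [h]; trivial
      obtain ⟨k, hk⟩ := Q.2 ⟨g, hg⟩
      exact ⟨k, by simpa using congrArg Subtype.val hk⟩
  obtain ⟨x, y, hxy⟩ := hna
  have h5 := (Group.isNilpotent_of_finite_tfae (G := G)).out 0 4
  obtain ⟨e⟩ := h5.mp hnil
  apply hxy
  have h6 : e.symm x * e.symm y = e.symm y * e.symm x := by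
    funext p P
    haveI : Fact (Nat.Prime ↑p) := Fact.mk <| Nat.prime_of_mem_primeFactors p.2
    apply Subtype.ext
    simp only [Pi.mul_apply, Subgroup.coe_mul]
    exact hsyl p P _ (e.symm x p P).2 _ (e.symm y p P).2
  have := congrArg e h6
  simpa using this


/-- in a `q`-group all of whose abelian subgroups are cyclic, there is a unique subgroup of
order `q` -/
theorem unique_of_abelian_cyclic {G : Type*} [Group G] [Finite G] (q : ℕ) [hq : Fact q.Prime]
    (hG : IsPGroup q G)
    (hab : ∀ B : Subgroup G, (∀ x ∈ B, ∀ y ∈ B, x * y = y * x) → IsCyclic B) :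
    ∀ X Y : Subgroup G, Nat.card X = q → Nat.card Y = q → X = Y := by
  classical
  by_cases hnt : Nontrivial G
  swap
  · intro X Y hX _
    exfalso
    rw [not_nontrivial_iff_subsingleton] at hnt
    have : Nat.card X = 1 := Nat.card_unique
    rw [this] at hX
    exact hq.out.one_lt.ne hX
  have hZnt := hG.center_nontrivial
  have hZp : IsPGroup q (Subgroup.center G) := hG.to_subgroup _
  obtain ⟨k, hk⟩ := IsPGroup.iff_card.mp hZp
  have hk0 : k ≠ 0 := by
    rintro rfl
    rw [pow_zero] at hk
    have := Finite.one_lt_card_iff_nontrivial.mpr hZnt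
    omega
  obtain ⟨z, hz⟩ := exists_prime_orderOf_dvd_card' (G := Subgroup.center G) q
    (hk ▸ dvd_pow_self q hk0)
  have hzG : orderOf (z : G) = q := by rw [Subgroup.orderOf_coe]; exact hz
  suffices h : ∀ X : Subgroup G, Nat.card X = q → X = Subgroup.zpowers (z : G) by
    intro X Y hX hY
    rw [h X hX, h Y hY]
  intro X hX
  apply Subgroup.eq_of_le_of_card_ge
  · intro x hxX
    have hxq : x ^ q = 1 := by
      have h1 : (⟨x, hxX⟩ : X) ^ Nat.card X = 1 := pow_card_eq_one'
      rw [hX] at h1
      have := congrArg Subtype.val h1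
      simpa using this
    have hcomm : x * (z : G) = (z : G) * x := (Subgroup.mem_center_iff.mp z.2) x
    -- the abelian subgroup generated by x and z
    have hBc : ∀ u ∈ Subgroup.closure ({x, (z : G)} : Set G),
        ∀ v ∈ Subgroup.closure ({x, (z : G)} : Set G), u * v = v * u := by
      have hAc : IsMulCommutative (Subgroup.closure ({x, (z : G)} : Set G)) := by
        apply Subgroup.isMulCommutative_closure
        intro a ha b hb
        rcases ha with rfl | rfl <;> rcases hb with rfl | rfl
        · rfl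
        · exact hcomm
        · exact hcomm.symm
        · rfl
      intro u hu v hv
      exact congrArg Subtype.val (hAc.1.1 ⟨u, hu⟩ ⟨v, hv⟩)
    haveI hcyc := hab _ hBc
    have hxA : x ∈ Subgroup.closure ({x, (z : G)} : Set G) := Subgroup.subset_closure (by simp)
    have hzA : (z : G) ∈ Subgroup.closure ({x, (z : G)} : Set G) :=
      Subgroup.subset_closure (by simp)
    have h1 := Cfsg.Agent.Lib.Helper1.mem_zpowers_of_isCyclic
      (A := Subgroup.closure ({x, (z : G)} : Set G)) q hq.out.pos ⟨x, hxA⟩ ⟨(z : G), hzA⟩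
      (by rw [← hzG]; exact (Subgroup.orderOf_mk (z : G) hzA))
      (by apply Subtype.ext; simpa using hxq)
    obtain ⟨k, hk⟩ := Subgroup.mem_zpowers_iff.mp h1
    refine Subgroup.mem_zpowers_iff.mpr ⟨k, ?_⟩
    have := congrArg Subtype.val hk
    simpa using this
  · rw [hX, Nat.card_zpowers, hzG]

theorem quat8_of_minimal {G : Type*} [Group G] [Finite G]
    (hab : ∀ B : Subgroup G, (∀ x ∈ B, ∀ y ∈ B, x * y = y * x) → IsCyclic B)
    (hna : ∃ x y : G, x * y ≠ y * x)
    (hc2 : commutator G ≤ Subgroup.center G)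
    (hchar : ∀ K : Subgroup G, K.Characteristic → (∀ x ∈ K, ∀ y ∈ K, x * y = y * x) ∨ K = ⊤) :
    Nonempty (G ≃* QuaternionGroup 2) := by
  classical
  obtain ⟨q, hq, hG⟩ := pgroup_of_minimal hna hc2 hchar
  have huniq := unique_of_abelian_cyclic q hG hab
  obtain ⟨x, y, hxy⟩ := hna
  have hnc : ¬ IsCyclic G := by
    intro hc
    haveI := hc
    exact hxy (IsCyclic.isMulCommutative.is_comm.comm x y)
  have hquat : ∃ n : ℕ, Nonempty (G ≃* QuaternionGroup (2 ^ n)) := by
    by_cases hq2 : q = 2
    · subst hq2
      rcases Cfsg.Agent.Lib.Helper1.cyclic_or_quaternion_of_unique hG huniq with h | h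
      · exact absurd h hnc
      · exact h
    · exact absurd (Cfsg.Agent.Lib.Helper29.isCyclic_of_unique_subgroup_odd q hq2 hG huniq) hnc
  obtain ⟨n, ⟨e⟩⟩ := hquat
  have hn2 : 2 ^ n ≤ 2 := by
    apply quat_class_two (2 ^ n)
    intro u v c w huv
    -- pull back to G
    have hc : e.symm c ∈ commutator G := by
      have h1 : e.symm c = ⁅(e.symm u : G), (e.symm v : G)⁆ := by
        rw [commutatorElement_def]
        have : e.symm u * e.symm v = e.symm c * e.symm v * e.symm u := by
          rw [← map_mul, ← map_mul, ← map_mul, huv]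
        calc e.symm c = (e.symm c * e.symm v * e.symm u) * (e.symm u)⁻¹ * (e.symm v)⁻¹ := by group
          _ = e.symm u * e.symm v * (e.symm u)⁻¹ * (e.symm v)⁻¹ := by rw [this]
      rw [h1]
      exact Subgroup.commutator_mem_commutator (Subgroup.mem_top _) (Subgroup.mem_top _)
    have h2 := Subgroup.mem_center_iff.mp (hc2 hc) (e.symm w)
    have := congrArg e h2
    simpa using this.symm
  have hn : n = 0 ∨ n = 1 := by
    rcases n with _ | _ | n
    · left; rfl
    · right; rfl
    · exfalso
      have : 2 ^ (n + 1 + 1) = 4 * 2 ^ n := by ring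
      have := Nat.one_le_two_pow (n := n)
      omega
  rcases hn with rfl | rfl
  · exfalso
    -- QuaternionGroup 1 is cyclic
    apply hnc
    have : IsCyclic (QuaternionGroup (2 ^ 0)) := by
      rw [pow_zero]; exact QuaternionGroup.quaternionGroup_one_isCyclic
    exact isCyclic_of_surjective e.symm e.symm.surjective
  · exact ⟨e.trans (by rw [pow_one])⟩

end Cfsg.Agent.Lib.helper6.Q8Min
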