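import Mathlib
import Cfsg.Agent.Lib.helper6.RegLinC
import Cfsg.Agent.Lib.helper6.Q8Min

set_option autoImplicit false

namespace Cfsg.Agent.Lib.helper6.NF688A

open Cfsg.Agent.Lib.helper6.RegLin Cfsg.Agent.Lib.helper6.RegLinC

variable {p : ℕ} [Fact p.Prime] {V : Type*} [AddCommGroup V] [Module (ZMod p) V]
  {H : Subgroup (V ≃ₗ[ZMod p] V)}

theorem comm_iff {G : Type*} [Group G] (B : Subgroup G) :
    IsMulCommutative B ↔ ∀ a ∈ B, ∀ b ∈ B, a * b = b * a := by
  constructor
  · intro h a ha b hb
    exact congrArg Subtype.val (h.1.1 ⟨a, ha⟩ ⟨b, hb⟩)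
  · intro h
    exact ⟨⟨fun a b => Subtype.ext (h a a.2 b b.2)⟩⟩

/-- every abelian subgroup of a regular linear group is cyclic -/
theorem abelian_cyclic [Finite V]
    (hreg : ∀ v w : V, v ≠ 0 → w ≠ 0 → ∃! h : H, (h : V ≃ₗ[ZMod p] V) v = w)
    (hV : (⊤ : Submodule (ZMod p) V) ≠ ⊥)
    (B : Subgroup H) (hB : ∀ a ∈ B, ∀ b ∈ B, a * b = b * a) : IsCyclic B := by
  have hinvtop : Inv B (⊤ : Submodule (ZMod p) V) := fun a _ v _ => Submodule.mem_top
  obtain ⟨W₁, -, hW₁, hW₁inv, hW₁min⟩ := exists_min B ⊤ hV hinvtop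
  exact cyclic_of_min hreg B hB W₁ hW₁ hW₁inv hW₁min

/-- existence of a maximal normal abelian subgroup -/
theorem exists_max_abelian [Finite V] :
    ∃ A : Subgroup H, A.Normal ∧ IsMulCommutative A ∧
      ∀ B : Subgroup H, B.Normal → IsMulCommutative B → A ≤ B → B = A := by
  classical
  haveI : Finite (Subgroup H) := inferInstance
  let S : Set (Subgroup H) := {A | A.Normal ∧ IsMulCommutative A}
  have hS : S.Nonempty := ⟨⊥, inferInstance, inferInstance⟩
  obtain ⟨A, hAS, hAmax⟩ := (Set.toFinite S).exists_maximal hS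
  refine ⟨A, hAS.1, hAS.2, ?_⟩
  intro B hBn hBc hAB
  exact le_antisymm (hAmax ⟨hBn, hBc⟩ hAB) hAB

/-- existence of a minimal nonabelian normal subgroup inside a nonabelian normal subgroup -/
theorem exists_min_nonabelian [Finite V] (C : Subgroup H) (hCn : C.Normal)
    (hCna : ¬ IsMulCommutative C) :
    ∃ N : Subgroup H, N.Normal ∧ N ≤ C ∧ ¬ IsMulCommutative N ∧
      ∀ M : Subgroup H, M.Normal → M ≤ N → ¬ IsMulCommutative M → M = N := by
  classical
  haveI : Finite (Subgroup H) := inferInstance
  let S : Set (Subgroup H) := {N | N.Normal ∧ N ≤ C ∧ ¬ IsMulCommutative N}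
  have hS : S.Nonempty := ⟨C, hCn, le_rfl, hCna⟩
  obtain ⟨N, hNS, hNmin⟩ := (Set.toFinite S).exists_minimal hS
  refine ⟨N, hNS.1, hNS.2.1, hNS.2.2, ?_⟩
  intro M hMn hMN hMna
  exact le_antisymm hMN (hNmin ⟨hMn, hMN.trans hNS.2.1, hMna⟩ hMN)

/-- the key structural step: in the solvable case, a minimal nonabelian normal subgroup
centralising the maximal normal abelian subgroup `A` is quaternion of order 8 -/
theorem quat_of_min [Finite V]
    (hreg : ∀ v w : V, v ≠ 0 → w ≠ 0 → ∃! h : H, (h : V ≃ₗ[ZMod p] V) v = w)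
    (hV : (⊤ : Submodule (ZMod p) V) ≠ ⊥)
    (hsolv : Group.IsSolvable H)
    (A : Subgroup H) (hAn : A.Normal) (hAc : IsMulCommutative A)
    (hAmax : ∀ B : Subgroup H, B.Normal → IsMulCommutative B → A ≤ B → B = A)
    (N : Subgroup H) (hNn : N.Normal) (hNle : N ≤ Subgroup.centralizer (A : Set H))
    (hNna : ¬ IsMulCommutative N)
    (hNmin : ∀ M : Subgroup H, M.Normal → M ≤ N → ¬ IsMulCommutative M → M = N) :
    Nonempty (N ≃* QuaternionGroup 2) := by
  classical
  haveI := hNn
  haveI := hAn
  -- the derived subgroup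
  set N1 : Subgroup H := ⁅N, N⁆ with hN1
  have hN1n : N1.Normal := Subgroup.commutator_normal N N
  have hN1le : N1 ≤ N := Subgroup.commutator_le_right N N
  have hN1ne : N1 ≠ N := by
    intro heq
    have hsN : Group.IsSolvable N := inferInstance
    have hntN : Nontrivial N := by
      by_contra h
      rw [not_nontrivial_iff_subsingleton] at h
      apply hNna
      exact ⟨⟨fun a b => Subsingleton.elim _ _⟩⟩
    have h1 := Group.IsSolvable.commutator_lt_top_of_nontrivial N
    have h2 : (commutator N).map N.subtype = N1 := Subgroup.map_subtype_commutator N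
    rw [heq] at h2
    have h3 : (commutator N).map N.subtype = (⊤ : Subgroup N).map N.subtype := by
      rw [h2, ← MonoidHom.range_eq_map, Subgroup.range_subtype]
    have h4 := Subgroup.map_injective N.subtype_injective h3
    rw [h4] at h1
    exact lt_irrefl _ h1
  have hN1c : IsMulCommutative N1 := by
    by_contra h
    exact hN1ne (hNmin N1 hN1n hN1le h)
  have hN1c' := (comm_iff N1).mp hN1c
  have hAc' := (comm_iff A).mp hAc
  -- N1 ≤ A
  have hNA : ∀ n ∈ N, ∀ a ∈ A, a * n = n * a := by
    intro n hn a ha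
    exact (Subgroup.mem_centralizer_iff.mp (hNle hn)) a ha
  have hN1A : N1 ≤ A := by
    have hsup : N1 ⊔ A = A := by
      apply hAmax _ inferInstance _ le_sup_right
      rw [Subgroup.sup_eq_closure]
      apply Subgroup.isMulCommutative_closure
      rintro x (hx | hx) y (hy | hy)
      · exact hN1c' x hx y hy
      · exact (hNA x (hN1le hx) y hy).symm
      · exact hNA y (hN1le hy) x hx
      · exact hAc' x hx y hy
    rw [← hsup]
    exact le_sup_left
  -- apply the abstract lemma
  apply Cfsg.Agent.Lib.helper6.Q8Min.quat8_of_minimal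
  · -- abelian subgroups cyclic
    intro B hB
    apply Cfsg.Agent.Lib.Helper1.isCyclic_of_map_subtype N B
    apply abelian_cyclic hreg hV
    rintro _ ⟨x, hx, rfl⟩ _ ⟨y, hy, rfl⟩
    have := hB x hx y hy
    exact congrArg N.subtype this
  · -- nonabelian
    by_contra h
    push Not at h
    exact hNna ⟨⟨fun a b => h a b⟩⟩
  · -- class two
    intro c hc
    rw [Subgroup.mem_center_iff]
    intro n
    have hcN1 : (c : H) ∈ N1 := by
      have h2 : (commutator N).map N.subtype = N1 := Subgroup.map_subtype_commutator N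
      rw [← h2]
      exact ⟨c, hc, rfl⟩
    apply Subtype.ext
    exact (hNA n n.2 c (hN1A hcN1)).symm
  · -- characteristic subgroups
    intro K hK
    by_cases hKc : ∀ x ∈ K, ∀ y ∈ K, x * y = y * x
    · exact Or.inl hKc
    · right
      haveI := hK
      have hKn : (K.map N.subtype).Normal := inferInstance
      have hKle : K.map N.subtype ≤ N := Subgroup.map_subtype_le K
      have hKna : ¬ IsMulCommutative (K.map N.subtype) := by
        intro h
        apply hKc
        intro x hx y hy
        have := (comm_iff _).mp h (x : H) ⟨x, hx, rfl⟩ (y : H) ⟨y, hy, rfl⟩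
        exact Subtype.ext this
      have := hNmin _ hKn hKle hKna
      rw [eq_top_iff]
      intro x _
      have hx : (x : H) ∈ K.map N.subtype := by rw [this]; exact x.2
      obtain ⟨y, hy, hyx⟩ := hx
      have : y = x := Subtype.ext hyx
      rwa [← this]

end Cfsg.Agent.Lib.helper6.NF688A
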