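import Mathlib

set_option autoImplicit false

namespace Cfsg.Agent.Lib.helper6.NF688B

variable {p : ℕ} [Fact p.Prime] {V : Type*} [AddCommGroup V] [Module (ZMod p) V]

/-- quaternion relations on a space over `F_p` (`p` odd) force an eigenspace of half dimension,
invariant under everything commuting with `I` and `J` -/
theorem split [Finite V] (hp2 : p ≠ 2) (I J : Module.End (ZMod p) V)
    (hI : I * I = -1) (hJ : J * J = -1) (hIJ : I * J = -(J * I)) :
    ∃ W : Submodule (ZMod p) V,
      Module.finrank (ZMod p) V = 2 * Module.finrank (ZMod p) W ∧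
      ∀ T : Module.End (ZMod p) V, T * I = I * T → T * J = J * T → ∀ v ∈ W, T v ∈ W := by
  classical
  haveI : Module.Finite (ZMod p) V := Module.Finite.of_finite
  obtain ⟨a, b, hab⟩ := ZMod.sq_add_sq p (-1)
  set u : Module.End (ZMod p) V := a • I + b • J with hu
  have hab' : -(a * a) - b * b = (1 : ZMod p) := by linear_combination -hab
  have huu : u * u = 1 := by
    have h0 : u * u = (a * a) • (I * I) + (a * b) • (I * J) + (b * a) • (J * I)
        + (b * b) • (J * J) := by
      rw [hu]
      simp only [mul_add, add_mul, smul_mul_smul_comm]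
      abel
    rw [h0, hI, hJ, hIJ]
    calc (a * a) • (-1 : Module.End (ZMod p) V) + (a * b) • -(J * I) + (b * a) • (J * I)
          + (b * b) • (-1 : Module.End (ZMod p) V)
        = (-(a * a) - b * b) • (1 : Module.End (ZMod p) V) := by module
      _ = 1 := by rw [hab', one_smul]
  have hJI : J * I = -(I * J) := by rw [hIJ, neg_neg]
  obtain ⟨K, hK⟩ : ∃ K : Module.End (ZMod p) V, K = I * J := ⟨_, rfl⟩
  have hKK : K * K = -1 := by
    rw [hK]
    calc I * J * (I * J) = I * (J * I) * J := by simp only [mul_assoc]
      _ = I * (-(I * J)) * J := by rw [hJI]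
      _ = -((I * I) * (J * J)) := by simp only [mul_neg, neg_mul, mul_assoc]
      _ = -1 := by rw [hI, hJ]; simp
  have hKu : K * u = -(u * K) := by
    rw [hK, hu]
    simp only [mul_add, add_mul, mul_smul_comm, smul_mul_assoc]
    have e1 : I * J * I = J := by
      calc I * J * I = I * (J * I) := by rw [mul_assoc]
        _ = I * (-(I * J)) := by rw [hJI]
        _ = -((I * I) * J) := by simp only [mul_neg, mul_assoc]
        _ = J := by rw [hI]; simp
    have e2 : I * J * J = -I := by
      rw [mul_assoc, hJ]; simp
    have e3 : I * (I * J) = -J := by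
      rw [← mul_assoc, hI]; simp
    have e4 : J * (I * J) = I := by
      calc J * (I * J) = J * (-(J * I)) := by rw [hIJ]
        _ = -((J * J) * I) := by simp only [mul_neg, mul_assoc]
        _ = I := by rw [hJ]; simp
    rw [e1, e2, e3, e4]
    simp only [smul_neg, neg_add_rev, neg_neg]
    abel
  have h2ne : (2 : ZMod p) ≠ 0 := by
    intro h
    have : ((2 : ℕ) : ZMod p) = 0 := by exact_mod_cast h
    rw [ZMod.natCast_eq_zero_iff] at this
    have hp := (Fact.out : p.Prime)
    have := (Nat.prime_dvd_prime_iff_eq hp Nat.prime_two).mp this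
    exact hp2 this
  set Wp : Submodule (ZMod p) V := LinearMap.ker (u - 1) with hWp
  set Wm : Submodule (ZMod p) V := LinearMap.ker (u + 1) with hWm
  have hmemp : ∀ v, v ∈ Wp ↔ u v = v := by
    intro v
    rw [hWp, LinearMap.mem_ker, LinearMap.sub_apply, Module.End.one_apply, sub_eq_zero]
  have hmemm : ∀ v, v ∈ Wm ↔ u v = -v := by
    intro v
    rw [hWm, LinearMap.mem_ker, LinearMap.add_apply, Module.End.one_apply, add_eq_zero_iff_eq_neg]
  have huu' : ∀ v, u (u v) = v := fun v => by
    have := congrArg (fun f : Module.End (ZMod p) V => f v) huu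
    simpa using this
  have hKK' : ∀ v, K (K v) = -v := fun v => by
    have := congrArg (fun f : Module.End (ZMod p) V => f v) hKK
    simpa using this
  have hKu' : ∀ v, K (u v) = -(u (K v)) := fun v => by
    have := congrArg (fun f : Module.End (ZMod p) V => f v) hKu
    simpa using this
  have hKinj : Function.Injective K := by
    intro x y hxy
    have := congrArg K hxy
    rw [hKK', hKK'] at this
    exact neg_injective this
  -- K maps Wp to Wm and Wm to Wp
  have hKpm : ∀ v ∈ Wp, K v ∈ Wm := by
    intro v hv
    rw [hmemp] at hv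
    rw [hmemm]
    have := hKu' v
    rw [hv] at this
    exact neg_eq_iff_eq_neg.mp this.symm
  have hKmp : ∀ v ∈ Wm, K v ∈ Wp := by
    intro v hv
    rw [hmemm] at hv
    rw [hmemp]
    have := hKu' v
    rw [hv, map_neg] at this
    exact (neg_injective this).symm
  have hle1 : Module.finrank (ZMod p) Wp ≤ Module.finrank (ZMod p) Wm := by
    apply LinearMap.finrank_le_finrank_of_injective (f := K.restrict hKpm)
    intro x y hxy
    apply Subtype.ext
    apply hKinj
    exact congrArg Subtype.val hxy
  have hle2 : Module.finrank (ZMod p) Wm ≤ Module.finrank (ZMod p) Wp := by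
    apply LinearMap.finrank_le_finrank_of_injective (f := K.restrict hKmp)
    intro x y hxy
    apply Subtype.ext
    apply hKinj
    exact congrArg Subtype.val hxy
  have hcompl : IsCompl Wp Wm := by
    constructor
    · rw [disjoint_iff, eq_bot_iff]
      intro v hv
      have h1 := (hmemp v).mp hv.1
      have h2 := (hmemm v).mp hv.2
      rw [h1] at h2
      have h3 : (2 : ZMod p) • v = 0 := by
        rw [two_smul]
        nth_rewrite 1 [h2]
        simp
      rcases smul_eq_zero.mp h3 with h | h
      · exact absurd h h2ne
      · rw [h]; exact Submodule.zero_mem _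
    · rw [codisjoint_iff, eq_top_iff]
      intro v _
      have hv : v = (2 : ZMod p)⁻¹ • (v + u v) + (2 : ZMod p)⁻¹ • (v - u v) := by
        rw [← smul_add]
        have : v + u v + (v - u v) = (2 : ZMod p) • v := by rw [two_smul]; abel
        rw [this, smul_smul, inv_mul_cancel₀ h2ne, one_smul]
      rw [hv]
      apply Submodule.add_mem_sup
      · apply Submodule.smul_mem
        rw [hmemp, map_add, huu']
        abel
      · apply Submodule.smul_mem
        rw [hmemm, map_sub, huu']
        abel
  refine ⟨Wp, ?_, ?_⟩
  · have := Submodule.finrank_add_eq_of_isCompl hcompl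
    omega
  · intro T hTI hTJ v hv
    rw [hmemp] at hv ⊢
    have hTu : T * u = u * T := by
      rw [hu]
      simp only [mul_add, add_mul, mul_smul_comm, smul_mul_assoc, hTI, hTJ]
    have := congrArg (fun f : Module.End (ZMod p) V => f v) hTu
    simp only [Module.End.mul_apply] at this
    rw [← this, hv]

end Cfsg.Agent.Lib.helper6.NF688B
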