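import Mathlib
import Cfsg.Agent.Lib.helper6.NF688C

set_option autoImplicit false

namespace Cfsg.Agent.Lib.helper6.NF3361B

open Cfsg.Agent.Lib.helper6.RegLin Cfsg.Agent.Lib.helper6.NF688C
open scoped IsMulCommutative

theorem exists_ringEquiv_galois {R : Type*} [CommRing R] [IsDomain R] [Finite R] (p n : ℕ)
    [Fact p.Prime] (hn : n ≠ 0) (hcard : Nat.card R = p ^ n) :
    Nonempty (R ≃+* GaloisField p n) := by
  classical
  haveI := Fintype.ofFinite R
  haveI := Fintype.ofFinite (GaloisField p n)
  letI : Field R := Fintype.fieldOfDomain R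
  refine ⟨FiniteField.ringEquivOfCardEq ?_⟩
  rw [← Nat.card_eq_fintype_card, ← Nat.card_eq_fintype_card, hcard, GaloisField.card p n hn]

variable {p : ℕ} [Fact p.Prime] {V : Type*} [AddCommGroup V] [Module (ZMod p) V]
  {H : Subgroup (V ≃ₗ[ZMod p] V)}

theorem Lmap_one : Lmap (1 : H) = 1 := by
  ext v
  simp [Lmap_apply]

theorem Lmap_inv_mul (h : H) : Lmap h⁻¹ * Lmap h = 1 := by
  rw [← Lmap_mul, inv_mul_cancel, Lmap_one]

theorem Lmap_mul_inv (h : H) : Lmap h * Lmap h⁻¹ = 1 := by
  rw [← Lmap_mul, mul_inv_cancel, Lmap_one]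

instance finite_end [Finite V] : Finite (Module.End (ZMod p) V) :=
  Finite.of_injective (fun f => (f : V → V)) DFunLike.coe_injective

theorem semilinear_of_irred [Finite V]
    (A : Subgroup H) (hAn : A.Normal) (hAc : ∀ a ∈ A, ∀ b ∈ A, a * b = b * a)
    (hirr : ∀ W : Submodule (ZMod p) V, Inv A W → W = ⊥ ∨ W = ⊤) (v₀ : V) (hv₀ : v₀ ≠ 0) :
    ∃ (F : Type) (_ : Field F) (_ : Fintype F) (e : V ≃+ F),
      ∀ h : H, ∃ (a : F) (σ : F ≃+* F), ∀ v : V, e ((h : V ≃ₗ[ZMod p] V) v) = a * σ (e v) := by
  classical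
  haveI : Module.Finite (ZMod p) V := Module.Finite.of_finite
  set gen : Set (Module.End (ZMod p) V) := Set.range (fun a : A => Lmap (a : H)) with hgen
  have hcomm : ∀ x ∈ gen, ∀ y ∈ gen, x * y = y * x := by
    rintro _ ⟨a, rfl⟩ _ ⟨b, rfl⟩
    simp only
    rw [← Lmap_mul, ← Lmap_mul, hAc a a.2 b b.2]
  let R := Algebra.adjoin (ZMod p) gen
  haveI := Algebra.isMulCommutative_adjoin (ZMod p) hcomm
  have hgenR : ∀ a : A, Lmap (a : H) ∈ R := fun a => Algebra.subset_adjoin ⟨a, rfl⟩
  have hinjective : ∀ r : R, r ≠ 0 → Function.Injective (r : Module.End (ZMod p) V) := by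
    intro r hr
    let K : Submodule (ZMod p) V := LinearMap.ker (r : Module.End (ZMod p) V)
    have hKinv : Inv A K := by
      intro a ha v hv
      rw [LinearMap.mem_ker] at hv ⊢
      have hc : (r : Module.End (ZMod p) V) * Lmap a = Lmap a * (r : Module.End (ZMod p) V) :=
        congrArg Subtype.val (mul_comm r ⟨Lmap a, hgenR ⟨a, ha⟩⟩)
      have := congrArg (fun f => f v) hc
      simp only [Module.End.mul_apply, Lmap_apply] at this
      rw [this, hv, map_zero]
    rcases hirr K hKinv with hK | hK
    · exact LinearMap.ker_eq_bot.mp hK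
    · exfalso
      apply hr
      apply Subtype.ext
      exact LinearMap.ker_eq_top.mp hK
  haveI : Nontrivial R := by
    refine ⟨⟨1, 0, ?_⟩⟩
    intro h
    have := congrArg (fun r : R => (r : Module.End (ZMod p) V) v₀) h
    simp at this
    exact hv₀ this
  haveI : NoZeroDivisors R := by
    refine ⟨?_⟩
    intro r s hrs
    by_contra hcon
    push Not at hcon
    obtain ⟨hr, hs⟩ := hcon
    apply hs
    apply Subtype.ext
    apply LinearMap.ext
    intro w
    apply hinjective r hr
    have := congrArg (fun r : R => (r : Module.End (ZMod p) V) w) hrs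
    simpa using this
  haveI : IsDomain R := NoZeroDivisors.to_isDomain R
  haveI : Finite R := inferInstance
  -- evaluation at v₀
  let evL : R →ₗ[ZMod p] V :=
    { toFun := fun r => (r : Module.End (ZMod p) V) v₀
      map_add' := by intro r s; simp
      map_smul' := by intro c r; simp }
  have hev_inj : Function.Injective evL := by
    intro r s hrs
    by_contra hne
    have h1 : r - s ≠ 0 := sub_ne_zero.mpr hne
    have h2 := hinjective (r - s) h1
    have h3 : ((r - s : R) : Module.End (ZMod p) V) v₀ = 0 := by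
      have : evL r - evL s = 0 := sub_eq_zero.mpr hrs
      simpa [evL] using this
    have := h2 (h3.trans (map_zero _).symm)
    exact hv₀ this
  have hev_surj : Function.Surjective evL := by
    rw [← LinearMap.range_eq_top]
    have hinv : Inv A (LinearMap.range evL) := by
      rintro a ha _ ⟨r, rfl⟩
      refine ⟨⟨Lmap a, hgenR ⟨a, ha⟩⟩ * r, ?_⟩
      simp [evL, Lmap_apply]
    rcases hirr _ hinv with h | h
    · exfalso
      have : v₀ ∈ LinearMap.range evL := ⟨1, by simp [evL]⟩
      rw [h, Submodule.mem_bot] at this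
      exact hv₀ this
    · exact h
  let evE : R ≃+ V := AddEquiv.ofBijective evL.toAddMonoidHom ⟨hev_inj, hev_surj⟩
  have hevE : ∀ r : R, evE r = (r : Module.End (ZMod p) V) v₀ := fun r => rfl
  -- cardinality
  set n := Module.finrank (ZMod p) V with hn
  have hn0 : n ≠ 0 := by
    intro h0
    have := Module.finrank_zero_iff.mp h0
    exact hv₀ (Subsingleton.elim _ _)
  have hcardR : Nat.card R = p ^ n := by
    rw [Nat.card_congr evE.toEquiv, Module.natCard_eq_pow_finrank (K := ZMod p), Nat.card_zmod]
  obtain ⟨ψ⟩ := exists_ringEquiv_galois p n hn0 hcardR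
  haveI : Fintype (GaloisField p n) := Fintype.ofFinite _
  -- conjugation
  have hconj : ∀ (h : H) (r : Module.End (ZMod p) V), r ∈ R → Lmap h * r * Lmap h⁻¹ ∈ R := by
    intro h r hr
    induction hr using Algebra.adjoin_induction with
    | mem x hx =>
      obtain ⟨a, rfl⟩ := hx
      have : h * a * h⁻¹ ∈ A := hAn.conj_mem a a.2 h
      simp only
      rw [← Lmap_mul, ← Lmap_mul]
      exact hgenR ⟨_, this⟩
    | algebraMap c =>
      have : Lmap h * algebraMap (ZMod p) (Module.End (ZMod p) V) c * Lmap h⁻¹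
          = algebraMap (ZMod p) (Module.End (ZMod p) V) c := by
        rw [← Algebra.commutes, mul_assoc, Lmap_mul_inv, mul_one]
      rw [this]
      exact Subalgebra.algebraMap_mem _ _
    | add x y hx hy ihx ihy =>
      rw [mul_add, add_mul]
      exact add_mem ihx ihy
    | mul x y hx hy ihx ihy =>
      have : Lmap h * (x * y) * Lmap h⁻¹ = (Lmap h * x * Lmap h⁻¹) * (Lmap h * y * Lmap h⁻¹) := by
        have h1 := Lmap_inv_mul h
        calc Lmap h * (x * y) * Lmap h⁻¹ = Lmap h * x * 1 * y * Lmap h⁻¹ := by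
              simp only [mul_one, mul_assoc]
          _ = (Lmap h * x * Lmap h⁻¹) * (Lmap h * y * Lmap h⁻¹) := by
              rw [← h1]; simp only [mul_assoc]
      rw [this]
      exact mul_mem ihx ihy
  let cj : H → R →+* R := fun h =>
    { toFun := fun r => ⟨Lmap h * (r : Module.End (ZMod p) V) * Lmap h⁻¹, hconj h _ r.2⟩
      map_one' := by
        apply Subtype.ext
        simp [Lmap_mul_inv]
      map_mul' := by
        intro r s
        apply Subtype.ext
        have h1 := Lmap_inv_mul h
        simp only [Subalgebra.coe_mul]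
        calc Lmap h * ((r : Module.End (ZMod p) V) * s) * Lmap h⁻¹
            = Lmap h * r * 1 * s * Lmap h⁻¹ := by simp only [mul_one, mul_assoc]
          _ = _ := by rw [← h1]; simp only [mul_assoc]
      map_zero' := by
        apply Subtype.ext
        simp
      map_add' := by
        intro r s
        apply Subtype.ext
        simp [mul_add, add_mul] }
  have hcj : ∀ (h : H) (r : R), ((cj h r : R) : Module.End (ZMod p) V)
      = Lmap h * (r : Module.End (ZMod p) V) * Lmap h⁻¹ := fun h r => rfl
  refine ⟨GaloisField p n, inferInstance, inferInstance, evE.symm.trans ψ.toAddEquiv, ?_⟩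
  intro h
  obtain ⟨s, hs⟩ := hev_surj ((h : V ≃ₗ[ZMod p] V) v₀)
  have hs' : (s : Module.End (ZMod p) V) v₀ = (h : V ≃ₗ[ZMod p] V) v₀ := hs
  let τ : GaloisField p n →+* GaloisField p n :=
    (ψ : R →+* GaloisField p n).comp ((cj h).comp (ψ.symm : GaloisField p n →+* R))
  have hτinj : Function.Injective τ := RingHom.injective τ
  have hτbij : Function.Bijective τ := ⟨hτinj, Finite.injective_iff_surjective.mp hτinj⟩
  refine ⟨ψ s, RingEquiv.ofBijective τ hτbij, ?_⟩
  intro v
  obtain ⟨r, rfl⟩ := evE.surjective v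
  have h1 : (h : V ≃ₗ[ZMod p] V) (evE r) = evE (cj h r * s) := by
    rw [hevE, hevE, Subalgebra.coe_mul, hcj, Module.End.mul_apply, hs']
    simp only [Module.End.mul_apply, Lmap_apply]
    congr 1
    have := congrArg (fun f => f v₀) (Lmap_inv_mul h)
    simp only [Module.End.mul_apply, Lmap_apply, Module.End.one_apply] at this
    rw [this]
  rw [h1]
  simp only [AddEquiv.trans_apply, AddEquiv.symm_apply_apply, RingEquiv.toAddEquiv_eq_coe,
    RingEquiv.coe_toAddEquiv, map_mul, RingEquiv.coe_ofBijective]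
  rw [mul_comm]
  congr 1
  simp [τ]

end Cfsg.Agent.Lib.helper6.NF3361B
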