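import Mathlib
import Cfsg.Agent.Lib.helper6.NF688C

set_option autoImplicit false

namespace Cfsg.Agent.Lib.helper6.NF3361C

open Cfsg.Agent.Lib.helper6.RegLin Cfsg.Agent.Lib.helper6.RegLinC
open Cfsg.Agent.Lib.helper6.NF688C
open QuaternionGroup

theorem ker_conjNormal {G : Type*} [Group G] (N : Subgroup G) [N.Normal] :
    (MulAut.conjNormal : G →* MulAut N).ker = Subgroup.centralizer (N : Set G) := by
  ext g
  rw [MonoidHom.mem_ker, Subgroup.mem_centralizer_iff]
  constructor
  · intro h n hn
    have h1 := congrArg (fun f : MulAut N => ((f ⟨n, hn⟩ : N) : G)) h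
    simp only [MulAut.conjNormal_apply, MulAut.one_apply] at h1
    calc n * g = (g * n * g⁻¹) * g := by rw [h1]
      _ = g * n := by group
  · intro h
    apply MulEquiv.ext
    intro n
    apply Subtype.ext
    rw [MulAut.conjNormal_apply, MulAut.one_apply]
    have := h n n.2
    calc g * n * g⁻¹ = (n * g) * g⁻¹ := by rw [this]
      _ = n := by group

variable {p : ℕ} [Fact p.Prime] {V : Type*} [AddCommGroup V] [Module (ZMod p) V]
  {H : Subgroup (V ≃ₗ[ZMod p] V)}

theorem struct688 [Finite V]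
    (hreg : ∀ v w : V, v ≠ 0 → w ≠ 0 → ∃! h : H, (h : V ≃ₗ[ZMod p] V) v = w)
    (hI : ∀ A : Subgroup H, A.Normal → IsCyclic A → ∃ W : Submodule (ZMod p) V, W ≠ ⊥ ∧ W ≠ ⊤ ∧
      ∀ a ∈ A, ∀ v ∈ W, ((a : H) : V ≃ₗ[ZMod p] V) v ∈ W)
    (hsolv : Group.IsSolvable H) :
    ∃ (N : Subgroup H) (P : ℕ), N.Normal ∧ Nonempty (N ≃* QuaternionGroup 2) ∧
      Nat.card V = P * P ∧ (P = 5 ∨ P = 7 ∨ P = 11 ∨ P = 23) ∧
      Nat.card H = P * P - 1 ∧
      Nat.card (Subgroup.centralizer (N : Set H)) ∣ P - 1 := by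
  classical
  haveI : Module.Finite (ZMod p) V := Module.Finite.of_finite
  have hpp : p.Prime := Fact.out
  have htop : (⊤ : Submodule (ZMod p) V) ≠ ⊥ := by
    obtain ⟨W, hW, -, -⟩ := hI ⊥ inferInstance inferInstance
    intro h
    apply hW
    rw [eq_bot_iff, ← h]
    exact le_top
  obtain ⟨v0, hv0⟩ : ∃ v : V, v ≠ 0 := by
    by_contra h
    push Not at h
    apply htop
    rw [eq_bot_iff]
    intro v _
    rw [h v]; exact Submodule.zero_mem _
  obtain ⟨A, hAn, hAc, hAmax⟩ := NF688A.exists_max_abelian (H := H)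
  obtain ⟨-, hCna⟩ := main685 hreg hI A hAn hAc hAmax
  have hCn : (Subgroup.centralizer (A : Set H)).Normal := by
    haveI := hAn
    exact Subgroup.normal_centralizer
  obtain ⟨N, hNn, hNle, hNna, hNmin⟩ := NF688A.exists_min_nonabelian _ hCn hCna
  obtain ⟨e⟩ := NF688A.quat_of_min hreg htop hsolv A hAn hAc hAmax N hNn hNle hNna hNmin
  -- generators
  set i : N := e.symm (a 1) with hi
  set j : N := e.symm (xa 0) with hj
  set z : N := e.symm (a 2) with hz
  have hii : i * i = z := by rw [hi, hz, ← map_mul, q8_rel1]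
  have hjj : j * j = z := by rw [hj, hz, ← map_mul, q8_rel2]
  have hzz : z * z = 1 := by rw [hz, ← map_mul, q8_rel3, map_one]
  have hz1 : z ≠ 1 := by
    rw [hz]
    intro h
    apply q8_rel4
    have := congrArg e h
    simpa using this
  have hij : i * j = z * (j * i) := by
    rw [hi, hj, hz, ← map_mul, ← map_mul, ← map_mul, q8_rel5]
  have hZ : Lmap (z : H) = -1 := by
    apply invol_neg hreg
    · exact_mod_cast congrArg Subtype.val hzz
    · intro h
      apply hz1
      exact Subtype.ext h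
  set I : Module.End (ZMod p) V := Lmap (i : H) with hI'
  set J : Module.End (ZMod p) V := Lmap (j : H) with hJ'
  have hII : I * I = -1 := by
    rw [hI', ← Lmap_mul, ← hZ]
    congr 1
    exact_mod_cast congrArg Subtype.val hii
  have hJJ : J * J = -1 := by
    rw [hJ', ← Lmap_mul, ← hZ]
    congr 1
    exact_mod_cast congrArg Subtype.val hjj
  have hIJ : I * J = -(J * I) := by
    rw [hI', hJ', ← Lmap_mul, ← Lmap_mul]
    have : (i : H) * (j : H) = (z : H) * ((j : H) * (i : H)) := by
      exact_mod_cast congrArg Subtype.val hij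
    rw [this, Lmap_mul, hZ]
    simp
  -- p ≠ 2
  have hp2 : p ≠ 2 := by
    intro h2
    have h1 : Lmap (z : H) v0 = -v0 := by rw [hZ]; simp
    have h3 : -v0 = v0 := by
      have : (2 : ZMod p) = 0 := by
        have : ((2 : ℕ) : ZMod p) = 0 := by rw [ZMod.natCast_eq_zero_iff, h2]
        exact_mod_cast this
      have h4 : (2 : ZMod p) • v0 = 0 := by rw [this, zero_smul]
      rw [two_smul] at h4
      exact neg_eq_of_add_eq_zero_left h4
    rw [h3, Lmap_apply] at h1
    apply hz1
    apply Subtype.ext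
    exact eq_one_of_fix hreg hv0 h1
  obtain ⟨W, hdim, hWinv⟩ := NF688B.split hp2 I J hII hJJ hIJ
  set D : Subgroup H := Subgroup.centralizer (N : Set H) with hD
  have hDinv : Inv D W := by
    intro h hh v hv
    rw [hD, Subgroup.mem_centralizer_iff] at hh
    have h1 := hh (i : H) i.2
    have h2 := hh (j : H) j.2
    have := hWinv (Lmap h) (by rw [hI', ← Lmap_mul, ← Lmap_mul, h1])
      (by rw [hJ', ← Lmap_mul, ← Lmap_mul, h2]) v hv
    exact this
  have hDdvd := card_dvd hreg D W hDinv
  have hHcard := card_regular hreg hv0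
  -- index divides 24
  have hidx : ∃ r : ℕ, r ∣ 24 ∧ Nat.card D * r = Nat.card H := by
    haveI := hNn
    let φ : H →* MulAut N := MulAut.conjNormal
    have hker : φ.ker = D := ker_conjNormal N
    refine ⟨Nat.card φ.range, ?_, ?_⟩
    · have h1 : Nat.card (MulAut N) = 24 := by
        rw [Nat.card_congr (MulAut.congr e).toEquiv]
        exact Cfsg.Agent.S3742.card_aut
      rw [← h1]
      exact Subgroup.card_subgroup_dvd_card _
    · rw [← hker, ← Subgroup.index_ker]
      exact Subgroup.card_mul_index _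
  obtain ⟨r, hr24, hDr⟩ := hidx
  -- numerics
  set s := Module.finrank (ZMod p) W with hs
  rw [hdim] at hHcard
  have hs1 : 1 ≤ s := by
    by_contra h
    have hs0 : s = 0 := by omega
    have : Module.finrank (ZMod p) V = 0 := by rw [hdim, hs0]
    have h2 : (⊤ : Submodule (ZMod p) V) = ⊥ := by
      have := Module.finrank_zero_iff.mp this
      exact Subsingleton.elim _ _
    exact htop h2
  have hcardV : Nat.card V = p ^ (2 * s) := by
    rw [Module.natCard_eq_pow_finrank (K := ZMod p), Nat.card_zmod, hdim]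
  obtain ⟨P, hP⟩ : ∃ P, P = p ^ s := ⟨_, rfl⟩
  have hP3 : 3 ≤ P := by
    have : 3 ≤ p := by
      have := hpp.two_le
      omega
    calc 3 ≤ p := this
      _ = p ^ 1 := (pow_one p).symm
      _ ≤ p ^ s := Nat.pow_le_pow_right (by omega) hs1
      _ = P := hP.symm
  have hPP : p ^ (2 * s) = P * P := by rw [hP, ← pow_add]; congr 1; ring
  rw [hPP] at hHcard hcardV
  rw [← hP] at hDdvd
  -- P*P - 1 = d * r, d ∣ P - 1
  have hDdvd0 := hDdvd
  obtain ⟨e', he'⟩ := hDdvd
  have hfact : P * P - 1 = (P - 1) * (P + 1) := by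
    have : 1 ≤ P := by omega
    obtain ⟨Q, rfl⟩ : ∃ Q, P = Q + 1 := ⟨P - 1, by omega⟩
    simp only [Nat.add_sub_cancel]
    have : (Q + 1) * (Q + 1) = Q * (Q + 1 + 1) + 1 := by ring
    omega
  have hd0 : 0 < Nat.card D := Nat.card_pos
  have hkey : e' * (P + 1) = r := by
    have h1 : Nat.card D * r = Nat.card D * (e' * (P + 1)) := by
      rw [hDr, hHcard, hfact, he']; ring
    exact (Nat.eq_of_mul_eq_mul_left hd0 h1).symm
  have hP24 : P + 1 ∣ 24 := Dvd.dvd.trans (Dvd.intro_left e' hkey) hr24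
  have hPle : P + 1 ≤ 24 := Nat.le_of_dvd (by norm_num) hP24
  have hPodd : ¬ 2 ∣ P := by
    intro h
    rw [hP] at h
    have := (Nat.Prime.dvd_of_dvd_pow Nat.prime_two h)
    have := (Nat.prime_dvd_prime_iff_eq Nat.prime_two hpp).mp this
    exact hp2 this.symm
  have hPcases : P = 3 ∨ P = 5 ∨ P = 7 ∨ P = 11 ∨ P = 23 := by
    exact num_cases P hP3 hPodd hP24
  -- exclude 3
  have hP3' : P ≠ 3 := by
    intro h3
    -- p = 3, s = 1
    have hp3 : p = 3 := by
      have h1 : p ∣ 3 := by
        rw [← h3, hP]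
        exact dvd_pow_self p (by omega)
      exact (Nat.prime_dvd_prime_iff_eq hpp Nat.prime_three).mp h1
    have hs1' : s = 1 := by
      rw [hp3] at hP
      rw [h3] at hP
      rcases s with _ | _ | s
      · omega
      · rfl
      · exfalso
        have : 3 ^ (s + 1 + 1) = 9 * 3 ^ s := by ring
        have := Nat.one_le_pow s 3 (by norm_num)
        omega
    have hH8 : Nat.card H = 8 := by rw [hHcard, h3]
    -- the cyclic subgroup generated by i
    have hord : orderOf (i : H) = 4 := by
      rw [Subgroup.orderOf_coe, hi, MulEquiv.orderOf_eq]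
      exact QuaternionGroup.orderOf_a_one (n := 2)
    set Z4 : Subgroup H := Subgroup.zpowers (i : H) with hZ4
    have hZ4card : Nat.card Z4 = 4 := by rw [hZ4, Nat.card_zpowers, hord]
    have hZ4n : Z4.Normal := by
      apply Subgroup.normal_of_index_eq_two
      have := Subgroup.card_mul_index Z4
      rw [hZ4card, hH8] at this
      omega
    have hZ4c : IsCyclic Z4 := by rw [hZ4]; infer_instance
    obtain ⟨W', hW'b, hW't, hW'inv⟩ := hI Z4 hZ4n hZ4c
    have hdvd := card_dvd hreg Z4 W' hW'inv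
    rw [hZ4card] at hdvd
    have h1 : 0 < Module.finrank (ZMod p) W' := by
      rw [Module.finrank_pos_iff]
      exact Submodule.nontrivial_iff_ne_bot.mpr hW'b
    have h2 : Module.finrank (ZMod p) W' < Module.finrank (ZMod p) V :=
      Submodule.finrank_lt hW't
    rw [hdim, hs1'] at h2
    have h4 : Module.finrank (ZMod p) W' = 1 := by omega
    rw [h4, pow_one, hp3] at hdvd
    norm_num at hdvd
  refine ⟨N, P, hNn, ⟨e⟩, hcardV, ?_, hHcard, hDdvd0⟩
  rcases hPcases with h | h | h | h | h
  · exact absurd h hP3'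
  · left; exact h
  · right; left; exact h
  · right; right; left; exact h
  · right; right; right; exact h

end Cfsg.Agent.Lib.helper6.NF3361C
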