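import Mathlib
import Cfsg.Agent.Lib.helper6.NF3361A
import Cfsg.Agent.Lib.helper6.NF3361C
import Cfsg.Agent.Lib.Helper1.SL23Recog

set_option autoImplicit false

namespace Cfsg.Agent.Lib.helper6.NF3361D

open Cfsg.Agent.Lib.helper6.NF3361A Cfsg.Agent.Lib.helper6.NF3361C
open Cfsg.Agent.Lib.Helper1
open QuaternionGroup

set_option maxRecDepth 100000 in
theorem q8_triple : ∀ x y w : QuaternionGroup 2, x * x = a 2 → y * y = a 2 → w * w = a 2 →
    y ≠ x → y ≠ x⁻¹ → w ≠ x → w ≠ x⁻¹ → w ≠ y → w ≠ y⁻¹ →
    (x ^ 4 = 1 ∧ y ^ 2 = x ^ 2 ∧ y * x * y⁻¹ = x ^ 3 ∧ x ^ 2 ≠ 1 ∧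
      (x⁻¹) ^ 4 = 1 ∧ (y⁻¹) ^ 2 = (x⁻¹) ^ 2 ∧ y⁻¹ * x⁻¹ * y⁻¹⁻¹ = (x⁻¹) ^ 3 ∧ (x⁻¹) ^ 2 ≠ 1 ∧
      (w = x * y ∨ w⁻¹ = x⁻¹ * y⁻¹)) := by
  decide

theorem q8_words : ∀ x : QuaternionGroup 2, ∃ m k : Fin 4,
    x = a 1 ^ (m : ℕ) * xa 0 ^ (k : ℕ) := by
  decide

/-- groups of order 6 or 8 have a subgroup of index 2 -/
theorem index_two_of_card_six_or_eight {G Q : Type*} [Group G] [Group Q] [Finite Q] (f : G →* Q)
    (hf : Function.Surjective f) (hQ : Nat.card Q = 6 ∨ Nat.card Q = 8) :
    ∃ M : Subgroup G, M.Normal ∧ M.index = 2 := by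
  rcases hQ with h | h
  · haveI : Fact (Nat.Prime 3) := ⟨by norm_num⟩
    obtain ⟨K, hK⟩ := Sylow.exists_subgroup_card_pow_prime 3 (n := 1) (G := Q)
      (by rw [h]; norm_num)
    have h1 := K.card_mul_index
    rw [hK, h] at h1
    exact index_two_of_surj f hf K (by omega)
  · haveI : Fact (Nat.Prime 2) := ⟨by norm_num⟩
    obtain ⟨K, hK⟩ := Sylow.exists_subgroup_card_pow_prime 2 (n := 2) (G := Q)
      (by rw [h]; norm_num)
    have h1 := K.card_mul_index
    rw [hK, h] at h1
    exact index_two_of_surj f hf K (by omega)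

/-- if `G` induces the full automorphism group on a normal `Q₈`, it has an index-2 subgroup -/
theorem index_two_of_full {G : Type*} [Group G] (N : Subgroup G) [N.Normal]
    (e : N ≃* QuaternionGroup 2)
    (hsurj : Function.Surjective (MulAut.conjNormal : G →* MulAut N)) :
    ∃ M : Subgroup G, M.Normal ∧ M.index = 2 := by
  obtain ⟨ι0⟩ := Cfsg.Agent.S3742.result
  let ι : MulAut N ≃* Equiv.Perm (Fin 4) := (MulAut.congr e).trans ι0
  let f : G →* ℤˣ := Equiv.Perm.sign.comp (ι.toMonoidHom.comp MulAut.conjNormal)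
  apply index_two_of_hom_units f
  obtain ⟨h, hh⟩ := hsurj (ι.symm (Equiv.swap 0 1))
  refine ⟨h, ?_⟩
  show Equiv.Perm.sign (ι (MulAut.conjNormal h)) = -1
  rw [hh, MulEquiv.apply_symm_apply, Equiv.Perm.sign_swap]
  decide

theorem iso_closure {X : Type*} [Group X] (i j g : X) (h : QGens i j g) (hne : i ^ 2 ≠ 1) :
    Nonempty (Subgroup.closure ({i, j, g} : Set X) ≃* SL23) := by
  have hi : i ∈ Subgroup.closure ({i, j, g} : Set X) := Subgroup.subset_closure (by simp)
  have hj : j ∈ Subgroup.closure ({i, j, g} : Set X) := Subgroup.subset_closure (by simp)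
  have hg : g ∈ Subgroup.closure ({i, j, g} : Set X) := Subgroup.subset_closure (by simp)
  apply iso_SL23 (⟨i, hi⟩ : Subgroup.closure ({i, j, g} : Set X)) ⟨j, hj⟩ ⟨g, hg⟩
  · exact
      { i4 := Subtype.ext (by simpa using h.i4)
        j2 := Subtype.ext (by simpa using h.j2)
        ji := Subtype.ext (by simpa using h.ji)
        gi := Subtype.ext (by simpa using h.gi)
        gj := Subtype.ext (by simpa using h.gj)
        g3 := Subtype.ext (by simpa using h.g3) }
  · have := Subgroup.closure_closure_coe_preimage (k := ({i, j, g} : Set X))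
    rw [← this]
    congr 1
    ext x
    simp [Subtype.ext_iff]
  · intro h2
    apply hne
    have := congrArg Subtype.val h2
    simpa using this


theorem exists_SL23 {G : Type*} [Group G] [Finite G] (N : Subgroup G) [hNn : N.Normal]
    (e : N ≃* QuaternionGroup 2)
    (hz : ∀ h : G, h * ((e.symm (a 2) : N) : G) = ((e.symm (a 2) : N) : G) * h)
    (h3 : 3 ∣ Nat.card G) (h3D : ¬ 3 ∣ Nat.card (Subgroup.centralizer (N : Set G))) :
    ∃ (i j g : G), i ∈ N ∧ j ∈ N ∧ g ^ 3 = 1 ∧
      Nonempty (Subgroup.closure ({i, j, g} : Set G) ≃* SL23) := by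
  classical
  haveI : Fact (Nat.Prime 3) := ⟨by norm_num⟩
  obtain ⟨g, hg⟩ := exists_prime_orderOf_dvd_card' 3 h3
  have hg3 : g ^ 3 = 1 := by rw [← hg]; exact pow_orderOf_eq_one g
  have hgD : g ∉ Subgroup.centralizer (N : Set G) := by
    intro hmem
    apply h3D
    have := orderOf_dvd_natCard (⟨g, hmem⟩ : Subgroup.centralizer (N : Set G))
    rwa [Subgroup.orderOf_mk, hg] at this
  set z : N := e.symm (a 2) with hzdef
  -- find i
  have hex : ∃ i : N, i * i = z ∧ g * (i : G) * g⁻¹ ≠ (i : G) := by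
    by_contra hcon
    push Not at hcon
    have h1 := hcon (e.symm (a 1)) (by rw [hzdef, ← map_mul, NF688C.q8_rel1])
    have h2 := hcon (e.symm (xa 0)) (by rw [hzdef, ← map_mul, NF688C.q8_rel2])
    apply hgD
    rw [Subgroup.mem_centralizer_iff]
    intro n hn
    obtain ⟨m, k, hmk⟩ := q8_words (e ⟨n, hn⟩)
    have hn' : (⟨n, hn⟩ : N) = e.symm (a 1) ^ (m : ℕ) * e.symm (xa 0) ^ (k : ℕ) := by
      apply e.injective
      rw [hmk]; simp
    have hn'' : n = ((e.symm (a 1) : N) : G) ^ (m : ℕ) * ((e.symm (xa 0) : N) : G) ^ (k : ℕ) := by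
      have := congrArg Subtype.val hn'
      simpa using this
    have c1 : Commute g ((e.symm (a 1) : N) : G) := by
      show g * _ = _ * g
      calc g * ((e.symm (a 1) : N) : G) = (g * ((e.symm (a 1) : N) : G) * g⁻¹) * g := by group
        _ = _ := by rw [h1]
    have c2 : Commute g ((e.symm (xa 0) : N) : G) := by
      show g * _ = _ * g
      calc g * ((e.symm (xa 0) : N) : G) = (g * ((e.symm (xa 0) : N) : G) * g⁻¹) * g := by group
        _ = _ := by rw [h2]
    rw [hn'']
    exact ((c1.pow_right _).mul_right (c2.pow_right _)).symm.eq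
  obtain ⟨i, hii, hgi⟩ := hex
  let j : N := ⟨g * (i : G) * g⁻¹, hNn.conj_mem i i.2 g⟩
  let k : N := ⟨g * (j : G) * g⁻¹, hNn.conj_mem j j.2 g⟩
  have hjdef : (j : G) = g * (i : G) * g⁻¹ := rfl
  have hkdef : (k : G) = g * (j : G) * g⁻¹ := rfl
  have hzc : g * (z : G) * g⁻¹ = z := by rw [hz g]; group
  have hjj : j * j = z := by
    apply Subtype.ext
    show g * (i : G) * g⁻¹ * (g * (i : G) * g⁻¹) = z
    have : (i : G) * i = z := congrArg Subtype.val hii
    calc g * (i : G) * g⁻¹ * (g * (i : G) * g⁻¹) = g * ((i : G) * i) * g⁻¹ := by group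
      _ = z := by rw [this, hzc]
  have hkk : k * k = z := by
    apply Subtype.ext
    show g * (j : G) * g⁻¹ * (g * (j : G) * g⁻¹) = z
    have : (j : G) * j = z := congrArg Subtype.val hjj
    calc g * (j : G) * g⁻¹ * (g * (j : G) * g⁻¹) = g * ((j : G) * j) * g⁻¹ := by group
      _ = z := by rw [this, hzc]
  have hgk : g * (k : G) * g⁻¹ = i := by
    rw [hkdef, hjdef]
    calc g * (g * (g * (i : G) * g⁻¹) * g⁻¹) * g⁻¹ = g ^ 3 * i * (g ^ 3)⁻¹ := by
          simp only [pow_succ, pow_zero, one_mul, mul_inv_rev, mul_assoc]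
      _ = i := by rw [hg3]; group
  have hconjinv : ∀ x : G, g * x⁻¹ * g⁻¹ = (g * x * g⁻¹)⁻¹ := by intro x; group
  -- inequalities in G
  have n1 : (j : G) ≠ i := hgi
  have n3 : (k : G) ≠ i := by
    intro h
    rw [h] at hgk
    exact hgi hgk
  have n2 : (j : G) ≠ (i : G)⁻¹ := by
    intro h
    apply n3
    rw [hkdef, h, hconjinv, ← hjdef, h, inv_inv]
  have n4 : (k : G) ≠ (i : G)⁻¹ := by
    intro h
    rw [h, hconjinv, ← hjdef] at hgk
    apply n2
    rw [← hgk, inv_inv]
  have n5 : (k : G) ≠ j := by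
    intro h
    have : (i : G) = j := by rw [← hgk, h, ← hkdef, h]
    exact n1 this.symm
  have n6 : (k : G) ≠ (j : G)⁻¹ := by
    intro h
    have : (i : G) = j := by rw [← hgk, h, hconjinv, ← hkdef, h, inv_inv]
    exact n1 this.symm
  have hez : e z = a 2 := by rw [hzdef]; simp
  have hx : e i * e i = a 2 := by rw [← map_mul, hii, hez]
  have hy : e j * e j = a 2 := by rw [← map_mul, hjj, hez]
  have hw : e k * e k = a 2 := by rw [← map_mul, hkk, hez]
  have tr : ∀ u v : N, e u = e v → (u : G) = v := fun u v h =>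
    congrArg Subtype.val (e.injective h)
  have tri : ∀ u v : N, e u = (e v)⁻¹ → (u : G) = (v : G)⁻¹ := fun u v h => by
    rw [← map_inv] at h
    have := congrArg Subtype.val (e.injective h)
    simpa using this
  obtain ⟨r1, r2, r3, r4, r5, r6, r7, r8, r9⟩ := q8_triple (e i) (e j) (e k) hx hy hw
    (fun h => n1 (tr _ _ h)) (fun h => n2 (tri _ _ h)) (fun h => n3 (tr _ _ h))
    (fun h => n4 (tri _ _ h)) (fun h => n5 (tr _ _ h)) (fun h => n6 (tri _ _ h))
  have pull : ∀ u v : N, e u = e v → (u : G) = (v : G) := tr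
  rcases r9 with r9 | r9
  · refine ⟨i, j, g, i.2, j.2, hg3, ?_⟩
    apply iso_closure
    · exact
        { i4 := by
            have : i ^ 4 = 1 := e.injective (by simpa using r1)
            exact_mod_cast congrArg Subtype.val this
          j2 := by
            have : j ^ 2 = i ^ 2 := e.injective (by simpa using r2)
            exact_mod_cast congrArg Subtype.val this
          ji := by
            have : j * i * j⁻¹ = i ^ 3 := e.injective (by simpa using r3)
            exact_mod_cast congrArg Subtype.val this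
          gi := rfl
          gj := by
            have : k = i * j := e.injective (by simpa using r9)
            rw [← hkdef, this]
            rfl
          g3 := hg3 }
    · intro h
      apply r4
      have : i ^ 2 = 1 := Subtype.ext (by simpa using h)
      rw [← map_pow, this, map_one]
  · refine ⟨(i : G)⁻¹, (j : G)⁻¹, g, N.inv_mem i.2, N.inv_mem j.2, hg3, ?_⟩
    apply iso_closure
    · exact
        { i4 := by
            have : i⁻¹ ^ 4 = 1 := e.injective (by simpa using r5)
            exact_mod_cast congrArg Subtype.val this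
          j2 := by
            have : j⁻¹ ^ 2 = i⁻¹ ^ 2 := e.injective (by simpa using r6)
            exact_mod_cast congrArg Subtype.val this
          ji := by
            have : j⁻¹ * i⁻¹ * j⁻¹⁻¹ = i⁻¹ ^ 3 := e.injective (by simpa using r7)
            exact_mod_cast congrArg Subtype.val this
          gi := by rw [hconjinv, ← hjdef]
          gj := by
            have : k⁻¹ = i⁻¹ * j⁻¹ := e.injective (by simpa using r9)
            rw [hconjinv, ← hkdef]
            exact_mod_cast congrArg Subtype.val this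
          g3 := hg3 }
    · intro h
      apply r8
      have : i⁻¹ ^ 2 = 1 := Subtype.ext (by simpa using h)
      rw [← map_inv, ← map_pow, this, map_one]


/-- a normal subgroup of order 10 contains a subgroup of order 5 that is normal in the whole
group -/
theorem exists_normal_five {G : Type*} [Group G] [Finite G] (D : Subgroup G) [hDn : D.Normal]
    (hD : Nat.card D = 10) : ∃ C : Subgroup G, C.Normal ∧ C ≤ D ∧ Nat.card C = 5 := by
  classical
  haveI : Fact (Nat.Prime 5) := ⟨by norm_num⟩
  obtain ⟨K, hK⟩ := Sylow.exists_subgroup_card_pow_prime 5 (n := 1) (G := D)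
    (by rw [hD]; norm_num)
  rw [pow_one] at hK
  have hidx : K.index = 2 := by
    have h1 := K.card_mul_index
    rw [hK, hD] at h1
    omega
  haveI hKn : K.Normal := Subgroup.normal_of_index_eq_two hidx
  have hchar : ∀ x : D, x ∈ K ↔ x ^ 5 = 1 := by
    intro x
    constructor
    · intro hx
      have := pow_card_eq_one' (G := K) (x := ⟨x, hx⟩)
      rw [hK] at this
      have h2 := congrArg Subtype.val this
      simpa using h2
    · intro hx
      have hq : Nat.card (D ⧸ K) = 2 := by rw [← Subgroup.index_eq_card]; exact hidx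
      have h1 : ((QuotientGroup.mk x : D ⧸ K)) ^ 2 = 1 := by
        have := pow_card_eq_one' (G := D ⧸ K) (x := QuotientGroup.mk x)
        rwa [hq] at this
      have h2 : ((QuotientGroup.mk x : D ⧸ K)) ^ 5 = 1 := by
        rw [← QuotientGroup.mk_pow, hx]; rfl
      have h3 : (QuotientGroup.mk x : D ⧸ K) = 1 := by
        have : (QuotientGroup.mk x : D ⧸ K) ^ 5 = ((QuotientGroup.mk x : D ⧸ K) ^ 2) ^ 2 *
            QuotientGroup.mk x := by rw [← pow_mul, ← pow_succ]
        rw [this, h1, one_pow, one_mul] at h2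
        exact h2
      exact (QuotientGroup.eq_one_iff x).mp h3
  refine ⟨K.map D.subtype, ?_, Subgroup.map_subtype_le K, ?_⟩
  · constructor
    rintro _ ⟨x, hx, rfl⟩ g
    have hmem : g * (x : G) * g⁻¹ ∈ D := hDn.conj_mem x x.2 g
    refine ⟨⟨_, hmem⟩, ?_, rfl⟩
    rw [SetLike.mem_coe, hchar]
    apply Subtype.ext
    have h5 : (x : G) ^ 5 = 1 := by
      have := (hchar x).mp hx
      have h2 := congrArg Subtype.val this
      simpa using h2
    show (g * (x : G) * g⁻¹) ^ 5 = 1
    rw [conj_pow, h5]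
    group
  · rw [Subgroup.card_map_of_injective D.subtype_injective, hK]


theorem iso_prod {G : Type*} [Group G] [Finite G] (N : Subgroup G) [hNn : N.Normal] (i j g : G)
    (hi : i ∈ N) (hj : j ∈ N) (hg3 : g ^ 3 = 1)
    (eK : Subgroup.closure ({i, j, g} : Set G) ≃* SL23)
    (hD : Nat.card (Subgroup.centralizer (N : Set G)) = 10) (hG : Nat.card G = 120) :
    Nonempty (G ≃* SL23 × Multiplicative (ZMod 5)) := by
  classical
  haveI : (Subgroup.centralizer (N : Set G)).Normal := Subgroup.normal_centralizer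
  obtain ⟨C, hCn, hCD, hC5⟩ := exists_normal_five _ hD
  haveI := hCn
  haveI : Fact (Nat.Prime 5) := ⟨by norm_num⟩
  haveI : IsCyclic C := isCyclic_of_prime_card hC5
  -- g centralizes C
  have hgC : ∀ c ∈ C, g * c * g⁻¹ = c := by
    let φ : G →* MulAut C := MulAut.conjNormal
    have h1 : (φ g) ^ 3 = 1 := by rw [← map_pow, hg3, map_one]
    have h2 : (φ g) ^ 4 = 1 := by
      have := pow_card_eq_one' (G := MulAut C) (x := φ g)
      rwa [IsCyclic.card_mulAut, hC5, Nat.totient_prime (by norm_num)] at this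
    have h3 : φ g = 1 := by
      have : (φ g) ^ 4 = (φ g) ^ 3 * φ g := by rw [← pow_succ]
      rw [this, h1, one_mul] at h2
      exact h2
    intro c hc
    have := congrArg (fun f : MulAut C => ((f ⟨c, hc⟩ : C) : G)) h3
    simpa [φ, MulAut.conjNormal_apply] using this
  set K := Subgroup.closure ({i, j, g} : Set G) with hK
  have hKC : ∀ k ∈ K, ∀ c ∈ C, k * c = c * k := by
    intro k hk c hc
    have hcD := Subgroup.mem_centralizer_iff.mp (hCD hc)
    have hle : K ≤ Subgroup.centralizer ({c} : Set G) := by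
      rw [hK, Subgroup.closure_le]
      rintro x (rfl | rfl | rfl)
      · rw [SetLike.mem_coe, Subgroup.mem_centralizer_iff]
        intro y hy
        rw [Set.mem_singleton_iff] at hy
        subst hy
        exact (hcD x hi).symm
      · rw [SetLike.mem_coe, Subgroup.mem_centralizer_iff]
        intro y hy
        rw [Set.mem_singleton_iff] at hy
        subst hy
        exact (hcD x hj).symm
      · rw [SetLike.mem_coe, Subgroup.mem_centralizer_iff]
        intro y hy
        rw [Set.mem_singleton_iff] at hy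
        subst hy
        have := hgC y hc
        calc y * x = (x * y * x⁻¹) * x := by rw [this]
          _ = x * y := by group
    exact (Subgroup.mem_centralizer_iff.mp (hle hk) c rfl).symm
  let μ : K × C →* G := K.subtype.noncommCoprod C.subtype (fun k c => hKC k k.2 c c.2)
  have hKcard : Nat.card K = 24 := by rw [Nat.card_congr eK.toEquiv, card_SL23]
  have hdisj : Disjoint K C := by
    apply Subgroup.disjoint_of_coprime_natCard
    rw [hKcard, hC5]
    norm_num
  have hinj : Function.Injective μ := Subgroup.mul_injective_of_disjoint hdisj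
  have hbij : Function.Bijective μ := by
    apply hinj.bijective_of_nat_card_le
    rw [Nat.card_prod, hKcard, hC5, hG]
  have eC : C ≃* Multiplicative (ZMod 5) := mulEquivOfPrimeCardEq (p := 5) hC5 (by simp)
  exact ⟨(MulEquiv.ofBijective μ hbij).symm.trans (MulEquiv.prodCongr eK eC)⟩

end Cfsg.Agent.Lib.helper6.NF3361D


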