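import Mathlib
import Cfsg.Agent.Lib.helper6.NF3361D

set_option autoImplicit false

namespace Cfsg.Agent.Lib.helper6.NF3361E

open Cfsg.Agent.Lib.helper6.RegLin Cfsg.Agent.Lib.helper6.RegLinC
open Cfsg.Agent.Lib.helper6.NF688C
open Cfsg.Agent.Lib.helper6.NF3361A Cfsg.Agent.Lib.helper6.NF3361C Cfsg.Agent.Lib.helper6.NF3361D
open Cfsg.Agent.Lib.Helper1
open QuaternionGroup

theorem num_cases2 (P d r : ℕ) (hP : P = 5 ∨ P = 7 ∨ P = 11 ∨ P = 23) (hd : d ∣ P - 1)
    (h2 : 2 ∣ d) (hr : r ∣ 24) (hdr : d * r = P * P - 1) :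
    r = 6 ∨ r = 8 ∨ r = 24 ∨ (P = 5 ∧ d = 2 ∧ r = 12) ∨ (P = 11 ∧ d = 10 ∧ r = 12) := by
  have hr24 : r ≤ 24 := Nat.le_of_dvd (by norm_num) hr
  rcases hP with rfl | rfl | rfl | rfl
  · have hd4 : d ≤ 4 := Nat.le_of_dvd (by norm_num) hd
    interval_cases d <;> omega
  · have hd4 : d ≤ 6 := Nat.le_of_dvd (by norm_num) hd
    interval_cases d <;> omega
  · have hd4 : d ≤ 10 := Nat.le_of_dvd (by norm_num) hd
    interval_cases d <;> omega
  · have hd4 : d ≤ 22 := Nat.le_of_dvd (by norm_num) hd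
    interval_cases d <;> omega

variable {p : ℕ} [Fact p.Prime] {V : Type*} [AddCommGroup V] [Module (ZMod p) V]
  {H : Subgroup (V ≃ₗ[ZMod p] V)}

theorem caseII_B [Finite V]
    (hreg : ∀ v w : V, v ≠ 0 → w ≠ 0 → ∃! h : H, (h : V ≃ₗ[ZMod p] V) v = w)
    (N : Subgroup H) (hNn : N.Normal) (e : N ≃* QuaternionGroup 2) (P : ℕ)
    (hP : P = 5 ∨ P = 7 ∨ P = 11 ∨ P = 23) (hH : Nat.card H = P * P - 1)
    (hD : Nat.card (Subgroup.centralizer (N : Set H)) ∣ P - 1) :
    (∃ M : Subgroup H, M.Normal ∧ M.index = 2) ∨ (P = 5 ∧ Nonempty (H ≃* SL23)) ∨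
      (P = 11 ∧ Nonempty (H ≃* SL23 × Multiplicative (ZMod 5))) := by
  classical
  haveI := hNn
  set z : N := e.symm (a 2) with hzdef
  have hzz : z * z = 1 := by rw [hzdef, ← map_mul, q8_rel3, map_one]
  have hz1 : z ≠ 1 := by
    rw [hzdef]
    intro h
    apply q8_rel4
    have := congrArg e h
    simpa using this
  have hZ : Lmap (z : H) = -1 := by
    apply invol_neg hreg
    · exact_mod_cast congrArg Subtype.val hzz
    · intro h
      apply hz1
      exact Subtype.ext h
  have hzc : ∀ h : H, h * (z : H) = (z : H) * h := by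
    intro h
    have h1 : Lmap (h * (z : H)) = Lmap ((z : H) * h) := by
      rw [Lmap_mul, Lmap_mul, hZ]
      simp
    apply Subtype.ext
    apply LinearEquiv.toLinearMap_injective
    exact h1
  set D := Subgroup.centralizer (N : Set H) with hDdef
  have hzD : (z : H) ∈ D := by
    rw [hDdef, Subgroup.mem_centralizer_iff]
    intro n _
    exact hzc n
  have h2D : 2 ∣ Nat.card D := by
    have hord : orderOf (⟨(z : H), hzD⟩ : D) = 2 := by
      have hzzH : (z : H) * (z : H) = 1 := by exact_mod_cast congrArg Subtype.val hzz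
      apply orderOf_eq_prime
      · apply Subtype.ext
        rw [pow_two]
        exact hzzH
      · intro h
        apply hz1
        apply Subtype.ext
        have h' : (z : H) = 1 := congrArg Subtype.val h
        exact h'
    rw [← hord]
    exact orderOf_dvd_natCard _
  let φ : H →* MulAut N := MulAut.conjNormal
  have hker : φ.ker = D := ker_conjNormal N
  have hAut : Nat.card (MulAut N) = 24 := by
    rw [Nat.card_congr (MulAut.congr e).toEquiv]
    exact Cfsg.Agent.S3742.card_aut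
  set r := Nat.card φ.range with hr
  have hr24 : r ∣ 24 := by
    rw [← hAut]
    exact Subgroup.card_subgroup_dvd_card _
  have hDr : Nat.card D * r = Nat.card H := by
    rw [← hker, hr, ← Subgroup.index_ker]
    exact Subgroup.card_mul_index _
  rw [hH] at hDr
  rcases num_cases2 P (Nat.card D) r hP hD h2D hr24 hDr with
    h | h | h | ⟨hP5, hd, hr12⟩ | ⟨hP11, hd, hr12⟩
  · left
    exact index_two_of_card_six_or_eight φ.rangeRestrict φ.rangeRestrict_surjective (Or.inl h)
  · left
    exact index_two_of_card_six_or_eight φ.rangeRestrict φ.rangeRestrict_surjective (Or.inr h)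
  · left
    apply index_two_of_full N e
    rw [← MonoidHom.range_eq_top]
    apply Subgroup.eq_top_of_card_eq
    rw [← hr, h, hAut]
  · right; left
    refine ⟨hP5, ?_⟩
    have hH24 : Nat.card H = 24 := by rw [hH, hP5]
    obtain ⟨i, j, g, hi, hj, hg3, ⟨eK⟩⟩ := exists_SL23 N e hzc (by rw [hH24]; norm_num)
      (by rw [← hDdef, hd]; norm_num)
    have htop : Subgroup.closure ({i, j, g} : Set H) = ⊤ := by
      apply Subgroup.eq_top_of_card_eq
      rw [Nat.card_congr eK.toEquiv, card_SL23, hH24]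
    exact ⟨(Subgroup.topEquiv.symm.trans (MulEquiv.subgroupCongr htop.symm)).trans eK⟩
  · right; right
    refine ⟨hP11, ?_⟩
    have hH120 : Nat.card H = 120 := by rw [hH, hP11]
    obtain ⟨i, j, g, hi, hj, hg3, ⟨eK⟩⟩ := exists_SL23 N e hzc (by rw [hH120]; norm_num)
      (by rw [← hDdef, hd]; norm_num)
    exact iso_prod N i j g hi hj hg3 eK (by rw [← hDdef, hd]) hH120

end Cfsg.Agent.Lib.helper6.NF3361E
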