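import Mathlib
import Cfsg.Prelude.Def_Perm

set_option autoImplicit false

namespace Cfsg.Agent.Lib.helper6

variable {F : Type*} [Cfsg.NearField F]

theorem nf_right_distrib (a b c : F) : (a + b) * c = a * c + b * c :=
  Cfsg.NearField.right_distrib a b c

theorem nf_mul_zero (a : F) : a * 0 = 0 := Cfsg.NearField.mul_zero a

theorem nf_zero_ne_one : (0 : F) ≠ 1 := Cfsg.NearField.zero_ne_one

theorem nf_exists_inv (a : F) (ha : a ≠ 0) : ∃ b : F, a * b = 1 ∧ b * a = 1 :=
  Cfsg.NearField.exists_inv a ha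

theorem nf_zero_mul (c : F) : (0 : F) * c = 0 := by
  have h := nf_right_distrib (0 : F) 0 c
  rw [add_zero] at h
  have h2 : (0 : F) * c + 0 = 0 * c + 0 * c := by rw [add_zero]; exact h
  exact (add_left_cancel h2).symm

theorem nf_neg_mul (a c : F) : (-a) * c = -(a * c) := by
  have h := nf_right_distrib (-a) a c
  rw [neg_add_cancel, nf_zero_mul] at h
  exact eq_neg_of_add_eq_zero_left h.symm

theorem nf_sub_mul (a b c : F) : (a - b) * c = a * c - b * c := by
  rw [sub_eq_add_neg, nf_right_distrib, nf_neg_mul, ← sub_eq_add_neg]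

theorem nf_mul_ne_zero {a b : F} (ha : a ≠ 0) (hb : b ≠ 0) : a * b ≠ 0 := by
  intro h
  obtain ⟨b', hb1, -⟩ := nf_exists_inv b hb
  apply ha
  have : a * b * b' = 0 * b' := by rw [h]
  rw [mul_assoc, hb1, mul_one, nf_zero_mul] at this
  exact this

theorem nf_inv_ne_zero {a b : F} (hab : a * b = 1) : b ≠ 0 := by
  rintro rfl
  rw [nf_mul_zero] at hab
  exact nf_zero_ne_one hab

theorem nf_left_ne_zero {a b : F} (hab : a * b = 1) : a ≠ 0 := by
  rintro rfl
  rw [nf_zero_mul] at hab
  exact nf_zero_ne_one hab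

theorem nf_mul_left_cancel {c a b : F} (hc : c ≠ 0) (h : c * a = c * b) : a = b := by
  obtain ⟨c', -, hc2⟩ := nf_exists_inv c hc
  have : c' * (c * a) = c' * (c * b) := by rw [h]
  rw [← mul_assoc, ← mul_assoc, hc2, one_mul, one_mul] at this
  exact this

theorem nf_mul_right_cancel {c a b : F} (hc : c ≠ 0) (h : a * c = b * c) : a = b := by
  obtain ⟨c', hc1, -⟩ := nf_exists_inv c hc
  have : a * c * c' = b * c * c' := by rw [h]
  rw [mul_assoc, mul_assoc, hc1, mul_one, mul_one] at this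
  exact this

/-- the affine map `x ↦ x * a + b` as a permutation, given a two-sided inverse `a'` of `a`. -/
def nfAffine (a a' b : F) (h1 : a * a' = 1) (h2 : a' * a = 1) : Equiv.Perm F where
  toFun x := x * a + b
  invFun y := (y - b) * a'
  left_inv x := by
    change (x * a + b - b) * a' = x
    rw [add_sub_cancel_right, mul_assoc, h1, mul_one]
  right_inv y := by
    change (y - b) * a' * a + b = y
    rw [mul_assoc, h2, mul_one, sub_add_cancel]

theorem nfAffine_apply (a a' b : F) (h1 : a * a' = 1) (h2 : a' * a = 1) (x : F) :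
    nfAffine a a' b h1 h2 x = x * a + b := rfl

/-- The group of affine maps of a near-field. -/
def nfAffineGroup (F : Type*) [Cfsg.NearField F] : Subgroup (Equiv.Perm F) where
  carrier := {σ | ∃ a b : F, a ≠ 0 ∧ ∀ x : F, σ x = x * a + b}
  one_mem' := ⟨1, 0, nf_zero_ne_one.symm, fun x => by simp⟩
  mul_mem' := by
    rintro σ τ ⟨a, b, ha, hσ⟩ ⟨c, d, hc, hτ⟩
    refine ⟨c * a, d * a + b, nf_mul_ne_zero hc ha, fun x => ?_⟩
    rw [Equiv.Perm.mul_apply, hτ, hσ, nf_right_distrib, mul_assoc, add_assoc]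
  inv_mem' := by
    rintro σ ⟨a, b, ha, hσ⟩
    obtain ⟨a', h1, h2⟩ := nf_exists_inv a ha
    refine ⟨a', (-b) * a', nf_inv_ne_zero h1, fun x => ?_⟩
    apply σ.injective
    rw [Equiv.Perm.inv_def, Equiv.apply_symm_apply, hσ, nf_right_distrib, mul_assoc, mul_assoc, h2,
      mul_one, mul_one, add_assoc, neg_add_cancel, add_zero]

theorem mem_nfAffineGroup (σ : Equiv.Perm F) :
    σ ∈ nfAffineGroup F ↔ ∃ a b : F, a ≠ 0 ∧ ∀ x : F, σ x = x * a + b := Iff.rfl

end Cfsg.Agent.Lib.helper6
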