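import Mathlib

set_option autoImplicit false

namespace Cfsg.Agent.Lib.helper6.NilpInvol

/-- In a finite nilpotent group of even order there is an involution commuting with every
2-element. -/
theorem exists_central_invol' {K : Type*} [Group K] [Finite K] [Group.IsNilpotent K] {x : K}
    (hx2 : orderOf x = 2) :
    ∃ z : K, orderOf z = 2 ∧ ∀ p : K, (∃ j : ℕ, orderOf p = 2 ^ j) → z * p = p * z := by
  classical
  haveI : Fact (Nat.Prime 2) := ⟨Nat.prime_two⟩
  let P : Sylow 2 K := default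
  have hPn : (P : Subgroup K).Normal := inferInstance
  haveI : Subsingleton (Sylow 2 K) := (Sylow.unique_of_normal P hPn).instSubsingleton
  have hmem : ∀ p : K, (∃ j : ℕ, orderOf p = 2 ^ j) → p ∈ (P : Subgroup K) := by
    rintro p ⟨j, hj⟩
    have h1 : IsPGroup 2 (Subgroup.zpowers p) := by
      apply IsPGroup.of_card (n := j)
      rw [Nat.card_zpowers, hj]
    obtain ⟨Q, hQ⟩ := h1.exists_le_sylow
    have : Q = P := Subsingleton.elim _ _
    rw [← this]
    exact hQ (Subgroup.mem_zpowers p)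
  have hxP : x ∈ (P : Subgroup K) := hmem x ⟨1, by rw [hx2, pow_one]⟩
  have hx1 : x ≠ 1 := by
    rintro rfl
    rw [orderOf_one] at hx2; omega
  haveI : Nontrivial (P : Subgroup K) :=
    ⟨⟨⟨x, hxP⟩, 1, fun h => hx1 (congrArg Subtype.val h)⟩⟩
  have hPp : IsPGroup 2 (P : Subgroup K) := P.2
  haveI hcn : Nontrivial (Subgroup.center (P : Subgroup K)) := hPp.center_nontrivial
  have hcp : IsPGroup 2 (Subgroup.center (P : Subgroup K)) := hPp.to_subgroup _
  obtain ⟨m, hm0, hm⟩ := hcp.nontrivial_iff_card.mp hcn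
  have hdvd : 2 ∣ Nat.card (Subgroup.center (P : Subgroup K)) := by
    rw [hm]; exact dvd_pow_self 2 (by omega)
  obtain ⟨z, hz⟩ := exists_prime_orderOf_dvd_card' 2 hdvd
  refine ⟨((z : (P : Subgroup K)) : K), ?_, ?_⟩
  · rw [Subgroup.orderOf_coe, Subgroup.orderOf_coe, hz]
  · intro p hp
    have h1 := Subgroup.mem_center_iff.mp z.2 ⟨p, hmem p hp⟩
    have h2 := congrArg Subtype.val h1
    simpa using h2.symm

theorem exists_central_invol {G : Type*} [Group G] (K : Subgroup G) [Finite K]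
    [Group.IsNilpotent K] {x : G} (hx : x ∈ K) (hx2 : orderOf x = 2) :
    ∃ z ∈ K, orderOf z = 2 ∧ ∀ p ∈ K, (∃ j : ℕ, orderOf p = 2 ^ j) → z * p = p * z := by
  have hx2' : orderOf (⟨x, hx⟩ : K) = 2 := by rw [Subgroup.orderOf_mk]; exact hx2
  obtain ⟨z, hz, hzc⟩ := exists_central_invol' hx2'
  refine ⟨(z : G), z.2, by rw [Subgroup.orderOf_coe]; exact hz, ?_⟩
  intro p hp hpj
  have := hzc ⟨p, hp⟩ (by rw [Subgroup.orderOf_mk]; exact hpj)
  exact congrArg Subtype.val this

end Cfsg.Agent.Lib.helper6.NilpInvol
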