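import Mathlib
import Cfsg.Prelude.Def_Classical
import Cfsg.Agent.Lib.helper3.O9A.Defs

set_option autoImplicit false

/-!
# Project O9A, row AFFISO (helper6): the frozen semidirect product `AffO F a b` of S2517 is isomorphic to `AffK (Om8 F a b)`.
-/

namespace Cfsg.Agent.Lib.helper3.O9A

open Matrix Module Polynomial Cfsg.Agent.Lib.Helper1.S8U

/-- the frozen action is matrix-vector multiplication -/
theorem o9aaffiso_act {F : Type*} [Field F] (a b : F)
    (g : ↥(Cfsg.Omega F (Cfsg.quadFormMinus 3 F a b))) (v : Multiplicative (MI8 → F)) :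
    frozAct F a b g v =
      Multiplicative.ofAdd ((((g : ↥(Cfsg.isometryGroup F (Cfsg.quadFormMinus 3 F a b))) : GL MI8 F) : Matrix MI8 MI8 F) *ᵥ
        Multiplicative.toAdd v) := by
  rfl

/-- AFFISO -/
theorem aff_iso {F : Type*} [Field F] (a b : F) : Nonempty (AffO F a b ≃* AffK (Om8 F a b)) := by
  have hinj : Function.Injective (Cfsg.isometryGroup F (Cfsg.quadFormMinus 3 F a b)).subtype :=
    Subgroup.subtype_injective _
  let e : ↥(Cfsg.Omega F (Cfsg.quadFormMinus 3 F a b)) ≃* ↥(Om8 F a b) :=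
    Subgroup.equivMapOfInjective _ _ hinj
  have he : ∀ g : ↥(Cfsg.Omega F (Cfsg.quadFormMinus 3 F a b)),
      ((e g : ↥(Om8 F a b)) : GL MI8 F) =
        ((g : ↥(Cfsg.isometryGroup F (Cfsg.quadFormMinus 3 F a b))) : GL MI8 F) := by
    intro g
    exact Subgroup.coe_equivMapOfInjective_apply _ _ hinj g
  refine ⟨SemidirectProduct.congr (MulEquiv.refl _) e ?_⟩
  intro g
  refine MulEquiv.ext (fun v => ?_)
  show frozAct F a b g v = glAct MI8 F ((e g : ↥(Om8 F a b)) : GL MI8 F) v
  rw [o9aaffiso_act, glAct_apply, he]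

end Cfsg.Agent.Lib.helper3.O9A
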