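import Mathlib
import Cfsg.Prelude.Def_KGroupFacts
import Cfsg.Agent.Lib.Helper12.Ord.ONOrder
import Cfsg.Agent.Lib.helper17.ONM.Defs
import Cfsg.Agent.Lib.helper6.ONMCOVEXcore

/-!
Project ONM (S2052), piece COVEX: verbatim wrapper of `onmcovex_core` (with `ONOrder.finite : Finite ON`).
-/

set_option autoImplicit false

namespace Cfsg.Agent.Lib.helper17.ONM

open Cfsg.Spor Cfsg.Agent.Lib.Helper12.TC Cfsg.Agent.Lib.Helper12.TCG
  Cfsg.Agent.Lib.Helper12.Ord

universe u v

/-- COVEX: if the central element of the cover is not trivial (seen in some group `M`), the cover is a finite stem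
extension of `ON` with kernel of order three. -/
theorem onm_cover_exists {M : Type*} [Group M] (μ : Cov →* M) (hμ : μ zC ≠ 1) :
    ∃ (Γ : Type) (_ : Group Γ) (_ : Finite Γ) (σ : Γ →* ON),
      Cfsg.IsStemExtension σ ∧ Nonempty (σ.ker ≃* Multiplicative (ZMod 3)) :=
  haveI : Finite ON := Cfsg.Agent.Lib.Helper12.Ord.ONOrder.finite
  onmcovex_core μ hμ

end Cfsg.Agent.Lib.helper17.ONM
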