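import Mathlib
import Cfsg.Agent.Lib.Helper18.OPE.Defs2
import Cfsg.Agent.Lib.Helper24.OPESTDCTX
import Cfsg.Agent.Lib.Helper24.ElD
import Cfsg.Agent.Lib.Helper16.PlusFam
import Cfsg.Agent.Lib.Helper29.OPEARITHNEC
import Cfsg.Agent.Lib.helper4.OTSOMEGAODD
import Cfsg.Agent.Lib.Helper18.OPESUFFABScore
import Cfsg.Agent.Lib.helper17.OPEQCYCTY
import Cfsg.Agent.Lib.helper17.OPEQTYEX
import Cfsg.Agent.Lib.helper17.OPEQTYCLASS
import Cfsg.Agent.Lib.helper6.OPEODDNECcore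
import Cfsg.Agent.Lib.Helper18.OPEQMAXEL

/-! Project OPE (designer helper18), row ODDNEC (helper6): `odd_nec`
(= `opeoddnec_core` + helper29 `arith_nec` + OPE `q_maxel` + helper4's OTS `q_omega_of_odd` + helper18's `openecabs_core` on helper17's `q_cyc_ty`, `qty_ex`, `qty_iff`). -/

set_option autoImplicit false

namespace Cfsg.Agent.Lib.Helper18.OPE

open Polynomial Module Cfsg.Agent.Lib.Helper13.S5955 Cfsg.Agent.Lib.helper15.S5972
open scoped Matrix

theorem odd_nec {F : Type*} [Field F] [Fintype F] {p : ℕ} [Fact p.Prime] [CharP F p]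
    (d m : ℕ) (hd : 4 ≤ d) (hm : 2 ≤ m) (hme : Even m) (hmd : m < d) (r : ℕ) [Fact r.Prime]
    (hrp : r ≠ p) (hr2 : r ≠ 2) (i c : ℕ)
    (hi : i = orderOf ((Fintype.card F : ℕ) : ZMod r)) (hc : c = if Even i then i else 2 * i)
    (s : ℤ) (hs : s = 1 ∨ s = -1) (hC : CC i d (m / 2) s) (hall : AllFix F d m s r) :
    RR i c d m s := by
  have hi1 : 1 ≤ i := by
    rw [hi]
    exact Cfsg.Agent.Lib.Helper24.el_ord_pos (F := F) (p := p) r hrp
  obtain ⟨hfin, hτ, -⟩ := std_facts (F := F) d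
  have hcard : 5 ≤ Fintype.card (Fin d ⊕ Fin d) := by
    rw [Fintype.card_sum, Fintype.card_fin]; omega
  exact opeoddnec_core (p := p) d m hd r hr2 i c s hall
    (arith_nec i c d m s hi1 hc hs hme hm hmd hC)
    (q_maxel (p := p) r hrp hr2 d i c hi hc)
    (fun x hx hxr => Cfsg.Agent.Lib.Helper13.OTS.q_omega_of_odd (Cfsg.Agent.Lib.Helper16.qfPlus d F)
      (Cfsg.Agent.Lib.Helper16.qfPlus_nondeg d F) hcard x hx r
      ((Fact.out : r.Prime).odd_of_ne_two hr2) hxr)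
    (fun y hy A hA hW => openecabs_core (p := p) hrp hr2 hy d m hfin 1 hτ hme i c hi hc A hA s hs hW
      (fun M hM hMnd hMc => q_cyc_ty (p := p) hrp hr2 hy i c hi hc M hM hMnd hMc)
      (fun N hN hev e he he0 heN s' hs' => qty_ex _ N hN hev e he he0 heN s' hs')
      (fun W hW hev => qty_iff _ W hW hev))

end Cfsg.Agent.Lib.Helper18.OPE
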