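import Mathlib
import Cfsg.Agent.Lib.Helper18.OPE.Defs2
import Cfsg.Agent.Lib.Helper24.OPESTDCTX

/-! Project OPE (designer helper18), row ODDNEC (helper6): CORE of `odd_nec`, with the conclusions of ARITHNEC (`arith_nec`), QMAXEL (`q_maxel`),
OMEGAODD (`q_omega_odd`) and NECABS (`q_nec_abs`, on the standard space) as hypotheses. -/

set_option autoImplicit false

namespace Cfsg.Agent.Lib.Helper18.OPE

open Polynomial Module Cfsg.Agent.Lib.Helper13.S5955 Cfsg.Agent.Lib.helper15.S5972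
open scoped Matrix

/-- a scalar isometry of odd order of the standard hyperbolic space is the identity -/
theorem opeoddnec_scal {F : Type*} [Field F] (d : ℕ) (hd : 1 ≤ d) (r : ℕ) (hr : Odd r)
    (y : Module.End F (Fin d ⊕ Fin d → F)) (hy : QCtx r (Cfsg.Agent.Lib.Helper16.qfPlus d F) y)
    (z : F) (hyz : ∀ v, y v = z • v) : y = 1 := by
  classical
  let i0 : Fin d := ⟨0, by omega⟩
  let v0 : Fin d ⊕ Fin d → F := Sum.elim (Pi.single i0 1) (Pi.single i0 1)
  have hQ : Cfsg.Agent.Lib.Helper16.qfPlus d F v0 = 1 := by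
    show Cfsg.quadFormPlus d F v0 = 1
    unfold Cfsg.quadFormPlus
    rw [Finset.sum_eq_single i0]
    · simp [v0]
    · intro b _ hb
      simp [v0, hb]
    · intro h
      exact absurd (Finset.mem_univ i0) h
  have hzz : z * z = 1 := by
    have h1 := hy.pres v0
    rw [hyz, QuadraticMap.map_smul, hQ, smul_eq_mul, mul_one] at h1
    exact h1
  have hpow : ∀ n : ℕ, ∀ v, (y ^ n) v = z ^ n • v := by
    intro n
    induction n with
    | zero => intro v; simp
    | succ n ih =>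
      intro v
      rw [pow_succ, Module.End.mul_apply, hyz, map_smul, ih, smul_smul, pow_succ, mul_comm]
  have hzr : z ^ r = 1 := by
    have h1 := hpow r v0
    rw [hy.pow] at h1
    have h2 := congrFun h1 (Sum.inl i0)
    simp [v0] at h2
    exact h2.symm
  have hz1 : z = 1 := by
    obtain ⟨k, hk⟩ := hr
    rw [hk, pow_succ, pow_mul, pow_two, hzz, one_pow, one_mul] at hzr
    exact hzr
  apply LinearMap.ext
  intro v
  rw [hyz, hz1, one_smul]
  rfl

theorem opeoddnec_core {F : Type*} [Field F] [Fintype F] {p : ℕ} [Fact p.Prime] [CharP F p]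
    (d m : ℕ) (hd : 4 ≤ d) (r : ℕ) [Fact r.Prime]
    (hr2 : r ≠ 2) (i c : ℕ) (s : ℤ) (hall : AllFix F d m s r)
    (hARITH : (1 ≤ Amax i c d → Fits c i 1 d m s (Amax i c d)) → RR i c d m s)
    (hMAXEL : 1 ≤ Amax i c d → ∃ y : Module.End F (Fin d ⊕ Fin d → F),
      QCtx r (Cfsg.Agent.Lib.Helper16.qfPlus d F) y ∧ y ≠ 1 ∧ finrank F (cycS r y) = c * Amax i c d)
    (hOMEGA : ∀ x : GL (Fin d ⊕ Fin d) F, x ∈ Cfsg.isometryGroup F (Cfsg.quadFormPlus d F) →
      x ^ r = 1 → x ∈ Cfsg.Geo.omegaGL (Cfsg.quadFormPlus d F))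
    (hNECABS : ∀ y : Module.End F (Fin d ⊕ Fin d → F), QCtx r (Cfsg.Agent.Lib.Helper16.qfPlus d F) y →
      ∀ A : ℕ, finrank F (cycS r y) = c * A → QNDt (Cfsg.Agent.Lib.Helper16.qfPlus d F) y m s →
        Fits c i 1 d m s A) :
    RR i c d m s := by
  apply hARITH
  intro hA1
  obtain ⟨y, hy, hy1, hcyc⟩ := hMAXEL hA1
  obtain ⟨x, hxiso, hxy, hxr⟩ := std_realize d r y hy
  have hxΩ := hOMEGA x hxiso hxr
  have hrodd : Odd r := (Fact.out : r.Prime).odd_of_ne_two hr2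
  have hns : ∀ z : F, (x : Matrix (Fin d ⊕ Fin d) (Fin d ⊕ Fin d) F) ≠
      z • (1 : Matrix (Fin d ⊕ Fin d) (Fin d ⊕ Fin d) F) := by
    intro z hz
    apply hy1
    apply opeoddnec_scal d (by omega) r hrodd y hy z
    intro v
    rw [← hxy, hz, Matrix.toLin'_apply, Matrix.smul_mulVec, Matrix.one_mulVec]
  obtain ⟨W, hWm, hWnd, hWty, hWinv⟩ := hall x hxΩ ⟨1, by rw [hxr, Units.val_one, one_smul]⟩ hns
  apply hNECABS y hy _ hcyc
  refine ⟨W, ?_, hWnd, hWm, hWty⟩
  intro v hv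
  apply hWinv
  rw [hxy]
  exact ⟨v, hv, rfl⟩

end Cfsg.Agent.Lib.Helper18.OPE
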