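import Mathlib
import Cfsg.Agent.Lib.Helper18.OPE.Defs2
import Cfsg.Agent.Lib.Helper24.OPESTDCTX
import Cfsg.Agent.Lib.helper17.OPEQTYCLASS
import Cfsg.Agent.Lib.helper17.OPEQCTXO
import Cfsg.Agent.Lib.helper14.ODNSQd

/-! Project OPE (designer helper18), row PNEC88 (helper6): CORE of `p_nec_88`, with the conclusions of UEX (`u_ex`) and UHYP (`u_hyp`, on the standard space)
as hypotheses. -/

set_option autoImplicit false

namespace Cfsg.Agent.Lib.Helper18.OPE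

open Polynomial Module Cfsg.Agent.Lib.Helper13.S5955 Cfsg.Agent.Lib.helper15.S5972
open scoped Matrix

theorem opepnec88_core {F : Type*} [Field F] [Fintype F] {p : ℕ} [Fact p.Prime] [CharP F p]
    (d m : ℕ) (hd : 4 ≤ d) (hme : Even m)
    (hUEX : ∃ x : GL (Fin d ⊕ Fin d) F, x ∈ Cfsg.Geo.omegaGL (Cfsg.quadFormPlus d F) ∧ x ^ p = 1 ∧
      (∀ z : F, (x : Matrix (Fin d ⊕ Fin d) (Fin d ⊕ Fin d) F) ≠ z • (1 : Matrix (Fin d ⊕ Fin d) (Fin d ⊕ Fin d) F)) ∧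
      (Matrix.toLin' (x : Matrix (Fin d ⊕ Fin d) (Fin d ⊕ Fin d) F) - 1) *
        (Matrix.toLin' (x : Matrix (Fin d ⊕ Fin d) (Fin d ⊕ Fin d) F) - 1) = 0 ∧
      (∀ v, Cfsg.quadFormPlus d F ((Matrix.toLin' (x : Matrix (Fin d ⊕ Fin d) (Fin d ⊕ Fin d) F) - 1) v) = 0) ∧
      finrank F (LinearMap.ker (Matrix.toLin' (x : Matrix (Fin d ⊕ Fin d) (Fin d ⊕ Fin d) F) - 1)) =
        finrank F (LinearMap.range (Matrix.toLin' (x : Matrix (Fin d ⊕ Fin d) (Fin d ⊕ Fin d) F) - 1)) +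
          2 * (d % 2))
    (hUHYP : ∀ x : Module.End F (Fin d ⊕ Fin d → F), QCtx p (Cfsg.Agent.Lib.Helper16.qfPlus d F) x →
      (x - 1) * (x - 1) = 0 → (∀ v, Cfsg.Agent.Lib.Helper16.qfPlus d F ((x - 1) v) = 0) →
      Even (finrank F (Fin d ⊕ Fin d → F)) →
      QTy (Cfsg.Agent.Lib.Helper16.qfPlus d F) (⊤ : Submodule F (Fin d ⊕ Fin d → F)) 1 →
      finrank F (LinearMap.ker (x - 1)) ≤ finrank F (LinearMap.range (x - 1)) + 2 →
      ∀ W : Submodule F (Fin d ⊕ Fin d → F), SInv x W →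
        SND (QuadraticMap.polarBilin (Cfsg.Agent.Lib.Helper16.qfPlus d F)) W →
        Even (finrank F W) → QHyp (Cfsg.Agent.Lib.Helper16.qfPlus d F) W) :
    ¬ AllFix F d m (-1) p := by
  intro hall
  obtain ⟨x, hxΩ, hxp, hns, hNN, hQN, hker⟩ := hUEX
  have hxiso : x ∈ Cfsg.isometryGroup F (Cfsg.quadFormPlus d F) :=
    Cfsg.Agent.Lib.helper14.ODNSQ.odnsq_omegaGL_le _ x hxΩ
  obtain ⟨W, hWm, hWnd, hWty, hWinv⟩ := hall x hxΩ ⟨1, by rw [hxp, Units.val_one, one_smul]⟩ hns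
  have hctx := std_qctx d p x hxiso hxp
  obtain ⟨hfin, hτ, -⟩ := std_facts (F := F) d
  have hWnd' : SND (QuadraticMap.polarBilin (Cfsg.Agent.Lib.Helper16.qfPlus d F)) W := hWnd
  have hWe : Even (finrank F W) := by rw [hWm]; exact hme
  have hinv : SInv (Matrix.toLin' (x : Matrix (Fin d ⊕ Fin d) (Fin d ⊕ Fin d) F)) W := by
    intro v hv
    exact hWinv ⟨v, hv, rfl⟩
  have hhyp := hUHYP _ hctx hNN (fun v => hQN v) (by rw [hfin]; exact even_two_mul d) hτ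
    (by rw [hker]; have := Nat.mod_lt d (show 0 < 2 by norm_num); omega) W hinv hWnd' hWe
  exact qty_uniq _ W ((qty_iff _ W hWnd' hWe).1.mp hhyp) hWty

end Cfsg.Agent.Lib.Helper18.OPE
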