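import Mathlib
import Cfsg.Agent.Lib.Helper18.OPE.Defs2
import Cfsg.Agent.Lib.helper6.OPEPNEC88core
import Cfsg.Agent.Lib.Lead.OPEUEX
import Cfsg.Agent.Lib.Helper5.OPEUHYP

/-! Project OPE (designer helper18), row PNEC88 (helper6): `p_nec_88`. -/

set_option autoImplicit false

namespace Cfsg.Agent.Lib.Helper18.OPE

open Polynomial Module Cfsg.Agent.Lib.Helper13.S5955 Cfsg.Agent.Lib.helper15.S5972
open scoped Matrix

theorem p_nec_88 {F : Type*} [Field F] [Fintype F] {p : ℕ} [Fact p.Prime] [CharP F p]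
    (d m : ℕ) (hd : 4 ≤ d) (hme : Even m) : ¬ AllFix F d m (-1) p :=
  opepnec88_core d m hd hme (u_ex (p := p) d (by omega))
    (fun _ hctx hNN hQN hVe hτ hδ W hW hWnd hWe =>
      u_hyp (Fact.out : p.Prime).pos hctx hNN hQN hVe hτ hδ W hW hWnd hWe)

end Cfsg.Agent.Lib.Helper18.OPE
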