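import Mathlib
import Cfsg.Agent.Lib.helper6.P2OddD

set_option autoImplicit false

namespace Cfsg.Agent.Lib.helper6.P2Odd

open MulAction
open Cfsg.Agent.Lib.helper6.QAlg Cfsg.Agent.S0808 Cfsg.Agent.S0807
open Cfsg.Agent.Lib.helper6.Dickson

variable {F : Type*} [Field F] [Fintype F]

/-- the exponent of a finite field -/
theorem exists_card_pow (p : ℕ) [Fact p.Prime] [CharP F p] :
    ∃ k : ℕ, k ≠ 0 ∧ Fintype.card F = p ^ k := by
  obtain ⟨n, -, hn⟩ := FiniteField.card F p
  exact ⟨n, n.ne_zero, hn⟩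

/-- traces of a subgroup of `PSL₂(K)` type -/
theorem traces_psl {X' : Type*} [MulAction (Matrix.ProjectiveSpecialLinearGroup (Fin 2) F) X']
    (p : ℕ) [Fact p.Prime] [CharP F p]
    (D : DAct (Matrix.ProjectiveSpecialLinearGroup (Fin 2) F) X' p)
    {M : Subgroup (Matrix.ProjectiveSpecialLinearGroup (Fin 2) F)}
    {a c m : ℕ} (hc : 2 * c + 1 = p ^ a) (hm : 2 * m = p ^ a + 1)
    (hord : ∀ t : M, (orderOf t).Coprime p → orderOf t ∣ c ∨ orderOf t ∣ m) :
    ∀ g ∈ lift M, tr g ∈ fixF F p a := by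
  intro g hg
  rcases pow_p_or_coprime D
    (QuotientGroup.mk g : Matrix.ProjectiveSpecialLinearGroup (Fin 2) F) with h | h
  · exact tr_mem_of_mk_pow_char p h _
  · have ht : (QuotientGroup.mk g : Matrix.ProjectiveSpecialLinearGroup (Fin 2) F) ∈ M := hg
    have h1 := hord ⟨(QuotientGroup.mk g : Matrix.ProjectiveSpecialLinearGroup (Fin 2) F), ht⟩
      (by rw [Subgroup.orderOf_mk]; exact h)
    rw [Subgroup.orderOf_mk] at h1
    exact tr_mem_fixF_of_dvd p hc hm h1

set_option maxHeartbeats 800000 in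
/-- the subfield case `M ≅ PSL₂(K)` -/
theorem psl_case {X' : Type*} [MulAction (Matrix.ProjectiveSpecialLinearGroup (Fin 2) F) X']
    (p : ℕ) [Fact p.Prime] [CharP F p] (hp2 : p ≠ 2)
    (D : DAct (Matrix.ProjectiveSpecialLinearGroup (Fin 2) F) X' p)
    {M : Subgroup (Matrix.ProjectiveSpecialLinearGroup (Fin 2) F)} (hM : IsCoatom M)
    {K : Type} [Field K] [Fintype K] {a : ℕ} (hK : Fintype.card K = p ^ a)
    (e : M ≃* Matrix.ProjectiveSpecialLinearGroup (Fin 2) K)
    {c m : ℕ} (hc : 2 * c + 1 = p ^ a) (hm : 2 * m = p ^ a + 1)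
    (hord : ∀ t : M, (orderOf t).Coprime p → orderOf t ∣ c ∨ orderOf t ∣ m) :
    ∃ r : ℕ, r.Prime ∧ Odd r ∧ Fintype.card F = Fintype.card K ^ r := by
  have hp : p.Prime := Fact.out
  have hpodd : Odd p := hp.odd_of_ne_two hp2
  obtain ⟨k, hk0, hk⟩ := exists_card_pow (F := F) p
  have hoddF : Odd (Fintype.card F) := by rw [hk]; exact hpodd.pow
  have hoddK : Odd (Fintype.card K) := by rw [hK]; exact hpodd.pow
  have ha0 : a ≠ 0 := by
    rintro rfl
    have := Fintype.one_lt_card (α := K)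
    rw [hK] at this
    simp at this
  have h2F : (2 : F) ≠ 0 := two_ne_zero_of_char p hp2
  -- orders
  have hcM : 2 * Nat.card M = p ^ a * ((p ^ a) ^ 2 - 1) := by
    rw [Nat.card_congr e.toEquiv, two_mul_card_psl2 hoddK, hK]
  have hcG := two_mul_card_psl2 hoddF
  rw [hk] at hcG
  have hdvd : Nat.card M ∣ Nat.card (Matrix.ProjectiveSpecialLinearGroup (Fin 2) F) :=
    Subgroup.card_subgroup_dvd_card M
  have hak : a ∣ k := by
    apply Cfsg.Agent.Lib.Helper28.P2.dvd_of_order_dvd p a k hp (by omega)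
    rw [← hcM, ← hcG]
    exact dvd_mul_of_dvd_right (Nat.mul_dvd_mul_left 2 hdvd) 2
  obtain ⟨m', rfl⟩ := hak
  have hm'0 : m' ≠ 0 := by
    rintro rfl
    exact hk0 (mul_zero a)
  -- the pair
  obtain ⟨a₀, b₀, hpair⟩ := exists_isPair_psl2 K hoddK
  obtain ⟨X, Y, hQS, hX, hY, -, -⟩ := exists_QS_of_equiv h2F e hpair
  have htr := traces_psl p D hc hm hord
  have hle := le_G1_of_traces hQS hX hY _ htr
  have hMc := lift_coatom hM
  by_cases hm1 : m' = 1
  · exfalso
    rw [hm1, mul_one] at hcG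
    have h1 : Nat.card M = Nat.card (Matrix.ProjectiveSpecialLinearGroup (Fin 2) F) := by
      have : 2 * Nat.card M = 2 * Nat.card (Matrix.ProjectiveSpecialLinearGroup (Fin 2) F) := by
        rw [hcM, hcG]
      omega
    exact hM.1 ((Subgroup.card_eq_iff_eq_top M).mp h1)
  have hm2 : 2 ≤ m' := by omega
  have hlt : p ^ a < Fintype.card F := by
    rw [hk]
    apply Nat.pow_lt_pow_right hp.one_lt
    calc a = a * 1 := (mul_one a).symm
      _ < a * m' := (Nat.mul_lt_mul_left (by omega : 0 < a)).mpr (by omega)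
  have hKne : fixF F p a ≠ ⊤ := fixF_ne_top p ha0 hlt
  have heq : lift M = G1 hQS (fixF F p a) := coatom_eq hMc hle (G1_ne_top hQS hKne)
  rcases Nat.even_or_odd m' with hev | hod
  · exfalso
    obtain ⟨j, hj⟩ := hev
    have h2a : 2 * a ∣ a * m' := by
      rw [hj]; exact ⟨j, by ring⟩
    obtain ⟨μ, hμ0, hμ⟩ := exists_neg_frob p hp2 hk ha0 h2a
    have hμ2 : μ ^ 2 ∈ fixF F p a := by
      rw [mem_fixF, ← pow_mul, mul_comm, pow_mul, hμ]; ring
    have hμn : μ ∉ fixF F p a := by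
      rw [mem_fixF, hμ]
      intro h
      have : (2 : F) * μ = 0 := by linear_combination -h
      rcases mul_eq_zero.mp this with h3 | h3
      · exact h2F h3
      · exact hμ0 h3
    obtain ⟨g, hg1, hg2⟩ := exists_G1'_not_G1 hQS (fixF F p a) μ hμ0 hμ2 hμn
    have heq' : lift M = G1' hQS (fixF F p a) :=
      coatom_eq hMc (hle.trans (G1_le_G1' hQS _)) (G1'_ne_top hQS hKne)
    rw [← heq', heq] at hg1
    exact hg2 hg1
  · by_cases hpr : m'.Prime
    · refine ⟨m', hpr, hod, ?_⟩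
      rw [hk, hK, pow_mul]
    · exfalso
      have hmf : m'.minFac ∣ m' := Nat.minFac_dvd m'
      have hmf2 : 2 ≤ m'.minFac := (Nat.minFac_prime (by omega)).two_le
      have hmflt : m'.minFac < m' := by
        have h1 : m'.minFac ≤ m' := Nat.minFac_le (by omega)
        rcases Nat.lt_or_eq_of_le h1 with h2 | h2
        · exact h2
        · exact absurd (Nat.prime_def_minFac.mpr ⟨hm2, h2⟩) hpr
      set m₁ := m'.minFac with hm₁
      have hKK : fixF F p a ≤ fixF F p (a * m₁) := fixF_mono p (Dvd.intro _ rfl)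
      have hlt2 : p ^ (a * m₁) < Fintype.card F := by
        rw [hk]
        apply Nat.pow_lt_pow_right hp.one_lt
        exact (Nat.mul_lt_mul_left (by omega : 0 < a)).mpr hmflt
      have hK2ne : fixF F p (a * m₁) ≠ ⊤ :=
        fixF_ne_top p (Nat.mul_ne_zero ha0 (by omega)) hlt2
      obtain ⟨x, hx2, hx1⟩ := exists_mem_not_mem p hk ha0
        (show a < a * m₁ by
          calc a = a * 1 := (mul_one a).symm
            _ < a * m₁ := (Nat.mul_lt_mul_left (by omega : 0 < a)).mpr (by omega))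
        (Nat.mul_dvd_mul_left a hmf)
      have heq2 : lift M = G1 hQS (fixF F p (a * m₁)) :=
        coatom_eq hMc (hle.trans (G1_mono hQS hKK)) (G1_ne_top hQS hK2ne)
      obtain ⟨g, hg, hgx⟩ := exists_trace_G1 hQS (fixF F p (a * m₁)) hx2
      rw [← heq2, heq] at hg
      have := trace_mem_of_G1 hQS hg
      rw [hgx] at this
      exact hx1 this

end Cfsg.Agent.Lib.helper6.P2Odd
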