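import Mathlib
import Cfsg.Agent.Lib.helper6.P2OddE

set_option autoImplicit false

namespace Cfsg.Agent.Lib.helper6.P2Odd

open MulAction
open Cfsg.Agent.Lib.helper6.QAlg Cfsg.Agent.S0808 Cfsg.Agent.S0807
open Cfsg.Agent.Lib.helper6.Dickson

/-- the geometric sum identity over `ℕ` together with the parity of the sum -/
theorem geom_parity (x : ℕ) (hx : Odd x) (n : ℕ) :
    ∃ J : ℕ, (x - 1) * J + 1 = x ^ n ∧ (Odd J ↔ Odd n) := by
  have hx1 : 1 ≤ x := by obtain ⟨t, ht⟩ := hx; omega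
  induction n with
  | zero => exact ⟨0, by simp, by simp⟩
  | succ n ih =>
    obtain ⟨J, hJ, hpar⟩ := ih
    refine ⟨J + x ^ n, ?_, ?_⟩
    · have e : x * x ^ n = (x - 1) * x ^ n + x ^ n := by
        obtain ⟨y, rfl⟩ : ∃ y, x = y + 1 := ⟨x - 1, by omega⟩
        simp only [Nat.add_sub_cancel]; ring
      rw [pow_succ, mul_comm (x ^ n) x, e, mul_add, ← hJ]
      ring
    · have hodd : Odd (x ^ n) := hx.pow
      rw [Nat.odd_add_one, ← hpar, Nat.odd_add]
      constructor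
      · intro h hJ'
        exact (Nat.not_even_iff_odd.mpr hodd) (h.mp hJ')
      · intro h
        constructor
        · intro hJ'; exact absurd hJ' h
        · intro he; exact absurd hodd (Nat.not_odd_iff_even.mpr he)

variable {F : Type*} [Field F] [Fintype F]

/-- `PGL₂(s)` does not embed in `PSL₂(s ^ m)` for odd `m` -/
theorem pgl_parity {s m' N j : ℕ} (hs : Odd s) (hs1 : 1 < s) (hm' : Odd m')
    (h1 : 2 * N = s ^ m' * ((s ^ m') ^ 2 - 1)) (h2 : s * (s ^ 2 - 1) * j = N) : False := by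
  obtain ⟨J, hJ, hpar⟩ := geom_parity (s ^ 2) hs.pow m'
  have hJodd : Odd J := hpar.mpr hm'
  have e1 : (s ^ m') ^ 2 - 1 = (s ^ 2 - 1) * J := by
    rw [← pow_mul, mul_comm, pow_mul, ← hJ]; simp
  rw [e1, ← h2] at h1
  have hs2 : 0 < s ^ 2 - 1 := by
    have : 1 < s ^ 2 := by nlinarith
    omega
  obtain ⟨A, hA⟩ : ∃ A, A = s ^ 2 - 1 := ⟨_, rfl⟩
  rw [← hA] at h1 hs2
  have e2 : A * (2 * (s * j)) = A * (s ^ m' * J) := by
    calc A * (2 * (s * j)) = 2 * (s * A * j) := by ring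
      _ = s ^ m' * (A * J) := h1
      _ = A * (s ^ m' * J) := by ring
  have e3 := Nat.eq_of_mul_eq_mul_left hs2 e2
  have hodd : Odd (s ^ m' * J) := hs.pow.mul hJodd
  rw [← e3] at hodd
  exact (Nat.not_odd_iff_even.mpr (even_two_mul _)) hodd

/-- traces of a subgroup of `PGL₂(K)` type -/
theorem traces_pgl {X' : Type*} [MulAction (Matrix.ProjectiveSpecialLinearGroup (Fin 2) F) X']
    (p : ℕ) [Fact p.Prime] [CharP F p]
    (D : DAct (Matrix.ProjectiveSpecialLinearGroup (Fin 2) F) X' p)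
    {M : Subgroup (Matrix.ProjectiveSpecialLinearGroup (Fin 2) F)} {a : ℕ}
    (hord : ∀ t : M, (orderOf t).Coprime p → orderOf t ∣ p ^ a - 1 ∨ orderOf t ∣ p ^ a + 1) :
    ∀ g ∈ lift M, tr g ^ p ^ a = tr g ∨ tr g ^ p ^ a = -tr g := by
  intro g hg
  rcases pow_p_or_coprime D
    (QuotientGroup.mk g : Matrix.ProjectiveSpecialLinearGroup (Fin 2) F) with h | h
  · left
    have := tr_mem_of_mk_pow_char p h (fixF F p a)
    rwa [mem_fixF] at this
  · have ht : (QuotientGroup.mk g : Matrix.ProjectiveSpecialLinearGroup (Fin 2) F) ∈ M := hg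
    have h1 := hord ⟨(QuotientGroup.mk g : Matrix.ProjectiveSpecialLinearGroup (Fin 2) F), ht⟩
      (by rw [Subgroup.orderOf_mk]; exact h)
    rw [Subgroup.orderOf_mk] at h1
    exact tr_pow_of_dvd_pgl p h1

set_option maxHeartbeats 800000 in
/-- the subfield case `M ≅ PGL₂(K)` -/
theorem pgl_case {X' : Type*} [MulAction (Matrix.ProjectiveSpecialLinearGroup (Fin 2) F) X']
    (p : ℕ) [Fact p.Prime] [CharP F p] (hp2 : p ≠ 2)
    (D : DAct (Matrix.ProjectiveSpecialLinearGroup (Fin 2) F) X' p)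
    {M : Subgroup (Matrix.ProjectiveSpecialLinearGroup (Fin 2) F)} (hM : IsCoatom M)
    {K : Type} [Field K] [Fintype K] {a : ℕ} (hK : Fintype.card K = p ^ a)
    (e : M ≃* Matrix.ProjGenLinGroup (Fin 2) K)
    (hord : ∀ t : M, (orderOf t).Coprime p → orderOf t ∣ p ^ a - 1 ∨ orderOf t ∣ p ^ a + 1) :
    Fintype.card F = Fintype.card K ^ 2 := by
  have hp : p.Prime := Fact.out
  have hpodd : Odd p := hp.odd_of_ne_two hp2
  obtain ⟨k, hk0, hk⟩ := exists_card_pow (F := F) p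
  have hoddF : Odd (Fintype.card F) := by rw [hk]; exact hpodd.pow
  have hoddK : Odd (Fintype.card K) := by rw [hK]; exact hpodd.pow
  have ha0 : a ≠ 0 := by
    rintro rfl
    have := Fintype.one_lt_card (α := K)
    rw [hK] at this
    simp at this
  have hs1 : 1 < p ^ a := by
    calc 1 < p := hp.one_lt
      _ = p ^ 1 := (pow_one p).symm
      _ ≤ p ^ a := Nat.pow_le_pow_right hp.pos (by omega)
  have h2F : (2 : F) ≠ 0 := two_ne_zero_of_char p hp2
  -- orders
  have hcM : Nat.card M = p ^ a * ((p ^ a) ^ 2 - 1) := by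
    rw [Nat.card_congr e.toEquiv, Cfsg.Agent.Lib.Helper28.P2.card_pgl2, hK]
  have hcG := two_mul_card_psl2 hoddF
  rw [hk] at hcG
  obtain ⟨j, hj⟩ : Nat.card M ∣ Nat.card (Matrix.ProjectiveSpecialLinearGroup (Fin 2) F) :=
    Subgroup.card_subgroup_dvd_card M
  have hak : a ∣ k := by
    apply Cfsg.Agent.Lib.Helper28.P2.dvd_of_order_dvd p a k hp (by omega)
    rw [← hcM, ← hcG, hj]
    exact ⟨4 * j, by ring⟩
  obtain ⟨m', rfl⟩ := hak
  have hm'0 : m' ≠ 0 := by
    rintro rfl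
    exact hk0 (mul_zero a)
  have hev : Even m' := by
    by_contra hne
    have hod : Odd m' := Nat.not_even_iff_odd.mp hne
    rw [pow_mul] at hcG
    exact pgl_parity hpodd.pow hs1 hod hcG (by rw [← hcM]; exact hj.symm)
  by_cases hm2 : m' = 2
  · rw [hk, hK, hm2, pow_mul]
  exfalso
  obtain ⟨i, hi⟩ := hev
  have hi2 : 2 ≤ i := by omega
  -- the pair
  obtain ⟨a₀, b₀, hpair⟩ := exists_isPair_psl2 K hoddK
  have hpair' := isPair_map (Matrix.ProjectiveSpecialLinearGroup.toPGL (n := Fin 2) (R := K))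
    Matrix.ProjectiveSpecialLinearGroup.toPGL_injective hpair
  obtain ⟨X, Y, hQS, hX, hY, -, -⟩ := exists_QS_of_equiv h2F e hpair'
  have htr := traces_pgl p D hord
  have htr2 : ∀ g ∈ lift M, tr g ∈ fixF F p (2 * a) := fun g hg =>
    mem_fixF_two_mul p hp2 (htr g hg)
  have hle := le_G1_of_traces hQS hX hY _ htr2
  have hMc := lift_coatom hM
  have hlt : p ^ (2 * a) < Fintype.card F := by
    rw [hk]
    apply Nat.pow_lt_pow_right hp.one_lt
    rw [hi, mul_comm 2 a]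
    exact (Nat.mul_lt_mul_left (by omega : 0 < a)).mpr (by omega)
  have hKne : fixF F p (2 * a) ≠ ⊤ := fixF_ne_top p (by omega) hlt
  have heq : lift M = G1 hQS (fixF F p (2 * a)) := coatom_eq hMc hle (G1_ne_top hQS hKne)
  have hdvd : p ^ (2 * a) - 1 ∣ Fintype.card F - 1 := by
    rw [hk]
    exact Nat.pow_sub_one_dvd_pow_sub_one p ⟨i, by rw [hi]; ring⟩
  obtain ⟨x, hx0, hx⟩ := exists_orderOf hdvd
  obtain ⟨g, hg, hgx⟩ := exists_trace_G1 hQS (fixF F p (2 * a)) (mem_fixF_of_orderOf p hx)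
  rw [← heq] at hg
  have h3 := htr g hg
  have hgx' : tr g = x := hgx
  rw [hgx'] at h3
  have e2 : p ^ (2 * a) = p ^ a * p ^ a := by rw [two_mul, pow_add]
  have hbig : 2 * (p ^ a - 1) < p ^ (2 * a) - 1 := by
    rw [e2]
    obtain ⟨s, hs⟩ : ∃ s, p ^ a = s + 2 := ⟨p ^ a - 2, by omega⟩
    rw [hs]
    have : (s + 2) * (s + 2) = s * s + 4 * s + 4 := by ring
    rw [this]
    have : s + 2 - 1 = s + 1 := by omega
    rw [this]
    omega
  have hpow : x ^ (2 * (p ^ a - 1)) = 1 := by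
    have h4 : x ^ p ^ a = x ^ (p ^ a - 1) * x := by
      rw [← pow_succ]; congr 1; omega
    rw [h4] at h3
    have h5 : x ^ (p ^ a - 1) = 1 ∨ x ^ (p ^ a - 1) = -1 := by
      rcases h3 with h3 | h3
      · left
        have : x ^ (p ^ a - 1) * x = 1 * x := by rw [h3, one_mul]
        exact mul_right_cancel₀ hx0 this
      · right
        have : x ^ (p ^ a - 1) * x = -1 * x := by rw [h3]; ring
        exact mul_right_cancel₀ hx0 this
    rw [mul_comm, pow_mul]
    rcases h5 with h5 | h5 <;> rw [h5] <;> ring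
  have h6 := orderOf_dvd_of_pow_eq_one hpow
  rw [hx] at h6
  have h7 := Nat.le_of_dvd (by omega) h6
  omega

end Cfsg.Agent.Lib.helper6.P2Odd
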