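import Mathlib
import Cfsg.Agent.S0807

set_option autoImplicit false

namespace Cfsg.Agent.Lib.helper6.P2Odd

open Cfsg.Agent.S0807 Equiv

/-! ### the normal four-groups of `A₄`, `S₄` and a four-group of `A₅` -/

def s4a : Perm (Fin 4) := swap 0 1 * swap 2 3
def s4b : Perm (Fin 4) := swap 0 2 * swap 1 3

theorem s4_pair : IsPair (s4a, s4b) := by
  refine ⟨orderOf_eq_prime (by decide) (by decide), orderOf_eq_prime (by decide) (by decide),
    by decide, by decide⟩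

theorem s4_normal : ∀ t : Perm (Fin 4),
    (t * s4a * t⁻¹ = s4a ∨ t * s4a * t⁻¹ = s4b ∨ t * s4a * t⁻¹ = s4a * s4b) ∧
    (t * s4b * t⁻¹ = s4a ∨ t * s4b * t⁻¹ = s4b ∨ t * s4b * t⁻¹ = s4a * s4b) := by decide

def a4a : alternatingGroup (Fin 4) := ⟨s4a, Equiv.Perm.mem_alternatingGroup.mpr (by decide)⟩
def a4b : alternatingGroup (Fin 4) := ⟨s4b, Equiv.Perm.mem_alternatingGroup.mpr (by decide)⟩

theorem a4_pair : IsPair (a4a, a4b) := by
  refine ⟨orderOf_eq_prime (by decide) (by decide), orderOf_eq_prime (by decide) (by decide),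
    by decide, by decide⟩

theorem a4_normal : ∀ t : alternatingGroup (Fin 4),
    (t * a4a * t⁻¹ = a4a ∨ t * a4a * t⁻¹ = a4b ∨ t * a4a * t⁻¹ = a4a * a4b) ∧
    (t * a4b * t⁻¹ = a4a ∨ t * a4b * t⁻¹ = a4b ∨ t * a4b * t⁻¹ = a4a * a4b) := by decide

def a5a : alternatingGroup (Fin 5) := ⟨swap 0 1 * swap 2 3, Equiv.Perm.mem_alternatingGroup.mpr (by decide)⟩
def a5b : alternatingGroup (Fin 5) := ⟨swap 0 2 * swap 1 3, Equiv.Perm.mem_alternatingGroup.mpr (by decide)⟩

theorem a5_pair : IsPair (a5a, a5b) := by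
  refine ⟨orderOf_eq_prime (by decide) (by decide), orderOf_eq_prime (by decide) (by decide),
    by decide, by decide⟩

theorem a5_normal : ∀ t : alternatingGroup (Fin 5), (t : Perm (Fin 5)) 4 = 4 →
    (t * a5a * t⁻¹ = a5a ∨ t * a5a * t⁻¹ = a5b ∨ t * a5a * t⁻¹ = a5a * a5b) ∧
    (t * a5b * t⁻¹ = a5a ∨ t * a5b * t⁻¹ = a5b ∨ t * a5b * t⁻¹ = a5a * a5b) := by decide

/-- the point stabiliser in `A₅` -/
def a5stab : Subgroup (alternatingGroup (Fin 5)) where
  carrier := {t | (t : Perm (Fin 5)) 4 = 4}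
  one_mem' := rfl
  mul_mem' := by
    intro a b ha hb
    show ((a * b : alternatingGroup (Fin 5)) : Perm (Fin 5)) 4 = 4
    rw [Subgroup.coe_mul, Perm.mul_apply]
    rw [Set.mem_setOf_eq] at ha hb
    rw [hb, ha]
  inv_mem' := by
    intro a ha
    show ((a⁻¹ : alternatingGroup (Fin 5)) : Perm (Fin 5)) 4 = 4
    rw [Subgroup.coe_inv, Perm.inv_eq_iff_eq]
    exact ha.symm

instance : DecidablePred (· ∈ a5stab) := fun t =>
  inferInstanceAs (Decidable ((t : Perm (Fin 5)) 4 = 4))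

theorem card_a5stab : Nat.card a5stab = 12 := by
  rw [Nat.card_eq_fintype_card]
  decide

end Cfsg.Agent.Lib.helper6.P2Odd
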