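import Mathlib
import Cfsg.Agent.Lib.helper6.P2OddF
import Cfsg.Agent.Lib.helper6.P2OddG

set_option autoImplicit false

namespace Cfsg.Agent.Lib.helper6.P2Odd

open MulAction
open Cfsg.Agent.Lib.helper6.QAlg Cfsg.Agent.S0808 Cfsg.Agent.S0807
open Cfsg.Agent.Lib.helper6.Dickson

variable {F : Type*} [Field F] [Fintype F]

theorem mem_AK_of_mk_eq {X Y : Matrix.SpecialLinearGroup (Fin 2) F} (K : Subfield F)
    {A B : Matrix.SpecialLinearGroup (Fin 2) F}
    (hB : (B : Matrix (Fin 2) (Fin 2) F) ∈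
      AK K (X : Matrix (Fin 2) (Fin 2) F) (Y : Matrix (Fin 2) (Fin 2) F))
    (h : (QuotientGroup.mk A : Matrix.ProjectiveSpecialLinearGroup (Fin 2) F) = QuotientGroup.mk B) :
    (A : Matrix (Fin 2) (Fin 2) F) ∈
      AK K (X : Matrix (Fin 2) (Fin 2) F) (Y : Matrix (Fin 2) (Fin 2) F) := by
  rcases (Cfsg.Agent.S2508.mk_eq_iff A B).mp h with h1 | h1 <;> rw [h1]
  · exact hB
  · exact AK.neg_mem hB

/-- a subgroup normalising the four-group of a quaternion pair lies in every `G1'` -/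
theorem le_G1'_of_normal {M : Subgroup (Matrix.ProjectiveSpecialLinearGroup (Fin 2) F)}
    {A : Type*} [Group A] (e : M ≃* A) {a b : A}
    (hn : ∀ t : A, (t * a * t⁻¹ = a ∨ t * a * t⁻¹ = b ∨ t * a * t⁻¹ = a * b) ∧
      (t * b * t⁻¹ = a ∨ t * b * t⁻¹ = b ∨ t * b * t⁻¹ = a * b))
    {X Y : Matrix.SpecialLinearGroup (Fin 2) F}
    (hQS : QS (X : Matrix (Fin 2) (Fin 2) F) (Y : Matrix (Fin 2) (Fin 2) F))
    (hXa : (QuotientGroup.mk X : Matrix.ProjectiveSpecialLinearGroup (Fin 2) F) = (e.symm a : M))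
    (hYb : (QuotientGroup.mk Y : Matrix.ProjectiveSpecialLinearGroup (Fin 2) F) = (e.symm b : M))
    (K : Subfield F) : lift M ≤ G1' hQS K := by
  apply le_G1'_of_normalizes hQS K
  intro g hg
  have ht : (QuotientGroup.mk g : Matrix.ProjectiveSpecialLinearGroup (Fin 2) F) ∈ M := hg
  obtain ⟨h1, h2⟩ := hn (e ⟨_, ht⟩)
  have hXm : ((X : Matrix.SpecialLinearGroup (Fin 2) F) : Matrix (Fin 2) (Fin 2) F) ∈
      AK K (X : Matrix (Fin 2) (Fin 2) F) (Y : Matrix (Fin 2) (Fin 2) F) := AK.X_mem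
  have hYm : ((Y : Matrix.SpecialLinearGroup (Fin 2) F) : Matrix (Fin 2) (Fin 2) F) ∈
      AK K (X : Matrix (Fin 2) (Fin 2) F) (Y : Matrix (Fin 2) (Fin 2) F) := AK.Y_mem
  have hZm : ((X * Y : Matrix.SpecialLinearGroup (Fin 2) F) : Matrix (Fin 2) (Fin 2) F) ∈
      AK K (X : Matrix (Fin 2) (Fin 2) F) (Y : Matrix (Fin 2) (Fin 2) F) := by
    rw [Matrix.SpecialLinearGroup.coe_mul]; exact AK.Z_mem
  -- transport a conjugation identity back to `PSL₂`
  have key : ∀ (c z : A) (C : Matrix.SpecialLinearGroup (Fin 2) F),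
      (QuotientGroup.mk C : Matrix.ProjectiveSpecialLinearGroup (Fin 2) F) = (e.symm c : M) →
      e ⟨_, ht⟩ * c * (e ⟨_, ht⟩)⁻¹ = z →
      (QuotientGroup.mk (g * C * g⁻¹) : Matrix.ProjectiveSpecialLinearGroup (Fin 2) F) =
        (e.symm z : M) := by
    intro c z C hC hz
    have h3 : (⟨_, ht⟩ : M) * e.symm c * (⟨_, ht⟩ : M)⁻¹ = e.symm z := by
      apply e.injective
      rw [map_mul, map_mul, map_inv, e.apply_symm_apply, e.apply_symm_apply, hz]
    rw [← h3, QuotientGroup.mk_mul, QuotientGroup.mk_mul, QuotientGroup.mk_inv, hC]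
    rfl
  have hab : (QuotientGroup.mk (X * Y) : Matrix.ProjectiveSpecialLinearGroup (Fin 2) F) =
      (e.symm (a * b) : M) := by
    rw [QuotientGroup.mk_mul, hXa, hYb, map_mul]; rfl
  constructor
  · rcases h1 with h1 | h1 | h1
    · exact mem_AK_of_mk_eq K hXm ((key a a X hXa h1).trans hXa.symm)
    · exact mem_AK_of_mk_eq K hYm ((key a b X hXa h1).trans hYb.symm)
    · exact mem_AK_of_mk_eq K hZm ((key a (a * b) X hXa h1).trans hab.symm)
  · rcases h2 with h2 | h2 | h2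
    · exact mem_AK_of_mk_eq K hXm ((key b a Y hYb h2).trans hXa.symm)
    · exact mem_AK_of_mk_eq K hYm ((key b b Y hYb h2).trans hYb.symm)
    · exact mem_AK_of_mk_eq K hZm ((key b (a * b) Y hYb h2).trans hab.symm)

/-- a subgroup containing the unipotent element has order divisible by `p` -/
theorem p_dvd_card_of_unipotent (p : ℕ) [Fact p.Prime]
    {M : Subgroup (Matrix.ProjectiveSpecialLinearGroup (Fin 2) F)}
    {u : Matrix.SpecialLinearGroup (Fin 2) F} (hu : u ∈ lift M) (hup : u ^ p = 1)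
    (hun : u ∉ Subgroup.center (Matrix.SpecialLinearGroup (Fin 2) F)) : p ∣ Nat.card M := by
  have ht : (QuotientGroup.mk u : Matrix.ProjectiveSpecialLinearGroup (Fin 2) F) ∈ M := hu
  have h1 : orderOf (⟨_, ht⟩ : M) = p := by
    apply orderOf_eq_prime
    · apply Subtype.ext
      rw [Subgroup.coe_pow, Subgroup.coe_one]
      show (QuotientGroup.mk u : Matrix.ProjectiveSpecialLinearGroup (Fin 2) F) ^ p = 1
      rw [← QuotientGroup.mk_pow, hup]; rfl
    · intro h
      have := congrArg (fun z : M => (z : Matrix.ProjectiveSpecialLinearGroup (Fin 2) F)) h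
      exact mk_ne_one_of_not_center hun this
  rw [← h1]
  exact orderOf_dvd_natCard _

end Cfsg.Agent.Lib.helper6.P2Odd
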