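import Mathlib
import Cfsg.Agent.Lib.helper6.P2OddH

set_option autoImplicit false

namespace Cfsg.Agent.Lib.helper6.P2Odd

open MulAction
open Cfsg.Agent.Lib.helper6.QAlg Cfsg.Agent.S0808 Cfsg.Agent.S0807
open Cfsg.Agent.Lib.helper6.Dickson

/-! ### arithmetic modulo 16 -/

theorem zmod16_aux : ∀ x : ZMod 16, x * (x ^ 2 - 1) = 0 → x.val % 2 = 1 →
    x.val % 8 = 1 ∨ x.val % 8 = 7 := by decide

theorem mod8_of_sixteen_dvd {q : ℕ} (hq : Odd q) (h : 16 ∣ q * (q ^ 2 - 1)) :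
    q % 8 = 1 ∨ q % 8 = 7 := by
  have hq1 : 1 ≤ q ^ 2 := Nat.one_le_pow _ _ (by obtain ⟨t, ht⟩ := hq; omega)
  have h1 : ((q * (q ^ 2 - 1) : ℕ) : ZMod 16) = 0 := (ZMod.natCast_eq_zero_iff _ _).mpr h
  rw [Nat.cast_mul, Nat.cast_sub hq1, Nat.cast_pow, Nat.cast_one] at h1
  have h2 : ((q : ZMod 16)).val % 2 = 1 := by
    rw [ZMod.val_natCast]
    obtain ⟨t, ht⟩ := hq
    omega
  have h3 := zmod16_aux (q : ZMod 16) h1 h2
  rw [ZMod.val_natCast] at h3
  omega

theorem three_pow_odd_mod (j : ℕ) : 3 ^ (2 * j + 1) % 8 = 3 := by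
  rw [pow_succ, pow_mul, Nat.mul_mod, Nat.pow_mod]
  norm_num

variable {F : Type*} [Field F] [Fintype F]

/-- characteristic from `p = 3` -/
theorem three_eq_zero [CharP F 3] : (3 : F) = 0 := by
  have := CharP.cast_eq_zero F 3
  exact_mod_cast this

set_option maxHeartbeats 800000 in
/-- the case `M ≅ S₄` -/
theorem s4_case (p : ℕ) [Fact p.Prime] [CharP F p] (hp2 : p ≠ 2)
    {M : Subgroup (Matrix.ProjectiveSpecialLinearGroup (Fin 2) F)} (hM : IsCoatom M)
    (e : M ≃* Equiv.Perm (Fin 4)) :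
    Fintype.card F = 9 ∨ (Fintype.card F = p ∧ (p % 8 = 1 ∨ p % 8 = 7)) := by
  have hp : p.Prime := Fact.out
  have hpodd : Odd p := hp.odd_of_ne_two hp2
  obtain ⟨k, hk0, hk⟩ := exists_card_pow (F := F) p
  have hoddF : Odd (Fintype.card F) := by rw [hk]; exact hpodd.pow
  have h2F : (2 : F) ≠ 0 := two_ne_zero_of_char p hp2
  obtain ⟨X, Y, hQS, hX, hY, hXa, hYb⟩ := exists_QS_of_equiv h2F e s4_pair
  have hle : ∀ K : Subfield F, lift M ≤ G1' hQS K :=
    fun K => le_G1'_of_normal e s4_normal hQS hXa hYb K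
  have hMc := lift_coatom hM
  have hcM : Nat.card M = 24 := by
    rw [Nat.card_congr e.toEquiv, Nat.card_eq_fintype_card, Fintype.card_perm, Fintype.card_fin]
    rfl
  have hcG := two_mul_card_psl2 hoddF
  obtain ⟨j, hj⟩ : Nat.card M ∣ Nat.card (Matrix.ProjectiveSpecialLinearGroup (Fin 2) F) :=
    Subgroup.card_subgroup_dvd_card M
  have h16 : 16 ∣ Fintype.card F * (Fintype.card F ^ 2 - 1) := by
    rw [← hcG, hj, hcM]
    exact ⟨3 * j, by ring⟩
  have hmod := mod8_of_sixteen_dvd hoddF h16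
  by_cases hk1 : k = 1
  · right
    rw [hk1, pow_one] at hk
    rw [hk] at hmod
    exact ⟨hk, hmod⟩
  left
  have hk2 : 2 ≤ k := by omega
  have hlt1 : p ^ 1 < Fintype.card F := by
    rw [hk]; exact Nat.pow_lt_pow_right hp.one_lt (by omega)
  have hK1 : fixF F p 1 ≠ ⊤ := fixF_ne_top p one_ne_zero hlt1
  have heq1 : lift M = G1' hQS (fixF F p 1) := coatom_eq hMc (hle _) (G1'_ne_top hQS hK1)
  obtain ⟨u, hu, hup, hun⟩ := exists_unipotent p hQS
  have hpM : p ∣ Nat.card M := by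
    apply p_dvd_card_of_unipotent p _ hup hun
    rw [heq1]; exact G1_le_G1' hQS _ (hu _)
  have hp3 : p = 3 := by
    rw [hcM] at hpM
    have h8 : Nat.Coprime p 8 := by
      have : Nat.Coprime p 2 := (Nat.coprime_primes hp Nat.prime_two).mpr hp2
      exact Nat.Coprime.pow_right 3 this
    have : p ∣ 3 := h8.dvd_of_dvd_mul_left (by simpa using hpM)
    exact (Nat.prime_dvd_prime_iff_eq hp Nat.prime_three).mp this
  subst hp3
  by_cases hk2' : k = 2
  · rw [hk, hk2']; norm_num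
  exfalso
  have hk3 : 3 ≤ k := by omega
  -- k is even
  rcases Nat.even_or_odd k with hev | hod
  swap
  · obtain ⟨i, hi⟩ := hod
    rw [hk, hi, three_pow_odd_mod] at hmod
    omega
  obtain ⟨i, hi⟩ := hev
  have hi2 : 2 ≤ i := by omega
  have hlt2 : 3 ^ 2 < Fintype.card F := by
    rw [hk]; exact Nat.pow_lt_pow_right (by norm_num) (by omega)
  have hK2 : fixF F 3 2 ≠ ⊤ := fixF_ne_top 3 two_ne_zero hlt2
  have heq2 : lift M = G1' hQS (fixF F 3 2) := coatom_eq hMc (hle _) (G1'_ne_top hQS hK2)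
  -- a square root of -1
  have hsq : IsSquare (-1 : F) := by
    rw [FiniteField.isSquare_neg_one_iff, hk, hi, ← two_mul, pow_mul]
    have : (3 ^ 2) ^ i % 4 = 1 := by
      rw [Nat.pow_mod]; norm_num
    omega
  obtain ⟨ι, hι⟩ := hsq
  have h3 : (3 : F) = 0 := three_eq_zero
  have hιmem : ι ∈ fixF F 3 2 := by
    rw [mem_fixF]
    have : ι ^ 3 ^ 2 = ι * (ι * ι) ^ 4 := by ring
    rw [this, ← hι]; ring
  have hτmem : 1 + ι ∈ fixF F 3 2 := (fixF F 3 2).add_mem (fixF F 3 2).one_mem hιmem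
  obtain ⟨g, hg, hgτ⟩ := exists_trace_G1 hQS (fixF F 3 2) hτmem
  have hg' : g ∈ G1' hQS (fixF F 3 1) := by
    rw [← heq1, heq2]; exact G1_le_G1' hQS _ hg
  have h4 := trace_sq_mem_of_G1' hQS hg'
  rw [hgτ, mem_fixF, pow_one] at h4
  have h5 : (1 + ι) ^ 2 = 2 * ι := by
    have : (1 + ι) ^ 2 = 1 + 2 * ι + ι * ι := by ring
    rw [this, ← hι]; ring
  rw [h5] at h4
  have h6 : (2 * ι) ^ 3 = -8 * ι := by
    have : (2 * ι) ^ 3 = 8 * ι * (ι * ι) := by ring
    rw [this, ← hι]; ring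
  rw [h6] at h4
  have h7 : ι = 0 := by
    have : ι = 3 * (-3 * ι) - (-8 * ι - 2 * ι) := by ring
    rw [this, h4, h3]; ring
  rw [h7, mul_zero] at hι
  have : (1 : F) = 0 := by linear_combination -hι
  exact one_ne_zero this

end Cfsg.Agent.Lib.helper6.P2Odd
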