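import Mathlib
import Cfsg.Agent.Lib.helper6.P2OddI
import Cfsg.Agent.Lib.helper6.PSL2TorA

set_option autoImplicit false

namespace Cfsg.Agent.Lib.helper6.P2Odd

open MulAction
open Cfsg.Agent.Lib.helper6.QAlg Cfsg.Agent.S0808 Cfsg.Agent.S0807
open Cfsg.Agent.Lib.helper6.Dickson

/-- groups whose elements have order `1, 2, 3, 5` have no element of order four -/
theorem sq_eq_one_of_pow_four {A : Type*} [Group A]
    (hA : ∀ s : A, s ^ 2 = 1 ∨ s ^ 3 = 1 ∨ s ^ 5 = 1) (s : A) (h4 : s ^ 4 = 1) : s ^ 2 = 1 := by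
  rcases hA s with h | h | h
  · exact h
  · have : s = 1 := by
      calc s = s ^ 4 * (s ^ 3)⁻¹ := by group
        _ = 1 := by rw [h4, h]; group
    rw [this, one_pow]
  · have : s = 1 := by
      calc s = s ^ 5 * (s ^ 4)⁻¹ := by group
        _ = 1 := by rw [h4, h]; group
    rw [this, one_pow]

variable {F : Type*} [Field F] [Fintype F]

/-- an element of `M` whose square is the class of `X` has order four -/
theorem no_sqrt_X {M : Subgroup (Matrix.ProjectiveSpecialLinearGroup (Fin 2) F)}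
    {A : Type*} [Group A] (e : M ≃* A)
    (hA : ∀ s : A, s ^ 2 = 1 ∨ s ^ 3 = 1 ∨ s ^ 5 = 1)
    {X Y g : Matrix.SpecialLinearGroup (Fin 2) F}
    (hQS : QS (X : Matrix (Fin 2) (Fin 2) F) (Y : Matrix (Fin 2) (Fin 2) F))
    (hg : g ∈ lift M)
    (hgg : (g : Matrix (Fin 2) (Fin 2) F) * (g : Matrix (Fin 2) (Fin 2) F) = X) : False := by
  have hgg' : g * g = X := by
    apply Subtype.ext
    rw [Matrix.SpecialLinearGroup.coe_mul]; exact hgg
  have hXX : X * X = -1 := by
    apply Subtype.ext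
    rw [Matrix.SpecialLinearGroup.coe_mul, hQS.sqX, Matrix.SpecialLinearGroup.coe_neg,
      Matrix.SpecialLinearGroup.coe_one]
  have ht : (QuotientGroup.mk g : Matrix.ProjectiveSpecialLinearGroup (Fin 2) F) ∈ M := hg
  have h4 : (e ⟨_, ht⟩) ^ 4 = 1 := by
    rw [← map_pow, ← map_one e]
    congr 1
    apply Subtype.ext
    rw [Subgroup.coe_pow, Subgroup.coe_one]
    show (QuotientGroup.mk g : Matrix.ProjectiveSpecialLinearGroup (Fin 2) F) ^ 4 = 1
    rw [← QuotientGroup.mk_pow, show g ^ 4 = (g * g) * (g * g) by rw [← pow_two, ← pow_two, ← pow_mul], hgg', hXX,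
      QuotientGroup.eq_one_iff]
    exact neg_one_mem_center
  have h2 := sq_eq_one_of_pow_four hA _ h4
  rw [← map_pow, ← map_one e] at h2
  have h3 := e.injective h2
  have h5 := congrArg (fun z : M => (z : Matrix.ProjectiveSpecialLinearGroup (Fin 2) F)) h3
  simp only [Subgroup.coe_pow, Subgroup.coe_one] at h5
  rw [← QuotientGroup.mk_pow, pow_two, hgg', QuotientGroup.eq_one_iff, sl_center_iff] at h5
  have h2F := hQS.two
  rcases h5 with h5 | h5
  · rw [h5, one_mul] at hXX
    have := congrArg (fun z : Matrix.SpecialLinearGroup (Fin 2) F =>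
      (z : Matrix (Fin 2) (Fin 2) F) 0 0) hXX
    simp only [Matrix.SpecialLinearGroup.coe_one, Matrix.SpecialLinearGroup.coe_neg,
      Matrix.one_apply_eq, Matrix.neg_apply] at this
    apply h2F
    linear_combination this
  · rw [h5] at hXX
    have := congrArg (fun z : Matrix.SpecialLinearGroup (Fin 2) F =>
      (z : Matrix (Fin 2) (Fin 2) F) 0 0) hXX
    simp only [Matrix.SpecialLinearGroup.coe_one, Matrix.SpecialLinearGroup.coe_neg,
      Matrix.SpecialLinearGroup.coe_mul, neg_mul_neg, one_mul,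
      Matrix.one_apply_eq, Matrix.neg_apply] at this
    apply h2F
    linear_combination this

/-- no intermediate subfield subgroup above a maximal `G1 h (fixF a)` -/
theorem G1_intermediate_false (p : ℕ) [Fact p.Prime] [CharP F p]
    {M : Subgroup (Matrix.ProjectiveSpecialLinearGroup (Fin 2) F)} (hMc : IsCoatom (lift M))
    {X Y : Matrix.SpecialLinearGroup (Fin 2) F}
    (hQS : QS (X : Matrix (Fin 2) (Fin 2) F) (Y : Matrix (Fin 2) (Fin 2) F))
    {k a n' : ℕ} (hk : Fintype.card F = p ^ k) (ha0 : a ≠ 0)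
    (heq : lift M = G1 hQS (fixF F p a)) (h1 : a < n') (hdvd : a ∣ n') (h2 : n' ∣ k)
    (h3 : n' < k) : False := by
  have hp : p.Prime := Fact.out
  have hKK : fixF F p a ≤ fixF F p n' := fixF_mono p hdvd
  have hlt2 : p ^ n' < Fintype.card F := by
    rw [hk]; exact Nat.pow_lt_pow_right hp.one_lt h3
  have hK2ne : fixF F p n' ≠ ⊤ := fixF_ne_top p (by omega) hlt2
  obtain ⟨x, hx2, hx1⟩ := exists_mem_not_mem p hk ha0 h1 h2
  have heq2 : lift M = G1 hQS (fixF F p n') :=
    coatom_eq hMc (by rw [heq]; exact G1_mono hQS hKK) (G1_ne_top hQS hK2ne)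
  obtain ⟨g, hg, hgx⟩ := exists_trace_G1 hQS (fixF F p n') hx2
  rw [← heq2, heq] at hg
  have := trace_mem_of_G1 hQS hg
  rw [hgx] at this
  exact hx1 this

/-- a composite odd number has a proper divisor -/
theorem exists_proper_dvd {k : ℕ} (hk2 : 2 ≤ k) (hpr : ¬ k.Prime) :
    ∃ n', 1 < n' ∧ n' ∣ k ∧ n' < k := by
  refine ⟨k.minFac, (Nat.minFac_prime (by omega)).one_lt, Nat.minFac_dvd k, ?_⟩
  have h1 : k.minFac ≤ k := Nat.minFac_le (by omega)
  rcases Nat.lt_or_eq_of_le h1 with h2 | h2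
  · exact h2
  · exact absurd (Nat.prime_def_minFac.mpr ⟨hk2, h2⟩) hpr

end Cfsg.Agent.Lib.helper6.P2Odd
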