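import Mathlib
import Cfsg.Agent.Lib.helper6.P2OddJ

set_option autoImplicit false

namespace Cfsg.Agent.Lib.helper6.P2Odd

open MulAction
open Cfsg.Agent.Lib.helper6.QAlg Cfsg.Agent.S0808 Cfsg.Agent.S0807
open Cfsg.Agent.Lib.helper6.Dickson

variable {F : Type*} [Field F] [Fintype F]

/-- the possible traces of lifts of elements of `A₅` -/
def T5 (τ : F) : Prop := τ = 2 ∨ τ = -2 ∨ τ = 0 ∨ τ ^ 2 = 1 ∨ τ ^ 4 - 3 * τ ^ 2 + 1 = 0

theorem a5_traces {M : Subgroup (Matrix.ProjectiveSpecialLinearGroup (Fin 2) F)}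
    {A : Type*} [Group A] (e : M ≃* A)
    (hA : ∀ s : A, s ^ 2 = 1 ∨ s ^ 3 = 1 ∨ s ^ 5 = 1) :
    ∀ g ∈ lift M, T5 (tr g) := by
  intro g hg
  by_cases hc : g ∈ Subgroup.center (Matrix.SpecialLinearGroup (Fin 2) F)
  · rcases (sl_center_iff g).mp hc with rfl | rfl
    · left; exact tr_one
    · right; left; rw [tr_neg, tr_one]
  have ht : (QuotientGroup.mk g : Matrix.ProjectiveSpecialLinearGroup (Fin 2) F) ∈ M := hg
  have key : ∀ n : ℕ, (e ⟨_, ht⟩) ^ n = 1 →
      g ^ n ∈ Subgroup.center (Matrix.SpecialLinearGroup (Fin 2) F) := by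
    intro n hn
    rw [← map_pow, ← map_one e] at hn
    have h3 := e.injective hn
    have h5 := congrArg (fun z : M => (z : Matrix.ProjectiveSpecialLinearGroup (Fin 2) F)) h3
    simp only [Subgroup.coe_pow, Subgroup.coe_one] at h5
    rwa [← QuotientGroup.mk_pow, QuotientGroup.eq_one_iff] at h5
  rcases hA (e ⟨_, ht⟩) with h | h | h
  · right; right; left; exact tr_of_order_two g hc (key 2 h)
  · right; right; right; left; exact tr_of_order_three g hc (key 3 h)
  · right; right; right; right; exact tr_of_order_five g hc (key 5 h)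

/-- a square root of `5` is fixed by the square of Frobenius -/
theorem sqrt_five_mem (p : ℕ) [Fact p.Prime] [CharP F p] (hp2 : p ≠ 2) {δ : F}
    (hδ : δ ^ 2 = 5) : δ ∈ fixF F p 2 := by
  have hp : p.Prime := Fact.out
  rw [mem_fixF]
  by_cases h5 : (5 : F) = 0
  · have : δ = 0 := by
      rw [h5] at hδ
      exact pow_eq_zero_iff (by norm_num) |>.mp hδ
    rw [this, zero_pow (pow_ne_zero 2 hp.ne_zero)]
  obtain ⟨j, hj⟩ := hp.odd_of_ne_two hp2
  have h5p : (5 : F) ^ (2 * j) = 1 := by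
    have h1 : ((5 : ℕ) : F) ^ p = ((5 : ℕ) : F) := by
      have := map_natCast (frobenius F p) 5
      rwa [frobenius_def] at this
    push_cast at h1
    rw [hj, pow_succ] at h1
    have : (5 : F) ^ (2 * j) * 5 = 1 * 5 := by rw [h1, one_mul]
    exact mul_right_cancel₀ h5 this
  have e1 : p ^ 2 = 2 * (2 * j * (j + 1)) + 1 := by rw [hj]; ring
  rw [e1, pow_succ, pow_mul, hδ, pow_mul, h5p, one_pow, one_mul]

/-- all `A₅`-traces lie in the field of order `p²` -/
theorem T5_mem_fixF_two (p : ℕ) [Fact p.Prime] [CharP F p] (hp2 : p ≠ 2) {τ : F} (h : T5 τ) :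
    τ ∈ fixF F p 2 := by
  have h2F : (2 : F) ≠ 0 := two_ne_zero_of_char p hp2
  rcases h with h | h | h | h | h
  · rw [h]; exact ofNat_mem _ 2
  · rw [h]; exact neg_mem (ofNat_mem _ 2)
  · rw [h]; exact zero_mem _
  · have : (τ - 1) * (τ + 1) = 0 := by linear_combination h
    rcases mul_eq_zero.mp this with h1 | h1
    · have : τ = 1 := by linear_combination h1
      rw [this]; exact one_mem _
    · have : τ = -1 := by linear_combination h1
      rw [this]; exact neg_mem (one_mem _)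
  · have : (τ ^ 2 - τ - 1) * (τ ^ 2 + τ - 1) = 0 := by linear_combination h
    rcases mul_eq_zero.mp this with h1 | h1
    · have hδ : (2 * τ - 1) ^ 2 = 5 := by linear_combination 4 * h1
      have h3 := sqrt_five_mem p hp2 hδ
      have : τ = ((2 * τ - 1) + 1) * (2 : F)⁻¹ := by field_simp; ring
      rw [this]
      exact mul_mem (add_mem h3 (one_mem _)) (AK.two_inv_mem _)
    · have hδ : (2 * τ + 1) ^ 2 = 5 := by linear_combination 4 * h1
      have h3 := sqrt_five_mem p hp2 hδ
      have : τ = ((2 * τ + 1) - 1) * (2 : F)⁻¹ := by field_simp; ring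
      rw [this]
      exact mul_mem (sub_mem h3 (one_mem _)) (AK.two_inv_mem _)

/-- if `5` has a square root in the prime field all `A₅`-traces lie in the prime field -/
theorem T5_mem_fixF_one (p : ℕ) [Fact p.Prime] [CharP F p] (hp2 : p ≠ 2) {c : F}
    (hc : c ∈ fixF F p 1) (hc5 : c ^ 2 = 5) {τ : F} (h : T5 τ) :
    τ ∈ fixF F p 1 := by
  have h2F : (2 : F) ≠ 0 := two_ne_zero_of_char p hp2
  have key : ∀ δ : F, δ ^ 2 = 5 → δ ∈ fixF F p 1 := by
    intro δ hδ
    have : (δ - c) * (δ + c) = 0 := by linear_combination hδ - hc5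
    rcases mul_eq_zero.mp this with h1 | h1
    · have : δ = c := by linear_combination h1
      rw [this]; exact hc
    · have : δ = -c := by linear_combination h1
      rw [this]; exact neg_mem hc
  rcases h with h | h | h | h | h
  · rw [h]; exact ofNat_mem _ 2
  · rw [h]; exact neg_mem (ofNat_mem _ 2)
  · rw [h]; exact zero_mem _
  · have : (τ - 1) * (τ + 1) = 0 := by linear_combination h
    rcases mul_eq_zero.mp this with h1 | h1
    · have : τ = 1 := by linear_combination h1
      rw [this]; exact one_mem _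
    · have : τ = -1 := by linear_combination h1
      rw [this]; exact neg_mem (one_mem _)
  · have : (τ ^ 2 - τ - 1) * (τ ^ 2 + τ - 1) = 0 := by linear_combination h
    rcases mul_eq_zero.mp this with h1 | h1
    · have hδ : (2 * τ - 1) ^ 2 = 5 := by linear_combination 4 * h1
      have h3 := key _ hδ
      have : τ = ((2 * τ - 1) + 1) * (2 : F)⁻¹ := by field_simp; ring
      rw [this]
      exact mul_mem (add_mem h3 (one_mem _)) (AK.two_inv_mem _)
    · have hδ : (2 * τ + 1) ^ 2 = 5 := by linear_combination 4 * h1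
      have h3 := key _ hδ
      have : τ = ((2 * τ + 1) - 1) * (2 : F)⁻¹ := by field_simp; ring
      rw [this]
      exact mul_mem (sub_mem h3 (one_mem _)) (AK.two_inv_mem _)

/-- quadratic reciprocity for `5` -/
theorem exists_sqrt_five (p : ℕ) [Fact p.Prime] [CharP F p] (hp2 : p ≠ 2)
    (h : p % 10 = 1 ∨ p % 10 = 9) : ∃ c : F, c ∈ fixF F p 1 ∧ c ^ 2 = 5 := by
  haveI : Fact (Nat.Prime 5) := ⟨by norm_num⟩
  have h1 : IsSquare ((p : ℕ) : ZMod 5) := by
    have h5 : p % 5 = 1 ∨ p % 5 = 4 := by omega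
    rcases h5 with h5 | h5
    · refine ⟨1, ?_⟩
      have : ((p : ℕ) : ZMod 5) = ((p % 5 : ℕ) : ZMod 5) := by
        rw [ZMod.natCast_mod]
      rw [this, h5]; rfl
    · refine ⟨2, ?_⟩
      have : ((p : ℕ) : ZMod 5) = ((p % 5 : ℕ) : ZMod 5) := by
        rw [ZMod.natCast_mod]
      rw [this, h5]; rfl
  have h2 : IsSquare ((5 : ℕ) : ZMod p) :=
    (ZMod.exists_sq_eq_prime_iff_of_mod_four_eq_one (p := 5) (q := p) (by norm_num) hp2).mp h1
  obtain ⟨c, hc⟩ := h2
  refine ⟨(ZMod.castHom (dvd_refl p) F) c, ?_, ?_⟩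
  · rw [mem_fixF, pow_one, ← map_pow, ZMod.pow_card]
  · rw [← map_pow, pow_two, ← hc, map_natCast]
    norm_num

end Cfsg.Agent.Lib.helper6.P2Odd
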