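import Mathlib
import Cfsg.Agent.Lib.helper6.P2OddK
import Cfsg.Agent.Lib.Helper28.P2Over

set_option autoImplicit false

namespace Cfsg.Agent.Lib.helper6.P2Odd

open MulAction
open Cfsg.Agent.Lib.helper6.QAlg Cfsg.Agent.S0808 Cfsg.Agent.S0807
open Cfsg.Agent.Lib.helper6.Dickson

/-! ### arithmetic modulo 10 -/

theorem zmod5_aux : ∀ x : ZMod 5, x ≠ 0 → x * (x ^ 2 - 1) = 0 → x.val = 1 ∨ x.val = 4 := by decide

theorem mod10_cases {p : ℕ} (hp : p.Prime) (hp2 : p ≠ 2) (hp5 : p ≠ 5) :
    p % 10 = 1 ∨ p % 10 = 3 ∨ p % 10 = 7 ∨ p % 10 = 9 := by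
  have hodd : Odd p := hp.odd_of_ne_two hp2
  obtain ⟨t, ht⟩ := hodd
  have h5 : ¬ 5 ∣ p := fun h => hp5 ((Nat.prime_dvd_prime_iff_eq (by norm_num) hp).mp h).symm
  omega

theorem mod10_of_five_dvd {p : ℕ} (hp : p.Prime) (hp2 : p ≠ 2) (hp5 : p ≠ 5)
    (h : 5 ∣ p * (p ^ 2 - 1)) : p % 10 = 1 ∨ p % 10 = 9 := by
  have h5 : ¬ 5 ∣ p := fun h => hp5 ((Nat.prime_dvd_prime_iff_eq (by norm_num) hp).mp h).symm
  have hp1 : 1 ≤ p ^ 2 := Nat.one_le_pow _ _ hp.pos
  have h1 : ((p * (p ^ 2 - 1) : ℕ) : ZMod 5) = 0 := (ZMod.natCast_eq_zero_iff _ _).mpr h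
  rw [Nat.cast_mul, Nat.cast_sub hp1, Nat.cast_pow, Nat.cast_one] at h1
  have h0 : (p : ZMod 5) ≠ 0 := by
    intro hc
    exact h5 ((ZMod.natCast_eq_zero_iff _ _).mp hc)
  have h3 := zmod5_aux (p : ZMod 5) h0 h1
  rw [ZMod.val_natCast] at h3
  rcases mod10_cases hp hp2 hp5 with h4 | h4 | h4 | h4 <;> omega

theorem prime_dvd_sixty {p : ℕ} (hp : p.Prime) (hp2 : p ≠ 2) (h : p ∣ 60) : p = 3 ∨ p = 5 := by
  have h1 : (60 : ℕ) = 2 * 2 * 3 * 5 := by norm_num
  rw [h1] at h
  rcases (Nat.Prime.dvd_mul hp).mp h with h | h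
  · rcases (Nat.Prime.dvd_mul hp).mp h with h | h
    · rcases (Nat.Prime.dvd_mul hp).mp h with h | h <;>
        exact absurd ((Nat.prime_dvd_prime_iff_eq hp Nat.prime_two).mp h) hp2
    · left; exact (Nat.prime_dvd_prime_iff_eq hp Nat.prime_three).mp h
  · right; exact (Nat.prime_dvd_prime_iff_eq hp (by norm_num)).mp h

variable {F : Type*} [Field F] [Fintype F]

theorem five_eq_zero [CharP F 5] : (5 : F) = 0 := by
  have := CharP.cast_eq_zero F 5
  exact_mod_cast this

set_option maxHeartbeats 1600000 in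
/-- the case `M ≅ A₅` -/
theorem a5_case (p : ℕ) [Fact p.Prime] [CharP F p] (hp2 : p ≠ 2)
    {M : Subgroup (Matrix.ProjectiveSpecialLinearGroup (Fin 2) F)} (hM : IsCoatom M)
    (e : M ≃* alternatingGroup (Fin 5)) :
    (∃ r : ℕ, r.Prime ∧ Odd r ∧ p = 5 ∧ Fintype.card F = 5 ^ r) ∨
    ((Fintype.card F % 10 = 1 ∨ Fintype.card F % 10 = 9) ∧
      (Fintype.card F = p ∨ (Fintype.card F = p ^ 2 ∧ (p % 10 = 3 ∨ p % 10 = 7)))) := by
  have hp : p.Prime := Fact.out
  have hpodd : Odd p := hp.odd_of_ne_two hp2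
  obtain ⟨k, hk0, hk⟩ := exists_card_pow (F := F) p
  have hoddF : Odd (Fintype.card F) := by rw [hk]; exact hpodd.pow
  have h2F : (2 : F) ≠ 0 := two_ne_zero_of_char p hp2
  obtain ⟨X, Y, hQS, hX, hY, hXa, hYb⟩ := exists_QS_of_equiv h2F e a5_pair
  have hA := Cfsg.Agent.Lib.helper6.PSL2Tor.pow_A5
  have htr5 := a5_traces e hA
  have hMc := lift_coatom hM
  have hcM : Nat.card M = 60 := by
    rw [Nat.card_congr e.toEquiv]; exact Cfsg.Agent.Lib.Helper28.P2.card_alt5
  have hcG := two_mul_card_psl2 hoddF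
  obtain ⟨j, hj⟩ : Nat.card M ∣ Nat.card (Matrix.ProjectiveSpecialLinearGroup (Fin 2) F) :=
    Subgroup.card_subgroup_dvd_card M
  have h120 : Fintype.card F * (Fintype.card F ^ 2 - 1) = 120 * j := by
    rw [← hcG, hj, hcM]; ring
  obtain ⟨u, hu, hup, hun⟩ := exists_unipotent p hQS
  -- when the group equals some `G1`, the characteristic divides 60
  have hp60 : ∀ K : Subfield F, lift M = G1 hQS K → p = 3 ∨ p = 5 := by
    intro K hK
    have : p ∣ Nat.card M := by
      apply p_dvd_card_of_unipotent p _ hup hun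
      rw [hK]; exact hu K
    rw [hcM] at this
    exact prime_dvd_sixty hp hp2 this
  by_cases hp5 : p = 5
  · subst hp5
    have h5 : (5 : F) = 0 := five_eq_zero
    have hc0 : (0 : F) ∈ fixF F 5 1 := zero_mem _
    have htr1 : ∀ g ∈ lift M, tr g ∈ fixF F 5 1 := fun g hg =>
      T5_mem_fixF_one 5 hp2 hc0 (by rw [h5]; ring) (htr5 g hg)
    have hle1 := le_G1_of_traces hQS hX hY _ htr1
    by_cases hk1 : k = 1
    · exfalso
      rw [hk, hk1] at hcG
      have : Nat.card (Matrix.ProjectiveSpecialLinearGroup (Fin 2) F) = 60 := by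
        norm_num at hcG; omega
      exact hM.1 ((Subgroup.card_eq_iff_eq_top M).mp (by rw [hcM, this]))
    have hk2 : 2 ≤ k := by omega
    have hlt1 : 5 ^ 1 < Fintype.card F := by
      rw [hk]; exact Nat.pow_lt_pow_right (by norm_num) (by omega)
    have hK1 : fixF F 5 1 ≠ ⊤ := fixF_ne_top 5 one_ne_zero hlt1
    have heq1 : lift M = G1 hQS (fixF F 5 1) := coatom_eq hMc hle1 (G1_ne_top hQS hK1)
    rcases Nat.even_or_odd k with hev | hod
    · exfalso
      obtain ⟨i, hi⟩ := hev
      have hsq2 : IsSquare (2 : F) := by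
        rw [FiniteField.isSquare_two_iff, hk, hi, ← two_mul, pow_mul]
        have : (5 ^ 2) ^ i % 8 = 1 := by
          rw [Nat.pow_mod]; norm_num
        omega
      obtain ⟨g, hg, hgg, -, -⟩ := exists_sqrt_X hQS hsq2
      have heq1' : lift M = G1' hQS (fixF F 5 1) :=
        coatom_eq hMc (hle1.trans (G1_le_G1' hQS _)) (G1'_ne_top hQS hK1)
      exact no_sqrt_X e hA hQS (by rw [heq1']; exact hg _) hgg
    · by_cases hpr : k.Prime
      · left
        exact ⟨k, hpr, hod, rfl, hk⟩
      · exfalso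
        obtain ⟨n', h1, h2, h3⟩ := exists_proper_dvd hk2 hpr
        exact G1_intermediate_false 5 hMc hQS hk one_ne_zero heq1 h1 (one_dvd _) h2 h3
  · right
    have htr2 : ∀ g ∈ lift M, tr g ∈ fixF F p 2 := fun g hg =>
      T5_mem_fixF_two p hp2 (htr5 g hg)
    have hle2 := le_G1_of_traces hQS hX hY _ htr2
    by_cases hk3 : 3 ≤ k
    · exfalso
      have hlt2 : p ^ 2 < Fintype.card F := by
        rw [hk]; exact Nat.pow_lt_pow_right hp.one_lt (by omega)
      have hK2 : fixF F p 2 ≠ ⊤ := fixF_ne_top p two_ne_zero hlt2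
      have heq2 : lift M = G1 hQS (fixF F p 2) := coatom_eq hMc hle2 (G1_ne_top hQS hK2)
      have hp3 : p = 3 := (hp60 _ heq2).resolve_right hp5
      subst hp3
      have h3 : (3 : F) = 0 := three_eq_zero
      -- an element of order five
      haveI : Fact (Nat.Prime 5) := ⟨by norm_num⟩
      obtain ⟨t, ht⟩ := exists_prime_orderOf_dvd_card' (G := M) 5 (by rw [hcM]; norm_num)
      obtain ⟨g, hgt⟩ := QuotientGroup.mk_surjective
        (t : Matrix.ProjectiveSpecialLinearGroup (Fin 2) F)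
      have hgc : g ∉ Subgroup.center (Matrix.SpecialLinearGroup (Fin 2) F) := by
        intro hc
        have : (t : Matrix.ProjectiveSpecialLinearGroup (Fin 2) F) = 1 := by
          rw [← hgt]; exact (QuotientGroup.eq_one_iff g).mpr hc
        have ht1 : t = 1 := Subtype.ext this
        rw [ht1, orderOf_one] at ht
        omega
      have hg5 : g ^ 5 ∈ Subgroup.center (Matrix.SpecialLinearGroup (Fin 2) F) := by
        rw [← QuotientGroup.eq_one_iff, QuotientGroup.mk_pow, hgt, ← Subgroup.coe_pow, ← ht,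
          pow_orderOf_eq_one]
        rfl
      have hq := tr_of_order_five g hgc hg5
      -- a square root of `5 = -1`
      obtain ⟨δ, hδ⟩ : ∃ δ : F, δ ^ 2 = -1 := by
        have : (tr g ^ 2 - tr g - 1) * (tr g ^ 2 + tr g - 1) = 0 := by linear_combination hq
        rcases mul_eq_zero.mp this with h1 | h1
        · exact ⟨2 * tr g - 1, by linear_combination 4 * h1 + 2 * h3⟩
        · exact ⟨2 * tr g + 1, by linear_combination 4 * h1 + 2 * h3⟩
      have hδmem : δ ∈ fixF F 3 2 := by
        rw [mem_fixF]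
        have : δ ^ 3 ^ 2 = δ * (δ ^ 2) ^ 4 := by ring
        rw [this, hδ]; ring
      obtain ⟨g', hg', hgδ⟩ := exists_trace_G1 hQS (fixF F 3 2) hδmem
      rw [← heq2] at hg'
      have hT := htr5 g' hg'
      have hgδ' : tr g' = δ := hgδ
      rw [hgδ'] at hT
      rcases hT with h | h | h | h | h
      · rw [h] at hδ
        apply h2F
        linear_combination hδ - h3 - h3 * 0
      · rw [h] at hδ
        apply h2F
        linear_combination hδ - h3
      · rw [h] at hδ
        have : (1 : F) = 0 := by linear_combination hδ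
        exact one_ne_zero this
      · rw [h] at hδ
        apply h2F
        linear_combination hδ
      · have : δ ^ 4 = 1 := by
          have : δ ^ 4 = (δ ^ 2) ^ 2 := by ring
          rw [this, hδ]; ring
        rw [this, hδ] at h
        apply h2F
        linear_combination h - h3
    · have hk2 : k = 1 ∨ k = 2 := by omega
      rcases hk2 with hk1 | hk2
      · rw [hk1, pow_one] at hk
        have h5dvd : 5 ∣ p * (p ^ 2 - 1) := by
          rw [← hk, h120]; exact ⟨24 * j, by ring⟩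
        have := mod10_of_five_dvd hp hp2 hp5 h5dvd
        rw [hk]
        exact ⟨this, Or.inl rfl⟩
      · rw [hk2] at hk
        have hcases := mod10_cases hp hp2 hp5
        have hnot : ¬ (p % 10 = 1 ∨ p % 10 = 9) := by
          intro h19
          obtain ⟨c, hc, hc5⟩ := exists_sqrt_five (F := F) p hp2 h19
          have htr1 : ∀ g ∈ lift M, tr g ∈ fixF F p 1 := fun g hg =>
            T5_mem_fixF_one p hp2 hc hc5 (htr5 g hg)
          have hle1 := le_G1_of_traces hQS hX hY _ htr1
          have hlt1 : p ^ 1 < Fintype.card F := by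
            rw [hk]; exact Nat.pow_lt_pow_right hp.one_lt (by omega)
          have hK1 : fixF F p 1 ≠ ⊤ := fixF_ne_top p one_ne_zero hlt1
          have heq1 : lift M = G1 hQS (fixF F p 1) := coatom_eq hMc hle1 (G1_ne_top hQS hK1)
          rcases hp60 _ heq1 with h | h
          · rw [h] at h19; omega
          · exact hp5 h
        have h37 : p % 10 = 3 ∨ p % 10 = 7 := by
          rcases hcases with h | h | h | h
          · exact absurd (Or.inl h) hnot
          · exact Or.inl h
          · exact Or.inr h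
          · exact absurd (Or.inr h) hnot
        refine ⟨?_, Or.inr ⟨hk, h37⟩⟩
        rw [hk, pow_two, Nat.mul_mod]
        rcases h37 with h | h <;> rw [h] <;> norm_num

end Cfsg.Agent.Lib.helper6.P2Odd
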