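import Mathlib
import Cfsg.Agent.Lib.helper6.P2OddL
import Cfsg.Agent.S0804

set_option autoImplicit false

namespace Cfsg.Agent.Lib.helper6.P2Odd

open MulAction
open Cfsg.Agent.Lib.helper6.QAlg Cfsg.Agent.S0808 Cfsg.Agent.S0807
open Cfsg.Agent.Lib.helper6.Dickson

/-- conjugation by an element of a subgroup, transported along an isomorphism -/
theorem conj_of_normal_at {G : Type*} [Group G] {M : Subgroup G} {A : Type*} [Group A]
    (e : M ≃* A) {a b : A} (t : G) (ht : t ∈ M)
    (hn : (e ⟨t, ht⟩ * a * (e ⟨t, ht⟩)⁻¹ = a ∨ e ⟨t, ht⟩ * a * (e ⟨t, ht⟩)⁻¹ = b ∨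
        e ⟨t, ht⟩ * a * (e ⟨t, ht⟩)⁻¹ = a * b) ∧
      (e ⟨t, ht⟩ * b * (e ⟨t, ht⟩)⁻¹ = a ∨ e ⟨t, ht⟩ * b * (e ⟨t, ht⟩)⁻¹ = b ∨
        e ⟨t, ht⟩ * b * (e ⟨t, ht⟩)⁻¹ = a * b)) :
    (t * (e.symm a : M) * t⁻¹ = (e.symm a : M) ∨ t * (e.symm a : M) * t⁻¹ = (e.symm b : M) ∨
      t * (e.symm a : M) * t⁻¹ = (e.symm a : M) * (e.symm b : M)) ∧
    (t * (e.symm b : M) * t⁻¹ = (e.symm a : M) ∨ t * (e.symm b : M) * t⁻¹ = (e.symm b : M) ∨
      t * (e.symm b : M) * t⁻¹ = (e.symm a : M) * (e.symm b : M)) := by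
  obtain ⟨h1, h2⟩ := hn
  have key : ∀ (c z : A), e ⟨t, ht⟩ * c * (e ⟨t, ht⟩)⁻¹ = z →
      t * (e.symm c : M) * t⁻¹ = (e.symm z : M) := by
    intro c z hz
    have h3 : (⟨t, ht⟩ : M) * e.symm c * (⟨t, ht⟩ : M)⁻¹ = e.symm z := by
      apply e.injective
      rw [map_mul, map_mul, map_inv, e.apply_symm_apply, e.apply_symm_apply, hz]
    rw [← h3]; rfl
  have hab : ((e.symm (a * b) : M) : G) = (e.symm a : M) * (e.symm b : M) := by
    rw [map_mul]; rfl
  constructor
  · rcases h1 with h1 | h1 | h1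
    · left; exact key _ _ h1
    · right; left; exact key _ _ h1
    · right; right; rw [key _ _ h1, hab]
  · rcases h2 with h2 | h2 | h2
    · left; exact key _ _ h2
    · right; left; exact key _ _ h2
    · right; right; rw [key _ _ h2, hab]

/-- conjugation by elements of a subgroup with a normal four-group -/
theorem conj_of_normal {G : Type*} [Group G] {M : Subgroup G} {A : Type*} [Group A]
    (e : M ≃* A) {a b : A}
    (hn : ∀ t : A, (t * a * t⁻¹ = a ∨ t * a * t⁻¹ = b ∨ t * a * t⁻¹ = a * b) ∧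
      (t * b * t⁻¹ = a ∨ t * b * t⁻¹ = b ∨ t * b * t⁻¹ = a * b)) (t : G) (ht : t ∈ M) :
    (t * (e.symm a : M) * t⁻¹ = (e.symm a : M) ∨ t * (e.symm a : M) * t⁻¹ = (e.symm b : M) ∨
      t * (e.symm a : M) * t⁻¹ = (e.symm a : M) * (e.symm b : M)) ∧
    (t * (e.symm b : M) * t⁻¹ = (e.symm a : M) ∨ t * (e.symm b : M) * t⁻¹ = (e.symm b : M) ∨
      t * (e.symm b : M) * t⁻¹ = (e.symm a : M) * (e.symm b : M)) :=
  conj_of_normal_at e t ht (hn _)

/-- an element conjugating the generators of a pair subgroup into it normalises it -/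
theorem mem_normalizer_pair {G : Type*} [Group G] [Finite G] {x y : G} (hxx : x * x = 1)
    (hyy : y * y = 1) (hxy : x * y = y * x) {t : G}
    (hx : t * x * t⁻¹ ∈ pairSubgroup x y hxx hyy hxy)
    (hy : t * y * t⁻¹ ∈ pairSubgroup x y hxx hyy hxy) :
    t ∈ Subgroup.normalizer (pairSubgroup x y hxx hyy hxy : Set G) := by
  apply Subgroup.mem_normalizer_fintype
  intro n hn
  rcases hn with rfl | rfl | rfl | rfl
  · simp only [mul_one, mul_inv_cancel]; exact Subgroup.one_mem _
  · exact hx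
  · exact hy
  · have : t * (x * y) * t⁻¹ = (t * x * t⁻¹) * (t * y * t⁻¹) := by group
    rw [this]
    exact Subgroup.mul_mem _ hx hy

/-- a coatom of a simple group normalising a nontrivial subgroup of itself is its normaliser -/
theorem eq_normalizer_of_le {G : Type*} [Group G] [IsSimpleGroup G] {M V : Subgroup G}
    (hM : IsCoatom M) (hVM : V ≤ M) (hV : V ≠ ⊥)
    (hMN : M ≤ Subgroup.normalizer (V : Set G)) : M = Subgroup.normalizer (V : Set G) := by
  apply coatom_eq hM hMN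
  intro htop
  have hn : V.Normal := Subgroup.normalizer_eq_top_iff.mp htop
  rcases hn.eq_bot_or_eq_top with h | h
  · exact hV h
  · apply hM.1
    rw [eq_top_iff, ← h]; exact hVM

variable {F : Type*} [Field F] [Fintype F]

/-- the common set-up of the `A₄` case -/
theorem a4_setup (h2F : (2 : F) ≠ 0) (h4 : 4 ≤ Fintype.card F)
    {M : Subgroup (Matrix.ProjectiveSpecialLinearGroup (Fin 2) F)} (hM : IsCoatom M)
    (e : M ≃* alternatingGroup (Fin 4)) :
    ∃ (X Y : Matrix.SpecialLinearGroup (Fin 2) F)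
      (hQS : QS (X : Matrix (Fin 2) (Fin 2) F) (Y : Matrix (Fin 2) (Fin 2) F)),
      X ∈ lift M ∧ Y ∈ lift M ∧ (∀ K : Subfield F, lift M ≤ G1' hQS K) ∧
      ∃ (hxx : (QuotientGroup.mk X : Matrix.ProjectiveSpecialLinearGroup (Fin 2) F) *
          QuotientGroup.mk X = 1)
        (hyy : (QuotientGroup.mk Y : Matrix.ProjectiveSpecialLinearGroup (Fin 2) F) *
          QuotientGroup.mk Y = 1)
        (hxy : (QuotientGroup.mk X : Matrix.ProjectiveSpecialLinearGroup (Fin 2) F) *
          QuotientGroup.mk Y = QuotientGroup.mk Y * QuotientGroup.mk X),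
        M = Subgroup.normalizer (pairSubgroup _ _ hxx hyy hxy : Set _) ∧
        IsKleinFour (pairSubgroup _ _ hxx hyy hxy) := by
  haveI : IsSimpleGroup (Matrix.ProjectiveSpecialLinearGroup (Fin 2) F) :=
    Matrix.ProjectiveSpecialLinearGroup.rank_two_simple (by
      rw [Nat.card_eq_fintype_card]; exact h4)
  obtain ⟨X, Y, hQS, hX, hY, hXa, hYb⟩ := exists_QS_of_equiv h2F e a4_pair
  have hle : ∀ K : Subfield F, lift M ≤ G1' hQS K :=
    fun K => le_G1'_of_normal e a4_normal hQS hXa hYb K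
  have hp' : IsPair ((QuotientGroup.mk X : Matrix.ProjectiveSpecialLinearGroup (Fin 2) F),
      (QuotientGroup.mk Y : Matrix.ProjectiveSpecialLinearGroup (Fin 2) F)) := by
    rw [hXa, hYb]
    exact isPair_map (M.subtype.comp e.symm.toMonoidHom)
      (M.subtype_injective.comp e.symm.injective) a4_pair
  refine ⟨X, Y, hQS, hX, hY, hle, sq_of_order_two' hp'.1, sq_of_order_two' hp'.2.1,
    hp'.2.2.2, ?_, ?_⟩
  · apply eq_normalizer_of_le hM
    · intro z hz
      rcases hz with rfl | rfl | rfl | rfl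
      · exact M.one_mem
      · exact hX
      · exact hY
      · exact M.mul_mem hX hY
    · intro hb
      have : (QuotientGroup.mk X : Matrix.ProjectiveSpecialLinearGroup (Fin 2) F) ∈
          pairSubgroup _ _ (sq_of_order_two' hp'.1) (sq_of_order_two' hp'.2.1) hp'.2.2.2 :=
        Or.inr (Or.inl rfl)
      rw [hb, Subgroup.mem_bot] at this
      exact ne_one_of_order_two hp'.1 this
    · intro t ht
      obtain ⟨h1, h2⟩ := conj_of_normal e a4_normal t ht
      rw [← hXa, ← hYb] at h1 h2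
      apply mem_normalizer_pair
      · rcases h1 with h1 | h1 | h1 <;> rw [h1]
        · exact Or.inr (Or.inl rfl)
        · exact Or.inr (Or.inr (Or.inl rfl))
        · exact Or.inr (Or.inr (Or.inr rfl))
      · rcases h2 with h2 | h2 | h2 <;> rw [h2]
        · exact Or.inr (Or.inl rfl)
        · exact Or.inr (Or.inr (Or.inl rfl))
        · exact Or.inr (Or.inr (Or.inr rfl))
  · exact pairSubgroup_klein _ _ _ _ _ (ne_one_of_order_two hp'.1) (ne_one_of_order_two hp'.2.1)
      hp'.2.2.1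

end Cfsg.Agent.Lib.helper6.P2Odd
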