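import Mathlib
import Cfsg.Agent.Lib.helper6.P2OddM

set_option autoImplicit false

namespace Cfsg.Agent.Lib.helper6.P2Odd

open MulAction
open Cfsg.Agent.Lib.helper6.QAlg Cfsg.Agent.S0808 Cfsg.Agent.S0807
open Cfsg.Agent.Lib.helper6.Dickson

variable {F : Type*} [Field F] [Fintype F]

theorem a4_pow : ∀ s : alternatingGroup (Fin 4), s ^ 2 = 1 ∨ s ^ 3 = 1 ∨ s ^ 5 = 1 := by
  intro s
  rcases Cfsg.Agent.Lib.helper6.PSL2Tor.pow_A4 s with h | h
  · exact Or.inl h
  · exact Or.inr (Or.inl h)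

/-- `A₄` is not maximal when `2` is a square -/
theorem a4_not_sq (h2F : (2 : F) ≠ 0) (h4 : 4 ≤ Fintype.card F)
    {M : Subgroup (Matrix.ProjectiveSpecialLinearGroup (Fin 2) F)} (hM : IsCoatom M)
    (e : M ≃* alternatingGroup (Fin 4)) : ¬ IsSquare (2 : F) := by
  intro hsq
  obtain ⟨X, Y, hQS, hX, hY, hle, hxx, hyy, hxy, hMN, -⟩ := a4_setup h2F h4 hM e
  obtain ⟨g, -, hgg, hgX, hgY⟩ := exists_sqrt_X hQS hsq
  have hgX' : g * X * g⁻¹ = X := by
    have : g * X = X * g := by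
      apply Subtype.ext
      rw [Matrix.SpecialLinearGroup.coe_mul, Matrix.SpecialLinearGroup.coe_mul]; exact hgX
    rw [this, mul_inv_cancel_right]
  have hgY' : g * Y * g⁻¹ = X * Y := by
    have : g * Y = X * Y * g := by
      apply Subtype.ext
      rw [Matrix.SpecialLinearGroup.coe_mul, Matrix.SpecialLinearGroup.coe_mul,
        Matrix.SpecialLinearGroup.coe_mul]; exact hgY
    rw [this, mul_inv_cancel_right]
  have hmem : (QuotientGroup.mk g : Matrix.ProjectiveSpecialLinearGroup (Fin 2) F) ∈ M := by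
    rw [hMN]
    apply mem_normalizer_pair
    · rw [← QuotientGroup.mk_inv, ← QuotientGroup.mk_mul, ← QuotientGroup.mk_mul, hgX']
      exact Or.inr (Or.inl rfl)
    · rw [← QuotientGroup.mk_inv, ← QuotientGroup.mk_mul, ← QuotientGroup.mk_mul, hgY']
      exact Or.inr (Or.inr (Or.inr (QuotientGroup.mk_mul _ _ _)))
  exact no_sqrt_X e a4_pow hQS hmem hgg

set_option maxHeartbeats 1600000 in
/-- `A₄` is not maximal in `PSL₂(p)` when `p ≡ ± 1 (mod 10)` -/
theorem a4_not_mod10 (p : ℕ) [Fact p.Prime] [CharP F p] (hp2 : p ≠ 2)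
    (hFp : Fintype.card F = p) (hmod8 : p % 8 = 3 ∨ p % 8 = 5)
    {M : Subgroup (Matrix.ProjectiveSpecialLinearGroup (Fin 2) F)} (hM : IsCoatom M)
    (e : M ≃* alternatingGroup (Fin 4)) : ¬ (p % 10 = 1 ∨ p % 10 = 9) := by
  intro h19
  have hp : p.Prime := Fact.out
  have hpodd : Odd p := hp.odd_of_ne_two hp2
  have hoddF : Odd (Fintype.card F) := by rw [hFp]; exact hpodd
  have h2F : (2 : F) ≠ 0 := two_ne_zero_of_char p hp2
  have hp11 : 11 ≤ p := by
    by_contra hlt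
    push Not at hlt
    interval_cases p <;> simp_all (config := {decide := true})
  have h4 : 4 ≤ Fintype.card F := by rw [hFp]; omega
  obtain ⟨X, Y, hQS, hX, hY, hle, hxx, hyy, hxy, hMN, hVk⟩ := a4_setup h2F h4 hM e
  -- the subgroup `A₅`
  have h5dvd : 5 ∣ p * (p ^ 2 - 1) := by
    have hp1 : 1 ≤ p ^ 2 := Nat.one_le_pow _ _ hp.pos
    have h1 : ((p * (p ^ 2 - 1) : ℕ) : ZMod 5) = 0 := by
      rw [Nat.cast_mul, Nat.cast_sub hp1, Nat.cast_pow, Nat.cast_one]
      have : ((p : ℕ) : ZMod 5) = ((p % 5 : ℕ) : ZMod 5) := by rw [ZMod.natCast_mod]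
      rw [this]
      have h5 : p % 5 = 1 ∨ p % 5 = 4 := by omega
      rcases h5 with h5 | h5 <;> rw [h5] <;> decide
    exact (ZMod.natCast_eq_zero_iff _ _).mp h1
  obtain ⟨H, ⟨eH⟩⟩ := (Cfsg.Agent.S0804.result (F := F) hFp).mpr h5dvd
  have hp'' : IsPair (((eH.symm a5a : H) : Matrix.ProjectiveSpecialLinearGroup (Fin 2) F),
      ((eH.symm a5b : H) : Matrix.ProjectiveSpecialLinearGroup (Fin 2) F)) :=
    isPair_map (H.subtype.comp eH.symm.toMonoidHom)
      (H.subtype_injective.comp eH.symm.injective) a5_pair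
  have hV'k := pairSubgroup_klein _ _ (sq_of_order_two' hp''.1) (sq_of_order_two' hp''.2.1)
    hp''.2.2.2 (ne_one_of_order_two hp''.1) (ne_one_of_order_two hp''.2.1) hp''.2.2.1
  obtain ⟨g₀, hg₀⟩ := (Cfsg.Agent.S0808.result (F := F) hFp hpodd).1 hmod8 _ _ hV'k hVk
  -- the conjugate of the point stabiliser of `A₅`
  set B : Subgroup (Matrix.ProjectiveSpecialLinearGroup (Fin 2) F) :=
    ((a5stab.map eH.symm.toMonoidHom).map H.subtype).map (MulAut.conj g₀).toMonoidHom with hB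
  have hcB : Nat.card B = 12 := by
    rw [hB, Subgroup.card_map_of_injective (MulAut.conj g₀).injective,
      Subgroup.card_map_of_injective H.subtype_injective,
      Subgroup.card_map_of_injective eH.symm.injective, card_a5stab]
  have hcM : Nat.card M = 12 := by
    rw [Nat.card_congr e.toEquiv]; exact Cfsg.Agent.Lib.Helper28.P2.card_alt4
  have hV'eq : ∀ z, z ∈ pairSubgroup
      ((eH.symm a5a : H) : Matrix.ProjectiveSpecialLinearGroup (Fin 2) F)
      ((eH.symm a5b : H) : Matrix.ProjectiveSpecialLinearGroup (Fin 2) F)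
      (sq_of_order_two' hp''.1) (sq_of_order_two' hp''.2.1) hp''.2.2.2 ↔
      z = 1 ∨ z = ((eH.symm a5a : H) : Matrix.ProjectiveSpecialLinearGroup (Fin 2) F) ∨
      z = ((eH.symm a5b : H) : Matrix.ProjectiveSpecialLinearGroup (Fin 2) F) ∨
      z = ((eH.symm a5a : H) : Matrix.ProjectiveSpecialLinearGroup (Fin 2) F) *
        ((eH.symm a5b : H) : Matrix.ProjectiveSpecialLinearGroup (Fin 2) F) := fun z => Iff.rfl
  have hB₀ : (a5stab.map eH.symm.toMonoidHom).map H.subtype ≤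
      Subgroup.normalizer (pairSubgroup
        ((eH.symm a5a : H) : Matrix.ProjectiveSpecialLinearGroup (Fin 2) F)
        ((eH.symm a5b : H) : Matrix.ProjectiveSpecialLinearGroup (Fin 2) F)
        (sq_of_order_two' hp''.1) (sq_of_order_two' hp''.2.1) hp''.2.2.2 : Set _) := by
    rintro b₁ ⟨b₂, ⟨s, hs, rfl⟩, rfl⟩
    have hs' : ((s : alternatingGroup (Fin 5)) : Equiv.Perm (Fin 5)) 4 = 4 := hs
    have hee : eH ⟨((eH.symm s : H) : Matrix.ProjectiveSpecialLinearGroup (Fin 2) F),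
        (eH.symm s).2⟩ = s := by
      rw [Subtype.coe_eta, eH.apply_symm_apply]
    obtain ⟨h1, h2⟩ := conj_of_normal_at eH (a := a5a) (b := a5b)
      ((eH.symm s : H) : Matrix.ProjectiveSpecialLinearGroup (Fin 2) F) (eH.symm s).2
      (by rw [hee]; exact a5_normal s hs')
    apply mem_normalizer_pair
    · rw [hV'eq]
      right
      exact h1
    · rw [hV'eq]
      right
      exact h2
  have hBle : B ≤ M := by
    rw [hMN, hg₀, ← Subgroup.map_equiv_normalizer_eq, hB]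
    exact Subgroup.map_mono hB₀
  have hBM : B = M := Subgroup.eq_of_le_of_card_ge hBle (by rw [hcB, hcM])
  -- `M` lies in the conjugate of `A₅`
  have hMH : M ≤ H.map (MulAut.conj g₀).toMonoidHom := by
    rw [← hBM, hB]
    apply Subgroup.map_mono
    rintro b₁ ⟨b₂, -, rfl⟩
    exact b₂.2
  have hcH : Nat.card (H.map (MulAut.conj g₀).toMonoidHom) = 60 := by
    rw [Subgroup.card_map_of_injective (MulAut.conj g₀).injective, Nat.card_congr eH.toEquiv]
    exact Cfsg.Agent.Lib.Helper28.P2.card_alt5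
  have hcG := two_mul_card_psl2 hoddF
  rw [hFp] at hcG
  have hHtop : H.map (MulAut.conj g₀).toMonoidHom ≠ ⊤ := by
    intro htop
    rw [htop, Subgroup.card_top] at hcH
    rw [hcH] at hcG
    have h1 : 11 * (11 ^ 2 - 1) ≤ p * (p ^ 2 - 1) :=
      Nat.mul_le_mul hp11 (Nat.sub_le_sub_right (Nat.pow_le_pow_left hp11 2) 1)
    omega
  have := coatom_eq hM hMH hHtop
  rw [this] at hcM
  omega

theorem nine_pow_mod (i : ℕ) : 3 ^ (2 * i) % 8 = 1 := by
  rw [pow_mul, Nat.pow_mod]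
  norm_num

set_option maxHeartbeats 800000 in
/-- the case `M ≅ A₄` -/
theorem a4_case (p : ℕ) [Fact p.Prime] [CharP F p] (hp2 : p ≠ 2) (h4 : 4 ≤ Fintype.card F)
    {M : Subgroup (Matrix.ProjectiveSpecialLinearGroup (Fin 2) F)} (hM : IsCoatom M)
    (e : M ≃* alternatingGroup (Fin 4)) :
    (∃ r : ℕ, r.Prime ∧ Odd r ∧ p = 3 ∧ Fintype.card F = 3 ^ r) ∨
      (Fintype.card F = p ∧ (p % 8 = 3 ∨ p % 8 = 5) ∧ ¬ (p % 10 = 1 ∨ p % 10 = 9)) := by
  have hp : p.Prime := Fact.out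
  have hpodd : Odd p := hp.odd_of_ne_two hp2
  obtain ⟨k, hk0, hk⟩ := exists_card_pow (F := F) p
  have hoddF : Odd (Fintype.card F) := by rw [hk]; exact hpodd.pow
  have h2F : (2 : F) ≠ 0 := two_ne_zero_of_char p hp2
  have hnsq : ¬ IsSquare (2 : F) := a4_not_sq h2F h4 hM e
  have hmod8 : Fintype.card F % 8 = 3 ∨ Fintype.card F % 8 = 5 := by
    rw [FiniteField.isSquare_two_iff] at hnsq
    omega
  by_cases hk1 : k = 1
  · right
    rw [hk1, pow_one] at hk
    rw [hk] at hmod8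
    exact ⟨hk, hmod8, a4_not_mod10 p hp2 hk hmod8 hM e⟩
  left
  have hk2 : 2 ≤ k := by omega
  obtain ⟨X, Y, hQS, hX, hY, hle, -⟩ := a4_setup h2F h4 hM e
  have hMc := lift_coatom hM
  have hcM : Nat.card M = 12 := by
    rw [Nat.card_congr e.toEquiv]; exact Cfsg.Agent.Lib.Helper28.P2.card_alt4
  have hlt1 : p ^ 1 < Fintype.card F := by
    rw [hk]; exact Nat.pow_lt_pow_right hp.one_lt (by omega)
  have hK1 : fixF F p 1 ≠ ⊤ := fixF_ne_top p one_ne_zero hlt1
  have heq1 : lift M = G1' hQS (fixF F p 1) := coatom_eq hMc (hle _) (G1'_ne_top hQS hK1)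
  obtain ⟨u, hu, hup, hun⟩ := exists_unipotent p hQS
  have hpM : p ∣ Nat.card M := by
    apply p_dvd_card_of_unipotent p _ hup hun
    rw [heq1]; exact G1_le_G1' hQS _ (hu _)
  have hp3 : p = 3 := by
    rw [hcM] at hpM
    have h8 : Nat.Coprime p 4 := by
      have : Nat.Coprime p 2 := (Nat.coprime_primes hp Nat.prime_two).mpr hp2
      exact Nat.Coprime.pow_right 2 this
    have : p ∣ 3 := h8.dvd_of_dvd_mul_left (by simpa using hpM)
    exact (Nat.prime_dvd_prime_iff_eq hp Nat.prime_three).mp this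
  subst hp3
  by_cases hkp : k.Prime
  · refine ⟨k, hkp, ?_, rfl, hk⟩
    rcases Nat.even_or_odd k with hev | hod
    · exfalso
      obtain ⟨i, hi⟩ := hev
      rw [hk, hi, ← two_mul, nine_pow_mod] at hmod8
      omega
    · exact hod
  exfalso
  obtain ⟨n', hn1, hndvd, hnlt⟩ := exists_proper_dvd hk2 hkp
  have hlt2 : 3 ^ n' < Fintype.card F := by
    rw [hk]; exact Nat.pow_lt_pow_right (by norm_num) hnlt
  have hK2 : fixF F 3 n' ≠ ⊤ := fixF_ne_top 3 (by omega) hlt2
  have heq2 : lift M = G1' hQS (fixF F 3 n') := coatom_eq hMc (hle _) (G1'_ne_top hQS hK2)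
  obtain ⟨x, hx', hx⟩ := exists_mem_not_mem (F := F) 3 hk one_ne_zero hn1 hndvd
  obtain ⟨t, ht', ht⟩ := exists_sq_not_mem_rel h2F hx' hx
  obtain ⟨g, hg, hgτ⟩ := exists_trace_G1 hQS (fixF F 3 n') ht'
  have hg' : g ∈ G1' hQS (fixF F 3 1) := by
    rw [← heq1, heq2]; exact G1_le_G1' hQS _ hg
  have h5 := trace_sq_mem_of_G1' hQS hg'
  rw [hgτ] at h5
  exact ht h5

end Cfsg.Agent.Lib.helper6.P2Odd
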