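import Mathlib
import Cfsg.Agent.Lib.helper6.P2OddN
import Cfsg.Agent.S0802
import Cfsg.Agent.S0803

set_option autoImplicit false

namespace Cfsg.Agent.Lib.helper6.P2Odd

open MulAction
open Cfsg.Agent.Lib.helper6.QAlg Cfsg.Agent.S0808 Cfsg.Agent.S0807
open Cfsg.Agent.Lib.helper6.Dickson

/-- a subgroup of prime power order with maximal exponent is a Sylow subgroup -/
theorem exists_sylow_eq {G : Type*} [Group G] [Finite G] (r k : ℕ) [Fact r.Prime]
    (hG : ¬ r ^ (k + 1) ∣ Nat.card G) (R : Subgroup G) (hR : Nat.card R = r ^ k) :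
    ∃ Q : Sylow r G, (Q : Subgroup G) = R := by
  have hr : r.Prime := Fact.out
  obtain ⟨Q, hQ⟩ := IsPGroup.exists_le_sylow (IsPGroup.of_card hR)
  refine ⟨Q, ?_⟩
  symm
  apply Subgroup.eq_of_le_of_card_ge hQ
  rw [hR, Q.card_eq_multiplicity]
  apply Nat.pow_le_pow_right hr.pos
  by_contra hlt
  push Not at hlt
  apply hG
  have h1 : r ^ (Nat.card G).factorization r ∣ Nat.card G := Nat.ordProj_dvd _ _
  exact dvd_trans (pow_dvd_pow r hlt) h1

/-- two subgroups of the same prime power order with maximal exponent are conjugate -/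
theorem exists_conj_of_card {G : Type*} [Group G] [Finite G] (r k : ℕ) [Fact r.Prime]
    (hG : ¬ r ^ (k + 1) ∣ Nat.card G) (R R' : Subgroup G) (hR : Nat.card R = r ^ k)
    (hR' : Nat.card R' = r ^ k) : ∃ g : G, R = R'.map (MulAut.conj g).toMonoidHom := by
  obtain ⟨Q, hQ⟩ := exists_sylow_eq r k hG R hR
  obtain ⟨Q', hQ'⟩ := exists_sylow_eq r k hG R' hR'
  obtain ⟨g, hg⟩ := MulAction.exists_smul_eq G Q' Q
  refine ⟨g, ?_⟩
  rw [← hQ, ← hQ', ← hg]
  rfl

/-- A coatom of a simple group with a normal Sylow subgroup cannot be beaten by the normaliser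
of a Sylow subgroup inside another subgroup. -/
theorem sylow_excl {G : Type*} [Group G] [Finite G] [IsSimpleGroup G] {M : Subgroup G}
    (hM : IsCoatom M) (r k : ℕ) [Fact r.Prime] (R₀ : Subgroup M) (hn : R₀.Normal)
    (hR₀ : Nat.card R₀ = r ^ k) (hk : k ≠ 0) (hG : ¬ r ^ (k + 1) ∣ Nat.card G)
    (H : Subgroup G) (hHr : r ^ k ∣ Nat.card H)
    (hcount : ∀ n, n ∣ Nat.card H → n % r = 1 → Nat.card M * n ≤ Nat.card H)
    (hne : Nat.card H ≠ Nat.card M) (hlt : Nat.card H < Nat.card G) : False := by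
  have hr : r.Prime := Fact.out
  set R : Subgroup G := R₀.map M.subtype with hR
  have hRcard : Nat.card R = r ^ k := by
    rw [hR, Subgroup.card_map_of_injective M.subtype_injective, hR₀]
  have hRM : R ≤ M := by rw [hR]; exact Subgroup.map_subtype_le R₀
  have hMN : M ≤ Subgroup.normalizer (R : Set G) := by
    have h1 := Subgroup.le_normalizer_map (H := R₀) M.subtype
    rw [Subgroup.normalizer_eq_top_iff.mpr hn, ← MonoidHom.range_eq_map,
      Subgroup.range_subtype] at h1
    exact h1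
  have hRne : R ≠ ⊥ := by
    intro hb
    rw [hb, Subgroup.card_bot] at hRcard
    have : 1 < r ^ k := Nat.one_lt_pow hk hr.one_lt
    omega
  have hMeq : M = Subgroup.normalizer (R : Set G) := eq_normalizer_of_le hM hRM hRne hMN
  -- inside `H`
  obtain ⟨P'⟩ : Nonempty (Sylow r H) := inferInstance
  have hHpos : 0 < Nat.card H := Nat.card_pos
  have hP'card : Nat.card P' = r ^ k := by
    rw [P'.card_eq_multiplicity]
    congr 1
    apply le_antisymm
    · by_contra hlt'
      push Not at hlt'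
      apply hG
      have h1 : r ^ (Nat.card H).factorization r ∣ Nat.card H := Nat.ordProj_dvd _ _
      exact dvd_trans (dvd_trans (pow_dvd_pow r hlt') h1) (Subgroup.card_subgroup_dvd_card H)
    · exact (hr.pow_dvd_iff_le_factorization hHpos.ne').mp hHr
  have hmod := card_sylow_modEq_one r H
  have hidx : Nat.card (Sylow r H) =
      (Subgroup.normalizer ((P' : Subgroup H) : Set H)).index :=
    Sylow.card_eq_index_normalizer P'
  have hmul := Subgroup.card_mul_index (Subgroup.normalizer ((P' : Subgroup H) : Set H))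
  rw [← hidx] at hmul
  have hn1 : Nat.card (Sylow r H) % r = 1 := by
    have := hmod
    unfold Nat.ModEq at this
    rw [this, Nat.mod_eq_of_lt hr.one_lt]
  have hc := hcount _ (Dvd.intro_left _ hmul) hn1
  have hnpos : 0 < Nat.card (Sylow r H) := Nat.card_pos
  have hNcard : Nat.card M ≤ Nat.card (Subgroup.normalizer ((P' : Subgroup H) : Set H)) := by
    rw [← hmul] at hc
    exact Nat.le_of_mul_le_mul_right hc hnpos
  -- conjugate
  set R' : Subgroup G := (P' : Subgroup H).map H.subtype with hR'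
  have hR'card : Nat.card R' = r ^ k := by
    rw [hR', Subgroup.card_map_of_injective H.subtype_injective, hP'card]
  obtain ⟨g, hg⟩ := exists_conj_of_card r k hG R R' hRcard hR'card
  set B : Subgroup G := ((Subgroup.normalizer ((P' : Subgroup H) : Set H)).map H.subtype).map
    (MulAut.conj g).toMonoidHom with hB
  have hBcard : Nat.card B = Nat.card (Subgroup.normalizer ((P' : Subgroup H) : Set H)) := by
    rw [hB, Subgroup.card_map_of_injective (MulAut.conj g).injective,
      Subgroup.card_map_of_injective H.subtype_injective]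
  have hBM : B ≤ M := by
    rw [hMeq, hg, ← Subgroup.map_equiv_normalizer_eq, hB]
    exact Subgroup.map_mono (Subgroup.le_normalizer_map H.subtype)
  have hBeq : B = M := Subgroup.eq_of_le_of_card_ge hBM (by rw [hBcard]; exact hNcard)
  have hMH : M ≤ H.map (MulAut.conj g).toMonoidHom := by
    rw [← hBeq, hB]
    apply Subgroup.map_mono
    exact Subgroup.map_subtype_le _
  have hcH : Nat.card (H.map (MulAut.conj g).toMonoidHom) = Nat.card H :=
    Subgroup.card_map_of_injective (MulAut.conj g).injective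
  have hHtop : H.map (MulAut.conj g).toMonoidHom ≠ ⊤ := by
    intro htop
    rw [htop, Subgroup.card_top] at hcH
    omega
  have := coatom_eq hM hMH hHtop
  rw [← this] at hcH
  exact hne hcH.symm

/-- a normal subgroup of prime order in a group of order `2r` -/
theorem exists_normal_of_card_two_mul {M : Type*} [Group M] [Finite M] (r : ℕ) [Fact r.Prime]
    (hM : Nat.card M = 2 * r) : ∃ R₀ : Subgroup M, R₀.Normal ∧ Nat.card R₀ = r ^ 1 := by
  obtain ⟨x, hx⟩ := exists_prime_orderOf_dvd_card' r (by rw [hM]; exact Dvd.intro_left 2 rfl)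
  refine ⟨Subgroup.zpowers x, ?_, by rw [Nat.card_zpowers, hx, pow_one]⟩
  apply Subgroup.normal_of_index_eq_two
  have h1 := Subgroup.card_mul_index (Subgroup.zpowers x)
  rw [Nat.card_zpowers, hx, hM] at h1
  have hr := (Fact.out : r.Prime).pos
  have h2 : r * (Subgroup.zpowers x).index = r * 2 := by rw [h1]; ring
  exact Nat.eq_of_mul_eq_mul_left hr h2

/-- exclusion of a coatom which is a `2`-group -/
theorem excl_two_group {G : Type*} [Group G] [Finite G] [IsSimpleGroup G] {M : Subgroup G}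
    (hM : IsCoatom M) (k : ℕ) (hk : k ≠ 0) (hMc : Nat.card M = 2 ^ k)
    (hG : ¬ 2 ^ (k + 1) ∣ Nat.card G)
    (H : Subgroup G) (hHr : 2 ^ k ∣ Nat.card H)
    (hcount : ∀ n, n ∣ Nat.card H → n % 2 = 1 → Nat.card M * n ≤ Nat.card H)
    (hne : Nat.card H ≠ Nat.card M) (hlt : Nat.card H < Nat.card G) : False :=
  haveI : Fact (Nat.Prime 2) := ⟨Nat.prime_two⟩
  sylow_excl hM 2 k ⊤ inferInstance (by rw [Subgroup.card_top, hMc]) hk hG H hHr hcount hne hlt

/-- exclusion of a coatom of order `2r` -/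
theorem excl_two_mul {G : Type*} [Group G] [Finite G] [IsSimpleGroup G] {M : Subgroup G}
    (hM : IsCoatom M) (r : ℕ) [Fact r.Prime] (hMc : Nat.card M = 2 * r)
    (hG : ¬ r ^ (1 + 1) ∣ Nat.card G)
    (H : Subgroup G) (hHr : r ^ 1 ∣ Nat.card H)
    (hcount : ∀ n, n ∣ Nat.card H → n % r = 1 → Nat.card M * n ≤ Nat.card H)
    (hne : Nat.card H ≠ Nat.card M) (hlt : Nat.card H < Nat.card G) : False := by
  obtain ⟨R₀, hn, hR₀⟩ := exists_normal_of_card_two_mul r hMc
  exact sylow_excl hM r 1 R₀ hn hR₀ one_ne_zero hG H hHr hcount hne hlt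

variable {F : Type*} [Field F] [Fintype F]

set_option maxHeartbeats 800000 in
/-- the small dihedral groups which are not maximal -/
theorem small_excl (p : ℕ) [Fact p.Prime] [CharP F p] (hp2 : p ≠ 2)
    {M : Subgroup (Matrix.ProjectiveSpecialLinearGroup (Fin 2) F)} (hM : IsCoatom M) :
    ¬ ((Fintype.card F = 5 ∧ Nat.card M = 4) ∨ (Fintype.card F = 7 ∧ Nat.card M = 6) ∨
      (Fintype.card F = 7 ∧ Nat.card M = 8) ∨ (Fintype.card F = 9 ∧ Nat.card M = 8) ∨
      (Fintype.card F = 9 ∧ Nat.card M = 10) ∨ (Fintype.card F = 11 ∧ Nat.card M = 10)) := by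
  intro hcases
  have hp : p.Prime := Fact.out
  have hpodd : Odd p := hp.odd_of_ne_two hp2
  obtain ⟨k, hk0, hk⟩ := exists_card_pow (F := F) p
  have hoddF : Odd (Fintype.card F) := by rw [hk]; exact hpodd.pow
  have h4 : 4 ≤ Fintype.card F := by
    rcases hcases with h | h | h | h | h | h <;> omega
  haveI : IsSimpleGroup (Matrix.ProjectiveSpecialLinearGroup (Fin 2) F) :=
    Matrix.ProjectiveSpecialLinearGroup.rank_two_simple (by
      rw [Nat.card_eq_fintype_card]; exact h4)
  have hcG := two_mul_card_psl2 hoddF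
  have hA4 : ∃ H : Subgroup (Matrix.ProjectiveSpecialLinearGroup (Fin 2) F), Nat.card H = 12 := by
    obtain ⟨H, ⟨eH⟩⟩ := (Cfsg.Agent.S0802.result (F := F) p k hk).mpr (fun h => hp2 h.1)
    exact ⟨H, by rw [Nat.card_congr eH.toEquiv]; exact Cfsg.Agent.Lib.Helper28.P2.card_alt4⟩
  have hS4 : Fintype.card F ^ 2 % 16 = 1 →
      ∃ H : Subgroup (Matrix.ProjectiveSpecialLinearGroup (Fin 2) F), Nat.card H = 24 := by
    intro h16
    obtain ⟨H, ⟨eH⟩⟩ := (Cfsg.Agent.S0803.result (F := F) rfl).mpr h16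
    refine ⟨H, ?_⟩
    rw [Nat.card_congr eH.toEquiv, Nat.card_eq_fintype_card, Fintype.card_perm, Fintype.card_fin]
    rfl
  have hA5 : 5 ∣ Fintype.card F * (Fintype.card F ^ 2 - 1) →
      ∃ H : Subgroup (Matrix.ProjectiveSpecialLinearGroup (Fin 2) F), Nat.card H = 60 := by
    intro h5
    obtain ⟨H, ⟨eH⟩⟩ := (Cfsg.Agent.S0804.result (F := F) rfl).mpr h5
    exact ⟨H, by rw [Nat.card_congr eH.toEquiv]; exact Cfsg.Agent.Lib.Helper28.P2.card_alt5⟩
  have hc12 : ∀ n, n ∣ 12 → n % 2 = 1 → 4 * n ≤ 12 := by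
    intro n hn hmod
    have := Nat.le_of_dvd (by norm_num) hn
    interval_cases n <;> omega
  have hc24 : ∀ n, n ∣ 24 → n % 2 = 1 → 8 * n ≤ 24 := by
    intro n hn hmod
    have := Nat.le_of_dvd (by norm_num) hn
    interval_cases n <;> omega
  have hc24' : ∀ n, n ∣ 24 → n % 3 = 1 → 6 * n ≤ 24 := by
    intro n hn hmod
    have := Nat.le_of_dvd (by norm_num) hn
    interval_cases n <;> omega
  have hc60 : ∀ n, n ∣ 60 → n % 5 = 1 → 10 * n ≤ 60 := by
    intro n hn hmod
    have := Nat.le_of_dvd (by norm_num) hn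
    interval_cases n <;> omega
  haveI : Fact (Nat.Prime 3) := ⟨Nat.prime_three⟩
  haveI : Fact (Nat.Prime 5) := ⟨Nat.prime_five⟩
  rcases hcases with ⟨hq, hm⟩ | ⟨hq, hm⟩ | ⟨hq, hm⟩ | ⟨hq, hm⟩ | ⟨hq, hm⟩ | ⟨hq, hm⟩
  · -- q = 5, |M| = 4
    rw [hq] at hcG
    have hG : Nat.card (Matrix.ProjectiveSpecialLinearGroup (Fin 2) F) = 60 := by omega
    obtain ⟨H, hH⟩ := hA4
    exact excl_two_group hM 2 two_ne_zero (by rw [hm]; norm_num) (by rw [hG]; norm_num) H
      (by rw [hH]; norm_num) (by rw [hH, hm]; exact hc12) (by rw [hH, hm]; norm_num)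
      (by rw [hH, hG]; norm_num)
  · -- q = 7, |M| = 6
    rw [hq] at hcG
    have hG : Nat.card (Matrix.ProjectiveSpecialLinearGroup (Fin 2) F) = 168 := by omega
    obtain ⟨H, hH⟩ := hS4 (by rw [hq]; norm_num)
    exact excl_two_mul hM 3 (by rw [hm]) (by rw [hG]; norm_num) H
      (by rw [hH]; norm_num) (by rw [hH, hm]; exact hc24') (by rw [hH, hm]; norm_num)
      (by rw [hH, hG]; norm_num)
  · -- q = 7, |M| = 8
    rw [hq] at hcG
    have hG : Nat.card (Matrix.ProjectiveSpecialLinearGroup (Fin 2) F) = 168 := by omega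
    obtain ⟨H, hH⟩ := hS4 (by rw [hq]; norm_num)
    exact excl_two_group hM 3 (by norm_num) (by rw [hm]; norm_num) (by rw [hG]; norm_num) H
      (by rw [hH]; norm_num) (by rw [hH, hm]; exact hc24) (by rw [hH, hm]; norm_num)
      (by rw [hH, hG]; norm_num)
  · -- q = 9, |M| = 8
    rw [hq] at hcG
    have hG : Nat.card (Matrix.ProjectiveSpecialLinearGroup (Fin 2) F) = 360 := by omega
    obtain ⟨H, hH⟩ := hS4 (by rw [hq]; norm_num)
    exact excl_two_group hM 3 (by norm_num) (by rw [hm]; norm_num) (by rw [hG]; norm_num) H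
      (by rw [hH]; norm_num) (by rw [hH, hm]; exact hc24) (by rw [hH, hm]; norm_num)
      (by rw [hH, hG]; norm_num)
  · -- q = 9, |M| = 10
    rw [hq] at hcG
    have hG : Nat.card (Matrix.ProjectiveSpecialLinearGroup (Fin 2) F) = 360 := by omega
    obtain ⟨H, hH⟩ := hA5 (by rw [hq]; norm_num)
    exact excl_two_mul hM 5 (by rw [hm]) (by rw [hG]; norm_num) H
      (by rw [hH]; norm_num) (by rw [hH, hm]; exact hc60) (by rw [hH, hm]; norm_num)
      (by rw [hH, hG]; norm_num)
  · -- q = 11, |M| = 10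
    rw [hq] at hcG
    have hG : Nat.card (Matrix.ProjectiveSpecialLinearGroup (Fin 2) F) = 660 := by omega
    obtain ⟨H, hH⟩ := hA5 (by rw [hq]; norm_num)
    exact excl_two_mul hM 5 (by rw [hm]) (by rw [hG]; norm_num) H
      (by rw [hH]; norm_num) (by rw [hH, hm]; exact hc60) (by rw [hH, hm]; norm_num)
      (by rw [hH, hG]; norm_num)

end Cfsg.Agent.Lib.helper6.P2Odd
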