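import Mathlib
import Cfsg.Agent.Lib.Helper22.PG.Defs

set_option autoImplicit false

namespace Cfsg.Agent.Lib.Helper22.PG

open Subgroup

theorem h6_dvd_720_mod (n : ℕ) (h1 : n ∣ 720) (h2 : n % 11 = 1) :
    n = 1 ∨ n = 12 ∨ n = 45 ∨ n = 144 := by
  have hmem : n ∈ (Nat.divisors 720).filter (fun d => d % 11 = 1) := by
    rw [Finset.mem_filter, Nat.mem_divisors]
    exact ⟨⟨h1, by norm_num⟩, h2⟩
  have hset : (Nat.divisors 720).filter (fun d => d % 11 = 1) = {1, 12, 45, 144} := by
    decide +kernel
  rw [hset] at hmem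
  simpa using hmem

/-- PG-A0 : the possible numbers of Sylow 11-subgroups -/
theorem n11_cases {G : Type*} [Group G] [Finite G] (hord : Nat.card G = 7920) :
    Nat.card (Sylow 11 G) = 1 ∨ Nat.card (Sylow 11 G) = 12 ∨ Nat.card (Sylow 11 G) = 45 ∨
      Nat.card (Sylow 11 G) = 144 := by
  obtain ⟨P⟩ : Nonempty (Sylow 11 G) := inferInstance
  have hfac : (7920 : ℕ).factorization 11 = 1 := by
    have h7920 : (7920 : ℕ) = 11 ^ 1 * 720 := by norm_num
    rw [h7920, Nat.factorization_mul (by norm_num) (by norm_num)]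
    have h720 : (720 : ℕ).factorization 11 = 0 :=
      Nat.factorization_eq_zero_of_not_dvd (by norm_num)
    have h11 : (11 : ℕ).factorization 11 = 1 := Nat.Prime.factorization_self (by norm_num)
    simp [h720, h11]
  have hP : Nat.card P = 11 := by
    rw [Sylow.card_eq_multiplicity, hord, hfac, pow_one]
  have hidx : (P : Subgroup G).index = 720 := by
    have := (P : Subgroup G).card_mul_index
    rw [hord, hP] at this
    omega
  have h1 : Nat.card (Sylow 11 G) ∣ 720 := by
    rw [← hidx]
    exact Sylow.card_dvd_index P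
  have h2 : Nat.card (Sylow 11 G) % 11 = 1 := by
    have := card_sylow_modEq_one 11 G
    exact this
  exact h6_dvd_720_mod _ h1 h2

end Cfsg.Agent.Lib.Helper22.PG
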