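import Mathlib
import Cfsg.Agent.Lib.Helper22.PG.Defs

set_option autoImplicit false

namespace Cfsg.Agent.Lib.Helper22.PG

open Subgroup

theorem h6_prime_dvd_7920 (a : ℕ) (ha : a.Prime) (hd : a ∣ 7920) :
    a = 2 ∨ a = 3 ∨ a = 5 ∨ a = 11 := by
  have h : (7920 : ℕ) = 2 ^ 4 * 3 ^ 2 * 5 * 11 := by norm_num
  rw [h] at hd
  rcases (Nat.Prime.dvd_mul ha).mp hd with hd | hd
  · rcases (Nat.Prime.dvd_mul ha).mp hd with hd | hd
    · rcases (Nat.Prime.dvd_mul ha).mp hd with hd | hd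
      · left
        exact (Nat.prime_dvd_prime_iff_eq ha (by norm_num)).mp (ha.dvd_of_dvd_pow hd)
      · right; left
        exact (Nat.prime_dvd_prime_iff_eq ha (by norm_num)).mp (ha.dvd_of_dvd_pow hd)
    · right; right; left
      exact (Nat.prime_dvd_prime_iff_eq ha (by norm_num)).mp hd
  · right; right; right
    exact (Nat.prime_dvd_prime_iff_eq ha (by norm_num)).mp hd

/-- PG-FIN : a connected prime graph contradicts the hypothesis of S2490 -/
theorem false_of_conn {G : Type*} [Group G] [Finite G] (hord : Nat.card G = 7920) (hc : Conn G)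
    (hdisc : (∃ A : Set ℕ, (∃ a ∈ A, a.Prime ∧ a ∣ Nat.card G) ∧
      (∃ b ∉ A, b.Prime ∧ b ∣ Nat.card G) ∧
      ∀ a ∈ A, ∀ b ∉ A, a.Prime → b.Prime → a ∣ Nat.card G → b ∣ Nat.card G →
        ¬ ∃ g : G, orderOf g = a * b)) : False := by
  obtain ⟨A, ⟨a, haA, hap, had⟩, ⟨b, hbA, hbp, hbd⟩, hno⟩ := hdisc
  rw [hord] at had hbd
  have hd : ∀ p : ℕ, p = 2 ∨ p = 3 ∨ p = 5 ∨ p = 11 → p.Prime ∧ p ∣ Nat.card G := by
    intro p hp
    rw [hord]
    rcases hp with rfl | rfl | rfl | rfl <;> norm_num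
  have key : ∀ p q : ℕ, (p = 2 ∨ p = 3 ∨ p = 5 ∨ p = 11) → (q = 2 ∨ q = 3 ∨ q = 5 ∨ q = 11) →
      Adj G p q → (p ∈ A ↔ q ∈ A) := by
    intro p q hp hq hadj
    obtain ⟨g, hg⟩ := hadj
    constructor
    · intro hpA
      by_contra hqA
      exact hno p hpA q hqA (hd p hp).1 (hd q hq).1 (hd p hp).2 (hd q hq).2 ⟨g, hg⟩
    · intro hqA
      by_contra hpA
      exact hno q hqA p hpA (hd q hq).1 (hd p hp).1 (hd q hq).2 (hd p hp).2 ⟨g, by rw [hg, mul_comm]⟩
  obtain ⟨h112, h113, h5⟩ := hc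
  have e2 : 11 ∈ A ↔ 2 ∈ A := key 11 2 (by norm_num) (by norm_num) h112
  have e3 : 11 ∈ A ↔ 3 ∈ A := key 11 3 (by norm_num) (by norm_num) h113
  have e5 : 11 ∈ A ↔ 5 ∈ A := by
    rcases h5 with h5 | h5
    · exact key 11 5 (by norm_num) (by norm_num) h5
    · have := key 5 3 (by norm_num) (by norm_num) h5
      exact e3.trans this.symm
  have ha4 := h6_prime_dvd_7920 a hap had
  have hb4 := h6_prime_dvd_7920 b hbp hbd
  have h11A : 11 ∈ A := by
    rcases ha4 with rfl | rfl | rfl | rfl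
    · exact e2.mpr haA
    · exact e3.mpr haA
    · exact e5.mpr haA
    · exact haA
  rcases hb4 with rfl | rfl | rfl | rfl
  · exact hbA (e2.mp h11A)
  · exact hbA (e3.mp h11A)
  · exact hbA (e5.mp h11A)
  · exact hbA h11A

end Cfsg.Agent.Lib.Helper22.PG
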