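import Mathlib
import Cfsg.Agent.Lib.Helper28.P2Card

set_option autoImplicit false

namespace Cfsg.Agent.Lib.helper6.PGL23

open scoped LinearAlgebra.Projectivization MatrixGroups
open Matrix.ProjGenLinGroup Projectivization

variable {K : Type*} [Field K]

/-- the action of `PGL₂(K)` on the projective line is faithful -/
theorem pgl2_faithful (t : Matrix.ProjGenLinGroup (Fin 2) K)
    (h : ∀ x : ℙ K (Fin 2 → K), t • x = x) : t = 1 := by
  obtain ⟨g, rfl⟩ := Matrix.ProjGenLinGroup.mk_surjective t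
  have key : ∀ v : Fin 2 → K, v ≠ 0 → ∃ a : Kˣ, a • v = g • v := by
    intro v hv
    have h1 := h (Projectivization.mk K v hv)
    rw [PGL.mk_smul_mk, Projectivization.mk_eq_mk_iff] at h1
    obtain ⟨a, ha⟩ := h1
    exact ⟨a, ha⟩
  have hsm : ∀ v : Fin 2 → K, g • v = (g : Matrix (Fin 2) (Fin 2) K).mulVec v := fun v => rfl
  have e0 : (![1, 0] : Fin 2 → K) ≠ 0 := by
    intro hc; have := congrFun hc 0; simp at this
  have e1 : (![0, 1] : Fin 2 → K) ≠ 0 := by
    intro hc; have := congrFun hc 1; simp at this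
  have e2 : (![1, 1] : Fin 2 → K) ≠ 0 := by
    intro hc; have := congrFun hc 0; simp at this
  obtain ⟨a, ha⟩ := key _ e0
  obtain ⟨b, hb⟩ := key _ e1
  obtain ⟨c, hc⟩ := key _ e2
  rw [hsm] at ha hb hc
  have ha0 := congrFun ha 0
  have ha1 := congrFun ha 1
  have hb0 := congrFun hb 0
  have hb1 := congrFun hb 1
  have hc0 := congrFun hc 0
  have hc1 := congrFun hc 1
  simp [Matrix.mulVec, dotProduct, Fin.sum_univ_two, Units.smul_def] at ha0 ha1 hb0 hb1 hc0 hc1
  have hg : g = Matrix.GeneralLinearGroup.scalar (Fin 2) a := by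
    apply Matrix.GeneralLinearGroup.ext
    intro i j
    rw [Matrix.GeneralLinearGroup.coe_scalar]
    fin_cases i <;> fin_cases j <;> simp
    · exact ha0.symm
    · exact hb0.symm
    · exact ha1.symm
    · rw [← hb1]
      have : (c : K) = a := by rw [hc0, ← ha0, ← hb0]; ring
      have h2 : (c : K) = b := by rw [hc1, ← ha1, ← hb1]; ring
      rw [← this, h2]
  rw [hg]
  exact Matrix.ProjGenLinGroup.mk_scalar a

/-- `S₄ ≅ PGL₂(3)` -/
theorem perm4_equiv_pgl2 :
    Nonempty (Equiv.Perm (Fin 4) ≃* Matrix.ProjGenLinGroup (Fin 2) (ZMod 3)) := by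
  classical
  haveI : Fact (Nat.Prime 3) := ⟨by norm_num⟩
  let φ : Matrix.ProjGenLinGroup (Fin 2) (ZMod 3) →* Equiv.Perm (ℙ (ZMod 3) (Fin 2 → ZMod 3)) :=
    MulAction.toPermHom _ _
  have hφ : Function.Injective φ := by
    rw [injective_iff_map_eq_one]
    intro t ht
    apply pgl2_faithful
    intro x
    have := congrArg (fun σ : Equiv.Perm (ℙ (ZMod 3) (Fin 2 → ZMod 3)) => σ x) ht
    simpa [φ] using this
  have hcardP : Nat.card (ℙ (ZMod 3) (Fin 2 → ZMod 3)) = 4 := by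
    have h2 : Module.finrank (ZMod 3) (Fin 2 → ZMod 3) = 2 := by simp
    rw [Projectivization.card_of_finrank_two (ZMod 3) (Fin 2 → ZMod 3) h2,
      Nat.card_eq_fintype_card, ZMod.card]
  obtain ⟨ε⟩ : Nonempty (ℙ (ZMod 3) (Fin 2 → ZMod 3) ≃ Fin 4) := by
    haveI : Finite (ℙ (ZMod 3) (Fin 2 → ZMod 3)) := Nat.finite_of_card_ne_zero (by omega)
    exact ⟨Finite.equivFinOfCardEq hcardP⟩
  let ψ : Matrix.ProjGenLinGroup (Fin 2) (ZMod 3) →* Equiv.Perm (Fin 4) :=
    ε.permCongrHom.toMonoidHom.comp φ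
  have hψ : Function.Injective ψ := ε.permCongrHom.injective.comp hφ
  have hc1 : Nat.card (Matrix.ProjGenLinGroup (Fin 2) (ZMod 3)) = 24 := by
    rw [Cfsg.Agent.Lib.Helper28.P2.card_pgl2, ZMod.card]; rfl
  have hc2 : Nat.card (Equiv.Perm (Fin 4)) = 24 := by
    rw [Nat.card_eq_fintype_card, Fintype.card_perm, Fintype.card_fin]; rfl
  haveI : Finite (Matrix.ProjGenLinGroup (Fin 2) (ZMod 3)) := Nat.finite_of_card_ne_zero (by omega)
  have hbij : Function.Bijective ψ :=
    (Nat.bijective_iff_injective_and_card ψ).mpr ⟨hψ, by rw [hc1, hc2]⟩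
  exact ⟨(MulEquiv.ofBijective ψ hbij).symm⟩

end Cfsg.Agent.Lib.helper6.PGL23
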