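import Mathlib

set_option autoImplicit false

/-!
# An embedding of `PGL₂(F)` into `PSL₂(E)` for a quadratic extension `E` of a finite field `F`
-/

namespace Cfsg.Agent.Lib.helper6.PGLx

open Matrix

section Emb

variable {F E : Type*} [Field F] [Field E] (f : F →+* E)

/-- the base change `PGL₂(F) → PGL₂(E)` is injective -/
theorem pgl_map_injective :
    Function.Injective (Matrix.ProjGenLinGroup.map (n := Fin 2) f) := by
  rw [injective_iff_map_eq_one]
  intro x hx
  induction x using Matrix.ProjGenLinGroup.induction_on with | mk h =>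
  rw [Matrix.ProjGenLinGroup.map_mk, Matrix.ProjGenLinGroup.mk_eq_one,
    Matrix.GeneralLinearGroup.center_eq_range_scalar] at hx
  obtain ⟨u, hu⟩ := hx
  rw [Matrix.ProjGenLinGroup.mk_eq_one, Matrix.GeneralLinearGroup.center_eq_range_scalar]
  have hent : ∀ i j : Fin 2, (Matrix.scalar (Fin 2) (u : E)) i j = f (h i j) := by
    intro i j
    have := congrArg (fun g : GL (Fin 2) E => g i j) hu
    simpa using this
  have h01 : h 0 1 = 0 := by
    have := hent 0 1
    simp at this
    exact (map_eq_zero f).mp this.symm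
  have h10 : h 1 0 = 0 := by
    have := hent 1 0
    simp at this
    exact (map_eq_zero f).mp this.symm
  have h00 : f (h 0 0) = u := by
    have := hent 0 0
    simp at this
    exact this.symm
  have h11 : f (h 1 1) = u := by
    have := hent 1 1
    simp at this
    exact this.symm
  have heq : h 0 0 = h 1 1 := f.injective (by rw [h00, h11])
  have hne : h 0 0 ≠ 0 := by
    intro h0
    rw [h0, map_zero] at h00
    exact u.ne_zero h00.symm
  refine ⟨Units.mk0 (h 0 0) hne, ?_⟩
  apply Units.ext
  ext i j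
  fin_cases i <;> fin_cases j <;> simp [h01, h10, heq]


/-- if determinants become squares, the base change of `PGL₂(F)` lands in the image of `PSL₂(E)` -/
theorem pgl_map_range_le (hsq : ∀ x : F, IsSquare (f x)) :
    (Matrix.ProjGenLinGroup.map (n := Fin 2) f).range ≤
      (Matrix.ProjectiveSpecialLinearGroup.toPGL (n := Fin 2) (R := E)).range := by
  rintro _ ⟨x, rfl⟩
  induction x using Matrix.ProjGenLinGroup.induction_on with | mk h =>
  obtain ⟨δ, hδ⟩ := hsq ((Matrix.GeneralLinearGroup.det h : Fˣ) : F)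
  have hdet0 : f ((Matrix.GeneralLinearGroup.det h : Fˣ) : F) ≠ 0 :=
    (map_ne_zero f).mpr (Units.ne_zero _)
  have hδ0 : δ ≠ 0 := by
    rintro rfl
    rw [mul_zero] at hδ
    exact hdet0 hδ
  have hdet : (δ⁻¹ • ((Matrix.GeneralLinearGroup.map f h : GL (Fin 2) E) :
      Matrix (Fin 2) (Fin 2) E)).det = 1 := by
    rw [Matrix.det_smul, Fintype.card_fin]
    have h1 : ((Matrix.GeneralLinearGroup.map f h : GL (Fin 2) E) :
        Matrix (Fin 2) (Fin 2) E).det = f ((Matrix.GeneralLinearGroup.det h : Fˣ) : F) := by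
      have := Matrix.GeneralLinearGroup.map_det (n := Fin 2) f h
      have h2 := congrArg (fun u : Eˣ => (u : E)) this
      simpa using h2
    rw [h1, hδ]
    field_simp
  obtain ⟨g, hg⟩ : ∃ g : Matrix.SpecialLinearGroup (Fin 2) E, (g : Matrix (Fin 2) (Fin 2) E) =
      δ⁻¹ • ((Matrix.GeneralLinearGroup.map f h : GL (Fin 2) E) : Matrix (Fin 2) (Fin 2) E) :=
    ⟨⟨_, hdet⟩, rfl⟩
  refine ⟨QuotientGroup.mk g, ?_⟩
  rw [Matrix.ProjectiveSpecialLinearGroup.toPGL_mk, Matrix.ProjGenLinGroup.map_mk,
    Matrix.ProjGenLinGroup.mk_eq_mk_iff]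
  refine ⟨Units.mk0 δ hδ0, ?_⟩
  apply Units.ext
  ext i j
  have hgij : (g : Matrix (Fin 2) (Fin 2) E) i j = δ⁻¹ * f (h i j) := by
    rw [hg]; rfl
  have h1 : ((Matrix.SpecialLinearGroup.toGL g * Matrix.GeneralLinearGroup.scalar (Fin 2)
      (Units.mk0 δ hδ0) : GL (Fin 2) E) : Matrix (Fin 2) (Fin 2) E) i j =
      (g : Matrix (Fin 2) (Fin 2) E) i j * δ := by
    simp [Matrix.mul_apply, Fin.sum_univ_two, Matrix.diagonal_apply]
  rw [h1, hgij]
  show δ⁻¹ * f (h i j) * δ = f (h i j)
  field_simp

/-- the embedding of `PGL₂(F)` into `PSL₂(E)` -/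
noncomputable def pglEmb (hsq : ∀ x : F, IsSquare (f x)) :
    Matrix.ProjGenLinGroup (Fin 2) F →* Matrix.ProjectiveSpecialLinearGroup (Fin 2) E :=
  (MonoidHom.ofInjective
    (Matrix.ProjectiveSpecialLinearGroup.toPGL_injective (n := Fin 2) (R := E))).symm.toMonoidHom.comp
    ((Matrix.ProjGenLinGroup.map (n := Fin 2) f).codRestrict _
      (fun x => pgl_map_range_le f hsq ⟨x, rfl⟩))

theorem toPGL_pglEmb (hsq : ∀ x : F, IsSquare (f x)) (x : Matrix.ProjGenLinGroup (Fin 2) F) :
    Matrix.ProjectiveSpecialLinearGroup.toPGL (pglEmb f hsq x) =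
      Matrix.ProjGenLinGroup.map (n := Fin 2) f x := by
  unfold pglEmb
  simp only [MonoidHom.coe_comp, MulEquiv.coe_toMonoidHom, Function.comp_apply]
  exact MonoidHom.apply_ofInjective_symm
    (Matrix.ProjectiveSpecialLinearGroup.toPGL_injective (n := Fin 2) (R := E)) _

theorem pglEmb_injective (hsq : ∀ x : F, IsSquare (f x)) :
    Function.Injective (pglEmb f hsq) := by
  intro x y hxy
  apply pgl_map_injective f
  rw [← toPGL_pglEmb f hsq, ← toPGL_pglEmb f hsq, hxy]

end Emb

/-- elements of a finite field of odd order `q` become squares in a field of order `q²` -/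
theorem isSquare_map_of_card_sq {F E : Type*} [Field F] [Fintype F] [Field E] [Fintype E]
    (f : F →+* E) (hodd : Odd (Fintype.card F)) (hE : Fintype.card E = Fintype.card F ^ 2)
    (x : F) : IsSquare (f x) := by
  by_cases hx : x = 0
  · rw [hx, map_zero]; exact IsSquare.zero
  have hy : f x ≠ 0 := (map_ne_zero f).mpr hx
  have hchar : ringChar E ≠ 2 := by
    intro h2
    have := FiniteField.even_card_of_char_two h2
    rw [hE] at this
    have h3 : Odd (Fintype.card F ^ 2) := hodd.pow
    rw [Nat.odd_iff] at h3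
    omega
  rw [FiniteField.isSquare_iff hchar hy, hE]
  obtain ⟨t, ht⟩ := hodd
  have e1 : Fintype.card F ^ 2 / 2 = (Fintype.card F - 1) * (t + 1) := by
    rw [ht, Nat.add_sub_cancel]
    have : (2 * t + 1) ^ 2 = 2 * (2 * t * (t + 1)) + 1 := by ring
    rw [this]
    omega
  rw [e1, pow_mul, ← map_pow, FiniteField.pow_card_sub_one_eq_one x hx, map_one, one_pow]

/-- `PGL₂(F)` embeds into `PSL₂(E)` for a finite field `E` of the same characteristic -/
theorem exists_pgl_emb {F : Type*} [Field F] [Fintype F] (p : ℕ) [Fact p.Prime] [CharP F p]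
    (hodd : Odd (Fintype.card F)) :
    ∃ (E : Type) (_ : Field E) (_ : Fintype E) (_ : CharP E p)
      (ι : Matrix.ProjGenLinGroup (Fin 2) F →* Matrix.ProjectiveSpecialLinearGroup (Fin 2) E),
      Function.Injective ι := by
  haveI : Fintype (FiniteField.Extension F p 2) := Fintype.ofFinite _
  have hcp : CharP (FiniteField.Extension F p 2) p :=
    charP_of_injective_algebraMap (algebraMap F (FiniteField.Extension F p 2)).injective p
  have hE : Fintype.card (FiniteField.Extension F p 2) = Fintype.card F ^ 2 := by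
    have := FiniteField.natCard_extension F p 2
    rwa [Nat.card_eq_fintype_card, Nat.card_eq_fintype_card] at this
  have hsq := isSquare_map_of_card_sq (algebraMap F (FiniteField.Extension F p 2)) hodd hE
  exact ⟨FiniteField.Extension F p 2, inferInstance, inferInstance, hcp, pglEmb _ hsq,
    pglEmb_injective _ hsq⟩

end Cfsg.Agent.Lib.helper6.PGLx
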