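import Mathlib
import Cfsg.Agent.Lib.helper6.PGLa
import Cfsg.Agent.Lib.helper6.P2OddO

set_option autoImplicit false

namespace Cfsg.Agent.Lib.helper6.PGLx

open MulAction Cfsg.Agent.Lib.helper6.Dickson

section Comap

variable {L H X : Type*} [Group L] [Group H] [MulAction L X] {p : ℕ}

/-- parabolic elements along a pulled-back action -/
theorem isPar_comap (f : H →* L) (hf : Function.Injective f) (x : X) (h : H) :
    letI : MulAction H X := MulAction.compHom X f
    IsPar x h ↔ IsPar x (f h) := by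
  letI : MulAction H X := MulAction.compHom X f
  unfold IsPar
  constructor
  · rintro ⟨h1, h2, h3⟩
    exact ⟨fun hc => h1 (hf (by rw [hc, map_one])), h2, h3⟩
  · rintro ⟨h1, h2, h3⟩
    exact ⟨fun hc => h1 (by rw [hc, map_one]), h2, h3⟩

/-- the abstract Dickson data pull back along an injective homomorphism -/
theorem dk_comap (D : DAct L X p) (f : H →* L) (hf : Function.Injective f) :
    @DAct H X _ (MulAction.compHom X f) p := by
  letI : MulAction H X := MulAction.compHom X f
  have hone : ∀ h : H, f h = 1 → h = 1 := fun h hh => hf (by rw [hh, map_one])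
  refine
    { faithful := fun h hh => hone h (D.faithful (f h) hh)
      fix_exists := fun h => D.fix_exists (f h)
      fix_le_two := fun h h1 x y z hx hy hz =>
        D.fix_le_two (f h) (fun hc => h1 (hone h hc)) x y z hx hy hz
      par_mul := ?_
      par_comm := ?_
      par_pow := ?_
      stab_comm := ?_
      two_cyc := ?_
      two_coprime := ?_ }
  · intro x h k hh hk
    rcases D.par_mul x (f h) (f k) ((isPar_comap f hf x h).mp hh) ((isPar_comap f hf x k).mp hk)
      with h1 | h1
    · left; apply hone; rw [map_mul]; exact h1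
    · right; rw [isPar_comap f hf, map_mul]; exact h1
  · intro x h k hh hk
    apply hf
    rw [map_mul, map_mul]
    exact D.par_comm x (f h) (f k) ((isPar_comap f hf x h).mp hh) ((isPar_comap f hf x k).mp hk)
  · intro x h hh
    apply hone
    rw [map_pow]
    exact D.par_pow x (f h) ((isPar_comap f hf x h).mp hh)
  · intro x h k hh hk
    rcases D.stab_comm x (f h) (f k) hh hk with h1 | h1
    · left; apply hone; rw [map_mul, map_mul, map_mul, map_inv, map_inv]; exact h1
    · right; rw [isPar_comap f hf, map_mul, map_mul, map_mul, map_inv, map_inv]; exact h1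
  · intro x y hxy
    haveI := D.two_cyc x y hxy
    let φ : ↥(stabilizer H x ⊓ stabilizer H y : Subgroup H) →*
        ↥(stabilizer L x ⊓ stabilizer L y : Subgroup L) :=
      { toFun := fun k => ⟨f (k : H), by
          have hk := Subgroup.mem_inf.mp k.2
          exact Subgroup.mem_inf.mpr ⟨mem_stabilizer_iff.mpr (mem_stabilizer_iff.mp hk.1),
            mem_stabilizer_iff.mpr (mem_stabilizer_iff.mp hk.2)⟩⟩
        map_one' := Subtype.ext (map_one f)
        map_mul' := fun a b => Subtype.ext (map_mul f _ _) }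
    apply isCyclic_of_injective φ
    intro a b hab
    have h1 := congrArg Subtype.val hab
    exact Subtype.ext (hf h1)
  · intro x y h hxy hx hy hp
    apply hone
    apply D.two_coprime x y (f h) hxy hx hy
    rw [← map_pow, hp, map_one]

end Comap

open DAct in
theorem full_of_card' {L X : Type*} [Group L] [Finite L] [MulAction L X] {p : ℕ} [Fact p.Prime]
    (D : DAct L X p) {q d : ℕ} (hq4 : 4 ≤ q) (hd : d = 1 ∨ d = 2)
    (hcard : Nat.card L * d = q * (q ^ 2 - 1))
    (hQ : ∀ x : X, D.Q x ≠ ⊥ → Nat.card (D.Q x) = q)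
    (hex : ∃ x : X, D.Q x ≠ ⊥)
    (hnofix : ∀ x : X, ∃ g : L, g • x ≠ x)
    (hno2 : ∀ x : X, D.Q x = ⊥ → (stabilizer L x).index ≠ 2) :
    ∃ r s : X, Full D q d r s := by
  classical
  haveI : Fintype L := Fintype.ofFinite L
  have hgc : Nat.card L = Fintype.card L := Nat.card_eq_fintype_card
  have hfix1 : ∀ r ∈ D.R, D.nn r ≠ 1 := by
    intro r hr hn1
    obtain ⟨g, hg⟩ := hnofix r
    apply hg
    apply D.fixes_of_card_stab
    have := D.nn_mul hr
    rw [hn1, one_mul] at this
    rw [this, hgc]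
  rcases D.first_level with h | h | h | h | h
  · exfalso
    rw [← hgc] at h
    rw [h, one_mul] at hcard
    have h1 : 4 * (4 ^ 2 - 1) ≤ q * (q ^ 2 - 1) :=
      Nat.mul_le_mul hq4 (Nat.sub_le_sub_right (Nat.pow_le_pow_left hq4 2) 1)
    omega
  · obtain ⟨r, hr, hn1, -⟩ := h
    exact absurd hn1 (hfix1 r hr)
  · obtain ⟨r, hr, s, hs, -, hn1, -⟩ := h
    exact absurd hn1 (hfix1 r hr)
  · obtain ⟨r, hr, s, hs, hrs, hR, hq, hq', hn2, hsum⟩ := h
    have hQs : D.Q s = ⊥ := Subgroup.card_eq_one.mp hq'
    have hQr : D.Q r ≠ ⊥ := fun hb => hq (by rw [hb, Subgroup.card_bot])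
    have hqr := hQ r hQr
    obtain ⟨c, k, hnrk, hk1, hc, hc1, hcq, hg⟩ := D.caseC_data (s := s) hr hs hq hn2
    rw [hqr] at hnrk hc hcq hg hsum
    have hmul := D.nn_mul hr
    rw [← hgc] at hmul
    have hidx : D.nn s ≠ 2 := by
      intro h2
      apply hno2 s hQs
      rw [index_stabilizer, ← D.nn_eq_ncard hs, h2]
    have hsq : q ^ 2 - 1 = (q + 1) * (q - 1) := by
      obtain ⟨m, rfl⟩ : ∃ m, q = m + 1 := ⟨q - 1, by omega⟩
      rw [show (m + 1) ^ 2 = m ^ 2 + 2 * m + 1 by ring]
      simp only [Nat.add_sub_cancel]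
      ring
    have hcover : ∀ x : X, (∃ g : L, g ≠ 1 ∧ g • x = x) → x ∈ orbit L r ∨ x ∈ orbit L s := by
      intro x hx
      have hxΩ : x ∈ D.Ω := D.mem_Ω.mpr hx
      have h1 : rep L x ∈ D.R := Finset.mem_image_of_mem _ hxΩ
      rw [hR] at h1
      simp only [Finset.mem_insert, Finset.mem_singleton] at h1
      rcases h1 with h1 | h1
      · left; exact (rep_eq_iff (D.mem_R.mp hr).2).mp h1
      · right; exact (rep_eq_iff (D.mem_R.mp hs).2).mp h1
    rcases Cfsg.Agent.Lib.helper6.DicksonH.arith_C (D.nn r) (D.nn s) q c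
      (Nat.card (stabilizer L s)) k hnrk hk1 (by omega) hc1 hcq hsum hg with h | h | h | h
    · exact absurd h hidx
    · obtain ⟨hk, hcq2, hm2⟩ := h
      -- card L = (q+1) q c
      rw [hnrk, hk, hc] at hmul
      have hd2 : d = 2 := by
        rcases hd with hd | hd
        · exfalso
          rw [hd, mul_one, ← hmul, hsq] at hcard
          have h3 : (1 + q * 1) * (q * c) * 2 = q * ((q + 1) * (q - 1)) := by
            have : q - 1 = 2 * c := by omega
            rw [this]; ring
          have hpos : 0 < (1 + q * 1) * (q * c) := by positivity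
          omega
        · exact hd
      refine ⟨r, s, hQr, hqr, ?_, ?_, hQs, ?_, hcover⟩
      · rw [← D.nn_eq_ncard hr, hnrk, hk]; ring
      · rw [hc, hd2]
        have : q - 1 = 2 * c := by omega
        rw [this]; ring
      · rw [hd2]; omega
    · obtain ⟨hk, hcq2, hm2⟩ := h
      rw [hnrk, hk, hc] at hmul
      have hd1 : d = 1 := by
        rcases hd with hd | hd
        · exact hd
        · exfalso
          rw [hd, ← hmul, hsq] at hcard
          have h3 : (1 + q * 1) * (q * c) = q * ((q + 1) * (q - 1)) := by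
            have : q - 1 = c := by omega
            rw [this]; ring
          have hpos : 0 < (1 + q * 1) * (q * c) := by positivity
          omega
      refine ⟨r, s, hQr, hqr, ?_, ?_, hQs, ?_, hcover⟩
      · rw [← D.nn_eq_ncard hr, hnrk, hk]; ring
      · rw [hc, hd1, mul_one]
        have : q - 1 = c := by omega
        rw [this]
      · rw [hd1, mul_one]; exact hm2
    · omega
  · exfalso
    obtain ⟨r, hr, s, hs, t, ht, -, -, -, hR, hq, hq', hq'', -⟩ := h
    obtain ⟨x, hx⟩ := hex
    obtain ⟨u, hu1⟩ := (Subgroup.ne_bot_iff_exists_ne_one).mp hx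
    have hu1' : (u : L) ≠ 1 := fun h => hu1 (Subtype.ext h)
    have hxΩ : x ∈ D.Ω := D.mem_Ω.mpr ⟨u, hu1', D.Q_fix u.2⟩
    have h1 : rep L x ∈ D.R := Finset.mem_image_of_mem _ hxΩ
    obtain ⟨g, hg⟩ := rep_mem_orbit (H := L) x
    have hg' : g • x = rep L x := hg
    have h2 : Nat.card (D.Q (rep L x)) = 1 := by
      rw [hR] at h1
      simp only [Finset.mem_insert, Finset.mem_singleton] at h1
      rcases h1 with h1 | h1 | h1 <;> rw [h1] <;> assumption
    rw [← hg', D.card_Q_smul] at h2
    exact hx (Subgroup.card_eq_one.mp h2)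


instance finite_pgl2 {F : Type*} [Field F] [Finite F] :
    Finite (Matrix.ProjGenLinGroup (Fin 2) F) := by
  unfold Matrix.ProjGenLinGroup
  infer_instance

/-- `PGL₂(F)`, `|F|` odd, satisfies the abstract Dickson hypotheses -/
theorem pgl2_dact {F : Type*} [Field F] [Fintype F] (p : ℕ) [Fact p.Prime] [CharP F p]
    (hodd : Odd (Fintype.card F)) :
    ∃ (X : Type) (_ : MulAction (Matrix.ProjGenLinGroup (Fin 2) F) X),
      DAct (Matrix.ProjGenLinGroup (Fin 2) F) X p := by
  obtain ⟨E, _, _, _, ι, hι⟩ := exists_pgl_emb (F := F) p hodd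
  obtain ⟨X, _, D⟩ := Cfsg.Agent.Lib.helper3.psl2_dact (F := E) p
  exact ⟨X, MulAction.compHom X ι, dk_comap D ι hι⟩

/-- the order of a Sylow `p`-subgroup of a group of order `q (q² - 1)` -/
theorem card_sylow_of_card {G : Type*} [Group G] [Finite G] (p : ℕ) [Fact p.Prime] {q n : ℕ}
    (hn : n ≠ 0) (hqn : q = p ^ n) (hG : Nat.card G = q * (q ^ 2 - 1)) (P : Sylow p G) :
    Nat.card (P : Subgroup G) = q := by
  have hpP : p.Prime := Fact.out
  have hq1 : 1 ≤ q := by rw [hqn]; exact Nat.one_le_pow _ _ hpP.pos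
  have hNpos : 0 < Nat.card G := Nat.card_pos
  have hqN : q ∣ Nat.card G := by rw [hG]; exact dvd_mul_right _ _
  have hqP : q ∣ Nat.card (P : Subgroup G) := by
    rw [P.card_eq_multiplicity]
    conv_lhs => rw [hqn]
    apply pow_dvd_pow
    exact (hpP.pow_dvd_iff_le_factorization hNpos.ne').mp (hqn ▸ hqN)
  obtain ⟨k, hk⟩ := IsPGroup.iff_card.mp P.2
  have hk' : Nat.card (P : Subgroup G) = p ^ k := hk
  have hPN : p ^ k ∣ Nat.card G := by
    rw [← hk']; exact Subgroup.card_subgroup_dvd_card _
  have hPq : p ^ k ∣ q := by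
    have h1 : p ^ k ∣ q * (q ^ 2 - 1) := by rw [← hG]; exact hPN
    have hcop : Nat.Coprime (p ^ k) (q ^ 2 - 1) := by
      apply Nat.Coprime.pow_left
      rw [Nat.Prime.coprime_iff_not_dvd hpP]
      intro h6
      have h7 : p ∣ q ^ 2 := by rw [hqn, ← pow_mul]; exact dvd_pow_self p (by positivity)
      have h8 : 1 ≤ q ^ 2 := Nat.one_le_pow _ _ hq1
      have h9 : p ∣ 1 := by
        have : q ^ 2 = (q ^ 2 - 1) + 1 := by omega
        rw [this] at h7
        exact (Nat.dvd_add_right h6).mp h7
      exact hpP.one_lt.ne' (Nat.dvd_one.mp h9)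
    exact hcop.dvd_of_dvd_mul_right h1
  rw [hk'] at hqP ⊢
  exact Nat.dvd_antisymm hPq hqP

set_option maxHeartbeats 800000 in
/-- the orbit structure of `PGL₂(q)`, `q` odd, on the projective line over the algebraic closure -/
theorem pgl_full {F : Type*} [Field F] [Fintype F]
    {X : Type*} [MulAction (Matrix.ProjGenLinGroup (Fin 2) F) X]
    (p : ℕ) [Fact p.Prime] [CharP F p] (hodd : Odd (Fintype.card F)) (h4 : 4 ≤ Fintype.card F)
    (D : DAct (Matrix.ProjGenLinGroup (Fin 2) F) X p) :
    ∃ r s : X, Full D (Fintype.card F) 1 r s := by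
  classical
  haveI : Finite (Matrix.ProjGenLinGroup (Fin 2) F) := by
    unfold Matrix.ProjGenLinGroup
    infer_instance
  haveI : Fintype (Matrix.ProjGenLinGroup (Fin 2) F) := Fintype.ofFinite _
  have hpP : p.Prime := Fact.out
  obtain ⟨n, -, hqn⟩ := FiniteField.card F p
  have hcard := Cfsg.Agent.Lib.helper6.PSL2Index.card_PGL2 (F := F)
  have hp2 : p ≠ 2 := by
    rintro rfl
    rw [hqn] at hodd
    exact (Nat.not_even_iff_odd.mpr hodd) (Nat.even_pow.mpr ⟨even_two, n.pos.ne'⟩)
  have hpq : p ∣ Fintype.card F := by rw [hqn]; exact dvd_pow_self p n.pos.ne'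
  have hpL : p ∣ Nat.card (Matrix.ProjGenLinGroup (Fin 2) F) := by
    rw [hcard]; exact dvd_trans hpq (dvd_mul_right _ _)
  have hQ : ∀ x : X, D.Q x ≠ ⊥ → Nat.card (D.Q x) = Fintype.card F := by
    intro x hx
    obtain ⟨P, hP⟩ := Cfsg.Agent.Lib.helper3.dk_sylow_eq_Q D x hx
    rw [← hP]
    exact card_sylow_of_card p n.pos.ne' hqn hcard P
  obtain ⟨P₀⟩ : Nonempty (Sylow p (Matrix.ProjGenLinGroup (Fin 2) F)) := inferInstance
  obtain ⟨r₀, hP₀, hr₀⟩ := Cfsg.Agent.Lib.helper6.PSL2Max.sylow_eq_Q_all D hpL P₀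
  have hbig : Fintype.card F * Fintype.card F ≤ Fintype.card F * (Fintype.card F ^ 2 - 1) := by
    apply Nat.mul_le_mul_left
    have : Fintype.card F ^ 2 = Fintype.card F * Fintype.card F := sq _
    rw [this]
    have h1 : 4 * Fintype.card F ≤ Fintype.card F * Fintype.card F :=
      Nat.mul_le_mul_right _ h4
    omega
  have hnofix : ∀ x : X, ∃ g : Matrix.ProjGenLinGroup (Fin 2) F, g • x ≠ x := by
    intro x
    by_contra hall
    push Not at hall
    have htop : stabilizer (Matrix.ProjGenLinGroup (Fin 2) F) x = ⊤ := by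
      rw [eq_top_iff]; intro g _; exact mem_stabilizer_iff.mpr (hall g)
    by_cases hQx : D.Q x = ⊥
    · have h1 := D.coprime_stab_of_Q_bot hQx
      rw [htop, Subgroup.card_top] at h1
      exact (Nat.Prime.coprime_iff_not_dvd hpP).mp h1.symm hpL
    · obtain ⟨c, hc0⟩ := D.card_Q_dvd_stab x
      have hqx := hQ x hQx
      have hc : Fintype.card F * (Fintype.card F ^ 2 - 1) = Fintype.card F * c := by
        rw [← hcard, ← Subgroup.card_top (G := Matrix.ProjGenLinGroup (Fin 2) F), ← htop, hc0, hqx]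
      have hqpos : 0 < Nat.card (D.Q x) := Nat.card_pos
      have hcq : c < Fintype.card F := by
        by_cases hc_one : c = 1
        · omega
        · have hne : ¬ stabilizer (Matrix.ProjGenLinGroup (Fin 2) F) x ≤ D.Q x := by
            intro hle
            have h1 := Subgroup.card_le_of_le hle
            rw [hc0] at h1
            have hc0' : c ≠ 0 := by
              rintro rfl
              rw [mul_zero] at hc
              have : 0 < Fintype.card F * (Fintype.card F ^ 2 - 1) := by
                rw [← hcard]; exact Nat.card_pos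
              omega
            have h2 : Nat.card (D.Q x) * 2 ≤ Nat.card (D.Q x) * c :=
              Nat.mul_le_mul_left _ (by omega)
            omega
          obtain ⟨k₀, hk₀, hk₀'⟩ := SetLike.not_le_iff_exists.mp hne
          have hk₀1 : k₀ ≠ 1 := fun h => hk₀' (h ▸ (D.Q x).one_mem)
          obtain ⟨y, hyr, hy⟩ := D.exists_second (mem_stabilizer_iff.mp hk₀) hk₀'
          have h1 := D.card_stab_eq (Ne.symm hyr) hk₀1 (mem_stabilizer_iff.mp hk₀) hy
          have h2 := D.card_inf_lt (Ne.symm hyr) hQx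
          rw [hc0] at h1
          have h3 := Nat.eq_of_mul_eq_mul_left hqpos h1
          rw [h3, ← hqx]; exact h2
      have : Fintype.card F * c < Fintype.card F * Fintype.card F :=
        (Nat.mul_lt_mul_left (by omega)).mpr hcq
      omega
  have hno2 : ∀ x : X, D.Q x = ⊥ →
      (stabilizer (Matrix.ProjGenLinGroup (Fin 2) F) x).index ≠ 2 := by
    intro x hQx hidx
    have h1 := D.coprime_stab_of_Q_bot hQx
    have h2 := Subgroup.card_mul_index (stabilizer (Matrix.ProjGenLinGroup (Fin 2) F) x)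
    rw [hidx] at h2
    have h3 : p ∣ Nat.card (stabilizer (Matrix.ProjGenLinGroup (Fin 2) F) x) * 2 := by
      rw [h2]; exact hpL
    rcases (hpP.dvd_mul).mp h3 with h4' | h4'
    · exact (Nat.Prime.coprime_iff_not_dvd hpP).mp h1.symm h4'
    · exact hp2 ((Nat.prime_dvd_prime_iff_eq hpP Nat.prime_two).mp h4')
  exact full_of_card' D h4 (Or.inl rfl) (by rw [mul_one]; exact hcard) hQ ⟨r₀, hr₀⟩ hnofix hno2

end Cfsg.Agent.Lib.helper6.PGLx
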