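import Mathlib
import Cfsg.Agent.Lib.helper6.PGLb
import Cfsg.Agent.Lib.Helper28.P2Pgl
import Cfsg.Agent.S0307

set_option autoImplicit false

namespace Cfsg.Agent.Lib.helper6.PGLx

open MulAction Cfsg.Agent.Lib.helper6.Dickson Cfsg.Agent.Lib.helper6.QAlg
open Cfsg.Agent.Lib.helper6.P2Odd

/-- coatoms pull back along surjective homomorphisms -/
theorem isCoatom_comap {G H : Type*} [Group G] [Group H] (f : G →* H)
    (hf : Function.Surjective f) {M : Subgroup H} (hM : IsCoatom M) : IsCoatom (M.comap f) := by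
  constructor
  · intro htop
    apply hM.1
    rw [← Subgroup.map_comap_eq_self_of_surjective hf M, htop,
      Subgroup.map_top_of_surjective f hf]
  · intro S hlt
    have hker : f.ker ≤ S := by
      refine le_trans ?_ hlt.le
      intro x hx
      rw [Subgroup.mem_comap, MonoidHom.mem_ker.mp hx]
      exact M.one_mem
    have hle : M ≤ S.map f := by
      rw [← Subgroup.map_comap_eq_self_of_surjective hf M]
      exact Subgroup.map_mono hlt.le
    have hne : M ≠ S.map f := by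
      intro heq
      apply hlt.ne
      rw [heq, Subgroup.comap_map_eq_self hker]
    have htop := hM.2 _ (lt_of_le_of_ne hle hne)
    rw [← Subgroup.comap_map_eq_self hker, htop, Subgroup.comap_top]

section Lr

variable (F : Type*) [Field F]

/-- the image of `SL₂(F)` in `PGL₂(F)` -/
def Lr : Subgroup (Matrix.ProjGenLinGroup (Fin 2) F) :=
  (Matrix.ProjGenLinGroup.mk.comp Matrix.SpecialLinearGroup.toGL).range

theorem Lr_eq_range_toPGL : Lr F = (Matrix.ProjectiveSpecialLinearGroup.toPGL :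
    Matrix.ProjectiveSpecialLinearGroup (Fin 2) F →* Matrix.ProjGenLinGroup (Fin 2) F).range := by
  ext x
  constructor
  · rintro ⟨g, rfl⟩
    exact ⟨QuotientGroup.mk g, rfl⟩
  · rintro ⟨t, rfl⟩
    obtain ⟨g, rfl⟩ := QuotientGroup.mk_surjective t
    exact ⟨g, rfl⟩

variable {F}

theorem toPGL_mem_Lr (t : Matrix.ProjectiveSpecialLinearGroup (Fin 2) F) :
    Matrix.ProjectiveSpecialLinearGroup.toPGL t ∈ Lr F := by
  rw [Lr_eq_range_toPGL]; exact ⟨t, rfl⟩

theorem exists_of_mem_Lr {x : Matrix.ProjGenLinGroup (Fin 2) F} (hx : x ∈ Lr F) :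
    ∃ t : Matrix.ProjectiveSpecialLinearGroup (Fin 2) F,
      Matrix.ProjectiveSpecialLinearGroup.toPGL t = x := by
  rw [Lr_eq_range_toPGL] at hx; exact hx

/-- squares lie in the image of `SL₂` -/
theorem sq_mem_Lr (x : Matrix.ProjGenLinGroup (Fin 2) F) : x * x ∈ Lr F := by
  induction x using Matrix.ProjGenLinGroup.induction_on with | mk h =>
  obtain ⟨d, hd⟩ : ∃ d : F, d = ((Matrix.GeneralLinearGroup.det h : Fˣ) : F) := ⟨_, rfl⟩
  have hd0 : d ≠ 0 := by rw [hd]; exact Units.ne_zero _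
  have hdet : (d⁻¹ • ((h * h : GL (Fin 2) F) : Matrix (Fin 2) (Fin 2) F)).det = 1 := by
    rw [Matrix.det_smul, Fintype.card_fin, Units.val_mul, Matrix.det_mul]
    have : (h : Matrix (Fin 2) (Fin 2) F).det = d := by rw [hd]; rfl
    rw [this]
    field_simp
  obtain ⟨g, hg⟩ : ∃ g : Matrix.SpecialLinearGroup (Fin 2) F, (g : Matrix (Fin 2) (Fin 2) F) =
      d⁻¹ • ((h * h : GL (Fin 2) F) : Matrix (Fin 2) (Fin 2) F) := ⟨⟨_, hdet⟩, rfl⟩
  refine ⟨g, ?_⟩
  rw [← map_mul]
  show Matrix.ProjGenLinGroup.mk (Matrix.SpecialLinearGroup.toGL g) = _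
  rw [Matrix.ProjGenLinGroup.mk_eq_mk_iff]
  refine ⟨Units.mk0 d hd0, ?_⟩
  apply Units.ext
  ext i j
  have h1 : ((Matrix.SpecialLinearGroup.toGL g * Matrix.GeneralLinearGroup.scalar (Fin 2)
      (Units.mk0 d hd0) : GL (Fin 2) F) : Matrix (Fin 2) (Fin 2) F) i j =
      (g : Matrix (Fin 2) (Fin 2) F) i j * d := by
    simp [Matrix.mul_apply, Fin.sum_univ_two, Matrix.diagonal_apply]
  rw [h1, hg, Matrix.smul_apply, smul_eq_mul]
  field_simp

/-- subgroups generated by elements of odd order `p` lie in the image of `SL₂` -/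
theorem le_Lr_of_genByP {M : Subgroup (Matrix.ProjGenLinGroup (Fin 2) F)} {p : ℕ} (hp : Odd p)
    (hgen : Cfsg.Agent.Lib.Helper28.P2.GenByP p M) : M ≤ Lr F := by
  unfold Cfsg.Agent.Lib.Helper28.P2.GenByP at hgen
  have h1 : Subgroup.closure {g : M | g ^ p = 1} ≤ (Lr F).comap M.subtype := by
    rw [Subgroup.closure_le]
    intro g hg
    have hg' : g ^ p = 1 := hg
    obtain ⟨t, ht⟩ := hp
    show (g : Matrix.ProjGenLinGroup (Fin 2) F) ∈ Lr F
    have e1 : (g : Matrix.ProjGenLinGroup (Fin 2) F) =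
        ((g ^ (t + 1) : M) : Matrix.ProjGenLinGroup (Fin 2) F) *
        ((g ^ (t + 1) : M) : Matrix.ProjGenLinGroup (Fin 2) F) := by
      rw [← Subgroup.coe_mul, ← pow_add]
      have : t + 1 + (t + 1) = p + 1 := by omega
      rw [this, pow_succ, hg', one_mul]
    rw [e1]
    exact sq_mem_Lr _
  rw [hgen] at h1
  intro x hx
  exact h1 (Subgroup.mem_top (⟨x, hx⟩ : M))

/-- `PSL₂(F)` is isomorphic to its image in `PGL₂(F)` -/
noncomputable def lrEquiv (F : Type*) [Field F] :
    Matrix.ProjectiveSpecialLinearGroup (Fin 2) F ≃* Lr F :=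
  (MonoidHom.ofInjective
    (Matrix.ProjectiveSpecialLinearGroup.toPGL_injective (n := Fin 2) (R := F))).trans
    (MulEquiv.subgroupCongr (Lr_eq_range_toPGL F).symm)

theorem coe_lrEquiv (t : Matrix.ProjectiveSpecialLinearGroup (Fin 2) F) :
    ((lrEquiv F t : Lr F) : Matrix.ProjGenLinGroup (Fin 2) F) =
      Matrix.ProjectiveSpecialLinearGroup.toPGL t := rfl

instance Lr_normal : (Lr F).Normal := by
  constructor
  intro l hl x
  obtain ⟨g, rfl⟩ := hl
  induction x using Matrix.ProjGenLinGroup.induction_on with | mk h =>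
  have hdet : ((h * Matrix.SpecialLinearGroup.toGL g * h⁻¹ : GL (Fin 2) F) :
      Matrix (Fin 2) (Fin 2) F).det = 1 := by
    have h1 : Matrix.GeneralLinearGroup.det (h * Matrix.SpecialLinearGroup.toGL g * h⁻¹) = 1 := by
      rw [map_mul, map_mul, map_inv, mul_comm, ← mul_assoc, inv_mul_cancel, one_mul]
      apply Units.ext
      exact g.2
    exact congrArg Units.val h1
  obtain ⟨g', hg'⟩ : ∃ g' : Matrix.SpecialLinearGroup (Fin 2) F,
      (g' : Matrix (Fin 2) (Fin 2) F) =
      ((h * Matrix.SpecialLinearGroup.toGL g * h⁻¹ : GL (Fin 2) F) :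
        Matrix (Fin 2) (Fin 2) F) := ⟨⟨_, hdet⟩, rfl⟩
  refine ⟨g', ?_⟩
  show Matrix.ProjGenLinGroup.mk (Matrix.SpecialLinearGroup.toGL g') = _
  have : Matrix.SpecialLinearGroup.toGL g' = h * Matrix.SpecialLinearGroup.toGL g * h⁻¹ := by
    apply Units.ext
    exact hg'
  rw [this, map_mul, map_mul, map_inv]
  rfl

section Fin

variable [Fintype F]

theorem card_Lr_mul (hodd : Odd (Fintype.card F)) :
    2 * Nat.card (Lr F) = Fintype.card F * (Fintype.card F ^ 2 - 1) := by
  rw [← Nat.card_congr (lrEquiv F).toEquiv]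
  exact two_mul_card_psl2 hodd

theorem Lr_ne_top (hodd : Odd (Fintype.card F)) : Lr F ≠ ⊤ := by
  intro htop
  have h1 := card_Lr_mul hodd
  rw [htop, Subgroup.card_top, Cfsg.Agent.Lib.helper6.PSL2Index.card_PGL2] at h1
  have hq : 2 ≤ Fintype.card F := Fintype.one_lt_card
  have h2 : 0 < Fintype.card F * (Fintype.card F ^ 2 - 1) := by
    apply Nat.mul_pos (by omega)
    have : 2 ^ 2 ≤ Fintype.card F ^ 2 := Nat.pow_le_pow_left hq 2
    omega
  omega

/-- a coatom not containing the image of `SL₂` is not contained in it -/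
theorem not_le_Lr_of_coatom (hodd : Odd (Fintype.card F))
    {M : Subgroup (Matrix.ProjGenLinGroup (Fin 2) F)} (hM : IsCoatom M) (hML : ¬ Lr F ≤ M) :
    ¬ M ≤ Lr F := by
  intro hle
  apply hML
  rw [coatom_eq hM hle (Lr_ne_top hodd)]

/-- the quotient by the image of `SL₂` has order two -/
theorem exists_hom_Lr (hodd : Odd (Fintype.card F)) :
    ∃ φ : Matrix.ProjGenLinGroup (Fin 2) F →* Multiplicative (ZMod 2), φ.ker = Lr F := by
  obtain ⟨φ, -, hφ⟩ := Cfsg.Agent.S0307.result (F := F) rfl 2 (by norm_num)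
  have hg : Nat.gcd 2 (Fintype.card F - 1) = 2 := by
    obtain ⟨t, ht⟩ := hodd
    rw [ht, Nat.add_sub_cancel]
    exact Nat.gcd_eq_left (Dvd.intro _ rfl)
  have key : ∀ n : ℕ, n = 2 →
      (∃ ψ : Matrix.ProjGenLinGroup (Fin 2) F →* Multiplicative (ZMod n),
        ψ.ker = (Matrix.ProjectiveSpecialLinearGroup.toPGL :
          Matrix.ProjectiveSpecialLinearGroup (Fin 2) F →*
            Matrix.ProjGenLinGroup (Fin 2) F).range) →
      ∃ ψ : Matrix.ProjGenLinGroup (Fin 2) F →* Multiplicative (ZMod 2), ψ.ker = Lr F := by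
    rintro n rfl ⟨ψ, hψ⟩
    exact ⟨ψ, by rw [hψ, Lr_eq_range_toPGL]⟩
  exact key _ hg ⟨φ, hφ⟩

/-- nontrivial proper subgroups of the image of `SL₂` are not normal in `PGL₂` -/
theorem not_normal_of_le_Lr (h4 : 4 ≤ Fintype.card F)
    {V : Subgroup (Matrix.ProjGenLinGroup (Fin 2) F)} (hV : V ≤ Lr F) (hV1 : V ≠ ⊥)
    (hVL : V ≠ Lr F) : ¬ V.Normal := by
  intro hn
  haveI : IsSimpleGroup (Matrix.ProjectiveSpecialLinearGroup (Fin 2) F) :=
    Matrix.ProjectiveSpecialLinearGroup.rank_two_simple (by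
      rw [Nat.card_eq_fintype_card]; exact h4)
  have hn' : (V.comap (Matrix.ProjectiveSpecialLinearGroup.toPGL :
      Matrix.ProjectiveSpecialLinearGroup (Fin 2) F →* Matrix.ProjGenLinGroup (Fin 2) F)).Normal :=
    hn.comap _
  rcases hn'.eq_bot_or_eq_top with h | h
  · apply hV1
    rw [Subgroup.eq_bot_iff_forall]
    intro x hx
    obtain ⟨t, rfl⟩ := exists_of_mem_Lr (hV hx)
    have : t ∈ (⊥ : Subgroup (Matrix.ProjectiveSpecialLinearGroup (Fin 2) F)) := by
      rw [← h]; exact hx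
    rw [Subgroup.mem_bot] at this
    rw [this, map_one]
  · apply hVL
    apply le_antisymm hV
    intro x hx
    obtain ⟨t, rfl⟩ := exists_of_mem_Lr hx
    have : t ∈ (⊤ : Subgroup (Matrix.ProjectiveSpecialLinearGroup (Fin 2) F)) :=
      Subgroup.mem_top t
    rw [← h] at this
    exact this

end Fin

end Lr

end Cfsg.Agent.Lib.helper6.PGLx
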