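import Mathlib
import Cfsg.Agent.Lib.helper6.PGLc

set_option autoImplicit false

namespace Cfsg.Agent.Lib.helper6.PGLx

open MulAction Cfsg.Agent.Lib.helper6.Dickson Cfsg.Agent.Lib.helper6.QAlg
open Cfsg.Agent.Lib.helper6.P2Odd

section GG

variable {F : Type*} [Field F] {X Y : Matrix (Fin 2) (Fin 2) F}

theorem coe_inv_GL (a : GL (Fin 2) F) :
    ((a⁻¹ : GL (Fin 2) F) : Matrix (Fin 2) (Fin 2) F) =
      ((a : Matrix (Fin 2) (Fin 2) F).det)⁻¹ •
        ((a : Matrix (Fin 2) (Fin 2) F).trace • (1 : Matrix (Fin 2) (Fin 2) F) - a) := by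
  rw [Matrix.coe_units_inv, Matrix.inv_def, Ring.inverse_eq_inv', adj_eq]

theorem det_ne_zero_GL (a : GL (Fin 2) F) : (a : Matrix (Fin 2) (Fin 2) F).det ≠ 0 := by
  have := (Matrix.GeneralLinearGroup.det a).ne_zero
  exact this

/-- elements of `GL₂(F)` that are scalar multiples of elements of the quaternion algebra -/
def GG (h : QS X Y) (K : Subfield F) : Subgroup (GL (Fin 2) F) where
  carrier := {g | ∃ μ : F, μ ≠ 0 ∧ μ • (g : Matrix (Fin 2) (Fin 2) F) ∈ AK K X Y}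
  one_mem' := ⟨1, one_ne_zero, by rw [one_smul, Units.val_one]; exact AK.one_mem⟩
  mul_mem' := by
    rintro a b ⟨μ, hμ, ha⟩ ⟨ν, hν, hb⟩
    refine ⟨μ * ν, mul_ne_zero hμ hν, ?_⟩
    have : (μ * ν) • ((a * b : GL (Fin 2) F) : Matrix (Fin 2) (Fin 2) F) =
        (μ • (a : Matrix (Fin 2) (Fin 2) F)) * (ν • (b : Matrix (Fin 2) (Fin 2) F)) := by
      rw [Units.val_mul, smul_mul_assoc, mul_smul_comm, smul_smul]
    rw [this]; exact AK.mul_mem h ha hb
  inv_mem' := by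
    rintro a ⟨μ, hμ, ha⟩
    refine ⟨μ * (a : Matrix (Fin 2) (Fin 2) F).det, mul_ne_zero hμ (det_ne_zero_GL a), ?_⟩
    have h1 := AK.adj_mem h ha
    rw [Matrix.trace_smul, smul_eq_mul, mul_smul, ← smul_sub] at h1
    rw [coe_inv_GL, smul_smul, mul_assoc, mul_inv_cancel₀ (det_ne_zero_GL a), mul_one]
    exact h1

theorem mem_GG (h : QS X Y) (K : Subfield F) (g : GL (Fin 2) F) :
    g ∈ GG h K ↔ ∃ μ : F, μ ≠ 0 ∧ μ • (g : Matrix (Fin 2) (Fin 2) F) ∈ AK K X Y := Iff.rfl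

theorem GG_mono (h : QS X Y) {K K' : Subfield F} (hKK : K ≤ K') : GG h K ≤ GG h K' := by
  rintro g ⟨μ, hμ, hg⟩
  exact ⟨μ, hμ, AK.mono hKK hg⟩

theorem toGL_mem_GG (h : QS X Y) (K : Subfield F) (g : Matrix.SpecialLinearGroup (Fin 2) F) :
    Matrix.SpecialLinearGroup.toGL g ∈ GG h K ↔ g ∈ G1' h K := Iff.rfl

theorem GG_ne_top (h : QS X Y) {K : Subfield F} (hK : K ≠ ⊤) : GG h K ≠ ⊤ := by
  intro htop
  apply G1'_ne_top h hK
  rw [eq_top_iff]
  intro g _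
  rw [← toGL_mem_GG, htop]
  exact Subgroup.mem_top _

/-- the invariant `tr² / det` of elements of `GG` lies in the subfield -/
theorem tau_mem_of_GG (h : QS X Y) {K : Subfield F} {g : GL (Fin 2) F} (hg : g ∈ GG h K) :
    (g : Matrix (Fin 2) (Fin 2) F).trace ^ 2 * ((g : Matrix (Fin 2) (Fin 2) F).det)⁻¹ ∈ K := by
  obtain ⟨μ, hμ, hg⟩ := hg
  have h1 := AK.trace_mem h hg
  have h2 := AK.det_mem h hg
  rw [Matrix.trace_smul, smul_eq_mul] at h1
  rw [Matrix.det_smul, Fintype.card_fin] at h2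
  have hd := det_ne_zero_GL g
  have h3 : (g : Matrix (Fin 2) (Fin 2) F).trace ^ 2 * ((g : Matrix (Fin 2) (Fin 2) F).det)⁻¹ =
      (μ * (g : Matrix (Fin 2) (Fin 2) F).trace) ^ 2 *
        (μ ^ 2 * (g : Matrix (Fin 2) (Fin 2) F).det)⁻¹ := by
    field_simp
  rw [h3]
  exact K.mul_mem (K.pow_mem h1 2) (K.inv_mem h2)

/-- elements conjugating the two generators into the algebra lie in `GG` (Skolem–Noether) -/
theorem mem_GG_of_conj (h : QS X Y) (K : Subfield F) (g : GL (Fin 2) F)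
    (hX : (g : Matrix (Fin 2) (Fin 2) F) * X * ((g⁻¹ : GL (Fin 2) F) : Matrix (Fin 2) (Fin 2) F) ∈
      AK K X Y)
    (hY : (g : Matrix (Fin 2) (Fin 2) F) * Y * ((g⁻¹ : GL (Fin 2) F) : Matrix (Fin 2) (Fin 2) F) ∈
      AK K X Y) : g ∈ GG h K := by
  have hgi : (g : Matrix (Fin 2) (Fin 2) F) *
      ((g⁻¹ : GL (Fin 2) F) : Matrix (Fin 2) (Fin 2) F) = 1 := by
    rw [← Units.val_mul, mul_inv_cancel, Units.val_one]
  exact sn h _ _ hgi hX hY

end GG

section LiftG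

variable {F : Type*} [Field F]

/-- the full preimage in `GL₂` of a subgroup of `PGL₂` -/
def liftG (M : Subgroup (Matrix.ProjGenLinGroup (Fin 2) F)) : Subgroup (GL (Fin 2) F) :=
  M.comap Matrix.ProjGenLinGroup.mk

theorem mem_liftG {M : Subgroup (Matrix.ProjGenLinGroup (Fin 2) F)} {g : GL (Fin 2) F} :
    g ∈ liftG M ↔ Matrix.ProjGenLinGroup.mk g ∈ M := Iff.rfl

theorem liftG_coatom {M : Subgroup (Matrix.ProjGenLinGroup (Fin 2) F)} (hM : IsCoatom M) :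
    IsCoatom (liftG M) :=
  isCoatom_comap _ Matrix.ProjGenLinGroup.mk_surjective hM

end LiftG

end Cfsg.Agent.Lib.helper6.PGLx
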