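import Mathlib
import Cfsg.Agent.Lib.helper6.PGLd

set_option autoImplicit false

namespace Cfsg.Agent.Lib.helper6.PGLx

open MulAction Cfsg.Agent.Lib.helper6.Dickson Cfsg.Agent.Lib.helper6.QAlg
open Cfsg.Agent.Lib.helper6.P2Odd Cfsg.Agent.S0808 Cfsg.Agent.S0807

variable {F : Type*} [Field F] [Fintype F]

/-- the image in `PGL₂` of an element of `SL₂` -/
abbrev pg (g : Matrix.SpecialLinearGroup (Fin 2) F) : Matrix.ProjGenLinGroup (Fin 2) F :=
  Matrix.ProjGenLinGroup.mk (Matrix.SpecialLinearGroup.toGL g)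

theorem pg_mem_Lr (g : Matrix.SpecialLinearGroup (Fin 2) F) : pg g ∈ Lr F := ⟨g, rfl⟩

theorem pg_mul (g h : Matrix.SpecialLinearGroup (Fin 2) F) : pg (g * h) = pg g * pg h := by
  unfold pg
  rw [map_mul, map_mul]

theorem pg_eq_toPGL (g : Matrix.SpecialLinearGroup (Fin 2) F) :
    pg g = Matrix.ProjectiveSpecialLinearGroup.toPGL
      (QuotientGroup.mk g : Matrix.ProjectiveSpecialLinearGroup (Fin 2) F) := rfl

/-- lifting a pair of `PGL₂` lying in the image of `SL₂` to a quaternion pair of `SL₂` -/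
theorem exists_QS_of_pair_pgl (h2 : (2 : F) ≠ 0)
    {x y : Matrix.ProjGenLinGroup (Fin 2) F} (hp : IsPair (x, y)) (hx : x ∈ Lr F)
    (hy : y ∈ Lr F) :
    ∃ X Y : Matrix.SpecialLinearGroup (Fin 2) F,
      QS (X : Matrix (Fin 2) (Fin 2) F) (Y : Matrix (Fin 2) (Fin 2) F) ∧ pg X = x ∧ pg Y = y := by
  obtain ⟨x₀, rfl⟩ := exists_of_mem_Lr hx
  obtain ⟨y₀, rfl⟩ := exists_of_mem_Lr hy
  have hinj := Matrix.ProjectiveSpecialLinearGroup.toPGL_injective (n := Fin 2) (R := F)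
  obtain ⟨h1, h2', h3, h4⟩ := hp
  have hp₀ : IsPair (x₀, y₀) := by
    refine ⟨?_, ?_, ?_, ?_⟩
    · show orderOf x₀ = 2
      rw [← orderOf_injective _ hinj]; exact h1
    · show orderOf y₀ = 2
      rw [← orderOf_injective _ hinj]; exact h2'
    · exact fun h => h3 (congrArg _ h)
    · apply hinj
      show Matrix.ProjectiveSpecialLinearGroup.toPGL (x₀ * y₀) =
        Matrix.ProjectiveSpecialLinearGroup.toPGL (y₀ * x₀)
      rw [map_mul, map_mul]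
      exact h4
  obtain ⟨X, Y, hX, hY, hQ⟩ := exists_anti_of_pair h2 (x₀, y₀) hp₀
  refine ⟨X, Y, ⟨h2, hQ, X.2, Y.2⟩, ?_, ?_⟩
  · rw [pg_eq_toPGL, hX]
  · rw [pg_eq_toPGL, hY]

/-- a conjugate which is projectively an element of the algebra lies in the algebra -/
theorem mem_AK_of_mk_eq_pgl {X Y : Matrix (Fin 2) (Fin 2) F} (K : Subfield F)
    (h : GL (Fin 2) F) {A B : Matrix.SpecialLinearGroup (Fin 2) F}
    (hB : (B : Matrix (Fin 2) (Fin 2) F) ∈ AK K X Y)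
    (heq : Matrix.ProjGenLinGroup.mk h * pg A * (Matrix.ProjGenLinGroup.mk h)⁻¹ = pg B) :
    (h : Matrix (Fin 2) (Fin 2) F) * A * ((h⁻¹ : GL (Fin 2) F) : Matrix (Fin 2) (Fin 2) F) ∈
      AK K X Y := by
  unfold pg at heq
  rw [← map_inv, ← map_mul, ← map_mul, Matrix.ProjGenLinGroup.mk_eq_mk_iff] at heq
  obtain ⟨u, hu⟩ := heq
  have hdet := congrArg Matrix.GeneralLinearGroup.det hu
  rw [map_mul, map_mul, map_mul, map_inv, Matrix.SpecialLinearGroup.coeToGL_det,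
    Matrix.SpecialLinearGroup.coeToGL_det, mul_one, mul_inv_cancel, one_mul] at hdet
  have hu2 : (u : F) * u = 1 := by
    have h1 := congrArg Units.val hdet
    rw [Matrix.GeneralLinearGroup.val_det_apply, Matrix.GeneralLinearGroup.coe_scalar,
      Matrix.scalar_apply, Matrix.det_diagonal, Fin.prod_univ_two] at h1
    exact h1
  have hmat := congrArg (fun g : GL (Fin 2) F => (g : Matrix (Fin 2) (Fin 2) F)) hu
  simp only [Units.val_mul, Matrix.SpecialLinearGroup.coe_GL_coe_matrix,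
    Matrix.GeneralLinearGroup.coe_scalar] at hmat
  have h3 : (h : Matrix (Fin 2) (Fin 2) F) * A *
      ((h⁻¹ : GL (Fin 2) F) : Matrix (Fin 2) (Fin 2) F) = (u : F) • (B : Matrix (Fin 2) (Fin 2) F) := by
    rw [← hmat]
    rw [Matrix.scalar_apply, ← Matrix.smul_eq_mul_diagonal, smul_smul, hu2, one_smul]
  rw [h3]
  have hu1 : (u : F) = 1 ∨ (u : F) = -1 := mul_self_eq_one_iff.mp hu2
  rcases hu1 with h1 | h1 <;> rw [h1]
  · rw [one_smul]; exact hB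
  · rw [neg_one_smul]; exact AK.neg_mem hB

/-- a subgroup of `PGL₂` conjugating a quaternion pair into the algebra lies in `GG` -/
theorem liftG_le_GG_of_conj {M : Subgroup (Matrix.ProjGenLinGroup (Fin 2) F)}
    {X Y : Matrix.SpecialLinearGroup (Fin 2) F}
    (hQS : QS (X : Matrix (Fin 2) (Fin 2) F) (Y : Matrix (Fin 2) (Fin 2) F)) (K : Subfield F)
    (hconj : ∀ t ∈ M, ∃ A B : Matrix.SpecialLinearGroup (Fin 2) F,
      (A : Matrix (Fin 2) (Fin 2) F) ∈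
        AK K (X : Matrix (Fin 2) (Fin 2) F) (Y : Matrix (Fin 2) (Fin 2) F) ∧
      (B : Matrix (Fin 2) (Fin 2) F) ∈
        AK K (X : Matrix (Fin 2) (Fin 2) F) (Y : Matrix (Fin 2) (Fin 2) F) ∧
      t * pg X * t⁻¹ = pg A ∧ t * pg Y * t⁻¹ = pg B) :
    liftG M ≤ GG hQS K := by
  intro h hh
  obtain ⟨A, B, hA, hB, h1, h2⟩ := hconj _ hh
  exact mem_GG_of_conj hQS K h (mem_AK_of_mk_eq_pgl K h hA h1) (mem_AK_of_mk_eq_pgl K h hB h2)

/-- the case of a normalised four-group -/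
theorem liftG_le_GG_of_normal {M : Subgroup (Matrix.ProjGenLinGroup (Fin 2) F)}
    {X Y : Matrix.SpecialLinearGroup (Fin 2) F}
    (hQS : QS (X : Matrix (Fin 2) (Fin 2) F) (Y : Matrix (Fin 2) (Fin 2) F)) (K : Subfield F)
    (hconj : ∀ t ∈ M,
      (t * pg X * t⁻¹ = pg X ∨ t * pg X * t⁻¹ = pg Y ∨ t * pg X * t⁻¹ = pg X * pg Y) ∧
      (t * pg Y * t⁻¹ = pg X ∨ t * pg Y * t⁻¹ = pg Y ∨ t * pg Y * t⁻¹ = pg X * pg Y)) :
    liftG M ≤ GG hQS K := by
  apply liftG_le_GG_of_conj hQS K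
  intro t ht
  obtain ⟨h1, h2⟩ := hconj t ht
  have hZm : ((X * Y : Matrix.SpecialLinearGroup (Fin 2) F) : Matrix (Fin 2) (Fin 2) F) ∈
      AK K (X : Matrix (Fin 2) (Fin 2) F) (Y : Matrix (Fin 2) (Fin 2) F) := by
    rw [Matrix.SpecialLinearGroup.coe_mul]; exact AK.Z_mem
  have e1 : ∃ A : Matrix.SpecialLinearGroup (Fin 2) F, (A : Matrix (Fin 2) (Fin 2) F) ∈
      AK K (X : Matrix (Fin 2) (Fin 2) F) (Y : Matrix (Fin 2) (Fin 2) F) ∧
      t * pg X * t⁻¹ = pg A := by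
    rcases h1 with h1 | h1 | h1
    · exact ⟨X, AK.X_mem, h1⟩
    · exact ⟨Y, AK.Y_mem, h1⟩
    · exact ⟨X * Y, hZm, by rw [h1, pg_mul]⟩
  have e2 : ∃ B : Matrix.SpecialLinearGroup (Fin 2) F, (B : Matrix (Fin 2) (Fin 2) F) ∈
      AK K (X : Matrix (Fin 2) (Fin 2) F) (Y : Matrix (Fin 2) (Fin 2) F) ∧
      t * pg Y * t⁻¹ = pg B := by
    rcases h2 with h2 | h2 | h2
    · exact ⟨X, AK.X_mem, h2⟩
    · exact ⟨Y, AK.Y_mem, h2⟩
    · exact ⟨X * Y, hZm, by rw [h2, pg_mul]⟩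
  obtain ⟨A, hA, hA'⟩ := e1
  obtain ⟨B, hB, hB'⟩ := e2
  exact ⟨A, B, hA, hB, hA', hB'⟩

/-- elements of `GL₂` with square determinant map into the image of `SL₂` -/
theorem mk_mem_Lr_of_det_sq (h : GL (Fin 2) F) {δ : F}
    (hδ : (h : Matrix (Fin 2) (Fin 2) F).det = δ * δ) : Matrix.ProjGenLinGroup.mk h ∈ Lr F := by
  have hd0 := det_ne_zero_GL h
  have hδ0 : δ ≠ 0 := by
    rintro rfl
    rw [mul_zero] at hδ
    exact hd0 hδ
  have hdet : (δ⁻¹ • (h : Matrix (Fin 2) (Fin 2) F)).det = 1 := by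
    rw [Matrix.det_smul, Fintype.card_fin, hδ]
    field_simp
  obtain ⟨g, hg⟩ : ∃ g : Matrix.SpecialLinearGroup (Fin 2) F, (g : Matrix (Fin 2) (Fin 2) F) =
      δ⁻¹ • (h : Matrix (Fin 2) (Fin 2) F) := ⟨⟨_, hdet⟩, rfl⟩
  refine ⟨g, ?_⟩
  show Matrix.ProjGenLinGroup.mk (Matrix.SpecialLinearGroup.toGL g) = _
  rw [Matrix.ProjGenLinGroup.mk_eq_mk_iff]
  refine ⟨Units.mk0 δ hδ0, ?_⟩
  apply Units.ext
  ext i j
  have h1 : ((Matrix.SpecialLinearGroup.toGL g * Matrix.GeneralLinearGroup.scalar (Fin 2)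
      (Units.mk0 δ hδ0) : GL (Fin 2) F) : Matrix (Fin 2) (Fin 2) F) i j =
      (g : Matrix (Fin 2) (Fin 2) F) i j * δ := by
    simp [Matrix.mul_apply, Fin.sum_univ_two, Matrix.diagonal_apply]
  rw [h1, hg, Matrix.smul_apply, smul_eq_mul]
  field_simp

end Cfsg.Agent.Lib.helper6.PGLx
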