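import Mathlib
import Cfsg.Agent.Lib.helper6.PGLe

set_option autoImplicit false

namespace Cfsg.Agent.Lib.helper6.PGLx

open MulAction Cfsg.Agent.Lib.helper6.Dickson Cfsg.Agent.Lib.helper6.QAlg
open Cfsg.Agent.Lib.helper6.P2Odd Cfsg.Agent.S0808 Cfsg.Agent.S0807

variable {F : Type*} [Field F] [Fintype F]

/-- matrix form of the rotation relations -/
theorem rot_mat {X Y : Matrix (Fin 2) (Fin 2) F} (h : QS X Y) :
    qm X Y (2 : F)⁻¹ (2 : F)⁻¹ (2 : F)⁻¹ (2 : F)⁻¹ * X =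
      Y * qm X Y (2 : F)⁻¹ (2 : F)⁻¹ (2 : F)⁻¹ (2 : F)⁻¹ ∧
    qm X Y (2 : F)⁻¹ (2 : F)⁻¹ (2 : F)⁻¹ (2 : F)⁻¹ * Y =
      (X * Y) * qm X Y (2 : F)⁻¹ (2 : F)⁻¹ (2 : F)⁻¹ (2 : F)⁻¹ := by
  have hX : X = qm X Y 0 1 0 0 := qm_X.symm
  have hY : Y = qm X Y 0 0 1 0 := qm_Y.symm
  have hZ : X * Y = qm X Y 0 0 0 1 := qm_Z.symm
  constructor
  · calc qm X Y (2 : F)⁻¹ (2 : F)⁻¹ (2 : F)⁻¹ (2 : F)⁻¹ * X
        = qm X Y (2 : F)⁻¹ (2 : F)⁻¹ (2 : F)⁻¹ (2 : F)⁻¹ * qm X Y 0 1 0 0 := by rw [← hX]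
      _ = qm X Y 0 0 1 0 * qm X Y (2 : F)⁻¹ (2 : F)⁻¹ (2 : F)⁻¹ (2 : F)⁻¹ := by
          rw [qm_mul h, qm_mul h]; congr 1 <;> ring
      _ = Y * qm X Y (2 : F)⁻¹ (2 : F)⁻¹ (2 : F)⁻¹ (2 : F)⁻¹ := by rw [← hY]
  · calc qm X Y (2 : F)⁻¹ (2 : F)⁻¹ (2 : F)⁻¹ (2 : F)⁻¹ * Y
        = qm X Y (2 : F)⁻¹ (2 : F)⁻¹ (2 : F)⁻¹ (2 : F)⁻¹ * qm X Y 0 0 1 0 := by rw [← hY]
      _ = qm X Y 0 0 0 1 * qm X Y (2 : F)⁻¹ (2 : F)⁻¹ (2 : F)⁻¹ (2 : F)⁻¹ := by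
          rw [qm_mul h, qm_mul h]; congr 1 <;> ring
      _ = (X * Y) * qm X Y (2 : F)⁻¹ (2 : F)⁻¹ (2 : F)⁻¹ (2 : F)⁻¹ := by rw [← hZ]

/-- an element of `SL₂` permuting a quaternion triple cyclically -/
theorem exists_rot {X Y : Matrix.SpecialLinearGroup (Fin 2) F}
    (h : QS (X : Matrix (Fin 2) (Fin 2) F) (Y : Matrix (Fin 2) (Fin 2) F)) :
    ∃ g : Matrix.SpecialLinearGroup (Fin 2) F, g * X = Y * g ∧ g * Y = (X * Y) * g := by
  have h2 := h.two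
  have hdet : (qm (X : Matrix (Fin 2) (Fin 2) F) (Y : Matrix (Fin 2) (Fin 2) F)
      (2 : F)⁻¹ (2 : F)⁻¹ (2 : F)⁻¹ (2 : F)⁻¹).det = 1 := by
    rw [det_qm h]
    field_simp
    norm_num
  obtain ⟨g, hg⟩ : ∃ g : Matrix.SpecialLinearGroup (Fin 2) F,
      (g : Matrix (Fin 2) (Fin 2) F) = qm (X : Matrix (Fin 2) (Fin 2) F)
        (Y : Matrix (Fin 2) (Fin 2) F) (2 : F)⁻¹ (2 : F)⁻¹ (2 : F)⁻¹ (2 : F)⁻¹ :=
    ⟨⟨_, hdet⟩, rfl⟩
  obtain ⟨e1, e2⟩ := rot_mat h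
  refine ⟨g, ?_, ?_⟩
  · apply Subtype.ext
    rw [Matrix.SpecialLinearGroup.coe_mul, Matrix.SpecialLinearGroup.coe_mul, hg]
    exact e1
  · apply Subtype.ext
    rw [Matrix.SpecialLinearGroup.coe_mul, Matrix.SpecialLinearGroup.coe_mul,
      Matrix.SpecialLinearGroup.coe_mul, hg]
    exact e2

/-- a square root of `X` in `SL₂` normalising the four-group, when `2` is a square -/
theorem exists_sqrt {X Y : Matrix.SpecialLinearGroup (Fin 2) F}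
    (h : QS (X : Matrix (Fin 2) (Fin 2) F) (Y : Matrix (Fin 2) (Fin 2) F))
    (h2sq : IsSquare (2 : F)) :
    ∃ g : Matrix.SpecialLinearGroup (Fin 2) F, g * g = X ∧ g * X = X * g ∧
      g * Y = (X * Y) * g := by
  obtain ⟨g, -, hgg, hgX, hgY⟩ := exists_sqrt_X h h2sq
  refine ⟨g, ?_, ?_, ?_⟩
  · apply Subtype.ext
    rw [Matrix.SpecialLinearGroup.coe_mul]; exact hgg
  · apply Subtype.ext
    rw [Matrix.SpecialLinearGroup.coe_mul, Matrix.SpecialLinearGroup.coe_mul]; exact hgX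
  · apply Subtype.ext
    rw [Matrix.SpecialLinearGroup.coe_mul, Matrix.SpecialLinearGroup.coe_mul,
      Matrix.SpecialLinearGroup.coe_mul]; exact hgY

/-- conjugation in `PGL₂` from a relation in `SL₂` -/
theorem pg_conj_of_mul_eq {g A B : Matrix.SpecialLinearGroup (Fin 2) F} (h : g * A = B * g) :
    pg g * pg A * (pg g)⁻¹ = pg B := by
  rw [← pg_mul, h, pg_mul, mul_inv_cancel_right]

/-- the normaliser of a four-group of the image of `SL₂` is proper -/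
theorem normalizer_pair_ne_top (hodd : Odd (Fintype.card F)) (h4 : 4 ≤ Fintype.card F)
    {x y : Matrix.ProjGenLinGroup (Fin 2) F} (hp : IsPair (x, y)) (hx : x ∈ Lr F)
    (hy : y ∈ Lr F) :
    Subgroup.normalizer ((pairSubgroup x y (sq_of_order_two' hp.1) (sq_of_order_two' hp.2.1)
      hp.2.2.2 : Subgroup (Matrix.ProjGenLinGroup (Fin 2) F)) :
        Set (Matrix.ProjGenLinGroup (Fin 2) F)) ≠ ⊤ := by
  intro htop
  have hn := Subgroup.normalizer_eq_top_iff.mp htop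
  have hk := pairSubgroup_klein x y (sq_of_order_two' hp.1) (sq_of_order_two' hp.2.1) hp.2.2.2
    (ne_one_of_order_two hp.1) (ne_one_of_order_two hp.2.1) hp.2.2.1
  refine not_normal_of_le_Lr h4 ?_ ?_ ?_ hn
  · intro z hz
    rcases hz with rfl | rfl | rfl | rfl
    · exact (Lr F).one_mem
    · exact hx
    · exact hy
    · exact (Lr F).mul_mem hx hy
  · intro hb
    have h1 := hk.card_four
    rw [hb, Subgroup.card_bot] at h1
    omega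
  · intro hb
    have h1 := hk.card_four
    rw [hb] at h1
    have h2 := card_Lr_mul hodd
    rw [h1] at h2
    have h3 : 4 * (4 ^ 2 - 1) ≤ Fintype.card F * (Fintype.card F ^ 2 - 1) :=
      Nat.mul_le_mul h4 (Nat.sub_le_sub_right (Nat.pow_le_pow_left h4 2) 1)
    omega

end Cfsg.Agent.Lib.helper6.PGLx
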