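import Mathlib
import Cfsg.Agent.Lib.helper6.PGLf
import Cfsg.Agent.Lib.helper6.PSL2TorA
import Cfsg.Agent.S0251

set_option autoImplicit false

namespace Cfsg.Agent.Lib.helper6.PGLx

open MulAction Cfsg.Agent.Lib.helper6.Dickson Cfsg.Agent.Lib.helper6.QAlg
open Cfsg.Agent.Lib.helper6.P2Odd Cfsg.Agent.S0808 Cfsg.Agent.S0807

/-- orders of `p'`-elements of `PSL₂(K)`, `K` of odd order -/
theorem psl2_order_dvd {K : Type*} [Field K] [Fintype K] (p : ℕ) [Fact p.Prime] [CharP K p]
    (hodd : Odd (Fintype.card K)) {c m : ℕ} (hc : 2 * c + 1 = Fintype.card K)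
    (hm : 2 * m = Fintype.card K + 1)
    (z : Matrix.ProjectiveSpecialLinearGroup (Fin 2) K) (hz : (orderOf z).Coprime p) :
    orderOf z ∣ c ∨ orderOf z ∣ m := by
  have hp : p.Prime := Fact.out
  by_cases h4 : 4 ≤ Fintype.card K
  · obtain ⟨X', _, D⟩ := Cfsg.Agent.Lib.helper3.psl2_dact (F := K) p
    obtain ⟨r, s, hFull⟩ := Cfsg.Agent.Lib.helper6.PSL2Struct.psl_full p h4 D
    have hgcd : Nat.gcd 2 (Fintype.card K - 1) = 2 := by
      obtain ⟨t, ht⟩ := hodd
      rw [ht, Nat.add_sub_cancel]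
      exact Nat.gcd_eq_left (Dvd.intro _ rfl)
    rw [hgcd] at hFull
    have h1 := hFull.order_dvd (by norm_num) z hz
    have e1 : (Fintype.card K - 1) / 2 = c := by omega
    have e2 : (Fintype.card K + 1) / 2 = m := by omega
    rwa [e1, e2] at h1
  · have h1 : 1 < Fintype.card K := Fintype.one_lt_card
    have h3 : Fintype.card K = 3 := by
      obtain ⟨t, ht⟩ := hodd
      omega
    obtain ⟨k, hk0, hk⟩ := exists_card_pow (F := K) p
    have hp3 : p = 3 := by
      have : p ∣ 3 := by
        rw [← h3, hk]; exact dvd_pow_self p hk0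
      exact (Nat.prime_dvd_prime_iff_eq hp Nat.prime_three).mp this
    obtain ⟨e⟩ := Cfsg.Agent.S0251.result (F := K) h3
    have ho : orderOf (e z) = orderOf z := e.orderOf_eq z
    rcases Cfsg.Agent.Lib.helper6.PSL2Tor.order_A4 (e z) with h | h
    · right
      rw [ho] at h
      have : m = 2 := by omega
      rw [this]; exact h
    · left
      rw [ho] at h
      rw [hp3] at hz
      have : orderOf z ∣ 1 := by
        have := Nat.dvd_gcd (dvd_refl (orderOf z)) h
        rwa [hz] at this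
      exact this.trans (one_dvd _)

end Cfsg.Agent.Lib.helper6.PGLx
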