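import Mathlib
import Cfsg.Agent.Lib.helper6.PGLg

set_option autoImplicit false

namespace Cfsg.Agent.Lib.helper6.PGLx

open MulAction Cfsg.Agent.Lib.helper6.Dickson Cfsg.Agent.Lib.helper6.QAlg
open Cfsg.Agent.Lib.helper6.P2Odd Cfsg.Agent.S0808 Cfsg.Agent.S0807

variable {F : Type*} [Field F] [Fintype F]

/-- the common set-up of the cases with a normal four-group inside the image of `SL₂` -/
theorem four_setup (h2F : (2 : F) ≠ 0) (hodd : Odd (Fintype.card F)) (h4 : 4 ≤ Fintype.card F)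
    {M : Subgroup (Matrix.ProjGenLinGroup (Fin 2) F)} (hM : IsCoatom M)
    {A : Type*} [Group A] (e : M ≃* A) {a b : A} (hab : IsPair (a, b))
    (hn : ∀ t : A, (t * a * t⁻¹ = a ∨ t * a * t⁻¹ = b ∨ t * a * t⁻¹ = a * b) ∧
      (t * b * t⁻¹ = a ∨ t * b * t⁻¹ = b ∨ t * b * t⁻¹ = a * b))
    (ha : ((e.symm a : M) : Matrix.ProjGenLinGroup (Fin 2) F) ∈ Lr F)
    (hb : ((e.symm b : M) : Matrix.ProjGenLinGroup (Fin 2) F) ∈ Lr F) :
    ∃ (X Y : Matrix.SpecialLinearGroup (Fin 2) F)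
      (hQS : QS (X : Matrix (Fin 2) (Fin 2) F) (Y : Matrix (Fin 2) (Fin 2) F)),
      pg X = (e.symm a : M) ∧ pg Y = (e.symm b : M) ∧
      (∀ K : Subfield F, liftG M ≤ GG hQS K) ∧
      ∃ (hxx : pg X * pg X = 1) (hyy : pg Y * pg Y = 1) (hxy : pg X * pg Y = pg Y * pg X),
        M = Subgroup.normalizer (pairSubgroup _ _ hxx hyy hxy : Set _) ∧ pg Y ≠ 1 := by
  have hp' : IsPair (((e.symm a : M) : Matrix.ProjGenLinGroup (Fin 2) F),
      ((e.symm b : M) : Matrix.ProjGenLinGroup (Fin 2) F)) :=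
    isPair_map (M.subtype.comp e.symm.toMonoidHom)
      (M.subtype_injective.comp e.symm.injective) hab
  obtain ⟨X, Y, hQS, hX, hY⟩ := exists_QS_of_pair_pgl h2F hp' ha hb
  have hconj : ∀ t ∈ M,
      (t * pg X * t⁻¹ = pg X ∨ t * pg X * t⁻¹ = pg Y ∨ t * pg X * t⁻¹ = pg X * pg Y) ∧
      (t * pg Y * t⁻¹ = pg X ∨ t * pg Y * t⁻¹ = pg Y ∨ t * pg Y * t⁻¹ = pg X * pg Y) := by
    intro t ht
    rw [hX, hY]
    exact conj_of_normal e hn t ht
  have hle : ∀ K : Subfield F, liftG M ≤ GG hQS K :=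
    fun K => liftG_le_GG_of_normal hQS K hconj
  rw [← hX, ← hY] at hp'
  refine ⟨X, Y, hQS, hX, hY, hle, sq_of_order_two' hp'.1, sq_of_order_two' hp'.2.1,
    hp'.2.2.2, ?_, ne_one_of_order_two hp'.2.1⟩
  apply coatom_eq hM
  · intro t ht
    obtain ⟨h1, h2⟩ := hconj t ht
    apply mem_normalizer_pair
    · rcases h1 with h1 | h1 | h1 <;> rw [h1]
      · exact Or.inr (Or.inl rfl)
      · exact Or.inr (Or.inr (Or.inl rfl))
      · exact Or.inr (Or.inr (Or.inr rfl))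
    · rcases h2 with h2 | h2 | h2 <;> rw [h2]
      · exact Or.inr (Or.inl rfl)
      · exact Or.inr (Or.inr (Or.inl rfl))
      · exact Or.inr (Or.inr (Or.inr rfl))
  · exact normalizer_pair_ne_top hodd h4 hp' (pg_mem_Lr X) (pg_mem_Lr Y)

/-- elements of `SL₂` permuting the triple lie in the normaliser -/
theorem pg_mem_normalizer {X Y g A B : Matrix.SpecialLinearGroup (Fin 2) F}
    (hxx : pg X * pg X = 1) (hyy : pg Y * pg Y = 1) (hxy : pg X * pg Y = pg Y * pg X)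
    (hA : g * X = A * g) (hB : g * Y = B * g)
    (hAm : pg A ∈ pairSubgroup (pg X) (pg Y) hxx hyy hxy)
    (hBm : pg B ∈ pairSubgroup (pg X) (pg Y) hxx hyy hxy) :
    pg g ∈ Subgroup.normalizer (pairSubgroup (pg X) (pg Y) hxx hyy hxy :
      Set (Matrix.ProjGenLinGroup (Fin 2) F)) := by
  apply mem_normalizer_pair
  · rw [pg_conj_of_mul_eq hA]; exact hAm
  · rw [pg_conj_of_mul_eq hB]; exact hBm

end Cfsg.Agent.Lib.helper6.PGLx
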