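import Mathlib
import Cfsg.Agent.Lib.helper6.PGLh

set_option autoImplicit false

namespace Cfsg.Agent.Lib.helper6.PGLx

open MulAction Cfsg.Agent.Lib.helper6.Dickson Cfsg.Agent.Lib.helper6.QAlg
open Cfsg.Agent.Lib.helper6.P2Odd Cfsg.Agent.S0808 Cfsg.Agent.S0807

theorem s4a_sq : ∃ c : Equiv.Perm (Fin 4), c * c = s4a := by decide
theorem s4b_sq : ∃ c : Equiv.Perm (Fin 4), c * c = s4b := by decide

theorem s4_even_sq : ∀ s : Equiv.Perm (Fin 4), Equiv.Perm.sign s = 1 →
    ∃ a : Equiv.Perm (Fin 4), s = a * a := by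
  decide

theorem s4_sqrt_odd : ∀ t : Equiv.Perm (Fin 4), t * t = s4a → Equiv.Perm.sign t = -1 := by decide

variable {F : Type*} [Field F] [Fintype F]

/-- a unipotent element of a subgroup of `PGL₂` forces `p` to divide its order -/
theorem p_dvd_card_of_unipotent_pgl (p : ℕ) [Fact p.Prime]
    {M : Subgroup (Matrix.ProjGenLinGroup (Fin 2) F)} [Finite M]
    {u : Matrix.SpecialLinearGroup (Fin 2) F} (huM : pg u ∈ M) (hup : u ^ p = 1)
    (hun : u ∉ Subgroup.center (Matrix.SpecialLinearGroup (Fin 2) F)) : p ∣ Nat.card M := by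
  have h1 : (⟨pg u, huM⟩ : M) ^ p = 1 := by
    apply Subtype.ext
    rw [Subgroup.coe_pow, Subgroup.coe_one]
    show pg u ^ p = 1
    unfold pg
    rw [← map_pow, ← map_pow, hup, map_one, map_one]
  have h2 : (⟨pg u, huM⟩ : M) ≠ 1 := by
    intro h
    have h3 : pg u = 1 := congrArg Subtype.val h
    rw [pg_eq_toPGL] at h3
    have h4 := Matrix.ProjectiveSpecialLinearGroup.toPGL_injective (n := Fin 2) (R := F)
      (h3.trans (map_one _).symm)
    rw [QuotientGroup.eq_one_iff] at h4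
    exact hun h4
  have h3 : orderOf (⟨pg u, huM⟩ : M) = p := orderOf_eq_prime h1 h2
  rw [← h3]; exact orderOf_dvd_natCard _

set_option maxHeartbeats 800000 in
/-- the case `M ≅ S₄` in `PGL₂` -/
theorem s4_case_pgl (p : ℕ) [Fact p.Prime] [CharP F p] (hp2 : p ≠ 2) (h4 : 4 ≤ Fintype.card F)
    {M : Subgroup (Matrix.ProjGenLinGroup (Fin 2) F)} (hM : IsCoatom M) (hML : ¬ M ≤ Lr F)
    (e : M ≃* Equiv.Perm (Fin 4)) :
    (Fintype.card F = p ∧ (p % 8 = 3 ∨ p % 8 = 5)) ∨
      (∃ r : ℕ, r.Prime ∧ Odd r ∧ Fintype.card F = 3 ^ r) := by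
  have hp : p.Prime := Fact.out
  have hpodd : Odd p := hp.odd_of_ne_two hp2
  obtain ⟨k, hk0, hk⟩ := exists_card_pow (F := F) p
  have hoddF : Odd (Fintype.card F) := by rw [hk]; exact hpodd.pow
  have h2F : (2 : F) ≠ 0 := two_ne_zero_of_char p hp2
  have ha : ((e.symm s4a : M) : Matrix.ProjGenLinGroup (Fin 2) F) ∈ Lr F := by
    obtain ⟨c, hc⟩ := s4a_sq
    rw [← hc, map_mul, Subgroup.coe_mul]
    exact sq_mem_Lr _
  have hb : ((e.symm s4b : M) : Matrix.ProjGenLinGroup (Fin 2) F) ∈ Lr F := by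
    obtain ⟨c, hc⟩ := s4b_sq
    rw [← hc, map_mul, Subgroup.coe_mul]
    exact sq_mem_Lr _
  obtain ⟨X, Y, hQS, hX, hY, hle, hxx, hyy, hxy, hMN, hY1⟩ :=
    four_setup h2F hoddF h4 hM e s4_pair s4_normal ha hb
  have hcM : Nat.card M = 24 := by
    rw [Nat.card_congr e.toEquiv, Nat.card_eq_fintype_card, Fintype.card_perm, Fintype.card_fin]
    rfl
  haveI : Finite M := Nat.finite_of_card_ne_zero (by rw [hcM]; norm_num)
  -- the congruence modulo 8
  have hmod : Fintype.card F % 8 = 3 ∨ Fintype.card F % 8 = 5 := by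
    by_contra hcon
    have hsq : IsSquare (2 : F) := by
      rw [FiniteField.isSquare_two_iff]; omega
    obtain ⟨g, hgg, hgX, hgY⟩ := exists_sqrt hQS hsq
    have hgM : pg g ∈ M := by
      rw [hMN]
      exact pg_mem_normalizer hxx hyy hxy hgX hgY (Or.inr (Or.inl rfl))
        (Or.inr (Or.inr (Or.inr (pg_mul X Y))))
    apply hML
    intro z hz
    obtain ⟨t, ht⟩ : ∃ t : Equiv.Perm (Fin 4), t = e ⟨pg g, hgM⟩ := ⟨_, rfl⟩
    have htt : t * t = s4a := by
      rw [ht, ← map_mul]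
      have : (⟨pg g, hgM⟩ : M) * ⟨pg g, hgM⟩ = e.symm s4a := by
        apply Subtype.ext
        show pg g * pg g = _
        rw [← pg_mul, hgg, hX]
      rw [this, e.apply_symm_apply]
    have hsign := s4_sqrt_odd t htt
    have hst : (e.symm t : M) = ⟨pg g, hgM⟩ := by rw [ht, e.symm_apply_apply]
    rcases Int.units_eq_one_or (Equiv.Perm.sign (e ⟨z, hz⟩)) with h1 | h1
    · obtain ⟨a, ha'⟩ := s4_even_sq _ h1
      have h2 : z = (e.symm a : M) * (e.symm a : M) := by
        have h3 := congrArg e.symm ha'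
        rw [e.symm_apply_apply, map_mul] at h3
        exact congrArg Subtype.val h3
      rw [h2]; exact sq_mem_Lr _
    · have h2 : Equiv.Perm.sign (e ⟨z, hz⟩ * t⁻¹) = 1 := by
        rw [map_mul, map_inv, h1, hsign]; decide
      obtain ⟨a, ha'⟩ := s4_even_sq _ h2
      have h3 : e ⟨z, hz⟩ = a * a * t := by rw [← ha', inv_mul_cancel_right]
      have h4 : z = (e.symm a : M) * (e.symm a : M) * pg g := by
        have h5 := congrArg e.symm h3
        rw [e.symm_apply_apply, map_mul, map_mul, hst] at h5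
        exact congrArg Subtype.val h5
      rw [h4]; exact (Lr F).mul_mem (sq_mem_Lr _) (pg_mem_Lr g)
  by_cases hk1 : k = 1
  · left
    rw [hk1, pow_one] at hk
    rw [hk] at hmod
    exact ⟨hk, hmod⟩
  right
  have hk2 : 2 ≤ k := by omega
  have hMc := liftG_coatom hM
  have hlt1 : p ^ 1 < Fintype.card F := by
    rw [hk]; exact Nat.pow_lt_pow_right hp.one_lt (by omega)
  have hK1 : fixF F p 1 ≠ ⊤ := fixF_ne_top p one_ne_zero hlt1
  have heq1 : liftG M = GG hQS (fixF F p 1) := coatom_eq hMc (hle _) (GG_ne_top hQS hK1)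
  obtain ⟨u, hu, hup, hun⟩ := exists_unipotent p hQS
  have huM : pg u ∈ M := by
    rw [← mem_liftG, heq1, toGL_mem_GG]; exact G1_le_G1' hQS _ (hu _)
  have hpM : p ∣ Nat.card M := p_dvd_card_of_unipotent_pgl p huM hup hun
  have hp3 : p = 3 := by
    rw [hcM] at hpM
    have h8 : Nat.Coprime p 8 := by
      have : Nat.Coprime p 2 := (Nat.coprime_primes hp Nat.prime_two).mpr hp2
      exact Nat.Coprime.pow_right 3 this
    have : p ∣ 3 := h8.dvd_of_dvd_mul_left (by simpa using hpM)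
    exact (Nat.prime_dvd_prime_iff_eq hp Nat.prime_three).mp this
  subst hp3
  rcases Nat.even_or_odd k with hev | hod
  · exfalso
    obtain ⟨i, hi⟩ := hev
    rw [hk, hi, ← two_mul, nine_pow_mod] at hmod
    omega
  by_cases hpr : k.Prime
  · exact ⟨k, hpr, hod, hk⟩
  exfalso
  obtain ⟨n', h1n, hn'k, hn'lt⟩ := exists_proper_dvd hk2 hpr
  have hlt2 : 3 ^ n' < Fintype.card F := by
    rw [hk]; exact Nat.pow_lt_pow_right (by norm_num) hn'lt
  have hK2 : fixF F 3 n' ≠ ⊤ := fixF_ne_top 3 (by omega) hlt2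
  have heq2 : liftG M = GG hQS (fixF F 3 n') := coatom_eq hMc (hle _) (GG_ne_top hQS hK2)
  obtain ⟨x₀, hx2, hx1⟩ := exists_mem_not_mem 3 hk one_ne_zero h1n hn'k
  obtain ⟨t, ht, ht2⟩ := exists_sq_not_mem_rel h2F hx2 hx1
  obtain ⟨g, hg, hgt⟩ := exists_trace_G1 hQS (fixF F 3 n') ht
  have hg' : Matrix.SpecialLinearGroup.toGL g ∈ GG hQS (fixF F 3 1) := by
    rw [← heq1, heq2, toGL_mem_GG]; exact G1_le_G1' hQS _ hg
  have h5 := tau_mem_of_GG hQS hg'
  rw [Matrix.SpecialLinearGroup.coe_GL_coe_matrix, hgt, g.2, inv_one, mul_one] at h5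
  exact ht2 h5

end Cfsg.Agent.Lib.helper6.PGLx
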