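import Mathlib
import Cfsg.Agent.Lib.helper6.PGLi

set_option autoImplicit false

namespace Cfsg.Agent.Lib.helper6.PGLx

open MulAction Cfsg.Agent.Lib.helper6.Dickson Cfsg.Agent.Lib.helper6.QAlg
open Cfsg.Agent.Lib.helper6.P2Odd Cfsg.Agent.S0808 Cfsg.Agent.S0807

theorem d4_normal : ∀ i : ZMod 4, ∀ t : DihedralGroup 4,
    (t * DihedralGroup.r 2 * t⁻¹ = DihedralGroup.r 2 ∨
      t * DihedralGroup.r 2 * t⁻¹ = DihedralGroup.sr i ∨
      t * DihedralGroup.r 2 * t⁻¹ = DihedralGroup.r 2 * DihedralGroup.sr i) ∧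
    (t * DihedralGroup.sr i * t⁻¹ = DihedralGroup.r 2 ∨
      t * DihedralGroup.sr i * t⁻¹ = DihedralGroup.sr i ∨
      t * DihedralGroup.sr i * t⁻¹ = DihedralGroup.r 2 * DihedralGroup.sr i) := by decide

theorem d4_pair (i : ZMod 4) :
    IsPair ((DihedralGroup.r 2 : DihedralGroup 4), (DihedralGroup.sr i : DihedralGroup 4)) := by
  refine ⟨?_, ?_, ?_, ?_⟩
  · show orderOf (DihedralGroup.r 2 : DihedralGroup 4) = 2
    exact orderOf_eq_prime (by decide) (by decide)
  · show orderOf (DihedralGroup.sr i : DihedralGroup 4) = 2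
    exact DihedralGroup.orderOf_sr i
  · show (DihedralGroup.r 2 : DihedralGroup 4) ≠ DihedralGroup.sr i
    exact fun h => by cases h
  · show (DihedralGroup.r 2 : DihedralGroup 4) * DihedralGroup.sr i =
      DihedralGroup.sr i * DihedralGroup.r 2
    revert i; decide

theorem zmod2_add : ∀ x y : ZMod 2, x ≠ 0 → y ≠ 0 → x + y = 0 := by decide

theorem zmod2_mul (a b : Multiplicative (ZMod 2)) (ha : a ≠ 1) (hb : b ≠ 1) : a * b = 1 := by
  have h := zmod2_add (Multiplicative.toAdd a) (Multiplicative.toAdd b)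
    (fun h => ha (Multiplicative.toAdd.injective h))
    (fun h => hb (Multiplicative.toAdd.injective h))
  exact Multiplicative.toAdd.injective h

variable {F : Type*} [Field F] [Fintype F]

/-- elements of order four do not lie in the image of `SL₂(5)` -/
theorem no_order_four [CharP F 5] (hq : Fintype.card F = 5)
    {z : Matrix.ProjGenLinGroup (Fin 2) F} (hz : z ∈ Lr F) (ho : orderOf z = 4) : False := by
  haveI : Fact (Nat.Prime 5) := ⟨Nat.prime_five⟩
  have hoddF : Odd (Fintype.card F) := by rw [hq]; exact ⟨2, rfl⟩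
  obtain ⟨z₀, hz₀⟩ := exists_of_mem_Lr hz
  have ho' : orderOf z₀ = 4 := by
    rw [← orderOf_injective _ (Matrix.ProjectiveSpecialLinearGroup.toPGL_injective
      (n := Fin 2) (R := F)) z₀, hz₀, ho]
  have hcop : (orderOf z₀).Coprime 5 := by rw [ho']; norm_num
  have h5 := psl2_order_dvd 5 hoddF (c := 2) (m := 3) (by omega) (by omega) z₀ hcop
  rw [ho'] at h5
  omega

/-- a reflection of a dihedral subgroup of order eight lies in the image of `SL₂(5)` -/
theorem exists_sr_mem [CharP F 5] (hq : Fintype.card F = 5)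
    {M : Subgroup (Matrix.ProjGenLinGroup (Fin 2) F)} (e : M ≃* DihedralGroup 4) :
    ∃ i : ZMod 4,
      ((e.symm (DihedralGroup.sr i) : M) : Matrix.ProjGenLinGroup (Fin 2) F) ∈ Lr F := by
  have hoddF : Odd (Fintype.card F) := by rw [hq]; exact ⟨2, rfl⟩
  obtain ⟨φ, hφ⟩ := exists_hom_Lr hoddF
  by_contra hcon
  push Not at hcon
  have h0 := hcon 0
  have h1 := hcon 1
  rw [← hφ, MonoidHom.mem_ker] at h0 h1
  have h2 := zmod2_mul _ _ h0 h1
  rw [← map_mul, ← MonoidHom.mem_ker, hφ, ← Subgroup.coe_mul, ← map_mul] at h2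
  have h3 : (DihedralGroup.sr 0 : DihedralGroup 4) * DihedralGroup.sr 1 = DihedralGroup.r 1 := by
    rw [DihedralGroup.sr_mul_sr, sub_zero]
  rw [h3] at h2
  apply no_order_four hq h2
  rw [Subgroup.orderOf_coe, MulEquiv.orderOf_eq, DihedralGroup.orderOf_r_one]

/-- the rotation of order three is incompatible with a group of order eight -/
theorem rot_excl {M : Subgroup (Matrix.ProjGenLinGroup (Fin 2) F)} (hcM : Nat.card M = 8)
    {X Y g : Matrix.SpecialLinearGroup (Fin 2) F} (hgM : pg g ∈ M)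
    (hyy : pg Y * pg Y = 1) (hxy : pg X * pg Y = pg Y * pg X) (hY1 : pg Y ≠ 1)
    (hgX : g * X = Y * g) (hgY : g * Y = (X * Y) * g) : False := by
  have h8 : pg g ^ 8 = 1 := by
    have h1 : (⟨pg g, hgM⟩ : M) ^ Nat.card M = 1 := pow_card_eq_one'
    rw [hcM] at h1
    have h2 := congrArg Subtype.val h1
    rwa [Subgroup.coe_pow, Subgroup.coe_one] at h2
  have h1 : MulAut.conj (pg g) (pg X) = pg Y := by
    rw [MulAut.conj_apply]; exact pg_conj_of_mul_eq hgX
  have h2 : MulAut.conj (pg g) (pg Y) = pg X * pg Y := by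
    rw [MulAut.conj_apply, pg_conj_of_mul_eq hgY, pg_mul]
  have h3 : MulAut.conj (pg g) (pg X * pg Y) = pg X := by
    rw [map_mul, h1, h2, hxy, ← mul_assoc, hyy, one_mul]
  have h9 : MulAut.conj (pg g ^ 8) (pg X) = pg X * pg Y := by
    rw [map_pow]
    have e8 : (MulAut.conj (pg g)) ^ 8 = MulAut.conj (pg g) * (MulAut.conj (pg g) *
        (MulAut.conj (pg g) * (MulAut.conj (pg g) * (MulAut.conj (pg g) *
        (MulAut.conj (pg g) * (MulAut.conj (pg g) * MulAut.conj (pg g))))))) := by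
      simp only [pow_succ, pow_zero, one_mul, mul_assoc]
    rw [e8]
    simp only [MulAut.mul_apply, h1, h2, h3]
  rw [h8, map_one, MulAut.one_apply] at h9
  apply hY1
  have : pg X * pg Y = pg X * 1 := by rw [← h9, mul_one]
  exact mul_left_cancel this

/-- the dihedral group of order `8` is not maximal in `PGL₂(5)` -/
theorem d4_excl (p : ℕ) [Fact p.Prime] [CharP F p] (hq : Fintype.card F = 5)
    {M : Subgroup (Matrix.ProjGenLinGroup (Fin 2) F)} (hM : IsCoatom M)
    (e : M ≃* DihedralGroup 4) : False := by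
  have hp : p.Prime := Fact.out
  obtain ⟨k, hk0, hk⟩ := exists_card_pow (F := F) p
  have hp5 : p = 5 := by
    have : p ∣ 5 := by
      rw [← hq, hk]; exact dvd_pow_self p hk0
    exact (Nat.prime_dvd_prime_iff_eq hp Nat.prime_five).mp this
  subst hp5
  have hoddF : Odd (Fintype.card F) := by rw [hq]; exact ⟨2, rfl⟩
  have h4 : 4 ≤ Fintype.card F := by omega
  have h2F : (2 : F) ≠ 0 := two_ne_zero_of_char 5 (by norm_num)
  have ha : ((e.symm (DihedralGroup.r 2) : M) : Matrix.ProjGenLinGroup (Fin 2) F) ∈ Lr F := by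
    have : (DihedralGroup.r 2 : DihedralGroup 4) = DihedralGroup.r 1 * DihedralGroup.r 1 := by
      rw [DihedralGroup.r_mul_r]; rfl
    rw [this, map_mul, Subgroup.coe_mul]
    exact sq_mem_Lr _
  obtain ⟨i, hb⟩ := exists_sr_mem hq e
  obtain ⟨X, Y, hQS, hX, hY, hle, hxx, hyy, hxy, hMN, hY1⟩ :=
    four_setup h2F hoddF h4 hM e (d4_pair i) (d4_normal i) ha hb
  obtain ⟨g, hgX, hgY⟩ := exists_rot hQS
  have hgM : pg g ∈ M := by
    rw [hMN]
    exact pg_mem_normalizer hxx hyy hxy hgX hgY (Or.inr (Or.inr (Or.inl rfl)))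
      (Or.inr (Or.inr (Or.inr (pg_mul X Y))))
  have hcM : Nat.card M = 8 := by
    rw [Nat.card_congr e.toEquiv, DihedralGroup.nat_card]
  exact rot_excl hcM hgM hyy hxy hY1 hgX hgY

end Cfsg.Agent.Lib.helper6.PGLx
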