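import Mathlib
import Cfsg.Agent.Lib.helper6.PGLj

set_option autoImplicit false

namespace Cfsg.Agent.Lib.helper6.PGLx

open MulAction Cfsg.Agent.Lib.helper6.Dickson Cfsg.Agent.Lib.helper6.QAlg
open Cfsg.Agent.Lib.helper6.P2Odd Cfsg.Agent.S0808 Cfsg.Agent.S0807

section A

variable {F : Type*} [Field F]

/-- elements of odd order are squares, so they lie in the image of `SL₂` -/
theorem mem_Lr_of_pow_odd {x : Matrix.ProjGenLinGroup (Fin 2) F} {p : ℕ} (hp : Odd p)
    (hx : x ^ p = 1) : x ∈ Lr F := by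
  obtain ⟨t, ht⟩ := hp
  have e1 : x = x ^ (t + 1) * x ^ (t + 1) := by
    rw [← pow_add]
    have : t + 1 + (t + 1) = p + 1 := by omega
    rw [this, pow_succ, hx, one_mul]
  rw [e1]
  exact sq_mem_Lr _

/-- groups generated by `p`-elements (`p` odd) map into the image of `SL₂` -/
theorem map_mem_Lr_of_genByP {H : Type*} [Group H] {p : ℕ} (hp : Odd p)
    (hgen : Cfsg.Agent.Lib.Helper28.P2.GenByP p H)
    (f : H →* Matrix.ProjGenLinGroup (Fin 2) F) (x : H) : f x ∈ Lr F := by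
  apply hgen.map_le f (Lr F)
  intro g hg
  apply mem_Lr_of_pow_odd hp
  rw [← map_pow, hg, map_one]

/-- `Lr K` is generated by `p`-elements -/
theorem genByP_Lr (K : Type*) [Field K] (p : ℕ) [CharP K p] :
    Cfsg.Agent.Lib.Helper28.P2.GenByP p (Lr K) :=
  Cfsg.Agent.Lib.Helper28.P2.GenByP.of_equiv (lrEquiv K).symm
    (Cfsg.Agent.Lib.Helper28.P2.genByP_psl2 p)

/-- a subgroup of `PGL₂(F)` of type `PSL₂(K)`, `K` of odd characteristic, lies in the image of
`SL₂(F)` -/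
theorem le_Lr_of_equiv_psl {M : Subgroup (Matrix.ProjGenLinGroup (Fin 2) F)}
    {K : Type*} [Field K] (p : ℕ) [CharP K p] (hp : Odd p)
    (e : M ≃* Matrix.ProjectiveSpecialLinearGroup (Fin 2) K) : M ≤ Lr F :=
  le_Lr_of_genByP hp (Cfsg.Agent.Lib.Helper28.P2.GenByP.of_equiv e
    (Cfsg.Agent.Lib.Helper28.P2.genByP_psl2 p))

end A

section B

variable {F : Type*} [Field F] [Fintype F]

/-- elements of a subfield of even index are squares -/
theorem isSquare_of_mem_fixF (p : ℕ) [Fact p.Prime] [CharP F p] (hp2 : p ≠ 2) {a j : ℕ}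
    (hk : Fintype.card F = p ^ (a * (2 * j))) {x : F} (hx : x ∈ fixF F p a) : IsSquare x := by
  have hp : p.Prime := Fact.out
  by_cases hx0 : x = 0
  · exact ⟨0, by rw [hx0, mul_zero]⟩
  have hchar : ringChar F ≠ 2 := by
    rw [ringChar.eq F p]; exact hp2
  rw [FiniteField.isSquare_iff hchar hx0]
  have h1 := pow_pred_of_mem_fixF p hx0 hx
  have hs : Odd (p ^ a) := (hp.odd_of_ne_two hp2).pow
  obtain ⟨J, hJ, -⟩ := geom_parity ((p ^ a) ^ 2) hs.pow j
  obtain ⟨u, hu⟩ := hs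
  have hq : Fintype.card F = ((p ^ a) ^ 2) ^ j := by
    rw [hk, ← pow_mul, ← pow_mul]
  have e1 : (p ^ a) ^ 2 - 1 = (p ^ a - 1) * (2 * (u + 1)) := by
    rw [hu]
    have : (2 * u + 1) ^ 2 = 4 * u * u + 4 * u + 1 := by ring
    rw [this]
    have : 2 * u + 1 - 1 = 2 * u := by omega
    rw [this]
    have : 4 * u * u + 4 * u + 1 - 1 = 4 * u * u + 4 * u := by omega
    rw [this]; ring
  have e2 : Fintype.card F / 2 = (p ^ a - 1) * ((u + 1) * J) := by
    rw [hq, ← hJ, e1]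
    have : (p ^ a - 1) * (2 * (u + 1)) * J + 1 = 2 * ((p ^ a - 1) * ((u + 1) * J)) + 1 := by ring
    rw [this]
    omega
  rw [e2, pow_mul, h1, one_pow]

end B

end Cfsg.Agent.Lib.helper6.PGLx
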