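import Mathlib
import Cfsg.Agent.Lib.helper6.PGLk

set_option autoImplicit false

namespace Cfsg.Agent.Lib.helper6.PGLx

open MulAction Cfsg.Agent.Lib.helper6.Dickson Cfsg.Agent.Lib.helper6.QAlg
open Cfsg.Agent.Lib.helper6.P2Odd Cfsg.Agent.S0808 Cfsg.Agent.S0807

variable {F : Type*} [Field F] [Fintype F]

/-- the derived part of a subgroup of type `PGL₂(K)` -/
def derPart {M : Subgroup (Matrix.ProjGenLinGroup (Fin 2) F)} {K : Type*} [Field K]
    (e : M ≃* Matrix.ProjGenLinGroup (Fin 2) K) : Subgroup (Matrix.ProjGenLinGroup (Fin 2) F) :=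
  ((Lr K).map e.symm.toMonoidHom).map M.subtype

theorem mem_derPart {M : Subgroup (Matrix.ProjGenLinGroup (Fin 2) F)} {K : Type*} [Field K]
    (e : M ≃* Matrix.ProjGenLinGroup (Fin 2) K) {x : Matrix.ProjGenLinGroup (Fin 2) F} :
    x ∈ derPart e ↔ ∃ z ∈ Lr K, ((e.symm z : M) : Matrix.ProjGenLinGroup (Fin 2) F) = x := by
  unfold derPart
  constructor
  · rintro ⟨y, ⟨z, hz, rfl⟩, rfl⟩
    exact ⟨z, hz, rfl⟩
  · rintro ⟨z, hz, rfl⟩
    exact ⟨e.symm z, ⟨z, hz, rfl⟩, rfl⟩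

theorem derPart_le_Lr {M : Subgroup (Matrix.ProjGenLinGroup (Fin 2) F)} {K : Type*} [Field K]
    (p : ℕ) [CharP K p] (hp : Odd p)
    (e : M ≃* Matrix.ProjGenLinGroup (Fin 2) K) : derPart e ≤ Lr F := by
  intro x hx
  obtain ⟨z, hz, rfl⟩ := (mem_derPart e).mp hx
  exact map_mem_Lr_of_genByP hp (genByP_Lr K p)
    (M.subtype.comp (e.symm.toMonoidHom.comp (Lr K).subtype)) ⟨z, hz⟩

theorem derPart_conj {M : Subgroup (Matrix.ProjGenLinGroup (Fin 2) F)} {K : Type*} [Field K]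
    (e : M ≃* Matrix.ProjGenLinGroup (Fin 2) K) {t v : Matrix.ProjGenLinGroup (Fin 2) F}
    (ht : t ∈ M) (hv : v ∈ derPart e) : t * v * t⁻¹ ∈ derPart e := by
  obtain ⟨z, hz, rfl⟩ := (mem_derPart e).mp hv
  rw [mem_derPart]
  refine ⟨e ⟨t, ht⟩ * z * (e ⟨t, ht⟩)⁻¹, Lr_normal.conj_mem z hz _, ?_⟩
  rw [map_mul, map_mul, map_inv, e.symm_apply_apply]
  rfl

/-- orders of elements of the derived part -/
theorem derPart_order {M : Subgroup (Matrix.ProjGenLinGroup (Fin 2) F)}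
    {K : Type*} [Field K] [Fintype K] (p : ℕ) [Fact p.Prime] [CharP K p]
    (hoddK : Odd (Fintype.card K)) {c m : ℕ} (hc : 2 * c + 1 = Fintype.card K)
    (hm : 2 * m = Fintype.card K + 1)
    (e : M ≃* Matrix.ProjGenLinGroup (Fin 2) K)
    (t : (derPart e).comap (Matrix.ProjectiveSpecialLinearGroup.toPGL :
      Matrix.ProjectiveSpecialLinearGroup (Fin 2) F →* Matrix.ProjGenLinGroup (Fin 2) F))
    (ht : (orderOf t).Coprime p) : orderOf t ∣ c ∨ orderOf t ∣ m := by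
  obtain ⟨t₀, ht₀⟩ := t
  obtain ⟨z, hz, hzt⟩ := (mem_derPart e).mp ht₀
  obtain ⟨z₀, rfl⟩ := exists_of_mem_Lr hz
  have ho : orderOf z₀ = orderOf (⟨t₀, ht₀⟩ : (derPart e).comap
      (Matrix.ProjectiveSpecialLinearGroup.toPGL :
        Matrix.ProjectiveSpecialLinearGroup (Fin 2) F →* Matrix.ProjGenLinGroup (Fin 2) F)) := by
    rw [Subgroup.orderOf_mk,
      ← orderOf_injective _ (Matrix.ProjectiveSpecialLinearGroup.toPGL_injective
        (n := Fin 2) (R := F)) t₀, ← hzt, Subgroup.orderOf_coe, MulEquiv.orderOf_eq,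
      orderOf_injective _ (Matrix.ProjectiveSpecialLinearGroup.toPGL_injective
        (n := Fin 2) (R := K)) z₀]
  rw [← ho] at ht ⊢
  exact psl2_order_dvd p hoddK hc hm z₀ ht

end Cfsg.Agent.Lib.helper6.PGLx
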