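import Mathlib
import Cfsg.Agent.Lib.helper6.PGLl

set_option autoImplicit false

namespace Cfsg.Agent.Lib.helper6.PGLx

open MulAction Cfsg.Agent.Lib.helper6.Dickson Cfsg.Agent.Lib.helper6.QAlg
open Cfsg.Agent.Lib.helper6.P2Odd Cfsg.Agent.S0808 Cfsg.Agent.S0807

variable {F : Type*} [Field F] [Fintype F]

set_option maxHeartbeats 1600000 in
/-- the subfield case `M ≅ PGL₂(K)` inside `PGL₂(F)` -/
theorem pgl_case_pgl (p : ℕ) [Fact p.Prime] [CharP F p] (hp2 : p ≠ 2)
    {M : Subgroup (Matrix.ProjGenLinGroup (Fin 2) F)} (hM : IsCoatom M) (hML : ¬ M ≤ Lr F)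
    {K : Type} [Field K] [Fintype K] {a : ℕ} (hK : Fintype.card K = p ^ a)
    (e : M ≃* Matrix.ProjGenLinGroup (Fin 2) K) :
    ∃ r : ℕ, r.Prime ∧ Odd r ∧ Fintype.card F = Fintype.card K ^ r := by
  have hp : p.Prime := Fact.out
  have hpodd : Odd p := hp.odd_of_ne_two hp2
  haveI : CharP K p := charP_of_card_eq_prime_pow hK
  obtain ⟨k, hk0, hk⟩ := exists_card_pow (F := F) p
  have hoddF : Odd (Fintype.card F) := by rw [hk]; exact hpodd.pow
  have hoddK : Odd (Fintype.card K) := by rw [hK]; exact hpodd.pow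
  have ha0 : a ≠ 0 := by
    rintro rfl
    have := Fintype.one_lt_card (α := K)
    rw [hK] at this
    simp at this
  have h2F : (2 : F) ≠ 0 := two_ne_zero_of_char p hp2
  -- orders
  have hcM : Nat.card M = p ^ a * ((p ^ a) ^ 2 - 1) := by
    rw [Nat.card_congr e.toEquiv, Cfsg.Agent.Lib.Helper28.P2.card_pgl2, hK]
  have hcG : Nat.card (Matrix.ProjGenLinGroup (Fin 2) F) = p ^ k * ((p ^ k) ^ 2 - 1) := by
    rw [Cfsg.Agent.Lib.Helper28.P2.card_pgl2, hk]
  have hdvd : Nat.card M ∣ Nat.card (Matrix.ProjGenLinGroup (Fin 2) F) :=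
    Subgroup.card_subgroup_dvd_card M
  have hak : a ∣ k := by
    apply Cfsg.Agent.Lib.Helper28.P2.dvd_of_order_dvd p a k hp (by omega)
    rw [← hcM, ← hcG]
    exact dvd_mul_of_dvd_right hdvd 2
  obtain ⟨m', rfl⟩ := hak
  have hm'0 : m' ≠ 0 := by
    rintro rfl
    exact hk0 (mul_zero a)
  have hm1 : m' ≠ 1 := by
    rintro rfl
    rw [mul_one] at hcG
    have h1 : Nat.card M = Nat.card (Matrix.ProjGenLinGroup (Fin 2) F) := by rw [hcM, hcG]
    exact hM.1 ((Subgroup.card_eq_iff_eq_top M).mp h1)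
  have hm2 : 2 ≤ m' := by omega
  -- the derived part
  have hder : derPart e ≤ Lr F := derPart_le_Lr p hpodd e
  obtain ⟨c, hc⟩ : ∃ c, 2 * c + 1 = p ^ a := by
    obtain ⟨t, ht⟩ := hpodd.pow (n := a); exact ⟨t, ht.symm⟩
  obtain ⟨m, hm⟩ : ∃ m, 2 * m = p ^ a + 1 := ⟨c + 1, by omega⟩
  have hord := derPart_order p hoddK (c := c) (m := m) (by rw [hK]; exact hc)
    (by rw [hK]; exact hm) e
  obtain ⟨X', _, D⟩ := Cfsg.Agent.Lib.helper3.psl2_dact (F := F) p
  have htr := traces_psl p D hc hm hord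
  -- the pair
  obtain ⟨a₀, b₀, hpair⟩ := exists_isPair_psl2 K hoddK
  have hpair' := isPair_map (Matrix.ProjectiveSpecialLinearGroup.toPGL (n := Fin 2) (R := K))
    Matrix.ProjectiveSpecialLinearGroup.toPGL_injective hpair
  have hpair'' := isPair_map (M.subtype.comp e.symm.toMonoidHom)
    (M.subtype_injective.comp e.symm.injective) hpair'
  have hxd : (M.subtype.comp e.symm.toMonoidHom)
      (Matrix.ProjectiveSpecialLinearGroup.toPGL a₀) ∈ derPart e :=
    (mem_derPart e).mpr ⟨_, toPGL_mem_Lr a₀, rfl⟩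
  have hyd : (M.subtype.comp e.symm.toMonoidHom)
      (Matrix.ProjectiveSpecialLinearGroup.toPGL b₀) ∈ derPart e :=
    (mem_derPart e).mpr ⟨_, toPGL_mem_Lr b₀, rfl⟩
  obtain ⟨X, Y, hQS, hX, hY⟩ := exists_QS_of_pair_pgl h2F hpair'' (hder hxd) (hder hyd)
  have hXl : X ∈ lift ((derPart e).comap (Matrix.ProjectiveSpecialLinearGroup.toPGL :
      Matrix.ProjectiveSpecialLinearGroup (Fin 2) F →* Matrix.ProjGenLinGroup (Fin 2) F)) := by
    show pg X ∈ derPart e
    rw [hX]; exact hxd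
  have hYl : Y ∈ lift ((derPart e).comap (Matrix.ProjectiveSpecialLinearGroup.toPGL :
      Matrix.ProjectiveSpecialLinearGroup (Fin 2) F →* Matrix.ProjGenLinGroup (Fin 2) F)) := by
    show pg Y ∈ derPart e
    rw [hY]; exact hyd
  have hle₁ := le_G1_of_traces hQS hXl hYl _ htr
  have hAK : ∀ v ∈ derPart e, ∃ A : Matrix.SpecialLinearGroup (Fin 2) F,
      (A : Matrix (Fin 2) (Fin 2) F) ∈ AK (fixF F p a) (X : Matrix (Fin 2) (Fin 2) F)
        (Y : Matrix (Fin 2) (Fin 2) F) ∧ v = pg A := by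
    intro v hv
    obtain ⟨t', ht'⟩ := exists_of_mem_Lr (hder hv)
    obtain ⟨A, rfl⟩ := QuotientGroup.mk_surjective t'
    refine ⟨A, ?_, ht'.symm⟩
    have : A ∈ lift ((derPart e).comap (Matrix.ProjectiveSpecialLinearGroup.toPGL :
        Matrix.ProjectiveSpecialLinearGroup (Fin 2) F →* Matrix.ProjGenLinGroup (Fin 2) F)) := by
      show Matrix.ProjectiveSpecialLinearGroup.toPGL
        (QuotientGroup.mk A : Matrix.ProjectiveSpecialLinearGroup (Fin 2) F) ∈ derPart e
      rw [ht']; exact hv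
    exact hle₁ this
  have hle : liftG M ≤ GG hQS (fixF F p a) := by
    apply liftG_le_GG_of_conj hQS
    intro t ht
    have h1 : t * pg X * t⁻¹ ∈ derPart e := derPart_conj e ht (by rw [hX]; exact hxd)
    have h2 : t * pg Y * t⁻¹ ∈ derPart e := derPart_conj e ht (by rw [hY]; exact hyd)
    obtain ⟨A, hA, hA'⟩ := hAK _ h1
    obtain ⟨B, hB, hB'⟩ := hAK _ h2
    exact ⟨A, B, hA, hB, hA', hB'⟩
  have hMc := liftG_coatom hM
  have hlt : p ^ a < Fintype.card F := by
    rw [hk]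
    apply Nat.pow_lt_pow_right hp.one_lt
    calc a = a * 1 := (mul_one a).symm
      _ < a * m' := (Nat.mul_lt_mul_left (by omega : 0 < a)).mpr (by omega)
  have hKne : fixF F p a ≠ ⊤ := fixF_ne_top p ha0 hlt
  have heq : liftG M = GG hQS (fixF F p a) := coatom_eq hMc hle (GG_ne_top hQS hKne)
  rcases Nat.even_or_odd m' with hev | hod
  · exfalso
    obtain ⟨j, hj⟩ := hev
    apply hML
    intro z hz
    induction z using Matrix.ProjGenLinGroup.induction_on with | mk h =>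
    have hh : h ∈ GG hQS (fixF F p a) := by rw [← heq]; exact hz
    obtain ⟨μ, hμ, hg⟩ := hh
    have h2 := AK.det_mem hQS hg
    rw [Matrix.det_smul, Fintype.card_fin] at h2
    obtain ⟨δ, hδ⟩ := isSquare_of_mem_fixF p hp2 (j := j)
      (by rw [hk, hj, ← two_mul]) h2
    apply mk_mem_Lr_of_det_sq h (δ := δ * μ⁻¹)
    have : (h : Matrix (Fin 2) (Fin 2) F).det = (μ ^ 2 * (h : Matrix (Fin 2) (Fin 2) F).det) *
        (μ⁻¹ * μ⁻¹) := by
      field_simp
    rw [this, hδ]; ring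
  · by_cases hpr : m'.Prime
    · refine ⟨m', hpr, hod, ?_⟩
      rw [hk, hK, pow_mul]
    · exfalso
      obtain ⟨n', h1n, hn'm, hn'lt⟩ := exists_proper_dvd hm2 hpr
      have hKK : fixF F p a ≤ fixF F p (a * n') := fixF_mono p (Dvd.intro _ rfl)
      have hlt2 : p ^ (a * n') < Fintype.card F := by
        rw [hk]
        apply Nat.pow_lt_pow_right hp.one_lt
        exact (Nat.mul_lt_mul_left (by omega : 0 < a)).mpr hn'lt
      have hK2ne : fixF F p (a * n') ≠ ⊤ :=
        fixF_ne_top p (Nat.mul_ne_zero ha0 (by omega)) hlt2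
      have heq2 : liftG M = GG hQS (fixF F p (a * n')) :=
        coatom_eq hMc (hle.trans (GG_mono hQS hKK)) (GG_ne_top hQS hK2ne)
      obtain ⟨x₀, hx2, hx1⟩ := exists_mem_not_mem p hk ha0
        (show a < a * n' by
          calc a = a * 1 := (mul_one a).symm
            _ < a * n' := (Nat.mul_lt_mul_left (by omega : 0 < a)).mpr (by omega))
        (Nat.mul_dvd_mul_left a hn'm)
      obtain ⟨t, ht, ht2⟩ := exists_sq_not_mem_rel h2F hx2 hx1
      obtain ⟨g, hg, hgt⟩ := exists_trace_G1 hQS (fixF F p (a * n')) ht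
      have hg' : Matrix.SpecialLinearGroup.toGL g ∈ GG hQS (fixF F p a) := by
        rw [← heq, heq2, toGL_mem_GG]; exact G1_le_G1' hQS _ hg
      have h5 := tau_mem_of_GG hQS hg'
      rw [Matrix.SpecialLinearGroup.coe_GL_coe_matrix, hgt, g.2, inv_one, mul_one] at h5
      exact ht2 h5

end Cfsg.Agent.Lib.helper6.PGLx
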