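import Mathlib
import Cfsg.Agent.Lib.helper6.PGLm

set_option autoImplicit false

namespace Cfsg.Agent.Lib.helper6.PGLx

open MulAction Cfsg.Agent.Lib.helper6.Dickson Cfsg.Agent.Lib.helper6.QAlg
open Cfsg.Agent.Lib.helper6.P2Odd Cfsg.Agent.S0808 Cfsg.Agent.S0807

section Gen

/-- the trivial case: the subgroup is everything -/
theorem isCoatom_inf_subgroupOf_of_eq_top {G : Type*} [Group G] (M R : Subgroup G) (hR : R = ⊤)
    (hM : IsCoatom M) : IsCoatom ((M ⊓ R).subgroupOf R) := by
  subst hR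
  have h1 : (M ⊓ ⊤).subgroupOf ⊤ = ((Subgroup.topEquiv (G := G)).symm.mapSubgroup) M := by
    ext ⟨y, hy⟩
    rw [Subgroup.mem_subgroupOf]
    constructor
    · intro h
      exact ⟨y, h.1, rfl⟩
    · rintro ⟨z, hz, hzy⟩
      have : z = y := congrArg Subtype.val hzy
      rw [← this]
      exact ⟨hz, Subgroup.mem_top _⟩
  rw [h1, OrderIso.isCoatom_iff]
  exact hM

end Gen

section Tr

variable {F : Type*} [Field F]

/-- the preimage in `PSL₂` of a subgroup of `PGL₂` -/
abbrev pre (M : Subgroup (Matrix.ProjGenLinGroup (Fin 2) F)) :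
    Subgroup (Matrix.ProjectiveSpecialLinearGroup (Fin 2) F) :=
  M.comap (Matrix.ProjectiveSpecialLinearGroup.toPGL :
    Matrix.ProjectiveSpecialLinearGroup (Fin 2) F →* Matrix.ProjGenLinGroup (Fin 2) F)

theorem mem_pre {M : Subgroup (Matrix.ProjGenLinGroup (Fin 2) F)}
    {t : Matrix.ProjectiveSpecialLinearGroup (Fin 2) F} :
    t ∈ pre M ↔ Matrix.ProjectiveSpecialLinearGroup.toPGL t ∈ M := Iff.rfl

/-- transport of maximality from `PSL₂` to the image of `SL₂` in `PGL₂` -/
theorem isCoatom_subgroupOf_Lr {M : Subgroup (Matrix.ProjGenLinGroup (Fin 2) F)}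
    (h : IsCoatom (pre M)) : IsCoatom ((M ⊓ Lr F).subgroupOf (Lr F)) := by
  have h1 : (M ⊓ Lr F).subgroupOf (Lr F) = ((lrEquiv F).mapSubgroup) (pre M) := by
    ext ⟨y, hy⟩
    rw [Subgroup.mem_subgroupOf]
    constructor
    · intro h
      obtain ⟨t, rfl⟩ := exists_of_mem_Lr hy
      exact ⟨t, h.1, Subtype.ext (coe_lrEquiv t)⟩
    · rintro ⟨t, ht, hty⟩
      have : Matrix.ProjectiveSpecialLinearGroup.toPGL t = y := by
        rw [← coe_lrEquiv]; exact congrArg Subtype.val hty
      refine ⟨?_, hy⟩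
      show y ∈ M
      rw [← this]; exact ht
  rw [h1, OrderIso.isCoatom_iff]
  exact h

end Tr

section Fin

variable {F : Type*} [Field F] [Fintype F]

/-- in even characteristic the image of `SL₂` is everything -/
theorem Lr_eq_top_of_even (hev : Fintype.card F % 2 = 0) : Lr F = ⊤ := by
  have hchar : ringChar F = 2 := FiniteField.even_card_iff_char_two.mpr hev
  rw [eq_top_iff]
  intro z _
  induction z using Matrix.ProjGenLinGroup.induction_on with | mk h =>
  obtain ⟨δ, hδ⟩ := FiniteField.isSquare_of_char_two hchar (h : Matrix (Fin 2) (Fin 2) F).det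
  exact mk_mem_Lr_of_det_sq h hδ

/-- the order of the preimage -/
theorem card_pre (M : Subgroup (Matrix.ProjGenLinGroup (Fin 2) F)) :
    Nat.card (pre M) = Nat.card (M ⊓ Lr F : Subgroup (Matrix.ProjGenLinGroup (Fin 2) F)) := by
  have hinj := Matrix.ProjectiveSpecialLinearGroup.toPGL_injective (n := Fin 2) (R := F)
  have h1 : (pre M).map (Matrix.ProjectiveSpecialLinearGroup.toPGL :
      Matrix.ProjectiveSpecialLinearGroup (Fin 2) F →* Matrix.ProjGenLinGroup (Fin 2) F) =
      M ⊓ Lr F := by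
    ext y
    constructor
    · rintro ⟨t, ht, rfl⟩
      exact ⟨ht, toPGL_mem_Lr t⟩
    · rintro ⟨hyM, hyL⟩
      obtain ⟨t, rfl⟩ := exists_of_mem_Lr hyL
      exact ⟨t, hyM, rfl⟩
  rw [← h1]
  exact Nat.card_congr ((pre M).equivMapOfInjective _ hinj).toEquiv

/-- a maximal subgroup not inside the image of `SL₂` meets it in a subgroup of index two -/
theorem two_mul_card_pre (hodd : Odd (Fintype.card F))
    {M : Subgroup (Matrix.ProjGenLinGroup (Fin 2) F)} (hM : IsCoatom M) (hML : ¬ M ≤ Lr F) :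
    2 * Nat.card (pre M) = Nat.card M := by
  have hidx : (Lr F).index = 2 := by
    have h4 := card_Lr_mul hodd
    have h5 := (Lr F).card_mul_index
    rw [Cfsg.Agent.Lib.Helper28.P2.card_pgl2] at h5
    have hpos : 0 < Nat.card (Lr F) := Nat.card_pos
    have : Nat.card (Lr F) * (Lr F).index = Nat.card (Lr F) * 2 := by
      rw [h5, ← h4]; ring
    exact Nat.eq_of_mul_eq_mul_left hpos this
  have hsup : M ⊔ Lr F = ⊤ := by
    by_contra hne
    have h1 : M = M ⊔ Lr F := coatom_eq hM le_sup_left hne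
    have h2 : Lr F ≤ M := by rw [h1]; exact le_sup_right
    have h6 : (Lr F).relIndex M * M.index = 2 := by
      rw [Subgroup.relIndex_mul_index h2, hidx]
    have h7 : M.index ≠ 1 := fun h => hM.1 (Subgroup.index_eq_one.mp h)
    have h9 : M.index ∣ 2 := Dvd.intro_left _ h6
    have h10 : M.index = 2 := by
      rcases (Nat.dvd_prime Nat.prime_two).mp h9 with h | h
      · exact absurd h h7
      · exact h
    rw [h10] at h6
    have h11 : (Lr F).relIndex M = 1 := by omega
    exact hML (Subgroup.relIndex_eq_one.mp h11)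
  have h1 : (Lr F).relIndex M = 2 := by
    rw [← Subgroup.relIndex_sup_right, hsup, Subgroup.relIndex_top_right, hidx]
  have h2 : Nat.card ((Lr F).subgroupOf M) * (Lr F).relIndex M = Nat.card M :=
    ((Lr F).subgroupOf M).card_mul_index
  have h3 : Nat.card ((Lr F).subgroupOf M) =
      Nat.card (M ⊓ Lr F : Subgroup (Matrix.ProjGenLinGroup (Fin 2) F)) := by
    rw [inf_comm, ← Subgroup.inf_subgroupOf_right (Lr F) M]
    exact Nat.card_congr (Subgroup.subgroupOfEquivOfLe inf_le_right).toEquiv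
  rw [card_pre, ← h3, ← h2, h1]; ring

end Fin

end Cfsg.Agent.Lib.helper6.PGLx
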