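import Mathlib
import Cfsg.Agent.Lib.helper6.PGLn

set_option autoImplicit false

namespace Cfsg.Agent.Lib.helper6.PGLx

open MulAction Cfsg.Agent.Lib.helper6.Dickson Cfsg.Agent.Lib.helper6.QAlg
open Cfsg.Agent.Lib.helper6.P2Odd Cfsg.Agent.S0808 Cfsg.Agent.S0807

section Cards

theorem card_A4' : Nat.card (alternatingGroup (Fin 4)) = 12 := by
  have h := two_mul_card_alternatingGroup (α := Fin 4)
  rw [Fintype.card_perm, Fintype.card_fin] at h
  rw [Nat.card_eq_fintype_card]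
  have : Nat.factorial 4 = 24 := rfl
  omega

theorem card_A5' : Nat.card (alternatingGroup (Fin 5)) = 60 := by
  have h := two_mul_card_alternatingGroup (α := Fin 5)
  rw [Fintype.card_perm, Fintype.card_fin] at h
  rw [Nat.card_eq_fintype_card]
  have : Nat.factorial 5 = 120 := rfl
  omega

theorem card_S4' : Nat.card (Equiv.Perm (Fin 4)) = 24 := by
  rw [Nat.card_eq_fintype_card, Fintype.card_perm, Fintype.card_fin]
  rfl

end Cards

section Dih

/-- two non-commuting elements of order three do not embed in a dihedral group -/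
theorem no_dih_of_noncomm_three {A : Type*} [Group A] {n : ℕ} (f : A →* DihedralGroup n)
    (hf : Function.Injective f) {y₁ y₂ : A} (h1 : y₁ ^ 3 = 1) (h2 : y₂ ^ 3 = 1)
    (hne : y₁ * y₂ ≠ y₂ * y₁) : False := by
  have key : ∀ y : A, y ^ 3 = 1 → ∃ i : ZMod n, f y = DihedralGroup.r i := by
    intro y hy
    have hy' : f y ^ 3 = 1 := by rw [← map_pow, hy, map_one]
    rcases hfy : f y with i | i
    · exact ⟨i, rfl⟩
    · exfalso
      rw [hfy] at hy'
      have h3 : (DihedralGroup.sr i : DihedralGroup n) ^ 3 = DihedralGroup.sr i := by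
        rw [pow_succ, pow_two, DihedralGroup.sr_mul_self, one_mul]
      rw [h3] at hy'
      cases hy'
  obtain ⟨i, hi⟩ := key y₁ h1
  obtain ⟨j, hj⟩ := key y₂ h2
  apply hne
  apply hf
  rw [map_mul, map_mul, hi, hj, DihedralGroup.r_mul_r, DihedralGroup.r_mul_r, add_comm]

set_option maxRecDepth 100000 in
theorem a4_no_inverting : ∀ x y : alternatingGroup (Fin 4), x * x = 1 → x ≠ 1 → y * y * y = 1 →
    y ≠ 1 → x * y * x⁻¹ ≠ y⁻¹ := by decide

theorem s4_three_cycles : ∃ c₁ c₂ d₁ d₂ : Equiv.Perm (Fin 4), c₁ = d₁ * d₁ ∧ c₂ = d₂ * d₂ ∧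
    c₁ ^ 3 = 1 ∧ c₂ ^ 3 = 1 ∧ c₁ * c₂ ≠ c₂ * c₁ := by decide

end Dih

section Ord

/-- orders of `p'`-elements of `PGL₂(K)`, `K` of odd order at least `5` -/
theorem pgl2_order_dvd {K : Type*} [Field K] [Fintype K] (p : ℕ) [Fact p.Prime] [CharP K p]
    (hodd : Odd (Fintype.card K)) (h4 : 4 ≤ Fintype.card K)
    (z : Matrix.ProjGenLinGroup (Fin 2) K) (hz : (orderOf z).Coprime p) :
    orderOf z ∣ Fintype.card K - 1 ∨ orderOf z ∣ Fintype.card K + 1 := by
  obtain ⟨X', _, D⟩ := pgl2_dact (F := K) p hodd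
  obtain ⟨r, s, hFull⟩ := pgl_full p hodd h4 D
  have h1 := hFull.order_dvd (le_refl 1) z hz
  rwa [Nat.div_one, Nat.div_one] at h1

end Ord

section Data

variable {F : Type*} [Field F] [Fintype F]

/-- squares of elements of `M` come from the preimage in `PSL₂` -/
theorem exists_pre_of_sq {M : Subgroup (Matrix.ProjGenLinGroup (Fin 2) F)}
    {m : Matrix.ProjGenLinGroup (Fin 2) F} (hm : m ∈ M) :
    ∃ t ∈ pre M, Matrix.ProjectiveSpecialLinearGroup.toPGL t = m * m := by
  obtain ⟨t, ht⟩ := exists_of_mem_Lr (sq_mem_Lr m)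
  exact ⟨t, by rw [mem_pre, ht]; exact M.mul_mem hm hm, ht⟩

theorem orderOf_toPGL (t : Matrix.ProjectiveSpecialLinearGroup (Fin 2) F) :
    orderOf (Matrix.ProjectiveSpecialLinearGroup.toPGL t) = orderOf t :=
  orderOf_injective _ (Matrix.ProjectiveSpecialLinearGroup.toPGL_injective
    (n := Fin 2) (R := F)) t

/-- the rotation subgroup of a dihedral `M` of order `4 j` meets `PSL₂` in an element of
order `j` -/
theorem dih_pre_rot {M : Subgroup (Matrix.ProjGenLinGroup (Fin 2) F)} {n j : ℕ}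
    (hn : n = 2 * j) (hj : 0 < j) (e : M ≃* DihedralGroup n) :
    ∃ t ∈ pre M, orderOf t = j := by
  obtain ⟨t, ht, htm⟩ := exists_pre_of_sq (M := M) (e.symm (DihedralGroup.r 1) : M).2
  refine ⟨t, ht, ?_⟩
  rw [← orderOf_toPGL, htm, ← pow_two, ← Subgroup.coe_pow, Subgroup.orderOf_coe, ← map_pow,
    MulEquiv.orderOf_eq, orderOf_pow' _ two_ne_zero, DihedralGroup.orderOf_r_one, hn]
  have : Nat.gcd (2 * j) 2 = 2 := Nat.gcd_eq_right (Dvd.intro _ rfl)
  rw [this]
  omega

end Data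

end Cfsg.Agent.Lib.helper6.PGLx
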