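import Mathlib
import Cfsg.Agent.Lib.helper6.PGLo
import Cfsg.Agent.S5892

set_option autoImplicit false

namespace Cfsg.Agent.Lib.helper6.PGLx

open MulAction Cfsg.Agent.Lib.helper6.Dickson Cfsg.Agent.Lib.helper6.QAlg
open Cfsg.Agent.Lib.helper6.P2Odd Cfsg.Agent.S0808 Cfsg.Agent.S0807

/-- a finite field whose order has a power equal to a power of `p` has `p`-power order -/
theorem card_eq_pow_of_pow_eq {F₀ : Type*} [Field F₀] [Fintype F₀] (p : ℕ) [Fact p.Prime]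
    {k r : ℕ} (hr : r ≠ 0) (h : p ^ k = Fintype.card F₀ ^ r) :
    ∃ a, a ≠ 0 ∧ Fintype.card F₀ = p ^ a := by
  have hp : p.Prime := Fact.out
  obtain ⟨p₀, hchar⟩ := CharP.exists F₀
  obtain ⟨n, hp₀, hn⟩ := FiniteField.card F₀ p₀
  have h1 : p₀ ∣ p ^ k := by
    rw [h, hn]
    exact dvd_pow (dvd_pow_self p₀ n.ne_zero) hr
  have h2 : p₀ = p := (Nat.prime_dvd_prime_iff_eq hp₀ hp).mp (hp₀.dvd_of_dvd_pow h1)
  exact ⟨n, n.ne_zero, by rw [hn, h2]⟩

variable {F : Type*} [Field F] [Fintype F]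

set_option maxHeartbeats 1600000 in
/-- the maximal subgroups of `PSL₂(q)`, `q` odd, with the numerical data needed below -/
theorem coatom_cases (p : ℕ) [Fact p.Prime] [CharP F p] (hodd : Odd (Fintype.card F))
    (h5 : 5 ≤ Fintype.card F) (h9 : Fintype.card F ≠ 9) {k : ℕ} (hk : Fintype.card F = p ^ k)
    (N : Subgroup (Matrix.ProjectiveSpecialLinearGroup (Fin 2) F)) (hN : IsCoatom N) :
    (2 * Nat.card N = Fintype.card F * (Fintype.card F - 1)) ∨
    (Nat.card N = Fintype.card F - 1 ∧ ∃ n, Nonempty (N ≃* DihedralGroup n)) ∨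
    (Nat.card N = Fintype.card F + 1 ∧ ∃ n, Nonempty (N ≃* DihedralGroup n)) ∨
    (∃ a, a ≠ 0 ∧ k = 2 * a ∧ Nat.card N = p ^ a * ((p ^ a) ^ 2 - 1) ∧
      ∀ t ∈ N, (orderOf t).Coprime p → orderOf t ≤ p ^ a + 1) ∨
    (∃ a r, a ≠ 0 ∧ r.Prime ∧ Odd r ∧ k = a * r ∧ 2 * Nat.card N = p ^ a * ((p ^ a) ^ 2 - 1) ∧
      ∀ t ∈ N, (orderOf t).Coprime p → 2 * orderOf t ≤ p ^ a + 1) ∨
    ((Fintype.card F % 10 = 1 ∨ Fintype.card F % 10 = 9) ∧ (k = 1 ∨ k = 2) ∧ Nat.card N = 60 ∧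
      ∀ t ∈ N, orderOf t ≤ 5) ∨
    (k = 1 ∧ (p % 8 = 3 ∨ p % 8 = 5) ∧ ¬ (p % 10 = 1 ∨ p % 10 = 9) ∧ Nat.card N = 12 ∧
      (∀ t ∈ N, orderOf t ≤ 3) ∧ Nonempty (N ≃* alternatingGroup (Fin 4))) ∨
    (k = 1 ∧ (p % 8 = 1 ∨ p % 8 = 7) ∧ Nat.card N = 24 ∧ ∀ t ∈ N, orderOf t ≤ 4) := by
  have hp : p.Prime := Fact.out
  have hk1 : ∀ {j : ℕ}, Fintype.card F = p ^ j → k = j := by
    intro j hj
    exact Nat.pow_right_injective hp.two_le (show p ^ k = p ^ j by rw [← hk, ← hj])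
  have hle_of_dvd : ∀ {a b : ℕ}, 0 < b → a ∣ b → a ≤ b := fun hb h => Nat.le_of_dvd hb h
  rcases Cfsg.Agent.S5892.result p hodd h5 N hN with h | h | h | h | h | h | h | h
  · exact Or.inl h
  · obtain ⟨-, j, hj, ⟨e⟩⟩ := h
    right; left
    refine ⟨?_, j, ⟨e⟩⟩
    rw [Nat.card_congr e.toEquiv, DihedralGroup.nat_card, hj]
  · obtain ⟨-, -, j, hj, ⟨e⟩⟩ := h
    right; right; left
    refine ⟨?_, j, ⟨e⟩⟩
    rw [Nat.card_congr e.toEquiv, DihedralGroup.nat_card, hj]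
  · obtain ⟨F₀, _, _, hq, ⟨e⟩⟩ := h
    right; right; right; left
    obtain ⟨a, ha0, ha⟩ := card_eq_pow_of_pow_eq (F₀ := F₀) p (k := k) (r := 2) two_ne_zero
      (by rw [← hk, hq])
    have hk2 : k = 2 * a := hk1 (by rw [hq, ha, ← pow_mul, mul_comm])
    haveI : CharP F₀ p := charP_of_card_eq_prime_pow ha
    have hodd₀ : Odd (Fintype.card F₀) := by
      rw [hq] at hodd
      exact (Nat.odd_pow_iff two_ne_zero).mp hodd
    have h4₀ : 4 ≤ Fintype.card F₀ := by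
      have h1 : 1 < Fintype.card F₀ := Fintype.one_lt_card
      have h3 : Fintype.card F₀ ≠ 3 := by
        intro h3
        rw [h3] at hq
        exact h9 (by rw [hq]; norm_num)
      obtain ⟨t, ht⟩ := hodd₀
      omega
    refine ⟨a, ha0, hk2, ?_, ?_⟩
    · rw [Nat.card_congr e.toEquiv, Cfsg.Agent.Lib.Helper28.P2.card_pgl2, ha]
    · intro t ht hcop
      have ho : orderOf (e ⟨t, ht⟩) = orderOf t := by
        rw [MulEquiv.orderOf_eq, Subgroup.orderOf_mk]
      have h1 := pgl2_order_dvd p hodd₀ h4₀ (e ⟨t, ht⟩) (by rw [ho]; exact hcop)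
      rw [ho, ha] at h1
      have hpa : 2 ≤ p ^ a := by
        calc 2 ≤ p := hp.two_le
          _ = p ^ 1 := (pow_one p).symm
          _ ≤ p ^ a := Nat.pow_le_pow_right hp.pos (by omega)
      rcases h1 with h1 | h1
      · have := hle_of_dvd (by omega) h1
        omega
      · exact hle_of_dvd (by omega) h1
  · obtain ⟨F₀, _, _, r, hr, hoddr, hq, ⟨e⟩⟩ := h
    right; right; right; right; left
    obtain ⟨a, ha0, ha⟩ := card_eq_pow_of_pow_eq (F₀ := F₀) p (k := k) (r := r) hr.ne_zero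
      (by rw [← hk, hq])
    have hk2 : k = a * r := hk1 (by rw [hq, ha, ← pow_mul])
    haveI : CharP F₀ p := charP_of_card_eq_prime_pow ha
    have hodd₀ : Odd (Fintype.card F₀) := by
      rw [hq] at hodd
      exact (Nat.odd_pow_iff hr.ne_zero).mp hodd
    refine ⟨a, r, ha0, hr, hoddr, hk2, ?_, ?_⟩
    · rw [Nat.card_congr e.toEquiv, two_mul_card_psl2 hodd₀, ha]
    · intro t ht hcop
      have ho : orderOf (e ⟨t, ht⟩) = orderOf t := by
        rw [MulEquiv.orderOf_eq, Subgroup.orderOf_mk]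
      obtain ⟨c, hc⟩ := hodd₀
      have h1 := psl2_order_dvd p ⟨c, hc⟩ (c := c) (m := c + 1) (by omega) (by omega)
        (e ⟨t, ht⟩) (by rw [ho]; exact hcop)
      rw [ho] at h1
      have hc0 : 0 < c := by
        have h1 : 1 < Fintype.card F₀ := Fintype.one_lt_card
        omega
      rw [← ha, hc]
      rcases h1 with h1 | h1
      · have := hle_of_dvd hc0 h1
        omega
      · have := hle_of_dvd (by omega) h1
        omega
  · obtain ⟨hmod, hqp, ⟨e⟩⟩ := h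
    right; right; right; right; right; left
    refine ⟨hmod, ?_, ?_, ?_⟩
    · rcases hqp with hqp | ⟨hqp, -⟩
      · left; exact hk1 (by rw [hqp, pow_one])
      · right; exact hk1 hqp
    · rw [Nat.card_congr e.toEquiv, card_A5']
    · intro t ht
      have ho : orderOf (e ⟨t, ht⟩) = orderOf t := by
        rw [MulEquiv.orderOf_eq, Subgroup.orderOf_mk]
      rw [← ho]
      rcases Cfsg.Agent.Lib.helper6.PSL2Tor.order_A5 (e ⟨t, ht⟩) with h1 | h1 | h1
      · have := hle_of_dvd (by norm_num) h1; omega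
      · have := hle_of_dvd (by norm_num) h1; omega
      · exact hle_of_dvd (by norm_num) h1
  · obtain ⟨hqp, hmod8, hmod10, ⟨e⟩⟩ := h
    right; right; right; right; right; right; left
    refine ⟨hk1 (by rw [hqp, pow_one]), hmod8, hmod10, ?_, ?_, ⟨e⟩⟩
    · rw [Nat.card_congr e.toEquiv, card_A4']
    · intro t ht
      have ho : orderOf (e ⟨t, ht⟩) = orderOf t := by
        rw [MulEquiv.orderOf_eq, Subgroup.orderOf_mk]
      rw [← ho]
      rcases Cfsg.Agent.Lib.helper6.PSL2Tor.order_A4 (e ⟨t, ht⟩) with h1 | h1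
      · have := hle_of_dvd (by norm_num) h1; omega
      · exact hle_of_dvd (by norm_num) h1
  · obtain ⟨hqp, hmod8, ⟨e⟩⟩ := h
    right; right; right; right; right; right; right
    refine ⟨hk1 (by rw [hqp, pow_one]), hmod8, ?_, ?_⟩
    · rw [Nat.card_congr e.toEquiv, card_S4']
    · intro t ht
      have ho : orderOf (e ⟨t, ht⟩) = orderOf t := by
        rw [MulEquiv.orderOf_eq, Subgroup.orderOf_mk]
      rw [← ho]
      rcases Cfsg.Agent.Lib.helper6.PSL2Tor.order_S4 (e ⟨t, ht⟩) with h1 | h1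
      · exact hle_of_dvd (by norm_num) h1
      · have := hle_of_dvd (by norm_num) h1; omega

end Cfsg.Agent.Lib.helper6.PGLx
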