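import Mathlib
import Cfsg.Agent.Lib.helper6.PGLp

set_option autoImplicit false

namespace Cfsg.Agent.Lib.helper6.PGLx

open MulAction Cfsg.Agent.Lib.helper6.Dickson Cfsg.Agent.Lib.helper6.QAlg
open Cfsg.Agent.Lib.helper6.P2Odd Cfsg.Agent.S0808 Cfsg.Agent.S0807

/-- numerical consequences of a proper inclusion of finite subgroups -/
theorem card_facts {G : Type*} [Group G] [Finite G] {A N : Subgroup G} (hle : A ≤ N)
    (hne : A ≠ N) : Nat.card A ∣ Nat.card N ∧ Nat.card A < Nat.card N := by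
  have hdvd := Subgroup.card_dvd_of_le hle
  refine ⟨hdvd, ?_⟩
  have h1 : Nat.card A ≤ Nat.card N := Nat.le_of_dvd Nat.card_pos hdvd
  rcases Nat.lt_or_eq_of_le h1 with h | h
  · exact h
  · exact absurd (Subgroup.eq_of_le_of_card_ge hle (by rw [h])) hne

/-- elements of order dividing `q ∓ 1` have order prime to `p` -/
theorem coprime_of_dvd_pred_or_succ {p k q j : ℕ} (hp : p.Prime) (hk : k ≠ 0) (hq : q = p ^ k)
    (hj : j ∣ q - 1 ∨ j ∣ q + 1) : Nat.Coprime j p := by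
  rw [Nat.coprime_comm, Nat.Prime.coprime_iff_not_dvd hp]
  intro hpj
  have hpq : p ∣ q := by rw [hq]; exact dvd_pow_self p hk
  have hq1 : 1 ≤ q := by rw [hq]; exact Nat.one_le_pow _ _ hp.pos
  rcases hj with hj | hj
  · have h1 : p ∣ q - 1 := hpj.trans hj
    have h2 : p ∣ q - (q - 1) := Nat.dvd_sub hpq h1
    have h3 : q - (q - 1) = 1 := by omega
    rw [h3] at h2
    exact hp.one_lt.ne' (Nat.dvd_one.mp h2)
  · have h1 : p ∣ q + 1 := hpj.trans hj
    have h2 : p ∣ q + 1 - q := Nat.dvd_sub h1 hpq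
    have h3 : q + 1 - q = 1 := by omega
    rw [h3] at h2
    exact hp.one_lt.ne' (Nat.dvd_one.mp h2)

variable {F : Type*} [Field F] [Fintype F]

set_option maxHeartbeats 1600000 in
/-- the point stabiliser of `PSL₂(q)` is maximal -/
theorem excl_B (p : ℕ) [Fact p.Prime] [CharP F p] (hodd : Odd (Fintype.card F))
    (h5 : 5 ≤ Fintype.card F) (h9 : Fintype.card F ≠ 9) {k : ℕ} (hk : Fintype.card F = p ^ k)
    {A N : Subgroup (Matrix.ProjectiveSpecialLinearGroup (Fin 2) F)} (hN : IsCoatom N)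
    (hle : A ≤ N) (hne : A ≠ N)
    (hA : 2 * Nat.card A = Fintype.card F * (Fintype.card F - 1)) : False := by
  have hp : p.Prime := Fact.out
  obtain ⟨hdvd, hlt⟩ := card_facts hle hne
  have hcases := coatom_cases p hodd h5 h9 hk N hN
  obtain ⟨q, hq⟩ : ∃ q, q = Fintype.card F := ⟨_, rfl⟩
  obtain ⟨cA, hcA⟩ : ∃ c, c = Nat.card A := ⟨_, rfl⟩
  obtain ⟨cN, hcN⟩ : ∃ c, c = Nat.card N := ⟨_, rfl⟩
  rw [← hq] at hodd h5 h9 hk hA hcases
  rw [← hcA] at hA hdvd hlt
  rw [← hcN] at hdvd hlt hcases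
  have hmono : 5 * (q - 1) ≤ q * (q - 1) := Nat.mul_le_mul_right _ h5
  have hdvd2 : q * (q - 1) ∣ 2 * cN := by rw [← hA]; exact Nat.mul_dvd_mul_left 2 hdvd
  rcases hcases with h | ⟨h, -⟩ | ⟨h, -⟩ | ⟨a, ha0, hka, h, -⟩ | ⟨a, r, ha0, hr, hoddr, hka, h, -⟩ |
    ⟨hmod, -, h, -⟩ | ⟨-, -, -, h, -⟩ | ⟨-, -, h, -⟩
  · omega
  · omega
  · omega
  · -- `PGL₂(q₀)`, `q = q₀²`
    obtain ⟨s, hs⟩ : ∃ s, s = p ^ a := ⟨_, rfl⟩
    have hqs : q = s * s := by rw [hk, hka, hs, ← pow_two, ← pow_mul, mul_comm]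
    rw [← hs] at h
    have hs2 : 2 ≤ s := by
      rw [hs]
      calc 2 ≤ p := hp.two_le
        _ = p ^ 1 := (pow_one p).symm
        _ ≤ p ^ a := Nat.pow_le_pow_right hp.pos (by omega)
    have hY : 0 < s ^ 2 - 1 := by
      have : 4 ≤ s ^ 2 := by nlinarith
      omega
    have e1 : q - 1 = s ^ 2 - 1 := by rw [hqs, pow_two]
    rw [e1, hqs] at hA
    have h1 : s * s * (s ^ 2 - 1) < 2 * s * (s ^ 2 - 1) := by
      calc s * s * (s ^ 2 - 1) = 2 * cA := hA.symm
        _ < 2 * cN := by omega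
        _ = 2 * s * (s ^ 2 - 1) := by rw [h]; ring
    have h2 := Nat.lt_of_mul_lt_mul_right h1
    have h3 : s < 2 := by
      by_contra hcon
      push Not at hcon
      have : 2 * s ≤ s * s := Nat.mul_le_mul_right s hcon
      omega
    omega
  · -- `PSL₂(q₀)`, `q = q₀ ^ r`
    obtain ⟨s, hs⟩ : ∃ s, s = p ^ a := ⟨_, rfl⟩
    rw [← hs] at h
    have hr3 : 3 ≤ r := by
      have h2 := hr.two_le
      rcases Nat.lt_or_eq_of_le h2 with h3 | h3
      · omega
      · rw [← h3] at hoddr; exact absurd hoddr (by decide)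
    have hqs : q = s ^ r := by rw [hk, hka, hs, ← pow_mul]
    have hs2 : 2 ≤ s := by
      rw [hs]
      calc 2 ≤ p := hp.two_le
        _ = p ^ 1 := (pow_one p).symm
        _ ≤ p ^ a := Nat.pow_le_pow_right hp.pos (by omega)
    have h1 : s ^ 3 ≤ q := by rw [hqs]; exact Nat.pow_le_pow_right (by omega) hr3
    have h2 : s * (s ^ 2 - 1) ≤ s ^ 3 := by
      calc s * (s ^ 2 - 1) ≤ s * s ^ 2 := Nat.mul_le_mul_left s (Nat.sub_le _ _)
        _ = s ^ 3 := by ring
    have h3 : q ≤ q * (q - 1) := Nat.le_mul_of_pos_right q (by omega)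
    omega
  · -- `A₅`
    have hq11 : q ≤ 11 := by
      by_contra hcon
      push Not at hcon
      have : 12 * 11 ≤ q * (q - 1) := Nat.mul_le_mul (by omega) (by omega)
      omega
    obtain ⟨w, hw⟩ := hodd
    rw [h] at hdvd2
    interval_cases q <;> omega
  · -- `A₄`
    have hq11 : q ≤ 5 := by
      by_contra hcon
      push Not at hcon
      have : 6 * 5 ≤ q * (q - 1) := Nat.mul_le_mul (by omega) (by omega)
      omega
    rw [h] at hdvd2
    interval_cases q <;> omega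
  · -- `S₄`
    have hq11 : q ≤ 7 := by
      by_contra hcon
      push Not at hcon
      have : 8 * 7 ≤ q * (q - 1) := Nat.mul_le_mul (by omega) (by omega)
      omega
    obtain ⟨w, hw⟩ := hodd
    rw [h] at hdvd2
    interval_cases q <;> omega

end Cfsg.Agent.Lib.helper6.PGLx
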