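import Mathlib
import Cfsg.Agent.Lib.helper6.PGLq

set_option autoImplicit false

namespace Cfsg.Agent.Lib.helper6.PGLx

open MulAction Cfsg.Agent.Lib.helper6.Dickson Cfsg.Agent.Lib.helper6.QAlg
open Cfsg.Agent.Lib.helper6.P2Odd Cfsg.Agent.S0808 Cfsg.Agent.S0807

variable {F : Type*} [Field F] [Fintype F]

theorem two_le_prime_pow {p a : ℕ} (hp : p.Prime) (ha : a ≠ 0) : 2 ≤ p ^ a :=
  calc 2 ≤ p := hp.two_le
    _ = p ^ 1 := (pow_one p).symm
    _ ≤ p ^ a := Nat.pow_le_pow_right hp.pos (by omega)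

theorem three_le_of_odd_prime {r : ℕ} (hr : r.Prime) (hodd : Odd r) : 3 ≤ r := by
  have h2 := hr.two_le
  rcases Nat.lt_or_eq_of_le h2 with h3 | h3
  · omega
  · rw [← h3] at hodd; exact absurd hodd (by decide)

set_option maxHeartbeats 1600000 in
/-- the dihedral subgroup of order `q - 1` of `PSL₂(q)` is maximal for `q ≥ 13` -/
theorem excl_Dm (p : ℕ) [Fact p.Prime] [CharP F p] (hodd : Odd (Fintype.card F))
    (h13 : 13 ≤ Fintype.card F) {k : ℕ} (hk : Fintype.card F = p ^ k)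
    {A N : Subgroup (Matrix.ProjectiveSpecialLinearGroup (Fin 2) F)} (hN : IsCoatom N)
    (hle : A ≤ N) (hne : A ≠ N)
    (hA : Nat.card A = Fintype.card F - 1)
    {t : Matrix.ProjectiveSpecialLinearGroup (Fin 2) F} (ht : t ∈ A)
    (hto : 2 * orderOf t = Fintype.card F - 1) : False := by
  have hp : p.Prime := Fact.out
  obtain ⟨hdvd, hlt⟩ := card_facts hle hne
  have hk0 : k ≠ 0 := by
    rintro rfl
    rw [pow_zero] at hk
    omega
  have hcases := coatom_cases p hodd (by omega) (by omega) hk N hN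
  have htN : t ∈ N := hle ht
  have hcop : (orderOf t).Coprime p :=
    coprime_of_dvd_pred_or_succ hp hk0 hk (Or.inl ⟨2, by rw [← hto]; ring⟩)
  obtain ⟨q, hq⟩ : ∃ q, q = Fintype.card F := ⟨_, rfl⟩
  obtain ⟨cA, hcA⟩ : ∃ c, c = Nat.card A := ⟨_, rfl⟩
  obtain ⟨cN, hcN⟩ : ∃ c, c = Nat.card N := ⟨_, rfl⟩
  obtain ⟨j, hj⟩ : ∃ j, j = orderOf t := ⟨_, rfl⟩
  rw [← hq] at hodd h13 hk hA hcases hto
  rw [← hcA] at hA hdvd hlt
  rw [← hcN] at hdvd hlt hcases
  rw [← hj] at hto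
  rcases hcases with h | ⟨h, -⟩ | ⟨h, -⟩ | ⟨a, ha0, hka, -, h⟩ | ⟨a, r, ha0, hr, hoddr, hka, -, h⟩ |
    ⟨-, -, -, h⟩ | ⟨-, -, -, -, h, -⟩ | ⟨-, -, -, h⟩
  · -- Borel
    obtain ⟨u, hu⟩ := hdvd
    rw [hu, hA] at h
    have h1 : (q - 1) * (2 * u) = (q - 1) * q := by rw [mul_comm (q - 1) q, ← h]; ring
    have h2 := Nat.eq_of_mul_eq_mul_left (by omega) h1
    obtain ⟨w, hw⟩ := hodd
    omega
  · omega
  · rw [h, hA] at hdvd
    have h1 : q - 1 ∣ q + 1 - (q - 1) := Nat.dvd_sub hdvd (dvd_refl _)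
    have h2 : q + 1 - (q - 1) = 2 := by omega
    rw [h2] at h1
    have := Nat.le_of_dvd (by norm_num) h1
    omega
  · -- `PGL₂(q₀)`
    have h1 := h t htN hcop
    rw [← hj] at h1
    obtain ⟨s, hs⟩ : ∃ s, s = p ^ a := ⟨_, rfl⟩
    have hqs : q = s * s := by rw [hk, hka, hs, ← pow_two, ← pow_mul, mul_comm]
    rw [← hs] at h1
    have hs4 : 4 ≤ s := by
      by_contra hcon
      push Not at hcon
      have : s * s ≤ 3 * 3 := Nat.mul_le_mul (by omega) (by omega)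
      omega
    have : 4 * s ≤ s * s := Nat.mul_le_mul_right s hs4
    omega
  · -- `PSL₂(q₀)`
    have h1 := h t htN hcop
    rw [← hj] at h1
    obtain ⟨s, hs⟩ : ∃ s, s = p ^ a := ⟨_, rfl⟩
    rw [← hs] at h1
    have hr3 := three_le_of_odd_prime hr hoddr
    have hqs : q = s ^ r := by rw [hk, hka, hs, ← pow_mul]
    have hs2 : 2 ≤ s := by rw [hs]; exact two_le_prime_pow hp ha0
    have h2 : s ^ 3 ≤ q := by rw [hqs]; exact Nat.pow_le_pow_right (by omega) hr3
    have h3 : 4 * s ≤ s ^ 3 := by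
      have : 2 * 2 * s ≤ s * s * s := Nat.mul_le_mul (Nat.mul_le_mul hs2 hs2) (le_refl s)
      calc 4 * s = 2 * 2 * s := by ring
        _ ≤ s * s * s := this
        _ = s ^ 3 := by ring
    omega
  · have h1 := h t htN
    rw [← hj] at h1
    omega
  · have h1 := h t htN
    rw [← hj] at h1
    omega
  · have h1 := h t htN
    rw [← hj] at h1
    omega

set_option maxHeartbeats 1600000 in
/-- the dihedral subgroup of order `q + 1` of `PSL₂(q)` is maximal for `q = 5` or `q ≥ 13` -/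
theorem excl_Dp (p : ℕ) [Fact p.Prime] [CharP F p] (hodd : Odd (Fintype.card F))
    (h13 : Fintype.card F = 5 ∨ 13 ≤ Fintype.card F) {k : ℕ} (hk : Fintype.card F = p ^ k)
    {A N : Subgroup (Matrix.ProjectiveSpecialLinearGroup (Fin 2) F)} (hN : IsCoatom N)
    (hle : A ≤ N) (hne : A ≠ N)
    (hA : Nat.card A = Fintype.card F + 1)
    {t : Matrix.ProjectiveSpecialLinearGroup (Fin 2) F} (ht : t ∈ A)
    (hto : 2 * orderOf t = Fintype.card F + 1)
    (hrefl : Fintype.card F = 5 → ∃ x ∈ A, x * x = 1 ∧ x ≠ 1 ∧ x * t * x⁻¹ = t⁻¹) : False := by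
  have hp : p.Prime := Fact.out
  obtain ⟨hdvd, hlt⟩ := card_facts hle hne
  have hk0 : k ≠ 0 := by
    rintro rfl
    rw [pow_zero] at hk
    omega
  have hcases := coatom_cases p hodd (by omega) (by omega) hk N hN
  have htN : t ∈ N := hle ht
  have hcop : (orderOf t).Coprime p :=
    coprime_of_dvd_pred_or_succ hp hk0 hk (Or.inr ⟨2, by rw [← hto]; ring⟩)
  obtain ⟨q, hq⟩ : ∃ q, q = Fintype.card F := ⟨_, rfl⟩
  obtain ⟨cA, hcA⟩ : ∃ c, c = Nat.card A := ⟨_, rfl⟩
  obtain ⟨cN, hcN⟩ : ∃ c, c = Nat.card N := ⟨_, rfl⟩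
  obtain ⟨j, hj⟩ : ∃ j, j = orderOf t := ⟨_, rfl⟩
  rw [← hq] at hodd h13 hk hA hcases hto hrefl
  rw [← hcA] at hA hdvd hlt
  rw [← hcN] at hdvd hlt hcases
  rw [← hj] at hto
  have h5 : 5 ≤ q := by omega
  rcases hcases with h | ⟨h, -⟩ | ⟨h, -⟩ | ⟨a, ha0, hka, -, h⟩ | ⟨a, r, ha0, hr, hoddr, hka, -, h⟩ |
    ⟨hmod, -, -, h⟩ | ⟨hk1, -, -, -, h, ⟨e⟩⟩ | ⟨hk1, hmod, -, h⟩
  · -- Borel
    have h1 : q + 1 ∣ q * (q - 1) := by
      rw [← h, ← hA]; exact Dvd.dvd.mul_left hdvd 2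
    obtain ⟨s, rfl⟩ : ∃ s, q = s + 2 := ⟨q - 2, by omega⟩
    have h2 : (s + 2) * (s + 2 - 1) = (s + 2 + 1) * s + 2 := by
      have : s + 2 - 1 = s + 1 := by omega
      rw [this]; ring
    rw [h2] at h1
    have h3 : s + 2 + 1 ∣ 2 := (Nat.dvd_add_right (Dvd.intro _ rfl)).mp h1
    have := Nat.le_of_dvd (by norm_num) h3
    omega
  · omega
  · omega
  · -- `PGL₂(q₀)`
    have h1 := h t htN hcop
    rw [← hj] at h1
    obtain ⟨s, hs⟩ : ∃ s, s = p ^ a := ⟨_, rfl⟩
    have hqs : q = s * s := by rw [hk, hka, hs, ← pow_two, ← pow_mul, mul_comm]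
    rw [← hs] at h1
    have hs3 : 3 ≤ s := by
      by_contra hcon
      push Not at hcon
      have : s * s ≤ 2 * 2 := Nat.mul_le_mul (by omega) (by omega)
      omega
    have : 3 * s ≤ s * s := Nat.mul_le_mul_right s hs3
    omega
  · -- `PSL₂(q₀)`
    have h1 := h t htN hcop
    rw [← hj] at h1
    obtain ⟨s, hs⟩ : ∃ s, s = p ^ a := ⟨_, rfl⟩
    rw [← hs] at h1
    have hr3 := three_le_of_odd_prime hr hoddr
    have hqs : q = s ^ r := by rw [hk, hka, hs, ← pow_mul]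
    have hs2 : 2 ≤ s := by rw [hs]; exact two_le_prime_pow hp ha0
    have h2 : s ^ 3 ≤ q := by rw [hqs]; exact Nat.pow_le_pow_right (by omega) hr3
    have h3 : 4 * s ≤ s ^ 3 := by
      have : 2 * 2 * s ≤ s * s * s := Nat.mul_le_mul (Nat.mul_le_mul hs2 hs2) (le_refl s)
      calc 4 * s = 2 * 2 * s := by ring
        _ ≤ s * s * s := this
        _ = s ^ 3 := by ring
    omega
  · have h1 := h t htN
    rw [← hj] at h1
    omega
  · have h1 := h t htN
    rw [← hj] at h1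
    rcases h13 with h13 | h13
    · -- `q = 5`: a dihedral group of order six inside `A₄`
      obtain ⟨x, hx, hxx, hx1, hxt⟩ := hrefl h13
      have hxN : x ∈ N := hle hx
      have hj3 : j = 3 := by omega
      have e1 : e ⟨x, hxN⟩ * e ⟨x, hxN⟩ = 1 := by
        rw [← map_mul, ← map_one e]; congr 1; exact Subtype.ext hxx
      have e2 : e ⟨x, hxN⟩ ≠ 1 := by
        intro hc
        rw [← map_one e] at hc
        exact hx1 (congrArg Subtype.val (e.injective hc))
      have e3 : e ⟨t, htN⟩ * e ⟨t, htN⟩ * e ⟨t, htN⟩ = 1 := by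
        rw [← map_mul, ← map_mul, ← map_one e]; congr 1
        apply Subtype.ext
        show t * t * t = 1
        have := pow_orderOf_eq_one t
        rw [← hj, hj3] at this
        rw [← this, pow_succ, pow_two]
      have e4 : e ⟨t, htN⟩ ≠ 1 := by
        intro hc
        rw [← map_one e] at hc
        have h2 : t = 1 := congrArg Subtype.val (e.injective hc)
        rw [h2, orderOf_one] at hj
        omega
      apply a4_no_inverting _ _ e1 e2 e3 e4
      rw [← map_inv, ← map_inv, ← map_mul, ← map_mul]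
      congr 1
      exact Subtype.ext hxt
    · omega
  · have h1 := h t htN
    rw [← hj] at h1
    rcases h13 with h13 | h13
    · rw [hk1, pow_one] at hk
      omega
    · omega

end Cfsg.Agent.Lib.helper6.PGLx
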