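import Mathlib
import Cfsg.Agent.Lib.helper6.PGLr

set_option autoImplicit false

namespace Cfsg.Agent.Lib.helper6.PGLx

open MulAction Cfsg.Agent.Lib.helper6.Dickson Cfsg.Agent.Lib.helper6.QAlg
open Cfsg.Agent.Lib.helper6.P2Odd Cfsg.Agent.S0808 Cfsg.Agent.S0807

variable {F : Type*} [Field F] [Fintype F]

set_option maxHeartbeats 1600000 in
/-- the subgroup `A₄ = S₄ ∩ PSL₂(p)` is maximal when `p ≡ ±3 (mod 8)`, `p ≢ ±1 (mod 10)` -/
theorem excl_S4 (p : ℕ) [Fact p.Prime] [CharP F p] (hodd : Odd (Fintype.card F))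
    (h5 : 5 ≤ Fintype.card F) (hk : Fintype.card F = p)
    (hmod8 : p % 8 = 3 ∨ p % 8 = 5) (hmod10 : ¬ (p % 10 = 1 ∨ p % 10 = 9))
    {A N : Subgroup (Matrix.ProjectiveSpecialLinearGroup (Fin 2) F)} (hN : IsCoatom N)
    (hle : A ≤ N) (hne : A ≠ N) (hA : Nat.card A = 12)
    {y₁ y₂ : Matrix.ProjectiveSpecialLinearGroup (Fin 2) F} (hy₁ : y₁ ∈ A) (hy₂ : y₂ ∈ A)
    (h1 : y₁ ^ 3 = 1) (h2 : y₂ ^ 3 = 1) (hnc : y₁ * y₂ ≠ y₂ * y₁) : False := by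
  have hp : p.Prime := Fact.out
  obtain ⟨hdvd, hlt⟩ := card_facts hle hne
  have hk' : Fintype.card F = p ^ 1 := by rw [pow_one]; exact hk
  have h9 : Fintype.card F ≠ 9 := by
    rw [hk]; rintro rfl; exact absurd hp (by decide)
  have hcases := coatom_cases p hodd h5 h9 hk' N hN
  have hdih : ∀ n : ℕ, Nonempty (N ≃* DihedralGroup n) → False := by
    rintro n ⟨e⟩
    refine no_dih_of_noncomm_three (A := A) (e.toMonoidHom.comp (Subgroup.inclusion hle))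
      (e.injective.comp (Subgroup.inclusion_injective hle)) (y₁ := ⟨y₁, hy₁⟩) (y₂ := ⟨y₂, hy₂⟩)
      (Subtype.ext h1) (Subtype.ext h2) ?_
    intro hc
    exact hnc (congrArg Subtype.val hc)
  rw [hA] at hdvd hlt
  rw [hk] at hcases
  rcases hcases with h | ⟨-, n, hn⟩ | ⟨-, n, hn⟩ | ⟨a, ha0, hka, -⟩ | ⟨a, r, ha0, hr, hoddr, hka, -⟩ |
    ⟨hmod, -⟩ | ⟨-, -, -, h, -⟩ | ⟨-, hmod, -⟩
  · -- Borel
    obtain ⟨u, hu⟩ := hdvd
    rw [hu] at h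
    have h3 : (p * (p - 1)) % 8 = ((p % 8) * ((p - 1) % 8)) % 8 := Nat.mul_mod _ _ _
    have hp5 : 5 ≤ p := by rw [← hk]; exact h5
    rcases hmod8 with h8 | h8
    · have h4 : (p - 1) % 8 = 2 := by omega
      rw [h8, h4] at h3
      omega
    · have h4 : (p - 1) % 8 = 4 := by omega
      rw [h8, h4] at h3
      omega
  · exact hdih n hn
  · exact hdih n hn
  · omega
  · have hr3 := three_le_of_odd_prime hr hoddr
    have : 1 * 3 ≤ a * r := Nat.mul_le_mul (by omega) hr3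
    omega
  · exact hmod10 hmod
  · omega
  · omega

set_option maxHeartbeats 1600000 in
/-- the subfield subgroup `PSL₂(q₀)` of `PSL₂(q₀ ^ r)`, `r` an odd prime, is maximal -/
theorem excl_PGL (p : ℕ) [Fact p.Prime] [CharP F p] (hodd : Odd (Fintype.card F))
    (h5 : 5 ≤ Fintype.card F) (h9 : Fintype.card F ≠ 9) {k a₀ r₀ : ℕ}
    (hk : Fintype.card F = p ^ k) (ha₀ : a₀ ≠ 0) (hr₀ : r₀.Prime) (hoddr₀ : Odd r₀)
    (hka₀ : k = a₀ * r₀)
    {A N : Subgroup (Matrix.ProjectiveSpecialLinearGroup (Fin 2) F)} (hN : IsCoatom N)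
    (hle : A ≤ N) (hne : A ≠ N)
    (hA : 2 * Nat.card A = p ^ a₀ * ((p ^ a₀) ^ 2 - 1)) : False := by
  have hp : p.Prime := Fact.out
  obtain ⟨hdvd, hlt⟩ := card_facts hle hne
  have hcases := coatom_cases p hodd h5 h9 hk N hN
  have hr₀3 := three_le_of_odd_prime hr₀ hoddr₀
  have hk3 : 3 ≤ k := by
    rw [hka₀]
    have : 1 * 3 ≤ a₀ * r₀ := Nat.mul_le_mul (by omega) hr₀3
    omega
  obtain ⟨q, hq⟩ : ∃ q, q = Fintype.card F := ⟨_, rfl⟩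
  obtain ⟨cA, hcA⟩ : ∃ c, c = Nat.card A := ⟨_, rfl⟩
  obtain ⟨cN, hcN⟩ : ∃ c, c = Nat.card N := ⟨_, rfl⟩
  obtain ⟨s₀, hs₀⟩ : ∃ s, s = p ^ a₀ := ⟨_, rfl⟩
  rw [← hq] at hodd h5 h9 hk hcases
  rw [← hcA] at hA hdvd hlt
  rw [← hcN] at hdvd hlt hcases
  rw [← hs₀] at hA
  have hs₀2 : 2 ≤ s₀ := by rw [hs₀]; exact two_le_prime_pow hp ha₀
  have hqs₀ : q = s₀ ^ r₀ := by rw [hk, hka₀, hs₀, ← pow_mul]
  have hs₀odd : Odd s₀ := by
    rw [hqs₀] at hodd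
    exact (Nat.odd_pow_iff hr₀.ne_zero).mp hodd
  -- `s₀ + 1` divides `q + 1`
  have hdq : s₀ + 1 ∣ q + 1 := by
    have := Odd.nat_add_dvd_pow_add_pow s₀ 1 hoddr₀
    rwa [one_pow, ← hqs₀] at this
  -- `s₀ + 1` and `s₀` divide `cA`
  obtain ⟨w, hw⟩ := hs₀odd
  have hcAw : cA = s₀ * w * (s₀ + 1) := by
    have h1 : s₀ ^ 2 - 1 = 2 * w * (s₀ + 1) := by
      rw [hw]
      have : (2 * w + 1) ^ 2 = 4 * w * w + 4 * w + 1 := by ring
      rw [this]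
      have : 4 * w * w + 4 * w + 1 - 1 = 4 * w * w + 4 * w := by omega
      rw [this]; ring
    rw [h1] at hA
    have h2 : 2 * cA = 2 * (s₀ * w * (s₀ + 1)) := by rw [hA]; ring
    omega
  have hpq : p ∣ q := by rw [hk]; exact dvd_pow_self p (by omega)
  have hps₀ : p ∣ s₀ := by rw [hs₀]; exact dvd_pow_self p ha₀
  have hnot2 : ¬ (s₀ + 1 ∣ q - 1) := by
    intro h1
    have h2 : s₀ + 1 ∣ q + 1 - (q - 1) := Nat.dvd_sub hdq h1
    have h3 : q + 1 - (q - 1) = 2 := by omega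
    rw [h3] at h2
    have := Nat.le_of_dvd (by norm_num) h2
    omega
  have hcop : Nat.Coprime (s₀ + 1) q := by
    rw [hk]
    apply Nat.Coprime.pow_right
    rw [Nat.coprime_comm, Nat.Prime.coprime_iff_not_dvd hp]
    intro h1
    have h2 : p ∣ s₀ + 1 - s₀ := Nat.dvd_sub h1 hps₀
    have h3 : s₀ + 1 - s₀ = 1 := by omega
    rw [h3] at h2
    exact hp.one_lt.ne' (Nat.dvd_one.mp h2)
  rcases hcases with h | ⟨h, -⟩ | ⟨h, -⟩ | ⟨a, ha0, hka, h, -⟩ | ⟨a, r, ha0, hr, hoddr, hka, h, -⟩ |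
    ⟨-, hk12, -⟩ | ⟨hk1, -⟩ | ⟨hk1, -⟩
  · -- Borel
    have h1 : s₀ + 1 ∣ q * (q - 1) := by
      rw [← h]
      exact Dvd.dvd.mul_left ((Dvd.intro_left _ hcAw.symm).trans hdvd) 2
    rw [mul_comm] at h1
    exact hnot2 (hcop.dvd_of_dvd_mul_right h1)
  · rw [h] at hdvd
    exact hnot2 ((Dvd.intro_left _ hcAw.symm).trans hdvd)
  · rw [h] at hdvd
    have h1 : p ∣ q + 1 := by
      have h0 : s₀ ∣ cA := by rw [hcAw, mul_assoc]; exact Dvd.intro _ rfl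
      exact hps₀.trans (h0.trans hdvd)
    have h2 : p ∣ q + 1 - q := Nat.dvd_sub h1 hpq
    have h3 : q + 1 - q = 1 := by omega
    rw [h3] at h2
    exact hp.one_lt.ne' (Nat.dvd_one.mp h2)
  · -- `PGL₂(q₁)`, `q = q₁²`
    have h1 : a₀ ∣ a := by
      apply Cfsg.Agent.Lib.Helper28.P2.dvd_of_order_dvd p a₀ a hp (by omega)
      rw [← hs₀, ← hA, ← h]
      exact Nat.mul_dvd_mul_left 2 hdvd
    obtain ⟨c, hc⟩ := h1
    have h2 : a₀ * r₀ = a₀ * (2 * c) := by rw [← hka₀, hka, hc]; ring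
    have h3 := Nat.eq_of_mul_eq_mul_left (by omega) h2
    obtain ⟨u, hu⟩ := hoddr₀
    omega
  · -- `PSL₂(q₁)`, `q = q₁ ^ r`
    have h1 : a₀ ∣ a := by
      apply Cfsg.Agent.Lib.Helper28.P2.dvd_of_order_dvd p a₀ a hp (by omega)
      rw [← hs₀, ← hA, ← h]
      exact Dvd.dvd.mul_left (Nat.mul_dvd_mul_left 2 hdvd) 2
    obtain ⟨c, hc⟩ := h1
    have h2 : a₀ * r₀ = a₀ * (c * r) := by rw [← hka₀, hka, hc]; ring
    have h3 := Nat.eq_of_mul_eq_mul_left (by omega) h2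
    have h4 : r ∣ r₀ := Dvd.intro_left _ h3.symm
    have h5' : r = r₀ := (Nat.prime_dvd_prime_iff_eq hr hr₀).mp h4
    have hc1 : c = 1 := by
      rw [h5'] at h3
      have : 1 * r₀ = c * r₀ := by rw [one_mul]; exact h3
      exact (Nat.eq_of_mul_eq_mul_right hr₀.pos this).symm
    rw [hc1, mul_one] at hc
    rw [hc, ← hs₀, ← hA] at h
    omega
  · omega
  · omega
  · omega

end Cfsg.Agent.Lib.helper6.PGLx
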