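import Mathlib
import Cfsg.Agent.Lib.helper6.PGLs

set_option autoImplicit false

namespace Cfsg.Agent.Lib.helper6.PGLx

open MulAction Cfsg.Agent.Lib.helper6.Dickson Cfsg.Agent.Lib.helper6.QAlg
open Cfsg.Agent.Lib.helper6.P2Odd Cfsg.Agent.S0808 Cfsg.Agent.S0807

variable {F : Type*} [Field F] [Fintype F]

/-- the rotation subgroup of a dihedral `M` of order `4 j` meets `PSL₂` in an element of
order `j`, the square of a generating rotation -/
theorem dih_pre_rot' {M : Subgroup (Matrix.ProjGenLinGroup (Fin 2) F)} {n j : ℕ}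
    (hn : n = 2 * j) (hj : 0 < j) (e : M ≃* DihedralGroup n) :
    ∃ t ∈ pre M, orderOf t = j ∧ Matrix.ProjectiveSpecialLinearGroup.toPGL t =
      ((e.symm (DihedralGroup.r 1) : M) : Matrix.ProjGenLinGroup (Fin 2) F) *
        ((e.symm (DihedralGroup.r 1) : M) : Matrix.ProjGenLinGroup (Fin 2) F) := by
  obtain ⟨t, ht, htm⟩ := exists_pre_of_sq (M := M) (e.symm (DihedralGroup.r 1) : M).2
  refine ⟨t, ht, ?_, htm⟩
  rw [← orderOf_toPGL, htm, ← pow_two, ← Subgroup.coe_pow, Subgroup.orderOf_coe, ← map_pow,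
    MulEquiv.orderOf_eq, orderOf_pow' _ two_ne_zero, DihedralGroup.orderOf_r_one, hn]
  have : Nat.gcd (2 * j) 2 = 2 := Nat.gcd_eq_right (Dvd.intro _ rfl)
  rw [this]
  omega

set_option maxHeartbeats 800000 in
/-- a reflection of a dihedral subgroup inside the image of `SL₂`, when the rotations of
maximal order are outside -/
theorem dih_pre_refl (hodd : Odd (Fintype.card F))
    {M : Subgroup (Matrix.ProjGenLinGroup (Fin 2) F)} {n : ℕ} (e : M ≃* DihedralGroup n)
    (hr : ((e.symm (DihedralGroup.r 1) : M) : Matrix.ProjGenLinGroup (Fin 2) F) ∉ Lr F)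
    {t : Matrix.ProjectiveSpecialLinearGroup (Fin 2) F}
    (htm : Matrix.ProjectiveSpecialLinearGroup.toPGL t =
      ((e.symm (DihedralGroup.r 1) : M) : Matrix.ProjGenLinGroup (Fin 2) F) *
        ((e.symm (DihedralGroup.r 1) : M) : Matrix.ProjGenLinGroup (Fin 2) F)) :
    ∃ x ∈ pre M, x * x = 1 ∧ x ≠ 1 ∧ x * t * x⁻¹ = t⁻¹ := by
  have hinj := Matrix.ProjectiveSpecialLinearGroup.toPGL_injective (n := Fin 2) (R := F)
  obtain ⟨φ, hφ⟩ := exists_hom_Lr hodd
  have hex : ∃ i : ZMod n,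
      ((e.symm (DihedralGroup.sr i) : M) : Matrix.ProjGenLinGroup (Fin 2) F) ∈ Lr F := by
    by_contra hcon
    push Not at hcon
    have h0 := hcon 0
    have h1 := hcon 1
    rw [← hφ, MonoidHom.mem_ker] at h0 h1
    have h2 := zmod2_mul _ _ h0 h1
    rw [← map_mul, ← MonoidHom.mem_ker, hφ, ← Subgroup.coe_mul, ← map_mul] at h2
    have h3 : (DihedralGroup.sr 0 : DihedralGroup n) * DihedralGroup.sr 1 = DihedralGroup.r 1 := by
      rw [DihedralGroup.sr_mul_sr, sub_zero]
    rw [h3] at h2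
    exact hr h2
  obtain ⟨i, hi⟩ := hex
  obtain ⟨x, hx⟩ := exists_of_mem_Lr hi
  refine ⟨x, ?_, ?_, ?_, ?_⟩
  · rw [mem_pre, hx]; exact (e.symm (DihedralGroup.sr i) : M).2
  · apply hinj
    rw [map_mul, hx, map_one, ← Subgroup.coe_mul, ← map_mul, DihedralGroup.sr_mul_self, map_one,
      Subgroup.coe_one]
  · intro hc
    rw [hc, map_one] at hx
    have h1 : (e.symm (DihedralGroup.sr i) : M) = 1 := Subtype.ext hx.symm
    have h2 : (DihedralGroup.sr i : DihedralGroup n) = 1 := by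
      have := congrArg e h1
      rwa [e.apply_symm_apply, map_one] at this
    cases h2
  · apply hinj
    rw [map_mul, map_mul, map_inv, map_inv, hx, htm, ← Subgroup.coe_mul, ← Subgroup.coe_mul,
      ← Subgroup.coe_inv, ← Subgroup.coe_inv, ← Subgroup.coe_mul, ← map_mul, ← map_mul, ← map_inv,
      ← map_inv, ← map_mul]
    congr 2
    rw [DihedralGroup.r_mul_r, DihedralGroup.sr_mul_r, DihedralGroup.inv_sr,
      DihedralGroup.sr_mul_sr, DihedralGroup.inv_r]
    congr 1
    ring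

/-- the generating rotation of a dihedral subgroup of order `2 (q + 1)` is outside the image of
`SL₂` -/
theorem dih_rot_not_mem (p : ℕ) [Fact p.Prime] [CharP F p] (hodd : Odd (Fintype.card F))
    {M : Subgroup (Matrix.ProjGenLinGroup (Fin 2) F)}
    (e : M ≃* DihedralGroup (Fintype.card F + 1)) :
    ((e.symm (DihedralGroup.r 1) : M) : Matrix.ProjGenLinGroup (Fin 2) F) ∉ Lr F := by
  have hp : p.Prime := Fact.out
  intro hmem
  obtain ⟨z, hz⟩ := exists_of_mem_Lr hmem
  have ho : orderOf z = Fintype.card F + 1 := by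
    rw [← orderOf_toPGL, hz, Subgroup.orderOf_coe, MulEquiv.orderOf_eq,
      DihedralGroup.orderOf_r_one]
  obtain ⟨k, hk0, hk⟩ := exists_card_pow (F := F) p
  have hcop : (orderOf z).Coprime p :=
    coprime_of_dvd_pred_or_succ hp hk0 hk (Or.inr (by rw [ho]))
  obtain ⟨c, hc⟩ := hodd
  have h1 := psl2_order_dvd p ⟨c, hc⟩ (c := c) (m := c + 1) (by omega) (by omega) z hcop
  rw [ho] at h1
  have hc0 : 0 < c := by
    have h1 : 1 < Fintype.card F := Fintype.one_lt_card
    omega
  rcases h1 with h1 | h1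
  · have := Nat.le_of_dvd hc0 h1; omega
  · have := Nat.le_of_dvd (by omega) h1; omega

end Cfsg.Agent.Lib.helper6.PGLx
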