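import Mathlib
import Cfsg.Agent.Lib.helper6.PGLt
import Cfsg.Agent.S5891

set_option autoImplicit false

namespace Cfsg.Agent.Lib.helper6.PGLx

open MulAction Cfsg.Agent.Lib.helper6.Dickson Cfsg.Agent.Lib.helper6.QAlg
open Cfsg.Agent.Lib.helper6.P2Odd Cfsg.Agent.S0808 Cfsg.Agent.S0807

variable {F : Type*} [Field F] [Fintype F]

set_option maxHeartbeats 1600000 in
/-- a maximal subgroup of `PGL₂(q)` not containing the image of `SL₂` meets it maximally -/
theorem pre_isCoatom (hodd : Odd (Fintype.card F)) (h5 : 5 ≤ Fintype.card F)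
    (h7 : Fintype.card F ≠ 7) (h9 : Fintype.card F ≠ 9) (h11 : Fintype.card F ≠ 11)
    (h40 : (Fintype.card F).Prime → Fintype.card F % 40 ∉ ({11, 19, 21, 29} : Finset ℕ))
    (M : Subgroup (Matrix.ProjGenLinGroup (Fin 2) F)) (hM : IsCoatom M)
    (hML : ¬ Lr F ≤ M) : IsCoatom (pre M) := by
  classical
  obtain ⟨p, hchar⟩ := CharP.exists F
  obtain ⟨n₀, hp, hn₀⟩ := FiniteField.card F p
  haveI : Fact p.Prime := ⟨hp⟩
  obtain ⟨k, hk⟩ : ∃ k : ℕ, Fintype.card F = p ^ k := ⟨n₀, hn₀⟩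
  have hk0 : k ≠ 0 := by
    rintro rfl
    rw [pow_zero] at hk
    omega
  have hML' : ¬ M ≤ Lr F := not_le_Lr_of_coatom hodd hM hML
  have hcard := two_mul_card_pre hodd hM hML'
  have hne_top : pre M ≠ ⊤ := by
    intro htop
    apply hML
    intro z hz
    obtain ⟨t, rfl⟩ := exists_of_mem_Lr hz
    have : t ∈ pre M := by rw [htop]; exact Subgroup.mem_top t
    exact this
  rcases eq_top_or_exists_le_coatom (pre M) with h | ⟨N, hN, hle⟩
  · exact absurd h hne_top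
  by_cases hne : pre M = N
  · rw [hne]; exact hN
  exfalso
  have h13 : Fintype.card F = 5 ∨ 13 ≤ Fintype.card F := by
    obtain ⟨w, hw⟩ := hodd
    omega
  rcases Cfsg.Agent.S5891.result hodd (by omega) M hM hML with h | ⟨hq5, ⟨e⟩⟩ | ⟨⟨e⟩⟩ |
    ⟨hprime, hmod8, ⟨e⟩⟩ | ⟨F₀, _, _, r₀, hr₀, hoddr₀, hq, ⟨e⟩⟩
  · -- Borel
    exact excl_B p hodd h5 h9 hk hN hle hne (by rw [hcard, h])
  · -- dihedral of order `2 (q - 1)`
    have h13' : 13 ≤ Fintype.card F := by omega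
    have hcM : Nat.card M = 2 * (Fintype.card F - 1) := by
      rw [Nat.card_congr e.toEquiv, DihedralGroup.nat_card]
    obtain ⟨j, hj⟩ : ∃ j, Fintype.card F - 1 = 2 * j := by
      obtain ⟨w, hw⟩ := hodd; exact ⟨w, by omega⟩
    obtain ⟨t, ht, hto⟩ := dih_pre_rot hj (by omega) e
    exact excl_Dm p hodd h13' hk hN hle hne (by omega) ht (by rw [hto, hj])
  · -- dihedral of order `2 (q + 1)`
    have hcM : Nat.card M = 2 * (Fintype.card F + 1) := by
      rw [Nat.card_congr e.toEquiv, DihedralGroup.nat_card]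
    obtain ⟨j, hj⟩ : ∃ j, Fintype.card F + 1 = 2 * j := by
      obtain ⟨w, hw⟩ := hodd; exact ⟨w + 1, by omega⟩
    obtain ⟨t, ht, hto, htm⟩ := dih_pre_rot' hj (by omega) e
    refine excl_Dp p hodd h13 hk hN hle hne (by omega) ht (by rw [hto, hj]) ?_
    intro _
    exact dih_pre_refl hodd e (dih_rot_not_mem p hodd e) htm
  · -- `S₄`
    have hqp : Fintype.card F = p := by
      have h1 : p ∣ Fintype.card F := by rw [hk]; exact dvd_pow_self p hk0
      exact ((Nat.prime_dvd_prime_iff_eq hp hprime).mp h1).symm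
    have h40' := h40 hprime
    simp only [Finset.mem_insert, Finset.mem_singleton, not_or] at h40'
    have hmod10 : ¬ (p % 10 = 1 ∨ p % 10 = 9) := by
      rw [← hqp]; omega
    have hcM : Nat.card M = 24 := by
      rw [Nat.card_congr e.toEquiv, card_S4']
    obtain ⟨c₁, c₂, d₁, d₂, hc₁, hc₂, hc₁3, hc₂3, hnc⟩ := s4_three_cycles
    obtain ⟨y₁, hy₁, hy₁m⟩ := exists_pre_of_sq (M := M) (e.symm d₁ : M).2
    obtain ⟨y₂, hy₂, hy₂m⟩ := exists_pre_of_sq (M := M) (e.symm d₂ : M).2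
    have hinj := Matrix.ProjectiveSpecialLinearGroup.toPGL_injective (n := Fin 2) (R := F)
    have e1 : Matrix.ProjectiveSpecialLinearGroup.toPGL y₁ =
        ((e.symm c₁ : M) : Matrix.ProjGenLinGroup (Fin 2) F) := by
      rw [hy₁m, hc₁, map_mul, Subgroup.coe_mul]
    have e2 : Matrix.ProjectiveSpecialLinearGroup.toPGL y₂ =
        ((e.symm c₂ : M) : Matrix.ProjGenLinGroup (Fin 2) F) := by
      rw [hy₂m, hc₂, map_mul, Subgroup.coe_mul]
    have f1 : y₁ ^ 3 = 1 := by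
      apply hinj
      rw [map_pow, e1, map_one, ← Subgroup.coe_pow, ← map_pow, hc₁3, map_one, Subgroup.coe_one]
    have f2 : y₂ ^ 3 = 1 := by
      apply hinj
      rw [map_pow, e2, map_one, ← Subgroup.coe_pow, ← map_pow, hc₂3, map_one, Subgroup.coe_one]
    have f3 : y₁ * y₂ ≠ y₂ * y₁ := by
      intro hc
      have h1 := congrArg Matrix.ProjectiveSpecialLinearGroup.toPGL hc
      rw [map_mul, map_mul, e1, e2, ← Subgroup.coe_mul, ← Subgroup.coe_mul, ← map_mul,
        ← map_mul] at h1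
      exact hnc (e.symm.injective (Subtype.ext h1))
    exact excl_S4 p hodd h5 hqp (by rw [← hqp]; exact hmod8) hmod10 hN hle hne (by omega)
      hy₁ hy₂ f1 f2 f3
  · -- `PGL₂(q₀)`
    obtain ⟨a₀, ha₀, hF₀⟩ := card_eq_pow_of_pow_eq (F₀ := F₀) p (k := k) (r := r₀) hr₀.ne_zero
      (by rw [← hk, hq])
    have hka₀ : k = a₀ * r₀ := by
      apply Nat.pow_right_injective hp.two_le
      show p ^ k = p ^ (a₀ * r₀)
      rw [← hk, hq, hF₀, ← pow_mul]
    have hcM : Nat.card M = p ^ a₀ * ((p ^ a₀) ^ 2 - 1) := by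
      rw [Nat.card_congr e.toEquiv, Cfsg.Agent.Lib.Helper28.P2.card_pgl2, hF₀]
    exact excl_PGL p hodd h5 h9 hk ha₀ hr₀ hoddr₀ hka₀ hN hle hne (by rw [hcard, hcM])

end Cfsg.Agent.Lib.helper6.PGLx
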