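import Mathlib
import Cfsg.Agent.Lib.Helper1.Hall

set_option autoImplicit false

namespace Cfsg.Agent.Lib.helper6.PSL2Hall

/-- a Hall `{2,3}`-subgroup inside a solvable subgroup -/
theorem exists_hall23_sub {G : Type*} [Group G] [Finite G] (N : Subgroup G)
    (hsolv : Group.IsSolvable N) :
    ∃ H : Subgroup G, H ≤ N ∧ (∀ p' : ℕ, p'.Prime → p' ∣ Nat.card H → p' = 2 ∨ p' = 3) ∧
      ∃ n : ℕ, H.index = n * N.index ∧ ¬ 2 ∣ n ∧ ¬ 3 ∣ n := by
  haveI := hsolv
  obtain ⟨c, hc⟩ : ∃ c, c = Nat.card N := ⟨_, rfl⟩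
  have hc0 : c ≠ 0 := by rw [hc]; exact Nat.card_pos.ne'
  obtain ⟨c₂, hc₂⟩ : ∃ c₂, c₂ = ordCompl[2] c := ⟨_, rfl⟩
  have hc₂0 : c₂ ≠ 0 := by rw [hc₂]; exact (Nat.ordCompl_pos 2 hc0).ne'
  obtain ⟨n, hn⟩ : ∃ n, n = ordCompl[3] c₂ := ⟨_, rfl⟩
  obtain ⟨m, hm⟩ : ∃ m, m = ordProj[2] c * ordProj[3] c₂ := ⟨_, rfl⟩
  have hmn : m * n = c := by
    rw [hm, hn, mul_assoc, Nat.ordProj_mul_ordCompl_eq_self c₂ 3, hc₂,
      Nat.ordProj_mul_ordCompl_eq_self c 2]
  have h3n : ¬ 3 ∣ n := by rw [hn]; exact Nat.not_dvd_ordCompl Nat.prime_three hc₂0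
  have h2n : ¬ 2 ∣ n := by
    intro h
    have h1 : n ∣ c₂ := by rw [hn]; exact Nat.ordCompl_dvd c₂ 3
    have h2 : ¬ 2 ∣ c₂ := by rw [hc₂]; exact Nat.not_dvd_ordCompl Nat.prime_two hc0
    exact h2 (h.trans h1)
  have hmprime : ∀ p' : ℕ, p'.Prime → p' ∣ m → p' = 2 ∨ p' = 3 := by
    intro p' hp' hd
    rw [hm] at hd
    rcases (Nat.Prime.dvd_mul hp').mp hd with h | h
    · left
      exact (Nat.prime_dvd_prime_iff_eq hp' Nat.prime_two).mp (hp'.dvd_of_dvd_pow h)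
    · right
      exact (Nat.prime_dvd_prime_iff_eq hp' Nat.prime_three).mp (hp'.dvd_of_dvd_pow h)
  have hcop : m.Coprime n := by
    apply Nat.Coprime.symm
    apply Nat.coprime_of_dvd
    intro k hk hkn hkm
    rcases hmprime k hk hkm with rfl | rfl
    · exact h2n hkn
    · exact h3n hkn
  obtain ⟨H₀, hH₀⟩ := Cfsg.Agent.Lib.Helper1.hall_exists (G := N) m n (by rw [← hc, hmn]) hcop
  refine ⟨H₀.map N.subtype, Subgroup.map_subtype_le H₀, ?_, n, ?_, h2n, h3n⟩
  · intro p' hp' hd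
    rw [Subgroup.card_map_of_injective (Subgroup.subtype_injective _), hH₀] at hd
    exact hmprime p' hp' hd
  · have h1 := (H₀.map N.subtype).card_mul_index
    have h2 := N.card_mul_index
    rw [Subgroup.card_map_of_injective (Subgroup.subtype_injective _), hH₀] at h1
    rw [← hc, ← hmn] at h2
    have hm0 : 0 < m := by
      rcases Nat.eq_zero_or_pos m with h0 | h0
      · rw [h0, zero_mul] at hmn; exact absurd hmn.symm hc0
      · exact h0
    apply Nat.eq_of_mul_eq_mul_left hm0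
    rw [h1, ← h2]; ring

theorem arith_cyc (q h idx : ℕ) (hqodd : q % 2 = 1) (hh : 0 < h)
    (hkey : h * idx * 2 = q * ((q + 1) * (q - 1)))
    (hd : h ∣ (q - 1) / 2 ∨ h ∣ (q + 1) / 2) : 2 ∣ idx := by
  rcases hd with ⟨j, hj⟩ | ⟨j, hj⟩
  · have h1 : q - 1 = 2 * (h * j) := by omega
    rw [h1] at hkey
    have h2 : h * idx * 2 = h * 2 * (q * (q + 1) * j) := by rw [hkey]; ring
    have h3 : idx = q * (q + 1) * j := by
      have : h * 2 * idx = h * 2 * (q * (q + 1) * j) := by rw [← h2]; ring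
      exact Nat.eq_of_mul_eq_mul_left (by omega) this
    rw [h3]
    have : 2 ∣ q + 1 := by omega
    exact Dvd.dvd.mul_right (Dvd.dvd.mul_left this q) j
  · have h1 : q + 1 = 2 * (h * j) := by omega
    rw [h1] at hkey
    have h2 : h * idx * 2 = h * 2 * (q * (q - 1) * j) := by rw [hkey]; ring
    have h3 : idx = q * (q - 1) * j := by
      have : h * 2 * idx = h * 2 * (q * (q - 1) * j) := by rw [← h2]; ring
      exact Nat.eq_of_mul_eq_mul_left (by omega) this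
    rw [h3]
    have : 2 ∣ q - 1 := by omega
    exact Dvd.dvd.mul_right (Dvd.dvd.mul_left this q) j

theorem arith_dih (q k idx : ℕ) (hqodd : q % 2 = 1) (hq3 : q % 3 ≠ 0) (hk : 0 < k)
    (hkey : (2 * k) * idx * 2 = q * ((q + 1) * (q - 1)))
    (hd : k ∣ (q - 1) / 2 ∨ k ∣ (q + 1) / 2) (h2 : ¬ 2 ∣ idx) (h3 : ¬ 3 ∣ idx) :
    (3 ∣ q - 1 ∧ q % 4 = 1) ∨ (3 ∣ q + 1 ∧ q % 4 = 3) := by
  rcases hd with ⟨j, hj⟩ | ⟨j, hj⟩
  · left
    have h1 : q - 1 = 2 * (k * j) := by omega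
    obtain ⟨B', hB'⟩ : ∃ B', q + 1 = 2 * B' := ⟨(q + 1) / 2, by omega⟩
    rw [h1, hB'] at hkey
    have h4 : idx = q * B' * j := by
      have : (2 * k * 2) * idx = (2 * k * 2) * (q * B' * j) := by
        calc (2 * k * 2) * idx = 2 * k * idx * 2 := by ring
          _ = q * (2 * B' * (2 * (k * j))) := hkey
          _ = (2 * k * 2) * (q * B' * j) := by ring
      exact Nat.eq_of_mul_eq_mul_left (by omega) this
    have h5 : ¬ 2 ∣ B' := fun h => h2 (by rw [h4]; exact Dvd.dvd.mul_right (Dvd.dvd.mul_left h q) j)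
    have h6 : ¬ 3 ∣ B' := fun h => h3 (by rw [h4]; exact Dvd.dvd.mul_right (Dvd.dvd.mul_left h q) j)
    have h7 : q % 3 = 1 := by
      by_contra h
      have h8 : q % 3 = 2 := by omega
      apply h6
      omega
    constructor
    · omega
    · omega
  · right
    have h1 : q + 1 = 2 * (k * j) := by omega
    obtain ⟨A', hA'⟩ : ∃ A', q - 1 = 2 * A' := ⟨(q - 1) / 2, by omega⟩
    rw [h1, hA'] at hkey
    have h4 : idx = q * A' * j := by
      have : (2 * k * 2) * idx = (2 * k * 2) * (q * A' * j) := by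
        calc (2 * k * 2) * idx = 2 * k * idx * 2 := by ring
          _ = q * (2 * (k * j) * (2 * A')) := hkey
          _ = (2 * k * 2) * (q * A' * j) := by ring
      exact Nat.eq_of_mul_eq_mul_left (by omega) this
    have h5 : ¬ 2 ∣ A' := fun h => h2 (by rw [h4]; exact Dvd.dvd.mul_right (Dvd.dvd.mul_left h q) j)
    have h6 : ¬ 3 ∣ A' := fun h => h3 (by rw [h4]; exact Dvd.dvd.mul_right (Dvd.dvd.mul_left h q) j)
    have h7 : q % 3 = 2 := by
      by_contra h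
      have h8 : q % 3 = 1 := by omega
      apply h6
      omega
    constructor
    · omega
    · omega

/-- the `{2,3}`-part of `M` from an equation `c * idx = q * M` with `q`, `idx` prime to `6` -/
theorem arith_val (q M idx a b : ℕ) (hq2 : ¬ 2 ∣ q) (hq3 : ¬ 3 ∣ q) (hM : M ≠ 0)
    (hkey : 2 ^ a * 3 ^ b * idx = q * M) (h2 : ¬ 2 ∣ idx) (h3 : ¬ 3 ∣ idx) :
    M.factorization 2 = a ∧ M.factorization 3 = b := by
  have hc2 : Nat.Coprime (2 ^ a) q :=
    Nat.Coprime.pow_left a ((Nat.Prime.coprime_iff_not_dvd Nat.prime_two).mpr hq2)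
  have hc2' : Nat.Coprime (2 ^ (a + 1)) q :=
    Nat.Coprime.pow_left (a + 1) ((Nat.Prime.coprime_iff_not_dvd Nat.prime_two).mpr hq2)
  have hc3 : Nat.Coprime (3 ^ b) q :=
    Nat.Coprime.pow_left b ((Nat.Prime.coprime_iff_not_dvd Nat.prime_three).mpr hq3)
  have hc3' : Nat.Coprime (3 ^ (b + 1)) q :=
    Nat.Coprime.pow_left (b + 1) ((Nat.Prime.coprime_iff_not_dvd Nat.prime_three).mpr hq3)
  constructor
  · apply le_antisymm
    · by_contra hlt
      push Not at hlt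
      have h4 : 2 ^ (a + 1) ∣ M :=
        (Nat.Prime.pow_dvd_iff_le_factorization Nat.prime_two hM).mpr hlt
      have h5 : 2 ^ (a + 1) ∣ 2 ^ a * 3 ^ b * idx := by rw [hkey]; exact Dvd.dvd.mul_left h4 q
      have h6 : 2 ^ a * 2 ∣ 2 ^ a * (3 ^ b * idx) := by
        rw [← pow_succ, ← mul_assoc]; exact h5
      have h7 : 2 ∣ 3 ^ b * idx := Nat.dvd_of_mul_dvd_mul_left (by positivity) h6
      rcases (Nat.Prime.dvd_mul Nat.prime_two).mp h7 with h8 | h8
      · have := Nat.prime_two.dvd_of_dvd_pow h8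
        omega
      · exact h2 h8
    · apply (Nat.Prime.pow_dvd_iff_le_factorization Nat.prime_two hM).mp
      have h4 : 2 ^ a ∣ q * M := by
        rw [← hkey]; exact Dvd.dvd.mul_right (Dvd.dvd.mul_right (dvd_refl _) _) _
      exact hc2.dvd_of_dvd_mul_left h4
  · apply le_antisymm
    · by_contra hlt
      push Not at hlt
      have h4 : 3 ^ (b + 1) ∣ M :=
        (Nat.Prime.pow_dvd_iff_le_factorization Nat.prime_three hM).mpr hlt
      have h5 : 3 ^ (b + 1) ∣ 2 ^ a * 3 ^ b * idx := by rw [hkey]; exact Dvd.dvd.mul_left h4 q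
      have h6 : 3 ^ b * 3 ∣ 3 ^ b * (2 ^ a * idx) := by
        rw [← pow_succ]
        have : 3 ^ b * (2 ^ a * idx) = 2 ^ a * 3 ^ b * idx := by ring
        rw [this]; exact h5
      have h7 : 3 ∣ 2 ^ a * idx := Nat.dvd_of_mul_dvd_mul_left (by positivity) h6
      rcases (Nat.Prime.dvd_mul Nat.prime_three).mp h7 with h8 | h8
      · have := Nat.prime_three.dvd_of_dvd_pow h8
        omega
      · exact h3 h8
    · apply (Nat.Prime.pow_dvd_iff_le_factorization Nat.prime_three hM).mp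
      have h4 : 3 ^ b ∣ q * M := by
        rw [← hkey]; exact Dvd.dvd.mul_right (Dvd.dvd.mul_left (dvd_refl _) _) _
      exact hc3.dvd_of_dvd_mul_left h4

/-- conversely -/
theorem arith_val' (q M idx a b : ℕ) (hM : M ≠ 0)
    (hkey : 2 ^ a * 3 ^ b * idx = q * M) (ha : M.factorization 2 = a)
    (hb : M.factorization 3 = b) (hq2 : ¬ 2 ∣ q) (hq3 : ¬ 3 ∣ q) : ¬ 2 ∣ idx ∧ ¬ 3 ∣ idx := by
  have hq0 : q ≠ 0 := by rintro rfl; exact hq2 (dvd_zero 2)
  have hqM : q * M ≠ 0 := mul_ne_zero hq0 hM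
  constructor
  · intro h
    have h1 : 2 ^ (a + 1) ∣ q * M := by
      rw [← hkey, pow_succ]
      obtain ⟨j, rfl⟩ := h
      exact ⟨3 ^ b * j, by ring⟩
    have hc2' : Nat.Coprime (2 ^ (a + 1)) q :=
      Nat.Coprime.pow_left (a + 1) ((Nat.Prime.coprime_iff_not_dvd Nat.prime_two).mpr hq2)
    have h2 := hc2'.dvd_of_dvd_mul_left h1
    have := (Nat.Prime.pow_dvd_iff_le_factorization Nat.prime_two hM).mp h2
    omega
  · intro h
    have h1 : 3 ^ (b + 1) ∣ q * M := by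
      rw [← hkey, pow_succ]
      obtain ⟨j, rfl⟩ := h
      exact ⟨2 ^ a * j, by ring⟩
    have hc3' : Nat.Coprime (3 ^ (b + 1)) q :=
      Nat.Coprime.pow_left (b + 1) ((Nat.Prime.coprime_iff_not_dvd Nat.prime_three).mpr hq3)
    have h2 := hc3'.dvd_of_dvd_mul_left h1
    have := (Nat.Prime.pow_dvd_iff_le_factorization Nat.prime_three hM).mp h2
    omega

theorem pow_eq_24 {a b : ℕ} (h : 2 ^ a * 3 ^ b = 24) : a = 3 ∧ b = 1 := by
  have ha : a ≤ 4 := by
    by_contra hlt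
    push Not at hlt
    have h1 : 2 ^ 5 ≤ 2 ^ a := Nat.pow_le_pow_right (by norm_num) hlt
    have h2 : 1 ≤ 3 ^ b := Nat.one_le_pow _ _ (by norm_num)
    nlinarith
  have hb : b ≤ 2 := by
    by_contra hlt
    push Not at hlt
    have h1 : 3 ^ 3 ≤ 3 ^ b := Nat.pow_le_pow_right (by norm_num) hlt
    have h2 : 1 ≤ 2 ^ a := Nat.one_le_pow _ _ (by norm_num)
    nlinarith
  interval_cases a <;> interval_cases b <;> simp_all

theorem pow_eq_48 {a b : ℕ} (h : 2 ^ a * 3 ^ b = 48) : a = 4 ∧ b = 1 := by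
  have ha : a ≤ 5 := by
    by_contra hlt
    push Not at hlt
    have h1 : 2 ^ 6 ≤ 2 ^ a := Nat.pow_le_pow_right (by norm_num) hlt
    have h2 : 1 ≤ 3 ^ b := Nat.one_le_pow _ _ (by norm_num)
    nlinarith
  have hb : b ≤ 3 := by
    by_contra hlt
    push Not at hlt
    have h1 : 3 ^ 4 ≤ 3 ^ b := Nat.pow_le_pow_right (by norm_num) hlt
    have h2 : 1 ≤ 2 ^ a := Nat.one_le_pow _ _ (by norm_num)
    nlinarith
  interval_cases a <;> interval_cases b <;> simp_all

end Cfsg.Agent.Lib.helper6.PSL2Hall
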