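import Mathlib
import Cfsg.Agent.Lib.helper6.PSL2MinA

set_option autoImplicit false

namespace Cfsg.Agent.Lib.helper6.PSL2Min

open MulAction
open scoped commutatorElement
open Cfsg.Agent.Lib.helper6.Dickson Cfsg.Agent.Lib.helper6.PSL2Index
open Cfsg.Agent.Lib.helper6.PSL2Max Cfsg.Agent.Lib.helper6.PSL2Tor

/-- the subfield condition from the order of a distinguished element -/
theorem subfield_dvd {L X : Type*} [Group L] [Finite L] [MulAction L X] {p : ℕ}
    [Fact p.Prime] (D : DAct L X p) {q d f a : ℕ} {r s : X} (hF : Full D q d r s)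
    (hqp : q = p ^ f) (hd : d = Nat.gcd 2 (q - 1)) (ha1 : 1 ≤ a) (hf1 : 1 ≤ f) (h : L)
    (hNh : orderOf h = (p ^ a + 1) / Nat.gcd 2 (p ^ a - 1) ∨ orderOf h = p ^ a + 1) :
    a ∣ f := by
  have hpP : p.Prime := Fact.out
  have hd1 : 1 ≤ d := by rw [hd]; exact Nat.gcd_pos_of_pos_left _ (by norm_num)
  obtain ⟨q₀, hq₀⟩ : ∃ q₀, q₀ = p ^ a := ⟨_, rfl⟩
  have hq₀1 : 1 ≤ q₀ := by rw [hq₀]; exact Nat.one_le_pow a p hpP.pos
  have hpq₀ : p ∣ q₀ := by rw [hq₀]; exact dvd_pow_self p (by omega)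
  have hcopq : ∀ n, n ∣ q₀ + 1 → n.Coprime p := by
    intro n hn
    apply Nat.Coprime.coprime_dvd_left hn
    rw [Nat.coprime_comm, Nat.Prime.coprime_iff_not_dvd hpP]
    intro h1
    have h3 : p ∣ 1 := (Nat.dvd_add_right hpq₀).mp h1
    exact hpP.one_lt.ne' (Nat.dvd_one.mp h3)
  have hNcop : (orderOf h).Coprime p := by
    apply hcopq
    rcases hNh with hh | hh
    · rw [hh, ← hq₀]
      apply Nat.div_dvd_of_dvd
      have e1 : q₀ + 1 = (q₀ - 1) + 2 := by omega
      rw [e1]
      exact dvd_add (Nat.gcd_dvd_right _ _) (Nat.gcd_dvd_left _ _)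
    · rw [hh, ← hq₀]
  apply Cfsg.Agent.Lib.helper3.dk_subfield_dvd p a f (orderOf h) hpP ha1 hf1 hNh
  right
  have := hF.order_dvd hd1 h hNcop
  rw [hd, hqp] at this
  exact this

set_option maxHeartbeats 1600000 in
/-- proper subgroups of `PSL₂(q)` are solvable under the arithmetic conditions of the list of
minimal simple groups -/
theorem solvable_of_proper {F : Type*} [Field F] [Fintype F] (p : ℕ) [Fact p.Prime] [CharP F p]
    {f : ℕ} (hq : Fintype.card F = p ^ f) (h4 : 4 ≤ Fintype.card F)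
    (hdiv : ∀ a, a ∣ f → a = f ∨ (a = 1 ∧ (p = 2 ∨ p = 3)))
    (h5 : ¬ 5 ∣ Fintype.card F * (Fintype.card F ^ 2 - 1) ∨ Fintype.card F = 4 ∨
      Fintype.card F = 5)
    (H : Subgroup (Matrix.ProjectiveSpecialLinearGroup (Fin 2) F)) (hH : H ≠ ⊤) :
    Group.IsSolvable H := by
  classical
  have hpP : p.Prime := Fact.out
  obtain ⟨q, hqdef⟩ : ∃ q, q = Fintype.card F := ⟨_, rfl⟩
  obtain ⟨X, instX, D⟩ := Cfsg.Agent.Lib.helper3.psl2_dact (F := F) p
  obtain ⟨r, s, hFull⟩ := Cfsg.Agent.Lib.helper6.PSL2Struct.psl_full p h4 D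
  have hcard := card_PSL2_mul (F := F)
  rw [← hqdef] at hq h4 h5 hFull hcard
  have hHlt : Nat.card H < Nat.card (Matrix.ProjectiveSpecialLinearGroup (Fin 2) F) := by
    have := (card_lt_of_lt (lt_top_iff_ne_top.mpr hH)).1
    rwa [Subgroup.card_top] at this
  have hHdvd : Nat.card H ∣ Nat.card (Matrix.ProjectiveSpecialLinearGroup (Fin 2) F) :=
    Subgroup.card_subgroup_dvd_card H
  obtain ⟨nL, hnL⟩ : ∃ n, n = Nat.card (Matrix.ProjectiveSpecialLinearGroup (Fin 2) F) :=
    ⟨_, rfl⟩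
  rw [← hnL] at hHlt hHdvd hcard
  have hd12 := gcd_two_cases q (by omega)
  obtain ⟨d, hd⟩ : ∃ d, d = Nat.gcd 2 (q - 1) := ⟨_, rfl⟩
  rw [← hd] at hd12 hcard hFull
  have hd1 : 1 ≤ d := by rcases hd12 with ⟨h1, _⟩ | ⟨h1, _⟩ <;> omega
  have hf1 : 1 ≤ f := by
    rcases Nat.eq_zero_or_pos f with h0 | h0
    · rw [h0, pow_zero] at hq; omega
    · exact h0
  rcases dickson_abstract (Cfsg.Agent.Lib.helper3.dk_restrict D H) with
    h | h | h | h | h | h | h
  · obtain ⟨hcyc, -⟩ := h
    haveI := hcyc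
    exact Group.isSolvable_of_comm (fun a b => comm_of_isCyclic a b)
  · obtain ⟨s₀, ⟨e⟩, -⟩ := h
    exact Meta.isSolvable (Meta.of_equiv e (meta_dihedral _))
  · obtain ⟨r', hfix, -⟩ := h
    apply Meta.isSolvable
    intro a b c d'
    have h1 := D.comm_mem_Q (x := r') (h := (a : Matrix.ProjectiveSpecialLinearGroup (Fin 2) F))
      (k := (b : Matrix.ProjectiveSpecialLinearGroup (Fin 2) F)) (hfix a) (hfix b)
    have h2 := D.comm_mem_Q (x := r') (h := (c : Matrix.ProjectiveSpecialLinearGroup (Fin 2) F))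
      (k := (d' : Matrix.ProjectiveSpecialLinearGroup (Fin 2) F)) (hfix c) (hfix d')
    have h3 := D.Q_comm h1 h2
    apply Subtype.ext
    simp only [commutatorElement_def, Subgroup.coe_mul, Subgroup.coe_inv, Subgroup.coe_one]
    rw [h3]
    group
  · obtain ⟨e⟩ := h
    have hc : Nat.card H = 12 := by
      rw [Nat.card_congr e.toEquiv, nat_card_alternatingGroup, Nat.card_eq_fintype_card,
        Fintype.card_fin]
      rfl
    exact Cfsg.Agent.S0144.result 2 3 2 1 Nat.prime_two Nat.prime_three (by rw [hc]; norm_num)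
  · obtain ⟨e⟩ := h
    have hc : Nat.card H = 24 := by
      rw [Nat.card_congr e.toEquiv, Nat.card_perm, Nat.card_eq_fintype_card, Fintype.card_fin]
      rfl
    exact Cfsg.Agent.S0144.result 2 3 3 1 Nat.prime_two Nat.prime_three (by rw [hc]; norm_num)
  · exfalso
    obtain ⟨e⟩ := h
    have hc : Nat.card H = 60 := by
      rw [Nat.card_congr e.toEquiv, nat_card_alternatingGroup, Nat.card_eq_fintype_card,
        Fintype.card_fin]
      rfl
    rw [hc] at hHlt hHdvd
    rcases h5 with h5 | h5 | h5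
    · apply h5
      rw [← hcard]
      exact Dvd.dvd.mul_right (dvd_trans (by norm_num) hHdvd) d
    · rw [h5] at hcard hd12
      rcases hd12 with ⟨h1, h2⟩ | ⟨h1, h2⟩
      · rw [h1] at hcard; omega
      · omega
    · rw [h5] at hcard hd12
      rcases hd12 with ⟨h1, h2⟩ | ⟨h1, h2⟩
      · omega
      · rw [h1] at hcard; omega
  · obtain ⟨K, instK, instKf, a, h, hK, hrest⟩ := h
    have ha1 : 1 ≤ a := by
      rcases Nat.eq_zero_or_pos a with h0 | h0
      · exfalso
        rw [h0, pow_zero] at hK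
        have := Fintype.one_lt_card (α := K)
        omega
      · exact h0
    have hNh : orderOf (h : Matrix.ProjectiveSpecialLinearGroup (Fin 2) F) =
        (p ^ a + 1) / Nat.gcd 2 (p ^ a - 1) ∨
        orderOf (h : Matrix.ProjectiveSpecialLinearGroup (Fin 2) F) = p ^ a + 1 := by
      rw [Subgroup.orderOf_coe]
      rcases hrest with ⟨_, hh⟩ | ⟨_, hh⟩
      · left; exact hh
      · right; exact hh
    have haf : a ∣ f := subfield_dvd D hFull hq hd ha1 hf1 _ hNh
    rcases hdiv a haf with haf' | ⟨ha, hp23⟩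
    · exfalso
      have hKq : Fintype.card K = q := by rw [hK, hq, haf']
      rcases hrest with ⟨⟨eM⟩, -⟩ | ⟨⟨eM⟩, -⟩
      · have h1 := card_PSL2_mul (F := K)
        rw [← Nat.card_congr eM.toEquiv, hKq, ← hd, ← hcard] at h1
        have := Nat.eq_of_mul_eq_mul_right hd1 h1
        omega
      · have h1 := card_PGL2 (F := K)
        rw [← Nat.card_congr eM.toEquiv, hKq, ← hcard] at h1
        have : nL * 1 ≤ nL * d := Nat.mul_le_mul_left _ hd1
        omega
    · rw [ha, pow_one] at hK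
      rcases hrest with ⟨⟨eM⟩, -⟩ | ⟨⟨eM⟩, -⟩
      · have h1 := card_PSL2_mul (F := K)
        rw [← Nat.card_congr eM.toEquiv, hK] at h1
        rcases hp23 with hp2 | hp3
        · rw [hp2] at h1
          have hg : Nat.gcd 2 (2 - 1) = 1 := by decide
          rw [hg] at h1
          exact Cfsg.Agent.S0144.result 2 3 1 1 Nat.prime_two Nat.prime_three (by omega)
        · rw [hp3] at h1
          have hg : Nat.gcd 2 (3 - 1) = 2 := by decide
          rw [hg] at h1
          exact Cfsg.Agent.S0144.result 2 3 2 1 Nat.prime_two Nat.prime_three (by omega)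
      · have h1 := card_PGL2 (F := K)
        rw [← Nat.card_congr eM.toEquiv, hK] at h1
        rcases hp23 with hp2 | hp3
        · rw [hp2] at h1
          exact Cfsg.Agent.S0144.result 2 3 1 1 Nat.prime_two Nat.prime_three (by omega)
        · rw [hp3] at h1
          exact Cfsg.Agent.S0144.result 2 3 3 1 Nat.prime_two Nat.prime_three (by omega)

end Cfsg.Agent.Lib.helper6.PSL2Min
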