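import Mathlib
import Cfsg.Agent.Lib.helper6.PSL2MinB
import Cfsg.Agent.S0804
import Cfsg.Agent.S0805

set_option autoImplicit false

namespace Cfsg.Agent.Lib.helper6.PSL2Min

open Cfsg.Agent.Lib.helper6.PSL2Index Cfsg.Agent.Lib.helper6.PSL2Max

theorem not_dvd_of_mod {q : ℕ} (h : q % 5 = 2 ∨ q % 5 = 3) : ¬ 5 ∣ q * (q ^ 2 - 1) := by
  intro hd
  have h1 : q ^ 2 % 5 = 4 := by
    rw [Nat.pow_mod]
    rcases h with h | h <;> rw [h]
  have h2 : 1 ≤ q ^ 2 := by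
    have : 1 ≤ q := by omega
    exact Nat.one_le_pow _ _ this
  have h3 : (q ^ 2 - 1) % 5 = 3 := by omega
  have h4 := Nat.mul_mod q (q ^ 2 - 1) 5
  rw [h3] at h4
  have h5 : q * (q ^ 2 - 1) % 5 = 0 := Nat.mod_eq_zero_of_dvd hd
  rcases h with h | h <;> rw [h] at h4 <;> omega

theorem dvd_of_mod {q : ℕ} (h : q % 5 = 1 ∨ q % 5 = 4) : 5 ∣ q * (q ^ 2 - 1) := by
  have h1 : q ^ 2 % 5 = 1 := by
    rw [Nat.pow_mod]
    rcases h with h | h <;> rw [h]
  have h2 : 1 ≤ q ^ 2 := by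
    have : 1 ≤ q := by omega
    exact Nat.one_le_pow _ _ this
  have h3 : 5 ∣ q ^ 2 - 1 := by omega
  exact Dvd.dvd.mul_left h3 q

theorem two_pow_odd_mod (k : ℕ) : 2 ^ (2 * k + 1) % 5 = 2 ∨ 2 ^ (2 * k + 1) % 5 = 3 := by
  induction k with
  | zero => left; norm_num
  | succ k ih =>
    have : 2 ^ (2 * (k + 1) + 1) = 4 * 2 ^ (2 * k + 1) := by ring
    rw [this]
    omega

theorem three_pow_odd_mod (k : ℕ) : 3 ^ (2 * k + 1) % 5 = 2 ∨ 3 ^ (2 * k + 1) % 5 = 3 := by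
  induction k with
  | zero => right; norm_num
  | succ k ih =>
    have : 3 ^ (2 * (k + 1) + 1) = 9 * 3 ^ (2 * k + 1) := by ring
    rw [this]
    omega

variable {F : Type*} [Field F] [Fintype F]

/-- a subgroup isomorphic to `A₅` in a larger `PSL₂(q)` contradicts minimal simplicity -/
theorem a5_contra {q : ℕ} (hF : Fintype.card F = q)
    (hsolv : ∀ H : Subgroup (Matrix.ProjectiveSpecialLinearGroup (Fin 2) F), H ≠ ⊤ →
      Group.IsSolvable H)
    (h5 : 5 ∣ q * (q ^ 2 - 1)) (hbig : 120 < q * (q ^ 2 - 1)) : False := by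
  obtain ⟨H, ⟨e⟩⟩ := (Cfsg.Agent.S0804.result hF).mpr h5
  have hc : Nat.card H = 60 := by
    rw [Nat.card_congr e.toEquiv, nat_card_alternatingGroup, Nat.card_eq_fintype_card,
      Fintype.card_fin]
    rfl
  have hne : H ≠ ⊤ := by
    intro htop
    rw [htop, Subgroup.card_top] at hc
    have hcard := card_PSL2_mul (F := F)
    rw [hF, hc] at hcard
    have hd2 : Nat.gcd 2 (q - 1) ≤ 2 := Nat.le_of_dvd (by norm_num) (Nat.gcd_dvd_left 2 (q - 1))
    have : 60 * Nat.gcd 2 (q - 1) ≤ 60 * 2 := Nat.mul_le_mul_left _ hd2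
    omega
  haveI := hsolv H hne
  exact a5_not_solvable (solvable_of_surjective (f := e.toMonoidHom) e.surjective)

end Cfsg.Agent.Lib.helper6.PSL2Min
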