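import Mathlib
import Cfsg.Agent.Lib.helper7.REE.Defs
import Cfsg.Agent.Lib.Helper26.RSSF1
import Cfsg.Agent.Lib.Helper29.RSST3
import Cfsg.Agent.Lib.Helper21.RSSTPcore
import Cfsg.Agent.Lib.Helper9.RSST2core
import Cfsg.Agent.Lib.Helper28.RSSV2

/-!
# Project RSS (designer helper6): MAIN core = S2361 in the abstract setting `R : ReeAx G K m`,
on the landed RSS rows F1 `rss_fit`, T3 `rss_three`, V2 `rss_four`, the cores TP `rss_p_core`, T2 `rsst2_core`,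
and the STATEMENTS of the REE rows G8B `sylow_cyclic`, G8C `hall_subgroups`, G8I `cyclic_conj`, G5D `NV_basic` (clause 2),
G4I `A1_basic` (clauses 2, 3) as hypotheses.
-/

set_option autoImplicit false

namespace Cfsg.Agent.Lib.helper7.REE

universe u v

namespace ReeAx

variable {G : Type u} [Group G] [Finite G] {K : Type v} [Field K] [Fintype K] {m : ℕ}

/-- MAIN, on the statements of the REE rows that are still in flight -/
theorem rss_main_core (R : ReeAx G K m)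
    (h_sylow_cyclic : ∀ {p : ℕ} [Fact p.Prime] (_ : 3 < p) (P : Sylow p G),
          IsCyclic (P : Subgroup G))
    (h_hall_subgroups : ∀ kn ∈ ({((qq m - 1) / 2, 2 * (qq m - 1)), ((qq m + 1) / 4, 6 * (qq m + 1)),
            (qq m - rr m + 1, 6 * (qq m - rr m + 1)),
            (qq m + rr m + 1, 6 * (qq m + rr m + 1))} : Set (ℕ × ℕ)),
          ∃ A : Subgroup G, IsCyclic A ∧ Nat.card A = kn.1 ∧
            Nat.card (Subgroup.normalizer (A : Set G)) = kn.2 ∧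
            ∀ A₀ : Subgroup G, A₀ ≤ A → A₀ ≠ ⊥ →
              Subgroup.normalizer (A₀ : Set G) = Subgroup.normalizer (A : Set G))
    (h_cyclic_conj : ∀ (d : ℕ)
        (_ : d ∣ (qq m - 1) / 2 ∨ d ∣ (qq m + 1) / 4 ∨ d ∣ qq m - rr m + 1 ∨ d ∣ qq m + rr m + 1)
        (A B : Subgroup G) (_ : IsCyclic A) (_ : IsCyclic B)
        (_ : Nat.card A = d) (_ : Nat.card B = d),
          ∃ g : G, B = A.map (MulAut.conj g).toMonoidHom)
    (hNV : ∀ g ∈ Subgroup.normalizer (R.V : Set G), ∀ a ∈ R.A1, g * a * g⁻¹ ∈ R.A1)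
    (hA1c : IsCyclic R.A1) (hA1card : 4 * Nat.card R.A1 = qq m + 1)
    (S : Subgroup G) (hS : Group.IsSolvable S) :
    ∃ A : Subgroup G, S ≤ Subgroup.normalizer (A : Set G) ∧
      ((∃ P : Sylow 2 G, A = P) ∨ (∃ P : Sylow 3 G, A = P) ∨
       (IsCyclic A ∧ (Nat.card A = (qq m - 1) / 2 ∨ Nat.card A = (qq m + 1) / 4 ∨
          Nat.card A = qq m - rr m + 1 ∨ Nat.card A = qq m + rr m + 1))) := by
  by_cases hne : S = ⊥
  · have hfact : Fact (Nat.Prime 2) := ⟨Nat.prime_two⟩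
    obtain ⟨P⟩ : Nonempty (Sylow 2 G) := inferInstance
    refine ⟨P, ?_, Or.inl ⟨P, rfl⟩⟩
    rw [hne]
    exact bot_le
  · rcases rss_fit S hS hne with ⟨p, hp, hp2, Q, _, hQ, hQp, hn⟩ | ⟨Q, hQS, hQ, hQ2, hn, hc⟩
    · by_cases hp3 : p = 3
      · subst hp3
        obtain ⟨P, hP⟩ := R.rss_three S Q hQ hQp hn
        exact ⟨P, hP, Or.inr (Or.inl ⟨P, rfl⟩)⟩
      · obtain ⟨A, hA, hcyc, hcard⟩ :=
          R.rss_p_core h_sylow_cyclic h_hall_subgroups h_cyclic_conj p hp hp2 hp3 S Q hQ hQp hn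
        exact ⟨A, hA, Or.inr (Or.inr ⟨hcyc, hcard⟩)⟩
    · obtain ⟨A, hA, h | ⟨hcyc, hcard⟩⟩ :=
        R.rsst2_core (fun Q h4 he => R.rss_four Q h4 he) hNV hA1c hA1card S Q hQS hQ hQ2 hn hc
      · exact ⟨A, hA, Or.inl h⟩
      · exact ⟨A, hA, Or.inr (Or.inr ⟨hcyc, Or.inr (Or.inl hcard)⟩)⟩

end ReeAx

end Cfsg.Agent.Lib.helper7.REE
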