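import Mathlib
import Cfsg.Agent.Lib.helper6.RegLinC
import Cfsg.Agent.Lib.helper6.ZPj

set_option autoImplicit false

namespace Cfsg.Agent.Lib.helper6.RegLinN

open Cfsg.Agent.Lib.helper6.RegLin Cfsg.Agent.Lib.helper6.ZP

variable {p : ℕ} [Fact p.Prime] {V : Type*} [AddCommGroup V] [Module (ZMod p) V]
  {H : Subgroup (V ≃ₗ[ZMod p] V)}

/-- the tautological representation -/
def taut (H : Subgroup (V ≃ₗ[ZMod p] V)) : H →* Module.End (ZMod p) V :=
  (LinearEquiv.automorphismGroup.toLinearMapMonoidHom).comp H.subtype

theorem taut_apply (h : H) (v : V) : taut H h v = (h : V ≃ₗ[ZMod p] V) v := rfl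

theorem fpf_taut (hreg : ∀ v w : V, v ≠ 0 → w ≠ 0 → ∃! h : H, (h : V ≃ₗ[ZMod p] V) v = w) :
    FPF (taut H) := by
  intro g hg v hv
  by_contra hv0
  exact hg (eq_one_of_fix hreg hv0 hv)

/-- generalized quaternion groups of order at least 16 do not have class two -/
theorem quat_not_class_two (n : ℕ) (hn : 3 ≤ n)
    (h : ∀ x y w : QuaternionGroup n, (x * y * x⁻¹ * y⁻¹) * w = w * (x * y * x⁻¹ * y⁻¹)) : False := by
  have h1 := h (QuaternionGroup.a 1) (QuaternionGroup.xa 0) (QuaternionGroup.xa 0)
  have e : (QuaternionGroup.a 1 : QuaternionGroup n) * QuaternionGroup.xa 0 =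
      QuaternionGroup.a 2 * (QuaternionGroup.xa 0 * QuaternionGroup.a 1) := by
    rw [QuaternionGroup.xa_mul_a, QuaternionGroup.a_mul_xa, QuaternionGroup.a_mul_xa]
    congr 1
    ring
  have e2 : (QuaternionGroup.a 1 : QuaternionGroup n) * QuaternionGroup.xa 0 *
      (QuaternionGroup.a 1)⁻¹ * (QuaternionGroup.xa 0)⁻¹ = QuaternionGroup.a 2 := by
    rw [e]; group
  rw [e2, QuaternionGroup.a_mul_xa, QuaternionGroup.xa_mul_a] at h1
  have h2 : (0 - 2 : ZMod (2 * n)) = 0 + 2 := QuaternionGroup.xa.inj h1
  have h3 : ((4 : ℕ) : ZMod (2 * n)) = 0 := by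
    have : (4 : ZMod (2 * n)) = (0 + 2) - (0 - 2) := by ring
    push_cast
    rw [this, ← h2, sub_self]
  have h4 := (ZMod.natCast_eq_zero_iff 4 (2 * n)).mp h3
  have := Nat.le_of_dvd (by norm_num) h4
  omega

set_option maxHeartbeats 1600000 in
theorem main686 [Finite V]
    (hreg : ∀ v w : V, v ≠ 0 → w ≠ 0 → ∃! h : H, (h : V ≃ₗ[ZMod p] V) v = w)
    (A : Subgroup H) (hAn : A.Normal) (hAc : IsMulCommutative A)
    (hAmax : ∀ B : Subgroup H, B.Normal → IsMulCommutative B → A ≤ B → B = A)
    (N : Subgroup H) (hNn : N.Normal) (hNle : N ≤ Subgroup.centralizer (A : Set H))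
    (hNna : ¬ IsMulCommutative N)
    (hNmin : ∀ M : Subgroup H, M.Normal → M ≤ N → ¬ IsMulCommutative M → M = N) :
    Nonempty (N ≃* QuaternionGroup 2) ∨
      Nonempty (N ≃* Matrix.SpecialLinearGroup (Fin 2) (ZMod 5)) := by
  classical
  haveI : Nontrivial V := by
    by_contra hV
    rw [not_nontrivial_iff_subsingleton] at hV
    apply hNna
    refine ⟨⟨fun a b => ?_⟩⟩
    apply Subtype.ext
    apply Subtype.ext
    ext v
    exact Subsingleton.elim _ _
  have hF : FPF (taut H) := fpf_taut hreg
  have hFN : FPF ((taut H).comp N.subtype) := hF.comp_subtype N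
  haveI : Nontrivial N := by
    by_contra hN
    rw [not_nontrivial_iff_subsingleton] at hN
    apply hNna
    exact ⟨⟨fun a b => Subsingleton.elim _ _⟩⟩
  have hAc' : ∀ a ∈ A, ∀ b ∈ A, a * b = b * a := fun a ha b hb =>
    congrArg Subtype.val (hAc.1.1 ⟨a, ha⟩ ⟨b, hb⟩)
  have hAN : ∀ a ∈ A, ∀ n ∈ N, a * n = n * a := by
    intro a ha n hn
    have := hNle hn
    rw [Subgroup.mem_centralizer_iff] at this
    exact this a ha
  haveI := hNn
  haveI := hAn
  by_cases hD : IsMulCommutative (⁅N, N⁆ : Subgroup H)
  · -- nilpotent case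
    left
    have hDc : ∀ a ∈ (⁅N, N⁆ : Subgroup H), ∀ b ∈ (⁅N, N⁆ : Subgroup H), a * b = b * a :=
      fun a ha b hb => congrArg Subtype.val (hD.1.1 ⟨a, ha⟩ ⟨b, hb⟩)
    have hDN : (⁅N, N⁆ : Subgroup H) ≤ N := Subgroup.commutator_le_left N N
    have hDA : (⁅N, N⁆ : Subgroup H) ≤ A := by
      have hB : A ⊔ ⁅N, N⁆ = A := by
        apply hAmax _ inferInstance _ le_sup_left
        refine ⟨⟨fun x y => ?_⟩⟩
        apply Subtype.ext
        show (x : H) * y = y * x
        have key : ∀ u ∈ A ⊔ (⁅N, N⁆ : Subgroup H), ∀ v ∈ A ⊔ (⁅N, N⁆ : Subgroup H),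
            u * v = v * u := by
          intro u hu v hv
          rw [Subgroup.sup_eq_closure] at hu hv
          have hgen : ∀ s ∈ ((A : Set H) ∪ (⁅N, N⁆ : Subgroup H)),
              ∀ t ∈ ((A : Set H) ∪ (⁅N, N⁆ : Subgroup H)), s * t = t * s := by
            rintro s (hs | hs) t (ht | ht)
            · exact hAc' s hs t ht
            · exact hAN s hs t (hDN ht)
            · exact (hAN t ht s (hDN hs)).symm
            · exact hDc s hs t ht
          have h1 : Subgroup.closure ((A : Set H) ∪ (⁅N, N⁆ : Subgroup H)) ≤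
              Subgroup.centralizer (Subgroup.closure ((A : Set H) ∪ (⁅N, N⁆ : Subgroup H)) : Set H) := by
            rw [Subgroup.closure_le]
            intro s hs
            show s ∈ Subgroup.centralizer _
            rw [Subgroup.mem_centralizer_iff]
            intro t ht
            -- t in closure, s generator: t * s = s * t
            have h2 : Subgroup.closure ((A : Set H) ∪ (⁅N, N⁆ : Subgroup H)) ≤
                Subgroup.centralizer ({s} : Set H) := by
              rw [Subgroup.closure_le]
              intro t' ht'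
              show t' ∈ Subgroup.centralizer _
              rw [Subgroup.mem_centralizer_iff]
              intro s' hs'
              rw [Set.mem_singleton_iff] at hs'
              rw [hs']
              exact hgen s hs t' ht'
            have := h2 ht
            rw [Subgroup.mem_centralizer_iff] at this
            exact (this s rfl).symm
          have := h1 hu
          rw [Subgroup.mem_centralizer_iff] at this
          exact (this v hv).symm
        exact key x x.2 y y.2
      rw [← hB]
      exact le_sup_right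
    -- commutators of N are central in N
    have hcent : ∀ x y w : N, (x * y * x⁻¹ * y⁻¹) * w = w * (x * y * x⁻¹ * y⁻¹) := by
      intro x y w
      apply Subtype.ext
      have hmem : (x : H) * y * (x : H)⁻¹ * (y : H)⁻¹ ∈ (⁅N, N⁆ : Subgroup H) :=
        Subgroup.commutator_mem_commutator x.2 y.2
      exact hAN _ (hDA hmem) w w.2
    -- N is nilpotent
    haveI hnil : Group.IsNilpotent N := by
      apply Group.of_quotient_center_nilpotent
      have hcomm : ∀ a b : N ⧸ Subgroup.center N, a * b = b * a := by
        intro a b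
        obtain ⟨a, rfl⟩ := QuotientGroup.mk_surjective a
        obtain ⟨b, rfl⟩ := QuotientGroup.mk_surjective b
        rw [← QuotientGroup.mk_mul, ← QuotientGroup.mk_mul, QuotientGroup.eq]
        rw [Subgroup.mem_center_iff]
        intro w
        have := hcent b⁻¹ a⁻¹ w
        have e : (a * b)⁻¹ * (b * a) = b⁻¹ * a⁻¹ * b⁻¹⁻¹ * a⁻¹⁻¹ := by group
        rw [e]
        exact this.symm
      letI : CommGroup (N ⧸ Subgroup.center N) := { (inferInstance : Group _) with mul_comm := hcomm }
      infer_instance
    -- some Sylow subgroup is non-commutative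
    have hex : ∃ (q : ℕ) (_ : Fact q.Prime) (P : Sylow q N), ¬ IsMulCommutative (P : Subgroup N) := by
      by_contra hcon
      push Not at hcon
      obtain ⟨e⟩ := (Group.isNilpotent_of_finite_tfae (G := N)).out 0 4 |>.mp hnil
      apply hNna
      refine ⟨⟨fun a b => ?_⟩⟩
      apply e.symm.injective
      rw [map_mul, map_mul]
      funext q P
      have hq : Fact (q : ℕ).Prime := ⟨Nat.prime_of_mem_primeFactors q.2⟩
      have := (hcon q hq P).1.1 ((e.symm a) q P) ((e.symm b) q P)
      exact this
    obtain ⟨q, hq, P, hP⟩ := hex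
    haveI : (P : Subgroup N).Normal := inferInstance
    haveI : (P : Subgroup N).Characteristic := Sylow.characteristic_of_normal P inferInstance
    have hPn : ((P : Subgroup N).map N.subtype).Normal := inferInstance
    have hPle : (P : Subgroup N).map N.subtype ≤ N := by
      rintro _ ⟨x, -, rfl⟩
      exact x.2
    have hPnc : ¬ IsMulCommutative ((P : Subgroup N).map N.subtype) := by
      intro hc
      apply hP
      refine ⟨⟨fun a b => ?_⟩⟩
      apply Subtype.ext
      apply Subtype.ext
      have := hc.1.1 ⟨(a : N), Subgroup.mem_map_of_mem _ a.2⟩ ⟨(b : N), Subgroup.mem_map_of_mem _ b.2⟩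
      show ((a : N) : H) * ((b : N) : H) = ((b : N) : H) * ((a : N) : H)
      exact congrArg Subtype.val this
    have hPN := hNmin _ hPn hPle hPnc
    have hPtop : (P : Subgroup N) = ⊤ := by
      rw [eq_top_iff]
      intro x _
      have : (x : H) ∈ (P : Subgroup N).map N.subtype := by rw [hPN]; exact x.2
      obtain ⟨y, hy, hyx⟩ := this
      have : y = x := Subtype.ext hyx
      rwa [← this]
    have hNq : IsPGroup q N := by
      intro x
      obtain ⟨k, hk⟩ := P.2 ⟨x, by rw [hPtop]; exact Subgroup.mem_top x⟩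
      exact ⟨k, by
        have := congrArg Subtype.val hk
        simpa using this⟩
    have hNq' : IsPGroup q (⊤ : Subgroup N) := hNq.to_subgroup _
    rcases hFN.pgroup_structure (⊤ : Subgroup N) hNq' with h1 | ⟨-, n, ⟨e⟩⟩
    · exfalso
      apply hNna
      refine ⟨⟨fun a b => ?_⟩⟩
      haveI := h1
      have := cyc_comm (⟨a, Subgroup.mem_top a⟩ : (⊤ : Subgroup N)) ⟨b, Subgroup.mem_top b⟩
      exact congrArg Subtype.val this
    · let e' : N ≃* QuaternionGroup (2 ^ n) := Subgroup.topEquiv.symm.trans e
      have hcentQ : ∀ x y w : QuaternionGroup (2 ^ n),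
          (x * y * x⁻¹ * y⁻¹) * w = w * (x * y * x⁻¹ * y⁻¹) := by
        intro x y w
        have := hcent (e'.symm x) (e'.symm y) (e'.symm w)
        have h2 := congrArg e' this
        simpa using h2
      rcases Nat.lt_or_ge n 2 with hn | hn
      · interval_cases n
        · exfalso
          apply hNna
          haveI : IsCyclic (QuaternionGroup (2 ^ 0)) := QuaternionGroup.quaternionGroup_one_isCyclic
          refine ⟨⟨fun a b => ?_⟩⟩
          apply e'.injective
          rw [map_mul, map_mul]
          exact cyc_comm _ _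
        · exact ⟨e'⟩
      · exfalso
        have h4 : 3 ≤ 2 ^ n := by
          calc 3 ≤ 2 ^ 2 := by norm_num
            _ ≤ 2 ^ n := Nat.pow_le_pow_right (by norm_num) hn
        exact quat_not_class_two _ h4 hcentQ
  · -- perfect case
    right
    have hDn : (⁅N, N⁆ : Subgroup H).Normal := inferInstance
    have hDN : (⁅N, N⁆ : Subgroup H) ≤ N := Subgroup.commutator_le_left N N
    have hDeq := hNmin _ hDn hDN hD
    have hperf : commutator N = ⊤ := by
      rw [eq_top_iff]
      intro x _
      have hx : (x : H) ∈ (⁅N, N⁆ : Subgroup H) := by rw [hDeq]; exact x.2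
      -- transfer commutator membership
      have hmap : (⁅N, N⁆ : Subgroup H) = (commutator N).map N.subtype := by
        rw [commutator_def, Subgroup.map_commutator, ← MonoidHom.range_eq_map, Subgroup.range_subtype]
      rw [hmap] at hx
      obtain ⟨y, hy, hyx⟩ := hx
      have : y = x := Subtype.ext hyx
      rwa [← this]
    exact hFN.perfect_iso hperf

end Cfsg.Agent.Lib.helper6.RegLinN
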