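import Mathlib

set_option autoImplicit false

namespace Cfsg.Agent.Lib.helper6.ZP

/-- splitting a quaternion module over a field in which `-1` is a sum of two squares:
the `+1`-eigenspace of a suitable involution in the quaternion algebra has half the dimension,
and is invariant under everything commuting with the quaternion units -/
theorem split_half {K : Type*} [Field K] {V : Type*} [AddCommGroup V] [Module K V]
    [FiniteDimensional K V] (h2 : (2 : K) ≠ 0)
    (I J : Module.End K V) (hI : I * I = -1) (hJ : J * J = -1) (hJI : J * I = -(I * J))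
    (x y : K) (hxy : x ^ 2 + y ^ 2 = -1) :
    ∃ U : Submodule K V, Module.finrank K V = 2 * Module.finrank K U ∧
      ∀ T : Module.End K V, T * I = I * T → T * J = J * T → ∀ v ∈ U, T v ∈ U := by
  obtain ⟨w, hw⟩ : ∃ w : Module.End K V, w = x • I + y • (I * J) := ⟨_, rfl⟩
  have h1 : I * (I * J) = -J := by rw [← mul_assoc, hI, neg_mul, one_mul]
  have h2' : (I * J) * I = J := by
    rw [mul_assoc, hJI, mul_neg, ← mul_assoc, hI, neg_mul, one_mul, neg_neg]
  have h3 : (I * J) * (I * J) = -1 := by
    rw [mul_assoc, ← mul_assoc J I J, hJI, neg_mul, mul_neg, mul_assoc I J J, hJ, mul_neg, mul_one,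
      mul_neg, hI, neg_neg]
  have h4 : J * (I * J) = I := by
    rw [← mul_assoc, hJI, neg_mul, mul_assoc, hJ, mul_neg, mul_one, neg_neg]
  have h5 : (I * J) * J = -I := by rw [mul_assoc, hJ, mul_neg, mul_one]
  have hsq : (x * x) • (1 : Module.End K V) + (y * y) • (1 : Module.End K V) = -1 := by
    rw [← add_smul, ← pow_two, ← pow_two, hxy, neg_smul, one_smul]
  have hww : w * w = 1 := by
    rw [hw, add_mul, mul_add, mul_add, smul_mul_smul_comm, smul_mul_smul_comm, smul_mul_smul_comm,
      smul_mul_smul_comm, hI, h1, h2', h3, mul_comm y x]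
    have e : (x * x) • (-1 : Module.End K V) + (x * y) • (-J) + ((x * y) • J + (y * y) • (-1)) =
        -((x * x) • (1 : Module.End K V) + (y * y) • (1 : Module.End K V)) := by
      simp only [smul_neg]; abel
    rw [e, hsq, neg_neg]
  have hJw : J * w = -(w * J) := by
    rw [hw, mul_add, add_mul, mul_smul_comm, mul_smul_comm, smul_mul_assoc, smul_mul_assoc, hJI, h4,
      h5]
    simp only [smul_neg]; abel
  obtain ⟨U, hU⟩ : ∃ U : Submodule K V, U = LinearMap.ker (w - 1) := ⟨_, rfl⟩
  obtain ⟨U', hU'⟩ : ∃ U' : Submodule K V, U' = LinearMap.ker (w + 1) := ⟨_, rfl⟩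
  have memU : ∀ v, v ∈ U ↔ w v = v := by
    intro v
    rw [hU, LinearMap.mem_ker, LinearMap.sub_apply, Module.End.one_apply, sub_eq_zero]
  have memU' : ∀ v, v ∈ U' ↔ w v = -v := by
    intro v
    rw [hU', LinearMap.mem_ker, LinearMap.add_apply, Module.End.one_apply, add_eq_zero_iff_eq_neg]
  have hwwv : ∀ v, w (w v) = v := by
    intro v
    have := congrArg (fun f : Module.End K V => f v) hww
    simpa using this
  have hJwv : ∀ v, J (w v) = -(w (J v)) := by
    intro v
    have := congrArg (fun f : Module.End K V => f v) hJw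
    simpa using this
  have hJJv : ∀ v, J (J v) = -v := by
    intro v
    have := congrArg (fun f : Module.End K V => f v) hJ
    simpa using this
  have Jinj : Function.Injective J := by
    intro a b hab
    have := congrArg J hab
    rw [hJJv, hJJv] at this
    exact neg_injective this
  have hmap1 : U.map J ≤ U' := by
    rintro _ ⟨v, hv, rfl⟩
    have hv' := (memU v).mp hv
    rw [memU']
    have := hJwv v
    rw [hv'] at this
    exact neg_eq_iff_eq_neg.mp this.symm
  have hmap2 : U'.map J ≤ U := by
    rintro _ ⟨v, hv, rfl⟩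
    have hv' := (memU' v).mp hv
    rw [memU]
    have := hJwv v
    rw [hv', map_neg, neg_inj] at this
    exact this.symm
  have hr1 : Module.finrank K U ≤ Module.finrank K U' := by
    rw [LinearEquiv.finrank_eq (Submodule.equivMapOfInjective J Jinj U)]
    exact Submodule.finrank_mono hmap1
  have hr2 : Module.finrank K U' ≤ Module.finrank K U := by
    rw [LinearEquiv.finrank_eq (Submodule.equivMapOfInjective J Jinj U')]
    exact Submodule.finrank_mono hmap2
  have hinf : U ⊓ U' = ⊥ := by
    rw [eq_bot_iff]
    rintro v ⟨hv1, hv2⟩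
    rw [Submodule.mem_bot]
    have e1 := (memU v).mp hv1
    have e2 := (memU' v).mp hv2
    rw [e1] at e2
    have h2v : (2 : K) • v = 0 := by
      rw [two_smul]
      nth_rewrite 1 [e2]
      exact neg_add_cancel v
    rcases smul_eq_zero.mp h2v with h | h
    · exact absurd h h2
    · exact h
  have hsup : U ⊔ U' = ⊤ := by
    rw [eq_top_iff]
    intro v _
    have e : v = (2 : K)⁻¹ • (v + w v) + (2 : K)⁻¹ • (v - w v) := by
      rw [← smul_add]
      have : v + w v + (v - w v) = (2 : K) • v := by rw [two_smul]; abel
      rw [this, smul_smul, inv_mul_cancel₀ h2, one_smul]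
    rw [e]
    apply Submodule.add_mem_sup
    · apply U.smul_mem
      rw [memU, map_add, hwwv]; abel
    · apply U'.smul_mem
      rw [memU', map_sub, hwwv]; abel
  have hdim := Submodule.finrank_sup_add_finrank_inf_eq U U'
  rw [hsup, hinf, finrank_top, finrank_bot] at hdim
  refine ⟨U, by omega, ?_⟩
  intro T hTI hTJ v hv
  have hTw : T * w = w * T := by
    rw [hw, mul_add, add_mul, mul_smul_comm, mul_smul_comm, smul_mul_assoc, smul_mul_assoc,
      ← mul_assoc, hTI, mul_assoc, hTJ, ← mul_assoc]
  have hv' := (memU v).mp hv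
  rw [memU]
  have := congrArg (fun f : Module.End K V => f v) hTw
  simp only [Module.End.mul_apply] at this
  rw [← this, hv']

end Cfsg.Agent.Lib.helper6.ZP
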