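import Mathlib

set_option autoImplicit false

namespace Cfsg.Agent.Lib.helper6.ZP

theorem not_prime_pow_119 (p d : ℕ) (hp : p.Prime) (h : p ^ d = 119) : False := by
  have h7 : 7 ∣ p ^ d := by rw [h]; norm_num
  have h17 : 17 ∣ p ^ d := by rw [h]; norm_num
  have e7 := (Nat.prime_dvd_prime_iff_eq (by norm_num : Nat.Prime 7) hp).mp
    ((by norm_num : Nat.Prime 7).dvd_of_dvd_pow h7)
  have e17 := (Nat.prime_dvd_prime_iff_eq (by norm_num : Nat.Prime 17) hp).mp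
    ((by norm_num : Nat.Prime 17).dvd_of_dvd_pow h17)
  omega

set_option maxHeartbeats 1000000 in
/-- the arithmetic of the insoluble sharply doubly transitive groups -/
theorem arith689 (p d m ε : ℕ) (hp : p.Prime) (hm : 0 < m) (hcop : m.Coprime 30)
    (hε : ε = 1 ∨ ε = 2) (hdvd : 2 * m ∣ p ^ d - 1)
    (hH : (p ^ d) ^ 2 - 1 = 2 * m * (60 * ε)) :
    ε = 1 ∧ ((p ^ d = 11 ∧ m = 1) ∨ (p ^ d = 29 ∧ m = 7) ∨ (p ^ d = 59 ∧ m = 29)) := by
  have h119 := not_prime_pow_119 p d hp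
  obtain ⟨u, hu⟩ : ∃ u, u = p ^ d := ⟨_, rfl⟩
  rw [← hu] at hdvd hH h119 ⊢
  have hupos : 0 < u := by rw [hu]; exact Nat.pow_pos hp.pos
  obtain ⟨k, hk⟩ := hdvd
  have hu' : u = 2 * m * k + 1 := by omega
  have e1 : u ^ 2 - 1 = 2 * m * (k * (u + 1)) := by
    apply Nat.sub_eq_of_eq_add
    rw [hu']; ring
  rw [e1] at hH
  have hk60 : k * (u + 1) = 60 * ε := Nat.eq_of_mul_eq_mul_left (by omega : 0 < 2 * m) hH
  have hdiv : u + 1 ∣ 120 := by
    rcases hε with rfl | rfl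
    · exact dvd_trans ⟨k, by rw [← hk60]; ring⟩ (by norm_num : 60 * 1 ∣ 120)
    · exact ⟨k, by rw [mul_comm, hk60]⟩
  have hmem : u + 1 ∈ Nat.divisors 120 := Nat.mem_divisors.mpr ⟨hdiv, by norm_num⟩
  have hd : Nat.divisors 120 = {1, 2, 3, 4, 5, 6, 8, 10, 12, 15, 20, 24, 30, 40, 60, 120} := by
    decide
  rw [hd] at hmem
  simp only [Finset.mem_insert, Finset.mem_singleton] at hmem
  have hH2 : u ^ 2 - 1 = 2 * m * (60 * ε) := by rw [e1, hk60]
  have hm3 : m ≠ 3 := by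
    rintro rfl; revert hcop; decide
  have hm118 : m ≠ 118 := by
    rintro rfl; revert hcop; decide
  have hu119 : u ≠ 119 := fun h => h119 h
  rcases hmem with h | h | h | h | h | h | h | h | h | h | h | h | h | h | h | h <;>
    (have h' := Nat.eq_sub_of_add_eq h; subst h') <;> rcases hε with rfl | rfl <;>
    omega

end Cfsg.Agent.Lib.helper6.ZP
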