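import Mathlib
import Cfsg.Agent.Lib.helper6.ZPk5
import Cfsg.Agent.Lib.helper6.ZPl
import Cfsg.Agent.Lib.helper6.ZPl2
import Cfsg.Agent.Lib.helper6.RegLinN

set_option autoImplicit false

namespace Cfsg.Agent.Lib.helper6.ZP

open Cfsg.Agent.Lib.helper6.RegLin Cfsg.Agent.Lib.helper6.RegLinN Cfsg.Agent.Lib.helper6.RegLinC

/-- internal direct product -/
theorem exists_prod_equiv {G : Type*} [Group G] [Finite G] (S M : Subgroup G)
    (hcomm : ∀ s ∈ S, ∀ x ∈ M, s * x = x * s) (hinf : S ⊓ M = ⊥)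
    (hcard : Nat.card S * Nat.card M = Nat.card G) : Nonempty (S × M ≃* G) := by
  have comm : ∀ (s : S) (x : M), Commute (S.subtype s) (M.subtype x) :=
    fun s x => hcomm s s.2 x x.2
  have hinj : Function.Injective (MonoidHom.noncommCoprod S.subtype M.subtype comm) := by
    rw [MonoidHom.noncommCoprod_injective]
    refine ⟨S.subtype_injective, M.subtype_injective, ?_⟩
    rw [Subgroup.range_subtype, Subgroup.range_subtype, disjoint_iff, hinf]
  have hbij : Function.Bijective (MonoidHom.noncommCoprod S.subtype M.subtype comm) := by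
    rw [Nat.bijective_iff_injective_and_card]
    exact ⟨hinj, by rw [Nat.card_prod, hcard]⟩
  exact ⟨MulEquiv.ofBijective _ hbij⟩

set_option maxHeartbeats 1000000 in
theorem main689 {p : ℕ} [Fact p.Prime] {V : Type*} [AddCommGroup V] [Module (ZMod p) V] [Finite V]
    (H : Subgroup (V ≃ₗ[ZMod p] V))
    (hreg : ∀ v w : V, v ≠ 0 → w ≠ 0 → ∃! h : H, (h : V ≃ₗ[ZMod p] V) v = w)
    (hsolv : ¬ Group.IsSolvable H) :
    (Nat.card V = 121 ∧ Nonempty (H ≃* Matrix.SpecialLinearGroup (Fin 2) (ZMod 5))) ∨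
    (Nat.card V = 841 ∧
      Nonempty (H ≃* Matrix.SpecialLinearGroup (Fin 2) (ZMod 5) × Multiplicative (ZMod 7))) ∨
    (Nat.card V = 3481 ∧
      Nonempty (H ≃* Matrix.SpecialLinearGroup (Fin 2) (ZMod 5) × Multiplicative (ZMod 29))) := by
  classical
  haveI : Nontrivial V := by
    by_contra hV
    rw [not_nontrivial_iff_subsingleton] at hV
    apply hsolv
    apply Group.isSolvable_of_comm
    intro a b
    apply Subtype.ext
    ext v
    exact Subsingleton.elim _ _
  obtain ⟨v0, hv0⟩ := exists_ne (0 : V)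
  have hF : FPF (taut H) := fpf_taut hreg
  obtain ⟨S, M, z, c, hMle, hCcard, hcop, hinf, -, -⟩ := hF.nonsolvable_structure hsolv
  obtain ⟨i, j, a, hT⟩ := c.ctx.exists_typeA
  have hz : taut H z = -1 := hF.eq_neg_one c.hz1 c.hz2
  have h2 : (2 : ZMod p) ≠ 0 := hF.two_ne_zero c.hz1 c.hz2
  have hp2 : p ≠ 2 := by
    intro hp2
    apply h2
    have : ((2 : ℕ) : ZMod p) = 0 := by
      rw [ZMod.natCast_eq_zero_iff]
      exact hp2 ▸ dvd_refl p
    exact_mod_cast this
  obtain ⟨x, y, hxy⟩ := exists_sq_add_sq (E := ZMod p)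
    (by rw [ZMod.ringChar_zmod_n]; exact hp2) (-1)
  have hI : taut H i * taut H i = -1 := by
    rw [← map_mul, ← hz]
    congr 1
    exact congrArg Subtype.val hT.hi
  have hJ : taut H j * taut H j = -1 := by
    rw [← map_mul, ← hz]
    congr 1
    exact congrArg Subtype.val hT.hj
  have hJI : taut H j * taut H i = -(taut H i * taut H j) := by
    rw [← map_mul, ← map_mul]
    have e : (j : H) * (i : H) = z * ((i : H) * (j : H)) := congrArg Subtype.val hT.hji
    rw [e, map_mul, hz, neg_one_mul]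
  obtain ⟨U, hdim, hUinv⟩ := split_half h2 (taut H i) (taut H j) hI hJ hJI x y hxy
  obtain ⟨C, hC⟩ : ∃ C : Subgroup H, C = Subgroup.centralizer (S : Set H) := ⟨_, rfl⟩
  rw [← hC] at hCcard
  have hinvC : Inv C U := by
    intro g hg v hv
    rw [hC, Subgroup.mem_centralizer_iff] at hg
    have := hUinv (taut H g) ?_ ?_ v hv
    · exact this
    · rw [← map_mul, ← map_mul, hg (i : H) i.2]
    · rw [← map_mul, ← map_mul, hg (j : H) j.2]
  have hdvd := card_dvd hreg C U hinvC
  have hH := card_regular hreg hv0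
  have hidx := c.index_centralizer
  rw [← hC] at hidx
  have hmul := C.card_mul_index
  have hMpos : 0 < Nat.card M := Nat.card_pos
  obtain ⟨d, hd⟩ : ∃ d, d = Module.finrank (ZMod p) U := ⟨_, rfl⟩
  rw [← hd] at hdvd hdim
  rw [hCcard] at hdvd hmul
  have hpow : p ^ Module.finrank (ZMod p) V = (p ^ d) ^ 2 := by
    rw [hdim, ← pow_mul, mul_comm]
  rw [hpow] at hH
  have hVcard : Nat.card V = (p ^ d) ^ 2 := by
    rw [Module.natCard_eq_pow_finrank (K := ZMod p), Nat.card_zmod, hpow]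
  obtain ⟨ε, hε, hεidx⟩ : ∃ ε, (ε = 1 ∨ ε = 2) ∧ C.index = 60 * ε := by
    rcases hidx with h | h
    · exact ⟨1, Or.inl rfl, by rw [h]⟩
    · exact ⟨2, Or.inr rfl, by rw [h]⟩
  rw [hεidx] at hmul
  have hH2 : (p ^ d) ^ 2 - 1 = 2 * Nat.card M * (60 * ε) := by rw [← hH, hmul]
  obtain ⟨rfl, hcases⟩ := arith689 p d (Nat.card M) ε (Fact.out) hMpos hcop hε hdvd hH2
  have hcardH : Nat.card S * Nat.card M = Nat.card H := by
    rw [c.card_S, ← hmul]; ring
  obtain ⟨e⟩ := exists_prod_equiv S M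
    (fun s hs x hx => (Subgroup.mem_centralizer_iff.mp (hMle hx)) s hs) hinf hcardH
  obtain ⟨eS⟩ := c.iso_S
  rcases hcases with ⟨hu, hm⟩ | ⟨hu, hm⟩ | ⟨hu, hm⟩
  · left
    refine ⟨by rw [hVcard, hu]; norm_num, ?_⟩
    haveI : Unique M := by
      have := Nat.card_eq_one_iff_unique.mp hm
      haveI := this.1
      exact uniqueOfSubsingleton 1
    exact ⟨(e.symm.trans MulEquiv.prodUnique).trans eS⟩
  · right; left
    refine ⟨by rw [hVcard, hu]; norm_num, ?_⟩
    haveI : Fact (Nat.Prime 7) := ⟨by norm_num⟩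
    have eM : M ≃* Multiplicative (ZMod 7) := mulEquivOfPrimeCardEq (p := 7) hm (by
      rw [Nat.card_congr Multiplicative.toAdd, Nat.card_zmod])
    exact ⟨e.symm.trans (MulEquiv.prodCongr eS eM)⟩
  · right; right
    refine ⟨by rw [hVcard, hu]; norm_num, ?_⟩
    haveI : Fact (Nat.Prime 29) := ⟨by norm_num⟩
    have eM : M ≃* Multiplicative (ZMod 29) := mulEquivOfPrimeCardEq (p := 29) hm (by
      rw [Nat.card_congr Multiplicative.toAdd, Nat.card_zmod])
    exact ⟨e.symm.trans (MulEquiv.prodCongr eS eM)⟩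

end Cfsg.Agent.Lib.helper6.ZP
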