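import Mathlib
import Cfsg.Agent.Lib.helper6.ZPl3
import Cfsg.Agent.S0686
import Cfsg.Agent.S0688

set_option autoImplicit false

namespace Cfsg.Agent.Lib.helper6.RegLinI

open Cfsg.Agent.Lib.helper6.RegLin Cfsg.Agent.Lib.helper6.RegLinN Cfsg.Agent.Lib.helper6.RegLinC
  Cfsg.Agent.Lib.helper6.ZP

theorem finrank_two_of_card {p : ℕ} [Fact p.Prime] {V : Type*} [AddCommGroup V]
    [Module (ZMod p) V] [Finite V] (q : ℕ) (hq : q.Prime) (h : Nat.card V = q ^ 2) :
    Module.finrank (ZMod p) V = 2 := by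
  have hp : p.Prime := Fact.out
  rw [Module.natCard_eq_pow_finrank (K := ZMod p), Nat.card_zmod] at h
  obtain ⟨n, hn⟩ : ∃ n, n = Module.finrank (ZMod p) V := ⟨_, rfl⟩
  rw [← hn] at h ⊢
  have hn0 : n ≠ 0 := by
    rintro rfl
    rw [pow_zero] at h
    have := hq.one_lt
    nlinarith
  have hpq : p ∣ q ^ 2 := by
    rw [← h]; exact dvd_pow_self p hn0
  have hpq' : p = q := (Nat.prime_dvd_prime_iff_eq hp hq).mp (hp.dvd_of_dvd_pow hpq)
  rw [← hpq'] at h
  exact Nat.pow_right_injective hp.two_le h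

/-- quaternion units in `Q₈` -/
theorem quat_units_Q8 : ∃ i j z : QuaternionGroup 2, z ≠ 1 ∧ z ^ 2 = 1 ∧ i * i = z ∧ j * j = z ∧
    j * i = z * (i * j) :=
  ⟨QuaternionGroup.a 1, QuaternionGroup.xa 0, QuaternionGroup.a 2, by decide, by decide, by decide,
    by decide, by decide⟩

/-- a quaternion unit in `SL(2,5)` -/
def qi5 : Matrix.SpecialLinearGroup (Fin 2) (ZMod 5) :=
  ⟨!![2, 0; 0, 3], by rw [Matrix.det_fin_two_of]; decide⟩

/-- a quaternion unit in `SL(2,5)` -/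
def qj5 : Matrix.SpecialLinearGroup (Fin 2) (ZMod 5) :=
  ⟨!![0, 1; 4, 0], by rw [Matrix.det_fin_two_of]; decide⟩

/-- the central involution of `SL(2,5)` -/
def qz5 : Matrix.SpecialLinearGroup (Fin 2) (ZMod 5) :=
  ⟨!![4, 0; 0, 4], by rw [Matrix.det_fin_two_of]; decide⟩

/-- quaternion units in `SL(2,5)` -/
theorem quat_units_SL25 : ∃ i j z : Matrix.SpecialLinearGroup (Fin 2) (ZMod 5),
    z ≠ 1 ∧ z ^ 2 = 1 ∧ i * i = z ∧ j * j = z ∧ j * i = z * (i * j) := by
  refine ⟨qi5, qj5, qz5, ?_, ?_, ?_, ?_, ?_⟩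
  · intro h
    have := congrArg (fun m : Matrix.SpecialLinearGroup (Fin 2) (ZMod 5) => m.1 0 0) h
    revert this
    show (4 : ZMod 5) = 1 → False
    decide
  · rw [pow_two]
    apply Subtype.ext
    show (!![4, 0; 0, 4] * !![4, 0; 0, 4] : Matrix (Fin 2) (Fin 2) (ZMod 5)) = 1
    decide
  · apply Subtype.ext
    show (!![2, 0; 0, 3] * !![2, 0; 0, 3] : Matrix (Fin 2) (Fin 2) (ZMod 5)) = !![4, 0; 0, 4]
    decide
  · apply Subtype.ext
    show (!![0, 1; 4, 0] * !![0, 1; 4, 0] : Matrix (Fin 2) (Fin 2) (ZMod 5)) = !![4, 0; 0, 4]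
    decide
  · apply Subtype.ext
    show (!![0, 1; 4, 0] * !![2, 0; 0, 3] : Matrix (Fin 2) (Fin 2) (ZMod 5)) =
      !![4, 0; 0, 4] * (!![2, 0; 0, 3] * !![0, 1; 4, 0])
    decide

theorem quat_units_of_equiv {N K : Type*} [Group N] [Group K] (e : N ≃* K)
    (h : ∃ i j z : K, z ≠ 1 ∧ z ^ 2 = 1 ∧ i * i = z ∧ j * j = z ∧ j * i = z * (i * j)) :
    ∃ i j z : N, z ≠ 1 ∧ z ^ 2 = 1 ∧ i * i = z ∧ j * j = z ∧ j * i = z * (i * j) := by
  obtain ⟨i, j, z, h1, h2, h3, h4, h5⟩ := h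
  refine ⟨e.symm i, e.symm j, e.symm z, ?_, ?_, ?_, ?_, ?_⟩
  · intro h
    apply h1
    have := congrArg e h
    simpa using this
  · rw [← map_pow, h2, map_one]
  · rw [← map_mul, h3]
  · rw [← map_mul, h4]
  · rw [← map_mul, ← map_mul, ← map_mul, h5]

variable {p : ℕ} [Fact p.Prime] {V : Type*} [AddCommGroup V] [Module (ZMod p) V]
  {H : Subgroup (V ≃ₗ[ZMod p] V)}

set_option maxHeartbeats 1000000 in
theorem main687 [Finite V]
    (hreg : ∀ v w : V, v ≠ 0 → w ≠ 0 → ∃! h : H, (h : V ≃ₗ[ZMod p] V) v = w)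
    (hI : ∀ A : Subgroup H, A.Normal → IsCyclic A → ∃ W : Submodule (ZMod p) V, W ≠ ⊥ ∧ W ≠ ⊤ ∧
      ∀ a ∈ A, ∀ v ∈ W, ((a : H) : V ≃ₗ[ZMod p] V) v ∈ W)
    (A : Subgroup H) (hAn : A.Normal) (hAc : IsMulCommutative A)
    (hAmax : ∀ B : Subgroup H, B.Normal → IsMulCommutative B → A ≤ B → B = A)
    (N : Subgroup H) (hNn : N.Normal) (hNle : N ≤ Subgroup.centralizer (A : Set H))
    (hNna : ¬ IsMulCommutative N)
    (hNmin : ∀ M : Subgroup H, M.Normal → M ≤ N → ¬ IsMulCommutative M → M = N) :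
    (∀ W : Submodule (ZMod p) V, (∀ n ∈ N, ∀ v ∈ W, ((n : H) : V ≃ₗ[ZMod p] V) v ∈ W) →
      W = ⊥ ∨ W = ⊤) ∧ Subgroup.centralizer (N : Set H) = A := by
  classical
  haveI : Module.Finite (ZMod p) V := Module.Finite.of_finite
  -- dimension two
  have hdim : Module.finrank (ZMod p) V = 2 := by
    by_cases hsolv : Group.IsSolvable H
    · rcases Cfsg.Agent.S0688.result H hreg hI hsolv with h | h | h | h
      · exact finrank_two_of_card 5 (by norm_num) (by rw [h]; norm_num)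
      · exact finrank_two_of_card 7 (by norm_num) (by rw [h]; norm_num)
      · exact finrank_two_of_card 11 (by norm_num) (by rw [h]; norm_num)
      · exact finrank_two_of_card 23 (by norm_num) (by rw [h]; norm_num)
    · rcases main689 H hreg hsolv with ⟨h, -⟩ | ⟨h, -⟩ | ⟨h, -⟩
      · exact finrank_two_of_card 11 (by norm_num) (by rw [h]; norm_num)
      · exact finrank_two_of_card 29 (by norm_num) (by rw [h]; norm_num)
      · exact finrank_two_of_card 59 (by norm_num) (by rw [h]; norm_num)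
  haveI : Nontrivial V := by
    apply Module.nontrivial_of_finrank_pos (R := ZMod p)
    rw [hdim]; norm_num
  have hF : FPF (taut H) := fpf_taut hreg
  -- equal on one nonzero vector implies equal
  have heq : ∀ (g h : H) (v : V), v ≠ 0 → (g : V ≃ₗ[ZMod p] V) v = (h : V ≃ₗ[ZMod p] V) v →
      g = h := by
    intro g h v hv hgh
    have h1 : ((h⁻¹ * g : H) : V ≃ₗ[ZMod p] V) v = v := by
      show ((h : V ≃ₗ[ZMod p] V)⁻¹ * (g : V ≃ₗ[ZMod p] V)) v = v
      rw [LinearEquiv.mul_apply, hgh]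
      exact (h : V ≃ₗ[ZMod p] V).symm_apply_apply v
    have := eq_one_of_fix hreg hv h1
    exact (inv_mul_eq_one.mp this).symm
  -- irreducibility
  have hirr : ∀ W : Submodule (ZMod p) V,
      (∀ n ∈ N, ∀ v ∈ W, ((n : H) : V ≃ₗ[ZMod p] V) v ∈ W) → W = ⊥ ∨ W = ⊤ := by
    intro W hW
    have hle : Module.finrank (ZMod p) W ≤ 2 := by
      rw [← hdim]; exact Submodule.finrank_le W
    rcases (by omega : Module.finrank (ZMod p) W = 0 ∨ Module.finrank (ZMod p) W = 1 ∨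
      Module.finrank (ZMod p) W = 2) with h0 | h1 | h2
    · left
      exact Submodule.finrank_eq_zero.mp h0
    · exfalso
      obtain ⟨w, hw0, hw⟩ := finrank_eq_one_iff'.mp h1
      apply hNna
      refine ⟨⟨fun a b => ?_⟩⟩
      apply Subtype.ext
      have hw0' : (w : V) ≠ 0 := fun h => hw0 (Subtype.ext h)
      apply heq _ _ (w : V) hw0'
      obtain ⟨ca, hca⟩ := hw ⟨_, hW (a : H) a.2 (w : V) w.2⟩
      obtain ⟨cb, hcb⟩ := hw ⟨_, hW (b : H) b.2 (w : V) w.2⟩
      have hca' : ((a : H) : V ≃ₗ[ZMod p] V) (w : V) = ca • (w : V) :=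
        (congrArg Subtype.val hca).symm
      have hcb' : ((b : H) : V ≃ₗ[ZMod p] V) (w : V) = cb • (w : V) :=
        (congrArg Subtype.val hcb).symm
      show ((a : H) : V ≃ₗ[ZMod p] V) (((b : H) : V ≃ₗ[ZMod p] V) (w : V)) =
        ((b : H) : V ≃ₗ[ZMod p] V) (((a : H) : V ≃ₗ[ZMod p] V) (w : V))
      rw [hcb', hca', map_smul, map_smul, hca', hcb', smul_smul, smul_smul, mul_comm]
    · right
      apply Submodule.eq_top_of_finrank_eq
      rw [h2, hdim]
  refine ⟨hirr, ?_⟩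
  -- quaternion units in N
  obtain ⟨i, j, z, hz1, hz2, hii, hjj, hji⟩ : ∃ i j z : N, z ≠ 1 ∧ z ^ 2 = 1 ∧ i * i = z ∧
      j * j = z ∧ j * i = z * (i * j) := by
    rcases main686 hreg A hAn hAc hAmax N hNn hNle hNna hNmin with ⟨⟨e⟩⟩ | ⟨⟨e⟩⟩
    · exact quat_units_of_equiv e quat_units_Q8
    · exact quat_units_of_equiv e quat_units_SL25
  have hz1' : ((z : H)) ≠ 1 := fun h => hz1 (Subtype.ext h)
  have hz2' : ((z : H)) ^ 2 = 1 := by
    have := congrArg (fun t : N => (t : H)) hz2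
    simpa using this
  have hz : taut H z = -1 := hF.eq_neg_one hz1' hz2'
  have h2 : (2 : ZMod p) ≠ 0 := hF.two_ne_zero hz1' hz2'
  have hp2 : p ≠ 2 := by
    intro hp2
    apply h2
    have : ((2 : ℕ) : ZMod p) = 0 := by
      rw [ZMod.natCast_eq_zero_iff]
      exact hp2 ▸ dvd_refl p
    exact_mod_cast this
  obtain ⟨x, y, hxy⟩ := exists_sq_add_sq (E := ZMod p)
    (by rw [ZMod.ringChar_zmod_n]; exact hp2) (-1)
  have hI' : taut H i * taut H i = -1 := by
    rw [← map_mul, ← hz]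
    congr 1
    exact congrArg Subtype.val hii
  have hJ' : taut H j * taut H j = -1 := by
    rw [← map_mul, ← hz]
    congr 1
    exact congrArg Subtype.val hjj
  have hJI : taut H j * taut H i = -(taut H i * taut H j) := by
    rw [← map_mul, ← map_mul]
    have e : (j : H) * (i : H) = z * ((i : H) * (j : H)) := congrArg Subtype.val hji
    rw [e, map_mul, hz, neg_one_mul]
  obtain ⟨U, hUdim, hUinv⟩ := split_half h2 (taut H i) (taut H j) hI' hJ' hJI x y hxy
  have hU1 : Module.finrank (ZMod p) U = 1 := by omega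
  obtain ⟨u, hu0, hu⟩ := finrank_eq_one_iff'.mp hU1
  have hu0' : (u : V) ≠ 0 := fun h => hu0 (Subtype.ext h)
  -- every element of the centralizer is a scalar
  have hscal : ∀ g ∈ Subgroup.centralizer (N : Set H), ∃ c : ZMod p, ∀ v : V,
      ((g : H) : V ≃ₗ[ZMod p] V) v = c • v := by
    intro g hg
    rw [Subgroup.mem_centralizer_iff] at hg
    have hgU : taut H g (u : V) ∈ U := by
      apply hUinv (taut H g) _ _ (u : V) u.2
      · rw [← map_mul, ← map_mul, hg (i : H) i.2]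
      · rw [← map_mul, ← map_mul, hg (j : H) j.2]
    obtain ⟨c, hc⟩ := hu ⟨_, hgU⟩
    have hc' : (g : V ≃ₗ[ZMod p] V) (u : V) = c • (u : V) := (congrArg Subtype.val hc).symm
    refine ⟨c, ?_⟩
    obtain ⟨W, hWdef⟩ : ∃ W : Submodule (ZMod p) V,
        W = LinearMap.ker (taut H g - c • (1 : Module.End (ZMod p) V)) := ⟨_, rfl⟩
    have hmemW : ∀ v, v ∈ W ↔ (g : V ≃ₗ[ZMod p] V) v = c • v := by
      intro v
      rw [hWdef, LinearMap.mem_ker, LinearMap.sub_apply, LinearMap.smul_apply,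
        Module.End.one_apply, sub_eq_zero, taut_apply]
    have hWinv : ∀ n ∈ N, ∀ v ∈ W, ((n : H) : V ≃ₗ[ZMod p] V) v ∈ W := by
      intro n hn v hv
      rw [hmemW] at hv ⊢
      have e : g * n = n * g := (hg n hn).symm
      have e2 : (g : V ≃ₗ[ZMod p] V) ((n : V ≃ₗ[ZMod p] V) v) =
          (n : V ≃ₗ[ZMod p] V) ((g : V ≃ₗ[ZMod p] V) v) := by
        have := congrArg (fun t : H => (t : V ≃ₗ[ZMod p] V) v) e
        exact this
      rw [e2, hv, map_smul]
    rcases hirr W hWinv with hb | ht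
    · exfalso
      have : (u : V) ∈ W := (hmemW _).mpr hc'
      rw [hb, Submodule.mem_bot] at this
      exact hu0' this
    · intro v
      rw [← hmemW, ht]
      trivial
  have hcomm : IsMulCommutative (Subgroup.centralizer (N : Set H)) := by
    refine ⟨⟨fun a b => ?_⟩⟩
    apply Subtype.ext
    obtain ⟨ca, hca⟩ := hscal a a.2
    obtain ⟨cb, hcb⟩ := hscal b b.2
    apply heq _ _ (u : V) hu0'
    show ((a : H) : V ≃ₗ[ZMod p] V) (((b : H) : V ≃ₗ[ZMod p] V) (u : V)) =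
      ((b : H) : V ≃ₗ[ZMod p] V) (((a : H) : V ≃ₗ[ZMod p] V) (u : V))
    rw [hcb, hca, hca, hcb, smul_smul, smul_smul, mul_comm]
  haveI := hNn
  apply hAmax _ (Subgroup.normal_centralizer) hcomm
  intro a ha
  rw [Subgroup.mem_centralizer_iff]
  intro n hn
  have := (Subgroup.mem_centralizer_iff.mp (hNle hn)) a ha
  exact this.symm

end Cfsg.Agent.Lib.helper6.RegLinI
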