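import Mathlib
import Cfsg.Agent.Lib.helper3.S5953.Defs

/-! Project S5953 (designer helper3), row NS5 (helper6): the monomial isometry `e_0 → e_1 → … → e_(r-1) → z e_0` of the standard hermitian
space `Fin r → F` (`z ^ (q + 1) = 1`, `r` odd): it is a context with `x0 ^ r = z • 1` and `det x0 = z`. -/

set_option autoImplicit false

namespace Cfsg.Agent.Lib.helper3.S5953

open Polynomial Module Matrix
open Fin.NatCast Fin.CommRing

/-- the coefficient function: `z` at `0`, `1` elsewhere -/
def s5953ns5_c {F : Type*} [Field F] (n : ℕ) (z : F) : Fin (n + 1) → F := fun i => if i = 0 then z else 1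

/-- the monomial matrix -/
def s5953ns5_M {F : Type*} [Field F] (n : ℕ) (z : F) : Matrix (Fin (n + 1)) (Fin (n + 1)) F :=
  fun i j => if j = i - 1 then s5953ns5_c n z i else 0

theorem s5953ns5_mulVec {F : Type*} [Field F] (n : ℕ) (z : F) (v : Fin (n + 1) → F) (i : Fin (n + 1)) :
    (s5953ns5_M n z *ᵥ v) i = s5953ns5_c n z i * v (i - 1) := by
  rw [Matrix.mulVec, dotProduct, Finset.sum_eq_single (i - 1)]
  · simp [s5953ns5_M]
  · intro j _ hj
    simp [s5953ns5_M, hj]
  · intro h; exact absurd (Finset.mem_univ _) h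

theorem s5953ns5_c_pow {F : Type*} [Field F] (n : ℕ) (z : F) {q : ℕ} (hz : z ^ (q + 1) = 1) (i : Fin (n + 1)) :
    s5953ns5_c n z i * s5953ns5_c n z i ^ q = 1 := by
  unfold s5953ns5_c
  split_ifs
  · rw [← pow_succ', hz]
  · simp

theorem s5953ns5_iter {F : Type*} [Field F] (n : ℕ) (z : F) (k : ℕ) (v : Fin (n + 1) → F) (i : Fin (n + 1)) :
    (((Matrix.toLin' (s5953ns5_M n z)) ^ k) v) i =
      (∏ t ∈ Finset.range k, s5953ns5_c n z (i - (t : Fin (n + 1)))) * v (i - (k : Fin (n + 1))) := by
  induction k generalizing i with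
  | zero => simp
  | succ k ih =>
    rw [pow_succ', Module.End.mul_apply, Matrix.toLin'_apply, s5953ns5_mulVec, ih, Finset.prod_range_succ']
    have h1 : ∀ t : ℕ, i - 1 - (t : Fin (n + 1)) = i - ((t + 1 : ℕ) : Fin (n + 1)) := by
      intro t
      rw [Nat.cast_succ]
      ring
    have h2 : (∏ t ∈ Finset.range k, s5953ns5_c n z (i - 1 - (t : Fin (n + 1)))) =
        ∏ t ∈ Finset.range k, s5953ns5_c n z (i - ((t + 1 : ℕ) : Fin (n + 1))) :=
      Finset.prod_congr rfl (fun t _ => by rw [h1 t])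
    rw [h2, h1 k]
    simp only [Nat.cast_zero, sub_zero]
    ring

theorem s5953ns5_prod {F : Type*} [Field F] (n : ℕ) (z : F) (i : Fin (n + 1)) :
    (∏ t ∈ Finset.range (n + 1), s5953ns5_c n z (i - (t : Fin (n + 1)))) = z := by
  rw [Finset.prod_eq_single (i : ℕ)]
  · have : i - ((i : ℕ) : Fin (n + 1)) = 0 := by
      rw [Fin.cast_val_eq_self, sub_self]
    rw [this]
    simp [s5953ns5_c]
  · intro t ht hti
    have htlt : t < n + 1 := Finset.mem_range.mp ht
    have : i - (t : Fin (n + 1)) ≠ 0 := by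
      intro h
      have h' : i = (t : Fin (n + 1)) := sub_eq_zero.mp h
      apply hti
      rw [h', Fin.val_natCast, Nat.mod_eq_of_lt htlt]
    simp [s5953ns5_c, this]
  · intro h
    exact absurd (Finset.mem_range.mpr i.isLt) h

theorem s5953ns5_det {F : Type*} [Field F] (n : ℕ) (hn : Even n) (z : F) : (s5953ns5_M n z).det = z := by
  have hM : s5953ns5_M n z =
      (Matrix.diagonal (fun j : Fin (n + 1) => s5953ns5_c n z (j + 1))).submatrix (Equiv.subRight (1 : Fin (n + 1))) id := by
    funext i j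
    simp only [s5953ns5_M, Matrix.submatrix_apply, id_eq, Matrix.diagonal_apply, Equiv.subRight_apply, sub_add_cancel]
    by_cases h : j = i - 1
    · rw [if_pos h, if_pos h.symm]
    · rw [if_neg h, if_neg (fun h' => h h'.symm)]
  rw [hM, Matrix.det_permute, Matrix.det_diagonal]
  have hs : Equiv.Perm.sign (Equiv.subRight (1 : Fin (n + 1))) = 1 := by
    have : Equiv.subRight (1 : Fin (n + 1)) = (finRotate (n + 1))⁻¹ := by
      apply Equiv.ext
      intro i
      rw [Equiv.Perm.inv_def, eq_comm, Equiv.symm_apply_eq, finRotate_apply]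
      simp
    rw [this, Equiv.Perm.sign_inv, sign_finRotate]
    simp only [Nat.add_sub_cancel]
    rw [hn.neg_one_pow]
  rw [hs]
  have hp : (∏ j : Fin (n + 1), s5953ns5_c n z (j + 1)) = z := by
    have := Equiv.prod_comp (Equiv.addRight (1 : Fin (n + 1))) (s5953ns5_c n z)
    simp only [Equiv.coe_addRight] at this
    rw [this]
    simp [s5953ns5_c, Finset.prod_ite_eq']
  simp only [Units.val_one, Int.cast_one, one_mul]
  exact hp

theorem mono_ctx {F : Type*} [Field F] {q r : ℕ} (hr : Odd r) (z : F) (hz : z ^ (q + 1) = 1) :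
    ∃ x0 : Module.End F (Fin r → F), HCtx q r z x0 ∧ LinearMap.det x0 = z := by
  obtain ⟨n, rfl⟩ : ∃ n, r = n + 1 := ⟨r - 1, by have := hr.pos; omega⟩
  have hn : Even n := by
    rcases Nat.even_or_odd n with h | h
    · exact h
    · exact absurd hr (by rw [Nat.not_odd_iff_even]; exact h.add_one)
  refine ⟨Matrix.toLin' (s5953ns5_M n z), ⟨?_, ?_, ?_⟩, ?_⟩
  · intro u v
    unfold hermI
    simp only [Matrix.toLin'_apply, s5953ns5_mulVec]
    rw [← Equiv.sum_comp (Equiv.subRight (1 : Fin (n + 1))) (fun i => u i * v i ^ q)]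
    refine Finset.sum_congr rfl (fun i _ => ?_)
    simp only [Equiv.subRight_apply]
    rw [mul_pow]
    calc s5953ns5_c n z i * u (i - 1) * (s5953ns5_c n z i ^ q * v (i - 1) ^ q)
        = (s5953ns5_c n z i * s5953ns5_c n z i ^ q) * (u (i - 1) * v (i - 1) ^ q) := by ring
      _ = u (i - 1) * v (i - 1) ^ q := by rw [s5953ns5_c_pow n z hz, one_mul]
  · apply LinearMap.ext
    intro v
    funext i
    rw [s5953ns5_iter, s5953ns5_prod]
    simp
  · intro h0
    rw [h0, zero_pow (Nat.succ_ne_zero q)] at hz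
    exact zero_ne_one hz
  · rw [LinearMap.det_toLin', s5953ns5_det n hn z]

end Cfsg.Agent.Lib.helper3.S5953
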