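import Mathlib
import Cfsg.Agent.Lib.helper14.SubA
import Cfsg.Agent.Lib.helper6.SSCONJDET

/-! Project SFO = S5965 (leader helper8), rows SIMPLE, IRRNORM, CENT (helper6): the centraliser of a semisimple matrix over a finite field
has elements of every determinant (on top of `helper6.SSCONJDET`). -/

set_option autoImplicit false
set_option linter.unusedVariables false
set_option linter.unusedSectionVars false

namespace Cfsg.Agent.Lib.helper8.SFO

open Matrix Polynomial
open scoped MatrixGroups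
open Cfsg.Agent.Lib.helper14

theorem exists_simple {F : Type*} [Field F] {V : Type*} [AddCommGroup V] [Module F V]
    [FiniteDimensional F V] [Nontrivial V] (φ : Module.End F V) (hφ : φ.IsSemisimple) :
    ∃ U W : Submodule F V, U ≠ ⊥ ∧ IsCompl U W ∧ (∀ u ∈ U, φ u ∈ U) ∧ (∀ w ∈ W, φ w ∈ W) ∧
      ∀ U' : Submodule F V, U' ≤ U → (∀ u ∈ U', φ u ∈ U') → U' = ⊥ ∨ U' = U := by
  classical
  have hex : ∃ k : ℕ, ∃ U : Submodule F V, U ≠ ⊥ ∧ (∀ u ∈ U, φ u ∈ U) ∧ Module.finrank F U = k :=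
    ⟨Module.finrank F V, ⊤, top_ne_bot, fun u _ => Submodule.mem_top, finrank_top F V⟩
  obtain ⟨U, hU0, hUinv, hUk⟩ := Nat.find_spec hex
  have hUm : U ∈ Module.End.invtSubmodule φ := fun x hx => hUinv x hx
  obtain ⟨W, hWm, hc⟩ := (Module.End.isSemisimple_iff.mp hφ) U hUm
  refine ⟨U, W, hU0, hc, hUinv, fun w hw => hWm hw, ?_⟩
  intro U' hU'U hU'inv
  by_cases h0 : U' = ⊥
  · exact Or.inl h0
  · right
    have hmin : Nat.find hex ≤ Module.finrank F U' := Nat.find_min' hex ⟨U', h0, hU'inv, rfl⟩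
    exact Submodule.eq_of_le_of_finrank_le hU'U (by rw [hUk]; exact hmin)

theorem irr_norm {F : Type*} [Field F] [Fintype F] {U : Type*} [AddCommGroup U] [Module F U]
    [FiniteDimensional F U] [Nontrivial U] (ψ : Module.End F U)
    (hirr : ∀ U' : Submodule F U, (∀ u ∈ U', ψ u ∈ U') → U' = ⊥ ∨ U' = ⊤) (δ : F) :
    ∃ P : F[X], LinearMap.det (aeval ψ P) = δ := by
  classical
  have hmu : ¬ IsUnit (minpoly F ψ) := minpoly.not_isUnit F ψ
  have hm0 : minpoly F ψ ≠ 0 := minpoly.ne_zero (Algebra.IsIntegral.isIntegral ψ)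
  obtain ⟨f₀, hf₀, hf₀d⟩ := WfDvdMonoid.exists_irreducible_factor hmu hm0
  set f : F[X] := f₀ * C (f₀.leadingCoeff⁻¹) with hfdef
  have hf₀0 : f₀ ≠ 0 := hf₀.ne_zero
  have hfm : f.Monic := monic_mul_leadingCoeff_inv hf₀0
  have hfirr : Irreducible f := by
    rw [hfdef]
    exact (irreducible_mul_leadingCoeff_inv).mpr hf₀
  have hff₀ : f ∣ f₀ := by
    refine ⟨C f₀.leadingCoeff, ?_⟩
    rw [hfdef, mul_assoc, ← C_mul, inv_mul_cancel₀ (leadingCoeff_ne_zero.mpr hf₀0), C_1, mul_one]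
  have hfd : f ∣ minpoly F ψ := hff₀.trans hf₀d
  obtain ⟨v, hv0, hv⟩ := Cfsg.Agent.Lib.helper6.SSCONJ.exists_ker_ne ψ f hfirr.not_isUnit hfd
  -- the kernel of `f(ψ)` is invariant and nonzero, hence everything
  have hcomm : aeval ψ f * ψ = ψ * aeval ψ f := by
    have h1 := (Commute.all f (X : F[X])).map (aeval ψ)
    rw [aeval_X] at h1
    exact h1.eq
  have hK : LinearMap.ker (aeval ψ f) = ⊤ := by
    rcases hirr (LinearMap.ker (aeval ψ f)) (by
      intro u hu
      rw [LinearMap.mem_ker] at hu ⊢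
      have := congrArg (fun T : Module.End F U => T u) hcomm
      simp only [Module.End.mul_apply] at this
      rw [this, hu, map_zero]) with h | h
    · exfalso
      have : v ∈ LinearMap.ker (aeval ψ f) := LinearMap.mem_ker.mpr hv
      rw [h, Submodule.mem_bot] at this
      exact hv0 this
    · exact h
  have hkill : aeval ψ f = 0 := LinearMap.ker_eq_top.mp hK
  -- the cyclic subspace is everything
  have hCinv := Cfsg.Agent.Lib.helper6.SSCONJ.cyc_invt ψ v f hfm hv
  have hdpos : 0 < f.natDegree := hfirr.natDegree_pos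
  have hvC : v ∈ Cfsg.Agent.Lib.helper6.SSCONJ.cyc ψ v f.natDegree :=
    Cfsg.Agent.Lib.helper6.SSCONJ.ssconjmain_mem_cyc ψ v _ hdpos
  have hCtop : Cfsg.Agent.Lib.helper6.SSCONJ.cyc ψ v f.natDegree = ⊤ := by
    rcases hirr _ hCinv with h | h
    · exfalso
      rw [h, Submodule.mem_bot] at hvC
      exact hv0 hvC
    · exact h
  have hdim : Module.finrank F U = f.natDegree := by
    have := Cfsg.Agent.Lib.helper6.SSCONJ.ssconjcycchar_finrank_eq ψ v hv0 f hfm hfirr hv hCinv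
    rw [hCtop, finrank_top] at this
    exact this
  have : Fact (Irreducible f) := ⟨hfirr⟩
  have hf0 : f ≠ 0 := hfirr.ne_zero
  have hmf : Module.Finite F (AdjoinRoot f) := (AdjoinRoot.powerBasis hf0).finite
  have : Finite (AdjoinRoot f) := Module.finite_of_finite F
  obtain ⟨z, hz⟩ := FiniteField.norm_surjective F (AdjoinRoot f) δ
  obtain ⟨P, rfl⟩ := AdjoinRoot.mk_surjective z
  refine ⟨P, ?_⟩
  rw [← Cfsg.Agent.Lib.helper6.SSCONJ.ssconjdet_L_mk ψ f hkill P,
    Cfsg.Agent.Lib.helper6.SSCONJ.ssconjdet_det_L ψ f hkill hdim v hv0, hz]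

theorem cent_det {F : Type*} [Field F] [Fintype F] {n : ℕ} (hn : 1 ≤ n)
    (y : Matrix (Fin n) (Fin n) F) (hy : Module.End.IsSemisimple (Matrix.toLin' y)) (δ : F) :
    ∃ s : Matrix (Fin n) (Fin n) F, s * y = y * s ∧ s.det = δ := by
  have : Nonempty (Fin n) := ⟨⟨0, hn⟩⟩
  by_cases hδ : δ = 0
  · refine ⟨0, by rw [zero_mul, mul_zero], ?_⟩
    rw [hδ, Matrix.det_zero]
  · exact Cfsg.Agent.Lib.helper6.SSCONJ.ssconjdet_matrix y hy δ hδ

end Cfsg.Agent.Lib.helper8.SFO
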