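import Mathlib
import Cfsg.Agent.Lib.helper14.SubA
import Cfsg.Agent.Lib.helper6.SFOCENT
import Cfsg.Agent.Lib.Helper25.SSCONJDESC
import Cfsg.Agent.Lib.Helper28.SSCONJSSPOW

/-! Project SFO = S5965 (leader helper8), row FIN (helper6). -/

set_option autoImplicit false
set_option linter.unusedVariables false
set_option linter.unusedSectionVars false

namespace Cfsg.Agent.Lib.helper8.SFO

open Matrix Polynomial
open scoped MatrixGroups
open Cfsg.Agent.Lib.helper14

theorem finish {F : Type*} [Field F] [Fintype F] {n : ℕ} (hn : 1 ≤ n) (F₀ : Subfield F)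
    (x : Matrix.SpecialLinearGroup (Fin n) F) (r : ℕ) (hr : (r : F) ≠ 0) (ν : F) (hν : ν ≠ 0)
    (hy : (ν • (x : Matrix (Fin n) (Fin n) F)) ^ r = 1) (c₀ : Polynomial ↥F₀)
    (hc : (ν • (x : Matrix (Fin n) (Fin n) F)).charpoly = c₀.map F₀.subtype) :
    ∃ P : Matrix.SpecialLinearGroup (Fin n) F, P⁻¹ * x * P ∈ SubA.HS n F₀ := by
  classical
  set y : Matrix (Fin n) (Fin n) F := ν • (x : Matrix (Fin n) (Fin n) F) with hydef
  have hss : Module.End.IsSemisimple (Matrix.toLin' y) :=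
    Cfsg.Agent.Lib.helper6.SSCONJ.ss_of_pow_eq_one y r hr hy
  have : Finite ↥F₀ := Finite.of_injective (fun a : ↥F₀ => (a : F)) Subtype.val_injective
  obtain ⟨g, y₀, hg⟩ := Cfsg.Agent.Lib.helper6.SSCONJ.ss_descent F₀.subtype y hss c₀ hc
  set M' : Matrix (Fin n) (Fin n) F := y₀.map F₀.subtype with hM'
  have hgg : ((g⁻¹ : GL (Fin n) F) : Matrix (Fin n) (Fin n) F) * (g : Matrix (Fin n) (Fin n) F) = 1 := by
    rw [← Matrix.GeneralLinearGroup.coe_mul, inv_mul_cancel]; rfl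
  have hgg' : (g : Matrix (Fin n) (Fin n) F) * ((g⁻¹ : GL (Fin n) F) : Matrix (Fin n) (Fin n) F) = 1 := by
    rw [← Matrix.GeneralLinearGroup.coe_mul, mul_inv_cancel]; rfl
  have hyM : y = ((g⁻¹ : GL (Fin n) F) : Matrix (Fin n) (Fin n) F) * M' * (g : Matrix (Fin n) (Fin n) F) := by
    rw [← hg]
    simp only [Matrix.mul_assoc]
    rw [hgg, Matrix.mul_one, ← Matrix.mul_assoc, hgg, Matrix.one_mul]
  have hx : (x : Matrix (Fin n) (Fin n) F) =
      ((g⁻¹ : GL (Fin n) F) : Matrix (Fin n) (Fin n) F) * (ν⁻¹ • M') * (g : Matrix (Fin n) (Fin n) F) := by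
    have h1 : (x : Matrix (Fin n) (Fin n) F) = ν⁻¹ • y := by
      rw [hydef, smul_smul, inv_mul_cancel₀ hν, one_smul]
    rw [h1, hyM, Matrix.mul_smul, Matrix.smul_mul]
  have hM'r : M' ^ r = 1 := by
    have : M' = (g : Matrix (Fin n) (Fin n) F) * y * ((g⁻¹ : GL (Fin n) F) : Matrix (Fin n) (Fin n) F) := hg.symm
    have hpow : ∀ k : ℕ, M' ^ k = (g : Matrix (Fin n) (Fin n) F) * y ^ k * ((g⁻¹ : GL (Fin n) F) : Matrix (Fin n) (Fin n) F) := by
      intro k
      induction k with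
      | zero => rw [pow_zero, pow_zero, Matrix.mul_one, hgg']
      | succ k ih =>
        rw [pow_succ, ih, this, pow_succ]
        simp only [Matrix.mul_assoc]
        congr 2
        rw [← Matrix.mul_assoc _ (g : Matrix (Fin n) (Fin n) F), hgg, Matrix.one_mul]
    rw [hpow, hy, Matrix.mul_one, hgg']
  have hssM : Module.End.IsSemisimple (Matrix.toLin' M') :=
    Cfsg.Agent.Lib.helper6.SSCONJ.ss_of_pow_eq_one M' r hr hM'r
  refine SubA.finish_sub F₀ x _ _ hgg hgg' (ν⁻¹ • M') hx ν⁻¹ (inv_ne_zero hν) ?_ ?_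
  · intro i j
    rw [inv_inv, Matrix.smul_apply, smul_eq_mul, ← mul_assoc, mul_inv_cancel₀ hν, one_mul, hM', Matrix.map_apply]
    exact (y₀ i j).2
  · intro d hd
    obtain ⟨s, hs, hsd⟩ := cent_det hn M' hssM d
    exact ⟨s, by rw [Matrix.mul_smul, Matrix.smul_mul, hs], hsd⟩

end Cfsg.Agent.Lib.helper8.SFO
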