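import Mathlib
import Cfsg.Agent.Lib.helper6.SL3P.Defs

set_option autoImplicit false

namespace Cfsg.Agent.Lib.helper6.SL3P

open Cfsg.Agent.Lib.helper17.SLP

universe u v

/-- pure group-theoretic core of T1 (`z = w²`, `h2 = c h c⁻¹`, `h3 = c² h c⁻²`). -/
theorem sl3pt1_core {G : Type*} [Group G] (h w c z h2 h3 : G) (k : ℤ) (hzdef : z = w * w)
    (hh2 : h2 = c * h * c⁻¹) (hh3 : h3 = (c * c) * h * (c * c)⁻¹)
    (hz : z = h ^ k) (hz2 : z * z = 1)
    (r1 : w * c * w⁻¹ = z * (c * c))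
    (r2 : h * h2 * h3 = 1)
    (r3 : Commute h h2) : c * c * c = 1 := by
  have hzinv : z⁻¹ = z := inv_eq_of_mul_eq_one_right hz2
  have hzw : w * z * w⁻¹ = z := by
    rw [hzdef]; simp only [mul_assoc, mul_inv_cancel, mul_one]
  -- z c z = c² z c²
  have e1 : z * c * z = (c * c) * z * (c * c) := by
    have h1 : w * (w * c * w⁻¹) * w⁻¹ = z * c * z⁻¹ := by
      rw [hzdef]; simp only [mul_assoc, mul_inv_rev]
    have h2' : w * (z * (c * c)) * w⁻¹ = (w * z * w⁻¹) * ((w * c * w⁻¹) * (w * c * w⁻¹)) := by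
      simp only [mul_assoc, inv_mul_cancel_left]
    rw [r1, h2', hzw, r1, hzinv] at h1
    rw [← h1]
    calc z * (z * (c * c) * (z * (c * c))) = (z * z) * ((c * c) * z * (c * c)) := by
          simp only [mul_assoc]
      _ = (c * c) * z * (c * c) := by rw [hz2, one_mul]
  have h3eq : h3 = (h * h2)⁻¹ := (inv_eq_of_mul_eq_one_right r2).symm
  have hcz : c * z * c⁻¹ = h2 ^ k := by
    rw [hz, hh2]
    exact (map_zpow (MulAut.conj c) h k)
  have hc2z : (c * c) * z * (c * c)⁻¹ = h3 ^ k := by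
    rw [hz, hh3]
    exact (map_zpow (MulAut.conj (c * c)) h k)
  have hh2k : (h2 ^ k) * (h2 ^ k) = 1 := by
    rw [← hcz]
    calc c * z * c⁻¹ * (c * z * c⁻¹) = c * (z * z) * c⁻¹ := by
          simp only [mul_assoc, inv_mul_cancel_left]
      _ = 1 := by rw [hz2, mul_one, mul_inv_cancel]
  have hh2kinv : (h2 ^ k)⁻¹ = h2 ^ k := inv_eq_of_mul_eq_one_right hh2k
  have hc' : Commute z (h2 ^ k) := by
    rw [hz]; exact r3.zpow_zpow k k
  have h3k : h3 ^ k = z * h2 ^ k := by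
    rw [h3eq, inv_zpow, r3.mul_zpow, ← hz, mul_inv_rev, hh2kinv, hzinv]
    exact hc'.eq.symm
  have l1 : z * c * z = z * h2 ^ k * c := by
    rw [← hcz]; simp only [mul_assoc, inv_mul_cancel, mul_one]
  have l2 : (c * c) * z * (c * c) = z * h2 ^ k * (c * c * (c * c)) := by
    rw [← h3k, ← hc2z]; simp only [mul_assoc, mul_inv_rev, inv_mul_cancel_left]
  rw [l1, l2] at e1
  have h4 : c = c * c * (c * c) := mul_left_cancel e1
  have h5 : c * 1 = c * (c * c * c) := by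
    rw [mul_one]; simp only [mul_assoc] at h4 ⊢; exact h4
  exact (mul_left_cancel h5).symm

/-- T1 -/
theorem c_cube {G : Type*} [Group G] {F : Type*} [Field F] [Fintype F] (ζ : Fˣ) (E : Set F) (x : F → G) (h w c : G)
    (hS : SL2Str ζ x h w) (hR : Rel5 ζ E x h w c) : c ^ 3 = 1 := by
  obtain ⟨k, hk⟩ := Subgroup.mem_zpowers_iff.mp hS.w2
  have hz2 : (w * w) * (w * w) = 1 := by
    have := hS.w4
    simpa [pow_succ, mul_assoc] using this
  have r1 := hR.r1
  have r2 := hR.r2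
  simp only [pow_two] at r1 r2 hk
  have := sl3pt1_core h w c (w * w) (c * h * c⁻¹) ((c * c) * h * (c * c)⁻¹) k rfl rfl rfl hk.symm hz2
    r1 r2 hR.r3
  simpa [pow_succ, mul_assoc] using this

/-- T2 -/
theorem cw_rel {G : Type*} [Group G] {F : Type*} [Field F] [Fintype F] (ζ : Fˣ) (E : Set F) (x : F → G) (h w c : G)
    (hS : SL2Str ζ x h w) (hR : Rel5 ζ E x h w c) :
    c * w⁻¹ * c = w ∧ w * c⁻¹ * w = c ∧ w * c = w ^ 2 * c⁻¹ * w := by
  have h3 := c_cube ζ E x h w c hS hR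
  have hc2 : c ^ 2 = c⁻¹ := by
    apply eq_inv_of_mul_eq_one_left
    rw [← pow_succ]; exact h3
  have r1 := hR.r1
  rw [hc2] at r1
  -- r1 : w c w⁻¹ = w² c⁻¹
  have e3 : w * c = w ^ 2 * c⁻¹ * w := by
    have : w * c = (w * c * w⁻¹) * w := by simp only [mul_assoc, inv_mul_cancel, mul_one]
    rw [this, r1]
  have e0 : c * w⁻¹ = w * c⁻¹ := by
    have : c * w⁻¹ = w⁻¹ * (w * c * w⁻¹) := by simp only [mul_assoc, inv_mul_cancel_left]
    rw [this, r1, pow_two]; simp only [mul_assoc, inv_mul_cancel_left]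
  have e1 : c * w⁻¹ * c = w := by rw [e0]; simp only [mul_assoc, inv_mul_cancel, mul_one]
  have e2 : w * c⁻¹ * w = c := by rw [← e0]; simp only [mul_assoc, inv_mul_cancel, mul_one]
  exact ⟨e1, e2, e3⟩

end Cfsg.Agent.Lib.helper6.SL3P
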