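import Mathlib
import Cfsg.Agent.Lib.helper7.SPC.Defs

set_option autoImplicit false

/-!
# Project SPC (S2676, designer helper7), row C5 (helper6): classes of elements of order `p` vs classes with `g ^ p = 1`.
Verbatim from `helper7/SPC/Skel.lean.txt`.
-/

namespace Cfsg.Agent.Lib.helper7.SPC

universe u

open Module

variable {F : Type u} [Field F]

/-- C5 [S-M]: for every finite group and prime `p`: the classes of elements of order `p` are the classes of elements with `g ^ p = 1` other than the class of `1`
(`orderOf_eq_prime`, `orderOf_dvd_of_pow_eq_one`, `Nat.Prime.eq_one_or_self_of_dvd`; `ConjClasses.mk g = ConjClasses.mk 1 ↔ g = 1`); remove one element from a finite type: `Nat.card` drops by one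
(`Fintype.card_subtype_compl`/`Set.ncard_diff_singleton_of_mem`). -/
theorem card_order_p {G : Type*} [Group G] [Finite G] (p : ℕ) (hp : p.Prime) :
    Nat.card {C : ConjClasses G // ∃ g : G, ConjClasses.mk g = C ∧ orderOf g = p} =
      Nat.card {C : ConjClasses G // ∃ g : G, ConjClasses.mk g = C ∧ g ^ p = 1} - 1 := by
  classical
  have hA : {C : ConjClasses G | ∃ g : G, ConjClasses.mk g = C ∧ g ^ p = 1} =
      insert (ConjClasses.mk 1)
        {C : ConjClasses G | ∃ g : G, ConjClasses.mk g = C ∧ orderOf g = p} := by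
    ext C
    simp only [Set.mem_ofPred_eq, Set.mem_insert_iff]
    constructor
    · rintro ⟨g, rfl, hg⟩
      have h1 := orderOf_dvd_of_pow_eq_one hg
      rcases (Nat.dvd_prime hp).mp h1 with h | h
      · left
        rw [orderOf_eq_one_iff] at h
        rw [h]
      · right
        exact ⟨g, rfl, h⟩
    · rintro (rfl | ⟨g, rfl, hg⟩)
      · exact ⟨1, rfl, one_pow p⟩
      · exact ⟨g, rfl, by rw [← hg]; exact pow_orderOf_eq_one g⟩
  have hnot : ConjClasses.mk (1 : G) ∉
      {C : ConjClasses G | ∃ g : G, ConjClasses.mk g = C ∧ orderOf g = p} := by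
    rintro ⟨g, hg, ho⟩
    rw [ConjClasses.mk_eq_mk_iff_isConj, isConj_one_left] at hg
    rw [hg, orderOf_one] at ho
    exact hp.one_lt.ne ho
  change Nat.card ↥{C : ConjClasses G | ∃ g : G, ConjClasses.mk g = C ∧ orderOf g = p} =
    Nat.card ↥{C : ConjClasses G | ∃ g : G, ConjClasses.mk g = C ∧ g ^ p = 1} - 1
  rw [_root_.Nat.card_coe_set_eq, _root_.Nat.card_coe_set_eq, hA,
    Set.ncard_insert_of_notMem hnot (Set.toFinite _), Nat.add_sub_cancel]

end Cfsg.Agent.Lib.helper7.SPC
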