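import Mathlib
import Cfsg.Agent.Lib.helper7.SPC.Defs
import Cfsg.Agent.Lib.Helper27.SPCISO
import Cfsg.Agent.Lib.Helper27.SPCI3

set_option autoImplicit false

/-!
# Project SPC (S2676, designer helper7), row I4 (helper6): `sumList` is invariant under permutations.
Verbatim from `helper7/SPC/Skel.lean.txt`.
-/

namespace Cfsg.Agent.Lib.helper7.SPC

universe u

open Module

variable {F : Type u} [Field F]

/-- I4 [S-M] (batch 2; cites ISO I3): induction on `List.Perm` (`cons`: I2; `swap`: assoc + comm + congr; `trans`). -/
theorem sumList_perm {L L' : List (Blk F)} (h : L.Perm L') : TIso (sumList L) (sumList L') := by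
  induction h with
  | nil => exact TIso_refl _
  | cons b _ ih =>
    rw [sumList_cons, sumList_cons]
    exact TSum_congr (TIso_refl _) ih
  | swap a b l =>
    rw [sumList_cons, sumList_cons, sumList_cons, sumList_cons]
    exact TIso_trans (TIso_symm (TSum_assoc _ _ _))
      (TIso_trans (TSum_congr (TSum_comm _ _) (TIso_refl _)) (TSum_assoc _ _ _))
  | trans _ _ ih1 ih2 => exact TIso_trans ih1 ih2

end Cfsg.Agent.Lib.helper7.SPC
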