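import Mathlib
import Cfsg.Prelude.Def_GeometricClasses
import Cfsg.Agent.Lib.Helper27.ASC.Defs
import Cfsg.Agent.Lib.helper6.Symp
import Cfsg.Agent.S5648

/-!
# Project SPX, piece PL2Q : `planes_q2_quad`
-/

set_option autoImplicit false
set_option linter.unusedVariables false
set_option linter.unusedSectionVars false

namespace Cfsg.Agent.Lib.helper6.SPX

open Cfsg Cfsg.Geo Cfsg.Agent.Lib.Helper27.ASC
open scoped MatrixGroups Matrix Kronecker

variable {m : ℕ} {F : Type*} [Field F] [Fintype F]

/-- the polar form of `x ↦ NN D x` is the symplectic form (over the field with two elements) -/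
theorem spxpl2q_polar {t : ℕ} (D : Fin t → Submodule F (Fin m ⊕ Fin m → F))
    (hD : IsNondegenerateMDecomposition (sympForm m F) 2 D) (hq : Fintype.card F = 2)
    (u v : Fin m ⊕ Fin m → F) :
    QuadraticMap.polar (fun x : Fin m ⊕ Fin m → F => (Cfsg.Agent.S5648.NN D x : F)) u v = sympForm m F u v := by
  unfold QuadraticMap.polar
  have h := Cfsg.Agent.S5648.N2 hq D hD u v
  simp only
  rw [h]
  ring

open Classical in
/-- `NN D 0 = 0` -/
theorem spxpl2q_zero {K : Type*} [Field K] {t : ℕ} (D : Fin t → Submodule K (Fin m ⊕ Fin m → K)) :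
    Cfsg.Agent.S5648.NN D (0 : Fin m ⊕ Fin m → K) = 0 := by
  unfold Cfsg.Agent.S5648.NN
  rw [Finset.card_eq_zero, Finset.eq_empty_iff_forall_notMem]
  intro i hi
  obtain ⟨_, z, _, hz⟩ := Finset.mem_filter.mp hi
  exact hz (Cfsg.Agent.Lib.helper6.sympForm_zero_left m z)

/-- PL2Q : over the field with two elements the stabiliser in `Sp_2m` of a decomposition into non-degenerate planes preserves the
quadratic form `Q x = number of non-zero components of x` (mod 2), whose polar form is `f`.
(`Cfsg.Agent.S5648`: `NN D`, `N2`, `stab_NN`, `NN_single` do all the work.) -/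
theorem planes_q2_quad {t : ℕ} (D : Fin t → Submodule F (Fin m ⊕ Fin m → F))
    (hD : IsNondegenerateMDecomposition (sympForm m F) 2 D) (hq : Fintype.card F = 2) :
    ∃ Q : (Fin m ⊕ Fin m → F) → F, IsNondegenerateQuadraticForm Q ∧
      (∀ u v, QuadraticMap.polar Q u v = sympForm m F u v) ∧
      decompositionStabilizer D ⊓ spGL m F ≤ quadSimilarityGroup Q := by
  have hpol := spxpl2q_polar D hD hq
  have hpolfun : QuadraticMap.polar (fun x : Fin m ⊕ Fin m → F => (Cfsg.Agent.S5648.NN D x : F)) = sympForm m F := by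
    funext u v
    exact hpol u v
  refine ⟨fun x => (Cfsg.Agent.S5648.NN D x : F), ⟨?_, ?_, ?_⟩, hpol, ?_⟩
  · intro c v
    rcases Cfsg.Agent.S5648.f2_cases hq c with rfl | rfl
    · simp only [zero_smul]
      rw [spxpl2q_zero]
      simp
    · simp
  · rw [hpolfun]
    exact ⟨fun x y v => Cfsg.Agent.Lib.helper6.sympForm_add_left m x y v,
      fun c x v => Cfsg.Agent.Lib.helper6.sympForm_smul_left m c x v,
      fun v x y => Cfsg.Agent.Lib.helper6.sympForm_add_right m v x y,
      fun c v x => Cfsg.Agent.Lib.helper6.sympForm_smul_right m c v x⟩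
  · rw [hpolfun]
    intro v hv
    obtain ⟨x, hx⟩ := Cfsg.Agent.Lib.helper6.sympForm_nondeg m v hv
    refine ⟨⟨x, ?_⟩, ⟨x, hx⟩⟩
    rw [Cfsg.Agent.Lib.helper6.sympForm_swap m]
    exact neg_ne_zero.mpr hx
  · rintro g ⟨hg, hgS⟩
    refine ⟨1, fun v => ?_⟩
    simp only [Units.val_one, one_mul]
    rw [Cfsg.Agent.S5648.stab_NN D g hg hgS v]

end Cfsg.Agent.Lib.helper6.SPX

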