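import Mathlib
import Cfsg.Prelude.Def_GeometricClasses
import Cfsg.Agent.Lib.Helper27.ASC.Defs
import Cfsg.Agent.Lib.helper6.Symp
import Cfsg.Agent.Lib.Helper28.OTensSp

/-!
# Project SPX, piece T3Q3 : `tensor3_q3_dec`
(the decomposition built inside `Cfsg.Agent.Lib.Helper28.OTensSp.tens3_sp`, exposed)
-/

set_option autoImplicit false
set_option linter.unusedVariables false
set_option linter.unusedSectionVars false

namespace Cfsg.Agent.Lib.helper6.SPX

open Cfsg Cfsg.Geo Cfsg.Agent.Lib.Helper27.ASC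
open scoped MatrixGroups Matrix Kronecker

variable {m : ℕ} {F : Type*} [Field F] [Fintype F]

/-- pairwise orthogonal subspaces on which the form is non-degenerate are independent -/
theorem spxt3q3_indep {t : ℕ} (D : Fin t → Submodule F (Fin m ⊕ Fin m → F))
    (hnd : ∀ i, ∀ w ∈ D i, w ≠ 0 → ∃ x ∈ D i, sympForm m F x w ≠ 0)
    (horth : ∀ i j, i ≠ j → ∀ x ∈ D i, ∀ y ∈ D j, sympForm m F x y = 0) : iSupIndep D := by
  intro i
  rw [Submodule.disjoint_def]
  intro x hxi hx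
  by_contra hx0
  obtain ⟨y, hy, hyx⟩ := hnd i x hxi hx0
  -- the perp of `y`
  let Pp : Submodule F (Fin m ⊕ Fin m → F) :=
    { carrier := {z | sympForm m F y z = 0}
      add_mem' := by
        intro a b ha hb
        show sympForm m F y (a + b) = 0
        rw [Cfsg.Agent.Lib.helper6.sympForm_add_right, ha, hb, add_zero]
      zero_mem' := Cfsg.Agent.Lib.helper6.sympForm_zero_right m y
      smul_mem' := by
        intro c a ha
        show sympForm m F y (c • a) = 0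
        rw [Cfsg.Agent.Lib.helper6.sympForm_smul_right, ha, mul_zero] }
  have hle : (⨆ j, ⨆ (_ : j ≠ i), D j) ≤ Pp := by
    refine iSup_le fun j => iSup_le fun hj => ?_
    intro z hz
    exact horth i j (fun h => hj h.symm) y hy z hz
  exact hyx (hle hx)

/-- T3Q3 : over the field with three elements `GO_3` is monomial, so the stabiliser in `Sp_2m` of a tensor decomposition
`n₁ ⊗ 3` preserves a decomposition into three non-degenerate `n₁`-spaces.
(`Cfsg.Agent.Lib.Helper28.OTensSp.tens3_sp` proves exactly this inside its proof (`frame3`, `blk`, `tens_stab`): expose it.) -/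
theorem tensor3_q3_dec (hq : Fintype.card F = 3) {n₁ : ℕ} (hn₁ : 0 < n₁) (e : (Fin m ⊕ Fin m) ≃ Fin n₁ × Fin 3)
    (P : GL (Fin m ⊕ Fin m) F) (f₁ : (Fin n₁ → F) → (Fin n₁ → F) → F) (f₂ : (Fin 3 → F) → (Fin 3 → F) → F)
    (hf₁ : IsSymplecticForm f₁) (hf₂ : IsSymmetricForm f₂)
    (hT : IsTensorFormStructure id (sympForm m F) f₁ f₂ e P) :
    ∃ D : Fin 3 → Submodule F (Fin m ⊕ Fin m → F), IsNondegenerateMDecomposition (sympForm m F) n₁ D ∧
      tensorProductSubgroup n₁ 3 e P ⊓ spGL m F ≤ decompositionStabilizer D := by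
  classical
  have hcard : 2 * m = n₁ * 3 := by
    have := Fintype.card_congr e
    simp only [Fintype.card_sum, Fintype.card_fin, Fintype.card_prod] at this
    omega
  obtain ⟨e', he'⟩ : ∃ e' : (Fin m ⊕ Fin m) ≃ Fin 3 × Fin n₁,
      e' = e.trans (Equiv.prodComm (Fin n₁) (Fin 3)) := ⟨_, rfl⟩
  obtain ⟨c, hc, hT0⟩ := hT
  have hT' : ∀ x y : Fin 3 × Fin n₁ → F,
      Cfsg.sympForm m F ((P : Matrix (Fin m ⊕ Fin m) (Fin m ⊕ Fin m) F) *ᵥ (x ∘ e'))
        ((P : Matrix (Fin m ⊕ Fin m) (Fin m ⊕ Fin m) F) *ᵥ (y ∘ e')) =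
        c * Cfsg.Geo.formOfGram id (Cfsg.Geo.gramMatrix f₂ ⊗ₖ Cfsg.Geo.gramMatrix f₁) x y := by
    intro x y
    have := hT0 (x ∘ Equiv.prodComm (Fin n₁) (Fin 3)) (y ∘ Equiv.prodComm (Fin n₁) (Fin 3))
    rw [Cfsg.Agent.Lib.Helper28.OTensSp.form_swap] at this
    rw [he']
    exact this
  obtain ⟨X, δ, hδ, hXX, hXo, hXP⟩ := Cfsg.Agent.Lib.Helper28.OTens.frame3 hq hf₂
  have hX0 : ∀ i, X i ≠ 0 := by
    intro i h
    have := hXX i
    rw [h, Cfsg.Agent.Lib.Helper28.OTens.bil_zero_left hf₂.bilinear] at this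
    exact hδ this.symm
  have tf : ∀ α α' v v', Cfsg.sympForm m F (Cfsg.Agent.Lib.Helper28.OTens.tau e' P α v)
      (Cfsg.Agent.Lib.Helper28.OTens.tau e' P α' v') = c * (f₂ α α' * f₁ v v') :=
    fun α α' v v' => Cfsg.Agent.Lib.Helper28.OTens.tform e' P hf₂.bilinear hf₁.bilinear hT' α α' v v'
  obtain ⟨D, hD⟩ : ∃ D : Fin 3 → Submodule F (Fin m ⊕ Fin m → F),
      D = fun i => Cfsg.Agent.Lib.Helper28.OTens.blk e' P (X i) := ⟨_, rfl⟩
  have hDmem : ∀ i w, w ∈ D i ↔ ∃ v, Cfsg.Agent.Lib.Helper28.OTens.tau e' P (X i) v = w := by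
    intro i w
    rw [hD]
    exact Cfsg.Agent.Lib.Helper28.OTens.mem_blk e' P _ _
  have hfr : ∀ i, Module.finrank F (D i) = n₁ := by
    intro i
    rw [hD]
    exact Cfsg.Agent.Lib.Helper28.OTens.blk_finrank e' P (hX0 i)
  have horth : ∀ i j, i ≠ j → ∀ x ∈ D i, ∀ y ∈ D j, Cfsg.sympForm m F x y = 0 := by
    intro i j hij x hx y hy
    obtain ⟨v, rfl⟩ := (hDmem i x).1 hx
    obtain ⟨v', rfl⟩ := (hDmem j y).1 hy
    rw [tf, hXo i j hij]
    ring
  have hnd : ∀ i, ∀ w ∈ D i, w ≠ 0 → ∃ x ∈ D i, Cfsg.sympForm m F x w ≠ 0 := by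
    intro i w hw hw0
    obtain ⟨v, rfl⟩ := (hDmem i w).1 hw
    have hv0 : v ≠ 0 := by
      rintro rfl
      exact hw0 (Cfsg.Agent.Lib.Helper28.OTensSp.tau_zero_right' e' P (X i))
    obtain ⟨⟨x, hx⟩, -⟩ := hf₁.nondegenerate v hv0
    refine ⟨Cfsg.Agent.Lib.Helper28.OTens.tau e' P (X i) x, (hDmem i _).2 ⟨_, rfl⟩, ?_⟩
    rw [tf, hXX]
    exact mul_ne_zero hc (mul_ne_zero hδ hx)
  have hnd₁ : ∃ v v', f₁ v v' ≠ 0 := by
    have h0 : (Pi.single (⟨0, hn₁⟩ : Fin n₁) (1 : F) : Fin n₁ → F) ≠ 0 := by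
      intro h
      have := congrFun h ⟨0, hn₁⟩
      simp at this
    obtain ⟨⟨x, hx⟩, -⟩ := hf₁.nondegenerate _ h0
    exact ⟨x, _, hx⟩
  have hindep : iSupIndep D := spxt3q3_indep D hnd horth
  -- dimension count
  have hd01 : Disjoint (D 0) (D 1) := by
    have := hindep 0
    refine this.mono_right ?_
    exact le_iSup₂_of_le (1 : Fin 3) (by decide) le_rfl
  have hd012 : Disjoint (D 0 ⊔ D 1) (D 2) := by
    have := hindep 2
    refine this.symm.mono_left ?_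
    refine sup_le ?_ ?_
    · exact le_iSup₂_of_le (0 : Fin 3) (by decide) le_rfl
    · exact le_iSup₂_of_le (1 : Fin 3) (by decide) le_rfl
  have hf01 : Module.finrank F (D 0 ⊔ D 1 : Submodule F (Fin m ⊕ Fin m → F)) = 2 * n₁ := by
    have := Submodule.finrank_sup_add_finrank_inf_eq (D 0) (D 1)
    rw [hd01.eq_bot, finrank_bot, hfr, hfr] at this
    omega
  have hf012 : Module.finrank F (D 0 ⊔ D 1 ⊔ D 2 : Submodule F (Fin m ⊕ Fin m → F)) = 3 * n₁ := by
    have := Submodule.finrank_sup_add_finrank_inf_eq (D 0 ⊔ D 1) (D 2)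
    rw [hd012.eq_bot, finrank_bot, hf01, hfr] at this
    omega
  have htop : (D 0 ⊔ D 1 ⊔ D 2 : Submodule F (Fin m ⊕ Fin m → F)) = ⊤ := by
    apply Submodule.eq_top_of_finrank_eq
    rw [hf012, Module.finrank_fintype_fun_eq_card]
    simp only [Fintype.card_sum, Fintype.card_fin]
    omega
  have hsup : iSup D = ⊤ := by
    rw [eq_top_iff, ← htop]
    exact sup_le (sup_le (le_iSup D 0) (le_iSup D 1)) (le_iSup D 2)
  refine ⟨D, ⟨⟨by norm_num, hn₁, hfr, hindep, hsup⟩, ?_, ?_⟩, ?_⟩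
  · intro i w hw hw0
    obtain ⟨x, hx, hxw⟩ := hnd i w hw hw0
    refine ⟨⟨x, hx, hxw⟩, ⟨x, hx, ?_⟩⟩
    rw [Cfsg.Agent.Lib.helper6.sympForm_swap]
    exact neg_ne_zero.mpr hxw
  · intro i j hij
    exact horth i j hij
  · rintro g ⟨hgT, hgS⟩
    rw [hD]
    have hgT' := Cfsg.Agent.Lib.Helper28.OTensSp.tensor_swap_le e P hgT
    rw [← he'] at hgT'
    exact Cfsg.Agent.Lib.Helper28.OTens.tens_stab hq e' P hf₂ hf₁.bilinear hnd₁ hc hT' X δ hδ hXX hXP hXo g hgT'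
      ((Cfsg.Agent.S5646.mem_spGL_iff g).1 hgS)

end Cfsg.Agent.Lib.helper6.SPX

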