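import Mathlib
import Cfsg.Prelude.Def_GeometricClasses
import Cfsg.Agent.Lib.helper6.Symp
import Cfsg.Agent.Lib.helper6.Disc
import Cfsg.Agent.Lib.helper6.SPXU3Na

/-!
# SPX P2-U3, part (B) : a hyperbolic pair for the hermitian form of `j` (`j ^ 2 = -1`, adjoint `-j`) over `F_3`.
-/

set_option autoImplicit false
set_option linter.unusedVariables false
set_option linter.unusedSectionVars false

namespace Cfsg.Agent.Lib.helper6.SPX

open Cfsg Cfsg.Geo
open scoped MatrixGroups Matrix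

variable {m : ℕ} {F : Type*} [Field F]

/-- steps (2) and (3) of U3-BASIS -/
theorem spxu3n_vectors [Fintype F] (hq : Fintype.card F = 3)
    (j : Matrix (Fin 2 ⊕ Fin 2) (Fin 2 ⊕ Fin 2) F) (hj2 : j * j = -1)
    (hjadj : jᵀ * Matrix.J (Fin 2) F = -(Matrix.J (Fin 2) F * j)) :
    ∃ e1 f1 : Fin 2 ⊕ Fin 2 → F, sympForm 2 F e1 (j *ᵥ e1) = 0 ∧ sympForm 2 F f1 (j *ᵥ f1) = 0 ∧
      sympForm 2 F e1 f1 = 1 ∧ sympForm 2 F (j *ᵥ e1) f1 = 0 := by
  classical
  obtain ⟨h3, hF⟩ := spxu3n_three hq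
  have h2 : (2 : F) ≠ 0 := by
    intro h
    have : (1 : F) = 0 := by linear_combination h3 - h
    exact one_ne_zero this
  -- the form identities
  have hadj : ∀ u v : Fin 2 ⊕ Fin 2 → F, sympForm 2 F (j *ᵥ u) v = -sympForm 2 F u (j *ᵥ v) := by
    intro u v
    have := (spxu3n_adj_iff (m := 2) j (-j)).mpr (by rw [hjadj, mul_neg]) u v
    rw [this, Matrix.neg_mulVec, sympForm_neg_right]
  have hjj : ∀ u : Fin 2 ⊕ Fin 2 → F, j *ᵥ (j *ᵥ u) = -u := by
    intro u
    rw [Matrix.mulVec_mulVec, hj2, Matrix.neg_mulVec, Matrix.one_mulVec]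
  have hiso : ∀ u v : Fin 2 ⊕ Fin 2 → F, sympForm 2 F (j *ᵥ u) (j *ᵥ v) = sympForm 2 F u v := by
    intro u v
    rw [hadj, hjj, sympForm_neg_right, neg_neg]
  -- step (2) : an isotropic vector
  obtain ⟨e1, he10, he1⟩ : ∃ e1 : Fin 2 ⊕ Fin 2 → F, e1 ≠ 0 ∧ sympForm 2 F e1 (j *ᵥ e1) = 0 := by
    have hS : (Matrix.J (Fin 2) F * j).IsSymm := by
      unfold Matrix.IsSymm
      rw [Matrix.transpose_mul, Matrix.J_transpose, mul_neg, hjadj, neg_neg]
    have hdet : (Matrix.J (Fin 2) F * j).det ≠ 0 := by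
      have hinv : (Matrix.J (Fin 2) F * j) * (j * Matrix.J (Fin 2) F) = 1 := by
        rw [mul_assoc, ← mul_assoc j, hj2, neg_mul, one_mul, mul_neg, Matrix.J_squared, neg_neg]
      intro h0
      have := congrArg Matrix.det hinv
      rw [Matrix.det_mul, h0, zero_mul, Matrix.det_one] at this
      exact zero_ne_one this
    have hfr : 3 ≤ Module.finrank F (Fin 2 ⊕ Fin 2 → F) := by
      rw [Module.finrank_fintype_fun_eq_card]
      simp
    obtain ⟨x, hx0, hx⟩ := Disc.exists_isotropic_of_three_le h2 (Matrix.toBilin' (Matrix.J (Fin 2) F * j))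
      (Matrix.isSymm_toBilin'_iff_isSymm.mpr hS) (LinearMap.BilinForm.nondegenerate_toBilin'_of_det_ne_zero' _ hdet) hfr
    refine ⟨x, hx0, ?_⟩
    rw [Matrix.toBilin'_apply'] at hx
    unfold sympForm
    rw [Matrix.mulVec_mulVec]
    exact hx
  -- step (3)
  obtain ⟨y0, hy0⟩ : ∃ y0, sympForm 2 F e1 y0 = 1 := by
    obtain ⟨x, hx⟩ := sympForm_nondeg 2 e1 he10
    refine ⟨(sympForm 2 F e1 x)⁻¹ • x, ?_⟩
    rw [sympForm_smul_right, inv_mul_cancel₀ hx]
  set c : F := sympForm 2 F (j *ᵥ e1) y0 with hc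
  have hc1 : 1 + c ^ 2 ≠ 0 := by
    rcases hF c with h | h | h <;> rw [h] <;> intro h0
    · norm_num at h0
    · apply h2; linear_combination h0
    · apply h2; linear_combination h0
  obtain ⟨y, hy⟩ : ∃ y, y = (1 + c ^ 2)⁻¹ • (y0 - c • (j *ᵥ y0)) := ⟨_, rfl⟩
  have hy1 : sympForm 2 F e1 y = 1 := by
    rw [hy, sympForm_smul_right, sympForm_sub_right, sympForm_smul_right, hy0]
    have : sympForm 2 F e1 (j *ᵥ y0) = -c := by
      rw [hc, hadj, neg_neg]
    rw [this, mul_neg, sub_neg_eq_add, ← pow_two, inv_mul_cancel₀ hc1]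
  have hy2 : sympForm 2 F (j *ᵥ e1) y = 0 := by
    rw [hy, sympForm_smul_right, sympForm_sub_right, sympForm_smul_right, hiso, hy0, ← hc]
    ring
  set β : F := sympForm 2 F y (j *ᵥ y) with hβ
  obtain ⟨f1, hf1⟩ : ∃ f1, f1 = y + β • (j *ᵥ e1) := ⟨_, rfl⟩
  have hself : ∀ u : Fin 2 ⊕ Fin 2 → F, sympForm 2 F u u = 0 := fun u => sympForm_self 2 u
  refine ⟨e1, f1, he1, ?_, ?_, ?_⟩
  · rw [hf1, Matrix.mulVec_add, Matrix.mulVec_smul, hjj, sympForm_add_left, sympForm_add_right, sympForm_add_right,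
      sympForm_smul_left, sympForm_smul_left, sympForm_smul_right, sympForm_smul_right, sympForm_neg_right,
      sympForm_neg_right, ← hβ]
    have e1' : sympForm 2 F y e1 = -1 := by rw [sympForm_swap, hy1]
    have e2' : sympForm 2 F (j *ᵥ e1) (j *ᵥ y) = 1 := by rw [hiso, hy1]
    have e3' : sympForm 2 F (j *ᵥ e1) e1 = 0 := by rw [sympForm_swap, he1, neg_zero]
    rw [e1', e2', e3']
    linear_combination β * h3
  · rw [hf1, sympForm_add_right, sympForm_smul_right, hy1, he1, mul_zero, add_zero]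
  · rw [hf1, sympForm_add_right, sympForm_smul_right, hy2, hself, mul_zero, add_zero]

end Cfsg.Agent.Lib.helper6.SPX
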