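import Mathlib
import Cfsg.Prelude.Def_GeometricClasses
import Cfsg.Agent.Lib.helper6.Symp
import Cfsg.Agent.S5646
import Cfsg.Agent.Lib.helper6.SPXU3Nb

/-!
# SPX P2-U3, part (B'), step (4) : a symplectic frame is the image of the standard basis under an element of `Sp`.
-/

set_option autoImplicit false
set_option linter.unusedVariables false
set_option linter.unusedSectionVars false

namespace Cfsg.Agent.Lib.helper6.SPX

open Cfsg Cfsg.Geo
open scoped MatrixGroups Matrix

variable {m : ℕ} {F : Type*} [Field F]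

/-- the value of `sympForm` on two standard basis vectors is the entry of `J` -/
theorem spxu3n_form_single (a b : Fin m ⊕ Fin m) :
    sympForm m F (Pi.single a 1) (Pi.single b 1) = Matrix.J (Fin m) F a b := by
  unfold sympForm
  rw [Matrix.mulVec_single_one, single_one_dotProduct]
  rfl

/-- a symplectic frame gives an element of the symplectic group -/
theorem spxu3n_frame (c : Fin m ⊕ Fin m → (Fin m ⊕ Fin m → F))
    (hc : ∀ a b, sympForm m F (c a) (c b) = Matrix.J (Fin m) F a b) :
    ∃ B : GL (Fin m ⊕ Fin m) F, B ∈ spGL m F ∧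
      (B : Matrix (Fin m ⊕ Fin m) (Fin m ⊕ Fin m) F) = Matrix.of (fun i a => c a i) := by
  set M : Matrix (Fin m ⊕ Fin m) (Fin m ⊕ Fin m) F := Matrix.of (fun i a => c a i) with hM
  have hcol : ∀ a, M *ᵥ Pi.single a 1 = c a := by
    intro a
    rw [Matrix.mulVec_single_one]
    ext i
    rfl
  have hMJ : Mᵀ * Matrix.J (Fin m) F * M = Matrix.J (Fin m) F := by
    ext a b
    rw [← hc a b]
    unfold sympForm
    simp only [Matrix.mul_apply, Matrix.transpose_apply, dotProduct, Matrix.mulVec, hM, Matrix.of_apply,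
      Finset.sum_mul, Finset.mul_sum]
    rw [Finset.sum_comm]
    apply Finset.sum_congr rfl
    intro i _
    apply Finset.sum_congr rfl
    intro k _
    ring
  have hsp : M ∈ Matrix.symplecticGroup (Fin m) F := SymplecticGroup.mem_iff'.mpr hMJ
  have hinv1 : M * (-(Matrix.J (Fin m) F) * Mᵀ * Matrix.J (Fin m) F) = 1 := by
    have := SymplecticGroup.mem_iff.mp hsp
    calc M * (-(Matrix.J (Fin m) F) * Mᵀ * Matrix.J (Fin m) F)
        = -((M * Matrix.J (Fin m) F * Mᵀ) * Matrix.J (Fin m) F) := by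
          simp only [neg_mul, mul_neg, mul_assoc]
      _ = 1 := by rw [this, Matrix.J_squared, neg_neg]
  have hinv2 : (-(Matrix.J (Fin m) F) * Mᵀ * Matrix.J (Fin m) F) * M = 1 := by
    calc (-(Matrix.J (Fin m) F) * Mᵀ * Matrix.J (Fin m) F) * M
        = -(Matrix.J (Fin m) F * (Mᵀ * Matrix.J (Fin m) F * M)) := by
          simp only [neg_mul, mul_assoc]
      _ = 1 := by rw [hMJ, Matrix.J_squared, neg_neg]
  refine ⟨⟨M, _, hinv1, hinv2⟩, ?_, rfl⟩
  rw [Cfsg.Agent.S5646.mem_spGL_iff]
  exact (mem_symplecticGroup_iff_sympForm m M).mp hsp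

/-- the intertwining relation, checked on the frame -/
theorem spxu3n_intertwine (c : Fin m ⊕ Fin m → (Fin m ⊕ Fin m → F))
    (j N : Matrix (Fin m ⊕ Fin m) (Fin m ⊕ Fin m) F)
    (hj : ∀ a, j *ᵥ c a = ∑ b, N b a • c b) :
    j * Matrix.of (fun i a => c a i) = Matrix.of (fun i a => c a i) * N := by
  ext i a
  have h := congrFun (hj a) i
  rw [Matrix.mul_apply, Matrix.mul_apply]
  simp only [Matrix.of_apply]
  rw [Matrix.mulVec, dotProduct] at h
  rw [h, Finset.sum_apply]
  apply Finset.sum_congr rfl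
  intro b _
  rw [Pi.smul_apply, smul_eq_mul, mul_comm]

end Cfsg.Agent.Lib.helper6.SPX
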