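import Mathlib
import Cfsg.Prelude.Def_GeometricClasses
import Cfsg.Agent.Lib.Helper27.ASC.Defs
import Cfsg.Agent.Lib.helper6.SPXU3Nc

set_option autoImplicit false
set_option linter.unusedVariables false
set_option linter.unusedSectionVars false

namespace Cfsg.Agent.Lib.helper6.SPX

open Cfsg Cfsg.Geo Cfsg.Agent.Lib.Helper27.ASC
open scoped MatrixGroups Matrix Kronecker

variable {F : Type*} [Field F]

/-- step (4) of U3-BASIS : the symplectic matrix with columns `f1, j f1, e1, j e1` -/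
theorem spxu3n_basis_core (j : Matrix (Fin 2 ⊕ Fin 2) (Fin 2 ⊕ Fin 2) F) (hj2 : j * j = -1)
    (hjadj : jᵀ * Matrix.J (Fin 2) F = -(Matrix.J (Fin 2) F * j)) (e1 f1 : Fin 2 ⊕ Fin 2 → F)
    (h1 : sympForm 2 F e1 (j *ᵥ e1) = 0) (h2 : sympForm 2 F f1 (j *ᵥ f1) = 0) (h3 : sympForm 2 F e1 f1 = 1)
    (h4 : sympForm 2 F (j *ᵥ e1) f1 = 0) :
    ∃ B : GL (Fin 2 ⊕ Fin 2) F, B ∈ spGL 2 F ∧
      j * (B : Matrix (Fin 2 ⊕ Fin 2) (Fin 2 ⊕ Fin 2) F) =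
        (B : Matrix (Fin 2 ⊕ Fin 2) (Fin 2 ⊕ Fin 2) F) * Matrix.fromBlocks !![0, -1; 1, 0] 0 0 !![0, -1; 1, 0] := by
  have hadj : ∀ u v : Fin 2 ⊕ Fin 2 → F, sympForm 2 F (j *ᵥ u) v = -sympForm 2 F u (j *ᵥ v) := by
    intro u v
    have := (spxu3n_adj_iff (m := 2) j (-j)).mpr (by rw [hjadj, mul_neg]) u v
    rw [this, Matrix.neg_mulVec, sympForm_neg_right]
  have hjj : ∀ u : Fin 2 ⊕ Fin 2 → F, j *ᵥ (j *ᵥ u) = -u := by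
    intro u
    rw [Matrix.mulVec_mulVec, hj2, Matrix.neg_mulVec, Matrix.one_mulVec]
  have hiso : ∀ u v : Fin 2 ⊕ Fin 2 → F, sympForm 2 F (j *ᵥ u) (j *ᵥ v) = sympForm 2 F u v := by
    intro u v
    rw [hadj, hjj, sympForm_neg_right, neg_neg]
  have hself : ∀ u : Fin 2 ⊕ Fin 2 → F, sympForm 2 F u u = 0 := fun u => sympForm_self 2 u
  have hsw : ∀ u v : Fin 2 ⊕ Fin 2 → F, sympForm 2 F u v = -sympForm 2 F v u := fun u v => sympForm_swap 2 u v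
  -- the table
  have t1 : sympForm 2 F (j *ᵥ f1) f1 = 0 := by rw [hsw, h2, neg_zero]
  have t2 : sympForm 2 F f1 e1 = -1 := by rw [hsw, h3]
  have t3 : sympForm 2 F f1 (j *ᵥ e1) = 0 := by rw [hsw, h4, neg_zero]
  have t4 : sympForm 2 F (j *ᵥ f1) e1 = 0 := by rw [hadj, t3, neg_zero]
  have t5 : sympForm 2 F (j *ᵥ f1) (j *ᵥ e1) = -1 := by rw [hiso, t2]
  have t6 : sympForm 2 F e1 (j *ᵥ f1) = 0 := by rw [hsw, t4, neg_zero]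
  have t7 : sympForm 2 F (j *ᵥ e1) (j *ᵥ f1) = 1 := by rw [hiso, h3]
  have t8 : sympForm 2 F (j *ᵥ e1) e1 = 0 := by rw [hsw, h1, neg_zero]
  set c : Fin 2 ⊕ Fin 2 → (Fin 2 ⊕ Fin 2 → F) := Sum.elim ![f1, j *ᵥ f1] ![e1, j *ᵥ e1] with hcdef
  have hc : ∀ a b, sympForm 2 F (c a) (c b) = Matrix.J (Fin 2) F a b := by
    intro a b
    rcases a with a | a <;> rcases b with b | b <;> fin_cases a <;> fin_cases b <;>
      simp [hcdef, Matrix.J, hself, h1, h2, h3, h4, t1, t2, t3, t4, t5, t6, t7, t8]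
  obtain ⟨B, hB, hBM⟩ := spxu3n_frame c hc
  refine ⟨B, hB, ?_⟩
  rw [hBM]
  apply spxu3n_intertwine
  intro a
  rw [Fintype.sum_sum_type, Fin.sum_univ_two, Fin.sum_univ_two]
  rcases a with a | a <;> fin_cases a <;> simp [hcdef, hjj]

/-- U3-BASIS -/
theorem fieldu_q3_basis [Fintype F] (hq : Fintype.card F = 3)
    (K : Subalgebra F (Matrix (Fin 2 ⊕ Fin 2) (Fin 2 ⊕ Fin 2) F))
    (hK : IsFieldSubalgebra 2 K) (hac : IsAdjointClosedFor (sympForm 2 F) K)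
    (hnsa : ¬ IsSelfAdjointFor (sympForm 2 F) K) :
    ∃ B : GL (Fin 2 ⊕ Fin 2) F, B ∈ spGL 2 F ∧
      ∀ k : Matrix (Fin 2 ⊕ Fin 2) (Fin 2 ⊕ Fin 2) F, k ∈ K ↔
        ∃ x y : F, k = (B : Matrix (Fin 2 ⊕ Fin 2) (Fin 2 ⊕ Fin 2) F) *
          (x • (1 : Matrix (Fin 2 ⊕ Fin 2) (Fin 2 ⊕ Fin 2) F) +
            y • Matrix.fromBlocks !![0, -1; 1, 0] 0 0 !![0, -1; 1, 0]) *
          ((B⁻¹ : GL (Fin 2 ⊕ Fin 2) F) : Matrix (Fin 2 ⊕ Fin 2) (Fin 2 ⊕ Fin 2) F) := by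
  obtain ⟨j, hjK, hj2, hjadj, hmem⟩ := spxu3n_omega hq K hK hac hnsa
  obtain ⟨e1, f1, h1, h2, h3, h4⟩ := spxu3n_vectors hq j hj2 hjadj
  obtain ⟨B, hB, hBj⟩ := spxu3n_basis_core j hj2 hjadj e1 f1 h1 h2 h3 h4
  refine ⟨B, hB, ?_⟩
  have hBB : (B : Matrix (Fin 2 ⊕ Fin 2) (Fin 2 ⊕ Fin 2) F) *
      ((B⁻¹ : GL (Fin 2 ⊕ Fin 2) F) : Matrix (Fin 2 ⊕ Fin 2) (Fin 2 ⊕ Fin 2) F) = 1 := by
    rw [← Units.val_mul, mul_inv_cancel, Units.val_one]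
  have hconj : ∀ x y : F, (B : Matrix (Fin 2 ⊕ Fin 2) (Fin 2 ⊕ Fin 2) F) *
      (x • (1 : Matrix (Fin 2 ⊕ Fin 2) (Fin 2 ⊕ Fin 2) F) +
        y • Matrix.fromBlocks !![0, -1; 1, 0] 0 0 !![0, -1; 1, 0]) *
      ((B⁻¹ : GL (Fin 2 ⊕ Fin 2) F) : Matrix (Fin 2 ⊕ Fin 2) (Fin 2 ⊕ Fin 2) F) =
      x • (1 : Matrix (Fin 2 ⊕ Fin 2) (Fin 2 ⊕ Fin 2) F) + y • j := by
    intro x y
    rw [mul_add, add_mul, Matrix.mul_smul, Matrix.smul_mul, Matrix.mul_smul, Matrix.smul_mul, mul_one, hBB,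
      ← hBj, mul_assoc, hBB, mul_one]
  intro k
  rw [hmem]
  constructor
  · rintro ⟨x, y, h⟩
    exact ⟨x, y, by rw [hconj, h]⟩
  · rintro ⟨x, y, h⟩
    exact ⟨x, y, by rw [h, hconj]⟩

end Cfsg.Agent.Lib.helper6.SPX
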