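import Mathlib
import Cfsg.Prelude.Def_GeometricClasses
import Cfsg.Agent.Lib.Helper27.ASC.Defs
import Cfsg.Agent.Lib.Helper1.SPXPR6
import Cfsg.Agent.Lib.helper6.SPXU3BASIS
import Cfsg.Agent.Lib.Helper21.SPXU3MODEL

/-!
# Project SPX, phase 2, piece P2-U3 : `field_q3_not_max` = `fieldu_q3_basis` + `fieldu_q3_model` (helper21) + `pr_sp_sympl`
(helper1) + conjugation glue.
-/

set_option autoImplicit false
set_option linter.unusedVariables false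
set_option linter.unusedSectionVars false

namespace Cfsg.Agent.Lib.helper6.SPX

open Cfsg Cfsg.Geo Cfsg.Agent.Lib.Helper27.ASC
open scoped MatrixGroups Matrix Kronecker

variable {m : ℕ} {F : Type*} [Field F] [Fintype F]

theorem field_q3_not_max (hq : Fintype.card F = 3) (K : Subalgebra F (Matrix (Fin 2 ⊕ Fin 2) (Fin 2 ⊕ Fin 2) F))
    (hK : IsFieldSubalgebra 2 K) (hac : IsAdjointClosedFor (sympForm 2 F) K)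
    (hnsa : ¬ IsSelfAdjointFor (sympForm 2 F) K) :
    ¬ IsMaximalIn (spGL 2 F) (subalgebraNormalizer K ⊓ spGL 2 F) := by
  obtain ⟨B, hB, hKB⟩ := fieldu_q3_basis hq K hK hac hnsa
  obtain ⟨R, g0, hR2, hRirr, hRsim, hnorm, hg0sp, hg0N, hg0⟩ := fieldu_q3_model (F := F) hq
  intro hmax
  obtain ⟨i0, hi0⟩ : ∃ i0 : Matrix (Fin 2 ⊕ Fin 2) (Fin 2 ⊕ Fin 2) F,
      i0 = Matrix.fromBlocks !![0, -1; 1, 0] 0 0 !![0, -1; 1, 0] := ⟨_, rfl⟩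
  rw [← hi0] at hKB hnorm hg0
  have hBB : (B : Matrix (Fin 2 ⊕ Fin 2) (Fin 2 ⊕ Fin 2) F) *
      ((B⁻¹ : GL (Fin 2 ⊕ Fin 2) F) : Matrix (Fin 2 ⊕ Fin 2) (Fin 2 ⊕ Fin 2) F) = 1 := by
    rw [← Units.val_mul, mul_inv_cancel, Units.val_one]
  have hBB' : ((B⁻¹ : GL (Fin 2 ⊕ Fin 2) F) : Matrix (Fin 2 ⊕ Fin 2) (Fin 2 ⊕ Fin 2) F) *
      (B : Matrix (Fin 2 ⊕ Fin 2) (Fin 2 ⊕ Fin 2) F) = 1 := by
    rw [← Units.val_mul, inv_mul_cancel, Units.val_one]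
  -- `B i0 B⁻¹ ∈ K`
  have hiK : (B : Matrix (Fin 2 ⊕ Fin 2) (Fin 2 ⊕ Fin 2) F) * i0 *
      ((B⁻¹ : GL (Fin 2 ⊕ Fin 2) F) : Matrix (Fin 2 ⊕ Fin 2) (Fin 2 ⊕ Fin 2) F) ∈ K := by
    rw [hKB]
    exact ⟨0, 1, by rw [zero_smul, one_smul, zero_add]⟩
  -- cancellation of the conjugation by `B`
  have hcancel : ∀ X Y : Matrix (Fin 2 ⊕ Fin 2) (Fin 2 ⊕ Fin 2) F,
      (B : Matrix (Fin 2 ⊕ Fin 2) (Fin 2 ⊕ Fin 2) F) * X *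
        ((B⁻¹ : GL (Fin 2 ⊕ Fin 2) F) : Matrix (Fin 2 ⊕ Fin 2) (Fin 2 ⊕ Fin 2) F) =
      (B : Matrix (Fin 2 ⊕ Fin 2) (Fin 2 ⊕ Fin 2) F) * Y *
        ((B⁻¹ : GL (Fin 2 ⊕ Fin 2) F) : Matrix (Fin 2 ⊕ Fin 2) (Fin 2 ⊕ Fin 2) F) → X = Y := by
    intro X Y h
    have := congrArg (fun Z => ((B⁻¹ : GL (Fin 2 ⊕ Fin 2) F) : Matrix (Fin 2 ⊕ Fin 2) (Fin 2 ⊕ Fin 2) F) * Z *
      (B : Matrix (Fin 2 ⊕ Fin 2) (Fin 2 ⊕ Fin 2) F)) h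
    simp only [mul_assoc, hBB', mul_one] at this
    simp only [← mul_assoc, hBB', one_mul] at this
    exact this
  -- the key property: a normalising `g` conjugates `i0` suitably after conjugation by `B`
  have hkey : ∀ g : GL (Fin 2 ⊕ Fin 2) F, g ∈ subalgebraNormalizer K →
      ∃ x y : F, ((B⁻¹ * g * B : GL (Fin 2 ⊕ Fin 2) F) : Matrix (Fin 2 ⊕ Fin 2) (Fin 2 ⊕ Fin 2) F) * i0 *
        (((B⁻¹ * g * B)⁻¹ : GL (Fin 2 ⊕ Fin 2) F) : Matrix (Fin 2 ⊕ Fin 2) (Fin 2 ⊕ Fin 2) F) =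
        x • (1 : Matrix (Fin 2 ⊕ Fin 2) (Fin 2 ⊕ Fin 2) F) + y • i0 := by
    intro g hg
    have h1 := (hg _).mp hiK
    rw [hKB] at h1
    obtain ⟨x, y, hxy⟩ := h1
    refine ⟨x, y, ?_⟩
    apply hcancel
    rw [← hxy]
    have hinv : (((B⁻¹ * g * B)⁻¹ : GL (Fin 2 ⊕ Fin 2) F) : Matrix (Fin 2 ⊕ Fin 2) (Fin 2 ⊕ Fin 2) F) =
        ((B⁻¹ : GL (Fin 2 ⊕ Fin 2) F) : Matrix (Fin 2 ⊕ Fin 2) (Fin 2 ⊕ Fin 2) F) *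
        ((g⁻¹ : GL (Fin 2 ⊕ Fin 2) F) : Matrix (Fin 2 ⊕ Fin 2) (Fin 2 ⊕ Fin 2) F) *
        (B : Matrix (Fin 2 ⊕ Fin 2) (Fin 2 ⊕ Fin 2) F) := by
      rw [mul_inv_rev, mul_inv_rev, inv_inv, Units.val_mul, Units.val_mul, mul_assoc]
    rw [hinv, Units.val_mul, Units.val_mul]
    calc (B : Matrix (Fin 2 ⊕ Fin 2) (Fin 2 ⊕ Fin 2) F) *
          (((B⁻¹ : GL (Fin 2 ⊕ Fin 2) F) : Matrix (Fin 2 ⊕ Fin 2) (Fin 2 ⊕ Fin 2) F) *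
            (g : Matrix (Fin 2 ⊕ Fin 2) (Fin 2 ⊕ Fin 2) F) * (B : Matrix (Fin 2 ⊕ Fin 2) (Fin 2 ⊕ Fin 2) F) * i0 *
            (((B⁻¹ : GL (Fin 2 ⊕ Fin 2) F) : Matrix (Fin 2 ⊕ Fin 2) (Fin 2 ⊕ Fin 2) F) *
              ((g⁻¹ : GL (Fin 2 ⊕ Fin 2) F) : Matrix (Fin 2 ⊕ Fin 2) (Fin 2 ⊕ Fin 2) F) *
              (B : Matrix (Fin 2 ⊕ Fin 2) (Fin 2 ⊕ Fin 2) F))) *
          ((B⁻¹ : GL (Fin 2 ⊕ Fin 2) F) : Matrix (Fin 2 ⊕ Fin 2) (Fin 2 ⊕ Fin 2) F)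
        = ((B : Matrix (Fin 2 ⊕ Fin 2) (Fin 2 ⊕ Fin 2) F) *
            ((B⁻¹ : GL (Fin 2 ⊕ Fin 2) F) : Matrix (Fin 2 ⊕ Fin 2) (Fin 2 ⊕ Fin 2) F)) *
          (g : Matrix (Fin 2 ⊕ Fin 2) (Fin 2 ⊕ Fin 2) F) * ((B : Matrix (Fin 2 ⊕ Fin 2) (Fin 2 ⊕ Fin 2) F) * i0 *
            ((B⁻¹ : GL (Fin 2 ⊕ Fin 2) F) : Matrix (Fin 2 ⊕ Fin 2) (Fin 2 ⊕ Fin 2) F)) *
          ((g⁻¹ : GL (Fin 2 ⊕ Fin 2) F) : Matrix (Fin 2 ⊕ Fin 2) (Fin 2 ⊕ Fin 2) F) *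
          ((B : Matrix (Fin 2 ⊕ Fin 2) (Fin 2 ⊕ Fin 2) F) *
            ((B⁻¹ : GL (Fin 2 ⊕ Fin 2) F) : Matrix (Fin 2 ⊕ Fin 2) (Fin 2 ⊕ Fin 2) F)) := by
          simp only [mul_assoc]
      _ = _ := by rw [hBB, one_mul, mul_one]
  -- conjugation by `B` preserves `Sp`
  have hS : ∀ g : GL (Fin 2 ⊕ Fin 2) F, g ∈ spGL 2 F ↔ B⁻¹ * g * B ∈ spGL 2 F := by
    intro g
    constructor
    · intro hg
      exact (spGL 2 F).mul_mem ((spGL 2 F).mul_mem ((spGL 2 F).inv_mem hB) hg) hB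
    · intro hg
      have e : g = B * (B⁻¹ * g * B) * B⁻¹ := by group
      rw [e]
      exact (spGL 2 F).mul_mem ((spGL 2 F).mul_mem hB hg) ((spGL 2 F).inv_mem hB)
  -- the intermediate subgroup
  let M : Subgroup (GL (Fin 2 ⊕ Fin 2) F) :=
    (subgroupNormalizer R ⊓ spGL 2 F).comap (MulAut.conj B⁻¹).toMonoidHom
  have hM : ∀ g, g ∈ M ↔ B⁻¹ * g * B ∈ subgroupNormalizer R ⊓ spGL 2 F := by
    intro g
    show (MulAut.conj B⁻¹) g ∈ subgroupNormalizer R ⊓ spGL 2 F ↔ _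
    rw [MulAut.conj_apply, inv_inv]
  have hHM : subalgebraNormalizer K ⊓ spGL 2 F ≤ M := by
    intro g hg
    rw [hM]
    have hgs := (hS g).mp hg.2
    exact ⟨hnorm _ hgs (hkey g hg.1), hgs⟩
  have hMS : M ≤ spGL 2 F := by
    intro g hg
    exact (hS g).mpr ((hM g).mp hg).2
  rcases hmax.2 M hHM hMS with h | h
  · -- `M = H` : `B g0 B⁻¹` normalises `K`
    have hgM : B * g0 * B⁻¹ ∈ M := by
      rw [hM]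
      have e : B⁻¹ * (B * g0 * B⁻¹) * B = g0 := by group
      rw [e]
      exact ⟨hg0N, hg0sp⟩
    rw [h] at hgM
    obtain ⟨x, y, hxy⟩ := hkey _ hgM.1
    have e : B⁻¹ * (B * g0 * B⁻¹) * B = g0 := by group
    rw [e] at hxy
    exact hg0 x y hxy
  · -- `M = Sp` : `Sp` normalises `R`
    have hex : ¬ (2 = 2 ∧ Fintype.card F = 2) := by
      rintro ⟨_, h2⟩
      rw [hq] at h2
      omega
    have hodd : Odd (Fintype.card F) := by rw [hq]; decide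
    apply pr_sp_sympl (le_refl 2) hex hodd R hR2 hRirr hRsim
    intro g hg
    have hgM : B * g * B⁻¹ ∈ M := by
      rw [h]
      exact (spGL 2 F).mul_mem ((spGL 2 F).mul_mem hB hg) ((spGL 2 F).inv_mem hB)
    rw [hM] at hgM
    have e : B⁻¹ * (B * g * B⁻¹) * B = g := by group
    rw [e] at hgM
    exact hgM.1

end Cfsg.Agent.Lib.helper6.SPX
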