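import Mathlib

set_option autoImplicit false
set_option linter.unusedVariables false
set_option linter.unusedSectionVars false

namespace Cfsg.Agent.Lib.helper6.SPX

open scoped Matrix Kronecker

section Frobenius

variable {K : Type*} [Field K]

/-- the polar form of the determinant of `2 × 2` matrices -/
def spxt24simB (X Y : Matrix (Fin 2) (Fin 2) K) : K := (X + Y).det - X.det - Y.det

theorem spxt24simB_eq (X Y : Matrix (Fin 2) (Fin 2) K) :
    spxt24simB X Y = X 0 0 * Y 1 1 + X 1 1 * Y 0 0 - X 0 1 * Y 1 0 - X 1 0 * Y 0 1 := by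
  unfold spxt24simB
  simp only [Matrix.det_fin_two, Matrix.add_apply]
  ring

theorem spxt24sim_polar (g : Matrix (Fin 2) (Fin 2) K →ₗ[K] Matrix (Fin 2) (Fin 2) K) (μ : K)
    (hg : ∀ X, (g X).det = μ * X.det) (X Y : Matrix (Fin 2) (Fin 2) K) :
    spxt24simB (g X) (g Y) = μ * spxt24simB X Y := by
  unfold spxt24simB
  rw [← map_add, hg, hg, hg]
  ring

theorem spxt24sim_decomp (X : Matrix (Fin 2) (Fin 2) K) :
    X = X 0 0 • !![(1 : K), 0; 0, 0] + X 0 1 • !![(0 : K), 1; 0, 0] + X 1 0 • !![(0 : K), 0; 1, 0] +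
      X 1 1 • !![(0 : K), 0; 0, 1] := by
  ext i j
  fin_cases i <;> fin_cases j <;> simp

theorem spxt24sim_apply (g : Matrix (Fin 2) (Fin 2) K →ₗ[K] Matrix (Fin 2) (Fin 2) K)
    (X : Matrix (Fin 2) (Fin 2) K) :
    g X = X 0 0 • g !![(1 : K), 0; 0, 0] + X 0 1 • g !![(0 : K), 1; 0, 0] + X 1 0 • g !![(0 : K), 0; 1, 0] +
      X 1 1 • g !![(0 : K), 0; 0, 1] := by
  conv_lhs => rw [spxt24sim_decomp X]
  simp only [map_add, map_smul]

theorem spxt24sim_one : (1 : Matrix (Fin 2) (Fin 2) K) = !![(1 : K), 0; 0, 0] + !![(0 : K), 0; 0, 1] := by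
  ext i j
  fin_cases i <;> fin_cases j <;> simp

/-- an idempotent of trace one is conjugate to `E₀₀` -/
theorem spxt24sim_idem (E : Matrix (Fin 2) (Fin 2) K) (htr : E 0 0 + E 1 1 = 1) (hdet : E.det = 0) :
    ∃ C : Matrix (Fin 2) (Fin 2) K, C.det ≠ 0 ∧ E * C = C * !![(1 : K), 0; 0, 0] := by
  rw [Matrix.det_fin_two] at hdet
  by_cases ha : E 0 0 = 0
  · by_cases hd : E 1 1 = 0
    · exfalso
      rw [ha, hd] at htr
      simp at htr
    · -- `d ≠ 0` : columns `c₁ = (b, d)`, `c'₀ = (d, -c)`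
      refine ⟨!![E 0 1, E 1 1; E 1 1, - E 1 0], ?_, ?_⟩
      · rw [Matrix.det_fin_two_of]
        intro h
        apply hd
        have h1 : E 1 1 = 1 := by rw [ha] at htr; simpa using htr
        have : E 1 1 * E 1 1 = 0 := by
          have h2 : E 0 1 * E 1 0 = 0 := by rw [ha] at hdet; linear_combination -hdet
          linear_combination -h - h2
        exact (mul_self_eq_zero.mp this)
      · ext i j
        fin_cases i <;> fin_cases j <;> simp [Matrix.mul_apply, Fin.sum_univ_two]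
        · linear_combination (E 0 1) * htr
        · linear_combination hdet
        · linear_combination (E 1 1) * htr - hdet
        · ring
  · -- `a ≠ 0` : columns `c₀ = (a, c)`, `c'₁ = (-b, a)`
    refine ⟨!![E 0 0, - E 0 1; E 1 0, E 0 0], ?_, ?_⟩
    · rw [Matrix.det_fin_two_of]
      intro h
      apply ha
      have : E 0 0 * (E 0 0 + E 1 1) = 0 := by linear_combination h + hdet
      rw [htr, mul_one] at this
      exact this
    · ext i j
      fin_cases i <;> fin_cases j <;> simp [Matrix.mul_apply, Fin.sum_univ_two]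
      · linear_combination (E 0 0) * htr - hdet
      · ring
      · linear_combination (E 1 0) * htr
      · linear_combination hdet

/-- the normalised case: `g 1 = 1`, `g E₀₀ = E₀₀` -/
theorem spxt24sim_norm2 (g : Matrix (Fin 2) (Fin 2) K →ₗ[K] Matrix (Fin 2) (Fin 2) K)
    (hg : ∀ X, (g X).det = X.det) (h1 : g 1 = 1) (hE : g !![(1 : K), 0; 0, 0] = !![(1 : K), 0; 0, 0]) :
    ∃ A B : Matrix (Fin 2) (Fin 2) K, A.det ≠ 0 ∧ B.det ≠ 0 ∧
      ((∀ X, g X = A * X * B) ∨ (∀ X, g X = A * Xᵀ * B)) := by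
  have hB : ∀ X Y, spxt24simB (g X) (g Y) = spxt24simB X Y := by
    intro X Y
    have := spxt24sim_polar g 1 (by intro X; rw [one_mul]; exact hg X) X Y
    rw [one_mul] at this
    exact this
  have hE11 : g !![(0 : K), 0; 0, 1] = !![(0 : K), 0; 0, 1] := by
    have h := h1
    rw [spxt24sim_one, map_add, hE] at h
    have h2 : g !![(0 : K), 0; 0, 1] = (!![(1 : K), 0; 0, 0] + !![(0 : K), 0; 0, 1]) - !![(1 : K), 0; 0, 0] := by
      rw [← h]; abel
    rw [h2]; abel
  obtain ⟨M, hM⟩ : ∃ M, M = g !![(0 : K), 1; 0, 0] := ⟨_, rfl⟩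
  obtain ⟨N, hN⟩ : ∃ N, N = g !![(0 : K), 0; 1, 0] := ⟨_, rfl⟩
  have hM11 : M 1 1 = 0 := by
    have := hB !![(0 : K), 1; 0, 0] !![(1 : K), 0; 0, 0]
    rw [hE, ← hM, spxt24simB_eq, spxt24simB_eq] at this
    simpa using this
  have hM00 : M 0 0 = 0 := by
    have := hB !![(0 : K), 1; 0, 0] !![(0 : K), 0; 0, 1]
    rw [hE11, ← hM, spxt24simB_eq, spxt24simB_eq] at this
    simpa using this
  have hN11 : N 1 1 = 0 := by
    have := hB !![(0 : K), 0; 1, 0] !![(1 : K), 0; 0, 0]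
    rw [hE, ← hN, spxt24simB_eq, spxt24simB_eq] at this
    simpa using this
  have hN00 : N 0 0 = 0 := by
    have := hB !![(0 : K), 0; 1, 0] !![(0 : K), 0; 0, 1]
    rw [hE11, ← hN, spxt24simB_eq, spxt24simB_eq] at this
    simpa using this
  have hMdet : M 0 1 * M 1 0 = 0 := by
    have := hg !![(0 : K), 1; 0, 0]
    rw [← hM, Matrix.det_fin_two, Matrix.det_fin_two_of, hM00, hM11] at this
    linear_combination -this
  have hNdet : N 0 1 * N 1 0 = 0 := by
    have := hg !![(0 : K), 0; 1, 0]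
    rw [← hN, Matrix.det_fin_two, Matrix.det_fin_two_of, hN00, hN11] at this
    linear_combination -this
  have hMN : M 0 1 * N 1 0 + M 1 0 * N 0 1 = 1 := by
    have := hB !![(0 : K), 1; 0, 0] !![(0 : K), 0; 1, 0]
    rw [← hM, ← hN, spxt24simB_eq, spxt24simB_eq, hM00, hM11] at this
    simp at this
    linear_combination -this
  have hgX : ∀ X : Matrix (Fin 2) (Fin 2) K, g X = X 0 0 • !![(1 : K), 0; 0, 0] + X 0 1 • M + X 1 0 • N +
      X 1 1 • !![(0 : K), 0; 0, 1] := by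
    intro X
    rw [spxt24sim_apply g X, hE, hE11, ← hM, ← hN]
  rcases mul_eq_zero.mp hMdet with h01 | h10
  · -- `M = b E₁₀`
    rw [h01, zero_mul, zero_add] at hMN
    have hb : M 1 0 ≠ 0 := left_ne_zero_of_mul_eq_one hMN
    have hN01 : N 0 1 = (M 1 0)⁻¹ := eq_inv_of_mul_eq_one_right hMN
    have hN10 : N 1 0 = 0 := by
      rcases mul_eq_zero.mp hNdet with h | h
      · rw [hN01] at h
        exact absurd h (inv_ne_zero hb)
      · exact h
    refine ⟨!![1, 0; 0, M 1 0], !![1, 0; 0, (M 1 0)⁻¹], ?_, ?_, Or.inr ?_⟩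
    · rw [Matrix.det_fin_two_of]; simpa using hb
    · rw [Matrix.det_fin_two_of]; simpa using hb
    · intro X
      rw [hgX X]
      ext i j
      fin_cases i <;> fin_cases j <;>
        simp [Matrix.mul_apply, Fin.sum_univ_two, hM00, hM11, hN00, hN11, h01, hN01, hN10, Matrix.vecMul, dotProduct] <;>
        field_simp
  · -- `M = b E₀₁`
    rw [h10, zero_mul, add_zero] at hMN
    have hb : M 0 1 ≠ 0 := left_ne_zero_of_mul_eq_one hMN
    have hN10 : N 1 0 = (M 0 1)⁻¹ := eq_inv_of_mul_eq_one_right hMN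
    have hN01 : N 0 1 = 0 := by
      rcases mul_eq_zero.mp hNdet with h | h
      · exact h
      · rw [hN10] at h
        exact absurd h (inv_ne_zero hb)
    refine ⟨!![M 0 1, 0; 0, 1], !![(M 0 1)⁻¹, 0; 0, 1], ?_, ?_, Or.inl ?_⟩
    · rw [Matrix.det_fin_two_of]; simpa using hb
    · rw [Matrix.det_fin_two_of]; simpa using hb
    · intro X
      rw [hgX X]
      ext i j
      fin_cases i <;> fin_cases j <;>
        simp [Matrix.mul_apply, Fin.sum_univ_two, hM00, hM11, hN00, hN11, h10, hN01, hN10, Matrix.vecMul, dotProduct] <;>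
        field_simp

/-- the case `g 1 = 1` -/
theorem spxt24sim_norm1 (g : Matrix (Fin 2) (Fin 2) K →ₗ[K] Matrix (Fin 2) (Fin 2) K)
    (hg : ∀ X, (g X).det = X.det) (h1 : g 1 = 1) :
    ∃ A B : Matrix (Fin 2) (Fin 2) K, A.det ≠ 0 ∧ B.det ≠ 0 ∧
      ((∀ X, g X = A * X * B) ∨ (∀ X, g X = A * Xᵀ * B)) := by
  have hB : ∀ X Y, spxt24simB (g X) (g Y) = spxt24simB X Y := by
    intro X Y
    have := spxt24sim_polar g 1 (by intro X; rw [one_mul]; exact hg X) X Y
    rw [one_mul] at this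
    exact this
  obtain ⟨E, hE⟩ : ∃ E, E = g !![(1 : K), 0; 0, 0] := ⟨_, rfl⟩
  have htr : E 0 0 + E 1 1 = 1 := by
    have := hB !![(1 : K), 0; 0, 0] 1
    rw [h1, ← hE, spxt24simB_eq, spxt24simB_eq] at this
    simpa using this
  have hdet : E.det = 0 := by
    rw [hE, hg, Matrix.det_fin_two_of]
    ring
  obtain ⟨C, hC, hEC⟩ := spxt24sim_idem E htr hdet
  have hCu : IsUnit C.det := isUnit_iff_ne_zero.mpr hC
  obtain ⟨g', hg'⟩ : ∃ g' : Matrix (Fin 2) (Fin 2) K →ₗ[K] Matrix (Fin 2) (Fin 2) K,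
      ∀ X, g' X = C⁻¹ * g X * C :=
    ⟨(LinearMap.mulLeft K C⁻¹).comp ((LinearMap.mulRight K C).comp g), fun X => by
      simp [mul_assoc]⟩
  have hdet' : ∀ X, (g' X).det = X.det := by
    intro X
    rw [hg', Matrix.det_mul, Matrix.det_mul, Matrix.det_nonsing_inv, hg]
    rw [Ring.inverse_eq_inv']
    field_simp
  have h1' : g' 1 = 1 := by
    rw [hg', h1, mul_one, Matrix.nonsing_inv_mul _ hCu]
  have hE' : g' !![(1 : K), 0; 0, 0] = !![(1 : K), 0; 0, 0] := by
    rw [hg', ← hE, mul_assoc, hEC, ← mul_assoc, Matrix.nonsing_inv_mul _ hCu, one_mul]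
  obtain ⟨A', B', hA', hB', hform⟩ := spxt24sim_norm2 g' hdet' h1' hE'
  have hback : ∀ X, g X = C * g' X * C⁻¹ := by
    intro X
    rw [hg', ← mul_assoc, ← mul_assoc, Matrix.mul_nonsing_inv _ hCu, one_mul, mul_assoc,
      Matrix.mul_nonsing_inv _ hCu, mul_one]
  refine ⟨C * A', B' * C⁻¹, ?_, ?_, ?_⟩
  · rw [Matrix.det_mul]
    exact mul_ne_zero hC hA'
  · rw [Matrix.det_mul, Matrix.det_nonsing_inv, Ring.inverse_eq_inv']
    exact mul_ne_zero hB' (inv_ne_zero hC)
  · rcases hform with h | h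
    · left
      intro X
      rw [hback, h]
      simp only [mul_assoc]
    · right
      intro X
      rw [hback, h]
      simp only [mul_assoc]

/-- **Frobenius** : a linear map of `M_2(K)` multiplying the determinant by `μ ≠ 0` is `X ↦ A X B` or `X ↦ A Xᵀ B`. -/
theorem spxt24sim_frobenius (g : Matrix (Fin 2) (Fin 2) K →ₗ[K] Matrix (Fin 2) (Fin 2) K) (μ : K) (hμ : μ ≠ 0)
    (hg : ∀ X, (g X).det = μ * X.det) :
    ∃ A B : Matrix (Fin 2) (Fin 2) K, A.det ≠ 0 ∧ B.det ≠ 0 ∧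
      ((∀ X, g X = A * X * B) ∨ (∀ X, g X = A * Xᵀ * B)) := by
  obtain ⟨A₀, hA₀⟩ : ∃ A₀, A₀ = g 1 := ⟨_, rfl⟩
  have hdA : A₀.det = μ := by
    rw [hA₀, hg, Matrix.det_one, mul_one]
  have hA₀u : IsUnit A₀.det := by
    rw [hdA]
    exact isUnit_iff_ne_zero.mpr hμ
  obtain ⟨g', hg'⟩ : ∃ g' : Matrix (Fin 2) (Fin 2) K →ₗ[K] Matrix (Fin 2) (Fin 2) K,
      ∀ X, g' X = A₀⁻¹ * g X :=
    ⟨(LinearMap.mulLeft K A₀⁻¹).comp g, fun X => by simp⟩
  have hdet' : ∀ X, (g' X).det = X.det := by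
    intro X
    rw [hg', Matrix.det_mul, Matrix.det_nonsing_inv, hg, hdA, Ring.inverse_eq_inv']
    field_simp
  have h1' : g' 1 = 1 := by
    rw [hg', ← hA₀, Matrix.nonsing_inv_mul _ hA₀u]
  obtain ⟨A', B', hA', hB', hform⟩ := spxt24sim_norm1 g' hdet' h1'
  have hback : ∀ X, g X = A₀ * g' X := by
    intro X
    rw [hg', ← mul_assoc, Matrix.mul_nonsing_inv _ hA₀u, one_mul]
  refine ⟨A₀ * A', B', ?_, hB', ?_⟩
  · rw [Matrix.det_mul, hdA]
    exact mul_ne_zero hμ hA'
  · rcases hform with h | h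
    · left
      intro X
      rw [hback, h]
      simp only [mul_assoc]
    · right
      intro X
      rw [hback, h]
      simp only [mul_assoc]

end Frobenius

section Kron

variable {K : Type*} [Field K]

/-- the Gram matrix of the standard alternating form on `K^2` -/
def spxt24simJ (K : Type*) [Field K] : Matrix (Fin 2) (Fin 2) K := !![0, 1; -1, 0]

/-- a vector indexed by `Fin 2 × Fin 2` as a `2 × 2` matrix -/
def spxt24simMat (v : Fin 2 × Fin 2 → K) : Matrix (Fin 2) (Fin 2) K := Matrix.of fun i j => v (i, j)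

/-- a `2 × 2` matrix as a vector indexed by `Fin 2 × Fin 2` -/
def spxt24simVec (X : Matrix (Fin 2) (Fin 2) K) : Fin 2 × Fin 2 → K := fun p => X p.1 p.2

theorem spxt24sim_mat_vec (X : Matrix (Fin 2) (Fin 2) K) : spxt24simMat (spxt24simVec X) = X := rfl

theorem spxt24sim_vec_mat (v : Fin 2 × Fin 2 → K) : spxt24simVec (spxt24simMat v) = v := rfl

/-- `J ⊗ J` is the polar form of the determinant -/
theorem spxt24sim_quad (v : Fin 2 × Fin 2 → K) :
    v ⬝ᵥ ((spxt24simJ K ⊗ₖ spxt24simJ K) *ᵥ v) = 2 * (spxt24simMat v).det := by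
  simp only [dotProduct, Matrix.mulVec, Fintype.sum_prod_type, Fin.sum_univ_two, Matrix.kroneckerMap_apply,
    spxt24simJ, Matrix.det_fin_two, spxt24simMat, Matrix.of_apply, Matrix.cons_val', Matrix.cons_val_zero,
    Matrix.cons_val_one, Matrix.empty_val', Matrix.cons_val_fin_one]
  ring

/-- the Kronecker form of Frobenius' theorem: a similarity of `J ⊗ J` is a Kronecker product, up to the swap of the factors -/
theorem spxt24sim_kron (h2 : (2 : K) ≠ 0) (g : Matrix (Fin 2 × Fin 2) (Fin 2 × Fin 2) K) (μ : K) (hμ : μ ≠ 0)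
    (hg : gᵀ * (spxt24simJ K ⊗ₖ spxt24simJ K) * g = μ • (spxt24simJ K ⊗ₖ spxt24simJ K)) :
    ∃ b₁ b₂ : Matrix (Fin 2) (Fin 2) K, b₁.det ≠ 0 ∧ b₂.det ≠ 0 ∧
      (g = b₁ ⊗ₖ b₂ ∨ g = (b₁ ⊗ₖ b₂).submatrix id Prod.swap) := by
  -- the linear map on `M_2(K)`
  let gh : Matrix (Fin 2) (Fin 2) K →ₗ[K] Matrix (Fin 2) (Fin 2) K :=
    { toFun := fun X => spxt24simMat (g *ᵥ spxt24simVec X)
      map_add' := by
        intro X Y
        have : spxt24simVec (X + Y) = spxt24simVec X + spxt24simVec Y := rfl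
        rw [this, Matrix.mulVec_add]
        rfl
      map_smul' := by
        intro c X
        have : spxt24simVec (c • X) = c • spxt24simVec X := rfl
        rw [this, Matrix.mulVec_smul]
        rfl }
  have hgh : ∀ X, gh X = spxt24simMat (g *ᵥ spxt24simVec X) := fun X => rfl
  have hdet : ∀ X, (gh X).det = μ * X.det := by
    intro X
    have h1 := spxt24sim_quad (g *ᵥ spxt24simVec X)
    have h3 : (g *ᵥ spxt24simVec X) ⬝ᵥ ((spxt24simJ K ⊗ₖ spxt24simJ K) *ᵥ (g *ᵥ spxt24simVec X)) =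
        spxt24simVec X ⬝ᵥ ((gᵀ * (spxt24simJ K ⊗ₖ spxt24simJ K) * g) *ᵥ spxt24simVec X) := by
      rw [← Matrix.mulVec_mulVec, ← Matrix.mulVec_mulVec, Matrix.dotProduct_mulVec (spxt24simVec X) gᵀ,
        Matrix.vecMul_transpose]
    rw [h3, hg, Matrix.smul_mulVec, dotProduct_smul, spxt24sim_quad, spxt24sim_mat_vec, smul_eq_mul] at h1
    rw [hgh]
    have h4 : (2 : K) * (μ * X.det) = 2 * (spxt24simMat (g *ᵥ spxt24simVec X)).det := by
      rw [← h1]; ring
    exact (mul_left_cancel₀ h2 h4).symm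
  obtain ⟨A, B, hA, hB, hform⟩ := spxt24sim_frobenius gh μ hμ hdet
  have hentry : ∀ p q : Fin 2 × Fin 2, g p q = (gh (spxt24simMat (Pi.single q 1))) p.1 p.2 := by
    intro p q
    rw [hgh, spxt24sim_vec_mat]
    show g p q = (g *ᵥ Pi.single q 1) (p.1, p.2)
    rw [Matrix.mulVec_single_one]
    rfl
  refine ⟨A, Bᵀ, hA, by rw [Matrix.det_transpose]; exact hB, ?_⟩
  rcases hform with h | h
  · left
    ext ⟨i, j⟩ ⟨k, l⟩
    rw [hentry, h]
    simp only [Matrix.kroneckerMap_apply, Matrix.transpose_apply, Matrix.mul_apply, Fin.sum_univ_two,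
      spxt24simMat, Matrix.of_apply]
    fin_cases k <;> fin_cases l <;> simp
  · right
    ext ⟨i, j⟩ ⟨k, l⟩
    rw [hentry, h]
    simp only [Matrix.submatrix_apply, id, Prod.swap, Matrix.kroneckerMap_apply, Matrix.transpose_apply,
      Matrix.mul_apply, Fin.sum_univ_two, spxt24simMat, Matrix.of_apply]
    fin_cases k <;> fin_cases l <;> simp

end Kron

end Cfsg.Agent.Lib.helper6.SPX
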