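import Mathlib
import Cfsg.Prelude.Def_GeometricClasses

/-!
# SPX P2-U3 : transport of (non-)maximality along a conjugation
-/

set_option autoImplicit false
set_option linter.unusedVariables false
set_option linter.unusedSectionVars false

namespace Cfsg.Agent.Lib.helper6.SPX

open Cfsg Cfsg.Geo
open scoped MatrixGroups Matrix

/-- maximality is invariant under conjugation by an element of the big group -/
theorem spxu3n_isMaximalIn_conj {G : Type*} [Group G] (S H H' : Subgroup G) (B : G) (hB : B ∈ S)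
    (hH : ∀ g, g ∈ H ↔ B⁻¹ * g * B ∈ H') (h : IsMaximalIn S H) : IsMaximalIn S H' := by
  have hS : ∀ g, g ∈ S ↔ B⁻¹ * g * B ∈ S := by
    intro g
    constructor
    · intro hg
      exact S.mul_mem (S.mul_mem (S.inv_mem hB) hg) hB
    · intro hg
      have : g = B * (B⁻¹ * g * B) * B⁻¹ := by group
      rw [this]
      exact S.mul_mem (S.mul_mem hB hg) (S.inv_mem hB)
  have hback : ∀ x : G, B⁻¹ * (B * x * B⁻¹) * B = x := by intro x; group
  have hH' : ∀ x, x ∈ H' ↔ B * x * B⁻¹ ∈ H := by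
    intro x
    rw [hH, hback]
  have hS' : ∀ x, x ∈ S ↔ B * x * B⁻¹ ∈ S := by
    intro x
    rw [hS (B * x * B⁻¹), hback]
  obtain ⟨hlt, hmax⟩ := h
  refine ⟨?_, ?_⟩
  · constructor
    · intro x hx
      rw [hS']
      exact hlt.le ((hH' x).mp hx)
    · intro hle
      apply hlt.not_ge
      intro g hg
      rw [hH]
      exact hle ((hS g).mp hg)
  · intro M hHM hMS
    -- `M' = B M B⁻¹`
    let M' : Subgroup G := M.comap (MulAut.conj B⁻¹).toMonoidHom
    have hM' : ∀ g, g ∈ M' ↔ B⁻¹ * g * B ∈ M := by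
      intro g
      show (MulAut.conj B⁻¹) g ∈ M ↔ _
      rw [MulAut.conj_apply, inv_inv]
    have h1 : H ≤ M' := by
      intro g hg
      rw [hM']
      exact hHM ((hH g).mp hg)
    have h2 : M' ≤ S := by
      intro g hg
      rw [hS]
      exact hMS ((hM' g).mp hg)
    rcases hmax M' h1 h2 with h | h
    · left
      ext x
      rw [hH', ← h, hM', hback]
    · right
      ext x
      rw [hS', ← h, hM', hback]

variable {ι : Type} [Fintype ι] [DecidableEq ι] {F : Type*} [Field F]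

/-- the normaliser of a conjugate subalgebra -/
theorem spxu3n_normalizer_conj (K K₀ : Subalgebra F (Matrix ι ι F)) (B : GL ι F)
    (hK : ∀ k : Matrix ι ι F, k ∈ K ↔
      ((B⁻¹ : GL ι F) : Matrix ι ι F) * k * (B : Matrix ι ι F) ∈ K₀) (g : GL ι F) :
    g ∈ subalgebraNormalizer K ↔ B⁻¹ * g * B ∈ subalgebraNormalizer K₀ := by
  have hBB : (B : Matrix ι ι F) * ((B⁻¹ : GL ι F) : Matrix ι ι F) = 1 := by
    rw [← Units.val_mul, mul_inv_cancel, Units.val_one]
  have hBB' : ((B⁻¹ : GL ι F) : Matrix ι ι F) * (B : Matrix ι ι F) = 1 := by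
    rw [← Units.val_mul, inv_mul_cancel, Units.val_one]
  have hK' : ∀ k₀ : Matrix ι ι F, k₀ ∈ K₀ ↔
      (B : Matrix ι ι F) * k₀ * ((B⁻¹ : GL ι F) : Matrix ι ι F) ∈ K := by
    intro k₀
    rw [hK]
    have : ((B⁻¹ : GL ι F) : Matrix ι ι F) * ((B : Matrix ι ι F) * k₀ * ((B⁻¹ : GL ι F) : Matrix ι ι F)) *
        (B : Matrix ι ι F) = k₀ := by
      rw [mul_assoc, mul_assoc, hBB', mul_one, ← mul_assoc, hBB', one_mul]
    rw [this]
  show (∀ k : Matrix ι ι F, k ∈ K ↔ (g : Matrix ι ι F) * k * ((g⁻¹ : GL ι F) : Matrix ι ι F) ∈ K) ↔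
    (∀ k : Matrix ι ι F, k ∈ K₀ ↔ ((B⁻¹ * g * B : GL ι F) : Matrix ι ι F) * k *
      (((B⁻¹ * g * B)⁻¹ : GL ι F) : Matrix ι ι F) ∈ K₀)
  have hinv : (((B⁻¹ * g * B)⁻¹ : GL ι F) : Matrix ι ι F) =
      ((B⁻¹ : GL ι F) : Matrix ι ι F) * ((g⁻¹ : GL ι F) : Matrix ι ι F) * (B : Matrix ι ι F) := by
    rw [mul_inv_rev, mul_inv_rev, inv_inv, Units.val_mul, Units.val_mul, mul_assoc]
  have hval : ((B⁻¹ * g * B : GL ι F) : Matrix ι ι F) =
      ((B⁻¹ : GL ι F) : Matrix ι ι F) * (g : Matrix ι ι F) * (B : Matrix ι ι F) := by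
    rw [Units.val_mul, Units.val_mul]
  constructor
  · intro h k₀
    rw [hK' k₀, h, hK, hinv, hval]
    have : ((B⁻¹ : GL ι F) : Matrix ι ι F) * ((g : Matrix ι ι F) * ((B : Matrix ι ι F) * k₀ *
        ((B⁻¹ : GL ι F) : Matrix ι ι F)) * ((g⁻¹ : GL ι F) : Matrix ι ι F)) * (B : Matrix ι ι F) =
        ((B⁻¹ : GL ι F) : Matrix ι ι F) * (g : Matrix ι ι F) * (B : Matrix ι ι F) * k₀ *
        (((B⁻¹ : GL ι F) : Matrix ι ι F) * ((g⁻¹ : GL ι F) : Matrix ι ι F) * (B : Matrix ι ι F)) := by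
      simp only [mul_assoc]
    rw [this]
  · intro h k
    rw [hK k, h, hK, hinv, hval]
    have : ((B⁻¹ : GL ι F) : Matrix ι ι F) * (g : Matrix ι ι F) * (B : Matrix ι ι F) *
        (((B⁻¹ : GL ι F) : Matrix ι ι F) * k * (B : Matrix ι ι F)) *
        (((B⁻¹ : GL ι F) : Matrix ι ι F) * ((g⁻¹ : GL ι F) : Matrix ι ι F) * (B : Matrix ι ι F)) =
        ((B⁻¹ : GL ι F) : Matrix ι ι F) * ((g : Matrix ι ι F) * k * ((g⁻¹ : GL ι F) : Matrix ι ι F)) *
        (B : Matrix ι ι F) := by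
      calc ((B⁻¹ : GL ι F) : Matrix ι ι F) * (g : Matrix ι ι F) * (B : Matrix ι ι F) *
        (((B⁻¹ : GL ι F) : Matrix ι ι F) * k * (B : Matrix ι ι F)) *
        (((B⁻¹ : GL ι F) : Matrix ι ι F) * ((g⁻¹ : GL ι F) : Matrix ι ι F) * (B : Matrix ι ι F))
          = ((B⁻¹ : GL ι F) : Matrix ι ι F) * (g : Matrix ι ι F) * ((B : Matrix ι ι F) *
            ((B⁻¹ : GL ι F) : Matrix ι ι F)) * k * ((B : Matrix ι ι F) * ((B⁻¹ : GL ι F) : Matrix ι ι F)) *
            ((g⁻¹ : GL ι F) : Matrix ι ι F) * (B : Matrix ι ι F) := by simp only [mul_assoc]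
        _ = _ := by rw [hBB, mul_one, mul_one]; simp only [mul_assoc]
    rw [this]

/-- transport of non-maximality of the normaliser of a field along a conjugation inside `S` -/
theorem spxu3n_transport (K K₀ : Subalgebra F (Matrix ι ι F)) (B : GL ι F) (S : Subgroup (GL ι F)) (hB : B ∈ S)
    (hK : ∀ k : Matrix ι ι F, k ∈ K ↔
      ((B⁻¹ : GL ι F) : Matrix ι ι F) * k * (B : Matrix ι ι F) ∈ K₀)
    (h : ¬ IsMaximalIn S (subalgebraNormalizer K₀ ⊓ S)) : ¬ IsMaximalIn S (subalgebraNormalizer K ⊓ S) := by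
  intro hmax
  apply h
  apply spxu3n_isMaximalIn_conj S (subalgebraNormalizer K ⊓ S) (subalgebraNormalizer K₀ ⊓ S) B hB _ hmax
  intro g
  rw [Subgroup.mem_inf, Subgroup.mem_inf, spxu3n_normalizer_conj K K₀ B hK g]
  have : g ∈ S ↔ B⁻¹ * g * B ∈ S := by
    constructor
    · intro hg
      exact S.mul_mem (S.mul_mem (S.inv_mem hB) hg) hB
    · intro hg
      have e : g = B * (B⁻¹ * g * B) * B⁻¹ := by group
      rw [e]
      exact S.mul_mem (S.mul_mem hB hg) (S.inv_mem hB)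
  rw [this]

end Cfsg.Agent.Lib.helper6.SPX
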