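import Cfsg.Agent.Lib.Helper10.SZC.Defs
import Cfsg.Agent.Lib.helper6.SZCP1
import Cfsg.Agent.Lib.helper6.SZCP2
import Cfsg.Agent.Lib.helper6.SZCP6

/-!
# SZC rows D6 (`psi_noncusp`) and D7 (`psi_cusp`): cores (second copies, own names)

`szcD6_h6_core` takes the statements of D2 `phi_triv`, D3 `phi_X`, D4 `phi_ind` (at this torus and
this `l`) as hypotheses; `szcD7_h6` needs nothing beyond block P.
-/

set_option autoImplicit false
open scoped ComplexConjugate

namespace Cfsg.Agent.Lib.Helper10.SZC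

open Cfsg.Agent.Lib.Helper11 Cfsg.Agent.Lib.Helper25 Cfsg.Agent.Lib.helper2
  Cfsg.Agent.Lib.helper7

section
variable {G : Type*} [Group G] [Fintype G]
variable {q r : ℕ}

/-- `[χ, Psi] = [χ, phi] - [χ, 1] + [χ, X]` -/
theorem szcD6_h6_expand (H A : Subgroup G) (l : ↥A →* ℂˣ) (χ : G → ℂ) :
    Cfsg.classInner χ (Psi H A l) =
      Cfsg.classInner χ (phi A l) - Cfsg.classInner χ (fun _ : G => (1 : ℂ)) +
        Cfsg.classInner χ (Xf H) := by
  unfold Cfsg.classInner Psi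
  rw [← mul_sub, ← mul_add, ← Finset.sum_sub_distrib, ← Finset.sum_add_distrib]
  congr 1
  refine Finset.sum_congr rfl fun g _ => ?_
  rw [map_add, map_sub]
  ring

/-- D6 core -/
theorem szcD6_h6_core (D : SzcData G q r) (i : Bool) (l : ↥(D.A i) →* ℂˣ)
    (hD2 : Cfsg.classInner (fun _ : G => (1 : ℂ)) (phi (D.A i) l) = 1)
    (hD3 : Cfsg.classInner (Xf D.H) (phi (D.A i) l) = -1)
    (hD4 : ∀ μ : ↥D.H →* ℂˣ,
      Cfsg.classInner (Cfsg.indFun D.H (fun u => ((μ u : ℂˣ) : ℂ))) (phi (D.A i) l) = 0)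
    (χ : Cfsg.IrrCharacter G) (hχ : ¬ Cusp D.Q (χ : G → ℂ)) :
    Cfsg.classInner (χ : G → ℂ) (Psi D.H (D.A i) l) = 0 := by
  classical
  have hq := D.hq
  have hX : Cfsg.IsIrrCharacter G (Xf D.H) := D.X_irr
  have hneX : trivIrr G ≠ (⟨Xf D.H, hX⟩ : Cfsg.IrrCharacter G) := by
    intro he
    have h2 := congrFun (congrArg Subtype.val he) 1
    have h3 : Xf D.H 1 = 1 := h2.symm
    rw [szcP2_X_one D] at h3
    have h4 : q ^ 2 = 1 := by exact_mod_cast h3
    nlinarith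
  have e11 : Cfsg.classInner (fun _ : G => (1 : ℂ)) (fun _ : G => (1 : ℂ)) = 1 := by
    have := irr_classInner (trivIrr G) (trivIrr G)
    rw [if_pos rfl] at this
    exact this
  have e1X : Cfsg.classInner (fun _ : G => (1 : ℂ)) (Xf D.H) = 0 := by
    have := irr_classInner (trivIrr G) (⟨Xf D.H, hX⟩ : Cfsg.IrrCharacter G)
    rw [if_neg hneX] at this
    exact this
  have eX1 : Cfsg.classInner (Xf D.H) (fun _ : G => (1 : ℂ)) = 0 := by
    have := irr_classInner (⟨Xf D.H, hX⟩ : Cfsg.IrrCharacter G) (trivIrr G)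
    rw [if_neg (fun h => hneX h.symm)] at this
    exact this
  have eXX : Cfsg.classInner (Xf D.H) (Xf D.H) = 1 := by
    have := irr_classInner (⟨Xf D.H, hX⟩ : Cfsg.IrrCharacter G) ⟨Xf D.H, hX⟩
    rw [if_pos rfl] at this
    exact this
  rw [szcD6_h6_expand]
  rcases ps_class D χ hχ with h | h | ⟨μ, hμ1, hμ2, h⟩
  · rw [h, hD2, e11, e1X]
    ring
  · rw [h, hD3, eX1, eXX]
    ring
  · rw [h, hD4 μ]
    have hirr := D.ind_irr μ hμ1 hμ2
    have hne1 : (⟨_, hirr⟩ : Cfsg.IrrCharacter G) ≠ trivIrr G := by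
      intro he
      have h2 := congrFun (congrArg Subtype.val he) 1
      simp only at h2
      rw [szcP2_ind_one D] at h2
      have h3 : ((q ^ 2 + 1 : ℕ) : ℂ) = 1 := h2
      have h4 : q ^ 2 + 1 = 1 := by exact_mod_cast h3
      have : q ^ 2 = 0 := by omega
      have : q = 0 := by simpa using this
      omega
    have hne2 : (⟨_, hirr⟩ : Cfsg.IrrCharacter G) ≠ ⟨Xf D.H, hX⟩ := by
      intro he
      have h2 := congrFun (congrArg Subtype.val he) 1
      simp only at h2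
      rw [szcP2_ind_one D, szcP2_X_one D] at h2
      have h4 : q ^ 2 + 1 = q ^ 2 := by exact_mod_cast h2
      omega
    have e1 := irr_classInner (⟨_, hirr⟩ : Cfsg.IrrCharacter G) (trivIrr G)
    have e2 := irr_classInner (⟨_, hirr⟩ : Cfsg.IrrCharacter G) ⟨Xf D.H, hX⟩
    rw [if_neg hne1] at e1
    rw [if_neg hne2] at e2
    have e1' : Cfsg.classInner (Cfsg.indFun D.H (fun u => ((μ u : ℂˣ) : ℂ)))
        (fun _ : G => (1 : ℂ)) = 0 := e1
    have e2' : Cfsg.classInner (Cfsg.indFun D.H (fun u => ((μ u : ℂˣ) : ℂ))) (Xf D.H) = 0 := e2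
    rw [e1', e2']
    ring

/-- D7 (second copy under an own name; exact statement of `psi_cusp`) -/
theorem szcD7_h6 (D : SzcData G q r) (i : Bool) (l : ↥(D.A i) →* ℂˣ)
    (χ : Cfsg.IrrCharacter G) (hχ : Cusp D.Q (χ : G → ℂ)) :
    Cfsg.classInner (χ : G → ℂ) (Psi D.H (D.A i) l) =
      Cfsg.classInner (χ : G → ℂ) (phi (D.A i) l) := by
  classical
  have hX : Cfsg.IsIrrCharacter G (Xf D.H) := D.X_irr
  obtain ⟨hn1, hnX⟩ := not_cusp D
  have hne1 : χ ≠ trivIrr G := by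
    intro he
    apply hn1
    rw [he] at hχ
    exact hχ
  have hneX : χ ≠ ⟨Xf D.H, hX⟩ := by
    intro he
    apply hnX
    rw [he] at hχ
    exact hχ
  have e1 := irr_classInner χ (trivIrr G)
  have e2 := irr_classInner χ (⟨Xf D.H, hX⟩ : Cfsg.IrrCharacter G)
  rw [if_neg hne1] at e1
  rw [if_neg hneX] at e2
  have e1' : Cfsg.classInner (χ : G → ℂ) (fun _ : G => (1 : ℂ)) = 0 := e1
  have e2' : Cfsg.classInner (χ : G → ℂ) (Xf D.H) = 0 := e2
  rw [szcD6_h6_expand, e1', e2']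
  ring

end

end Cfsg.Agent.Lib.Helper10.SZC
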