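import Cfsg.Agent.Lib.Helper10.SZC.Defs
import Cfsg.Agent.Lib.helper6.SZCP4

/-!
# SZC row P5 (`cusp_sum_Q`): `sumNI Q χ = - χ 1` for a cuspidal class function
-/

set_option autoImplicit false
open scoped ComplexConjugate

namespace Cfsg.Agent.Lib.Helper10.SZC

section
variable {G : Type*} [Group G] [Fintype G]

/-- `sumNI A f` is the sum over the subgroup minus the value at `1` -/
theorem szcP5_sumNI_eq (A : Subgroup G) [Fintype ↥A] (f : G → ℂ) :
    sumNI A f = ∑ x : ↥A, f (x : G) - f 1 := by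
  classical
  unfold sumNI
  have h1 : ∀ g : G, (if g ∈ A ∧ g ≠ 1 then f g else 0) =
      (if g ∈ A then f g else 0) - (if g = 1 then f 1 else 0) := by
    intro g
    by_cases hg : g ∈ A
    · by_cases hg1 : g = 1
      · subst hg1
        simp
      · simp [hg, hg1]
    · have hg1 : g ≠ 1 := fun h => hg (h ▸ A.one_mem)
      simp [hg, hg1]
  have h2 : ∑ g : G, (if g ∈ A then f g else 0) = ∑ x : ↥A, f (x : G) := by
    rw [← Finset.sum_filter]
    refine (Finset.sum_subtype (Finset.univ.filter (· ∈ A)) (fun g => by simp) f)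
  have h3 : ∑ g : G, (if g = 1 then f 1 else 0) = f 1 := by
    rw [Finset.sum_ite_eq' Finset.univ (1 : G) (fun _ => f 1)]
    simp
  calc ∑ g : G, (if g ∈ A ∧ g ≠ 1 then f g else 0)
      = ∑ g : G, ((if g ∈ A then f g else 0) - (if g = 1 then f 1 else 0)) :=
        Finset.sum_congr rfl (fun g _ => by
          have := h1 g
          convert this using 2)
    _ = ∑ x : ↥A, f (x : G) - f 1 := by
        rw [Finset.sum_sub_distrib, h2, h3]

/-- P5 -/
theorem cusp_sum_Q (Q : Subgroup G) (χ : G → ℂ) (hcl : Cfsg.IsClassFunction G χ)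
    (hχ : Cusp Q χ) : sumNI Q χ = - χ 1 := by
  classical
  rw [szcP5_sumNI_eq, szcP4_sum_Q Q χ hcl hχ, zero_sub]

end

end Cfsg.Agent.Lib.Helper10.SZC
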