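import Mathlib
import Cfsg.Agent.Lib.helper6.ZassPSL1
import Cfsg.Agent.Lib.helper6.FieldIrr

set_option autoImplicit false

namespace Cfsg.Agent.Lib.helper6.SZi

open Cfsg.Agent.Lib.helper6.ZassPSL1 Cfsg.Agent.Lib.helper6.FieldIrr

variable {G Ω : Type*} [Group G] [MulAction G Ω]
variable {pinf p0 : Ω} {KG : Subgroup G} {j : G}

/-- In a Zassenhaus-type group whose two-point stabiliser `H` has order `(n-1)/2`, `H` is cyclic
and is inverted by every element swapping the two points; such elements are involutions. -/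
theorem half_cyclic [Fintype Ω] [FaithfulSMul G Ω] (Z : ZP G Ω pinf p0 KG j)
    (hcard : 2 * Nat.card ↥(MulAction.stabilizer G pinf ⊓ MulAction.stabilizer G p0) + 2 =
      Fintype.card Ω) :
    IsCyclic ↥(MulAction.stabilizer G pinf ⊓ MulAction.stabilizer G p0) ∧
      ∀ s : G, s • pinf = p0 → s • p0 = pinf → (s * s = 1 ∧
        ∀ h ∈ MulAction.stabilizer G pinf ⊓ MulAction.stabilizer G p0, s * h * s⁻¹ = h⁻¹) := by
  classical
  haveI : Finite G := Finite.of_injective (MulAction.toPerm : G → Equiv.Perm Ω)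
    MulAction.toPerm_injective
  haveI : Finite KG := inferInstance
  have hi0 := Z.hi0
  let H : Subgroup G := MulAction.stabilizer G pinf ⊓ MulAction.stabilizer G p0
  have hHmem : ∀ h : G, h ∈ H ↔ h • pinf = pinf ∧ h • p0 = p0 := by
    intro h
    simp only [H, Subgroup.mem_inf, MulAction.mem_stabilizer_iff]
  obtain ⟨kinv, kcomm⟩ := Z.invol_inverts Z.hjj Z.hj1 Z.hji Z.hj0
  have kreg : ∀ k ∈ KG, ∀ k' ∈ KG, ∀ x : Ω, x ≠ pinf → k • x = k' • x → k = k' := by
    intro k hk k' hk' x hx hkk
    have h1 : (k'⁻¹ * k) • x = x := by rw [mul_smul, hkk, inv_smul_smul]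
    by_contra hne
    have h2 : k'⁻¹ * k ≠ 1 := by
      intro h
      apply hne
      have : k = k' * (k'⁻¹ * k) := by group
      rw [this, h, mul_one]
    exact Z.kfpf _ (KG.mul_mem (KG.inv_mem hk') hk) h2 x hx h1
  -- s
  obtain ⟨s, hsi, hs0⟩ := Z.two Z.hi0 (Ne.symm Z.hi0)
  have hss : s * s = 1 := Z.swap_invol hcard hsi hs0
  have hsinv : s⁻¹ = s := by rw [inv_eq_iff_mul_eq_one]; exact hss
  have hinvert : ∀ h ∈ H, s * h * s⁻¹ = h⁻¹ := by
    intro h hh
    obtain ⟨h1, h2⟩ := (hHmem h).mp hh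
    have h3 : (s * h) * (s * h) = 1 :=
      Z.swap_invol hcard (by rw [mul_smul, h1, hsi]) (by rw [mul_smul, h2, hs0])
    rw [hsinv]
    have : s * h * s = (s * h) * (s * h) * h⁻¹ := by group
    rw [this, h3, one_mul]
  have hHcomm : ∀ h ∈ H, ∀ k ∈ H, h * k = k * h := by
    intro h hh k hk
    have h1 := hinvert _ (H.mul_mem hh hk)
    have h2 := hinvert h hh
    have h3 := hinvert k hk
    have h4 : s * (h * k) * s⁻¹ = (s * h * s⁻¹) * (s * k * s⁻¹) := by group
    rw [h1, h2, h3] at h4
    have h5 : (h * k)⁻¹ = (k * h)⁻¹ := by rw [h4]; group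
    exact inv_injective h5
  have hnorm : ∀ d ∈ H, ∀ a ∈ KG, d * a * d⁻¹ ∈ KG :=
    fun d hd a ha => Z.knorm d ((hHmem d).mp hd).1 a ha
  -- a third point
  obtain ⟨p1, hp1⟩ : ∃ x : Ω, j • x ≠ x := by
    by_contra h
    push Not at h
    exact Z.hj1 (FaithfulSMul.eq_of_smul_eq_smul (α := Ω) (fun x => by rw [h x, one_smul]))
  have h1i : p1 ≠ pinf := fun h => hp1 (by rw [h, Z.hji])
  have h10 : p1 ≠ p0 := fun h => hp1 (by rw [h, Z.hj0])
  obtain ⟨e, heK, he0⟩ := Z.ktr p0 p1 (Ne.symm hi0) h1i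
  have he1 : e ≠ 1 := by
    intro h; rw [h, one_smul] at he0; exact h10 he0.symm
  -- cardinality of the kernel
  have hKcard : Nat.card KG + 1 = Fintype.card Ω := by
    let f : KG → {x : Ω // x ≠ pinf} := fun k => ⟨(k : G) • p0, Z.ne_of_smul k.2 (Ne.symm hi0)⟩
    have hf : Function.Bijective f := by
      constructor
      · intro k k' hkk
        have : (k : G) • p0 = (k' : G) • p0 := congrArg Subtype.val hkk
        exact Subtype.ext (kreg _ k.2 _ k'.2 p0 (Ne.symm hi0) this)
      · rintro ⟨x, hx⟩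
        obtain ⟨k, hk, hkx⟩ := Z.ktr p0 x (Ne.symm hi0) hx
        exact ⟨⟨k, hk⟩, Subtype.ext hkx⟩
    rw [Nat.card_eq_of_bijective f hf, Nat.card_eq_fintype_card, Fintype.card_subtype_compl,
      Fintype.card_subtype_eq]
    have : 0 < Fintype.card Ω := Fintype.card_pos_iff.mpr ⟨pinf⟩
    omega
  -- irreducibility
  have hirr : ∀ W : Subgroup G, W ≤ KG → (∀ d ∈ H, ∀ a ∈ W, d * a * d⁻¹ ∈ W) →
      W = ⊥ ∨ W = KG := by
    intro W hW hinv
    by_cases hbot : W = ⊥
    · exact Or.inl hbot
    · right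
      obtain ⟨w, hw1⟩ := (Subgroup.ne_bot_iff_exists_ne_one).mp hbot
      have hw' : (w : G) ≠ 1 := fun h => hw1 (Subtype.ext h)
      have hlt : Nat.card H < Nat.card W := by
        let f : H → W := fun h => ⟨(h : G) * (w : G) * (h : G)⁻¹, hinv h h.2 w w.2⟩
        have hfinj : Function.Injective f := by
          intro h h' hh
          have h1 : (h : G) * (w : G) * (h : G)⁻¹ = (h' : G) * (w : G) * (h' : G)⁻¹ :=
            congrArg Subtype.val hh
          have h2 : ((h' : G)⁻¹ * (h : G)) * (w : G) * ((h' : G)⁻¹ * (h : G))⁻¹ = (w : G) := by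
            calc ((h' : G)⁻¹ * (h : G)) * (w : G) * ((h' : G)⁻¹ * (h : G))⁻¹
                = (h' : G)⁻¹ * ((h : G) * (w : G) * (h : G)⁻¹) * (h' : G) := by group
              _ = (w : G) := by rw [h1]; group
          have hmem := (hHmem _).mp (H.mul_mem (H.inv_mem h'.2) h.2)
          have h3 := Z.H_semireg hmem.1 hmem.2 (hW w.2) hw' h2
          apply Subtype.ext
          have : (h : G) = (h' : G) * ((h' : G)⁻¹ * (h : G)) := by group
          rw [this, h3, mul_one]
        have hfns : ¬ Function.Surjective f := by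
          intro h
          obtain ⟨u, hu⟩ := h 1
          have h1 : (u : G) * (w : G) * (u : G)⁻¹ = 1 := congrArg Subtype.val hu
          apply hw'
          have : (w : G) = (u : G)⁻¹ * ((u : G) * (w : G) * (u : G)⁻¹) * (u : G) := by group
          rw [this, h1]; group
        letI : Fintype H := Fintype.ofFinite _
        letI : Fintype W := Fintype.ofFinite _
        rw [Nat.card_eq_fintype_card, Nat.card_eq_fintype_card]
        exact Fintype.card_lt_of_injective_not_surjective f hfinj hfns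
      have hdvd : Nat.card W ∣ Nat.card KG := Subgroup.card_dvd_of_le hW
      have hge : Nat.card KG ≤ Nat.card W := by
        obtain ⟨q, hq⟩ := hdvd
        have hq0 : q ≠ 0 := by
          intro h
          rw [h, mul_zero] at hq
          have : 0 < Nat.card KG := Nat.card_pos
          omega
        by_contra hlt'
        push Not at hlt'
        have hq2 : 2 ≤ q := by
          by_contra h
          have : q = 1 := by omega
          rw [this, mul_one] at hq
          omega
        have : Nat.card KG ≥ Nat.card W * 2 := by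
          rw [hq]; exact Nat.mul_le_mul_left _ hq2
        have hH : Nat.card H = Nat.card ↥(MulAction.stabilizer G pinf ⊓ MulAction.stabilizer G p0) :=
          rfl
        omega
      exact Subgroup.eq_of_le_of_card_ge hW hge
  obtain ⟨F, instF, instFin, ι, μ, hιinj, hιsurj, hιK, hιadd, hι1, hμ⟩ :=
    exists_field_of_irreducible KG H kcomm hHcomm hnorm e heK he1 hirr

  have hμ1 : μ 1 = 1 := by
    have h1 := (hμ 1).2 1
    rw [mul_one] at h1
    have : ι (μ 1) = ι 1 := by rw [h1]; simp
    exact hιinj this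
  have hμmul : ∀ d d' : H, μ (d * d') = μ d * μ d' := by
    intro d d'
    have h1 := (hμ (d * d')).2 1
    have h2 := (hμ d').2 1
    have h3 := (hμ d).2 (μ d' * 1)
    rw [mul_one] at h1 h2 h3
    apply hιinj
    rw [h1, h3, h2, Subgroup.coe_mul]
    group
  let f : H →* F :=
    { toFun := μ
      map_one' := hμ1
      map_mul' := hμmul }
  have hf : Function.Injective f := by
    intro d d' hdd
    have hdd' : μ d = μ d' := hdd
    have h1 := (hμ d).2 1
    have h2 := (hμ d').2 1
    rw [hdd', h2, hι1] at h1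
    have h3 : ((d' : G)⁻¹ * (d : G)) * e * ((d' : G)⁻¹ * (d : G))⁻¹ = e := by
      calc ((d' : G)⁻¹ * (d : G)) * e * ((d' : G)⁻¹ * (d : G))⁻¹
          = (d' : G)⁻¹ * ((d : G) * e * (d : G)⁻¹) * (d' : G) := by group
        _ = e := by rw [← h1]; group
    have hmem := (hHmem _).mp (H.mul_mem (H.inv_mem d'.2) d.2)
    have h4 := Z.H_semireg hmem.1 hmem.2 heK he1 h3
    apply Subtype.ext
    have : (d : G) = (d' : G) * ((d' : G)⁻¹ * (d : G)) := by group
    rw [this, h4, mul_one]
  refine ⟨isCyclic_of_injective_ringHom f hf, ?_⟩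
  intro s' hs'i hs'0
  refine ⟨Z.swap_invol hcard hs'i hs'0, ?_⟩
  intro h hh
  have hs's' : s' * s' = 1 := Z.swap_invol hcard hs'i hs'0
  have hs'inv : s'⁻¹ = s' := by rw [inv_eq_iff_mul_eq_one]; exact hs's'
  obtain ⟨h1, h2⟩ := (hHmem h).mp hh
  have h3 : (s' * h) * (s' * h) = 1 :=
    Z.swap_invol hcard (by rw [mul_smul, h1, hs'i]) (by rw [mul_smul, h2, hs'0])
  rw [hs'inv]
  have : s' * h * s' = (s' * h) * (s' * h) * h⁻¹ := by group
  rw [this, h3, one_mul]

end Cfsg.Agent.Lib.helper6.SZi
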