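import Mathlib
import Cfsg.Prelude.Def_PLocal

set_option autoImplicit false
set_option linter.unusedSectionVars false
set_option linter.unusedVariables false
set_option linter.style.haveILetI false

namespace Cfsg.Agent.Lib.helper6.Sims

open Subgroup

section basic

variable {H : Type*} [Group H]

/-- conjugate subgroup `h X h⁻¹` -/
abbrev cj (h : H) (X : Subgroup H) : Subgroup H := X.map (MulAut.conj h).toMonoidHom

theorem mem_cj {h y : H} {X : Subgroup H} : y ∈ cj h X ↔ h⁻¹ * y * h ∈ X := by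
  constructor
  · rintro ⟨x, hx, rfl⟩
    have : h⁻¹ * ((MulAut.conj h).toMonoidHom x) * h = x := by
      simp [MulAut.conj_apply, mul_assoc]
    rw [this]
    exact hx
  · intro hy
    refine ⟨h⁻¹ * y * h, hy, ?_⟩
    simp [MulAut.conj_apply, mul_assoc]

theorem conj_mem_cj {h x : H} {X : Subgroup H} (hx : x ∈ X) : h * x * h⁻¹ ∈ cj h X :=
  ⟨x, hx, by simp [MulAut.conj_apply]⟩

theorem cj_le_cj {h : H} {X Y : Subgroup H} (hXY : X ≤ Y) : cj h X ≤ cj h Y :=
  Subgroup.map_mono hXY

theorem cj_cj (a b : H) (X : Subgroup H) : cj a (cj b X) = cj (a * b) X := by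
  ext y
  simp only [mem_cj]
  have : b⁻¹ * (a⁻¹ * y * a) * b = (a * b)⁻¹ * y * (a * b) := by
    rw [mul_inv_rev]; simp only [mul_assoc]
  rw [this]

theorem cj_one (X : Subgroup H) : cj 1 X = X := by
  ext y
  simp [mem_cj]

theorem cj_inv_cj (a : H) (X : Subgroup H) : cj a⁻¹ (cj a X) = X := by
  rw [cj_cj, inv_mul_cancel, cj_one]

theorem cj_cj_inv (a : H) (X : Subgroup H) : cj a (cj a⁻¹ X) = X := by
  rw [cj_cj, mul_inv_cancel, cj_one]

theorem le_cj_iff {a : H} {X Y : Subgroup H} : X ≤ cj a Y ↔ cj a⁻¹ X ≤ Y := by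
  constructor
  · intro h
    have := cj_le_cj (h := a⁻¹) h
    rwa [cj_inv_cj] at this
  · intro h
    have := cj_le_cj (h := a) h
    rwa [cj_cj_inv] at this

theorem conj_injective (h : H) : Function.Injective (MulAut.conj h).toMonoidHom :=
  (MulAut.conj h).injective

theorem card_cj (h : H) (X : Subgroup H) : Nat.card (cj h X) = Nat.card X :=
  Subgroup.card_map_of_injective (conj_injective h)

theorem cj_inf (h : H) (X Y : Subgroup H) : cj h (X ⊓ Y) = cj h X ⊓ cj h Y :=
  Subgroup.map_inf X Y _ (conj_injective h)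

/-- if `g` normalizes `X` (both ways), then `cj g X = X` -/
theorem cj_eq_self {g : H} {X : Subgroup H} (h1 : ∀ y ∈ X, g * y * g⁻¹ ∈ X)
    (h2 : ∀ y ∈ X, g⁻¹ * y * g ∈ X) : cj g X = X := by
  ext y
  rw [mem_cj]
  constructor
  · intro hy
    have := h1 _ hy
    simpa [mul_assoc] using this
  · intro hy
    exact h2 y hy

theorem relIndex_mul_card_of_le {A B : Subgroup H} (hAB : A ≤ B) :
    A.relIndex B * Nat.card A = Nat.card B := by
  have h1 := (A.subgroupOf B).index_mul_card
  have h2 : Nat.card (A.subgroupOf B) = Nat.card A :=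
    Nat.card_congr (Subgroup.subgroupOfEquivOfLe hAB).toEquiv
  rw [h2] at h1
  exact h1

end basic


section localq3

variable {H : Type*} [Group H] [Finite H]

/-- arithmetic: a divisor `a*b` of `2*q` with `a, b ≥ 2`, `q` prime, is `2*q`. -/
theorem two_mul_prime_of_dvd {a b q : ℕ} (hq : q.Prime) (ha : 2 ≤ a) (hb : 2 ≤ b)
    (hd : a * b ∣ 2 * q) : a * b = 2 * q := by
  obtain ⟨c, hc⟩ := hd
  have hc0 : c ≠ 0 := by
    rintro rfl
    have := hq.pos
    omega
  -- q divides a, b or c
  have hqd : q ∣ a * b * c := ⟨2, by rw [← hc]; ring⟩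
  rcases (Nat.Prime.dvd_mul hq).mp hqd with h | h
  · rcases (Nat.Prime.dvd_mul hq).mp h with h | h
    · obtain ⟨a', rfl⟩ := h
      have : a' * b * c = 2 := by
        have h2 : q * (a' * b * c) = q * 2 := by rw [mul_comm q 2, hc]; ring
        exact Nat.eq_of_mul_eq_mul_left hq.pos h2
      have ha' : a' ≠ 0 := by rintro rfl; omega
      have hbc : b * c ∣ 2 := ⟨a', by rw [← this]; ring⟩
      have hble : b * c ≤ 2 := Nat.le_of_dvd (by norm_num) hbc
      have hc1 : c = 1 := by
        have : 1 ≤ c := Nat.one_le_iff_ne_zero.mpr hc0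
        nlinarith
      subst hc1
      simpa using hc.symm
    · obtain ⟨b', rfl⟩ := h
      have : a * b' * c = 2 := by
        have h2 : q * (a * b' * c) = q * 2 := by rw [mul_comm q 2, hc]; ring
        exact Nat.eq_of_mul_eq_mul_left hq.pos h2
      have hac : a * c ∣ 2 := ⟨b', by rw [← this]; ring⟩
      have hale : a * c ≤ 2 := Nat.le_of_dvd (by norm_num) hac
      have hc1 : c = 1 := by
        have : 1 ≤ c := Nat.one_le_iff_ne_zero.mpr hc0
        nlinarith
      subst hc1
      simpa using hc.symm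
  · obtain ⟨c', rfl⟩ := h
    have : a * b * c' = 2 := by
      have h2 : q * (a * b * c') = q * 2 := by rw [mul_comm q 2, hc]; ring
      exact Nat.eq_of_mul_eq_mul_left hq.pos h2
    have hab : a * b ∣ 2 := ⟨c', by rw [← this]⟩
    have : a * b ≤ 2 := Nat.le_of_dvd (by norm_num) hab
    nlinarith

end localq3

end Cfsg.Agent.Lib.helper6.Sims
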