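import Mathlib
import Cfsg.Agent.Lib.helper6.SimsA

set_option autoImplicit false
set_option linter.unusedSectionVars false
set_option linter.unusedVariables false
set_option linter.style.haveILetI false

namespace Cfsg.Agent.Lib.helper6.Sims

open Subgroup

section localq3

variable {H : Type*} [Group H] [Finite H]

/-- Step 1: some `G`-conjugate of `t` lies outside `Q⟨t⟩`, because `Q` is the largest
2-subgroup normalized by `G`. -/
theorem exists_conj_not_mem (G Q : Subgroup H)
    (hQG : Q ≤ G) (hQn : ∀ g ∈ G, ∀ y ∈ Q, g * y * g⁻¹ ∈ Q) (hQ2 : IsPGroup 2 Q)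
    (hmax : ∀ N : Subgroup H, N ≤ G → (∀ g ∈ G, ∀ y ∈ N, g * y * g⁻¹ ∈ N) → IsPGroup 2 N → N ≤ Q)
    (t : H) (htG : t ∈ G) (ht2 : t * t = 1) (htQ : t ∉ Q) :
    ∃ g ∈ G, g * t * g⁻¹ ∉ Q ⊔ zpowers t := by
  by_contra hcon
  push_neg at hcon
  set N : Subgroup H := Q ⊔ zpowers t with hN
  have htN : t ∈ N := (le_sup_right : zpowers t ≤ N) (mem_zpowers t)
  have hNG : N ≤ G := sup_le hQG (by rw [zpowers_le]; exact htG)
  have hnorm : ∀ g ∈ G, ∀ y ∈ N, g * y * g⁻¹ ∈ N := by
    intro g hg y hy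
    have h1 : cj g N ≤ N := by
      rw [hN]
      show (Q ⊔ zpowers t).map _ ≤ _
      rw [Subgroup.map_sup, MonoidHom.map_zpowers]
      apply sup_le
      · intro y hy
        rw [mem_cj] at hy
        have := hQn g hg _ hy
        have h2 : g * (g⁻¹ * y * g) * g⁻¹ = y := by group
        rw [h2] at this
        exact (le_sup_left : Q ≤ Q ⊔ zpowers t) this
      · rw [zpowers_le]
        exact hcon g hg
    exact h1 (conj_mem_cj hy)
  have htnorm : zpowers t ≤ normalizer (Q : Set H) := by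
    rw [zpowers_le, Subgroup.mem_normalizer_iff]
    intro y
    constructor
    · intro hy
      exact hQn t htG y hy
    · intro hy
      have := hQn t⁻¹ (G.inv_mem htG) _ hy
      have h2 : t⁻¹ * (t * y * t⁻¹) * t⁻¹⁻¹ = y := by group
      rw [h2] at this
      exact this
  have ht2' : IsPGroup 2 (zpowers t) := by
    intro y
    refine ⟨1, ?_⟩
    obtain ⟨y, hy⟩ := y
    obtain ⟨k, rfl⟩ := mem_zpowers_iff.mp hy
    apply Subtype.ext
    show (t ^ k) ^ 2 ^ 1 = 1
    rw [pow_one, ← zpow_natCast, ← zpow_mul, mul_comm, zpow_mul, zpow_natCast, pow_two, ht2, one_zpow]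
  have hN2 : IsPGroup 2 N := by
    rw [hN, sup_comm]
    exact IsPGroup.to_sup_of_normal_right' ht2' hQ2 htnorm
  exact htQ (hmax N hNG hnorm hN2 htN)


/-- Step 2: `Q⟨t⟩` together with a conjugate of `t` outside it generates `G`. -/
theorem gen_eq (G Q : Subgroup H) (q : ℕ) (hq : q.Prime)
    (hQG : Q ≤ G) (hcard : Nat.card G = Nat.card Q * (2 * q))
    (t t' : H) (htG : t ∈ G) (htQ : t ∉ Q) (ht'G : t' ∈ G) (ht' : t' ∉ Q ⊔ zpowers t) :
    Q ⊔ zpowers t ⊔ zpowers t' = G := by
  set N : Subgroup H := Q ⊔ zpowers t with hN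
  set M : Subgroup H := N ⊔ zpowers t' with hM
  have htN : t ∈ N := (le_sup_right : zpowers t ≤ N) (mem_zpowers t)
  have ht'M : t' ∈ M := (le_sup_right : zpowers t' ≤ M) (mem_zpowers t')
  have hQN : Q ≤ N := le_sup_left
  have hNM : N ≤ M := le_sup_left
  have hNG : N ≤ G := sup_le hQG (by rw [zpowers_le]; exact htG)
  have hMG : M ≤ G := sup_le hNG (by rw [zpowers_le]; exact ht'G)
  have h1 := relIndex_mul_card_of_le hQN
  have h2 := relIndex_mul_card_of_le hNM
  have h3 := relIndex_mul_card_of_le hMG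
  have hQpos : 0 < Nat.card Q := Nat.card_pos
  have hNpos : 0 < Nat.card N := Nat.card_pos
  have ha : 2 ≤ Q.relIndex N := by
    by_contra hlt
    have : Q.relIndex N = 0 ∨ Q.relIndex N = 1 := by omega
    rcases this with h0 | h0
    · rw [h0, zero_mul] at h1; omega
    · rw [Subgroup.relIndex_eq_one] at h0
      exact htQ (h0 htN)
  have hb : 2 ≤ N.relIndex M := by
    by_contra hlt
    have : N.relIndex M = 0 ∨ N.relIndex M = 1 := by omega
    rcases this with h0 | h0
    · rw [h0, zero_mul] at h2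
      have : 0 < Nat.card M := Nat.card_pos
      omega
    · rw [Subgroup.relIndex_eq_one] at h0
      exact ht' (h0 ht'M)
  have hdvd : Q.relIndex N * N.relIndex M ∣ 2 * q := by
    have h4 : Nat.card M = Nat.card Q * (Q.relIndex N * N.relIndex M) := by
      rw [← h2, ← h1]; ring
    have h5 : Nat.card M ∣ Nat.card G := Subgroup.card_dvd_of_le hMG
    rw [h4, hcard] at h5
    exact (Nat.mul_dvd_mul_iff_left hQpos).mp h5
  have heq := two_mul_prime_of_dvd hq ha hb hdvd
  have hcardM : Nat.card M = Nat.card G := by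
    rw [hcard, ← heq, ← h2, ← h1]; ring
  have hrel : M.relIndex G = 1 := by
    have hGpos : 0 < Nat.card G := Nat.card_pos
    rw [hcardM] at h3
    have : M.relIndex G * Nat.card G = 1 * Nat.card G := by rw [h3, one_mul]
    exact Nat.eq_of_mul_eq_mul_right hGpos this
  rw [Subgroup.relIndex_eq_one] at hrel
  exact le_antisymm hMG hrel

end localq3

end Cfsg.Agent.Lib.helper6.Sims
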