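import Mathlib
import Cfsg.Agent.Lib.helper6.SimsA

set_option autoImplicit false
set_option linter.unusedSectionVars false
set_option linter.unusedVariables false
set_option linter.style.haveILetI false

namespace Cfsg.Agent.Lib.helper6.Sims

open Subgroup

section fixedpts

variable {H : Type*} [Group H] [Finite H]

/-- orbit counting for conjugation by `r` (with `r ^ q = 1`, `q` prime) on a subgroup `Z`
normalized by `r`. -/
theorem card_modEq_fixed (Z C : Subgroup H) (r : H) (q : ℕ) [Fact q.Prime] (hr : r ^ q = 1)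
    (hZr : ∀ z ∈ Z, r * z * r⁻¹ ∈ Z) (hC : ∀ z, z ∈ C ↔ z ∈ Z ∧ r * z * r⁻¹ = z) :
    Nat.card Z ≡ Nat.card C [MOD q] := by
  classical
  haveI : Fintype ↥Z := Fintype.ofFinite _
  set f : Function.End ↥Z := fun z => ⟨r * z * r⁻¹, hZr z z.2⟩ with hf
  have hpow : ∀ (n : ℕ) (z : ↥Z), (((f ^ n) z : ↥Z) : H) = r ^ n * z * (r ^ n)⁻¹ := by
    intro n
    induction n with
    | zero =>
      intro z
      rw [pow_zero, pow_zero, one_mul, inv_one, mul_one]
      rfl
    | succ n ih =>
      intro z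
      rw [pow_succ]
      show (((f ^ n) (f z) : ↥Z) : H) = _
      rw [ih (f z)]
      show r ^ n * (r * z * r⁻¹) * (r ^ n)⁻¹ = _
      rw [pow_succ, mul_inv_rev]
      simp only [mul_assoc]
  have hfq : f ^ q ^ 1 = 1 := by
    rw [pow_one]
    funext z
    apply Subtype.ext
    rw [hpow q z, hr, one_mul, inv_one, mul_one]
    rfl
  have key := Equiv.Perm.card_fixedPoints_modEq (f := f) (p := q) (n := 1) hfq
  have e : ↥(Function.fixedPoints f) ≃ ↥C :=
    { toFun := fun z => ⟨(z.1 : H), (hC _).mpr ⟨z.1.2, congrArg Subtype.val z.2⟩⟩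
      invFun := fun c => ⟨⟨c.1, ((hC _).mp c.2).1⟩, Subtype.ext ((hC _).mp c.2).2⟩
      left_inv := fun z => rfl
      right_inv := fun c => rfl }
  rw [Nat.card_eq_fintype_card, ← Nat.card_congr e, Nat.card_eq_fintype_card]
  exact key

end fixedpts

end Cfsg.Agent.Lib.helper6.Sims
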