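import Mathlib
import Cfsg.Agent.Lib.helper6.SimsA
import Cfsg.Agent.Lib.helper6.SimsB
import Cfsg.Agent.Lib.helper6.SimsC

set_option autoImplicit false
set_option linter.unusedSectionVars false
set_option linter.unusedVariables false
set_option linter.style.haveILetI false

namespace Cfsg.Agent.Lib.helper6.Sims

open Subgroup

section localq3

variable {H : Type*} [Group H] [Finite H]

theorem arith_q3 {q n c u : ℕ} (hq : q.Prime) (hq2 : q ≠ 2) (hcn : c < n)
    (hu : u ≤ 2 ^ c) (hn : 2 ^ n ≤ 4 * u) (hmod : 2 ^ n ≡ 2 ^ c [MOD q]) : q = 3 := by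
  have hn2 : n ≤ c + 2 := by
    have h1 : 2 ^ n ≤ 2 ^ (c + 2) := by
      calc 2 ^ n ≤ 4 * u := hn
        _ ≤ 4 * 2 ^ c := Nat.mul_le_mul_left 4 hu
        _ = 2 ^ (c + 2) := by ring
    exact (Nat.pow_le_pow_iff_right (by norm_num)).mp h1
  have hle : 2 ^ c ≤ 2 ^ n := Nat.pow_le_pow_right (by norm_num) hcn.le
  have hd : q ∣ 2 ^ n - 2 ^ c := (Nat.modEq_iff_dvd' hle).mp hmod.symm
  have hq2' : ¬ q ∣ 2 ^ c := by
    intro h
    have := (Nat.Prime.dvd_of_dvd_pow hq h)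
    exact hq2 ((Nat.prime_dvd_prime_iff_eq hq Nat.prime_two).mp this)
  have hcases : n = c + 1 ∨ n = c + 2 := by omega
  rcases hcases with rfl | rfl
  · have : 2 ^ (c + 1) - 2 ^ c = 2 ^ c := by rw [pow_succ]; omega
    rw [this] at hd
    exact absurd hd hq2'
  · have : 2 ^ (c + 2) - 2 ^ c = 3 * 2 ^ c := by
      have : 2 ^ (c + 2) = 4 * 2 ^ c := by ring
      omega
    rw [this] at hd
    rcases (Nat.Prime.dvd_mul hq).mp hd with h | h
    · exact (Nat.prime_dvd_prime_iff_eq hq Nat.prime_three).mp h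
    · exact absurd h hq2'

/-- The local lemma: a group `G` with `G/Q` of order `2q` (`q` an odd prime, `Q` the largest normal
2-subgroup) acting on a normal 2-subgroup `Z ≤ Z(Q)` with kernel `Q`, such that some involution `t ∉ Q`
centralizes a subgroup of index `≤ 2` of `Z`, has `q = 3`. -/
theorem local_q3 (G Q Z K : Subgroup H) (q : ℕ) (hq : q.Prime) (hq2 : q ≠ 2)
    (hQG : Q ≤ G) (hZQ : Z ≤ Q)
    (hQn : ∀ g ∈ G, ∀ y ∈ Q, g * y * g⁻¹ ∈ Q) (hZn : ∀ g ∈ G, ∀ z ∈ Z, g * z * g⁻¹ ∈ Z)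
    (hQ2 : IsPGroup 2 Q)
    (hmax : ∀ N : Subgroup H, N ≤ G → (∀ g ∈ G, ∀ y ∈ N, g * y * g⁻¹ ∈ N) → IsPGroup 2 N → N ≤ Q)
    (hcard : Nat.card G = Nat.card Q * (2 * q))
    (hQZ : ∀ y ∈ Q, ∀ z ∈ Z, y * z = z * y)
    (hCZ : ∀ g ∈ G, (∀ z ∈ Z, g * z = z * g) → g ∈ Q)
    (t : H) (htG : t ∈ G) (ht2 : t * t = 1) (htQ : t ∉ Q)
    (hKZ : K ≤ Z) (hKt : ∀ z ∈ K, t * z = z * t) (hKidx : Nat.card Z ≤ 2 * Nat.card K) :
    q = 3 := by
  haveI : Fact q.Prime := ⟨hq⟩
  haveI : Fact (Nat.Prime 2) := ⟨Nat.prime_two⟩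
  obtain ⟨g, hgG, ht'⟩ := exists_conj_not_mem G Q hQG hQn hQ2 hmax t htG ht2 htQ
  have ht'G : g * t * g⁻¹ ∈ G := G.mul_mem (G.mul_mem hgG htG) (G.inv_mem hgG)
  have hgen := gen_eq G Q q hq hQG hcard t (g * t * g⁻¹) htG htQ ht'G ht'
  set K' : Subgroup H := cj g K with hK'
  set U : Subgroup H := K ⊓ K' with hU
  have hK'Z : K' ≤ Z := by
    intro y hy
    rw [hK', mem_cj] at hy
    have := hZn g hgG _ (hKZ hy)
    have h2 : g * (g⁻¹ * y * g) * g⁻¹ = y := by group
    rwa [h2] at this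
  have hUZ : U ≤ Z := inf_le_left.trans hKZ
  -- `G` centralizes `U`
  have hGU : G ≤ centralizer (U : Set H) := by
    rw [← hgen]
    refine sup_le (sup_le ?_ ?_) ?_
    · intro y hy
      rw [mem_centralizer_iff]
      intro u hu
      exact (hQZ y hy u (hUZ hu)).symm
    · rw [zpowers_le, mem_centralizer_iff]
      intro u hu
      exact (hKt u hu.1).symm
    · rw [zpowers_le, mem_centralizer_iff]
      intro u hu
      have h1 : g⁻¹ * u * g ∈ K := by
        have h0 : u ∈ cj g K := hu.2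
        exact mem_cj.mp h0
      have h2 := hKt _ h1
      -- t * (g⁻¹ u g) = (g⁻¹ u g) * t
      have h3 : g * (t * (g⁻¹ * u * g)) * g⁻¹ = g * ((g⁻¹ * u * g) * t) * g⁻¹ := by rw [h2]
      have h4 : g * (t * (g⁻¹ * u * g)) * g⁻¹ = g * t * g⁻¹ * u := by group
      have h5 : g * ((g⁻¹ * u * g) * t) * g⁻¹ = u * (g * t * g⁻¹) := by group
      rw [h4, h5] at h3
      exact h3.symm
  -- index of `U` in `Z`
  have hcK' : Nat.card K' = Nat.card K := card_cj g K
  have hZpos : 0 < Nat.card Z := Nat.card_pos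
  have hKpos : 0 < Nat.card K := Nat.card_pos
  have hrK : K.relIndex Z ≤ 2 := by
    have h1 := relIndex_mul_card_of_le hKZ
    by_contra hlt
    push_neg at hlt
    have : 3 * Nat.card K ≤ K.relIndex Z * Nat.card K := Nat.mul_le_mul_right _ hlt
    omega
  have hrK' : K'.relIndex Z ≤ 2 := by
    have h1 := relIndex_mul_card_of_le hK'Z
    rw [hcK'] at h1
    by_contra hlt
    push_neg at hlt
    have : 3 * Nat.card K ≤ K'.relIndex Z * Nat.card K := Nat.mul_le_mul_right _ hlt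
    omega
  have hrU : U.relIndex Z ≤ 4 := by
    calc U.relIndex Z ≤ K.relIndex Z * K'.relIndex Z := Subgroup.relIndex_inf_le
      _ ≤ 2 * 2 := Nat.mul_le_mul hrK hrK'
  have hZU : Nat.card Z ≤ 4 * Nat.card U := by
    have h1 := relIndex_mul_card_of_le hUZ
    rw [← h1]
    exact Nat.mul_le_mul_right _ hrU
  -- an element of order `q`
  have hqdvd : q ∣ Nat.card G := ⟨Nat.card Q * 2, by rw [hcard]; ring⟩
  obtain ⟨r0, hr0⟩ := exists_prime_orderOf_dvd_card' (G := ↥G) q hqdvd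
  set r : H := (r0 : H) with hr
  have hrG : r ∈ G := r0.2
  have hro : orderOf r = q := by rw [hr, Subgroup.orderOf_coe]; exact hr0
  have hrq : r ^ q = 1 := by rw [← hro]; exact pow_orderOf_eq_one r
  have hrQ : r ∉ Q := by
    intro hrQ
    obtain ⟨k, hk⟩ := hQ2 ⟨r, hrQ⟩
    have hk' : r ^ 2 ^ k = 1 := congrArg Subtype.val hk
    have : q ∣ 2 ^ k := by rw [← hro]; exact orderOf_dvd_of_pow_eq_one hk'
    have := Nat.Prime.dvd_of_dvd_pow hq this
    exact hq2 ((Nat.prime_dvd_prime_iff_eq hq Nat.prime_two).mp this)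
  -- fixed points
  set C : Subgroup H := Z ⊓ centralizer ({r} : Set H) with hC
  have hCmem : ∀ z, z ∈ C ↔ z ∈ Z ∧ r * z * r⁻¹ = z := by
    intro z
    rw [hC, mem_inf, mem_centralizer_iff]
    constructor
    · rintro ⟨h1, h2⟩
      refine ⟨h1, ?_⟩
      have := h2 r rfl
      rw [this]; group
    · rintro ⟨h1, h2⟩
      refine ⟨h1, ?_⟩
      intro y hy
      rw [Set.mem_singleton_iff] at hy
      subst hy
      calc r * z = r * z * r⁻¹ * r := by group
        _ = z * r := by rw [h2]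
  have hmod := card_modEq_fixed Z C r q hrq (hZn r hrG) hCmem
  have hUC : U ≤ C := by
    intro u hu
    rw [hCmem]
    refine ⟨hUZ hu, ?_⟩
    have := mem_centralizer_iff.mp (hGU hrG) u hu
    -- u * r = r * u
    calc r * u * r⁻¹ = u * r * r⁻¹ := by rw [this]
      _ = u := by group
  have hCZ' : C ≤ Z := inf_le_left
  have hCne : C ≠ Z := by
    intro heq
    apply hrQ
    apply hCZ r hrG
    intro z hz
    have : z ∈ C := by rw [heq]; exact hz
    have h2 := ((hCmem z).mp this).2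
    calc r * z = r * z * r⁻¹ * r := by group
      _ = z * r := by rw [h2]
  have hZ2 : IsPGroup 2 Z := hQ2.to_le hZQ
  have hC2 : IsPGroup 2 C := hZ2.to_le hCZ'
  obtain ⟨n, hn⟩ := hZ2.exists_card_eq
  obtain ⟨c, hc⟩ := hC2.exists_card_eq
  have hcn : c < n := by
    have h1 := relIndex_mul_card_of_le hCZ'
    have h2 : 2 ≤ C.relIndex Z := by
      by_contra hlt
      have : C.relIndex Z = 0 ∨ C.relIndex Z = 1 := by omega
      rcases this with h0 | h0
      · rw [h0, zero_mul] at h1; omega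
      · rw [Subgroup.relIndex_eq_one] at h0
        exact hCne (le_antisymm hCZ' h0)
    have h3 : 2 ^ c < 2 ^ n := by
      rw [← hn, ← hc, ← h1]
      have : 0 < Nat.card C := Nat.card_pos
      nlinarith
    exact (Nat.pow_lt_pow_iff_right (by norm_num)).mp h3
  have hUle : Nat.card U ≤ 2 ^ c := by
    rw [← hc]
    exact Nat.le_of_dvd Nat.card_pos (Subgroup.card_dvd_of_le hUC)
  rw [hn] at hZU
  rw [hn, hc] at hmod
  exact arith_q3 hq hq2 hcn hUle hZU hmod

end localq3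

end Cfsg.Agent.Lib.helper6.Sims
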