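import Mathlib
import Cfsg.Agent.Lib.helper6.SimsA

set_option autoImplicit false
set_option linter.unusedSectionVars false
set_option linter.unusedVariables false
set_option linter.style.haveILetI false

namespace Cfsg.Agent.Lib.helper6.Sims

open Subgroup

section reach

variable {H : Type*} [Group H]

/-- elements of `H` that can be written with exactly `k` letters `x^{±1}` separated by elements
of `G` -/
def reach (G : Subgroup H) (x : H) : ℕ → Set H
  | 0 => (G : Set H)
  | (k + 1) => {y | ∃ h ∈ reach G x k, ∃ g ∈ G, y = h * x * g ∨ y = h * x⁻¹ * g}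

variable {G : Subgroup H} {x : H}

theorem reach_zero {h : H} : h ∈ reach G x 0 ↔ h ∈ G := Iff.rfl

theorem reach_succ {k : ℕ} {y : H} :
    y ∈ reach G x (k + 1) ↔ ∃ h ∈ reach G x k, ∃ g ∈ G, y = h * x * g ∨ y = h * x⁻¹ * g := Iff.rfl

theorem reach_mul_left : ∀ (k : ℕ) {h g : H}, h ∈ reach G x k → g ∈ G → g * h ∈ reach G x k
  | 0, h, g, hh, hg => G.mul_mem hg hh
  | (k + 1), h, g, hh, hg => by
    obtain ⟨h', hh', g', hg', hy⟩ := reach_succ.mp hh
    refine reach_succ.mpr ⟨g * h', reach_mul_left k hh' hg, g', hg', ?_⟩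
    rcases hy with rfl | rfl
    · left; simp only [mul_assoc]
    · right; simp only [mul_assoc]

theorem reach_left_ext : ∀ (k : ℕ) {y g : H}, y ∈ reach G x k → g ∈ G →
    g * x * y ∈ reach G x (k + 1) ∧ g * x⁻¹ * y ∈ reach G x (k + 1)
  | 0, y, g, hy, hg =>
    ⟨reach_succ.mpr ⟨g, hg, y, hy, Or.inl rfl⟩, reach_succ.mpr ⟨g, hg, y, hy, Or.inr rfl⟩⟩
  | (k + 1), y, g, hy, hg => by
    obtain ⟨h', hh', g', hg', hy'⟩ := reach_succ.mp hy
    have ih := reach_left_ext k hh' hg
    constructor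
    · refine reach_succ.mpr ⟨g * x * h', ih.1, g', hg', ?_⟩
      rcases hy' with rfl | rfl
      · left; simp only [mul_assoc]
      · right; simp only [mul_assoc]
    · refine reach_succ.mpr ⟨g * x⁻¹ * h', ih.2, g', hg', ?_⟩
      rcases hy' with rfl | rfl
      · left; simp only [mul_assoc]
      · right; simp only [mul_assoc]

theorem reach_inv : ∀ (k : ℕ) {h : H}, h ∈ reach G x k → h⁻¹ ∈ reach G x k
  | 0, h, hh => G.inv_mem hh
  | (k + 1), h, hh => by
    obtain ⟨h', hh', g', hg', hy⟩ := reach_succ.mp hh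
    have ih := reach_inv k hh'
    have ext := reach_left_ext k ih (G.inv_mem hg')
    rcases hy with rfl | rfl
    · have : (h' * x * g')⁻¹ = g'⁻¹ * x⁻¹ * h'⁻¹ := by group
      rw [this]
      exact ext.2
    · have : (h' * x⁻¹ * g')⁻¹ = g'⁻¹ * x * h'⁻¹ := by group
      rw [this]
      exact ext.1

theorem reach_mul_right : ∀ (k : ℕ) {h g : H}, h ∈ reach G x k → g ∈ G → h * g ∈ reach G x k
  | 0, h, g, hh, hg => G.mul_mem hh hg
  | (k + 1), h, g, hh, hg => by
    obtain ⟨h', hh', g', hg', hy⟩ := reach_succ.mp hh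
    refine reach_succ.mpr ⟨h', hh', g' * g, G.mul_mem hg' hg, ?_⟩
    rcases hy with rfl | rfl
    · left; simp only [mul_assoc]
    · right; simp only [mul_assoc]

theorem reach_mul : ∀ (k j : ℕ) {a b : H}, a ∈ reach G x j → b ∈ reach G x k →
    a * b ∈ reach G x (j + k)
  | 0, j, a, b, ha, hb => reach_mul_right j ha hb
  | (k + 1), j, a, b, ha, hb => by
    obtain ⟨h', hh', g', hg', hy⟩ := reach_succ.mp hb
    have ih := reach_mul k j ha hh'
    rw [← add_assoc]
    refine reach_succ.mpr ⟨a * h', ih, g', hg', ?_⟩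
    rcases hy with rfl | rfl
    · left; simp only [mul_assoc]
    · right; simp only [mul_assoc]

theorem exists_reach (hgen : G ⊔ zpowers x = ⊤) (h : H) : ∃ k, h ∈ reach G x k := by
  let T : Subgroup H :=
    { carrier := {h | ∃ k, h ∈ reach G x k}
      mul_mem' := by
        rintro a b ⟨j, ha⟩ ⟨k, hb⟩
        exact ⟨j + k, reach_mul k j ha hb⟩
      one_mem' := ⟨0, G.one_mem⟩
      inv_mem' := by
        rintro a ⟨k, ha⟩
        exact ⟨k, reach_inv k ha⟩ }
  have h1 : G ≤ T := fun g hg => ⟨0, hg⟩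
  have h2 : zpowers x ≤ T := by
    rw [zpowers_le]
    exact ⟨1, reach_succ.mpr ⟨1, G.one_mem, 1, G.one_mem, Or.inl (by simp)⟩⟩
  have h3 : (⊤ : Subgroup H) ≤ T := by
    rw [← hgen]
    exact sup_le h1 h2
  exact h3 (mem_top h)

end reach

section critical

variable {H : Type*} [Group H]

theorem exists_critical (G Q S Z : Subgroup H) (x : H)
    (hgen : G ⊔ zpowers x = ⊤) (hQS : Q ≤ S) (hSG : S ≤ G)
    (hxS : ∀ s ∈ S, x * s * x⁻¹ ∈ S) (hxS' : ∀ s ∈ S, x⁻¹ * s * x ∈ S)
    (hQn : ∀ g ∈ G, ∀ y ∈ Q, g * y * g⁻¹ ∈ Q) (hZQ : Z ≤ Q)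
    (hex : ∃ h : H, ¬ Z ≤ cj h Q) :
    ∃ h : H, cj h Z ≤ G ∧ Z ≤ cj h G ∧ ¬ Z ≤ cj h Q := by
  classical
  have hcjG : ∀ g ∈ G, cj g G = G := by
    intro g hg
    apply cj_eq_self
    · intro y hy; exact G.mul_mem (G.mul_mem hg hy) (G.inv_mem hg)
    · intro y hy; exact G.mul_mem (G.mul_mem (G.inv_mem hg) hy) hg
  have hcjQ : ∀ g ∈ G, cj g Q = Q := by
    intro g hg
    apply cj_eq_self
    · exact hQn g hg
    · intro y hy
      have := hQn g⁻¹ (G.inv_mem hg) y hy
      rwa [inv_inv] at this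
  have hcjS : cj x S = S := cj_eq_self hxS hxS'
  have hcjS' : cj x⁻¹ S = S := by
    apply cj_eq_self
    · intro y hy
      have := hxS' y hy
      rwa [inv_inv]
    · intro y hy
      have := hxS y hy
      rwa [inv_inv]
  have hP : ∃ k, ∃ h ∈ reach G x k, ¬ Z ≤ cj h Q := by
    obtain ⟨h, hh⟩ := hex
    obtain ⟨k, hk⟩ := exists_reach hgen h
    exact ⟨k, h, hk, hh⟩
  set b := Nat.find hP with hb
  obtain ⟨h, hhb, hhZ⟩ := Nat.find_spec hP
  have hmin : ∀ k < b, ∀ y ∈ reach G x k, Z ≤ cj y Q := by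
    intro k hk y hy
    by_contra hcon
    exact Nat.find_min hP hk ⟨y, hy, hcon⟩
  have hb0 : b ≠ 0 := by
    intro h0
    rw [← hb, h0] at hhb
    apply hhZ
    rw [hcjQ h hhb]
    exact hZQ
  obtain ⟨b', hb'⟩ := Nat.exists_eq_succ_of_ne_zero hb0
  have hstar : ∀ y ∈ reach G x b, Z ≤ cj y G := by
    intro y hy
    rw [hb'] at hy
    obtain ⟨h', hh', g', hg', hy'⟩ := reach_succ.mp hy
    have h1 : Z ≤ cj h' Q := hmin b' (by omega) h' hh'
    have h2 : cj h' Q ≤ cj h' S := cj_le_cj hQS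
    rcases hy' with rfl | rfl
    · have h3 : cj h' S ≤ cj (h' * x * g') G := by
        have : cj (h' * x * g') G = cj h' (cj x G) := by
          rw [← cj_cj, ← cj_cj, hcjG g' hg']
        rw [this]
        apply cj_le_cj
        rw [← hcjS]
        exact cj_le_cj hSG
      exact h1.trans (h2.trans h3)
    · have h3 : cj h' S ≤ cj (h' * x⁻¹ * g') G := by
        have : cj (h' * x⁻¹ * g') G = cj h' (cj x⁻¹ G) := by
          rw [← cj_cj, ← cj_cj, hcjG g' hg']
        rw [this]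
        apply cj_le_cj
        rw [← hcjS']
        exact cj_le_cj hSG
      exact h1.trans (h2.trans h3)
  refine ⟨h, ?_, hstar h hhb, hhZ⟩
  have h4 := hstar h⁻¹ (reach_inv b hhb)
  rw [le_cj_iff, inv_inv] at h4
  exact h4

end critical

end Cfsg.Agent.Lib.helper6.Sims
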