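import Mathlib
import Cfsg.Agent.Lib.helper6.SimsA

set_option autoImplicit false
set_option linter.unusedSectionVars false
set_option linter.unusedVariables false
set_option linter.style.haveILetI false

namespace Cfsg.Agent.Lib.helper6.Sims

open Subgroup

section transv

variable {H : Type*} [Group H] [Finite H]

/-- a 2-subgroup `P` of `G` meets `Q` in a subgroup of index at most 2 (when `|G| = |Q|·2q`,
`q` odd). -/
theorem card_le_two_mul_inf (G Q P : Subgroup H) (q : ℕ) (hq : q.Prime) (hq2 : q ≠ 2)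
    (hQG : Q ≤ G) (hQn : ∀ g ∈ G, ∀ y ∈ Q, g * y * g⁻¹ ∈ Q) (hQ2 : IsPGroup 2 Q)
    (hcard : Nat.card G = Nat.card Q * (2 * q)) (hPG : P ≤ G) (hP2 : IsPGroup 2 P) :
    Nat.card P ≤ 2 * Nat.card (P ⊓ Q : Subgroup H) := by
  haveI : Fact (Nat.Prime 2) := ⟨Nat.prime_two⟩
  have hPnorm : P ≤ normalizer (Q : Set H) := by
    intro p hp
    rw [Subgroup.mem_normalizer_iff]
    intro y
    constructor
    · intro hy
      exact hQn p (hPG hp) y hy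
    · intro hy
      have := hQn p⁻¹ (G.inv_mem (hPG hp)) _ hy
      have h2 : p⁻¹ * (p * y * p⁻¹) * p⁻¹⁻¹ = y := by group
      rwa [h2] at this
  have hPQ2 : IsPGroup 2 (P ⊔ Q : Subgroup H) := IsPGroup.to_sup_of_normal_right' hP2 hQ2 hPnorm
  have hPQG : P ⊔ Q ≤ G := sup_le hPG hQG
  obtain ⟨j, hj⟩ := hPQ2.exists_card_eq
  obtain ⟨a, ha⟩ := hQ2.exists_card_eq
  have hdvd : Nat.card (P ⊔ Q : Subgroup H) ∣ Nat.card G := Subgroup.card_dvd_of_le hPQG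
  rw [hj, hcard, ha] at hdvd
  have hcop : Nat.Coprime (2 ^ j) q := by
    apply Nat.Coprime.pow_left
    rw [Nat.coprime_comm, Nat.Prime.coprime_iff_not_dvd hq]
    intro h
    exact hq2 ((Nat.prime_dvd_prime_iff_eq hq Nat.prime_two).mp h)
  have hdvd' : 2 ^ j ∣ 2 ^ a * 2 := by
    have : 2 ^ a * (2 * q) = 2 ^ a * 2 * q := by ring
    rw [this] at hdvd
    exact hcop.dvd_of_dvd_mul_right hdvd
  have hle : Nat.card (P ⊔ Q : Subgroup H) ≤ 2 * Nat.card Q := by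
    rw [hj, ha, mul_comm]
    exact Nat.le_of_dvd (by positivity) hdvd'
  -- relIndex bookkeeping
  have hQle : Q ≤ P ⊔ Q := le_sup_right
  have h1 := relIndex_mul_card_of_le hQle
  have hQpos : 0 < Nat.card Q := Nat.card_pos
  have hr2 : Q.relIndex (P ⊔ Q) ≤ 2 := by
    by_contra hlt
    push_neg at hlt
    have : 3 * Nat.card Q ≤ Q.relIndex (P ⊔ Q) * Nat.card Q := Nat.mul_le_mul_right _ hlt
    omega
  have hr0 : Q.relIndex (P ⊔ Q) ≠ 0 := by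
    intro h0
    rw [h0, zero_mul] at h1
    have : 0 < Nat.card (P ⊔ Q : Subgroup H) := Nat.card_pos
    omega
  have hr3 : Q.relIndex P ≤ Q.relIndex (P ⊔ Q) :=
    Subgroup.relIndex_le_of_le_right (le_sup_left : P ≤ P ⊔ Q) hr0
  have hr4 : (P ⊓ Q).relIndex P = Q.relIndex P := Subgroup.inf_relIndex_left P Q
  have h5 := relIndex_mul_card_of_le (inf_le_left : P ⊓ Q ≤ P)
  rw [← h5, hr4]
  exact Nat.mul_le_mul_right _ (hr3.trans hr2)

theorem exists_transvection (G Q Z : Subgroup H) (q : ℕ) (hq : q.Prime) (hq2 : q ≠ 2)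
    (hQG : Q ≤ G) (hZQ : Z ≤ Q) (hQn : ∀ g ∈ G, ∀ y ∈ Q, g * y * g⁻¹ ∈ Q) (hQ2 : IsPGroup 2 Q)
    (hcard : Nat.card G = Nat.card Q * (2 * q))
    (hQZ : ∀ y ∈ Q, ∀ z ∈ Z, y * z = z * y) (hZ2 : ∀ z ∈ Z, z * z = 1)
    (hCZ : ∀ g ∈ G, (∀ z ∈ Z, g * z = z * g) → g ∈ Q)
    (h : H) (h1 : cj h Z ≤ G) (h2 : Z ≤ cj h G) (h3 : ¬ Z ≤ cj h Q) :
    ∃ t ∈ G, t * t = 1 ∧ t ∉ Q ∧ ∃ K : Subgroup H, K ≤ Z ∧ (∀ z ∈ K, t * z = z * t) ∧
      Nat.card Z ≤ 2 * Nat.card K := by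
  obtain ⟨a, haZ, haQ⟩ := SetLike.not_le_iff_exists.mp h3
  have ha'G : h⁻¹ * a * h ∈ G := mem_cj.mp (h2 haZ)
  have ha'Q : h⁻¹ * a * h ∉ Q := fun hc => haQ (mem_cj.mpr hc)
  have hex : ∃ z ∈ Z, (h⁻¹ * a * h) * z ≠ z * (h⁻¹ * a * h) := by
    by_contra hcon
    push_neg at hcon
    exact ha'Q (hCZ _ ha'G hcon)
  obtain ⟨z, hzZ, hz⟩ := hex
  refine ⟨h * z * h⁻¹, h1 (conj_mem_cj hzZ), ?_, ?_, Z ⊓ cj h Q, inf_le_left, ?_, ?_⟩
  · have : h * z * h⁻¹ * (h * z * h⁻¹) = h * (z * z) * h⁻¹ := by group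
    rw [this, hZ2 z hzZ]; group
  · intro htQ
    apply hz
    have h4 := hQZ _ htQ a haZ
    -- h z h⁻¹ a = a h z h⁻¹
    have h5 : h⁻¹ * (h * z * h⁻¹ * a) * h = h⁻¹ * (a * (h * z * h⁻¹)) * h := by rw [h4]
    have h6 : h⁻¹ * (h * z * h⁻¹ * a) * h = z * (h⁻¹ * a * h) := by group
    have h7 : h⁻¹ * (a * (h * z * h⁻¹)) * h = (h⁻¹ * a * h) * z := by group
    rw [h6, h7] at h5
    exact h5.symm
  · intro k hk
    have hk' : h⁻¹ * k * h ∈ Q := mem_cj.mp hk.2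
    have h4 := hQZ _ hk' z hzZ
    have h5 : h * ((h⁻¹ * k * h) * z) * h⁻¹ = h * (z * (h⁻¹ * k * h)) * h⁻¹ := by rw [h4]
    have h6 : h * ((h⁻¹ * k * h) * z) * h⁻¹ = k * (h * z * h⁻¹) := by group
    have h7 : h * (z * (h⁻¹ * k * h)) * h⁻¹ = (h * z * h⁻¹) * k := by group
    rw [h6, h7] at h5
    exact h5.symm
  · set P : Subgroup H := cj h⁻¹ Z with hP
    have hPG : P ≤ G := le_cj_iff.mp h2
    have hP2 : IsPGroup 2 P := by
      have hZ2' : IsPGroup 2 Z := hQ2.to_le hZQ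
      exact hZ2'.map _
    have key := card_le_two_mul_inf G Q P q hq hq2 hQG hQn hQ2 hcard hPG hP2
    have e1 : Nat.card P = Nat.card Z := card_cj h⁻¹ Z
    have e2 : cj h⁻¹ (Z ⊓ cj h Q) = P ⊓ Q := by
      rw [cj_inf, cj_inv_cj]
    have e3 : Nat.card (P ⊓ Q : Subgroup H) = Nat.card (Z ⊓ cj h Q : Subgroup H) := by
      rw [← e2]
      exact card_cj h⁻¹ _
    rw [e1, e3] at key
    exact key

end transv

end Cfsg.Agent.Lib.helper6.Sims
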