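import Mathlib
import Cfsg.Agent.Lib.helper6.SimsA

set_option autoImplicit false
set_option linter.unusedSectionVars false
set_option linter.unusedVariables false
set_option linter.style.haveILetI false

namespace Cfsg.Agent.Lib.helper6.Sims

open Subgroup

section omz

variable {H : Type*} [Group H]

/-- `Ω₁ Z(S)` as a subgroup of the ambient group -/
def omZ (S : Subgroup H) : Subgroup H where
  carrier := {z | z ∈ S ∧ (∀ s ∈ S, s * z = z * s) ∧ z * z = 1}
  mul_mem' := by
    rintro a b ⟨haS, hac, ha2⟩ ⟨hbS, hbc, hb2⟩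
    refine ⟨S.mul_mem haS hbS, ?_, ?_⟩
    · intro s hs
      rw [← mul_assoc, hac s hs, mul_assoc, hbc s hs, mul_assoc]
    · have hab : b * a = a * b := hac b hbS
      calc a * b * (a * b) = a * (b * a) * b := by group
        _ = a * (a * b) * b := by rw [hab]
        _ = (a * a) * (b * b) := by group
        _ = 1 := by rw [ha2, hb2, one_mul]
  one_mem' := ⟨S.one_mem, fun s _ => by rw [mul_one, one_mul], by rw [one_mul]⟩
  inv_mem' := by
    rintro a ⟨haS, hac, ha2⟩
    have hinv : a⁻¹ = a := by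
      rw [inv_eq_iff_mul_eq_one]; exact ha2
    rw [hinv]
    exact ⟨haS, hac, ha2⟩

theorem mem_omZ {S : Subgroup H} {z : H} :
    z ∈ omZ S ↔ z ∈ S ∧ (∀ s ∈ S, s * z = z * s) ∧ z * z = 1 := Iff.rfl

theorem omZ_le (S : Subgroup H) : omZ S ≤ S := fun _ hz => hz.1

/-- an element normalizing `S` normalizes `Ω₁ Z(S)` -/
theorem omZ_conj {S : Subgroup H} {x : H} (hxS : ∀ s ∈ S, x * s * x⁻¹ ∈ S)
    (hxS' : ∀ s ∈ S, x⁻¹ * s * x ∈ S) {z : H} (hz : z ∈ omZ S) : x * z * x⁻¹ ∈ omZ S := by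
  obtain ⟨hzS, hzc, hz2⟩ := hz
  refine ⟨hxS z hzS, ?_, ?_⟩
  · intro s hs
    have h1 := hzc _ (hxS' s hs)
    -- (x⁻¹ s x) z = z (x⁻¹ s x)
    have h2 : x * ((x⁻¹ * s * x) * z) * x⁻¹ = x * (z * (x⁻¹ * s * x)) * x⁻¹ := by rw [h1]
    have h3 : x * ((x⁻¹ * s * x) * z) * x⁻¹ = s * (x * z * x⁻¹) := by group
    have h4 : x * (z * (x⁻¹ * s * x)) * x⁻¹ = (x * z * x⁻¹) * s := by group
    rw [h3, h4] at h2
    exact h2
  · calc x * z * x⁻¹ * (x * z * x⁻¹) = x * (z * z) * x⁻¹ := by group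
      _ = 1 := by rw [hz2]; group

/-- a nontrivial finite 2-group has a central involution -/
theorem omZ_ne_bot [Finite H] {S : Subgroup H} (hS2 : IsPGroup 2 S) (hS : S ≠ ⊥) : omZ S ≠ ⊥ := by
  haveI : Fact (Nat.Prime 2) := ⟨Nat.prime_two⟩
  haveI : Nontrivial ↥S := (Subgroup.nontrivial_iff_ne_bot S).mpr hS
  haveI := hS2.center_nontrivial
  have hc2 : IsPGroup 2 (center ↥S) := hS2.to_subgroup _
  have hdvd : 2 ∣ Nat.card (center ↥S) := by
    rcases hc2.card_eq_or_dvd with h | h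
    · exfalso
      have : Subsingleton (center ↥S) := (Nat.card_eq_one_iff_unique.mp h).1
      exact not_subsingleton _ this
    · exact h
  obtain ⟨c, hc⟩ := exists_prime_orderOf_dvd_card' (G := center ↥S) 2 hdvd
  intro hbot
  have hmem : ((c : ↥S) : H) ∈ omZ S := by
    refine ⟨(c : ↥S).2, ?_, ?_⟩
    · intro s hs
      have := Subgroup.mem_center_iff.mp c.2 ⟨s, hs⟩
      exact congrArg Subtype.val this
    · have h2 : c ^ 2 = 1 := by rw [← hc]; exact pow_orderOf_eq_one c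
      have h3 : ((c : ↥S) : H) ^ 2 = 1 := by
        have := congrArg (fun y : center ↥S => ((y : ↥S) : H)) h2
        simpa using this
      rw [← pow_two]; exact h3
  rw [hbot, mem_bot] at hmem
  have hc1 : c = 1 := by
    apply Subtype.ext
    apply Subtype.ext
    exact hmem
  rw [hc1, orderOf_one] at hc
  omega

end omz

end Cfsg.Agent.Lib.helper6.Sims
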