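import Mathlib
import Cfsg.Agent.Lib.helper6.SimsA
import Cfsg.Agent.Lib.helper6.SimsD
import Cfsg.Agent.Lib.helper6.SimsE
import Cfsg.Agent.Lib.helper6.SimsF
import Cfsg.Agent.Lib.helper6.SimsG1

set_option autoImplicit false
set_option linter.unusedSectionVars false
set_option linter.unusedVariables false
set_option linter.style.haveILetI false

namespace Cfsg.Agent.Lib.helper6.Sims

open Subgroup

section assembly

variable {H : Type*} [Group H] [Finite H]

/-- the `G`-closure of `Ω₁ Z(S)` -/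
def zG (G S : Subgroup H) : Subgroup H :=
  Subgroup.closure {y | ∃ g ∈ G, ∃ z ∈ omZ S, y = g * z * g⁻¹}

theorem omZ_le_zG (G S : Subgroup H) : omZ S ≤ zG G S := by
  intro z hz
  apply Subgroup.subset_closure
  exact ⟨1, G.one_mem, z, hz, by simp⟩

theorem zG_conj (G S : Subgroup H) {g : H} (hg : g ∈ G) {z : H} (hz : z ∈ zG G S) :
    g * z * g⁻¹ ∈ zG G S := by
  have : zG G S ≤ (zG G S).comap (MulAut.conj g).toMonoidHom := by
    unfold zG
    rw [closure_le]
    rintro y ⟨g', hg', z, hz, rfl⟩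
    show (MulAut.conj g).toMonoidHom (g' * z * g'⁻¹) ∈ Subgroup.closure _
    apply Subgroup.subset_closure
    refine ⟨g * g', G.mul_mem hg hg', z, hz, ?_⟩
    simp only [MulEquiv.toMonoidHom_eq_coe, MonoidHom.coe_coe, MulAut.conj_apply]
    group
  have h := this hz
  simpa [MulAut.conj_apply] using h

theorem q3_abstract (G Q S : Subgroup H) (x : H) (q : ℕ) (hq : q.Prime) (hq2 : q ≠ 2)
    (hQS : Q ≤ S) (hSG : S ≤ G)
    (hQn : ∀ g ∈ G, ∀ y ∈ Q, g * y * g⁻¹ ∈ Q)
    (hQ2 : IsPGroup 2 Q) (hS2 : IsPGroup 2 S)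
    (hmax : ∀ N : Subgroup H, N ≤ G → (∀ g ∈ G, ∀ y ∈ N, g * y * g⁻¹ ∈ N) → IsPGroup 2 N → N ≤ Q)
    (hcard : Nat.card G = Nat.card Q * (2 * q))
    (hchar : ∀ g ∈ G, (∀ y ∈ Q, g * y = y * g) → g ∈ Q)
    (hSidx : ¬ 2 ∣ S.relIndex G)
    (hxS : ∀ s ∈ S, x * s * x⁻¹ ∈ S) (hxS' : ∀ s ∈ S, x⁻¹ * s * x ∈ S)
    (hgen : G ⊔ zpowers x = ⊤)
    (hcore : ∀ N : Subgroup H, N.Normal → N ≤ G → N = ⊥)
    (hSne : S ≠ ⊥) : q = 3 := by
  classical
  have hQG : Q ≤ G := hQS.trans hSG
  set Z0 : Subgroup H := omZ S with hZ0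
  set Z : Subgroup H := zG G S with hZ
  have hZ0ne : Z0 ≠ ⊥ := omZ_ne_bot hS2 hSne
  have hZ0Z : Z0 ≤ Z := omZ_le_zG G S
  have hZ0Q : Z0 ≤ Q := by
    intro z hz
    obtain ⟨hzS, hzc, hz2⟩ := hz
    apply hchar z (hSG hzS)
    intro y hy
    exact (hzc y (hQS hy)).symm
  -- Z ≤ Q
  have hZQ : Z ≤ Q := by
    rw [hZ]; unfold zG
    rw [closure_le]
    rintro y ⟨g, hg, z, hz, rfl⟩
    exact hQn g hg z (hZ0Q hz)
  -- Q centralizes Z
  have hQZ : ∀ y ∈ Q, ∀ z ∈ Z, y * z = z * y := by
    have : Z ≤ centralizer (Q : Set H) := by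
      rw [hZ]; unfold zG
      rw [closure_le]
      rintro y ⟨g, hg, z, hz, rfl⟩
      rw [SetLike.mem_coe, mem_centralizer_iff]
      intro w hw
      have hw' : g⁻¹ * w * g ∈ Q := by
        have := hQn g⁻¹ (G.inv_mem hg) w hw
        rwa [inv_inv] at this
      have hc := hz.2.1 _ (hQS hw')
      -- (g⁻¹ w g) z = z (g⁻¹ w g)
      calc w * (g * z * g⁻¹) = g * ((g⁻¹ * w * g) * z) * g⁻¹ := by group
        _ = g * (z * (g⁻¹ * w * g)) * g⁻¹ := by rw [hc]
        _ = g * z * g⁻¹ * w := by group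
    intro y hy z hz
    have := this hz
    rw [mem_centralizer_iff] at this
    exact this y hy
  -- exponent 2
  have hZ2 : ∀ z ∈ Z, z * z = 1 := by
    intro z hz
    have hmem : z ∈ Z := hz
    rw [hZ] at hz; unfold zG at hz
    induction hz using closure_induction with
    | mem y hy =>
      obtain ⟨g, hg, z, hz, rfl⟩ := hy
      have := hz.2.2
      calc g * z * g⁻¹ * (g * z * g⁻¹) = g * (z * z) * g⁻¹ := by group
        _ = 1 := by rw [this]; group
    | one => simp
    | mul a b ha hb iha ihb =>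
      have haZ : a ∈ Z := ha
      have hbZ : b ∈ Z := hb
      have hab : a * b = b * a := hQZ a (hZQ haZ) b hbZ
      calc a * b * (a * b) = a * (b * a) * b := by group
        _ = a * (a * b) * b := by rw [hab]
        _ = (a * a) * (b * b) := by group
        _ = 1 := by rw [iha haZ, ihb hbZ]; simp
    | inv a ha iha =>
      have haZ : a ∈ Z := ha
      have := iha haZ
      calc a⁻¹ * a⁻¹ = (a * a)⁻¹ := by group
        _ = 1 := by rw [this]; simp
  -- G-invariance
  have hZn : ∀ g ∈ G, ∀ z ∈ Z, g * z * g⁻¹ ∈ Z := fun g hg z hz => zG_conj G S hg hz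
  -- C_G(Z) = Q
  have hCZ : ∀ g ∈ G, (∀ z ∈ Z, g * z = z * g) → g ∈ Q := by
    intro g0 hg0G hg0c
    by_contra hg0Q
    set C : Subgroup H := G ⊓ centralizer (Z : Set H) with hC
    have hCG : C ≤ G := inf_le_left
    have hQC : Q ≤ C := by
      intro y hy
      refine Subgroup.mem_inf.mpr ⟨hQG hy, ?_⟩
      rw [mem_centralizer_iff]
      intro z hz
      exact (hQZ y hy z hz).symm
    have hg0C : g0 ∈ C := by
      refine Subgroup.mem_inf.mpr ⟨hg0G, ?_⟩
      rw [mem_centralizer_iff]
      intro z hz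
      exact (hg0c z hz).symm
    have hCn : ∀ g ∈ G, ∀ y ∈ C, g * y * g⁻¹ ∈ C := by
      intro g hg y hy
      have hy := Subgroup.mem_inf.mp hy
      refine Subgroup.mem_inf.mpr ⟨G.mul_mem (G.mul_mem hg hy.1) (G.inv_mem hg), ?_⟩
      rw [mem_centralizer_iff]
      intro z hz
      have hz' : g⁻¹ * z * g ∈ Z := by
        have := hZn g⁻¹ (G.inv_mem hg) z hz
        rwa [inv_inv] at this
      have hyc := hy.2
      rw [mem_centralizer_iff] at hyc
      have hc := hyc _ hz'
      calc z * (g * y * g⁻¹) = g * ((g⁻¹ * z * g) * y) * g⁻¹ := by group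
        _ = g * (y * (g⁻¹ * z * g)) * g⁻¹ := by rw [hc]
        _ = g * y * g⁻¹ * z := by group
    -- indices
    have hQGidx : Q.relIndex G = 2 * q := by
      have h1 := relIndex_mul_card_of_le hQG
      rw [hcard] at h1
      have hpos : 0 < Nat.card Q := Nat.card_pos
      have : Q.relIndex G * Nat.card Q = (2 * q) * Nat.card Q := by rw [h1]; ring
      exact Nat.eq_of_mul_eq_mul_right hpos this
    have hmul : Q.relIndex C * C.relIndex G = 2 * q := by
      rw [← hQGidx]
      exact relIndex_mul_relIndex Q C G hQC hCG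
    by_cases hqd : q ∣ Q.relIndex C
    · -- C has index ≤ 2 in G
      obtain ⟨e, he⟩ := hqd
      have her : e * C.relIndex G = 2 := by
        have : q * (e * C.relIndex G) = q * 2 := by
          rw [← mul_assoc, ← he, hmul]; ring
        exact Nat.eq_of_mul_eq_mul_left hq.pos this
      have hCdvd : C.relIndex G ∣ 2 := ⟨e, by rw [← her]; ring⟩
      set L : Subgroup H := C ⊔ S with hL
      have hLG : L ≤ G := sup_le hCG hSG
      have h1 : L.relIndex G ∣ C.relIndex G := relIndex_dvd_of_le_left G le_sup_left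
      have h2 : L.relIndex G ∣ S.relIndex G := relIndex_dvd_of_le_left G le_sup_right
      have hL1 : L.relIndex G = 1 := by
        have h3 : L.relIndex G ∣ 2 := h1.trans hCdvd
        rcases (Nat.dvd_prime Nat.prime_two).mp h3 with h | h
        · exact h
        · exfalso; apply hSidx; rw [← h]; exact h2
      have hGL : G ≤ L := relIndex_eq_one.mp hL1
      -- G centralizes Z0
      have hLc : L ≤ centralizer (Z0 : Set H) := by
        apply sup_le
        · intro y hy
          rw [mem_centralizer_iff]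
          intro z hz
          have hyc := (Subgroup.mem_inf.mp hy).2
          rw [mem_centralizer_iff] at hyc
          exact hyc z (hZ0Z hz)
        · intro s hs
          rw [mem_centralizer_iff]
          intro z hz
          exact (hz.2.1 s hs).symm
      -- Z0 is normal in H
      have hnorm : normalizer (Z0 : Set H) = ⊤ := by
        rw [eq_top_iff, ← hgen]
        apply sup_le
        · exact (hGL.trans hLc).trans (centralizer_le_normalizer _)
        · rw [zpowers_le]
          rw [mem_normalizer_iff]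
          intro z
          constructor
          · intro hz
            exact omZ_conj hxS hxS' hz
          · intro hz
            have hx' : ∀ s ∈ S, x⁻¹ * s * x⁻¹⁻¹ ∈ S := by
              intro s hs; rw [inv_inv]; exact hxS' s hs
            have hx'' : ∀ s ∈ S, x⁻¹⁻¹ * s * x⁻¹ ∈ S := by
              intro s hs; rw [inv_inv]; exact hxS s hs
            have := omZ_conj hx' hx'' hz
            have h2 : x⁻¹ * (x * z * x⁻¹) * x⁻¹⁻¹ = z := by group
            rwa [h2] at this
      have hZ0normal : Z0.Normal := normalizer_eq_top_iff.mp hnorm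
      exact hZ0ne (hcore Z0 hZ0normal ((omZ_le S).trans hSG))
    · -- C is a 2-group
      have hd2 : Q.relIndex C ∣ 2 := by
        have hcop : Nat.Coprime (Q.relIndex C) q := by
          rw [Nat.coprime_comm, Nat.Prime.coprime_iff_not_dvd hq]
          exact hqd
        have : Q.relIndex C ∣ 2 * q := ⟨_, hmul.symm⟩
        exact hcop.dvd_of_dvd_mul_right this
      have hC2 : IsPGroup 2 C := by
        obtain ⟨a, ha⟩ := hQ2.exists_card_eq
        have h1 := relIndex_mul_card_of_le hQC
        rcases (Nat.dvd_prime Nat.prime_two).mp hd2 with h | h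
        · apply IsPGroup.of_card (n := a)
          rw [← h1, h, ha]; ring
        · apply IsPGroup.of_card (n := a + 1)
          rw [← h1, h, ha]; ring
      exact hg0Q (hmax C hCG hCn hC2 hg0C)
  -- existence of h with Z ≰ Q^h
  have hex : ∃ h : H, ¬ Z ≤ cj h Q := by
    by_contra hcon
    push_neg at hcon
    have hZcore : Z ≤ Q.normalCore := by
      intro z hz
      show ∀ b : H, b * z * b⁻¹ ∈ Q
      intro b
      have := hcon b⁻¹ hz
      rw [mem_cj, inv_inv] at this
      exact this
    have hbot := hcore Q.normalCore (normalCore_normal Q) ((normalCore_le Q).trans hQG)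
    rw [hbot] at hZcore
    exact hZ0ne (le_bot_iff.mp (hZ0Z.trans hZcore))
  obtain ⟨h, h1, h2, h3⟩ := exists_critical G Q S Z x hgen hQS hSG hxS hxS' hQn hZQ hex
  obtain ⟨t, htG, ht2, htQ, K, hKZ, hKt, hKidx⟩ :=
    exists_transvection G Q Z q hq hq2 hQG hZQ hQn hQ2 hcard hQZ hZ2 hCZ h h1 h2 h3
  exact local_q3 G Q Z K q hq hq2 hQG hZQ hQn hZn hQ2 hmax hcard hQZ hCZ t htG ht2 htQ hKZ hKt hKidx

end assembly

end Cfsg.Agent.Lib.helper6.Sims
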