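import Mathlib
import Cfsg.Prelude.Def_Solvable
import Cfsg.Agent.Lib.helper6.SimsG2

set_option autoImplicit false
set_option linter.unusedSectionVars false
set_option linter.unusedVariables false
set_option linter.style.haveILetI false

namespace Cfsg.Agent.Lib.helper6.Sims

open Subgroup

section translate

variable {H : Type*} [Group H] [Finite H]

theorem pCore2_normal (X : Type*) [Group X] : (Cfsg.pCore 2 X).Normal :=
  Subgroup.sSup_normal _ (fun _ h => h.1)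

theorem pCore2_isPGroup (X : Type*) [Group X] : IsPGroup 2 (Cfsg.pCore 2 X) :=
  Sylow.sSup_of_normal _ (fun _ h => h.2) (fun _ h => h.1)

theorem le_pCore2 {X : Type*} [Group X] {N : Subgroup X} (hN : N.Normal) (hp : IsPGroup 2 N) :
    N ≤ Cfsg.pCore 2 X := le_sSup ⟨hN, hp⟩

/-- the facts about `G`, `Q = O₂(G)`, `S` as subgroups of `H` needed by `q3_abstract` and the glue -/
theorem setup_facts (G : Subgroup H)
    (hchar : Subgroup.centralizer (Cfsg.pCore 2 ↥G : Set ↥G) ≤ Cfsg.pCore 2 ↥G) (S : Sylow 2 ↥G)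
    (q : ℕ) (hq : q.Prime) (hD : Nonempty (↥G ⧸ Cfsg.pCore 2 ↥G ≃* DihedralGroup q)) :
    let Q : Subgroup H := (Cfsg.pCore 2 ↥G).map G.subtype
    let SH : Subgroup H := (S : Subgroup ↥G).map G.subtype
    Q ≤ SH ∧ SH ≤ G ∧ (∀ g ∈ G, ∀ y ∈ Q, g * y * g⁻¹ ∈ Q) ∧ IsPGroup 2 Q ∧ IsPGroup 2 SH ∧
    (∀ N : Subgroup H, N ≤ G → (∀ g ∈ G, ∀ y ∈ N, g * y * g⁻¹ ∈ N) → IsPGroup 2 N → N ≤ Q) ∧
    Nat.card G = Nat.card Q * (2 * q) ∧
    (∀ g ∈ G, (∀ y ∈ Q, g * y = y * g) → g ∈ Q) ∧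
    ¬ 2 ∣ SH.relIndex G ∧ SH ≠ ⊥ := by
  classical
  haveI : Fact (Nat.Prime 2) := ⟨Nat.prime_two⟩
  intro Q SH
  set Q0 : Subgroup ↥G := Cfsg.pCore 2 ↥G with hQ0
  haveI hQ0n : Q0.Normal := pCore2_normal _
  have hQ02 : IsPGroup 2 Q0 := pCore2_isPGroup _
  obtain ⟨e⟩ := hD
  have hidx : Q0.index = 2 * q := by
    rw [Subgroup.index_eq_card, Nat.card_congr e.toEquiv, DihedralGroup.nat_card]
  have hcardQ : Nat.card Q = Nat.card Q0 :=
    Subgroup.card_map_of_injective G.subtype_injective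
  have hcard : Nat.card G = Nat.card Q * (2 * q) := by
    rw [hcardQ, ← hidx, mul_comm]
    exact (Subgroup.index_mul_card Q0).symm
  have hSG : SH ≤ G := Subgroup.map_subtype_le _
  have hQS : Q ≤ SH := Subgroup.map_mono (hQ02.le_sylow_of_normal S)
  have hQG : Q ≤ G := hQS.trans hSG
  refine ⟨hQS, hSG, ?_, hQ02.map _, S.isPGroup'.map _, ?_, hcard, ?_, ?_, ?_⟩
  · rintro g hg y ⟨y0, hy0, rfl⟩
    refine ⟨⟨g, hg⟩ * y0 * ⟨g, hg⟩⁻¹, hQ0n.conj_mem y0 hy0 ⟨g, hg⟩, ?_⟩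
    simp
  · intro N hNG hNn hN2
    set N0 : Subgroup ↥G := N.subgroupOf G with hN0
    have hN0n : N0.Normal := by
      constructor
      intro n hn g
      rw [hN0, Subgroup.mem_subgroupOf] at hn ⊢
      have := hNn g.1 g.2 n.1 hn
      simpa using this
    have hN02 : IsPGroup 2 N0 := hN2.comap_subtype
    have hle := le_pCore2 hN0n hN02
    have := Subgroup.map_mono (f := G.subtype) hle
    rwa [hN0, Subgroup.map_subgroupOf_eq_of_le hNG] at this
  · intro g hg hgc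
    have hmem : (⟨g, hg⟩ : ↥G) ∈ Subgroup.centralizer (Q0 : Set ↥G) := by
      rw [Subgroup.mem_centralizer_iff]
      intro y hy
      have hyQ : (y : H) ∈ Q := ⟨y, hy, rfl⟩
      have := hgc y hyQ
      apply Subtype.ext
      simpa using this.symm
    exact ⟨⟨g, hg⟩, hchar hmem, rfl⟩
  · have h1 : SH.subgroupOf G = (S : Subgroup ↥G) :=
      Subgroup.comap_map_eq_self_of_injective G.subtype_injective _
    show ¬ 2 ∣ (SH.subgroupOf G).index
    rw [h1]
    exact S.not_dvd_index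
  · have h2 : 2 ∣ Nat.card ↥G := by
      rw [hcard]
      exact Dvd.dvd.mul_left (Dvd.intro _ rfl) _
    have hS : (S : Subgroup ↥G) ≠ ⊥ := S.ne_bot_of_dvd_card h2
    intro hbot
    apply hS
    exact (Subgroup.map_eq_bot_iff_of_injective _ G.subtype_injective).mp hbot

theorem q_ne_two (G : Subgroup H) (q : ℕ) 
    (hD : Nonempty (↥G ⧸ Cfsg.pCore 2 ↥G ≃* DihedralGroup q)) : q ≠ 2 := by
  classical
  haveI : Fact (Nat.Prime 2) := ⟨Nat.prime_two⟩
  rintro rfl
  set Q0 : Subgroup ↥G := Cfsg.pCore 2 ↥G with hQ0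
  haveI hQ0n : Q0.Normal := pCore2_normal _
  have hQ02 : IsPGroup 2 Q0 := pCore2_isPGroup _
  obtain ⟨e⟩ := hD
  have hidx : Q0.index = 2 * 2 := by
    rw [Subgroup.index_eq_card, Nat.card_congr e.toEquiv, DihedralGroup.nat_card]
  obtain ⟨a, ha⟩ := hQ02.exists_card_eq
  have hG2 : IsPGroup 2 ↥G := by
    apply IsPGroup.of_card (n := a + 2)
    rw [← Subgroup.index_mul_card Q0, hidx, ha]; ring
  have htop : (⊤ : Subgroup ↥G) ≤ Q0 := by
    apply le_pCore2 inferInstance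
    exact hG2.to_subgroup _
  have : Q0 = ⊤ := top_le_iff.mp htop
  rw [this, Subgroup.index_top] at hidx
  omega

theorem q_eq_three [IsSimpleGroup H] (G : Subgroup H) (hG : IsCoatom G)
    (hchar : Subgroup.centralizer (Cfsg.pCore 2 ↥G : Set ↥G) ≤ Cfsg.pCore 2 ↥G) (S : Sylow 2 ↥G)
    (hN : ¬ Subgroup.normalizer (((S : Subgroup ↥G).map G.subtype : Subgroup H) : Set H) ≤ G)
    (q : ℕ) (hq : q.Prime) (hD : Nonempty (↥G ⧸ Cfsg.pCore 2 ↥G ≃* DihedralGroup q)) : q = 3 := by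
  classical
  obtain ⟨hQS, hSG, hQn, hQ2, hS2, hmax, hcard, hchar', hSidx, hSne⟩ :=
    setup_facts G hchar S q hq hD
  have hq2 := q_ne_two G q hD
  obtain ⟨x, hxN, hxG⟩ := SetLike.not_le_iff_exists.mp hN
  have hxS : ∀ s ∈ (S : Subgroup ↥G).map G.subtype, x * s * x⁻¹ ∈ (S : Subgroup ↥G).map G.subtype :=
    fun s hs => (Subgroup.mem_normalizer_iff.mp hxN s).mp hs
  have hxS' : ∀ s ∈ (S : Subgroup ↥G).map G.subtype,
      x⁻¹ * s * x ∈ (S : Subgroup ↥G).map G.subtype := by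
    intro s hs
    apply (Subgroup.mem_normalizer_iff.mp hxN _).mpr
    have : x * (x⁻¹ * s * x) * x⁻¹ = s := by group
    rwa [this]
  have hgen : G ⊔ zpowers x = ⊤ := by
    apply hG.2
    apply lt_of_le_of_ne le_sup_left
    intro h
    apply hxG
    rw [h]
    exact (le_sup_right : zpowers x ≤ G ⊔ zpowers x) (mem_zpowers x)
  have hcore : ∀ N : Subgroup H, N.Normal → N ≤ G → N = ⊥ := by
    intro N hNn hNG
    rcases hNn.eq_bot_or_eq_top with h | h
    · exact h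
    · exfalso
      apply hG.1
      rw [h] at hNG
      exact top_le_iff.mp hNG
  exact q3_abstract G _ _ x q hq hq2 hQS hSG hQn hQ2 hS2 hmax hcard hchar' hSidx hxS hxS' hgen
    hcore hSne

end translate

end Cfsg.Agent.Lib.helper6.Sims
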