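import Mathlib
import Cfsg.Prelude.Def_Solvable
import Cfsg.Agent.Lib.helper6.SimsG3

set_option autoImplicit false
set_option linter.unusedSectionVars false
set_option linter.unusedVariables false
set_option linter.style.haveILetI false

namespace Cfsg.Agent.Lib.helper6.Sims

open Subgroup

section glue

variable {H : Type*} [Group H] [Finite H]

theorem relIndex_cj_eq_three (G Q SH : Subgroup H) (x : H)
    (hQS : Q ≤ SH) (hSG : SH ≤ G) (hS2 : IsPGroup 2 SH)
    (hmax : ∀ N : Subgroup H, N ≤ G → (∀ g ∈ G, ∀ y ∈ N, g * y * g⁻¹ ∈ N) → IsPGroup 2 N → N ≤ Q)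
    (hcard : Nat.card G = Nat.card Q * (2 * 3))
    (hSidx : ¬ 2 ∣ SH.relIndex G)
    (hxS' : ∀ s ∈ SH, x⁻¹ * s * x ∈ SH)
    (hgen : G ⊔ zpowers x = ⊤)
    (hcore : ∀ N : Subgroup H, N.Normal → N ≤ G → N = ⊥)
    (hSne : SH ≠ ⊥) : (cj x G).relIndex G = 3 := by
  classical
  have hQG : Q ≤ G := hQS.trans hSG
  have hQpos : 0 < Nat.card Q := Nat.card_pos
  have hQGidx : Q.relIndex G = 6 := by
    have h1 := relIndex_mul_card_of_le hQG
    rw [hcard] at h1
    have : Q.relIndex G * Nat.card Q = 6 * Nat.card Q := by rw [h1]; ring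
    exact Nat.eq_of_mul_eq_mul_right hQpos this
  have hmul : Q.relIndex SH * SH.relIndex G = 6 := by
    rw [← hQGidx]
    exact relIndex_mul_relIndex Q SH G hQS hSG
  -- SH has index 3
  have hS3 : SH.relIndex G = 3 := by
    have hd : SH.relIndex G ∣ 6 := ⟨_, by rw [← hmul]; ring⟩
    have hle : SH.relIndex G ≤ 6 := Nat.le_of_dvd (by norm_num) hd
    have hne1 : SH.relIndex G ≠ 1 := by
      intro h1
      have hGS : G ≤ SH := relIndex_eq_one.mp h1
      have hGeq : G = SH := le_antisymm hGS hSG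
      have hG2 : IsPGroup 2 G := hGeq ▸ hS2
      have hGQ : G ≤ Q := hmax G le_rfl
        (fun g hg y hy => G.mul_mem (G.mul_mem hg hy) (G.inv_mem hg)) hG2
      have hle := Subgroup.card_le_of_le hGQ
      rw [hcard] at hle
      omega
    interval_cases h : SH.relIndex G
    · simp at hd
    · exact absurd rfl hne1
    · exact absurd (dvd_refl 2) hSidx
    · rfl
    · exact absurd (⟨2, rfl⟩ : 2 ∣ 4) hSidx
    · norm_num at hd
    · exact absurd (⟨3, rfl⟩ : 2 ∣ 6) hSidx
  have hScj : SH ≤ cj x G := by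
    intro s hs
    rw [mem_cj]
    exact hSG (hxS' s hs)
  have hD : (cj x G ⊓ G).relIndex G ∣ 3 := by
    rw [← hS3]
    exact relIndex_dvd_of_le_left G (le_inf hScj hSG)
  rw [inf_relIndex_right] at hD
  rcases (Nat.dvd_prime Nat.prime_three).mp hD with h | h
  · exfalso
    have hGle : G ≤ cj x G := relIndex_eq_one.mp h
    have hGeq : G = cj x G := by
      apply Subgroup.eq_of_le_of_card_ge hGle
      rw [card_cj]
    have hxn : x ∈ normalizer (G : Set H) := by
      rw [mem_normalizer_iff]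
      intro g
      constructor
      · intro hg
        have := conj_mem_cj (h := x) hg
        rwa [← hGeq] at this
      · intro hg
        rw [hGeq] at hg
        have := mem_cj.mp hg
        have h2 : x⁻¹ * (x * g * x⁻¹) * x = g := by group
        rwa [h2] at this
    have hnorm : normalizer (G : Set H) = ⊤ := by
      rw [eq_top_iff, ← hgen]
      apply sup_le le_normalizer
      rw [zpowers_le]
      exact hxn
    have hGn : G.Normal := normalizer_eq_top_iff.mp hnorm
    have hGbot := hcore G hGn le_rfl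
    apply hSne
    rw [hGbot] at hSG
    exact le_bot_iff.mp hSG
  · exact h

theorem card_ne_small {X : Type*} [Group X] [Finite X] (Q0 : Subgroup X) (hQ0n : Q0.Normal)
    (hchar : centralizer (Q0 : Set X) ≤ Q0) (hidx : Q0.index = 6) :
    Nat.card X ≠ 3 ∧ Nat.card X ≠ 6 ∧ Nat.card X ≠ 12 := by
  classical
  have hmul := Q0.index_mul_card
  rw [hidx] at hmul
  refine ⟨?_, ?_, ?_⟩
  · intro h; rw [h] at hmul; omega
  · intro h
    rw [h] at hmul
    have h1 : Nat.card Q0 = 1 := by omega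
    have hbot : Q0 = ⊥ := Subgroup.card_eq_one.mp h1
    have htop : (⊤ : Subgroup X) ≤ Q0 := by
      refine le_trans ?_ hchar
      intro g _
      rw [mem_centralizer_iff]
      intro y hy
      rw [hbot] at hy
      have : y = 1 := Subgroup.mem_bot.mp hy
      rw [this]; simp
    have : Q0 = ⊤ := top_le_iff.mp htop
    rw [this, Subgroup.card_top] at h1
    omega
  · intro h
    rw [h] at hmul
    have h2 : Nat.card Q0 = 2 := by omega
    obtain ⟨z, hz1, hzu⟩ := (Nat.card_eq_two_iff' (1 : Q0)).mp h2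
    have htop : (⊤ : Subgroup X) ≤ Q0 := by
      refine le_trans ?_ hchar
      intro g _
      rw [mem_centralizer_iff]
      intro y hy
      by_cases hy1 : y = 1
      · rw [hy1]; simp
      · have hyz : (⟨y, hy⟩ : Q0) = z := hzu _ (fun hc => hy1 (by simpa using congrArg Subtype.val hc))
        have hconj : g⁻¹ * y * g⁻¹⁻¹ ∈ Q0 := hQ0n.conj_mem y hy g⁻¹
        have hc1 : (⟨g⁻¹ * y * g⁻¹⁻¹, hconj⟩ : Q0) ≠ 1 := by
          intro hc
          apply hy1
          have h3 : g⁻¹ * y * g⁻¹⁻¹ = 1 := by simpa using congrArg Subtype.val hc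
          have : y = g * (g⁻¹ * y * g⁻¹⁻¹) * g⁻¹ := by group
          rw [this, h3]; group
        have hcz : (⟨g⁻¹ * y * g⁻¹⁻¹, hconj⟩ : Q0) = z := hzu _ hc1
        have heq : g⁻¹ * y * g⁻¹⁻¹ = y := by
          have := hcz.trans hyz.symm
          simpa using congrArg Subtype.val this
        calc y * g = g * (g⁻¹ * y * g⁻¹⁻¹) := by group
          _ = g * y := by rw [heq]
    have : Q0 = ⊤ := top_le_iff.mp htop
    rw [this, Subgroup.card_top] at h2
    omega

theorem glue_excl (G : Subgroup H)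
    (hchar : Subgroup.centralizer (Cfsg.pCore 2 ↥G : Set ↥G) ≤ Cfsg.pCore 2 ↥G)
    (hD : Nonempty (↥G ⧸ Cfsg.pCore 2 ↥G ≃* DihedralGroup 3)) :
    Nat.card ↥G ≠ 3 ∧ Nat.card ↥G ≠ 6 ∧ Nat.card ↥G ≠ 12 := by
  obtain ⟨e⟩ := hD
  apply card_ne_small (Cfsg.pCore 2 ↥G) (pCore2_normal _) hchar
  rw [Subgroup.index_eq_card, Nat.card_congr e.toEquiv, DihedralGroup.nat_card]

theorem glue_prep [IsSimpleGroup H] (G : Subgroup H) (hG : IsCoatom G)
    (hchar : Subgroup.centralizer (Cfsg.pCore 2 ↥G : Set ↥G) ≤ Cfsg.pCore 2 ↥G) (S : Sylow 2 ↥G)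
    (hN : ¬ Subgroup.normalizer (((S : Subgroup ↥G).map G.subtype : Subgroup H) : Set H) ≤ G)
    (hD : Nonempty (↥G ⧸ Cfsg.pCore 2 ↥G ≃* DihedralGroup 3)) :
    ∃ (_ : FaithfulSMul H (H ⧸ G)) (b : H ⧸ G), MulAction.IsPreprimitive H (H ⧸ G) ∧
      Nat.card (MulAction.orbit (MulAction.stabilizer H ((1 : H) : H ⧸ G)) b) = 3 := by
  classical
  obtain ⟨hQS, hSG, hQn, hQ2, hS2, hmax, hcard, hchar', hSidx, hSne⟩ :=
    setup_facts G hchar S 3 Nat.prime_three hD
  obtain ⟨x, hxN, hxG⟩ := SetLike.not_le_iff_exists.mp hN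
  have hxS' : ∀ s ∈ (S : Subgroup ↥G).map G.subtype,
      x⁻¹ * s * x ∈ (S : Subgroup ↥G).map G.subtype := by
    intro s hs
    apply (Subgroup.mem_normalizer_iff.mp hxN _).mpr
    have : x * (x⁻¹ * s * x) * x⁻¹ = s := by group
    rwa [this]
  have hgen : G ⊔ zpowers x = ⊤ := by
    apply hG.2
    apply lt_of_le_of_ne le_sup_left
    intro h
    apply hxG
    rw [h]
    exact (le_sup_right : zpowers x ≤ G ⊔ zpowers x) (mem_zpowers x)
  have hcore : ∀ N : Subgroup H, N.Normal → N ≤ G → N = ⊥ := by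
    intro N hNn hNG
    rcases hNn.eq_bot_or_eq_top with h | h
    · exact h
    · exfalso
      apply hG.1
      rw [h] at hNG
      exact top_le_iff.mp hNG
  have h3 := relIndex_cj_eq_three G _ _ x hQS hSG hS2 hmax hcard hSidx hxS' hgen hcore hSne
  -- faithful
  have hfaith : FaithfulSMul H (H ⧸ G) := by
    constructor
    intro h1 h2 heq
    have hk : h2⁻¹ * h1 ∈ G.normalCore := by
      show ∀ b : H, b * (h2⁻¹ * h1) * b⁻¹ ∈ G
      intro b
      have := heq ((b⁻¹ : H) : H ⧸ G)
      rw [MulAction.Quotient.smul_coe, MulAction.Quotient.smul_coe, QuotientGroup.eq] at this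
      have h4 : (h1 • b⁻¹)⁻¹ * h2 • b⁻¹ = (b * (h2⁻¹ * h1) * b⁻¹)⁻¹ := by
        simp only [smul_eq_mul]; group
      rw [h4] at this
      exact (G.inv_mem_iff).mp this
    have hbot := hcore G.normalCore (normalCore_normal G) (normalCore_le G)
    rw [hbot, Subgroup.mem_bot] at hk
    calc h1 = h2 * (h2⁻¹ * h1) := by group
      _ = h2 := by rw [hk, mul_one]
  -- primitive
  have hnontriv : Nontrivial (H ⧸ G) := by
    rw [← Finite.one_lt_card_iff_nontrivial]
    have h0 : G.index ≠ 0 := Subgroup.index_ne_zero_of_finite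
    have h1 : G.index ≠ 1 := fun h => hG.1 (Subgroup.index_eq_one.mp h)
    rw [← Subgroup.index_eq_card]
    omega
  have hprim : MulAction.IsPreprimitive H (H ⧸ G) := by
    rw [← MulAction.isCoatom_stabilizer_iff_preprimitive (G := H) ((1 : H) : H ⧸ G),
      MulAction.stabilizer_quotient]
    exact hG
  refine ⟨hfaith, x • ((1 : H) : H ⧸ G), hprim, ?_⟩
  -- the orbit
  set a : H ⧸ G := ((1 : H) : H ⧸ G) with ha
  have hstab : MulAction.stabilizer H a = G := MulAction.stabilizer_quotient G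
  have key : MulAction.stabilizer (MulAction.stabilizer H a) (x • a) =
      (MulAction.stabilizer H (x • a)).subgroupOf (MulAction.stabilizer H a) := by
    ext g
    simp only [MulAction.mem_stabilizer_iff, Subgroup.mem_subgroupOf]
    rfl
  rw [Nat.card_coe_set_eq, ← MulAction.index_stabilizer, key]
  show (MulAction.stabilizer H (x • a)).relIndex (MulAction.stabilizer H a) = 3
  rw [MulAction.stabilizer_smul_eq_stabilizer_map_conj, hstab]
  exact h3

end glue

end Cfsg.Agent.Lib.helper6.Sims
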