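import Mathlib
import Cfsg.Agent.Lib.helper6.Sol3E

set_option autoImplicit false

namespace Cfsg.Agent.Lib.helper6.Sol3

open MulAction
open scoped commutatorElement
open Cfsg.Agent.Lib.helper6.Dickson Cfsg.Agent.Lib.helper6.PSL2Max
open Cfsg.Agent.Lib.helper6.Sol2

variable {H X : Type*} [Group H] [MulAction H X] {D : DAct H X 3} {k : ℕ} {r s : X}

/-! ### the case `q = 8k+3`, `p = 3`, `d = 2` -/

theorem card_stab_r3 (hF : Full D (8 * k + 3) 2 r s) {t : X} (ht : t ∈ orbit H r) :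
    Nat.card (stabilizer H t) = (8 * k + 3) * (4 * k + 1) := by
  have h := card_stab_of_mem_r' hF ht
  have e : (8 * k + 3) * (8 * k + 3 - 1) = ((8 * k + 3) * (4 * k + 1)) * 2 := by
    have : 8 * k + 3 - 1 = (4 * k + 1) * 2 := by omega
    rw [this]; ring
  rw [e] at h
  exact Nat.eq_of_mul_eq_mul_right (by norm_num) h

theorem card_stab_s3 (hF : Full D (8 * k + 3) 2 r s) {t : X} (ht : t ∈ orbit H s) :
    Nat.card (stabilizer H t) = 4 * k + 2 := by
  have h := card_stab_of_mem_s' hF ht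
  omega

theorem card_inf_r3 [Finite H] (hF : Full D (8 * k + 3) 2 r s) {x : H} (hx1 : x ≠ 1) {a b : X}
    (hab : a ≠ b) (ha : x • a = a) (hb : x • b = b) (har : a ∈ orbit H r) :
    Nat.card ↥(stabilizer H a ⊓ stabilizer H b : Subgroup H) = 4 * k + 1 := by
  have h := card_inf_of_mem_r' hF hx1 hab ha hb har
  omega

theorem orbit_type3 [Finite H] (hF : Full D (8 * k + 3) 2 r s) {x : H} (hx1 : x ≠ 1) {a b : X}
    (hab : a ≠ b) (ha : x • a = a) (hb : x • b = b) :
    (a ∈ orbit H r ∧ orderOf x ∣ 4 * k + 1) ∨ (a ∈ orbit H s ∧ orderOf x ∣ 4 * k + 2) := by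
  rcases hF.cover a ⟨x, hx1, ha⟩ with h | h
  · left
    refine ⟨h, ?_⟩
    rw [← card_inf_r3 hF hx1 hab ha hb h]
    exact order_dvd_card_inf ha hb
  · right
    refine ⟨h, ?_⟩
    rw [← card_stab_s3 hF h]
    exact order_dvd_card_stab ha

theorem orderOf_invol {G : Type*} [Group G] {n : G} (hn1 : n ≠ 1) (hn2 : n * n = 1) :
    orderOf n = 2 := by
  haveI : Fact (Nat.Prime 2) := ⟨Nat.prime_two⟩
  apply orderOf_eq_prime
  · rw [pow_two]; exact hn2
  · exact hn1

theorem invol_not_fix_r [Finite H] (hF : Full D (8 * k + 3) 2 r s) {n : H} (hn1 : n ≠ 1)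
    (hn2 : n * n = 1) {t : X} (ht : t ∈ orbit H r) : n • t ≠ t := by
  intro h
  have h1 := order_dvd_card_stab h
  rw [orderOf_invol hn1 hn2, card_stab_r3 hF ht] at h1
  have h2 : ((8 * k + 3) * (4 * k + 1)) % 2 = 1 := by
    rw [Nat.mul_mod]
    have e1 : (8 * k + 3) % 2 = 1 := by omega
    have e2 : (4 * k + 1) % 2 = 1 := by omega
    rw [e1, e2]
  omega

theorem invol_two_s [Finite H] (hF : Full D (8 * k + 3) 2 r s) {n : H} (hn1 : n ≠ 1)
    (hn2 : n * n = 1) :
    ∃ a b : X, a ≠ b ∧ n • a = a ∧ n • b = b ∧ a ∈ orbit H s ∧ b ∈ orbit H s := by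
  rcases par_or_two D hn1 with ⟨x, hx⟩ | ⟨a, b, hab, ha, hb⟩
  · exact absurd hx (not_par_of_invol D (by decide) hn2 x)
  · refine ⟨a, b, hab, ha, hb, ?_, ?_⟩
    · rcases hF.cover a ⟨n, hn1, ha⟩ with h | h
      · exact absurd ha (invol_not_fix_r hF hn1 hn2 h)
      · exact h
    · rcases hF.cover b ⟨n, hn1, hb⟩ with h | h
      · exact absurd hb (invol_not_fix_r hF hn1 hn2 h)
      · exact h

theorem noFour3 [Finite H] (hF : Full D (8 * k + 3) 2 r s) : NoFour H := by
  intro y hy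
  by_contra hne
  obtain ⟨a, b, hab, ha, hb, has, -⟩ := invol_two_s hF hne hy
  have hcomm : y * (y * y) = (y * y) * y := by group
  rcases perm_of_comm D hne hab ha hb hcomm with ⟨h1, h2⟩ | ⟨h1, h2⟩
  · have h3 := order_dvd_card_stab h1
    rw [card_stab_s3 hF has] at h3
    have h4 : orderOf y = 4 := by
      have h5 : orderOf y ∣ 4 := by
        apply orderOf_dvd_of_pow_eq_one
        rw [show (4 : ℕ) = 2 + 2 from rfl, pow_add, pow_two]
        exact hy
      have h6 : ¬ orderOf y ∣ 2 := by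
        intro h
        apply hne
        have := (orderOf_dvd_iff_pow_eq_one).mp h
        rwa [pow_two] at this
      have h7 : orderOf y ≤ 4 := Nat.le_of_dvd (by norm_num) h5
      interval_cases (orderOf y) <;> simp_all
    rw [h4] at h3
    omega
  · exact hne (sq_of_swap' D hab h1 h2)

theorem no_invol_comm_par [Finite H] (hF : Full D (8 * k + 3) 2 r s) {v u : H} (hv1 : v ≠ 1)
    (hv2 : v * v = 1) {t : X} (hu : IsPar t u) (hc : v * u = u * v) : False :=
  invol_not_fix_r hF hv1 hv2 (mem_orbit_r_of_par hF hu) (fix_of_comm_par hu hc)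

/-- elements of order three are parabolic -/
theorem isPar_of_cube (D : DAct H X 3) {y : H} (h1 : y ≠ 1) (h3 : y * y * y = 1) :
    ∃ t : X, IsPar t y := by
  apply isPar_of_pow D h1
  rw [← h3, pow_succ, pow_two]

theorem cube_of_isPar (D : DAct H X 3) {y : H} {t : X} (h : IsPar t y) : y * y * y = 1 := by
  rw [← D.par_pow t y h, pow_succ, pow_two]

end Cfsg.Agent.Lib.helper6.Sol3
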