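import Mathlib
import Cfsg.Agent.Lib.helper6.Sol3F

set_option autoImplicit false

namespace Cfsg.Agent.Lib.helper6.Sol3

open MulAction
open scoped commutatorElement
open Cfsg.Agent.Lib.helper6.Dickson Cfsg.Agent.Lib.helper6.PSL2Max
open Cfsg.Agent.Lib.helper6.Sol2

variable {H X : Type*} [Group H] [MulAction H X]

/-! ### general tools -/

theorem trichotomy_sub {p : ℕ} [Finite H] (D : DAct H X p) (K : Subgroup H)
    (hK : Group.IsSolvable K) (hne : K ≠ ⊥) :
    (∃ c : X, K ≤ stabilizer H c) ∨ (∃ c d : X, c ≠ d ∧ K ≤ pairStab H c d) ∨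
      ∃ (A : Subgroup K) (n m : K) (c d : X), IsV4 A n m c d := by
  haveI := hK
  haveI : Nontrivial K := (Subgroup.nontrivial_iff_ne_bot K).mpr hne
  have D' : DAct K X p := Cfsg.Agent.Lib.helper3.dk_restrict D K
  rcases trichotomy D' with ⟨c, hc⟩ | ⟨c, d, hcd, h⟩ | h
  · left
    exact ⟨c, fun k hk => mem_stabilizer_iff.mpr (hc ⟨k, hk⟩)⟩
  · right; left
    exact ⟨c, d, hcd, fun k hk => mem_pairStab.mpr (h ⟨k, hk⟩)⟩
  · right; right
    exact h

/-- two involutions generate a solvable group, in any characteristic -/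
theorem solvable_of_invol' {p : ℕ} (D : DAct H X p) {x y : H} (hx : x * x = 1) (hy : y * y = 1) :
    Group.IsSolvable (Subgroup.closure ({x, y} : Set H)) := by
  have hxi : x⁻¹ = x := inv_eq_of_mul_eq_one_left hx
  have hyi : y⁻¹ = y := inv_eq_of_mul_eq_one_left hy
  set z := x * y with hz
  have hzi : z⁻¹ = y * x := by rw [hz, mul_inv_rev, hxi, hyi]
  have hzx : z * x = x * z⁻¹ := by
    rw [hzi, hz, mul_assoc]
  have hzy : z * y = y * z⁻¹ := by
    rw [hzi, hz, mul_assoc, hy, mul_one, ← mul_assoc, hy, one_mul]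
  have hxperm : ∀ w : X, z • w = w → z • (x • w) = x • w := by
    intro w hw
    have h1 : z⁻¹ • w = w := by rw [inv_smul_eq_iff, hw]
    rw [← mul_smul, hzx, mul_smul, h1]
  have hyperm : ∀ w : X, z • w = w → z • (y • w) = y • w := by
    intro w hw
    have h1 : z⁻¹ • w = w := by rw [inv_smul_eq_iff, hw]
    rw [← mul_smul, hzy, mul_smul, h1]
  by_cases hz1 : z = 1
  · -- y = x
    have hxy : y = x := by
      calc y = x * (x * y) := by rw [← mul_assoc, hx, one_mul]
        _ = x := by rw [← hz, hz1, mul_one]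
    obtain ⟨e, he⟩ := D.fix_exists x
    apply solvable_of_le_stab D (c := e)
    apply closure_pair_le (mem_stabilizer_iff.mpr he)
    rw [hxy]; exact mem_stabilizer_iff.mpr he
  rcases par_or_two D hz1 with ⟨c, hc⟩ | ⟨c, d, hcd, hc, hd⟩
  · have h1 : x • c = c := hc.2.2 _ (hxperm c hc.2.1)
    have h2 : y • c = c := hc.2.2 _ (hyperm c hc.2.1)
    apply solvable_of_le_stab D (c := c)
    exact closure_pair_le (mem_stabilizer_iff.mpr h1) (mem_stabilizer_iff.mpr h2)
  · apply solvable_of_le_pairStab D hcd
    have key : ∀ g : H, (∀ w : X, z • w = w → z • (g • w) = g • w) → g ∈ pairStab H c d := by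
      intro g hg
      have h1 := D.fix_eq_of_two hz1 hcd hc hd (hg c hc)
      have h2 := D.fix_eq_of_two hz1 hcd hc hd (hg d hd)
      have hne : g • c ≠ g • d := fun h => hcd (smul_left_cancel g h)
      rw [mem_pairStab]
      rcases h1 with h1 | h1 <;> rcases h2 with h2 | h2
      · exact absurd (h1.trans h2.symm) hne
      · exact Or.inl ⟨h1, h2⟩
      · exact Or.inr ⟨h1, h2⟩
      · exact absurd (h1.trans h2.symm) hne
    exact closure_pair_le (key x hxperm) (key y hyperm)

theorem solvable_of_invol_mul {p : ℕ} (D : DAct H X p) {x y : H} (hx : x * x = 1)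
    (hxy : (x * y) * (x * y) = 1) :
    Group.IsSolvable (Subgroup.closure ({x, y} : Set H)) := by
  have h1 := solvable_of_invol' D hx hxy
  have hle : Subgroup.closure ({x, y} : Set H) ≤ Subgroup.closure ({x, x * y} : Set H) := by
    apply closure_pair_le (mem_closure_pair_left _ _)
    have h3 := Subgroup.mul_mem _ (Subgroup.inv_mem _ (mem_closure_pair_left x (x * y)))
      (mem_closure_pair_right x (x * y))
    rwa [inv_mul_cancel_left] at h3
  exact Group.isSolvable_of_isSolvable_injective (Subgroup.inclusion_injective hle)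

variable {D : DAct H X 3} {k : ℕ} {r s : X}

/-- in the four-group case, elements outside the four-group have order three -/
theorem v4_cube_one [Finite H] (hF : Full D (8 * k + 3) 2 r s) (K : Subgroup H)
    {A : Subgroup K} {n m : K} {c d : X} (h : IsV4 A n m c d) (y : K) (hy : y ∉ A) :
    (y : H) * y * y = 1 := by
  have D' : DAct K X 3 := Cfsg.Agent.Lib.helper3.dk_restrict D K
  have h4 : NoFour K := (noFour3 hF).subgroup K
  have hodd : Odd 3 := by decide
  have hv : y * y * y ∈ A := h.cube_mem D' hodd h4 y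
  have hv2 := h.sq_of_mem hv
  by_contra hne
  have hu1 : y * y ≠ 1 := by
    intro hc
    exact hy (h.invol_mem D' hodd h4 hc)
  have hu3 : (y * y) * (y * y) * (y * y) = 1 := by
    calc (y * y) * (y * y) * (y * y) = (y * y * y) * (y * y * y) := by group
      _ = 1 := hv2
  have hu1' : (y : H) * y ≠ 1 := by
    intro hc
    apply hu1
    apply Subtype.ext
    simpa using hc
  have hu3' : ((y : H) * y) * ((y : H) * y) * ((y : H) * y) = 1 := by
    have := congrArg Subtype.val hu3
    simpa using this
  obtain ⟨t, ht⟩ := isPar_of_cube D hu1' hu3'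
  have hv2' : ((y : H) * y * y) * ((y : H) * y * y) = 1 := by
    have := congrArg Subtype.val hv2
    simpa using this
  have hcomm : ((y : H) * y * y) * ((y : H) * y) = ((y : H) * y) * ((y : H) * y * y) := by group
  exact no_invol_comm_par hF hne hv2' ht hcomm

end Cfsg.Agent.Lib.helper6.Sol3
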