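import Mathlib
import Cfsg.Agent.Lib.helper6.Sol3G

set_option autoImplicit false

namespace Cfsg.Agent.Lib.helper6.Sol3

open MulAction
open scoped commutatorElement
open Cfsg.Agent.Lib.helper6.Dickson Cfsg.Agent.Lib.helper6.PSL2Max
open Cfsg.Agent.Lib.helper6.Sol2

variable {H X : Type*} [Group H] [MulAction H X] {D : DAct H X 3} {k : ℕ} {r s : X}

/-! ### the solubilizer of a semisimple element of order greater than two -/

theorem sol_iff_ss3 [Finite H] (hF : Full D (8 * k + 3) 2 r s) {x : H} (hx2 : x * x ≠ 1)
    {a b : X} (hab : a ≠ b) (ha : x • a = a) (hb : x • b = b) (y : H) :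
    Group.IsSolvable (Subgroup.closure ({x, y} : Set H)) ↔
      y • a = a ∨ y • b = b ∨ y ∈ pairStab H a b := by
  have hx1 : x ≠ 1 := by rintro rfl; exact hx2 (mul_one 1)
  constructor
  · intro hs
    rcases trichotomy_sub D _ hs (closure_pair_ne_bot hx1 y) with ⟨c, hc⟩ | ⟨c, d, hcd, hK⟩ |
      ⟨A, n, m, c, d, hV⟩
    · have hxc : x • c = c := mem_stabilizer_iff.mp (hc (mem_closure_pair_left x y))
      have hyc : y • c = c := mem_stabilizer_iff.mp (hc (mem_closure_pair_right x y))
      rcases D.fix_eq_of_two hx1 hab ha hb hxc with h | h
      · left; rw [← h]; exact hyc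
      · right; left; rw [← h]; exact hyc
    · right; right
      have hxK := hK (mem_closure_pair_left x y)
      have hyK := hK (mem_closure_pair_right x y)
      rcases mem_pairStab.mp hxK with ⟨h1, h2⟩ | ⟨h1, h2⟩
      · rcases D.fix_eq_of_two hx1 hab ha hb h1 with h3 | h3 <;>
          rcases D.fix_eq_of_two hx1 hab ha hb h2 with h4 | h4
        · exact absurd (h3.trans h4.symm) hcd
        · rw [← h3, ← h4]; exact hyK
        · rw [← h3, ← h4, pairStab_symm]; exact hyK
        · exact absurd (h3.trans h4.symm) hcd
      · exact absurd (sq_of_swap' D hcd h1 h2) hx2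
    · exfalso
      obtain ⟨xk, hxk⟩ : ∃ xk : Subgroup.closure ({x, y} : Set H), (xk : H) = x :=
        ⟨⟨x, mem_closure_pair_left x y⟩, rfl⟩
      have D' : DAct (Subgroup.closure ({x, y} : Set H)) X 3 :=
        Cfsg.Agent.Lib.helper3.dk_restrict D _
      have h4 : NoFour (Subgroup.closure ({x, y} : Set H)) := (noFour3 hF).subgroup _
      have hv : xk * xk * xk ∈ A := hV.cube_mem D' (by decide) h4 xk
      have hv2 := congrArg Subtype.val (hV.sq_of_mem hv)
      have hv2' : (x * x * x) * (x * x * x) = 1 := by
        rw [← hxk]; simpa using hv2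
      have hu3 : (x * x) * (x * x) * (x * x) = 1 := by
        calc (x * x) * (x * x) * (x * x) = (x * x * x) * (x * x * x) := by group
          _ = 1 := hv2'
      obtain ⟨t, ht⟩ := isPar_of_cube D hx2 hu3
      have h1 : (x * x) • a = a := by rw [mul_smul, ha, ha]
      have h2 : (x * x) • b = b := by rw [mul_smul, hb, hb]
      exact hab ((ht.2.2 a h1).trans (ht.2.2 b h2).symm)
  · rintro (h | h | h)
    · apply solvable_of_le_stab D (c := a)
      exact closure_pair_le (mem_stabilizer_iff.mpr ha) (mem_stabilizer_iff.mpr h)
    · apply solvable_of_le_stab D (c := b)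
      exact closure_pair_le (mem_stabilizer_iff.mpr hb) (mem_stabilizer_iff.mpr h)
    · apply solvable_of_le_pairStab D hab
      exact closure_pair_le (mem_pairStab.mpr (Or.inl ⟨ha, hb⟩)) h

/-! ### the solubilizer of an element of order three -/

theorem sol_iff_par3 [Finite H] (hF : Full D (8 * k + 3) 2 r s) {x : H} {t : X}
    (hx : IsPar t x) (y : H) :
    Group.IsSolvable (Subgroup.closure ({x, y} : Set H)) ↔
      y • t = t ∨ ∃ a : H, a ≠ 1 ∧ a * a = 1 ∧ (x * a) * (x * a) * (x * a) = 1 ∧
        (y = a ∨ y = a * x ∨ y = a * (x * x)) := by
  have hx3 : x * x * x = 1 := cube_of_isPar D hx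
  have hx2 : x * x ≠ 1 := by
    intro h
    apply hx.1
    have := hx3
    rwa [h, one_mul] at this
  constructor
  · intro hs
    rcases trichotomy_sub D _ hs (closure_pair_ne_bot hx.1 y) with ⟨c, hc⟩ | ⟨c, d, hcd, hK⟩ |
      ⟨A, n, m, c, d, hV⟩
    · have hxc : x • c = c := mem_stabilizer_iff.mp (hc (mem_closure_pair_left x y))
      have hyc : y • c = c := mem_stabilizer_iff.mp (hc (mem_closure_pair_right x y))
      left
      rw [← hx.2.2 c hxc]; exact hyc
    · exfalso
      have hxK := hK (mem_closure_pair_left x y)
      rcases mem_pairStab.mp hxK with ⟨h1, h2⟩ | ⟨h1, h2⟩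
      · exact hcd ((hx.2.2 c h1).trans (hx.2.2 d h2).symm)
      · exact hx2 (sq_of_swap' D hcd h1 h2)
    · obtain ⟨xk, hxk⟩ : ∃ xk : Subgroup.closure ({x, y} : Set H), (xk : H) = x :=
        ⟨⟨x, mem_closure_pair_left x y⟩, rfl⟩
      obtain ⟨yk, hyk⟩ : ∃ yk : Subgroup.closure ({x, y} : Set H), (yk : H) = y :=
        ⟨⟨y, mem_closure_pair_right x y⟩, rfl⟩
      have D' : DAct (Subgroup.closure ({x, y} : Set H)) X 3 :=
        Cfsg.Agent.Lib.helper3.dk_restrict D _
      have h4 : NoFour (Subgroup.closure ({x, y} : Set H)) := (noFour3 hF).subgroup _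
      have hodd : Odd 3 := by decide
      have hxA : xk ∉ A := by
        intro h
        have := congrArg Subtype.val (hV.sq_of_mem h)
        apply hx2
        rw [← hxk]
        simpa using this
      have hxk3 : xk * xk * xk = 1 := by
        apply Subtype.ext
        simp only [Subgroup.coe_mul, Subgroup.coe_one, hxk]
        exact hx3
      obtain ⟨a, haA, hcase⟩ := hV.coset D' hodd h4 hxA hxk3 yk
      by_cases ha1 : a = 1
      · left
        have hxt := hx.2.1
        rcases hcase with h | h | h
        · have : y = 1 := by
            have := congrArg Subtype.val h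
            rw [ha1] at this
            simpa [hyk] using this
          rw [this, one_smul]
        · have : y = x := by
            have := congrArg Subtype.val h
            rw [ha1] at this
            simpa [hyk, hxk] using this
          rw [this]; exact hxt
        · have : y = x * x := by
            have := congrArg Subtype.val h
            rw [ha1] at this
            simpa [hyk, hxk] using this
          rw [this, mul_smul, hxt, hxt]
      · right
        refine ⟨(a : H), fun h => ha1 (Subtype.ext h), ?_, ?_, ?_⟩
        · have := congrArg Subtype.val (hV.sq_of_mem haA)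
          simpa using this
        · have hxa : xk * a ∉ A := by
            intro h
            apply hxA
            have := A.mul_mem h (A.inv_mem haA)
            rwa [mul_inv_cancel_right] at this
          have := v4_cube_one hF _ hV (xk * a) hxa
          simpa [hxk] using this
        · rcases hcase with h | h | h
          · left
            have := congrArg Subtype.val h
            simpa [hyk] using this
          · right; left
            have := congrArg Subtype.val h
            simpa [hyk, hxk] using this
          · right; right
            have := congrArg Subtype.val h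
            simpa [hyk, hxk] using this
  · rintro (h | ⟨a, ha1, ha2, hxa, hy⟩)
    · apply solvable_of_le_stab D (c := t)
      exact closure_pair_le (mem_stabilizer_iff.mpr hx.2.1) (mem_stabilizer_iff.mpr h)
    · have h1 := solvable_of_233 hx3 ha2 hxa
      have hle : Subgroup.closure ({x, y} : Set H) ≤ Subgroup.closure ({x, a} : Set H) := by
        apply closure_pair_le (mem_closure_pair_left _ _)
        have hxm := mem_closure_pair_left x a
        have ham := mem_closure_pair_right x a
        rcases hy with rfl | rfl | rfl
        · exact ham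
        · exact Subgroup.mul_mem _ ham hxm
        · exact Subgroup.mul_mem _ ham (Subgroup.mul_mem _ hxm hxm)
      exact Group.isSolvable_of_isSolvable_injective (Subgroup.inclusion_injective hle)

end Cfsg.Agent.Lib.helper6.Sol3
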