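import Mathlib
import Cfsg.Agent.Lib.helper6.Sol3H

set_option autoImplicit false

namespace Cfsg.Agent.Lib.helper6.Sol3

open MulAction
open scoped commutatorElement
open Cfsg.Agent.Lib.helper6.Dickson Cfsg.Agent.Lib.helper6.PSL2Max
open Cfsg.Agent.Lib.helper6.Sol2

variable {H X : Type*} [Group H] [MulAction H X] {D : DAct H X 3} {k : ℕ} {r s : X}

/-! ### the solubilizer of an involution -/

theorem sol_iff_inv3 [Finite H] (hF : Full D (8 * k + 3) 2 r s) {x : H} (hx1 : x ≠ 1)
    (hx2 : x * x = 1) {a b : X} (hab : a ≠ b) (ha : x • a = a) (hb : x • b = b)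
    (has : a ∈ orbit H s) (hbs : b ∈ orbit H s) (y : H) :
    Group.IsSolvable (Subgroup.closure ({x, y} : Set H)) ↔
      y ∈ pairStab H a b ∨ y * y = 1 ∨ (x * y) * (x * y) = 1 ∨
        (y * y * y = 1 ∧ (x * y) * (x * y) * (x * y) = 1) := by
  have hSa := stab_eq_inf_of_mem_s' hF hx1 hab ha hb has
  have hSb := stab_eq_inf_of_mem_s' hF hx1 hab.symm hb ha hbs
  constructor
  · intro hs
    rcases trichotomy_sub D _ hs (closure_pair_ne_bot hx1 y) with ⟨c, hc⟩ | ⟨c, d, hcd, hK⟩ |
      ⟨A, n, m, c, d, hV⟩
    · have hxc : x • c = c := mem_stabilizer_iff.mp (hc (mem_closure_pair_left x y))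
      have hyc : y • c = c := mem_stabilizer_iff.mp (hc (mem_closure_pair_right x y))
      left
      rcases D.fix_eq_of_two hx1 hab ha hb hxc with h | h
      · rw [h] at hyc
        have hm : y ∈ stabilizer H a := mem_stabilizer_iff.mpr hyc
        rw [hSa] at hm
        exact mem_pairStab.mpr (Or.inl ⟨hyc, mem_stabilizer_iff.mp (Subgroup.mem_inf.mp hm).2⟩)
      · rw [h] at hyc
        have hm : y ∈ stabilizer H b := mem_stabilizer_iff.mpr hyc
        rw [hSb] at hm
        exact mem_pairStab.mpr (Or.inl ⟨mem_stabilizer_iff.mp (Subgroup.mem_inf.mp hm).2, hyc⟩)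
    · have hxK := hK (mem_closure_pair_left x y)
      have hyK := hK (mem_closure_pair_right x y)
      rcases mem_pairStab.mp hxK with ⟨h1, h2⟩ | ⟨h1, h2⟩
      · left
        rcases D.fix_eq_of_two hx1 hab ha hb h1 with h3 | h3 <;>
          rcases D.fix_eq_of_two hx1 hab ha hb h2 with h4 | h4
        · exact absurd (h3.trans h4.symm) hcd
        · rw [← h3, ← h4]; exact hyK
        · rw [← h3, ← h4, pairStab_symm]; exact hyK
        · exact absurd (h3.trans h4.symm) hcd
      · right
        rcases mem_pairStab.mp hyK with ⟨h3, h4⟩ | ⟨h3, h4⟩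
        · right; left
          apply sq_of_swap' D hcd (c := c) (d := d)
          · rw [mul_smul, h3, h1]
          · rw [mul_smul, h4, h2]
        · left
          exact sq_of_swap' D hcd h3 h4
    · obtain ⟨xk, hxk⟩ : ∃ xk : Subgroup.closure ({x, y} : Set H), (xk : H) = x :=
        ⟨⟨x, mem_closure_pair_left x y⟩, rfl⟩
      obtain ⟨yk, hyk⟩ : ∃ yk : Subgroup.closure ({x, y} : Set H), (yk : H) = y :=
        ⟨⟨y, mem_closure_pair_right x y⟩, rfl⟩
      have D' : DAct (Subgroup.closure ({x, y} : Set H)) X 3 :=
        Cfsg.Agent.Lib.helper3.dk_restrict D _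
      have h4 : NoFour (Subgroup.closure ({x, y} : Set H)) := (noFour3 hF).subgroup _
      have hodd : Odd 3 := by decide
      have hxk2 : xk * xk = 1 := by
        apply Subtype.ext
        simp only [Subgroup.coe_mul, Subgroup.coe_one, hxk]
        exact hx2
      have hxA : xk ∈ A := hV.invol_mem D' hodd h4 hxk2
      right
      by_cases hyA : yk ∈ A
      · left
        have := congrArg Subtype.val (hV.sq_of_mem hyA)
        simpa [hyk] using this
      · right; right
        constructor
        · have := v4_cube_one hF _ hV yk hyA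
          simpa [hyk] using this
        · have hxyA : xk * yk ∉ A := by
            intro h
            apply hyA
            have := A.mul_mem (A.inv_mem hxA) h
            rwa [inv_mul_cancel_left] at this
          have := v4_cube_one hF _ hV (xk * yk) hxyA
          simpa [hyk, hxk] using this
  · rintro (h | h | h | ⟨h1, h2⟩)
    · apply solvable_of_le_pairStab D hab
      exact closure_pair_le (mem_pairStab.mpr (Or.inl ⟨ha, hb⟩)) h
    · exact solvable_of_invol' D hx2 h
    · exact solvable_of_invol_mul D hx2 h
    · have hyx : (y * x) * (y * x) * (y * x) = 1 := by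
        calc (y * x) * (y * x) * (y * x) = x⁻¹ * ((x * y) * (x * y) * (x * y)) * x := by group
          _ = 1 := by rw [h2]; group
      have := solvable_of_233 h1 hx2 hyx
      rwa [Set.pair_comm] at this

end Cfsg.Agent.Lib.helper6.Sol3
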