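import Mathlib
import Cfsg.Agent.Lib.helper6.Sol3I

set_option autoImplicit false

namespace Cfsg.Agent.Lib.helper6.Sol3

open MulAction
open scoped commutatorElement
open Cfsg.Agent.Lib.helper6.Dickson Cfsg.Agent.Lib.helper6.PSL2Max
open Cfsg.Agent.Lib.helper6.Sol2

variable {H X : Type*} [Group H] [MulAction H X] {D : DAct H X 3} {k : ℕ} {r s : X}

/-! ### counting: semisimple elements of order greater than two -/

theorem card_sol_ss3 [Finite H] (hF : Full D (8 * k + 3) 2 r s) {x : H} (hx2 : x * x ≠ 1)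
    {a b : X} (hab : a ≠ b) (ha : x • a = a) (hb : x • b = b) :
    Nat.card {y : H // Group.IsSolvable (Subgroup.closure ({x, y} : Set H))} +
        2 * Nat.card ↥(stabilizer H a ⊓ stabilizer H b : Subgroup H) =
      Nat.card (stabilizer H a) + Nat.card (stabilizer H b) + Nat.card (pairStab H a b) := by
  rw [Nat.card_congr (Equiv.subtypeEquivRight (sol_iff_ss3 hF hx2 hab ha hb))]
  have key := natCard_union3 (α := H) (fun y => y • a = a) (fun y => y • b = b)
    (fun y => y ∈ pairStab H a b)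
    (fun y => y ∈ (stabilizer H a ⊓ stabilizer H b : Subgroup H)) ?_ ?_ ?_
  · rw [natCard_fix, natCard_fix] at key
    exact key
  · intro y
    rw [Subgroup.mem_inf, mem_stabilizer_iff, mem_stabilizer_iff]
  · intro y
    rw [Subgroup.mem_inf, mem_stabilizer_iff, mem_stabilizer_iff, mem_pairStab]
    constructor
    · rintro ⟨h1, ⟨h2, h3⟩ | ⟨h2, h3⟩⟩
      · exact ⟨h2, h3⟩
      · exact absurd (h1.symm.trans h2) hab
    · rintro ⟨h1, h2⟩
      exact ⟨h1, Or.inl ⟨h1, h2⟩⟩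
  · intro y
    rw [Subgroup.mem_inf, mem_stabilizer_iff, mem_stabilizer_iff, mem_pairStab]
    constructor
    · rintro ⟨h1, ⟨h2, h3⟩ | ⟨h2, h3⟩⟩
      · exact ⟨h2, h3⟩
      · exact absurd (h3.symm.trans h1) hab
    · rintro ⟨h1, h2⟩
      exact ⟨h2, Or.inl ⟨h1, h2⟩⟩

theorem sq_ne_one_of_order {G : Type*} [Group G] {x : G} (hx1 : x ≠ 1) (hx2 : orderOf x ≠ 2) :
    x * x ≠ 1 := by
  intro h
  have h1 : orderOf x ∣ 2 := orderOf_dvd_of_pow_eq_one (by rw [pow_two]; exact h)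
  rcases (Nat.dvd_prime Nat.prime_two).mp h1 with h2 | h2
  · exact hx1 (orderOf_eq_one_iff.mp h2)
  · exact hx2 h2

theorem not_par_of_order [Finite H] (D : DAct H X 3) {x : H} (hx1 : x ≠ 1) {N : ℕ}
    (hN : ¬ 3 ∣ N) (ho : orderOf x ∣ N) (t : X) : ¬ IsPar t x := by
  intro ht
  have h3 : orderOf x ∣ 3 := orderOf_dvd_of_pow_eq_one (D.par_pow t x ht)
  rcases (Nat.dvd_prime Nat.prime_three).mp h3 with h | h
  · exact hx1 (orderOf_eq_one_iff.mp h)
  · rw [h] at ho; exact hN ho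

theorem sol_split3 [Finite H] (hF : Full D (8 * k + 3) 2 r s) (h3 : 3 ∣ 8 * k + 3) {x : H}
    (hx1 : x ≠ 1) (hx2 : orderOf x ≠ 2) (ho : orderOf x ∣ 8 * k + 2) :
    Nat.card {y : H // Group.IsSolvable (Subgroup.closure ({x, y} : Set H))} =
      (8 * k + 3) * (8 * k + 2) := by
  haveI : Fact (Nat.Prime 3) := ⟨Nat.prime_three⟩
  have hsq := sq_ne_one_of_order hx1 hx2
  have hnp : ∀ t : X, ¬ IsPar t x := not_par_of_order D hx1 (by omega) ho
  obtain ⟨a, b, hab, ha, hb⟩ : ∃ a b : X, a ≠ b ∧ x • a = a ∧ x • b = b := by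
    rcases par_or_two D hx1 with ⟨t, ht⟩ | h
    · exact absurd ht (hnp t)
    · exact h
  have hnot : ¬ orderOf x ∣ 4 * k + 2 := by
    intro h
    have h4 : orderOf x ∣ (8 * k + 2) - (4 * k + 2) := Nat.dvd_sub ho h
    have h5 : orderOf x ∣ (4 * k + 2) - (8 * k + 2 - (4 * k + 2)) := Nat.dvd_sub h h4
    have e : (4 * k + 2) - (8 * k + 2 - (4 * k + 2)) = 2 := by omega
    rw [e] at h5
    rcases (Nat.dvd_prime Nat.prime_two).mp h5 with h6 | h6
    · exact hx1 (orderOf_eq_one_iff.mp h6)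
    · exact hx2 h6
  have har : a ∈ orbit H r := by
    rcases orbit_type3 hF hx1 hab ha hb with h | h
    · exact h.1
    · exact absurd h.2 hnot
  have hbr : b ∈ orbit H r := by
    rcases orbit_type3 hF hx1 hab.symm hb ha with h | h
    · exact h.1
    · exact absurd h.2 hnot
  have hswap : ∃ g : H, g • a = b ∧ g • b = a :=
    D.two_trans hF.hn har hbr hbr har hab hab.symm
  have key := card_sol_ss3 hF hsq hab ha hb
  rw [card_pairStab' D hx1 hab ha hb hswap, card_inf_r3 hF hx1 hab ha hb har,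
    card_stab_r3 hF har, card_stab_r3 hF hbr] at key
  have e : (8 * k + 3) * (8 * k + 2) = (8 * k + 3) * (4 * k + 1) + (8 * k + 3) * (4 * k + 1) := by
    ring
  omega

theorem sol_nonsplit3 [Finite H] (hF : Full D (8 * k + 3) 2 r s) (h3 : 3 ∣ 8 * k + 3) {x : H}
    (hx1 : x ≠ 1) (hx2 : orderOf x ≠ 2) (ho : orderOf x ∣ 8 * k + 4) :
    Nat.card {y : H // Group.IsSolvable (Subgroup.closure ({x, y} : Set H))} = 8 * k + 4 := by
  haveI : Fact (Nat.Prime 3) := ⟨Nat.prime_three⟩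
  have hsq := sq_ne_one_of_order hx1 hx2
  have hnp : ∀ t : X, ¬ IsPar t x := not_par_of_order D hx1 (by omega) ho
  obtain ⟨a, b, hab, ha, hb⟩ : ∃ a b : X, a ≠ b ∧ x • a = a ∧ x • b = b := by
    rcases par_or_two D hx1 with ⟨t, ht⟩ | h
    · exact absurd ht (hnp t)
    · exact h
  have hnot : ¬ orderOf x ∣ 4 * k + 1 := by
    intro h
    have h4 : orderOf x ∣ (8 * k + 4) - (4 * k + 1) := Nat.dvd_sub ho h
    have h5 : orderOf x ∣ (8 * k + 4 - (4 * k + 1)) - (4 * k + 1) := Nat.dvd_sub h4 h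
    have e : (8 * k + 4 - (4 * k + 1)) - (4 * k + 1) = 2 := by omega
    rw [e] at h5
    rcases (Nat.dvd_prime Nat.prime_two).mp h5 with h6 | h6
    · exact hx1 (orderOf_eq_one_iff.mp h6)
    · exact hx2 h6
  have has : a ∈ orbit H s := by
    rcases orbit_type3 hF hx1 hab ha hb with h | h
    · exact absurd h.2 hnot
    · exact h.1
  have hbs : b ∈ orbit H s := by
    rcases orbit_type3 hF hx1 hab.symm hb ha with h | h
    · exact absurd h.2 hnot
    · exact h.1
  have hSa := stab_eq_inf_of_mem_s' hF hx1 hab ha hb has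
  have hswap := exists_swap_s hF hx1 hab ha hb has hbs
  have key := card_sol_ss3 hF hsq hab ha hb
  have hT : Nat.card ↥(stabilizer H a ⊓ stabilizer H b : Subgroup H) = 4 * k + 2 := by
    rw [← hSa]; exact card_stab_s3 hF has
  rw [card_pairStab' D hx1 hab ha hb hswap, hT, card_stab_s3 hF has, card_stab_s3 hF hbs] at key
  omega

end Cfsg.Agent.Lib.helper6.Sol3
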