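import Mathlib
import Cfsg.Agent.Lib.helper6.Sol3J

set_option autoImplicit false

namespace Cfsg.Agent.Lib.helper6.Sol3

open MulAction
open scoped commutatorElement
open Cfsg.Agent.Lib.helper6.Dickson Cfsg.Agent.Lib.helper6.PSL2Max
open Cfsg.Agent.Lib.helper6.Sol2

variable {H X : Type*} [Group H] [MulAction H X] {D : DAct H X 3} {k : ℕ} {r s : X}

/-! ### counting: elements of order three -/

/-- the involutions generating an `A₄` with `x` -/
def BSet (x a : H) : Prop := a ≠ 1 ∧ a * a = 1 ∧ (x * a) * (x * a) * (x * a) = 1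

theorem smul_mem_orbit_of_mem {t' : X} (ht' : t' ∈ orbit H r) (g : H) : g • t' ∈ orbit H r := by
  obtain ⟨g0, hg0⟩ := ht'
  have hg0' : g0 • r = t' := hg0
  exact ⟨g * g0, by rw [← hg0']; exact mul_smul g g0 r⟩

theorem par_sq_ne_one (D : DAct H X 3) {x : H} {t : X} (hx : IsPar t x) : x * x ≠ 1 := by
  intro h
  apply hx.1
  have := cube_of_isPar D hx
  rwa [h, one_mul] at this

theorem natCard_ne_val {α : Type*} (S : Set α) [Finite S] {t : α} (ht : t ∈ S) :
    Nat.card {c : S // (c : α) ≠ t} = Nat.card S - 1 := by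
  classical
  have e : {c : S // (c : α) ≠ t} ≃ {c : S // c ≠ ⟨t, ht⟩} :=
    Equiv.subtypeEquivRight (fun c => by
      constructor
      · intro h hc; exact h (congrArg Subtype.val hc)
      · intro h hc; exact h (Subtype.ext hc))
  rw [Nat.card_congr e]
  have : Fintype S := Fintype.ofFinite S
  rw [Nat.card_eq_fintype_card, Fintype.card_subtype_compl, Fintype.card_subtype_eq,
    Nat.card_eq_fintype_card]

theorem card_BSet [Finite H] (hF : Full D (8 * k + 3) 2 r s) {x : H} {t : X} (hx : IsPar t x) :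
    Nat.card {a : H // BSet x a} = 8 * k + 3 := by
  classical
  haveI : Finite ↥(orbit H r) := (Set.finite_range _).to_subtype
  have htr : t ∈ orbit H r := mem_orbit_r_of_par hF hx
  have hx2 := par_sq_ne_one D hx
  have hxt : x • t = t := hx.2.1
  have hxit : x⁻¹ • t = t := by rw [inv_smul_eq_iff, hxt]
  have key := natCard_double_count (α := H) (β := ↥(orbit H r))
    (fun a => BSet x a) (fun c => (c : X) ≠ t) (fun a c => (x * a) • (c : X) = c) 1 1 ?_ ?_
  · rw [mul_one, mul_one, natCard_ne_val (orbit H r) htr, Nat.card_coe_set_eq, hF.orb] at key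
    rw [key]; omega
  · -- each element of the set determines a point
    rintro a ⟨ha1, ha2, ha3⟩
    have hu1 : x * a ≠ 1 := by
      intro h
      apply hx2
      have hax : a = x⁻¹ := eq_inv_of_mul_eq_one_right h
      have : x⁻¹ * x⁻¹ = 1 := by rw [← hax]; exact ha2
      have h' : (x * x)⁻¹ = 1 := by rw [mul_inv_rev]; exact this
      exact inv_eq_one.mp h'
    obtain ⟨t', ht'⟩ := isPar_of_cube D hu1 ha3
    have ht'r : t' ∈ orbit H r := mem_orbit_r_of_par hF ht'
    have ht't : t' ≠ t := by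
      intro h
      rw [h] at ht'
      apply invol_not_fix_r hF ha1 ha2 htr
      have : a = x⁻¹ * (x * a) := by group
      rw [this, mul_smul, ht'.2.1, hxit]
    rw [Nat.card_eq_one_iff_unique]
    refine ⟨⟨fun c₁ c₂ => ?_⟩, ⟨⟨⟨t', ht'r⟩, ht't, ht'.2.1⟩⟩⟩
    apply Subtype.ext
    apply Subtype.ext
    exact (ht'.2.2 _ c₁.2.2).trans (ht'.2.2 _ c₂.2.2).symm
  · -- each point determines an element of the set
    rintro ⟨t', ht'r⟩ ht't
    have ht't' : t' ≠ t := ht't
    have hne1 : x⁻¹ • t' ≠ t' := by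
      intro h
      rw [inv_smul_eq_iff] at h
      exact ht't' (hx.2.2 t' h.symm)
    have hne2 : x • t' ≠ t' := fun h => ht't' (hx.2.2 t' h)
    have horb : orbit H t' = orbit H r := MulAction.orbit_eq_iff.mpr ht'r
    have hn' : (orbit H t').ncard = Nat.card (D.Q t') + 1 := by
      rw [horb, hF.orb, card_Q_of_mem_r' hF ht'r]
    have hm1 : x⁻¹ • t' ∈ orbit H t' := by rw [horb]; exact smul_mem_orbit_of_mem ht'r _
    have hm2 : x • t' ∈ orbit H t' := by rw [horb]; exact smul_mem_orbit_of_mem ht'r _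
    obtain ⟨u, huQ, hu⟩ := D.Q_trans hn' hm1 hne1 hm2 hne2
    have hut : u • t' = t' := D.Q_fix huQ
    -- the properties of a general element of the set attached to t'
    have hprop : ∀ a : H, BSet x a → (x * a) • t' = t' →
        x * a ∈ D.Q t' ∧ (x * a) • (x⁻¹ • t') = x • t' := by
      rintro a ⟨ha1, ha2, ha3⟩ hfix
      have hu1 : x * a ≠ 1 := by
        intro h
        apply hx2
        have hax : a = x⁻¹ := eq_inv_of_mul_eq_one_right h
        have : x⁻¹ * x⁻¹ = 1 := by rw [← hax]; exact ha2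
        have h' : (x * x)⁻¹ = 1 := by rw [mul_inv_rev]; exact this
        exact inv_eq_one.mp h'
      obtain ⟨t'', ht''⟩ := isPar_of_cube D hu1 ha3
      have e : t' = t'' := ht''.2.2 t' hfix
      rw [← e] at ht''
      refine ⟨Or.inr ht'', ?_⟩
      have hat' : a • t' = x⁻¹ • t' := by
        have : a = x⁻¹ * (x * a) := by group
        rw [this, mul_smul, hfix]
      have haa : a • (x⁻¹ • t') = t' := by
        rw [← hat', ← mul_smul, ha2, one_smul]
      rw [mul_smul, haa]
    set a₀ := x⁻¹ * u with ha₀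
    have hxa₀ : x * a₀ = u := by rw [ha₀]; group
    have ha₀t : a₀ • t' = x⁻¹ • t' := by rw [ha₀, mul_smul, hut]
    have ha₀t1 : a₀ • (x⁻¹ • t') = t' := by rw [ha₀, mul_smul, hu, inv_smul_smul]
    have hB : BSet x a₀ := by
      refine ⟨?_, sq_of_swap' D (Ne.symm hne1) ha₀t ha₀t1, ?_⟩
      · intro h
        rw [h, one_smul] at ha₀t
        exact hne1 ha₀t.symm
      · rw [hxa₀]
        have := D.Q_pow huQ
        rw [← this, pow_succ, pow_two]
    rw [Nat.card_eq_one_iff_unique]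
    refine ⟨⟨fun a₁ a₂ => ?_⟩, ⟨⟨a₀, hB, by rw [hxa₀]; exact hut⟩⟩⟩
    apply Subtype.ext
    obtain ⟨hq1, hm1'⟩ := hprop a₁.1 a₁.2.1 a₁.2.2
    obtain ⟨hq2, hm2'⟩ := hprop a₂.1 a₂.2.1 a₂.2.2
    have hmem : (x * a₁.1)⁻¹ * (x * a₂.1) ∈ D.Q t' := (D.Q t').mul_mem ((D.Q t').inv_mem hq1) hq2
    have hfix : ((x * a₁.1)⁻¹ * (x * a₂.1)) • (x⁻¹ • t') = x⁻¹ • t' := by
      rw [mul_smul, hm2', ← hm1', inv_smul_smul]
    have h1 := D.Q_eq_one_of_fix hmem hfix hne1
    have h2 : x * a₁.1 = x * a₂.1 := by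
      calc x * a₁.1 = (x * a₁.1) * ((x * a₁.1)⁻¹ * (x * a₂.1)) := by rw [h1, mul_one]
        _ = x * a₂.1 := by group
    exact mul_left_cancel h2

theorem natCard_or_disj {α : Type*} [Finite α] (P Q : α → Prop) (h : ∀ a, ¬ (P a ∧ Q a)) :
    Nat.card {a // P a ∨ Q a} = Nat.card {a // P a} + Nat.card {a // Q a} := by
  have h1 := natCard_union3 (α := α) P Q (fun _ => False) (fun _ => False) ?_ ?_ ?_
  · have e1 : Nat.card {a : α // P a ∨ Q a ∨ False} = Nat.card {a : α // P a ∨ Q a} := by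
      apply Nat.card_congr
      apply Equiv.subtypeEquivRight
      intro a
      simp
    have e3 : Nat.card {a : α // False} = 0 := by
      haveI : IsEmpty {a : α // False} := ⟨fun a => a.2⟩
      exact Nat.card_of_isEmpty
    rw [e1, e3] at h1
    omega
  · intro a
    constructor
    · intro h'; exact h a h'
    · intro h'; exact absurd h' id
  · intro a
    constructor
    · rintro ⟨_, h2⟩; exact h2
    · intro h'; exact absurd h' id
  · intro a
    constructor
    · rintro ⟨_, h2⟩; exact h2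
    · intro h'; exact absurd h' id

/-- if the product of two involutions is parabolic then they fix its point -/
theorem invol_mul_par_fix {a₁ a₂ : H} (h1 : a₁ * a₁ = 1) (h2 : a₂ * a₂ = 1) {t : X}
    (hw : IsPar t (a₁ * a₂)) : a₁ • t = t := by
  have hi1 : a₁⁻¹ = a₁ := inv_eq_of_mul_eq_one_left h1
  have hi2 : a₂⁻¹ = a₂ := inv_eq_of_mul_eq_one_left h2
  have hconj : a₁ * (a₁ * a₂) * a₁⁻¹ = (a₁ * a₂)⁻¹ := by
    rw [mul_inv_rev, hi1, hi2]
    calc a₁ * (a₁ * a₂) * a₁ = (a₁ * a₁) * a₂ * a₁ := by group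
      _ = a₂ * a₁ := by rw [h1, one_mul]
  have h3 : (a₁ * a₂)⁻¹ • (a₁ • t) = a₁ • t := by
    rw [← hconj, mul_smul, mul_smul, inv_smul_smul, hw.2.1]
  rw [inv_smul_eq_iff] at h3
  exact hw.2.2 _ h3.symm

theorem card_sol_par3 [Finite H] (hF : Full D (8 * k + 3) 2 r s) {x : H} {t : X}
    (hx : IsPar t x) :
    Nat.card {y : H // Group.IsSolvable (Subgroup.closure ({x, y} : Set H))} =
      (8 * k + 3) * (4 * k + 4) := by
  have htr : t ∈ orbit H r := mem_orbit_r_of_par hF hx
  have hx3 : x * x * x = 1 := cube_of_isPar D hx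
  have hxx : x * x = x⁻¹ := eq_inv_of_mul_eq_one_left hx3
  have hxt : x • t = t := hx.2.1
  have hxit : x⁻¹ • t = t := by rw [inv_smul_eq_iff, hxt]
  have hxi : IsPar t x⁻¹ := hx.inv
  have hiff : ∀ y : H, Group.IsSolvable (Subgroup.closure ({x, y} : Set H)) ↔
      y • t = t ∨ BSet x y ∨ BSet x (y * x⁻¹) ∨ BSet x (y * x) := by
    intro y
    rw [sol_iff_par3 hF hx]
    constructor
    · rintro (h | ⟨a, ha1, ha2, ha3, rfl | rfl | rfl⟩)
      · exact Or.inl h
      · exact Or.inr (Or.inl ⟨ha1, ha2, ha3⟩)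
      · right; right; left
        rw [mul_inv_cancel_right]
        exact ⟨ha1, ha2, ha3⟩
      · right; right; right
        have e : a * (x * x) * x = a := by
          rw [mul_assoc, hx3, mul_one]
        rw [e]
        exact ⟨ha1, ha2, ha3⟩
    · rintro (h | h | h | h)
      · exact Or.inl h
      · exact Or.inr ⟨y, h.1, h.2.1, h.2.2, Or.inl rfl⟩
      · refine Or.inr ⟨y * x⁻¹, h.1, h.2.1, h.2.2, Or.inr (Or.inl ?_)⟩
        group
      · refine Or.inr ⟨y * x, h.1, h.2.1, h.2.2, Or.inr (Or.inr ?_)⟩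
        rw [hxx]; group
  rw [Nat.card_congr (Equiv.subtypeEquivRight hiff)]
  -- an element of the set does not fix t
  have hnofix : ∀ a : H, BSet x a → a • t ≠ t := fun a ha => invol_not_fix_r hF ha.1 ha.2.1 htr
  have hdisj : ∀ a₁ a₂ : H, BSet x a₁ → BSet x a₂ → IsPar t (a₁ * a₂) → False := by
    intro a₁ a₂ h1 h2 hw
    exact hnofix a₁ h1 (invol_mul_par_fix h1.2.1 h2.2.1 hw)
  have hB := card_BSet hF hx
  have e1 : Nat.card {y : H // BSet x (y * x⁻¹)} = 8 * k + 3 := by
    rw [← hB]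
    exact Nat.card_congr (Equiv.subtypeEquiv (Equiv.mulRight x⁻¹) (fun y => Iff.rfl))
  have e2 : Nat.card {y : H // BSet x (y * x)} = 8 * k + 3 := by
    rw [← hB]
    exact Nat.card_congr (Equiv.subtypeEquiv (Equiv.mulRight x) (fun y => Iff.rfl))
  rw [natCard_or_disj, natCard_or_disj, natCard_or_disj, natCard_fix, card_stab_r3 hF htr, hB, e1,
    e2]
  · ring
  · -- B (y x⁻¹) and B (y x)
    rintro y ⟨h1, h2⟩
    apply hdisj _ _ h1 h2
    have h1i : (y * x⁻¹)⁻¹ = y * x⁻¹ := inv_eq_of_mul_eq_one_left h1.2.1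
    have e : (y * x⁻¹) * (y * x) = x⁻¹ := by
      calc (y * x⁻¹) * (y * x) = (y * x⁻¹)⁻¹ * (y * x) := by rw [h1i]
        _ = x * x := by group
        _ = x⁻¹ := hxx
    rw [e]; exact hxi
  · -- B y and the other two
    rintro y ⟨h1, h2 | h2⟩
    · apply hdisj _ _ h1 h2
      have h1i : y⁻¹ = y := inv_eq_of_mul_eq_one_left h1.2.1
      have e : y * (y * x⁻¹) = x⁻¹ := by
        calc y * (y * x⁻¹) = y⁻¹ * (y * x⁻¹) := by rw [h1i]
          _ = x⁻¹ := by group
      rw [e]; exact hxi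
    · apply hdisj _ _ h1 h2
      have h1i : y⁻¹ = y := inv_eq_of_mul_eq_one_left h1.2.1
      have e : y * (y * x) = x := by
        calc y * (y * x) = y⁻¹ * (y * x) := by rw [h1i]
          _ = x := by group
      rw [e]; exact hx
  · -- the stabilizer and the three cosets
    rintro y ⟨h0, h1 | h1 | h1⟩
    · exact hnofix y h1 h0
    · apply hnofix _ h1
      rw [mul_smul, hxit, h0]
    · apply hnofix _ h1
      rw [mul_smul, hxt, h0]

end Cfsg.Agent.Lib.helper6.Sol3
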