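import Mathlib
import Cfsg.Agent.Lib.helper6.Sol3K

set_option autoImplicit false

namespace Cfsg.Agent.Lib.helper6.Sol3

open MulAction
open scoped commutatorElement
open Cfsg.Agent.Lib.helper6.Dickson Cfsg.Agent.Lib.helper6.PSL2Max
open Cfsg.Agent.Lib.helper6.Sol2

variable {H X : Type*} [Group H] [MulAction H X] {D : DAct H X 3} {k : ℕ} {r s : X}

/-! ### global counts -/

theorem card_H3 [Finite H] (hF : Full D (8 * k + 3) 2 r s) :
    Nat.card H = (8 * k + 4) * ((8 * k + 3) * (4 * k + 1)) := by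
  have h1 := (stabilizer H r).card_mul_index
  rw [MulAction.index_stabilizer, hF.orb, card_stab_r3 hF (mem_orbit_self r)] at h1
  rw [← h1]; ring

theorem card_orbit_s3 [Finite H] (hF : Full D (8 * k + 3) 2 r s) :
    (orbit H s).ncard = (8 * k + 3) * (8 * k + 2) := by
  have h1 := (stabilizer H s).card_mul_index
  rw [MulAction.index_stabilizer, card_stab_s3 hF (mem_orbit_self s), card_H3 hF] at h1
  have e : (8 * k + 4) * ((8 * k + 3) * (4 * k + 1)) = (4 * k + 2) * ((8 * k + 3) * (8 * k + 2)) := by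
    ring
  rw [e] at h1
  exact Nat.eq_of_mul_eq_mul_left (by omega) h1

/-- the involution fixing a point of the long orbit -/
theorem exists_invol_fix [Finite H] (hF : Full D (8 * k + 3) 2 r s) {c : X} (hc : c ∈ orbit H s) :
    ∃ n : H, n ≠ 1 ∧ n * n = 1 ∧ n • c = c := by
  haveI : Fact (Nat.Prime 2) := ⟨Nat.prime_two⟩
  have hdvd : 2 ∣ Nat.card (stabilizer H c) := by
    rw [card_stab_s3 hF hc]; omega
  obtain ⟨n, hn⟩ := exists_prime_orderOf_dvd_card' (G := stabilizer H c) 2 hdvd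
  refine ⟨(n : H), ?_, ?_, mem_stabilizer_iff.mp n.2⟩
  · intro h
    have : n = 1 := Subtype.ext h
    rw [this, orderOf_one] at hn
    omega
  · have h2 := pow_orderOf_eq_one n
    rw [hn, pow_two] at h2
    have := congrArg Subtype.val h2
    simpa using this

theorem invol_fix_unique [Finite H] (hF : Full D (8 * k + 3) 2 r s) {c : X} {n n' : H}
    (hn1 : n ≠ 1) (hn2 : n * n = 1) (hnc : n • c = c) (hn1' : n' ≠ 1) (hn2' : n' * n' = 1)
    (hnc' : n' • c = c) : n = n' := by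
  obtain ⟨a, b, hab, ha, hb, has, hbs⟩ := invol_two_s hF hn1 hn2
  -- c is a or b
  rcases D.fix_eq_of_two hn1 hab ha hb hnc with h | h
  · have hS := stab_eq_inf_of_mem_s' hF hn1 hab ha hb has
    have hm : n' ∈ stabilizer H a := by rw [← h]; exact mem_stabilizer_iff.mpr hnc'
    rw [hS] at hm
    have h1 := mem_stabilizer_iff.mp (Subgroup.mem_inf.mp hm).1
    have h2 := mem_stabilizer_iff.mp (Subgroup.mem_inf.mp hm).2
    exact invol_unique_of_two D hab hn2 hn2' hn1 hn1' ha hb h1 h2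
  · have hS := stab_eq_inf_of_mem_s' hF hn1 hab.symm hb ha hbs
    have hm : n' ∈ stabilizer H b := by rw [← h]; exact mem_stabilizer_iff.mpr hnc'
    rw [hS] at hm
    have h1 := mem_stabilizer_iff.mp (Subgroup.mem_inf.mp hm).1
    have h2 := mem_stabilizer_iff.mp (Subgroup.mem_inf.mp hm).2
    exact invol_unique_of_two D hab hn2 hn2' hn1 hn1' ha hb h2 h1

/-- the number of involutions -/
theorem card_invol3 [Finite H] (hF : Full D (8 * k + 3) 2 r s) :
    Nat.card {n : H // n ≠ 1 ∧ n * n = 1} = (8 * k + 3) * (4 * k + 1) := by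
  classical
  haveI : Finite ↥(orbit H s) := (Set.finite_range _).to_subtype
  have key := natCard_double_count (α := H) (β := ↥(orbit H s))
    (fun n => n ≠ 1 ∧ n * n = 1) (fun _ => True) (fun n c => n • (c : X) = c) 2 1 ?_ ?_
  · have horb : Nat.card {b : ↥(orbit H s) // True} = (8 * k + 3) * (8 * k + 2) := by
      rw [Nat.card_congr (Equiv.subtypeUnivEquiv (fun _ => trivial)), Nat.card_coe_set_eq,
        card_orbit_s3 hF]
    rw [horb, mul_one] at key
    have e : (8 * k + 3) * (8 * k + 2) = ((8 * k + 3) * (4 * k + 1)) * 2 := by ring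
    rw [e] at key
    exact Nat.eq_of_mul_eq_mul_right (by norm_num) key
  · rintro n ⟨hn1, hn2⟩
    obtain ⟨a, b, hab, ha, hb, has, hbs⟩ := invol_two_s hF hn1 hn2
    rw [Nat.card_eq_two_iff]
    refine ⟨⟨⟨a, has⟩, trivial, ha⟩, ⟨⟨b, hbs⟩, trivial, hb⟩, ?_, ?_⟩
    · intro h
      apply hab
      have := congrArg (fun z => ((z.1 : ↥(orbit H s)) : X)) h
      exact this
    · ext ⟨⟨c, hc⟩, -, hfix⟩
      simp only [Set.mem_insert_iff, Set.mem_singleton_iff, Set.mem_univ, iff_true]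
      rcases D.fix_eq_of_two hn1 hab ha hb hfix with h | h
      · left; exact Subtype.ext (Subtype.ext h)
      · right; exact Subtype.ext (Subtype.ext h)
  · rintro ⟨c, hc⟩ -
    obtain ⟨n, hn1, hn2, hnc⟩ := exists_invol_fix hF hc
    rw [Nat.card_eq_one_iff_unique]
    refine ⟨⟨fun a b => ?_⟩, ⟨⟨n, ⟨hn1, hn2⟩, hnc⟩⟩⟩
    apply Subtype.ext
    exact invol_fix_unique hF a.2.1.1 a.2.1.2 a.2.2 b.2.1.1 b.2.1.2 b.2.2

/-- the number of elements of order three -/
theorem card_cube3 [Finite H] (hF : Full D (8 * k + 3) 2 r s) :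
    Nat.card {y : H // y ≠ 1 ∧ y * y * y = 1} = (8 * k + 4) * (8 * k + 2) := by
  classical
  haveI : Finite ↥(orbit H r) := (Set.finite_range _).to_subtype
  have key := natCard_double_count (α := H) (β := ↥(orbit H r))
    (fun y => y ≠ 1 ∧ y * y * y = 1) (fun _ => True) (fun y c => y • (c : X) = c) 1 (8 * k + 2)
    ?_ ?_
  · have horb : Nat.card {b : ↥(orbit H r) // True} = 8 * k + 4 := by
      rw [Nat.card_congr (Equiv.subtypeUnivEquiv (fun _ => trivial)), Nat.card_coe_set_eq, hF.orb]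
    rw [horb, mul_one] at key
    exact key
  · rintro y ⟨hy1, hy3⟩
    obtain ⟨t, ht⟩ := isPar_of_cube D hy1 hy3
    have htr : t ∈ orbit H r := mem_orbit_r_of_par hF ht
    rw [Nat.card_eq_one_iff_unique]
    refine ⟨⟨fun a b => ?_⟩, ⟨⟨⟨t, htr⟩, trivial, ht.2.1⟩⟩⟩
    apply Subtype.ext
    apply Subtype.ext
    exact (ht.2.2 _ a.2.2).trans (ht.2.2 _ b.2.2).symm
  · rintro ⟨c, hc⟩ -
    have e : Nat.card {y : H // (y ≠ 1 ∧ y * y * y = 1) ∧ y • c = c} =
        Nat.card {y : H // y ∈ D.Q c ∧ y ≠ 1} := by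
      apply Nat.card_congr
      apply Equiv.subtypeEquivRight
      intro y
      constructor
      · rintro ⟨⟨h1, h2⟩, h3⟩
        obtain ⟨t, ht⟩ := isPar_of_cube D h1 h2
        have : c = t := ht.2.2 c h3
        rw [this]
        exact ⟨Or.inr ht, h1⟩
      · rintro ⟨h1, h2⟩
        refine ⟨⟨h2, ?_⟩, D.Q_fix h1⟩
        have := D.Q_pow h1
        rw [← this, pow_succ, pow_two]
    rw [e, natCard_ne_one_subgroup, card_Q_of_mem_r' hF hc]
    omega

/-- all involutions are conjugate -/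
theorem invol_conj [Finite H] (hF : Full D (8 * k + 3) 2 r s) {n n' : H} (hn1 : n ≠ 1)
    (hn2 : n * n = 1) (hn1' : n' ≠ 1) (hn2' : n' * n' = 1) : ∃ g : H, g * n * g⁻¹ = n' := by
  obtain ⟨a, b, hab, ha, hb, has, hbs⟩ := invol_two_s hF hn1 hn2
  obtain ⟨a', b', hab', ha', hb', has', hbs'⟩ := invol_two_s hF hn1' hn2'
  obtain ⟨g1, hg1⟩ := has
  obtain ⟨g2, hg2⟩ := has'
  have hg1' : g1 • s = a := hg1
  have hg2' : g2 • s = a' := hg2
  refine ⟨g2 * g1⁻¹, ?_⟩
  have hga : (g2 * g1⁻¹) • a = a' := by rw [mul_smul, ← hg1', inv_smul_smul, hg2']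
  apply invol_fix_unique hF (c := a') (conj_ne_one hn1 _) ?_ ?_ hn1' hn2' ha'
  · calc (g2 * g1⁻¹) * n * (g2 * g1⁻¹)⁻¹ * ((g2 * g1⁻¹) * n * (g2 * g1⁻¹)⁻¹) =
        (g2 * g1⁻¹) * (n * n) * (g2 * g1⁻¹)⁻¹ := by group
      _ = 1 := by rw [hn2]; group
  · rw [← hga]
    exact conj_smul_fix ha

end Cfsg.Agent.Lib.helper6.Sol3
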