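import Mathlib
import Cfsg.Agent.Lib.helper6.Sol3L

set_option autoImplicit false

namespace Cfsg.Agent.Lib.helper6.Sol3

open MulAction
open scoped commutatorElement
open Cfsg.Agent.Lib.helper6.Dickson Cfsg.Agent.Lib.helper6.PSL2Max
open Cfsg.Agent.Lib.helper6.Sol2

variable {H X : Type*} [Group H] [MulAction H X] {D : DAct H X 3} {k : ℕ} {r s : X}

/-! ### counting: involutions -/

theorem cube_conj {G : Type*} [Group G] (g z : G) :
    (g * z * g⁻¹) * (g * z * g⁻¹) * (g * z * g⁻¹) = g * (z * z * z) * g⁻¹ := by group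

theorem cube_eq_one_conj {G : Type*} [Group G] (g z : G) :
    (g * z * g⁻¹) * (g * z * g⁻¹) * (g * z * g⁻¹) = 1 ↔ z * z * z = 1 := by
  rw [cube_conj]
  constructor
  · intro h
    calc z * z * z = g⁻¹ * (g * (z * z * z) * g⁻¹) * g := by group
      _ = 1 := by rw [h]; group
  · intro h
    rw [h]; group

theorem cube_swap {G : Type*} [Group G] (a b : G) :
    (a * b) * (a * b) * (a * b) = 1 ↔ (b * a) * (b * a) * (b * a) = 1 := by
  have e : b * a = a⁻¹ * (a * b) * a⁻¹⁻¹ := by group
  rw [e, cube_eq_one_conj]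

/-- the elements of order three generating an `A₄` with an involution -/
theorem card_RSet [Finite H] (hF : Full D (8 * k + 3) 2 r s) {x : H} (hx1 : x ≠ 1)
    (hx2 : x * x = 1) :
    Nat.card {y : H // (y ≠ 1 ∧ y * y * y = 1) ∧ (x * y) * (x * y) * (x * y) = 1} =
      2 * (8 * k + 4) := by
  classical
  have key := natCard_double_count (α := H) (β := H)
    (fun n => n ≠ 1 ∧ n * n = 1) (fun y => y ≠ 1 ∧ y * y * y = 1)
    (fun n y => (n * y) * (n * y) * (n * y) = 1)
    (Nat.card {y : H // (y ≠ 1 ∧ y * y * y = 1) ∧ (x * y) * (x * y) * (x * y) = 1}) (8 * k + 3)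
    ?_ ?_
  · rw [card_invol3 hF, card_cube3 hF] at key
    have e : (8 * k + 4) * (8 * k + 2) * (8 * k + 3) =
        (8 * k + 3) * (4 * k + 1) * (2 * (8 * k + 4)) := by ring
    rw [e] at key
    exact Nat.eq_of_mul_eq_mul_left (by positivity) key
  · rintro n ⟨hn1, hn2⟩
    obtain ⟨g, hg⟩ := invol_conj hF hn1 hn2 hx1 hx2
    apply Nat.card_congr
    refine Equiv.subtypeEquiv (MulAut.conj g).toEquiv ?_
    intro y
    have hconj : (MulAut.conj g).toEquiv y = g * y * g⁻¹ := rfl
    rw [hconj]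
    have e1 : x * (g * y * g⁻¹) = g * (n * y) * g⁻¹ := by rw [← hg]; group
    rw [e1, cube_eq_one_conj, cube_eq_one_conj]
    constructor
    · rintro ⟨⟨h1, h2⟩, h3⟩
      exact ⟨⟨conj_ne_one h1 g, h2⟩, h3⟩
    · rintro ⟨⟨h1, h2⟩, h3⟩
      refine ⟨⟨?_, h2⟩, h3⟩
      rintro rfl
      apply h1
      group
  · rintro y ⟨hy1, hy3⟩
    obtain ⟨t, ht⟩ := isPar_of_cube D hy1 hy3
    rw [← card_BSet hF ht]
    apply Nat.card_congr
    apply Equiv.subtypeEquivRight
    intro n
    unfold BSet
    rw [cube_swap n y]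
    tauto

theorem natCard_pair {α : Type*} [Finite α] {u v : α} (huv : u ≠ v) :
    Nat.card {y : α // y = u ∨ y = v} = 2 := by
  rw [Nat.card_eq_two_iff]
  refine ⟨⟨u, Or.inl rfl⟩, ⟨v, Or.inr rfl⟩, fun h => huv (congrArg Subtype.val h), ?_⟩
  ext ⟨y, hy⟩
  simp only [Set.mem_insert_iff, Set.mem_singleton_iff, Set.mem_univ, iff_true]
  rcases hy with h | h
  · left; exact Subtype.ext h
  · right; exact Subtype.ext h

theorem card_sol_inv3 [Finite H] (hF : Full D (8 * k + 3) 2 r s) {x : H} (hx1 : x ≠ 1)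
    (hx2 : x * x = 1) :
    Nat.card {y : H // Group.IsSolvable (Subgroup.closure ({x, y} : Set H))} =
      (8 * k + 3) * (8 * k + 4) := by
  haveI : Fact (Nat.Prime 3) := ⟨Nat.prime_three⟩
  obtain ⟨a, b, hab, ha, hb, has, hbs⟩ := invol_two_s hF hx1 hx2
  have hxi : x⁻¹ = x := inv_eq_of_mul_eq_one_left hx2
  have hSa := stab_eq_inf_of_mem_s' hF hx1 hab ha hb has
  have hswap := exists_swap_s hF hx1 hab ha hb has hbs
  have hT : Nat.card ↥(stabilizer H a ⊓ stabilizer H b : Subgroup H) = 4 * k + 2 := by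
    rw [← hSa]; exact card_stab_s3 hF has
  have hN : Nat.card (pairStab H a b) = 2 * (4 * k + 2) := by
    rw [card_pairStab' D hx1 hab ha hb hswap, hT]
  -- the basic equivalence inside the pair stabilizer
  have hNI : ∀ y : H, y ∈ pairStab H a b → ((x * y) * (x * y) = 1 ↔ y * y = 1) := by
    intro y hy
    rcases mem_pairStab.mp hy with ⟨h1, h2⟩ | ⟨h1, h2⟩
    · haveI := D.two_cyc a b hab
      have hmx : x ∈ (stabilizer H a ⊓ stabilizer H b : Subgroup H) :=
        Subgroup.mem_inf.mpr ⟨mem_stabilizer_iff.mpr ha, mem_stabilizer_iff.mpr hb⟩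
      have hmy : y ∈ (stabilizer H a ⊓ stabilizer H b : Subgroup H) :=
        Subgroup.mem_inf.mpr ⟨mem_stabilizer_iff.mpr h1, mem_stabilizer_iff.mpr h2⟩
      have hc := comm_of_isCyclic (G := ↥(stabilizer H a ⊓ stabilizer H b : Subgroup H))
        ⟨x, hmx⟩ ⟨y, hmy⟩
      have hc' : x * y = y * x := congrArg Subtype.val hc
      have e : (x * y) * (x * y) = y * y := by
        calc (x * y) * (x * y) = x * (y * x) * y := by group
          _ = x * (x * y) * y := by rw [hc']
          _ = (x * x) * (y * y) := by group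
          _ = y * y := by rw [hx2, one_mul]
      rw [e]
    · have e1 : y * y = 1 := sq_of_swap' D hab h1 h2
      have e2 : (x * y) * (x * y) = 1 := by
        apply sq_of_swap' D hab (c := a) (d := b)
        · rw [mul_smul, h1, hb]
        · rw [mul_smul, h2, ha]
      exact ⟨fun _ => e1, fun _ => e2⟩
  -- the count of J
  have hJ : Nat.card {y : H // y ∈ pairStab H a b ∧ y * y = 1} = 4 * k + 4 := by
    have hiff : ∀ y : H, (y ∈ pairStab H a b ∧ y * y = 1) ↔
        ((y = 1 ∨ y = x) ∨ (y ∈ pairStab H a b ∧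
          y ∉ (stabilizer H a ⊓ stabilizer H b : Subgroup H))) := by
      intro y
      constructor
      · rintro ⟨h1, h2⟩
        by_cases hy : y ∈ (stabilizer H a ⊓ stabilizer H b : Subgroup H)
        · left
          by_cases hy1 : y = 1
          · exact Or.inl hy1
          · right
            have h3 := mem_stabilizer_iff.mp (Subgroup.mem_inf.mp hy).1
            have h4 := mem_stabilizer_iff.mp (Subgroup.mem_inf.mp hy).2
            exact invol_unique_of_two D hab h2 hx2 hy1 hx1 h3 h4 ha hb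
        · exact Or.inr ⟨h1, hy⟩
      · rintro ((rfl | rfl) | ⟨h1, h2⟩)
        · exact ⟨Subgroup.one_mem _, mul_one 1⟩
        · exact ⟨mem_pairStab.mpr (Or.inl ⟨ha, hb⟩), hx2⟩
        · refine ⟨h1, ?_⟩
          rcases mem_pairStab.mp h1 with ⟨h3, h4⟩ | ⟨h3, h4⟩
          · exfalso
            exact h2 (Subgroup.mem_inf.mpr ⟨mem_stabilizer_iff.mpr h3, mem_stabilizer_iff.mpr h4⟩)
          · exact sq_of_swap' D hab h3 h4
    rw [Nat.card_congr (Equiv.subtypeEquivRight hiff), natCard_or_disj, natCard_pair hx1.symm]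
    · -- the complement of T in the pair stabilizer
      have hsplit : Nat.card {y : H // y ∈ (stabilizer H a ⊓ stabilizer H b : Subgroup H) ∨
          (y ∈ pairStab H a b ∧ y ∉ (stabilizer H a ⊓ stabilizer H b : Subgroup H))} =
          Nat.card (pairStab H a b) := by
        apply Nat.card_congr
        apply Equiv.subtypeEquivRight
        intro y
        constructor
        · rintro (h | h)
          · exact inf_le_pairStab a b h
          · exact h.1
        · intro h
          by_cases hy : y ∈ (stabilizer H a ⊓ stabilizer H b : Subgroup H)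
          · exact Or.inl hy
          · exact Or.inr ⟨h, hy⟩
      rw [natCard_or_disj] at hsplit
      · have hT' : Nat.card {y : H // y ∈ (stabilizer H a ⊓ stabilizer H b : Subgroup H)} =
            4 * k + 2 := hT
        rw [hT', hN] at hsplit
        omega
      · rintro y ⟨h1, -, h2⟩
        exact h2 h1
    · rintro y ⟨h1 | h1, -, h2⟩
      · apply h2
        rw [h1]; exact Subgroup.one_mem _
      · apply h2
        rw [h1]
        exact Subgroup.mem_inf.mpr ⟨mem_stabilizer_iff.mpr ha, mem_stabilizer_iff.mpr hb⟩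
  -- the number of elements of square one
  have hI : Nat.card {y : H // y * y = 1} = (8 * k + 3) * (4 * k + 1) + 1 := by
    have hiff : ∀ y : H, y * y = 1 ↔ ((y ≠ 1 ∧ y * y = 1) ∨ y = 1) := by
      intro y
      constructor
      · intro h
        by_cases hy : y = 1
        · exact Or.inr hy
        · exact Or.inl ⟨hy, h⟩
      · rintro (h | rfl)
        · exact h.2
        · exact mul_one 1
    rw [Nat.card_congr (Equiv.subtypeEquivRight hiff), natCard_or_disj, card_invol3 hF]
    · have e2 : Nat.card {y : H // y = 1} = 1 := by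
        rw [Nat.card_eq_one_iff_unique]
        exact ⟨⟨fun a b => Subtype.ext (a.2.trans b.2.symm)⟩, ⟨⟨1, rfl⟩⟩⟩
      rw [e2]
    · rintro y ⟨h1, h2⟩
      exact h1.1 h2
  have hI' : Nat.card {y : H // (x * y) * (x * y) = 1} = (8 * k + 3) * (4 * k + 1) + 1 := by
    rw [← hI]
    exact Nat.card_congr (Equiv.subtypeEquiv (Equiv.mulLeft x) (fun y => Iff.rfl))
  -- the main equivalence
  have hiff : ∀ y : H, Group.IsSolvable (Subgroup.closure ({x, y} : Set H)) ↔
      ((y ∈ pairStab H a b ∨ y * y = 1 ∨ (x * y) * (x * y) = 1) ∨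
        ((y ≠ 1 ∧ y * y * y = 1) ∧ (x * y) * (x * y) * (x * y) = 1)) := by
    intro y
    rw [sol_iff_inv3 hF hx1 hx2 hab ha hb has hbs]
    constructor
    · rintro (h | h | h | ⟨h1, h2⟩)
      · exact Or.inl (Or.inl h)
      · exact Or.inl (Or.inr (Or.inl h))
      · exact Or.inl (Or.inr (Or.inr h))
      · refine Or.inr ⟨⟨?_, h1⟩, h2⟩
        rintro rfl
        rw [mul_one, hx2, one_mul] at h2
        exact hx1 h2
    · rintro ((h | h | h) | ⟨⟨-, h1⟩, h2⟩)
      · exact Or.inl h
      · exact Or.inr (Or.inl h)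
      · exact Or.inr (Or.inr (Or.inl h))
      · exact Or.inr (Or.inr (Or.inr ⟨h1, h2⟩))
  rw [Nat.card_congr (Equiv.subtypeEquivRight hiff), natCard_or_disj, card_RSet hF hx1 hx2]
  · have key := natCard_union3 (α := H) (fun y => y ∈ pairStab H a b) (fun y => y * y = 1)
      (fun y => (x * y) * (x * y) = 1) (fun y => y ∈ pairStab H a b ∧ y * y = 1) ?_ ?_ ?_
    · rw [hJ, hI, hI'] at key
      have hN' : Nat.card {y : H // y ∈ pairStab H a b} = 2 * (4 * k + 2) := hN
      rw [hN'] at key
      have e : (8 * k + 3) * (8 * k + 4) =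
          (8 * k + 3) * (4 * k + 1) + (8 * k + 3) * (4 * k + 1) + 2 * (8 * k + 3) := by ring
      omega
    · intro y; exact Iff.rfl
    · intro y
      constructor
      · rintro ⟨h1, h2⟩; exact ⟨h1, (hNI y h1).mp h2⟩
      · rintro ⟨h1, h2⟩; exact ⟨h1, (hNI y h1).mpr h2⟩
    · intro y
      constructor
      · rintro ⟨h1, h2⟩
        have hyi : y⁻¹ = y := inv_eq_of_mul_eq_one_left h1
        have hcomm : y * x = x * y := by
          have h3 : (x * y)⁻¹ = x * y := inv_eq_of_mul_eq_one_left h2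
          rw [mul_inv_rev, hxi, hyi] at h3
          exact h3
        exact ⟨mem_pairStab.mpr (perm_of_comm D hx1 hab ha hb hcomm), h1⟩
      · rintro ⟨h1, h2⟩
        exact ⟨h2, (hNI y h1).mpr h2⟩
  · -- disjointness of the A₄ part
    rintro y ⟨h | h | h, ⟨hy1, hy3⟩, hxy3⟩
    · obtain ⟨t, ht⟩ := isPar_of_cube D hy1 hy3
      rcases mem_pairStab.mp h with ⟨h1, h2⟩ | ⟨h1, h2⟩
      · exact hab ((ht.2.2 a h1).trans (ht.2.2 b h2).symm)
      · have h4 := sq_of_swap' D hab h1 h2
        rw [h4, one_mul] at hy3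
        exact hy1 hy3
    · rw [h, one_mul] at hy3
      exact hy1 hy3
    · rw [h, one_mul] at hxy3
      have hyx : y = x := by
        calc y = x⁻¹ * (x * y) := by group
          _ = x := by rw [hxy3, mul_one, hxi]
      rw [hyx, hx2, one_mul] at hy3
      exact hx1 hy3

end Cfsg.Agent.Lib.helper6.Sol3
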