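import Cfsg.Agent.Lib.helper6.BURNCORE

/-!
# TOOBURN (helper6): the Burnside block of project TOO (rows B1, B2, B3), abstractly over `Matrix ι ι F`

Setting as in `burncore_false`: `char F = p`, `Γ` a finite subgroup of `GL`, `X = {1 + c N}` (`N² = 0`) a TI,
self-normalizing subgroup of `Γ` with at least `3` elements, `y = 1 + N' ∈ Γ` (`N'² = 0`).

* `tooburn_sq`     : some `a ≠ 0` has `((1 + a N)(1 + N') - 1)² = 0` (Burnside transfer, `burncore_sub`).
* `tooburn_b1_mat` : **B1**, matrix form: `N N' N N' N = 0`.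
* `tooburn_b1_vec` : **B1**, vector form: `N' N N' l ∈ im N` for all `l ∈ ker N`;  `tooburn_b1_false` the `False` form.
* `tooburn_nilp_pgroup` : **B2**: `N² = N'² = N N' N N' N = 0` ⇒ every subgroup of `⟨1 + c N, 1 + c N'⟩` is a `p`-group.
* `tooburn_b3`     : **B3**: `N N' N N' N = 0` (+ hTI) ⇒ `N' = c • N`.
* `tooburn_main`   : B1 + B3: `N' = c • N`.
-/

set_option autoImplicit false

namespace Cfsg.Agent.Lib.helper6.Burn

open Matrix

variable {ι F : Type*} [Fintype ι] [DecidableEq ι] [Field F]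

/-- the transfer step of `burncore_false`, isolated: some `a ≠ 0` with `((1 + a N)(1 + N') - 1)² = 0`. -/
theorem tooburn_sq (p : ℕ) [Fact p.Prime] [CharP F p]
    (Γ X : Subgroup (Matrix.GeneralLinearGroup ι F)) [Finite Γ] (hXΓ : X ≤ Γ)
    (N N' : Matrix ι ι F) (hN : N * N = 0)
    (hX : ∀ g : Matrix.GeneralLinearGroup ι F, g ∈ X ↔ ∃ c : F, (g : Matrix ι ι F) = 1 + c • N)
    (hcard : 3 ≤ Nat.card X)
    (hTI : ∀ g ∈ Γ, (∃ x ∈ X, x ≠ 1 ∧ g * x * g⁻¹ ∈ X) → g ∈ X)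
    (y : Matrix.GeneralLinearGroup ι F) (hy : y ∈ Γ) (hyN : (y : Matrix ι ι F) = 1 + N') :
    ∃ a : F, a ≠ 0 ∧ ((1 + a • N) * (1 + N') - 1) * ((1 + a • N) * (1 + N') - 1) = 0 := by
  have hpow : ∀ (c : F) (n : ℕ), (1 + c • N) ^ n = 1 + ((n : F) * c) • N := by
    intro c n
    induction n with
    | zero => simp
    | succ n ih =>
      rw [pow_succ, ih]
      simp only [Matrix.add_mul, Matrix.mul_add, Matrix.one_mul, Matrix.mul_one, Matrix.smul_mul,
        Matrix.mul_smul, hN, smul_zero, add_zero]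
      rw [Nat.cast_succ, add_mul, one_mul, add_smul, add_assoc]
  have hXp : IsPGroup p X := by
    intro g
    refine ⟨1, ?_⟩
    obtain ⟨c, hc⟩ := (hX g).mp g.2
    apply Subtype.ext
    apply Units.ext
    rw [pow_one]
    show ((g : Matrix.GeneralLinearGroup ι F) ^ p : Matrix.GeneralLinearGroup ι F).val = 1
    rw [Units.val_pow_eq_pow_val, hc, hpow, CharP.cast_eq_zero, zero_mul, zero_smul, add_zero]
  have hab : ∀ x ∈ X, ∀ x' ∈ X, x * x' = x' * x := by
    intro x hx x' hx'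
    obtain ⟨c, hc⟩ := (hX x).mp hx
    obtain ⟨c', hc'⟩ := (hX x').mp hx'
    apply Units.ext
    rw [Units.val_mul, Units.val_mul, hc, hc']
    simp only [Matrix.add_mul, Matrix.mul_add, Matrix.one_mul, Matrix.mul_one, Matrix.smul_mul,
      Matrix.mul_smul, hN, smul_zero, add_zero]
    abel
  obtain ⟨x, hx, hx1, γ, hγΓ, hγ⟩ := burncore_sub p Γ X hXΓ hXp hab hTI hcard y hy
  obtain ⟨a, ha⟩ := (hX x).mp hx
  have ha0 : a ≠ 0 := by
    intro h
    apply hx1
    apply Units.ext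
    rw [ha, h, zero_smul, add_zero]
    rfl
  obtain ⟨c, hc⟩ := (hX _).mp hγ
  refine ⟨a, ha0, ?_⟩
  have hγi : ((γ⁻¹ : Matrix.GeneralLinearGroup ι F) : Matrix ι ι F) * (γ : Matrix ι ι F) = 1 := by
    rw [← Units.val_mul, inv_mul_cancel, Units.val_one]
  have hγi' : (γ : Matrix ι ι F) * ((γ⁻¹ : Matrix.GeneralLinearGroup ι F) : Matrix ι ι F) = 1 := by
    rw [← Units.val_mul, mul_inv_cancel, Units.val_one]
  have hxy : (1 + a • N) * (1 + N') =
      (γ : Matrix ι ι F) * (1 + c • N) * ((γ⁻¹ : Matrix.GeneralLinearGroup ι F) : Matrix ι ι F) := by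
    rw [← hc, ← ha, ← hyN]
    simp only [Units.val_mul]
    calc (x : Matrix ι ι F) * (y : Matrix ι ι F)
        = ((γ : Matrix ι ι F) * ((γ⁻¹ : Matrix.GeneralLinearGroup ι F) : Matrix ι ι F)) *
            ((x : Matrix ι ι F) * (y : Matrix ι ι F)) *
            ((γ : Matrix ι ι F) * ((γ⁻¹ : Matrix.GeneralLinearGroup ι F) : Matrix ι ι F)) := by
          rw [hγi', Matrix.one_mul, Matrix.mul_one]
      _ = _ := by simp only [Matrix.mul_assoc]
  have hsub : (1 + a • N) * (1 + N') - 1 =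
      (γ : Matrix ι ι F) * (c • N) * ((γ⁻¹ : Matrix.GeneralLinearGroup ι F) : Matrix ι ι F) := by
    rw [hxy, Matrix.mul_add, Matrix.add_mul, Matrix.mul_one, hγi', add_sub_cancel_left]
  rw [hsub]
  calc (γ : Matrix ι ι F) * (c • N) * ((γ⁻¹ : Matrix.GeneralLinearGroup ι F) : Matrix ι ι F) *
        ((γ : Matrix ι ι F) * (c • N) * ((γ⁻¹ : Matrix.GeneralLinearGroup ι F) : Matrix ι ι F))
      = (γ : Matrix ι ι F) * ((c • N) * (((γ⁻¹ : Matrix.GeneralLinearGroup ι F) : Matrix ι ι F) *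
          (γ : Matrix ι ι F)) * (c • N)) * ((γ⁻¹ : Matrix.GeneralLinearGroup ι F) : Matrix ι ι F) := by
        simp only [Matrix.mul_assoc]
    _ = 0 := by
        simp only [hγi, Matrix.mul_one, Matrix.smul_mul, Matrix.mul_smul, hN, smul_zero,
          Matrix.mul_zero, Matrix.zero_mul]

/-- pure algebra: `Z = (1 + a N)(1 + N') - 1`, `N² = N'² = 0`: `N Z² N = a • N N' N N' N`. -/
theorem tooburn_sandwich (N N' : Matrix ι ι F) (hN : N * N = 0) (hN' : N' * N' = 0) (a : F) :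
    N * (((1 + a • N) * (1 + N') - 1) * ((1 + a • N) * (1 + N') - 1)) * N =
      a • (N * N' * N * N' * N) := by
  have hZ : (1 + a • N) * (1 + N') - 1 = a • N + N' + a • (N * N') := by
    rw [Matrix.add_mul, Matrix.mul_add, Matrix.mul_add, Matrix.one_mul, Matrix.one_mul,
      Matrix.mul_one, Matrix.smul_mul]
    abel
  rw [hZ]
  have e1 : N * (a • N + N' + a • (N * N')) = N * N' := by
    rw [Matrix.mul_add, Matrix.mul_add, Matrix.mul_smul, Matrix.mul_smul, ← Matrix.mul_assoc, hN,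
      Matrix.zero_mul, smul_zero, zero_add, add_zero]
  have e2 : (a • N + N' + a • (N * N')) * N = N' * N + a • (N * N' * N) := by
    rw [Matrix.add_mul, Matrix.add_mul, Matrix.smul_mul, Matrix.smul_mul, hN, smul_zero, zero_add]
  calc N * ((a • N + N' + a • (N * N')) * (a • N + N' + a • (N * N'))) * N
      = (N * (a • N + N' + a • (N * N'))) * ((a • N + N' + a • (N * N')) * N) := by
        simp only [Matrix.mul_assoc]
    _ = N * N' * (N' * N + a • (N * N' * N)) := by rw [e1, e2]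
    _ = a • (N * N' * N * N' * N) := by
        rw [Matrix.mul_add, Matrix.mul_smul]
        have : N * N' * (N' * N) = 0 := by
          rw [Matrix.mul_assoc, ← Matrix.mul_assoc N' N' N, hN', Matrix.zero_mul, Matrix.mul_zero]
        rw [this, zero_add]
        simp only [Matrix.mul_assoc]

/-- **B1, matrix form.**  In the setting of `burncore_false` (without `hdisj`, `hgen`): `N N' N N' N = 0`. -/
theorem tooburn_b1_mat (p : ℕ) [Fact p.Prime] [CharP F p]
    (Γ X : Subgroup (Matrix.GeneralLinearGroup ι F)) [Finite Γ] (hXΓ : X ≤ Γ)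
    (N N' : Matrix ι ι F) (hN : N * N = 0) (hN' : N' * N' = 0)
    (hX : ∀ g : Matrix.GeneralLinearGroup ι F, g ∈ X ↔ ∃ c : F, (g : Matrix ι ι F) = 1 + c • N)
    (hcard : 3 ≤ Nat.card X)
    (hTI : ∀ g ∈ Γ, (∃ x ∈ X, x ≠ 1 ∧ g * x * g⁻¹ ∈ X) → g ∈ X)
    (y : Matrix.GeneralLinearGroup ι F) (hy : y ∈ Γ) (hyN : (y : Matrix ι ι F) = 1 + N') :
    N * N' * N * N' * N = 0 := by
  obtain ⟨a, ha, hZ⟩ := tooburn_sq p Γ X hXΓ N N' hN hX hcard hTI y hy hyN
  have h := tooburn_sandwich N N' hN hN' a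
  rw [hZ, Matrix.mul_zero, Matrix.zero_mul] at h
  rcases smul_eq_zero.mp h.symm with h0 | h0
  · exact absurd h0 ha
  · exact h0

/-- **B1, vector form.**  `N' N N' l ∈ im N` for every `l ∈ ker N`. -/
theorem tooburn_b1_vec (p : ℕ) [Fact p.Prime] [CharP F p]
    (Γ X : Subgroup (Matrix.GeneralLinearGroup ι F)) [Finite Γ] (hXΓ : X ≤ Γ)
    (N N' : Matrix ι ι F) (hN : N * N = 0) (hN' : N' * N' = 0)
    (hX : ∀ g : Matrix.GeneralLinearGroup ι F, g ∈ X ↔ ∃ c : F, (g : Matrix ι ι F) = 1 + c • N)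
    (hcard : 3 ≤ Nat.card X)
    (hTI : ∀ g ∈ Γ, (∃ x ∈ X, x ≠ 1 ∧ g * x * g⁻¹ ∈ X) → g ∈ X)
    (y : Matrix.GeneralLinearGroup ι F) (hy : y ∈ Γ) (hyN : (y : Matrix ι ι F) = 1 + N')
    (l : ι → F) (hl : N *ᵥ l = 0) :
    ∃ v : ι → F, N' *ᵥ (N *ᵥ (N' *ᵥ l)) = N *ᵥ v := by
  obtain ⟨a, ha, h0⟩ := tooburn_sq p Γ X hXΓ N N' hN hX hcard hTI y hy hyN
  have hZ : (1 + a • N) * (1 + N') - 1 = a • N + N' + a • (N * N') := by
    rw [Matrix.add_mul, Matrix.mul_add, Matrix.mul_add, Matrix.one_mul, Matrix.one_mul,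
      Matrix.mul_one, Matrix.smul_mul]
    abel
  rw [hZ] at h0
  have hNN : ∀ v : ι → F, N *ᵥ (N *ᵥ v) = 0 := by
    intro v
    rw [Matrix.mulVec_mulVec, hN, Matrix.zero_mulVec]
  have hN'N' : ∀ v : ι → F, N' *ᵥ (N' *ᵥ v) = 0 := by
    intro v
    rw [Matrix.mulVec_mulVec, hN', Matrix.zero_mulVec]
  have hZv : ∀ v : ι → F, (a • N + N' + a • (N * N')) *ᵥ v =
      a • (N *ᵥ v) + N' *ᵥ v + a • (N *ᵥ (N' *ᵥ v)) := by
    intro v
    rw [Matrix.add_mulVec, Matrix.add_mulVec, Matrix.smul_mulVec, Matrix.smul_mulVec,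
      Matrix.mulVec_mulVec]
  have h1 := congrArg (fun Z : Matrix ι ι F => Z *ᵥ l) h0
  simp only [Matrix.zero_mulVec] at h1
  rw [← Matrix.mulVec_mulVec, hZv l, hl, smul_zero, zero_add, hZv] at h1
  simp only [Matrix.mulVec_add, Matrix.mulVec_smul, hNN, hN'N', smul_zero, add_zero, zero_add] at h1
  -- h1 : a • N (N' l) + a • N' (N (N' l)) + a • (a • N (N' (N (N' l)))) = 0
  refine ⟨-(N' *ᵥ l) - a • (N' *ᵥ (N *ᵥ (N' *ᵥ l))), ?_⟩
  rw [Matrix.mulVec_sub, Matrix.mulVec_neg, Matrix.mulVec_smul]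
  have h2 : a • (N' *ᵥ (N *ᵥ (N' *ᵥ l))) =
      a • (-(N *ᵥ (N' *ᵥ l)) - a • (N *ᵥ (N' *ᵥ (N *ᵥ (N' *ᵥ l))))) := by
    rw [smul_sub, smul_neg, eq_sub_iff_add_eq, eq_neg_iff_add_eq_zero, ← h1]
    abel
  exact smul_right_injective _ ha h2

/-- **B1, `False` form** (`burncore_false` without `hdisj`). -/
theorem tooburn_b1_false (p : ℕ) [Fact p.Prime] [CharP F p]
    (Γ X : Subgroup (Matrix.GeneralLinearGroup ι F)) [Finite Γ] (hXΓ : X ≤ Γ)
    (N N' : Matrix ι ι F) (hN : N * N = 0) (hN' : N' * N' = 0)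
    (hX : ∀ g : Matrix.GeneralLinearGroup ι F, g ∈ X ↔ ∃ c : F, (g : Matrix ι ι F) = 1 + c • N)
    (hcard : 3 ≤ Nat.card X)
    (hTI : ∀ g ∈ Γ, (∃ x ∈ X, x ≠ 1 ∧ g * x * g⁻¹ ∈ X) → g ∈ X)
    (y : Matrix.GeneralLinearGroup ι F) (hy : y ∈ Γ) (hyN : (y : Matrix ι ι F) = 1 + N')
    (l : ι → F) (hl : N *ᵥ l = 0) (hgen : ∀ v : ι → F, N' *ᵥ (N *ᵥ (N' *ᵥ l)) ≠ N *ᵥ v) : False := by
  obtain ⟨v, hv⟩ := tooburn_b1_vec p Γ X hXΓ N N' hN hN' hX hcard hTI y hy hyN l hl
  exact hgen v hv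

/-- the span of all words of length at least `k` in `N`, `N'`. -/
def tooburn_I (N N' : Matrix ι ι F) (k : ℕ) : Submodule F (Matrix ι ι F) :=
  Submodule.span F {w | ∃ l : List (Matrix ι ι F), (∀ x ∈ l, x = N ∨ x = N') ∧ k ≤ l.length ∧ l.prod = w}

theorem tooburn_I_anti (N N' : Matrix ι ι F) {j k : ℕ} (h : j ≤ k) :
    tooburn_I N N' k ≤ tooburn_I N N' j := by
  apply Submodule.span_mono
  rintro w ⟨l, hl, hk, rfl⟩
  exact ⟨l, hl, h.trans hk, rfl⟩

theorem tooburn_I_mul (N N' : Matrix ι ι F) {j k : ℕ} {x y : Matrix ι ι F}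
    (hx : x ∈ tooburn_I N N' j) (hy : y ∈ tooburn_I N N' k) : x * y ∈ tooburn_I N N' (j + k) := by
  have h := Submodule.mul_mem_mul hx hy
  unfold tooburn_I at h
  rw [Submodule.span_mul_span] at h
  refine Submodule.span_mono ?_ h
  rintro w ⟨w₁, ⟨l₁, hl₁, hk₁, rfl⟩, w₂, ⟨l₂, hl₂, hk₂, rfl⟩, rfl⟩
  refine ⟨l₁ ++ l₂, ?_, ?_, ?_⟩
  · intro x hx
    rcases List.mem_append.mp hx with h | h
    · exact hl₁ x h
    · exact hl₂ x h
  · rw [List.length_append]
    omega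
  · rw [List.prod_append]

theorem tooburn_I_six (N N' : Matrix ι ι F) (hN : N * N = 0) (hN' : N' * N' = 0)
    (h5 : N * N' * N * N' * N = 0) : tooburn_I N N' 6 = ⊥ := by
  rw [eq_bot_iff]
  apply Submodule.span_le.mpr
  rintro w ⟨l, hl, hk, rfl⟩
  rw [SetLike.mem_coe, Submodule.mem_bot]
  have hNr : ∀ M : Matrix ι ι F, N * (N * M) = 0 := by
    intro M
    rw [← Matrix.mul_assoc, hN, Matrix.zero_mul]
  have hN'r : ∀ M : Matrix ι ι F, N' * (N' * M) = 0 := by
    intro M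
    rw [← Matrix.mul_assoc, hN', Matrix.zero_mul]
  have h5r : ∀ M : Matrix ι ι F, N * (N' * (N * (N' * (N * M)))) = 0 := by
    intro M
    have : N * (N' * (N * (N' * (N * M)))) = N * N' * N * N' * N * M := by
      simp only [Matrix.mul_assoc]
    rw [this, h5, Matrix.zero_mul]
  match l, hl, hk with
  | x1 :: x2 :: x3 :: x4 :: x5 :: x6 :: r, hl, _ =>
    have h1 := hl x1 (by simp)
    have h2 := hl x2 (by simp)
    have h3 := hl x3 (by simp)
    have h4 := hl x4 (by simp)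
    have h5' := hl x5 (by simp)
    have h6 := hl x6 (by simp)
    simp only [List.prod_cons]
    rcases h1 with h1 | h1 <;> rcases h2 with h2 | h2 <;> rcases h3 with h3 | h3 <;>
      rcases h4 with h4 | h4 <;> rcases h5' with h5' | h5' <;> rcases h6 with h6 | h6 <;>
      simp only [h1, h2, h3, h4, h5', h6, hNr, hN'r, h5r, Matrix.mul_zero]


theorem tooburn_I_word_one (N N' : Matrix ι ι F) (x : Matrix ι ι F) (hx : x = N ∨ x = N') :
    x ∈ tooburn_I N N' 1 := by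
  apply Submodule.subset_span
  refine ⟨[x], ?_, ?_, ?_⟩
  · intro z hz
    rw [List.mem_singleton] at hz
    rw [hz]
    exact hx
  · simp
  · simp

theorem tooburn_I_pow (N N' : Matrix ι ι F) (a : Matrix ι ι F) (ha : a ∈ tooburn_I N N' 1) (k : ℕ) :
    a ^ (k + 1) ∈ tooburn_I N N' (k + 1) := by
  induction k with
  | zero => simpa using ha
  | succ k ih =>
    rw [pow_succ]
    exact tooburn_I_mul N N' ih ha

/-- the generating set of `⟨1 + c N, 1 + c N'⟩`. -/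
def tooburn_gens (N N' : Matrix ι ι F) : Set (Matrix.GeneralLinearGroup ι F) :=
  {g | ∃ c : F, (g : Matrix ι ι F) = 1 + c • N} ∪ {g | ∃ c : F, (g : Matrix ι ι F) = 1 + c • N'}

theorem tooburn_inv_val (N : Matrix ι ι F) (hN : N * N = 0) (x : Matrix.GeneralLinearGroup ι F) (c : F)
    (hc : (x : Matrix ι ι F) = 1 + c • N) :
    ((x⁻¹ : Matrix.GeneralLinearGroup ι F) : Matrix ι ι F) = 1 + (-c) • N := by
  have h1 : (x : Matrix ι ι F) * (1 + (-c) • N) = 1 := by
    rw [hc]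
    simp only [neg_smul, Matrix.add_mul, Matrix.mul_add, Matrix.mul_neg,
      Matrix.one_mul, Matrix.mul_one, Matrix.smul_mul, Matrix.mul_smul, hN, smul_zero,
      add_zero]
    abel
  have h2 : ((x⁻¹ : Matrix.GeneralLinearGroup ι F) : Matrix ι ι F) * (x : Matrix ι ι F) = 1 := by
    rw [← Units.val_mul, inv_mul_cancel, Units.val_one]
  calc ((x⁻¹ : Matrix.GeneralLinearGroup ι F) : Matrix ι ι F)
      = ((x⁻¹ : Matrix.GeneralLinearGroup ι F) : Matrix ι ι F) *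
          ((x : Matrix ι ι F) * (1 + (-c) • N)) := by rw [h1, Matrix.mul_one]
    _ = 1 + (-c) • N := by rw [← Matrix.mul_assoc, h2, Matrix.one_mul]

/-- every element of `⟨1 + c N, 1 + c N'⟩` is `1 +` (a combination of non-empty words). -/
theorem tooburn_sub_one_mem (N N' : Matrix ι ι F) (hN : N * N = 0) (hN' : N' * N' = 0)
    (g : Matrix.GeneralLinearGroup ι F) (hg : g ∈ Subgroup.closure (tooburn_gens N N')) :
    (g : Matrix ι ι F) - 1 ∈ tooburn_I N N' 1 := by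
  induction hg using Subgroup.closure_induction'' with
  | mem x hx =>
    rcases hx with ⟨c, hc⟩ | ⟨c, hc⟩
    · rw [hc, add_sub_cancel_left]
      exact Submodule.smul_mem _ _ (tooburn_I_word_one N N' N (Or.inl rfl))
    · rw [hc, add_sub_cancel_left]
      exact Submodule.smul_mem _ _ (tooburn_I_word_one N N' N' (Or.inr rfl))
  | inv_mem x hx =>
    rcases hx with ⟨c, hc⟩ | ⟨c, hc⟩
    · rw [tooburn_inv_val N hN x c hc, add_sub_cancel_left]
      exact Submodule.smul_mem _ _ (tooburn_I_word_one N N' N (Or.inl rfl))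
    · rw [tooburn_inv_val N' hN' x c hc, add_sub_cancel_left]
      exact Submodule.smul_mem _ _ (tooburn_I_word_one N N' N' (Or.inr rfl))
  | one =>
    rw [Units.val_one, sub_self]
    exact Submodule.zero_mem _
  | mul x y _ _ hx hy =>
    have : ((x * y : Matrix.GeneralLinearGroup ι F) : Matrix ι ι F) - 1 =
        ((x : Matrix ι ι F) - 1) + ((y : Matrix ι ι F) - 1) +
          ((x : Matrix ι ι F) - 1) * ((y : Matrix ι ι F) - 1) := by
      rw [Units.val_mul, Matrix.sub_mul, Matrix.mul_sub, Matrix.mul_sub, Matrix.one_mul,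
        Matrix.mul_one, Matrix.mul_one]
      abel
    rw [this]
    refine Submodule.add_mem _ (Submodule.add_mem _ hx hy) ?_
    exact tooburn_I_anti N N' (by omega : 1 ≤ 1 + 1) (tooburn_I_mul N N' hx hy)

/-- **B2.**  `char F = p`, `N² = N'² = 0`, `N N' N N' N = 0`: every element `g` of `⟨1 + c N, 1 + c N'⟩` has `g ^ p ^ 3 = 1`. -/
theorem tooburn_pow_eq_one (p : ℕ) [Fact p.Prime] [CharP F p]
    (N N' : Matrix ι ι F) (hN : N * N = 0) (hN' : N' * N' = 0) (h5 : N * N' * N * N' * N = 0)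
    (g : Matrix.GeneralLinearGroup ι F) (hg : g ∈ Subgroup.closure (tooburn_gens N N')) :
    g ^ p ^ 3 = 1 := by
  rcases isEmpty_or_nonempty ι with hι | hι
  · apply Units.ext
    exact Subsingleton.elim _ _
  · have ha := tooburn_sub_one_mem N N' hN hN' g hg
    set a : Matrix ι ι F := (g : Matrix ι ι F) - 1 with hadef
    have hga : (g : Matrix ι ι F) = 1 + a := by rw [hadef]; abel
    have h2 : 2 ≤ p := (Fact.out : p.Prime).two_le
    have h8 : 6 ≤ p ^ 3 := by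
      calc 6 ≤ 2 ^ 3 := by norm_num
        _ ≤ p ^ 3 := Nat.pow_le_pow_left h2 3
    have hapow : a ^ p ^ 3 = 0 := by
      obtain ⟨k, hk⟩ : ∃ k, p ^ 3 = k + 1 := ⟨p ^ 3 - 1, by omega⟩
      have h1 := tooburn_I_pow N N' a ha k
      rw [← hk] at h1
      have h3 := tooburn_I_anti N N' h8 h1
      rw [tooburn_I_six N N' hN hN' h5, Submodule.mem_bot] at h3
      exact h3
    apply Units.ext
    rw [Units.val_pow_eq_pow_val, hga, add_pow_char_pow_of_commute p 3 (Commute.one_left a),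
      one_pow, hapow, add_zero, Units.val_one]

/-- **B2** (`nilp_pgroup`): every subgroup of `⟨1 + c N, 1 + c N'⟩` is a `p`-group. -/
theorem tooburn_nilp_pgroup (p : ℕ) [Fact p.Prime] [CharP F p]
    (N N' : Matrix ι ι F) (hN : N * N = 0) (hN' : N' * N' = 0) (h5 : N * N' * N * N' * N = 0)
    (D : Subgroup (Matrix.GeneralLinearGroup ι F)) (hD : D ≤ Subgroup.closure (tooburn_gens N N')) :
    IsPGroup p D := by
  intro g
  refine ⟨3, ?_⟩
  apply Subtype.ext
  have := tooburn_pow_eq_one p N N' hN hN' h5 (g : Matrix.GeneralLinearGroup ι F) (hD g.2)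
  simpa using this


/-- **B3.**  `X = {1 + c N}` TI and self-normalizing in the finite group `Γ`, `y = 1 + N' ∈ Γ`, `N² = N'² = 0` and
`N N' N N' N = 0`: then `N' = c • N`.  (`⟨X, y⟩` is a `p`-group, hence equals `X` by `burncore_max`.) -/
theorem tooburn_b3 (p : ℕ) [Fact p.Prime] [CharP F p]
    (Γ X : Subgroup (Matrix.GeneralLinearGroup ι F)) [Finite Γ] (hXΓ : X ≤ Γ)
    (N N' : Matrix ι ι F) (hN : N * N = 0) (hN' : N' * N' = 0) (h5 : N * N' * N * N' * N = 0)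
    (hX : ∀ g : Matrix.GeneralLinearGroup ι F, g ∈ X ↔ ∃ c : F, (g : Matrix ι ι F) = 1 + c • N)
    (hne : ∃ x ∈ X, x ≠ 1)
    (hTI : ∀ g ∈ Γ, (∃ x ∈ X, x ≠ 1 ∧ g * x * g⁻¹ ∈ X) → g ∈ X)
    (y : Matrix.GeneralLinearGroup ι F) (hy : y ∈ Γ) (hyN : (y : Matrix ι ι F) = 1 + N') :
    ∃ c : F, N' = c • N := by
  set Q : Subgroup (Matrix.GeneralLinearGroup ι F) := Subgroup.closure ((X : Set _) ∪ {y}) with hQdef
  have hXQ : X ≤ Q := fun x hx => Subgroup.subset_closure (Or.inl hx)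
  have hyQ : y ∈ Q := Subgroup.subset_closure (Or.inr rfl)
  have hQΓ : Q ≤ Γ := by
    rw [hQdef, Subgroup.closure_le]
    rintro x (hx | hx)
    · exact hXΓ hx
    · rw [Set.mem_singleton_iff] at hx
      rw [hx]
      exact hy
  have hQgen : Q ≤ Subgroup.closure (tooburn_gens N N') := by
    rw [hQdef]
    apply Subgroup.closure_mono
    rintro x (hx | hx)
    · exact Or.inl ((hX x).mp hx)
    · rw [Set.mem_singleton_iff] at hx
      refine Or.inr ⟨1, ?_⟩
      rw [hx, hyN, one_smul]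
  have hQp : IsPGroup p Q := tooburn_nilp_pgroup p N N' hN hN' h5 Q hQgen
  have hQp' : IsPGroup p (Q.subgroupOf Γ) := by
    intro g
    obtain ⟨k, hk⟩ := hQp ⟨(g : Γ), g.2⟩
    refine ⟨k, ?_⟩
    apply Subtype.ext
    apply Subtype.ext
    have := congrArg Subtype.val hk
    simpa using this
  have hTI' : ∀ g : Γ, (∃ x ∈ X.subgroupOf Γ, x ≠ 1 ∧ g * x * g⁻¹ ∈ X.subgroupOf Γ) →
      g ∈ X.subgroupOf Γ := by
    rintro g ⟨x, hx, hx1, hgx⟩
    rw [Subgroup.mem_subgroupOf] at hx hgx ⊢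
    apply hTI g g.2
    refine ⟨x, hx, ?_, ?_⟩
    · intro h
      apply hx1
      exact Subtype.ext h
    · simpa using hgx
  have hne' : ∃ x ∈ X.subgroupOf Γ, x ≠ 1 := by
    obtain ⟨x, hx, hx1⟩ := hne
    refine ⟨⟨x, hXΓ hx⟩, ?_, ?_⟩
    · rw [Subgroup.mem_subgroupOf]
      exact hx
    · intro h
      apply hx1
      exact congrArg Subtype.val h
  have hXQ' : X.subgroupOf Γ ≤ Q.subgroupOf Γ := by
    intro x hx
    rw [Subgroup.mem_subgroupOf] at hx ⊢
    exact hXQ hx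
  have heq := burncore_max (G := Γ) p (X.subgroupOf Γ) hTI' hne' hQp' hXQ'
  have hyX : y ∈ X := by
    have h1 : (⟨y, hy⟩ : Γ) ∈ Q.subgroupOf Γ := by
      rw [Subgroup.mem_subgroupOf]
      exact hyQ
    rw [heq, Subgroup.mem_subgroupOf] at h1
    exact h1
  obtain ⟨c, hc⟩ := (hX y).mp hyX
  refine ⟨c, ?_⟩
  rw [hyN] at hc
  exact add_left_cancel hc


/-- **B1 + B3.**  `char F = p`, `Γ` a finite subgroup of `GL`, `X = {1 + c N}` (`N² = 0`) a TI, self-normalizing subgroup of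
`Γ` with at least `3` elements, `y = 1 + N' ∈ Γ` (`N'² = 0`): then `N' = c • N`. -/
theorem tooburn_main (p : ℕ) [Fact p.Prime] [CharP F p]
    (Γ X : Subgroup (Matrix.GeneralLinearGroup ι F)) [Finite Γ] (hXΓ : X ≤ Γ)
    (N N' : Matrix ι ι F) (hN : N * N = 0) (hN' : N' * N' = 0)
    (hX : ∀ g : Matrix.GeneralLinearGroup ι F, g ∈ X ↔ ∃ c : F, (g : Matrix ι ι F) = 1 + c • N)
    (hcard : 3 ≤ Nat.card X)
    (hTI : ∀ g ∈ Γ, (∃ x ∈ X, x ≠ 1 ∧ g * x * g⁻¹ ∈ X) → g ∈ X)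
    (y : Matrix.GeneralLinearGroup ι F) (hy : y ∈ Γ) (hyN : (y : Matrix ι ι F) = 1 + N') :
    ∃ c : F, N' = c • N := by
  have h5 := tooburn_b1_mat p Γ X hXΓ N N' hN hN' hX hcard hTI y hy hyN
  have hne : ∃ x ∈ X, x ≠ 1 := by
    by_contra hcon
    push Not at hcon
    have hbot : X = ⊥ := by
      rw [Subgroup.eq_bot_iff_forall]
      exact hcon
    rw [hbot, Subgroup.card_bot] at hcard
    omega
  exact tooburn_b3 p Γ X hXΓ N N' hN hN' h5 hX hne hTI y hy hyN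

end Cfsg.Agent.Lib.helper6.Burn
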