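import Cfsg.Agent.Lib.helper6.TOOGH1core
import Cfsg.Agent.Lib.Helper13.TOOGA6

/-!
# TOO row GH1 (helper6): `conj_stab`, verbatim.
-/

set_option autoImplicit false
set_option linter.unusedVariables false
set_option linter.unusedSectionVars false

namespace Cfsg.Agent.Lib.Helper28.TOO

open Matrix
open scoped Kronecker
open Cfsg.Agent.Lib.helper7.TP Cfsg.Agent.Lib.Helper21.TS

variable {a b : ℕ} {F : Type*} [Field F]
variable {J1 : Matrix (Fin a) (Fin a) F} {J2 : Matrix (Fin b) (Fin b) F}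

/-- GH1 [S-M]. `m x_W(c) m⁻¹ = x_W(c')`, `c ≠ 0` ⇒ `m L_W ≤ L_W`  (`m N = (c'/c) N m`; NV_range). -/
theorem conj_stab (C : OCtx J1 J2) (w₁ w₂ : Fin b → F) (hw : IsTS J2 w₁ w₂)
    (m : Matrix.GeneralLinearGroup (Fin a × Fin b) F) (c c' : F) (hc : c ≠ 0)
    (h : (m : Matrix (Fin a × Fin b) (Fin a × Fin b) F) * (1 + c • NV (a := a) J2 w₁ w₂) *
        ((m⁻¹ : Matrix.GeneralLinearGroup (Fin a × Fin b) F) : Matrix (Fin a × Fin b) (Fin a × Fin b) F) =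
      1 + c' • NV (a := a) J2 w₁ w₂) :
    ∀ v ∈ Lpl (a := a) w₁ w₂, (m : Matrix (Fin a × Fin b) (Fin a × Fin b) F) *ᵥ v ∈ Lpl (a := a) w₁ w₂ := by
  exact toogh1_core (NV (a := a) J2 w₁ w₂) (Lpl (a := a) w₁ w₂) (NV_range C w₁ w₂ hw) m c c' hc h

end Cfsg.Agent.Lib.Helper28.TOO
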