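import Cfsg.Agent.Lib.Helper28.TOO.Defs2

/-!
# TOO row GH1 (helper6), core: `m x(c) m⁻¹ = x(c')`, `c ≠ 0` ⇒ `m (im N) ≤ im N`.
-/

set_option autoImplicit false

namespace Cfsg.Agent.Lib.Helper28.TOO

open Matrix

/-- abstract core of GH1: `L = im N`, `m (1 + c N) m⁻¹ = 1 + c' N`, `c ≠ 0` ⇒ `m L ≤ L`. -/
theorem toogh1_core {ι F : Type*} [Fintype ι] [DecidableEq ι] [Field F]
    (N : Matrix ι ι F) (L : Submodule F (ι → F))
    (hR : ∀ v : ι → F, (∃ v' : ι → F, N *ᵥ v' = v) ↔ v ∈ L)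
    (m : Matrix.GeneralLinearGroup ι F) (c c' : F) (hc : c ≠ 0)
    (h : (m : Matrix ι ι F) * (1 + c • N) *
        ((m⁻¹ : Matrix.GeneralLinearGroup ι F) : Matrix ι ι F) = 1 + c' • N) :
    ∀ v ∈ L, (m : Matrix ι ι F) *ᵥ v ∈ L := by
  have hmi : ((m⁻¹ : Matrix.GeneralLinearGroup ι F) : Matrix ι ι F) * (m : Matrix ι ι F) = 1 := by
    rw [← Units.val_mul, inv_mul_cancel, Units.val_one]
  have h1 : (m : Matrix ι ι F) * (1 + c • N) = (1 + c' • N) * (m : Matrix ι ι F) := by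
    rw [← h, Matrix.mul_assoc, hmi, Matrix.mul_one]
  have h2 : c • ((m : Matrix ι ι F) * N) = c' • (N * (m : Matrix ι ι F)) := by
    rw [Matrix.mul_add, Matrix.add_mul, Matrix.mul_one, Matrix.one_mul, Matrix.mul_smul,
      Matrix.smul_mul] at h1
    exact add_left_cancel h1
  intro v hv
  obtain ⟨v', rfl⟩ := (hR v).mpr hv
  apply (hR _).mp
  refine ⟨(c⁻¹ * c') • ((m : Matrix ι ι F) *ᵥ v'), ?_⟩
  have h3 : (m : Matrix ι ι F) * N = (c⁻¹ * c') • (N * (m : Matrix ι ι F)) := by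
    rw [mul_smul, ← h2, smul_smul, inv_mul_cancel₀ hc, one_smul]
  rw [Matrix.mulVec_mulVec, h3, Matrix.smul_mulVec, Matrix.mulVec_smul, Matrix.mulVec_mulVec]

end Cfsg.Agent.Lib.Helper28.TOO
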