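import Cfsg.Agent.Lib.Helper28.TOO.Defs2

/-!
# TOO row GH2 (helper6): `kron_similitude`, verbatim.
-/

set_option autoImplicit false
set_option linter.unusedVariables false
set_option linter.unusedSectionVars false

namespace Cfsg.Agent.Lib.Helper28.TOO

open Matrix
open scoped Kronecker
open Cfsg.Agent.Lib.helper7.TP Cfsg.Agent.Lib.Helper21.TS

variable {a b : ℕ} {F : Type*} [Field F]
variable {J1 : Matrix (Fin a) (Fin a) F} {J2 : Matrix (Fin b) (Fin b) F}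

/-- a matrix with non-zero determinant over a non-empty index type has a non-zero entry. -/
theorem toogh2_entry {n : ℕ} (hn : 1 ≤ n) (J : Matrix (Fin n) (Fin n) F) (hdet : J.det ≠ 0) :
    ∃ i i' : Fin n, J i i' ≠ 0 := by
  by_contra hcon
  push Not at hcon
  apply hdet
  have h0 : J = 0 := by
    ext i i'
    exact hcon i i'
  have : Nonempty (Fin n) := ⟨⟨0, hn⟩⟩
  rw [h0, Matrix.det_zero]

/-- abstract form: `P ⊗ Q = J1 ⊗ J2` with `J1, J2 ≠ 0` ⇒ `P = μ J1`, `Q = μ⁻¹ J2`. -/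
theorem toogh2_kron_eq (P J1' : Matrix (Fin a) (Fin a) F) (Q J2' : Matrix (Fin b) (Fin b) F)
    (h1 : ∃ i i' : Fin a, J1' i i' ≠ 0) (h2 : ∃ j j' : Fin b, J2' j j' ≠ 0)
    (h : P ⊗ₖ Q = J1' ⊗ₖ J2') :
    ∃ μ : F, μ ≠ 0 ∧ P = μ • J1' ∧ Q = μ⁻¹ • J2' := by
  obtain ⟨i₀, i₀', hi⟩ := h1
  obtain ⟨j₀, j₀', hj⟩ := h2
  have he : ∀ (i i' : Fin a) (j j' : Fin b), P i i' * Q j j' = J1' i i' * J2' j j' := by
    intro i i' j j'
    have := congrFun (congrFun h (i, j)) (i', j')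
    simpa [Matrix.kroneckerMap_apply] using this
  have hQ0 : Q j₀ j₀' ≠ 0 := by
    intro h0
    have := he i₀ i₀' j₀ j₀'
    rw [h0, mul_zero] at this
    exact mul_ne_zero hi hj this.symm
  refine ⟨J2' j₀ j₀' / Q j₀ j₀', div_ne_zero hj hQ0, ?_, ?_⟩
  · ext i i'
    rw [Matrix.smul_apply, smul_eq_mul]
    have := he i i' j₀ j₀'
    field_simp
    linear_combination this
  · ext j j'
    rw [Matrix.smul_apply, smul_eq_mul, inv_div]
    have h3 := he i₀ i₀' j j'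
    have h4 := he i₀ i₀' j₀ j₀'
    have hP0 : P i₀ i₀' ≠ 0 := by
      intro h0
      rw [h0, zero_mul] at h4
      exact mul_ne_zero hi hj h4.symm
    field_simp
    -- Q j j' * J2' j₀ j₀' = Q j₀ j₀' * J2' j j'
    have h5 : P i₀ i₀' * (Q j j' * J2' j₀ j₀') = P i₀ i₀' * (Q j₀ j₀' * J2' j j') := by
      linear_combination (J2' j₀ j₀') * h3 - (J2' j j') * h4
    have := mul_left_cancel₀ hP0 h5
    linear_combination this

/-- GH2 [M]. if `α ⊗ β` is an isometry of `J1 ⊗ J2` then `α`, `β` are similitudes with inverse multipliers. -/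
theorem kron_similitude (C : OCtx J1 J2) (ha : 1 ≤ a) (hb : 1 ≤ b)
    (α : Matrix (Fin a) (Fin a) F) (β : Matrix (Fin b) (Fin b) F)
    (h : (α ⊗ₖ β)ᵀ * JV J1 J2 * (α ⊗ₖ β) = JV J1 J2) :
    ∃ μ : F, μ ≠ 0 ∧ αᵀ * J1 * α = μ • J1 ∧ βᵀ * J2 * β = μ⁻¹ • J2 := by
  apply toogh2_kron_eq (αᵀ * J1 * α) J1 (βᵀ * J2 * β) J2 (toogh2_entry ha J1 C.det1)
    (toogh2_entry hb J2 C.det2)
  rw [Matrix.mul_kronecker_mul, Matrix.mul_kronecker_mul, Matrix.kroneckerMap_transpose]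
  exact h

end Cfsg.Agent.Lib.Helper28.TOO
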