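import Cfsg.Agent.Lib.Helper21.TOO.LDefs

/-!
# TOO row LG2 (helper6): `torus_mem_Om`, verbatim.  `δ_{l²} = ⁅δ_l, s⁆`, `s` the swap `w ↔ w'`.
-/

set_option autoImplicit false
set_option linter.unusedSectionVars false
set_option linter.unusedVariables false

namespace Cfsg.Agent.Lib.Helper28.TOO

open Matrix
open scoped Kronecker
open Cfsg.Agent.Lib.helper7.TP Cfsg.Agent.Lib.Helper21.TS

variable {ι : Type*} [Fintype ι] [DecidableEq ι] {a b : ℕ} {F : Type*} [Field F]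
  {J1 : Matrix (Fin a) (Fin a) F} {J2 : Matrix (Fin b) (Fin b) F}
  {M : Subgroup (Matrix.GeneralLinearGroup (Fin a × Fin b) F)}

/-- a commutator of two isometries lies in `Om J`. -/
theorem toolg2_comm_mem_Om {J : Matrix ι ι F} (x y : Matrix.GeneralLinearGroup ι F)
    (hx : x ∈ Iso J) (hy : y ∈ Iso J) : x * y * x⁻¹ * y⁻¹ ∈ Om J := by
  unfold Om
  rw [Subgroup.mem_map]
  let X : ↥(Iso J) := ⟨x, hx⟩
  let Y : ↥(Iso J) := ⟨y, hy⟩
  refine ⟨X * Y * X⁻¹ * Y⁻¹, ?_, ?_⟩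
  · rw [commutator_def, ← commutatorElement_def]
    exact Subgroup.commutator_mem_commutator (Subgroup.mem_top X) (Subgroup.mem_top Y)
  · rfl

/-- the torus element `δ_c`. -/
def toolg2_del (J : Matrix ι ι F) (w w' : ι → F) (c : F) : Matrix ι ι F :=
  1 + (c - 1) • opm J w w' + (c⁻¹ - 1) • opm J w' w

/-- the swap `w ↔ w'`. -/
def toolg2_sw (J : Matrix ι ι F) (w w' : ι → F) : Matrix ι ι F := 1 + opm J (w - w') (w - w')

theorem toolg2_del_mulVec (J : Matrix ι ι F) (w w' : ι → F) (c : F) (x : ι → F) :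
    toolg2_del J w w' c *ᵥ x = x + ((c - 1) * bf J w' x) • w + ((c⁻¹ - 1) * bf J w x) • w' := by
  rw [toolg2_del, Matrix.add_mulVec, Matrix.add_mulVec, Matrix.one_mulVec, Matrix.smul_mulVec,
    Matrix.smul_mulVec, opm_mulVec, opm_mulVec, smul_smul, smul_smul]

theorem toolg2_sw_mulVec (J : Matrix ι ι F) (w w' : ι → F) (x : ι → F) :
    toolg2_sw J w w' *ᵥ x = x + (bf J w x - bf J w' x) • (w - w') := by
  rw [toolg2_sw, Matrix.add_mulVec, Matrix.one_mulVec, opm_mulVec, bf_sub_left]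

section
variable {J : Matrix ι ι F} (hJ : Jᵀ = J) {w w' : ι → F} (hw : bf J w w = 0) (hw' : bf J w' w' = 0)
  (hww' : bf J w w' = 1)
include hJ hw hw' hww'

theorem toolg2_del_mul (c d : F) :
    toolg2_del J w w' c * toolg2_del J w w' d = toolg2_del J w w' (c * d) := by
  have hw'w : bf J w' w = 1 := by rw [bf_symm hJ]; exact hww'
  rw [Matrix.ext_iff_mulVec]
  intro x
  rw [← Matrix.mulVec_mulVec]
  simp only [toolg2_del_mulVec, bf_add_right, bf_smul_right, hw, hw', hww', hw'w]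
  rw [mul_inv]
  module

theorem toolg2_del_one : toolg2_del J w w' 1 = 1 := by
  simp [toolg2_del]

theorem toolg2_sw_mul : toolg2_sw J w w' * toolg2_sw J w w' = 1 := by
  have hw'w : bf J w' w = 1 := by rw [bf_symm hJ]; exact hww'
  rw [Matrix.ext_iff_mulVec]
  intro x
  rw [← Matrix.mulVec_mulVec]
  simp only [toolg2_sw_mulVec, bf_add_right, bf_smul_right, bf_sub_right, hw, hw', hww', hw'w,
    Matrix.one_mulVec]
  module

theorem toolg2_sw_del_sw (c : F) :
    toolg2_sw J w w' * toolg2_del J w w' c * toolg2_sw J w w' = toolg2_del J w w' c⁻¹ := by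
  have hw'w : bf J w' w = 1 := by rw [bf_symm hJ]; exact hww'
  rw [Matrix.ext_iff_mulVec]
  intro x
  rw [← Matrix.mulVec_mulVec, ← Matrix.mulVec_mulVec]
  simp only [toolg2_sw_mulVec, toolg2_del_mulVec, bf_add_right, bf_smul_right, bf_sub_right, hw, hw',
    hww', hw'w, inv_inv]
  module

theorem toolg2_del_iso (c : F) (hc : c ≠ 0) (x y : ι → F) :
    bf J (toolg2_del J w w' c *ᵥ x) (toolg2_del J w w' c *ᵥ y) = bf J x y := by
  have hw'w : bf J w' w = 1 := by rw [bf_symm hJ]; exact hww'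
  simp only [toolg2_del_mulVec, bf_add_right, bf_add_left, bf_smul_right, bf_smul_left, hw, hw', hww',
    hw'w]
  rw [bf_symm hJ x w, bf_symm hJ x w']
  field_simp
  ring

theorem toolg2_sw_iso (x y : ι → F) :
    bf J (toolg2_sw J w w' *ᵥ x) (toolg2_sw J w w' *ᵥ y) = bf J x y := by
  have hw'w : bf J w' w = 1 := by rw [bf_symm hJ]; exact hww'
  simp only [toolg2_sw_mulVec, bf_add_right, bf_add_left, bf_smul_right, bf_smul_left, bf_sub_left,
    bf_sub_right, hw, hw', hww', hw'w]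
  rw [bf_symm hJ x w, bf_symm hJ x w']
  ring

end

/-- LG2 [M]. the torus elements `δ_{λ²}` lie in `Ω`: `δ_{λ²} = ⁅δ_λ, s⁆`, `s` = the swap `w ↔ w'`. -/
theorem torus_mem_Om {J : Matrix ι ι F} (hJ : Jᵀ = J) (two : (2 : F) ≠ 0)
    {w w' : ι → F} (hw : bf J w w = 0) (hw' : bf J w' w' = 0) (hww' : bf J w w' = 1) {l : F} (hl : l ≠ 0) :
    ∃ β ∈ Om J, (β : Matrix ι ι F) = 1 + (l ^ 2 - 1) • opm J w w' + ((l ^ 2)⁻¹ - 1) • opm J w' w := by
  have hli : l⁻¹ ≠ 0 := inv_ne_zero hl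
  let D : Matrix.GeneralLinearGroup ι F :=
    ⟨toolg2_del J w w' l, toolg2_del J w w' l⁻¹,
      by rw [toolg2_del_mul hJ hw hw' hww', mul_inv_cancel₀ hl, toolg2_del_one hJ hw hw' hww'],
      by rw [toolg2_del_mul hJ hw hw' hww', inv_mul_cancel₀ hl, toolg2_del_one hJ hw hw' hww']⟩
  let S : Matrix.GeneralLinearGroup ι F :=
    ⟨toolg2_sw J w w', toolg2_sw J w w', toolg2_sw_mul hJ hw hw' hww', toolg2_sw_mul hJ hw hw' hww'⟩
  have hD : D ∈ Iso J := by
    rw [mem_Iso_iff_bf]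
    intro x y
    exact toolg2_del_iso hJ hw hw' hww' l hl x y
  have hS : S ∈ Iso J := by
    rw [mem_Iso_iff_bf]
    intro x y
    exact toolg2_sw_iso hJ hw hw' hww' x y
  refine ⟨D * S * D⁻¹ * S⁻¹, toolg2_comm_mem_Om D S hD hS, ?_⟩
  have h1 : ((D * S * D⁻¹ * S⁻¹ : Matrix.GeneralLinearGroup ι F) : Matrix ι ι F) =
      toolg2_del J w w' l * (toolg2_sw J w w' * toolg2_del J w w' l⁻¹ * toolg2_sw J w w') := by
    show toolg2_del J w w' l * toolg2_sw J w w' * toolg2_del J w w' l⁻¹ * toolg2_sw J w w' = _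
    simp only [Matrix.mul_assoc]
  rw [h1, toolg2_sw_del_sw hJ hw hw' hww', inv_inv, toolg2_del_mul hJ hw hw' hww', ← pow_two]
  rfl

end Cfsg.Agent.Lib.Helper28.TOO
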