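import Cfsg.Agent.Lib.helper7.TO.Basic
import Cfsg.Agent.Lib.Helper28.SsA

/-!
# TO SYMP2: hyperbolic completion of a totally isotropic pair
-/

set_option autoImplicit false

namespace Cfsg.Agent.Lib.helper7.TO

open Matrix Cfsg.Agent.Lib.helper7.TP Cfsg.Agent.Lib.Helper28.SympAbs
open scoped Kronecker

variable {a b : ℕ} {F : Type*} [Field F]

/-- a vector outside `F y` has a "dual" killing `y`. -/
theorem tosymp2_dual {n : ℕ} {f : (Fin n → F) → (Fin n → F) → F}
    (hf : Cfsg.Geo.IsSymplecticForm f) (x y : Fin n → F) (hx : ∀ l : F, x ≠ l • y) :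
    ∃ t : Fin n → F, f x t = 1 ∧ f y t = 0 := by
  have hnot : x ∉ Submodule.span F {y} := by
    intro hmem
    rw [Submodule.mem_span_singleton] at hmem
    obtain ⟨l, hl⟩ := hmem
    exact hx l hl.symm
  obtain ⟨t, ht1, ht2⟩ := Cfsg.Agent.Lib.Helper28.Ss.dperp hf (Submodule.span F {y}) x hnot
  refine ⟨(f x t)⁻¹ • t, ?_, ?_⟩
  · rw [hf.bilinear.smul_right, inv_mul_cancel₀ ht2]
  · rw [hf.bilinear.smul_right, ht1 y (Submodule.mem_span_singleton_self y), mul_zero]

/-- SYMP2: hyperbolic completion of a totally isotropic pair. -/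
theorem exists_hyp_completion {n : ℕ} {f : (Fin n → F) → (Fin n → F) → F}
    (hf : Cfsg.Geo.IsSymplecticForm f) (w z : Fin n → F) (hw : w ≠ 0) (hz : ∀ l : F, z ≠ l • w)
    (hwz : f w z = 0) :
    ∃ w' z' : Fin n → F, f w w' = 1 ∧ f z z' = 1 ∧ f w z' = 0 ∧ f z w' = 0 ∧ f w' z' = 0 := by
  have hw' : ∀ l : F, w ≠ l • z := by
    intro l hl
    have hl0 : l ≠ 0 := by
      rintro rfl
      rw [zero_smul] at hl
      exact hw hl
    apply hz l⁻¹
    rw [hl, smul_smul, inv_mul_cancel₀ hl0, one_smul]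
  obtain ⟨w', hww', hzw'⟩ := tosymp2_dual hf w z hw'
  obtain ⟨z'', hzz'', hwz''⟩ := tosymp2_dual hf z w hz
  have hzw : f z w = 0 := by rw [hf.skew, hwz, neg_zero]
  refine ⟨w', z'' + f w' z'' • w, hww', ?_, ?_, hzw', ?_⟩
  · rw [hf.bilinear.add_right, hf.bilinear.smul_right, hzw, mul_zero, add_zero, hzz'']
  · rw [hf.bilinear.add_right, hf.bilinear.smul_right, hf.alternating, mul_zero, add_zero, hwz'']
  · rw [hf.bilinear.add_right, hf.bilinear.smul_right, hf.skew w' w, hww']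
    ring

end Cfsg.Agent.Lib.helper7.TO
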