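import Cfsg.Agent.Lib.helper7.TO.Basic
import Cfsg.Agent.Lib.Helper28.SsA

/-!
# TO SYMP3: `TT f` is transitive on the totally isotropic pairs
-/

set_option autoImplicit false

namespace Cfsg.Agent.Lib.helper7.TO

open Matrix Cfsg.Agent.Lib.helper7.TP Cfsg.Agent.Lib.Helper28.SympAbs
open scoped Kronecker

variable {a b : ℕ} {F : Type*} [Field F]

/-- a vector outside `F w` has a partner in `w^⊥`. -/
theorem tosymp3_dual {n : ℕ} {f : (Fin n → F) → (Fin n → F) → F}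
    (hf : Cfsg.Geo.IsSymplecticForm f) (x w : Fin n → F) (hx : ∀ l : F, x ≠ l • w) :
    ∃ t : Fin n → F, f x t ≠ 0 ∧ f w t = 0 := by
  have hnot : x ∉ Submodule.span F {w} := by
    intro hmem
    rw [Submodule.mem_span_singleton] at hmem
    obtain ⟨l, hl⟩ := hmem
    exact hx l hl.symm
  obtain ⟨t, ht1, ht2⟩ := Cfsg.Agent.Lib.Helper28.Ss.dperp hf (Submodule.span F {w}) x hnot
  exact ⟨t, ht2, ht1 w (Submodule.mem_span_singleton_self w)⟩

/-- moving `z` to `z'` inside `w^⊥`, fixing `w`. -/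
theorem tosymp3_fix {n : ℕ} {f : (Fin n → F) → (Fin n → F) → F}
    (hf : Cfsg.Geo.IsSymplecticForm f) (w z z' : Fin n → F)
    (hz : ∀ l : F, z ≠ l • w) (hwz : f w z = 0)
    (hz' : ∀ l : F, z' ≠ l • w) (hwz' : f w z' = 0) :
    ∃ β ∈ TT f, (β : Matrix (Fin n) (Fin n) F) *ᵥ w = w ∧
      (β : Matrix (Fin n) (Fin n) F) *ᵥ z = z' := by
  by_cases h : f z z' = 0
  · -- a vector `t ∈ w^⊥` with `f z t ≠ 0 ≠ f t z'`
    have hex : ∃ t : Fin n → F, f w t = 0 ∧ f z t ≠ 0 ∧ f t z' ≠ 0 := by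
      obtain ⟨t₁, ht₁, hwt₁⟩ := tosymp3_dual hf z w hz
      obtain ⟨t₂, ht₂, hwt₂⟩ := tosymp3_dual hf z' w hz'
      have ht₂' : f t₂ z' ≠ 0 := by rw [hf.skew]; exact neg_ne_zero.mpr ht₂
      by_cases h1 : f t₁ z' = 0
      · by_cases h2 : f z t₂ = 0
        · refine ⟨t₁ + t₂, ?_, ?_, ?_⟩
          · rw [hf.bilinear.add_right, hwt₁, hwt₂, add_zero]
          · rw [hf.bilinear.add_right, h2, add_zero]; exact ht₁
          · rw [hf.bilinear.add_left, h1, zero_add]; exact ht₂'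
        · exact ⟨t₂, hwt₂, h2, ht₂'⟩
      · exact ⟨t₁, hwt₁, ht₁, h1⟩
    obtain ⟨t, hwt, hzt, htz'⟩ := hex
    obtain ⟨A, hA, hAz, hAfix, -⟩ := step hf z t hzt
    obtain ⟨B, hB, hBt, hBfix, -⟩ := step hf t z' htz'
    refine ⟨B * A, Subgroup.mul_mem _ hB hA, ?_, ?_⟩
    · have e1 : (A : Matrix (Fin n) (Fin n) F) *ᵥ w = w := by
        apply hAfix
        rw [f_sub_right hf, hwt, hwz, sub_zero]
      have e2 : (B : Matrix (Fin n) (Fin n) F) *ᵥ w = w := by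
        apply hBfix
        rw [f_sub_right hf, hwt, hwz', sub_zero]
      rw [mul_mulVec, e1, e2]
    · rw [mul_mulVec, hAz, hBt]
  · obtain ⟨A, hA, hAz, hAfix, -⟩ := step hf z z' h
    refine ⟨A, hA, ?_, hAz⟩
    apply hAfix
    rw [f_sub_right hf, hwz, hwz', sub_zero]

/-- SYMP3: `TT f` (generated by the transvections) is transitive on the totally isotropic pairs. -/
theorem trans_ti_pair {n : ℕ} {f : (Fin n → F) → (Fin n → F) → F}
    (hf : Cfsg.Geo.IsSymplecticForm f) (w z w' z' : Fin n → F)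
    (hw : w ≠ 0) (hz : ∀ l : F, z ≠ l • w) (hwz : f w z = 0)
    (hw' : w' ≠ 0) (hz' : ∀ l : F, z' ≠ l • w') (hwz' : f w' z' = 0) :
    ∃ β ∈ TT f, (β : Matrix (Fin n) (Fin n) F) *ᵥ w = w' ∧
      (β : Matrix (Fin n) (Fin n) F) *ᵥ z = z' := by
  have hW : ∀ x ∈ (⊤ : Submodule F (Fin n → F)), x ≠ 0 → ∃ t ∈ (⊤ : Submodule F (Fin n → F)), f x t ≠ 0 := by
    intro x _ hx
    obtain ⟨t, ht⟩ := (hf.nondegenerate x hx).2
    exact ⟨t, Submodule.mem_top, ht⟩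
  obtain ⟨A, hA, hAw, -, -⟩ := trans_vec hf ⊤ hW w w' Submodule.mem_top Submodule.mem_top hw hw'
  set z₁ := (A : Matrix (Fin n) (Fin n) F) *ᵥ z with hz₁
  have hz₁' : ∀ l : F, z₁ ≠ l • w' := by
    intro l hl
    apply hz l
    have h1 : (A : Matrix (Fin n) (Fin n) F) *ᵥ z = (A : Matrix (Fin n) (Fin n) F) *ᵥ (l • w) := by
      rw [Matrix.mulVec_smul, hAw, ← hl]
    have h2 := congrArg (fun v => ((A⁻¹ : Matrix.GeneralLinearGroup (Fin n) F) :
      Matrix (Fin n) (Fin n) F) *ᵥ v) h1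
    simp only [Matrix.mulVec_mulVec, ← Units.val_mul, inv_mul_cancel, Units.val_one,
      Matrix.one_mulVec] at h2
    exact h2
  have hwz₁ : f w' z₁ = 0 := by
    rw [← hAw, hz₁, TT_apply hf A hA, hwz]
  obtain ⟨B, hB, hBw, hBz⟩ := tosymp3_fix hf w' z₁ z' hz₁' hwz₁ hz' hwz'
  refine ⟨B * A, Subgroup.mul_mem _ hB hA, ?_, ?_⟩
  · rw [mul_mulVec, hAw, hBw]
  · rw [mul_mulVec, ← hz₁, hBz]

end Cfsg.Agent.Lib.helper7.TO
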