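import Cfsg.Agent.Lib.helper6.TS4PAIR
import Cfsg.Agent.Lib.helper7.TP.MeetC

/-! # Project TS4, piece BURNTI: the stabiliser of `L_u` in `Γ` is `X_u` -/

set_option autoImplicit false
set_option linter.unusedSectionVars false
set_option linter.unusedVariables false

namespace Cfsg.Agent.Lib.Helper21.TS

open Matrix
open scoped Kronecker
open Cfsg.Agent.Lib.helper7.TP

variable {a b : ℕ} {F : Type*} [Field F]
variable {J1 : Matrix (Fin a) (Fin a) F} {J2 : Matrix (Fin b) (Fin b) F}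

/-! ## contraction on the `A` side -/

theorem ts4bti_ctrA_ten (φ x : Fin a → F) (y : Fin b → F) :
    ctrA φ (ten x y) = (φ ⬝ᵥ x) • y := by
  funext j
  simp only [ctrA, ten, dotProduct, Pi.smul_apply, smul_eq_mul, Finset.sum_mul]
  apply Finset.sum_congr rfl
  intro i _
  ring

theorem ts4bti_ctrA_sub (φ : Fin a → F) (v w : Fin a × Fin b → F) :
    ctrA φ (v - w) = ctrA φ v - ctrA φ w := by
  funext j
  simp only [ctrA, Pi.sub_apply, mul_sub, Finset.sum_sub_distrib]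

theorem ts4bti_ctrA_smul (φ : Fin a → F) (c : F) (v : Fin a × Fin b → F) :
    ctrA φ (c • v) = c • ctrA φ v := by
  funext j
  simp only [ctrA, Pi.smul_apply, smul_eq_mul, Finset.mul_sum]
  apply Finset.sum_congr rfl
  intro i _
  ring

theorem ts4bti_dual {n : ℕ} (w : Fin n → F) (hw : w ≠ 0) : ∃ ψ : Fin n → F, ψ ⬝ᵥ w = 1 := by
  classical
  obtain ⟨i, hi⟩ : ∃ i, w i ≠ 0 := by
    by_contra hcon
    push Not at hcon
    exact hw (funext hcon)
  refine ⟨Pi.single i (w i)⁻¹, ?_⟩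
  rw [single_dotProduct, inv_mul_cancel₀ hi]

theorem ts4bti_ten_eq_zero {u : Fin a → F} {y : Fin b → F} (h : ten u y = 0) (hu : u ≠ 0) :
    y = 0 := by
  obtain ⟨φ, hφ⟩ := ts4bti_dual u hu
  have := congrArg (ctrA φ) h
  rw [ts4bti_ctrA_ten, hφ, one_smul] at this
  rw [this]
  funext j
  simp [ctrA]

theorem ts4bti_ten_eq_zero' {u : Fin a → F} {y : Fin b → F} (h : ten u y = 0) (hy : y ≠ 0) :
    u = 0 := by
  obtain ⟨ψ, hψ⟩ := ts4bti_dual y hy
  have := congrArg (ctr ψ) h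
  rw [ctr_ten, hψ, one_smul] at this
  rw [this]
  funext j
  simp [ctr]

theorem ts4bti_mat_ext {X Y : Matrix (Fin a × Fin b) (Fin a × Fin b) F}
    (h : ∀ (u : Fin a → F) (w : Fin b → F), X *ᵥ ten u w = Y *ᵥ ten u w) : X = Y := by
  classical
  ext p r
  obtain ⟨i, j⟩ := r
  have hs : ten (Pi.single i (1 : F)) (Pi.single j (1 : F)) = Pi.single (i, j) (1 : F) := by
    funext q
    obtain ⟨i', j'⟩ := q
    simp only [ten, Pi.single_apply, Prod.mk.injEq]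
    by_cases hi : i' = i <;> by_cases hj : j' = j <;> simp [hi, hj]
  have := congrFun (h (Pi.single i 1) (Pi.single j 1)) p
  rw [hs, Matrix.mulVec_single_one, Matrix.mulVec_single_one] at this
  exact this

/-! ## vectors in `A` -/

/-- a hyperbolic partner `x'` of `u`, a vector `x₁ ⊥ u, x'` and a partner `x₂ ⊥ u` of `x₁`. -/
theorem ts4bti_vecs (C : Ctx J1 J2) (ha : 3 ≤ a) (u : Fin a → F) (hu : u ≠ 0) :
    ∃ x' x₁ x₂ : Fin a → F, bf J1 u x' = 1 ∧ bf J1 x₁ u = 0 ∧ bf J1 x₁ x' = 0 ∧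
      bf J1 x₂ u = 0 ∧ bf J1 x₂ x₁ = 1 := by
  obtain ⟨z', hz'⟩ := bf_nondeg C.det1 hu
  set x' : Fin a → F := (bf J1 u z')⁻¹ • z' with hx'
  have h1 : bf J1 u x' = 1 := by rw [hx', bf_smul_right, inv_mul_cancel₀ hz']
  obtain ⟨x₁, hx₁0, hx₁u, hx₁x'⟩ := tpmeet_exists_perp2 ha (J1 *ᵥ u) (J1 *ᵥ x')
  have h2 : bf J1 x₁ u = 0 := hx₁u
  have h3 : bf J1 x₁ x' = 0 := hx₁x'
  obtain ⟨z, hz⟩ := bf_nondeg' C.det1 hx₁0
  have hx'u : bf J1 x' u = -1 := by rw [bf_alt C.alt, h1]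
  have hx'x₁ : bf J1 x' x₁ = 0 := by rw [bf_alt C.alt, h3, neg_zero]
  refine ⟨x', x₁, (bf J1 z x₁)⁻¹ • (z + bf J1 z u • x'), h1, h2, h3, ?_, ?_⟩
  · rw [bf_smul_left, bf_add_left, bf_smul_left, hx'u]
    ring
  · rw [bf_smul_left, bf_add_left, bf_smul_left, hx'x₁, mul_zero, add_zero, inv_mul_cancel₀ hz]

/-- `(u^⊥)^⊥ = F u`. -/
theorem ts4bti_dperp (C : Ctx J1 J2) (u x' : Fin a → F) (hx' : bf J1 u x' = 1) (w : Fin a → F)
    (hw : ∀ x : Fin a → F, bf J1 x u = 0 → bf J1 w x = 0) : w = bf J1 w x' • u := by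
  set w' : Fin a → F := w - bf J1 w x' • u with hw'
  have huu : bf J1 u u = 0 := bf_self_alt C.alt C.two u
  have key : ∀ z : Fin a → F, bf J1 w' z = 0 := by
    intro z
    set z₀ : Fin a → F := z - bf J1 u z • x' with hz₀
    have hz₀u : bf J1 z₀ u = 0 := by
      rw [hz₀, bf_sub_left, bf_smul_left, bf_alt C.alt z u, bf_alt C.alt x' u, hx']
      ring
    have hz : z = z₀ + bf J1 u z • x' := by rw [hz₀]; abel
    have h1 : bf J1 w' z₀ = 0 := by
      rw [hw', bf_sub_left, hw z₀ hz₀u, bf_smul_left, bf_alt C.alt u z₀, hz₀u]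
      ring
    have h2 : bf J1 w' x' = 0 := by
      rw [hw', bf_sub_left, bf_smul_left, hx']
      ring
    rw [hz, bf_add_right, bf_smul_right, h1, h2]
    ring
  have hw0 : w' = 0 := by
    by_contra hne
    obtain ⟨z, hz⟩ := bf_nondeg C.det1 hne
    exact hz (key z)
  rw [hw'] at hw0
  exact sub_eq_zero.mp hw0

theorem ts4bti_ten_sub_left (x x' : Fin a → F) (y : Fin b → F) :
    ten (x - x') y = ten x y - ten x' y := by
  funext p
  simp only [ten, Pi.sub_apply]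
  ring

theorem ts4bti_ten_zero_right (x : Fin a → F) : ten x (0 : Fin b → F) = 0 := by
  funext p
  simp [ten]

/-- BURNTI. -/
theorem burnTI_of_genA (C : Ctx J1 J2) (ha : 3 ≤ a) (hb : 1 ≤ b)
    (g : Matrix.GeneralLinearGroup (Fin a × Fin b) F) (hgS : g ∈ SpV J1 J2)
    (u₀ : Fin a → F) (hu₀ : u₀ ≠ 0) (hG : GenA J1 J2 g u₀) (u : Fin a → F) (hu : u ≠ 0)
    (h : Matrix.GeneralLinearGroup (Fin a × Fin b) F) (hhK : h ∈ K0 a b F) (hhS : h ∈ SpV J1 J2)
    (hL : ∀ y : Fin b → F, ∃ y' : Fin b → F,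
      (h : Matrix (Fin a × Fin b) (Fin a × Fin b) F) *ᵥ ten u y = ten u y')
    (hfix : ∀ v : Fin a × Fin b → F, (∀ y' : Fin b → F, bf (JV J1 J2) v (ten u y') = 0) →
      (∀ y' : Fin b → F, bf (JV J1 J2) v
        ((g : Matrix (Fin a × Fin b) (Fin a × Fin b) F) *ᵥ ten u₀ y') = 0) →
      (h : Matrix (Fin a × Fin b) (Fin a × Fin b) F) *ᵥ v = v) :
    ∃ c : F, (h : Matrix (Fin a × Fin b) (Fin a × Fin b) F) =
      XAm J1 u (c • (1 : Matrix (Fin b) (Fin b) F)) := by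
  classical
  obtain ⟨α, β, hαβ⟩ := (mem_K0 h).mp hhK
  have hact : ∀ (x : Fin a → F) (y : Fin b → F),
      (h : Matrix (Fin a × Fin b) (Fin a × Fin b) F) *ᵥ ten x y =
        ten ((α : Matrix (Fin a) (Fin a) F) *ᵥ x) ((β : Matrix (Fin b) (Fin b) F) *ᵥ y) := by
    intro x y
    rw [hαβ, kron_mulVec_ten]
  obtain ⟨x', x₁, x₂, hux', hx₁u, hx₁x', hx₂u, hx₂x₁⟩ := ts4bti_vecs C ha u hu
  have huu : bf J1 u u = 0 := bf_self_alt C.alt C.two u
  obtain ⟨y₀, hy₀⟩ : ∃ y₀ : Fin b → F, y₀ ≠ 0 := by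
    refine ⟨Pi.single ⟨0, hb⟩ 1, fun h0 => ?_⟩
    have := congrFun h0 ⟨0, hb⟩
    simp at this
  obtain ⟨ψ₀, hψ₀⟩ := ts4bti_dual y₀ hy₀
  -- (*)
  have star : ∀ (x : Fin a → F) (y : Fin b → F), bf J1 x u = 0 → ∃ y₁ : Fin b → F,
      (h : Matrix (Fin a × Fin b) (Fin a × Fin b) F) *ᵥ (ten x y - ten u y₁) =
        ten x y - ten u y₁ ∧
      (∀ y' : Fin b → F, bf (JV J1 J2) (ten x y - ten u y₁)
        ((g : Matrix (Fin a × Fin b) (Fin a × Fin b) F) *ᵥ ten u₀ y') = 0) := by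
    intro x y hxu
    obtain ⟨⟨y₁, hy₁⟩, -⟩ := pair_of_genA C g hgS u₀ hu₀ hG u hu (ten x y)
    refine ⟨y₁, hfix _ ?_ hy₁, hy₁⟩
    intro y'
    rw [bf_sub_left, bf_JV_ten, bf_JV_ten, hxu, huu]
    ring
  -- `α u = d u`
  have hβinj : ∀ y : Fin b → F, (β : Matrix (Fin b) (Fin b) F) *ᵥ y = 0 → y = 0 := by
    intro y hy
    have : ((β⁻¹ : Matrix.GeneralLinearGroup (Fin b) F) : Matrix (Fin b) (Fin b) F) *ᵥ
        ((β : Matrix (Fin b) (Fin b) F) *ᵥ y) = y := by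
      rw [Matrix.mulVec_mulVec, ← Units.val_mul, inv_mul_cancel, Units.val_one, Matrix.one_mulVec]
    rw [← this, hy, Matrix.mulVec_zero]
  obtain ⟨d, hd⟩ : ∃ d : F, (α : Matrix (Fin a) (Fin a) F) *ᵥ u = d • u := by
    obtain ⟨y', hy'⟩ := hL y₀
    rw [hact] at hy'
    have hβy : (β : Matrix (Fin b) (Fin b) F) *ᵥ y₀ ≠ 0 := fun h0 => hy₀ (hβinj y₀ h0)
    obtain ⟨ψ, hψ⟩ := ts4bti_dual _ hβy
    have := congrArg (ctr ψ) hy'
    rw [ctr_ten, ctr_ten, hψ, one_smul] at this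
    exact ⟨ψ ⬝ᵥ y', this⟩
  -- `β` is scalar
  set φ : Fin a → F := x₂ ᵥ* J1 with hφ
  have hφbf : ∀ x : Fin a → F, φ ⬝ᵥ x = bf J1 x₂ x := by
    intro x
    rw [hφ, bf, Matrix.dotProduct_mulVec]
  set k : F := φ ⬝ᵥ ((α : Matrix (Fin a) (Fin a) F) *ᵥ x₁) with hk
  have hkβ : ∀ y : Fin b → F, k • ((β : Matrix (Fin b) (Fin b) F) *ᵥ y) = y := by
    intro y
    obtain ⟨y₁, hy₁, -⟩ := star x₁ y hx₁u
    rw [Matrix.mulVec_sub, hact, hact, hd, ten_smul_left] at hy₁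
    have := congrArg (ctrA φ) hy₁
    rw [ts4bti_ctrA_sub, ts4bti_ctrA_sub, ts4bti_ctrA_smul, ts4bti_ctrA_ten, ts4bti_ctrA_ten,
      ts4bti_ctrA_ten, ts4bti_ctrA_ten, hφbf u, hφbf x₁, hx₂u, hx₂x₁, zero_smul, smul_zero, sub_zero,
      one_smul, zero_smul, sub_zero] at this
    exact this
  have hk0 : k ≠ 0 := by
    intro h0
    have := hkβ y₀
    rw [h0, zero_smul] at this
    exact hy₀ this.symm
  have hβ : ∀ y : Fin b → F, (β : Matrix (Fin b) (Fin b) F) *ᵥ y = k⁻¹ • y := by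
    intro y
    have := congrArg (fun z => k⁻¹ • z) (hkβ y)
    simp only [smul_smul, inv_mul_cancel₀ hk0, one_smul] at this
    exact this
  set α' : Matrix (Fin a) (Fin a) F := k⁻¹ • (α : Matrix (Fin a) (Fin a) F) with hα'
  have hact' : ∀ (x : Fin a → F) (y : Fin b → F),
      (h : Matrix (Fin a × Fin b) (Fin a × Fin b) F) *ᵥ ten x y = ten (α' *ᵥ x) y := by
    intro x y
    rw [hact, hβ, ten_smul_right, ← ten_smul_left, hα', Matrix.smul_mulVec]
  set d' : F := k⁻¹ * d with hd'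
  have hα'u : α' *ᵥ u = d' • u := by
    rw [hα', Matrix.smul_mulVec, hd, smul_smul]
  have star' : ∀ (x : Fin a → F) (y : Fin b → F), bf J1 x u = 0 → ∃ y₁ : Fin b → F,
      ten (α' *ᵥ x - x) y = (d' - 1) • ten u y₁ ∧
      (∀ y' : Fin b → F, bf (JV J1 J2) (ten x y - ten u y₁)
        ((g : Matrix (Fin a × Fin b) (Fin a × Fin b) F) *ᵥ ten u₀ y') = 0) := by
    intro x y hxu
    obtain ⟨y₁, hy₁, hy₁'⟩ := star x y hxu
    refine ⟨y₁, ?_, hy₁'⟩
    rw [Matrix.mulVec_sub, hact', hact', hα'u, ten_smul_left] at hy₁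
    rw [ts4bti_ten_sub_left, sub_smul, one_smul]
    have e : ten (α' *ᵥ x) y = ten x y - ten u y₁ + d' • ten u y₁ := by
      rw [← hy₁]; abel
    rw [e]
    abel
  by_cases hd1 : d' = 1
  · -- `α'` is the identity on `u^⊥`
    have hfixA : ∀ x : Fin a → F, bf J1 x u = 0 → α' *ᵥ x = x := by
      intro x hxu
      obtain ⟨y₁, hy₁, -⟩ := star' x y₀ hxu
      rw [hd1, sub_self, zero_smul] at hy₁
      exact sub_eq_zero.mp (ts4bti_ten_eq_zero' hy₁ hy₀)
    -- `α'` is an isometry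
    obtain ⟨y₃, hy₃⟩ := bf_nondeg C.det2 hy₀
    have hiso : ∀ x z : Fin a → F, bf J1 (α' *ᵥ x) (α' *ᵥ z) = bf J1 x z := by
      intro x z
      have := ((mem_Iso_iff_bf (JV J1 J2) h).mp hhS) (ten x y₀) (ten z y₃)
      rw [hact', hact', bf_JV_ten, bf_JV_ten] at this
      exact mul_right_cancel₀ hy₃ this
    have hdiff : ∀ v : Fin a → F, α' *ᵥ v - v = bf J1 (α' *ᵥ v - v) x' • u := by
      intro v
      apply ts4bti_dperp C u x' hux'
      intro x hxu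
      rw [bf_sub_left]
      conv_lhs => rw [← hfixA x hxu]
      rw [hiso, hfixA x hxu, sub_self]
    set c : F := bf J1 (α' *ᵥ x' - x') x' with hc
    have hα'v : ∀ v : Fin a → F, α' *ᵥ v = tvm J1 u c *ᵥ v := by
      intro v
      set v₀ : Fin a → F := v - bf J1 u v • x' with hv₀
      have hv₀u : bf J1 v₀ u = 0 := by
        rw [hv₀, bf_sub_left, bf_smul_left, bf_alt C.alt v u, bf_alt C.alt x' u, hux']
        ring
      have hv : v = v₀ + bf J1 u v • x' := by rw [hv₀]; abel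
      have h1 : α' *ᵥ v = v₀ + bf J1 u v • (α' *ᵥ x') := by
        conv_lhs => rw [hv]
        rw [Matrix.mulVec_add, Matrix.mulVec_smul, hfixA v₀ hv₀u]
      have h2 : α' *ᵥ x' = x' + c • u := by
        have := hdiff x'
        rw [← hc] at this
        rw [← this]; abel
      rw [h1, h2, tvm_mulVec, smul_add, smul_smul, ← add_assoc, ← hv, mul_comm]
    refine ⟨c, ?_⟩
    apply ts4bti_mat_ext
    intro x y
    rw [hact', hα'v, XAm_scalar, kron_mulVec_ten, Matrix.one_mulVec]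
  · exfalso
    have hd1' : d' - 1 ≠ 0 := sub_ne_zero.mpr hd1
    obtain ⟨y₁, hy₁, -⟩ := star' x₁ y₀ hx₁u
    have hx₁e : α' *ᵥ x₁ - x₁ = ((d' - 1) * (ψ₀ ⬝ᵥ y₁)) • u := by
      have := congrArg (ctr ψ₀) hy₁
      rw [ctr_smul, ctr_ten, ctr_ten, hψ₀, one_smul, smul_smul] at this
      exact this
    set e : F := (d' - 1) * (ψ₀ ⬝ᵥ y₁) with he
    set u'' : Fin a → F := x₁ - (e / (d' - 1)) • u with hu''
    have hu''u : bf J1 u'' u = 0 := by
      rw [hu'', bf_sub_left, bf_smul_left, hx₁u, huu]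
      ring
    have hu''0 : u'' ≠ 0 := by
      intro h0
      have : bf J1 x₂ u'' = 1 := by
        rw [hu'', bf_sub_right, bf_smul_right, hx₂x₁, hx₂u]
        ring
      rw [h0, bf_zero_right] at this
      exact zero_ne_one this
    have hαu'' : α' *ᵥ u'' = u'' := by
      have h1 : α' *ᵥ x₁ = x₁ + e • u := by rw [← hx₁e]; abel
      rw [hu'', Matrix.mulVec_sub, Matrix.mulVec_smul, h1, hα'u, smul_smul]
      have : e - e / (d' - 1) * d' = -(e / (d' - 1)) := by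
        field_simp
        ring
      calc x₁ + e • u - (e / (d' - 1) * d') • u = x₁ + (e - e / (d' - 1) * d') • u := by
            rw [sub_smul]; abel
        _ = x₁ - (e / (d' - 1)) • u := by rw [this, neg_smul]; abel
    have hperp : ∀ y y' : Fin b → F, bf (JV J1 J2) (ten u'' y)
        ((g : Matrix (Fin a × Fin b) (Fin a × Fin b) F) *ᵥ ten u₀ y') = 0 := by
      intro y y'
      obtain ⟨y₂, hy₂, hy₂'⟩ := star' u'' y hu''u
      rw [hαu'', sub_self, tpmeet_ten_zero] at hy₂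
      have h0 : ten u y₂ = 0 := by
        rcases smul_eq_zero.mp hy₂.symm with h | h
        · exact absurd h hd1'
        · exact h
      have hy₂0 : y₂ = 0 := ts4bti_ten_eq_zero h0 hu
      have := hy₂' y'
      rw [hy₂0, ts4bti_ten_zero_right, sub_zero] at this
      exact this
    apply hy₀
    apply hG u'' hu''0 y₀
    intro y
    rw [ts4pair_bf_anti C, hperp, neg_zero]

end Cfsg.Agent.Lib.Helper21.TS
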