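import Cfsg.Agent.Lib.Helper29.TS4C1AA
import Cfsg.Agent.Lib.Lead.TS2SQZ
import Cfsg.Agent.Lib.helper7.TP.MeetA

/-! # Project TS4, piece C1A (glue core):
`c1A_of_ntsA` from `sqz_kron` (lead), the `A`-type half (helper29) and the `B`-type contradiction
taken as a hypothesis.  (The UFP core is `Helper16.TS4UFPcore.ts4ufp_core`.) -/

set_option autoImplicit false
set_option linter.unusedSectionVars false
set_option linter.unusedVariables false

namespace Cfsg.Agent.Lib.Helper21.TS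

open Matrix
open scoped Kronecker
open Cfsg.Agent.Lib.helper7.TP

variable {a b : ℕ} {F : Type*} [Field F]
variable {J1 : Matrix (Fin a) (Fin a) F} {J2 : Matrix (Fin b) (Fin b) F}

/-- C1A with the `B`-type contradiction as a hypothesis. -/
theorem ts4c1a_core6 (C : Ctx J1 J2) (ha : 3 ≤ a) (hb : 3 ≤ b)
    (m : Matrix.GeneralLinearGroup (Fin a × Fin b) F) (u : Fin a → F) (c : F)
    (hu : u ≠ 0) (hc : c ≠ 0) (ht : m * xA C u c * m⁻¹ ∈ K0 a b F)
    (hB : ∀ N : Matrix (Fin b) (Fin b) F, N * N = 0 →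
      ((m * xA C u c * m⁻¹ : Matrix.GeneralLinearGroup (Fin a × Fin b) F) :
        Matrix (Fin a × Fin b) (Fin a × Fin b) F) =
        (1 : Matrix (Fin a) (Fin a) F) ⊗ₖ (1 + N) → False) :
    ∃ u' : Fin a → F, u' ≠ 0 ∧ ∀ y : Fin b → F, ∃ y' : Fin b → F,
      (m : Matrix (Fin a × Fin b) (Fin a × Fin b) F) *ᵥ ten u y = ten u' y' := by
  have huu : bf J1 u u = 0 := bf_self_alt C.alt C.two u
  have hx : ((xA C u c : Matrix.GeneralLinearGroup (Fin a × Fin b) F) :
      Matrix (Fin a × Fin b) (Fin a × Fin b) F) - 1 =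
      opm J1 u u ⊗ₖ (c • (1 : Matrix (Fin b) (Fin b) F)) := by
    rw [xA_coe, XAm, add_sub_cancel_left]
  have hxsq : (((xA C u c : Matrix.GeneralLinearGroup (Fin a × Fin b) F) :
      Matrix (Fin a × Fin b) (Fin a × Fin b) F) - 1) *
      (((xA C u c : Matrix.GeneralLinearGroup (Fin a × Fin b) F) :
      Matrix (Fin a × Fin b) (Fin a × Fin b) F) - 1) = 0 := by
    rw [hx, ← Matrix.mul_kronecker_mul, opm_mul_opm, huu, zero_smul, Matrix.zero_kronecker]
  have hsq := tpmeet_conj_sq_zero m (xA C u c) hxsq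
  rcases sqz_kron C.two (by omega) (by omega) _ ht hsq with ⟨N, -, hN⟩ | ⟨N, hNN, hN⟩
  · exact ts4c1aa_typeA C (by omega) m u c hu hc N hN
  · exact absurd (hB N hNN hN) id

end Cfsg.Agent.Lib.Helper21.TS
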