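import Cfsg.Agent.Lib.helper6.TS4.Defs

/-! # Project TS4, piece PAIR: for generic `S = g L_{u₀}` the pairing `L_u × S → F` is perfect -/

set_option autoImplicit false
set_option linter.unusedSectionVars false
set_option linter.unusedVariables false

namespace Cfsg.Agent.Lib.Helper21.TS

open Matrix
open scoped Kronecker
open Cfsg.Agent.Lib.helper7.TP

variable {a b : ℕ} {F : Type*} [Field F]
variable {J1 : Matrix (Fin a) (Fin a) F} {J2 : Matrix (Fin b) (Fin b) F}

theorem ts4pair_ten_expand (u : Fin a → F) (y : Fin b → F) :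
    ten u y = ∑ k, y k • ten u (Pi.single k 1) := by
  classical
  funext p
  rw [Finset.sum_apply, Finset.sum_eq_single p.2]
  · simp [ten, mul_comm]
  · intro k _ hk
    simp [ten, Ne.symm hk]
  · intro h
    exact absurd (Finset.mem_univ _) h

theorem ts4pair_mulVec_expand (A : Matrix (Fin a × Fin b) (Fin a × Fin b) F) (u : Fin a → F)
    (y : Fin b → F) : A *ᵥ ten u y = ∑ k, y k • (A *ᵥ ten u (Pi.single k 1)) := by
  classical
  conv_lhs => rw [ts4pair_ten_expand u y]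
  rw [Matrix.mulVec_sum]
  apply Finset.sum_congr rfl
  intro k _
  rw [Matrix.mulVec_smul]

theorem ts4pair_bf_right (J : Matrix (Fin a × Fin b) (Fin a × Fin b) F) (v : Fin a × Fin b → F)
    (A : Matrix (Fin a × Fin b) (Fin a × Fin b) F) (u : Fin a → F) (y : Fin b → F) :
    bf J v (A *ᵥ ten u y) = (fun k => bf J v (A *ᵥ ten u (Pi.single k 1))) ⬝ᵥ y := by
  classical
  rw [ts4pair_mulVec_expand, bf_sum_right]
  simp only [dotProduct, bf_smul_right]
  apply Finset.sum_congr rfl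
  intro k _
  ring

theorem ts4pair_bf_left (J : Matrix (Fin a × Fin b) (Fin a × Fin b) F) (v : Fin a × Fin b → F)
    (A : Matrix (Fin a × Fin b) (Fin a × Fin b) F) (u : Fin a → F) (y : Fin b → F) :
    bf J (A *ᵥ ten u y) v = y ⬝ᵥ (fun k => bf J (A *ᵥ ten u (Pi.single k 1)) v) := by
  classical
  rw [ts4pair_mulVec_expand, bf_sum_left]
  simp only [dotProduct, bf_smul_left]

theorem ts4pair_bf_anti (C : Ctx J1 J2) (v w : Fin a × Fin b → F) :
    bf (JV J1 J2) v w = -bf (JV J1 J2) w v :=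
  bf_alt (JV_transpose C.alt C.sym) v w

/-- PAIR. -/
theorem pair_of_genA (C : Ctx J1 J2) (g : Matrix.GeneralLinearGroup (Fin a × Fin b) F)
    (hgS : g ∈ SpV J1 J2) (u₀ : Fin a → F) (hu₀ : u₀ ≠ 0) (hG : GenA J1 J2 g u₀)
    (u : Fin a → F) (hu : u ≠ 0) (v : Fin a × Fin b → F) :
    (∃ y₁ : Fin b → F, ∀ y' : Fin b → F, bf (JV J1 J2) (v - ten u y₁)
      ((g : Matrix (Fin a × Fin b) (Fin a × Fin b) F) *ᵥ ten u₀ y') = 0) ∧
    (∃ y₂ : Fin b → F, ∀ y' : Fin b → F, bf (JV J1 J2)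
      (v - (g : Matrix (Fin a × Fin b) (Fin a × Fin b) F) *ᵥ ten u₀ y₂) (ten u y') = 0) := by
  classical
  set P : Matrix (Fin b) (Fin b) F := fun j k => bf (JV J1 J2)
    ((g : Matrix (Fin a × Fin b) (Fin a × Fin b) F) *ᵥ ten u₀ (Pi.single j 1))
    (ten u (Pi.single k 1)) with hP
  have key : ∀ y₂ y' : Fin b → F, bf (JV J1 J2)
      ((g : Matrix (Fin a × Fin b) (Fin a × Fin b) F) *ᵥ ten u₀ y₂) (ten u y') = y₂ ⬝ᵥ P *ᵥ y' := by
    intro y₂ y'
    rw [ts4pair_bf_left]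
    congr 1
    funext j
    have h1 := ts4pair_bf_right (JV J1 J2)
      ((g : Matrix (Fin a × Fin b) (Fin a × Fin b) F) *ᵥ ten u₀ (Pi.single j 1)) 1 u y'
    simp only [Matrix.one_mulVec] at h1
    rw [h1]
    rfl
  have hinj : Function.Injective P.vecMul := by
    intro y y' hyy
    have hyy' : y ᵥ* P = y' ᵥ* P := hyy
    have h0 : (y - y') ᵥ* P = 0 := by rw [Matrix.sub_vecMul, hyy', sub_self]
    have h1 : y - y' = 0 := by
      apply hG u hu
      intro y''
      rw [key, Matrix.dotProduct_mulVec, h0, zero_dotProduct]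
    exact sub_eq_zero.mp h1
  have hunit : IsUnit P := Matrix.vecMul_injective_iff_isUnit.mp hinj
  constructor
  · set c' : Fin b → F := fun k => bf (JV J1 J2) v
      ((g : Matrix (Fin a × Fin b) (Fin a × Fin b) F) *ᵥ ten u₀ (Pi.single k 1)) with hc'
    obtain ⟨y₁, hy₁'⟩ := (Matrix.mulVec_surjective_iff_isUnit.mpr hunit) (-c')
    have hy₁ : P *ᵥ y₁ = -c' := hy₁'
    refine ⟨y₁, fun y' => ?_⟩
    rw [bf_sub_left, ts4pair_bf_anti C (ten u y₁), key, hy₁, sub_neg_eq_add, ts4pair_bf_right,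
      dotProduct_neg, dotProduct_comm]
    ring
  · set c : Fin b → F := fun k => bf (JV J1 J2) v (ten u (Pi.single k 1)) with hc
    obtain ⟨y₂, hy₂'⟩ := (Matrix.vecMul_surjective_iff_isUnit.mpr hunit) c
    have hy₂ : y₂ ᵥ* P = c := hy₂'
    refine ⟨y₂, fun y' => ?_⟩
    have h1 := ts4pair_bf_right (JV J1 J2) v 1 u y'
    simp only [Matrix.one_mulVec] at h1
    rw [bf_sub_left, key, Matrix.dotProduct_mulVec, hy₂, h1, sub_self]

end Cfsg.Agent.Lib.Helper21.TS
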