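import Mathlib
import Cfsg.Prelude.Def_ChevStructure
import Cfsg.Agent.Lib.helper6.TWIE6.Defs
import Cfsg.Agent.Lib.helper14.INVGT4

/-!
# Project TWIE6 (S2182), piece GTT: the twisted form of `gt_struct` / `gt_table` of project INV

A word `w` with the property `JPropT` permutes the fundamental roots of `J = PermJ w` (the union of the orbits permuted by `w`)
and makes the other fundamental roots negative; hence its inversion set is the set of the positive roots outside `Φ_J`, and it acts on
the roots as the word `w₀ w_J` of a table.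
-/

set_option autoImplicit false

namespace Cfsg.Agent.Lib.helper6.TWIE6

open Cfsg.Lie Cfsg.Lie.ChevalleyDatum Cfsg.Agent.Lib.helper8 Cfsg.Agent.Lib.helper14
  Cfsg.Agent.Lib.helper14.INV Cfsg.Agent.Lib.helper14.TWI

/-- `w` maps the fundamental roots of `PermJ w` to fundamental roots of `PermJ w` -/
theorem twie6gtt_simple (D : ChevalleyDatum) (orbs : List (List ℕ))
    (hval : ∀ O ∈ orbs, ∀ j ∈ O, j < D.rank) (w : List ℕ) (i : ℕ)
    (hi : i ∈ PermJ D orbs w) :
    ∃ k ∈ PermJ D orbs w, h8sW D w (D.simple i) = D.simple k := by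
  obtain ⟨hir, O, hO, hiO, hp⟩ := hi
  obtain ⟨k, hk, e⟩ := hp i hiO
  exact ⟨k, ⟨hval O hO k hk, O, hO, hk, hp⟩, e⟩

/-- the coordinates of the image of a root of `Φ_J` -/
theorem twie6gtt_term (D : ChevalleyDatum) (h : gtChk D = true) (orbs : List (List ℕ))
    (hval : ∀ O ∈ orbs, ∀ j ∈ O, j < D.rank) (w : List ℕ) (r : ℕ)
    (hr : D.InRootSub (PermJ D orbs w) r) (m k : ℕ) (hm : m < D.rank) (hk : k < D.rank) :
    (k ∉ PermJ D orbs w → cf D r m * cf D (h8sW D w (D.simple m)) k = 0) ∧
    (D.IsPosRoot r → 0 ≤ cf D r m * cf D (h8sW D w (D.simple m)) k) := by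
  by_cases hmJ : m ∈ PermJ D orbs w
  · obtain ⟨m', hm', e⟩ := twie6gtt_simple D orbs hval w m hmJ
    rw [e, gtChk_simple D h m' k hm'.1 hk]
    constructor
    · intro hkJ
      rw [if_neg (fun e' : k = m' => hkJ (e' ▸ hm')), mul_zero]
    · intro hp
      have := gt_pos_cf D r hp m
      split_ifs
      · simpa using this
      · simp
  · have : cf D r m = 0 := hr.2 m hm hmJ
    rw [this, zero_mul]
    exact ⟨fun _ => rfl, fun _ => le_refl _⟩

/-- GTT (1) : `w` maps `Φ_J`, `J = PermJ w`, into itself -/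
theorem gtt_sub (D : ChevalleyDatum) (hA : H8ReflAll D) (h : gtChk D = true) (orbs : List (List ℕ))
    (hval : ∀ O ∈ orbs, ∀ j ∈ O, j < D.rank)
    (w : List ℕ) (hw : ValidW D w) (r : ℕ) (hr : D.InRootSub (PermJ D orbs w) r) :
    D.InRootSub (PermJ D orbs w) (h8sW D w r) := by
  refine ⟨h8sW_lt D hA w hw r hr.1, fun k hk hkJ => ?_⟩
  show cf D (h8sW D w r) k = 0
  rw [gt_lin D hA h w hw r hr.1 k hk]
  apply Finset.sum_eq_zero
  intro m hm
  exact (twie6gtt_term D h orbs hval w r hr m k (Finset.mem_range.mp hm) hk).1 hkJ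

/-- GTT (2) : `w` maps the positive roots of `Φ_J`, `J = PermJ w`, to positive roots -/
theorem gtt_pos (D : ChevalleyDatum) (hA : H8ReflAll D) (h : gtChk D = true) (orbs : List (List ℕ))
    (hval : ∀ O ∈ orbs, ∀ j ∈ O, j < D.rank)
    (w : List ℕ) (hw : ValidW D w) (r : ℕ) (hr : D.InRootSub (PermJ D orbs w) r)
    (hp : D.IsPosRoot r) : D.IsPosRoot (h8sW D w r) := by
  have hlt := h8sW_lt D hA w hw r hr.1
  refine ⟨hlt, fun c hc => ?_⟩
  rw [Array.mem_toList_iff, Array.mem_iff_getElem] at hc
  obtain ⟨k, hk, rfl⟩ := hc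
  have hk' : k < D.rank := by rw [← gtChk_size D h _ hlt]; exact hk
  have e : (D.coroot.getD (h8sW D w r) #[])[k] = cf D (h8sW D w r) k := by
    unfold cf
    generalize D.coroot.getD (h8sW D w r) #[] = a at hk ⊢
    rw [Array.getD_eq_getD_getElem?, Array.getElem?_eq_getElem hk]
    rfl
  rw [e, gt_lin D hA h w hw r hr.1 k hk']
  apply Finset.sum_nonneg
  intro m hm
  exact (twie6gtt_term D h orbs hval w r hr m k (Finset.mem_range.mp hm) hk').2 hp

/-- GTT (3) : the twisted form of `gt_struct`: a positive root mapped to a positive root by a word `w` with `JPropT` lies in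
`Φ_J`, `J = PermJ w` -/
theorem gtt_struct (D : ChevalleyDatum) (hB : H8Base.{0} D) (hA : H8ReflAll D) (h : gtChk D = true)
    (orbs : List (List ℕ)) (hval : ∀ O ∈ orbs, ∀ j ∈ O, j < D.rank)
    (hcov : ∀ i < D.rank, ∃ O ∈ orbs, i ∈ O)
    (w : List ℕ) (hw : ValidW D w) (hJ : JPropT D orbs w) (r : ℕ) (hp : D.IsPosRoot r)
    (hp' : D.IsPosRoot (h8sW D w r)) : D.InRootSub (PermJ D orbs w) r := by
  classical
  refine ⟨hp.1, ?_⟩
  by_contra hcon
  push_neg at hcon
  obtain ⟨k₀, hk₀, hk₀J, hk₀c⟩ := hcon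
  set J := PermJ D orbs w with hJdef
  set K := (Finset.range D.rank).filter (fun k => k ∉ J) with hK
  have hrc : ∀ m, 0 ≤ cf D r m := gt_pos_cf D r hp
  have hk₀1 : 1 ≤ cf D r k₀ := by
    have := hrc k₀
    have hne : cf D r k₀ ≠ 0 := hk₀c
    omega
  -- the sum of the coordinates outside `J` of the image
  have hT : ∑ k ∈ K, cf D (h8sW D w r) k =
      ∑ m ∈ Finset.range D.rank, cf D r m * ∑ k ∈ K, cf D (h8sW D w (D.simple m)) k := by
    have e1 : ∀ k ∈ K, cf D (h8sW D w r) k =
        ∑ m ∈ Finset.range D.rank, cf D r m * cf D (h8sW D w (D.simple m)) k := by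
      intro k hk
      rw [hK, Finset.mem_filter, Finset.mem_range] at hk
      exact gt_lin D hA h w hw r hp.1 k hk.1
    rw [Finset.sum_congr rfl e1, Finset.sum_comm]
    apply Finset.sum_congr rfl
    intro m _
    rw [Finset.mul_sum]
  have hT0 : 0 ≤ ∑ k ∈ K, cf D (h8sW D w r) k :=
    Finset.sum_nonneg (fun k _ => gt_pos_cf D _ hp' k)
  -- the terms
  have hS : ∀ m ∈ Finset.range D.rank,
      cf D r m * ∑ k ∈ K, cf D (h8sW D w (D.simple m)) k ≤ if m ∈ J then 0 else - cf D r m := by
    intro m hm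
    have hm' := Finset.mem_range.mp hm
    by_cases hmJ : m ∈ J
    · rw [if_pos hmJ]
      obtain ⟨m', hm'J, e⟩ := twie6gtt_simple D orbs hval w m hmJ
      have : ∑ k ∈ K, cf D (h8sW D w (D.simple m)) k = 0 := by
        apply Finset.sum_eq_zero
        intro k hk
        rw [hK, Finset.mem_filter, Finset.mem_range] at hk
        rw [e, gtChk_simple D h m' k hm'J.1 hk.1, if_neg]
        rintro rfl
        exact hk.2 hm'J
      rw [this, mul_zero]
    · rw [if_neg hmJ]
      have hmlt := gtChk_simple_lt D h m hm'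
      have himlt := h8sW_lt D hA w hw _ hmlt
      have hnp : ¬ D.IsPosRoot (h8sW D w (D.simple m)) := by
        obtain ⟨O, hO, hmO⟩ := hcov m hm'
        rcases hJ.2 O hO with h1 | h1
        · exact absurd ⟨hm', O, hO, hmO, h1⟩ hmJ
        · exact h1 m hmO
      have hneg : D.IsNegRoot (h8sW D w (D.simple m)) := by
        rcases hB.posneg _ himlt with h1 | h1
        · exact absurd h1 hnp
        · exact h1
      have hle : ∀ k, cf D (h8sW D w (D.simple m)) k ≤ 0 := gt_neg_cf D _ hneg
      have hS1 : ∑ k ∈ K, cf D (h8sW D w (D.simple m)) k ≤ -1 := by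
        by_contra hcon
        push_neg at hcon
        have hsum0 : ∑ k ∈ K, cf D (h8sW D w (D.simple m)) k = 0 := by
          have : ∑ k ∈ K, cf D (h8sW D w (D.simple m)) k ≤ 0 :=
            Finset.sum_nonpos (fun k _ => hle k)
          omega
        have hall : ∀ k ∈ K, cf D (h8sW D w (D.simple m)) k = 0 := by
          intro k hk
          by_contra hne
          have hlt : cf D (h8sW D w (D.simple m)) k < 0 := lt_of_le_of_ne (hle k) hne
          have : ∑ k ∈ K, cf D (h8sW D w (D.simple m)) k < 0 :=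
            Finset.sum_neg' (fun k _ => hle k) ⟨k, hk, hlt⟩
          omega
        have hin : D.InRootSub J (h8sW D w (D.simple m)) := by
          refine ⟨himlt, fun i hi hiJ => hall i ?_⟩
          rw [hK, Finset.mem_filter, Finset.mem_range]
          exact ⟨hi, hiJ⟩
        have hin2 := gtt_sub D hA h orbs hval w hw _ hin
        rw [hJ.1 _ hmlt] at hin2
        have h0 : cf D (D.simple m) m = 0 := hin2.2 m hm' hmJ
        rw [gtChk_simple D h m m hm' hm', if_pos rfl] at h0
        exact one_ne_zero h0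
      have := hrc m
      nlinarith
  have hfin : ∑ m ∈ Finset.range D.rank, (if m ∈ J then (0 : ℤ) else - cf D r m) ≤ -1 := by
    have hterm : ∀ m ∈ Finset.range D.rank, (if m ∈ J then (0 : ℤ) else - cf D r m) ≤ 0 := by
      intro m _
      split_ifs
      · exact le_refl _
      · have := hrc m; omega
    have h1 : ∑ m ∈ Finset.range D.rank, (if m ∈ J then (0 : ℤ) else - cf D r m) ≤
        (if k₀ ∈ J then (0 : ℤ) else - cf D r k₀) := by
      have := Finset.sum_le_sum_of_subset_of_nonneg (s := {k₀}) (t := Finset.range D.rank)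
        (f := fun m => - (if m ∈ J then (0 : ℤ) else - cf D r m))
        (by intro x hx; rw [Finset.mem_singleton] at hx; rw [hx]; exact Finset.mem_range.mpr hk₀)
        (by intro m hm _; have := hterm m hm; omega)
      rw [Finset.sum_singleton, Finset.sum_neg_distrib] at this
      omega
    rw [if_neg hk₀J] at h1
    omega
  have := Finset.sum_le_sum hS
  rw [← hT] at this
  omega

/-- GTT (4) : the twisted form of `gt_table`: a word `w` with `JPropT` acts on the roots as the word of the entry of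
`J = PermJ w` of a table of the words `w₀ w_J` -/
theorem gtt_table (D : ChevalleyDatum) (hB : H8Base.{0} D) (hA : H8ReflAll D) (hBN : H8BN D)
    (hW : H8BN2 D) (hO2 : H8Ord2 D) (h : gtChk D = true) (orbs : List (List ℕ))
    (hval : ∀ O ∈ orbs, ∀ j ∈ O, j < D.rank)
    (hcov : ∀ i < D.rank, ∃ O ∈ orbs, i ∈ O) (T : List (List ℕ × List ℕ))
    (hT : gtTabChk D T = true) (w : List ℕ) (hw : ValidW D w) (hJ : JPropT D orbs w) :
    ∃ e ∈ T, (∀ i, i ∈ e.1 ↔ i ∈ PermJ D orbs w) ∧ ValidW D e.2 ∧
      ∀ r < D.nroots, h8sW D w r = h8sW D e.2 r := by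
  classical
  unfold gtTabChk at hT
  rw [Bool.and_eq_true, List.all_eq_true, List.all_eq_true] at hT
  set Jl := (List.range D.rank).filter (fun i => decide (i ∈ PermJ D orbs w)) with hJl
  have hsub : Jl ∈ (List.range D.rank).sublists := List.mem_sublists.mpr List.filter_sublist
  have h1 := hT.1 Jl hsub
  rw [List.any_eq_true] at h1
  obtain ⟨e, he, heJ⟩ := h1
  have heJ' : e.1 = Jl := by simpa using heJ
  have hmem : ∀ i, i ∈ e.1 ↔ i ∈ PermJ D orbs w := by
    intro i
    rw [heJ', hJl, List.mem_filter, List.mem_range, decide_eq_true_eq]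
    constructor
    · exact fun hh => hh.2
    · exact fun hh => ⟨hh.1, hh⟩
  have h2 := hT.2 e he
  unfold gtInvChk at h2
  rw [Bool.and_eq_true, List.all_eq_true, List.all_eq_true] at h2
  have hv : ValidW D e.2 := by
    intro i hi
    have := h2.1 i hi
    simpa using this
  refine ⟨e, he, hmem, hv, ?_⟩
  apply gt_unique D hB hA hBN hW hO2 w e.2 hw hv
  intro r hr
  have h3 := h2.2 r (List.mem_range.mpr hr.1)
  rw [Bool.or_eq_true] at h3
  rcases h3 with h3 | h3
  · simp only [Bool.not_eq_true', decide_eq_false_iff_not] at h3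
    exact absurd hr h3
  · rw [beq_iff_eq] at h3
    have hiff : D.IsPosRoot (h8sW D e.2 r) ↔ D.InRootSub (PermJ D orbs w) r := by
      rw [← decide_eq_true_iff (p := D.IsPosRoot (h8sW D e.2 r)), h3, List.all_eq_true]
      constructor
      · intro hall
        refine ⟨hr.1, fun i hi hiJ => ?_⟩
        have := hall i (List.mem_range.mpr hi)
        rw [Bool.or_eq_true, List.contains_iff_mem, decide_eq_true_eq] at this
        rcases this with h4 | h4
        · exact absurd ((hmem i).mp h4) hiJ
        · exact h4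
      · intro hin i hi
        rw [Bool.or_eq_true, List.contains_iff_mem, decide_eq_true_eq]
        by_cases hiJ : i ∈ PermJ D orbs w
        · exact Or.inl ((hmem i).mpr hiJ)
        · exact Or.inr (hin.2 i (List.mem_range.mp hi) hiJ)
    rw [hiff]
    constructor
    · exact gtt_struct D hB hA h orbs hval hcov w hw hJ r hr
    · intro hin
      exact gtt_pos D hA h orbs hval w hw r hin hr

end Cfsg.Agent.Lib.helper6.TWIE6
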