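import Mathlib
import Cfsg.Prelude.Def_ChevStructure
import Cfsg.Agent.Lib.helper6.TWIE6.Defs
import Cfsg.Agent.Lib.helper14.INVNCb
import Cfsg.Agent.Lib.Helper11.INVSTDN
import Cfsg.Agent.Lib.Helper22.INVCOLL

/-!
# Project TWIE6 (S2182), piece REPM: the three representatives lie in a subgroup containing the orbit products
-/

set_option autoImplicit false

namespace Cfsg.Agent.Lib.helper6.TWIE6

open Cfsg.Lie Cfsg.Lie.ChevalleyDatum Cfsg.Agent.Lib.helper8 Cfsg.Agent.Lib.helper14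
  Cfsg.Agent.Lib.helper14.INV Cfsg.Agent.Lib.helper14.TWI

universe u

variable {K : Type u} [Field K]

theorem twie6repm_chk : invstdnChk1 chevE6 65 67 = true ∧ ([71] : List ℕ) ∈ te6RhoOrbs ∧
    ([68, 66] : List ℕ) ∈ te6RhoOrbs ∧ ([55, 67] : List ℕ) ∈ te6RhoOrbs ∧
    ([65] : List ℕ) ∈ te6RhoOrbs := by decide +kernel

/-- REPM : the three representatives lie in a subgroup containing the orbit products (`x_55 x_65 x_67 = (x_55 x_67) x_65`) -/
theorem te6_rep_memG [CharP K 2] (hB : H8Base.{u} chevE6) (G₁ : Subgroup (GL chevE6.Idx K))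
    (hmemW : ∀ R ∈ te6RhoOrbs, (w1 chevE6 hB R : GL chevE6.Idx K) ∈ G₁) :
    ∀ a ∈ te6Reps, (w1 chevE6 hB a : GL chevE6.Idx K) ∈ G₁ := by
  have hD : chevE6 ∈ [chevG2, chevB2, chevD4, chevF4, chevE6, chevE7, chevE8] := by simp
  have hC := h8commAll.{u} chevE6 hD
  obtain ⟨c1, m1, m2, m3, m4⟩ := twie6repm_chk
  intro a ha
  simp only [te6Reps, List.mem_cons, List.not_mem_nil, or_false] at ha
  rcases ha with rfl | rfl | rfl
  · exact hmemW _ m1
  · exact hmemW _ m2
  · have e : (w1 chevE6 hB [55, 65, 67] : GL chevE6.Idx K) =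
        w1 chevE6 hB [55, 67] * w1 chevE6 hB [65] := by
      simp only [w1_cons, w1_nil, mul_one]
      rw [mul_assoc, (invstdn_comm1 chevE6 hB hC 65 67 c1 1 1).eq]
    rw [e]
    exact Subgroup.mul_mem _ (hmemW _ m3) (hmemW _ m4)

end Cfsg.Agent.Lib.helper6.TWIE6
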