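import Mathlib
import Cfsg.Agent.Lib.Helper19.U3P.Defs
import Cfsg.Agent.Lib.Helper25.SU3P.Basic
import Cfsg.Agent.Lib.Helper25.SU3P.Conj

/-!
# U3P row X20 (helper6): `move_S` — the element `ρ (wM * xM s)` moves the point `a c B` to `Y c B`.
-/

set_option autoImplicit false

namespace Cfsg.Agent.Lib.Helper19.U3P

open Cfsg.Agent.Lib.helper17.SLP Cfsg.Agent.Lib.helper14.SU3J Cfsg.Agent.Lib.Helper25.SU3P
open Polynomial Matrix
open Cfsg.Agent.Lib.Helper25.SU3P.ConjAux (presJ_uu det_uu)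

universe u v

section Xaux

variable {F : Type u} [Field F] {K : Type u} [Field K] {q : ℕ}

/-- extra: the first column of a 3×3 matrix as `M *ᵥ e₁` -/
theorem u3px20_col0 (M : Matrix (Fin 3) (Fin 3) F) (i : Fin 3) : (M *ᵥ ![1, 0, 0]) i = M i 0 := by
  rw [mv3]
  simp

/-- extra: if `P * Pi = 1`-inverse pair and `Q e₁ = μ • P e₁` then `(Pi * Q)` has first column `μ e₁`. -/
theorem u3px20_col_of_prop (P Pi Q : Matrix (Fin 3) (Fin 3) F) (hPi : Pi * P = 1) (μ : F)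
    (h : Q *ᵥ ![1, 0, 0] = μ • (P *ᵥ ![1, 0, 0])) :
    (Pi * Q) 1 0 = 0 ∧ (Pi * Q) 2 0 = 0 := by
  have e : (Pi * Q) *ᵥ ![1, 0, 0] = μ • ![1, 0, 0] := by
    rw [← Matrix.mulVec_mulVec, h, Matrix.mulVec_smul, Matrix.mulVec_mulVec, hPi, Matrix.one_mulVec]
  constructor
  · have := congrFun e 1
    rw [u3px20_col0] at this
    simpa using this
  · have := congrFun e 2
    rw [u3px20_col0] at this
    simpa using this

/-- extra: `σ (ι y) = ι y` -/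
theorem u3px20_sig_iota (D : Par F K q) (y : K) : D.σ (D.ι y) = D.ι y :=
  (D.hι (D.ι y)).2 ⟨y, rfl⟩

end Xaux

section X

variable {F : Type u} [Field F] [Fintype F] {K : Type u} [Field K] [Fintype K] {q : ℕ}

variable {D : Par F K q} {a b c : ↥(Cfsg.SU 3 F q)} {ρ : SL2 K →* ↥(Cfsg.SU 3 F q)}

/-- X20 [M] -/
theorem move_S (hG : Gens D a b c ρ) (hσσ : ∀ x, D.σ (D.σ x) = x) (hγ : D.γ0 ≠ 0)
    (hγσ : D.σ D.γ0 = -D.γ0) (s : K) :
    ∃ Y : ↥(Cfsg.SU 3 F q), (∃ β, D.c.cj Y = uu D.σ (D.γ0 / (D.σ D.β0 - D.γ0 * D.ι s)) β) ∧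
      IsUp (D.c.cj ((Y * c)⁻¹ * ρ (wM * xM s) * (a * c))) := by
  set σ := D.σ with hσdef
  set γ := D.γ0 with hγdef
  set β0 := D.β0 with hβdef
  set ts : F := D.ι s with hts
  have hιs : σ ts = ts := u3px20_sig_iota D s
  have hβ0 : β0 + σ β0 + 1 = 0 := D.hβ0
  -- the denominators
  set d : F := β0 + γ * ts with hd
  have hσd : σ d = σ β0 - γ * ts := by
    rw [hd, map_add, map_mul, hγσ, hιs]
    ring
  have hdd : d + σ d = -1 := by
    rw [hσd, hd]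
    linear_combination hβ0
  have hd0 : d ≠ 0 := by
    intro h0
    rw [h0, map_zero, add_zero] at hdd
    exact one_ne_zero (neg_eq_zero.1 hdd.symm)
  have hσd0 : σ d ≠ 0 := (map_ne_zero σ).mpr hd0
  have hσd0' : σ β0 - γ * ts ≠ 0 := by rw [← hσd]; exact hσd0
  -- the parameters of `Y`
  set α' : F := γ / (σ β0 - γ * ts) with hα'
  set β' : F := -γ ^ 2 / d with hβ'
  have hσα' : σ α' = -γ / d := by
    rw [hα', map_div₀, hγσ, map_sub, map_mul, hσσ, hγσ, hιs, hd]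
    congr 1
    ring
  have hσβ' : σ β' = -γ ^ 2 / σ d := by
    rw [hβ', map_div₀, map_neg, map_pow, hγσ]
    congr 1
    ring
  have hunit : β' + σ β' + α' * σ α' = 0 := by
    rw [hσβ', hσα', hα', hβ', ← hσd]
    field_simp
    linear_combination (-γ ^ 2) * hdd
  obtain ⟨Y, hY⟩ := D.c.exists_lift (uu σ α' β') (presJ_uu σ hσσ α' β' hunit) (det_uu σ α' β')
  refine ⟨Y, ⟨β', hY⟩, ?_⟩
  -- the coordinate matrices
  set P : Matrix (Fin 3) (Fin 3) F := D.c.cj (Y * c) with hP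
  set Pi : Matrix (Fin 3) (Fin 3) F := D.c.cj (Y * c)⁻¹ with hPi
  set Q : Matrix (Fin 3) (Fin 3) F := D.c.cj (ρ (wM * xM s) * (a * c)) with hQ
  have hN : D.c.cj ((Y * c)⁻¹ * ρ (wM * xM s) * (a * c)) = Pi * Q := by
    rw [hPi, hQ, ← D.c.cj_mul, mul_assoc]
  have hPiP : Pi * P = 1 := D.c.cj_inv_mul (Y * c)
  have hPe : P = uu σ α' β' * wJ γ := by
    rw [hP, D.c.cj_mul, hY, hG.hc]
  have hρe : D.c.cj (ρ (wM * xM s)) = !![0, 0, γ; 0, 1, 0; -γ⁻¹, 0, -ts] := by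
    rw [hG.hρ]
    unfold rhoM
    have em : (wM * xM s : SL2 K).1 = !![0, 1; -1, -s] := by
      show (wM : SL2 K).1 * (xM s).1 = _
      show !![(0 : K), 1; -1, 0] * !![1, s; 0, 1] = _
      rw [Matrix.mul_fin_two]
      simp
    have e00 : (wM * xM s : SL2 K).1 0 0 = 0 := by rw [em]; rfl
    have e01 : (wM * xM s : SL2 K).1 0 1 = 1 := by rw [em]; rfl
    have e10 : (wM * xM s : SL2 K).1 1 0 = -1 := by rw [em]; rfl
    have e11 : (wM * xM s : SL2 K).1 1 1 = -s := by rw [em]; rfl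
    rw [e00, e01, e10, e11]
    simp [hts]
    rfl
  have hQe : Q = !![0, 0, γ; 0, 1, 0; -γ⁻¹, 0, -ts] * (uu σ 1 β0 * wJ γ) := by
    rw [hQ, D.c.cj_mul, D.c.cj_mul, hρe, hG.ha, hG.hc]
  rw [hN]
  have hcols : (Pi * Q) 1 0 = 0 ∧ (Pi * Q) 2 0 = 0 := by
    refine u3px20_col_of_prop P Pi Q hPiP (-(γ⁻¹ * d)) ?_
    rw [hPe, hQe]
    funext i
    fin_cases i
    · simp [mv3, uu, wJ, hβ']
      field_simp
    · simp [mv3, uu, wJ, hσα']
      field_simp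
    · simp [mv3, uu, wJ, hd]
      field_simp
  have hpres : PresJ σ (Pi * Q) := by
    rw [← hN]
    exact D.c.cj_presJ _
  exact isUp_of_presJ σ (Pi * Q) hcols.1 hcols.2 hpres

end X

end Cfsg.Agent.Lib.Helper19.U3P
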