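import Mathlib
import Cfsg.Agent.Lib.Helper19.U3P.Defs
import Cfsg.Agent.Lib.Helper25.SU3P.Basic
import Cfsg.Agent.Lib.Helper25.SU3P.Conj
import Cfsg.Agent.Lib.helper7.U3PF7
import Cfsg.Agent.Lib.helper6.U3PX20

/-!
# U3P row X19 (helper6): `stab_S` — an element `ρ gc * b` of order `≥ q + 1` fixing the point `a c B`.
-/

set_option autoImplicit false

namespace Cfsg.Agent.Lib.Helper19.U3P

open Cfsg.Agent.Lib.helper17.SLP Cfsg.Agent.Lib.helper14.SU3J Cfsg.Agent.Lib.Helper25.SU3P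
open Polynomial Matrix
open Cfsg.Agent.Lib.Helper25.SU3P.ConjAux (presJ_uu det_uu)

universe u v

section Xaux

variable {F : Type u} [Field F]

/-- extra: the matrix `Ĉ` -/
def u3px19_C (l b0 sb0 : F) : Matrix (Fin 3) (Fin 3) F :=
  !![-sb0 * l⁻¹ ^ 2 - b0 * l, 0, b0 * sb0 * (l⁻¹ ^ 2 - l); 0, l, 0;
    l⁻¹ ^ 2 - l, 0, -sb0 * l - b0 * l⁻¹ ^ 2]

/-- extra: `e₂` is an eigenvector of `Ĉ` -/
theorem u3px19_C_e2 (l b0 sb0 : F) : u3px19_C l b0 sb0 *ᵥ ![0, 1, 0] = l • ![0, 1, 0] := by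
  funext i
  fin_cases i <;> simp [u3px19_C, mv3]

/-- extra: powers of a matrix on an eigenvector -/
theorem u3px19_pow_eig (M : Matrix (Fin 3) (Fin 3) F) (v : Fin 3 → F) (l : F) (h : M *ᵥ v = l • v)
    (n : ℕ) : (M ^ n) *ᵥ v = l ^ n • v := by
  induction n with
  | zero => simp
  | succ n ih =>
    rw [pow_succ, ← Matrix.mulVec_mulVec, h, Matrix.mulVec_smul, ih, smul_smul, pow_succ, mul_comm]

/-- extra: `(β₀, -1, 1)ᵀ` is an eigenvector of `Ĉ` when `β₀ + σβ₀ + 1 = 0` -/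
theorem u3px19_C_v (l b0 sb0 : F) (hb : b0 + sb0 + 1 = 0) :
    u3px19_C l b0 sb0 *ᵥ ![b0, -1, 1] = l • ![b0, -1, 1] := by
  funext i
  fin_cases i
  · simp [u3px19_C, mv3]
    linear_combination (-(b0 * l)) * hb
  · simp [u3px19_C, mv3]
  · simp [u3px19_C, mv3]
    linear_combination (-l) * hb

end Xaux

section X

variable {F : Type u} [Field F] [Fintype F] {K : Type u} [Field K] [Fintype K] {q : ℕ}

variable {D : Par F K q} {a b c : ↥(Cfsg.SU 3 F q)} {ρ : SL2 K →* ↥(Cfsg.SU 3 F q)}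

/-- spare (own name) with the EXACT statement of X19 `stab_S`; the verbatim `stab_S` is in `Helper19.U3PX19`. -/
theorem u3px19_h6_stab_S (hG : Gens D a b c ρ) (hF : Fintype.card F = q ^ 2) (hK : Fintype.card K = q) (hq : 4 ≤ q)
    (hγ : D.γ0 ≠ 0) :
    ∃ gc : SL2 K, IsUp (D.c.cj ((a * c)⁻¹ * (ρ gc * b) * (a * c))) ∧ q + 1 ≤ orderOf (ρ gc * b) := by
  classical
  obtain ⟨hσσ, -, -, -, hγσ, -, hord, -⟩ := par_basic D hF hK hq
  set σ := D.σ with hσdef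
  set γ := D.γ0 with hγdef
  set β0 := D.β0 with hβdef
  set ζ : F := (D.ζ : F) with hζdef
  have hζ0 : ζ ≠ 0 := D.ζ.ne_zero
  have hσζ0 : σ ζ ≠ 0 := (map_ne_zero σ).mpr hζ0
  have hβ0 : β0 + σ β0 + 1 = 0 := D.hβ0
  set l : F := σ ζ / ζ with hl
  have hl0 : l ≠ 0 := div_ne_zero hσζ0 hζ0
  have hσl : σ l = l⁻¹ := by
    rw [hl, map_div₀, hσσ, inv_div]
  have hσζ : σ ζ = l * ζ := by
    rw [hl]
    field_simp
  have hσli : σ l⁻¹ = l := by rw [map_inv₀, hσl, inv_inv]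
  -- the entries of `Ĉ`
  set C00 : F := -σ β0 * l⁻¹ ^ 2 - β0 * l with hC00
  set C02 : F := β0 * σ β0 * (l⁻¹ ^ 2 - l) with hC02
  set C20 : F := l⁻¹ ^ 2 - l with hC20
  set C22 : F := -σ β0 * l - β0 * l⁻¹ ^ 2 with hC22
  -- the entries of `gc`, in `F`
  have fixA : σ (C00 / ζ) = C00 / ζ := by
    rw [map_div₀, hσζ, hC00, map_sub, map_mul, map_mul, map_neg, hσσ, map_pow, hσli, hσl]
    field_simp
    ring
  have fixB : σ (C02 * σ ζ / γ) = C02 * σ ζ / γ := by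
    rw [map_div₀, map_mul, hσσ, hγσ, hC02, hC20, map_mul, map_mul, hσσ, map_sub, map_pow, hσli, hσl, hσζ]
    field_simp
    ring
  have fixC : σ (γ * C20 / ζ) = γ * C20 / ζ := by
    rw [map_div₀, map_mul, hγσ, hσζ, hC20, map_sub, map_pow, hσli, hσl]
    field_simp
    ring
  have fixD : σ (C22 * σ ζ) = C22 * σ ζ := by
    rw [map_mul, hσσ, hC22, map_sub, map_mul, map_mul, map_neg, hσσ, map_pow, hσli, hσl, hσζ]
    field_simp
    ring
  obtain ⟨A, hA⟩ := (D.hι _).1 fixA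
  obtain ⟨B, hB⟩ := (D.hι _).1 fixB
  obtain ⟨Cc, hCc⟩ := (D.hι _).1 fixC
  obtain ⟨Dd, hDd⟩ := (D.hι _).1 fixD
  have hdetF : D.ι (A * Dd - B * Cc) = 1 := by
    rw [map_sub, map_mul, map_mul, hA, hB, hCc, hDd, hσζ, hC00, hC02, hC20, hC22]
    field_simp
    linear_combination (l ^ 3 * (β0 + σ β0 - 1)) * hβ0
  have hdet : A * Dd - B * Cc = 1 := by
    apply D.ι.injective
    rw [hdetF, map_one]
  set gc : SL2 K := ⟨!![A, B; Cc, Dd], by rw [Matrix.det_fin_two_of]; exact hdet⟩ with hgc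
  have hgc1 : gc.1 = !![A, B; Cc, Dd] := rfl
  -- the coordinate matrix of `ρ gc * b`
  have hCe : D.c.cj (ρ gc * b) = u3px19_C l β0 (σ β0) := by
    rw [D.c.cj_mul, hG.hρ, hG.hb]
    unfold rhoM
    rw [hgc1]
    have e00 : (!![A, B; Cc, Dd] : Matrix (Fin 2) (Fin 2) K) 0 0 = A := rfl
    have e01 : (!![A, B; Cc, Dd] : Matrix (Fin 2) (Fin 2) K) 0 1 = B := rfl
    have e10 : (!![A, B; Cc, Dd] : Matrix (Fin 2) (Fin 2) K) 1 0 = Cc := rfl
    have e11 : (!![A, B; Cc, Dd] : Matrix (Fin 2) (Fin 2) K) 1 1 = Dd := rfl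
    rw [e00, e01, e10, e11, hA, hB, hCc, hDd]
    ext i j
    fin_cases i <;> fin_cases j <;>
      simp [u3px19_C, dd, Matrix.mul_apply, Fin.sum_univ_three, ← hσdef, ← hζdef, ← hγdef, hC00,
        hC02, hC20, hC22, hl]
    all_goals (field_simp)
  refine ⟨gc, ?_, ?_⟩
  · set P : Matrix (Fin 3) (Fin 3) F := D.c.cj (a * c) with hP
    set Pi : Matrix (Fin 3) (Fin 3) F := D.c.cj (a * c)⁻¹ with hPi
    set Q : Matrix (Fin 3) (Fin 3) F := u3px19_C l β0 (σ β0) * P with hQ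
    have hN : D.c.cj ((a * c)⁻¹ * (ρ gc * b) * (a * c)) = Pi * Q := by
      rw [hPi, hQ, hP, ← hCe, ← D.c.cj_mul, ← D.c.cj_mul, mul_assoc]
    have hPiP : Pi * P = 1 := D.c.cj_inv_mul (a * c)
    have hPe : P = uu σ 1 β0 * wJ γ := by
      rw [hP, D.c.cj_mul, hG.ha, hG.hc]
    have hPv : P *ᵥ ![1, 0, 0] = (-γ⁻¹) • ![β0, -1, 1] := by
      rw [hPe]
      funext i
      fin_cases i <;> simp [mv3, uu, wJ]
      ring
    rw [hN]
    have hcols : (Pi * Q) 1 0 = 0 ∧ (Pi * Q) 2 0 = 0 := by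
      refine u3px20_col_of_prop P Pi Q hPiP l ?_
      rw [hQ, ← Matrix.mulVec_mulVec, hPv, Matrix.mulVec_smul, u3px19_C_v l β0 (σ β0) hβ0,
        smul_comm]
    have hpres : PresJ σ (Pi * Q) := by
      rw [← hN]
      exact D.c.cj_presJ _
    exact isUp_of_presJ σ (Pi * Q) hcols.1 hcols.2 hpres
  · set X : ↥(Cfsg.SU 3 F q) := ρ gc * b with hX
    have hn0 : 0 < orderOf X := orderOf_pos X
    have hpow : (u3px19_C l β0 (σ β0)) ^ orderOf X = 1 := by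
      rw [← hCe, ← D.c.cj_pow, pow_orderOf_eq_one, D.c.cj_one]
    have h2 := u3px19_pow_eig _ _ _ (u3px19_C_e2 l β0 (σ β0)) (orderOf X)
    rw [hpow, Matrix.one_mulVec] at h2
    have h3 := congrFun h2 1
    have hl1 : l ^ orderOf X = 1 := by
      simpa using h3.symm
    have hdvd : orderOf l ∣ orderOf X := orderOf_dvd_of_pow_eq_one hl1
    rw [hord] at hdvd
    exact Nat.le_of_dvd hn0 hdvd

end X

end Cfsg.Agent.Lib.Helper19.U3P
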