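import Cfsg.Agent.Lib.helper6.UTP.Defs
import Cfsg.Agent.Lib.helper6.UTPSIEGEL
import Cfsg.Agent.Lib.Helper28.UForm
import Cfsg.Agent.Lib.Helper22.UTPALG
import Cfsg.Agent.Lib.Helper24.UTPELU
import Cfsg.Agent.Lib.Helper24.UTPISOSUB
import Cfsg.Agent.Lib.Helper27.UTPTRANS

/-!
# UTP EXTRACT: a non-scalar `ζ ∈ Λ` gives the root groups at all `u ⊗ w`, `u`, `w` isotropic (`xs_pure`).
-/

set_option autoImplicit false
set_option linter.unusedVariables false
set_option linter.unusedSectionVars false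

namespace Cfsg.Agent.Lib.helper6.UTP

open Matrix
open scoped Kronecker
open Cfsg.Agent.Lib.helper7.TP

variable {F : Type*} [Field F] {a b : ℕ}

/-! ## rank-one matrices `x y*` -/

/-- the matrix `x y*`: `p ↦ hf p y • x`. -/
def utpextract_R (σ : F ≃+* F) {ι : Type*} [Fintype ι] (x y : ι → F) : Matrix ι ι F :=
  Matrix.vecMulVec x (cj σ y)

theorem utpextract_R_mulVec (σ : F ≃+* F) {ι : Type*} [Fintype ι] (x y p : ι → F) :
    utpextract_R σ x y *ᵥ p = hf σ p y • x := utpsg_vmv_mulVec σ x y p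

/-- conjugation of `x y*` by an isometry. -/
theorem utpextract_R_conj (σ : F ≃+* F) {ι : Type} [Fintype ι] [DecidableEq ι]
    (α : Matrix.GeneralLinearGroup ι F) (hα : α ∈ GUm σ ι) (x y : ι → F) :
    (α : Matrix ι ι F) * utpextract_R σ x y * ((α⁻¹ : Matrix.GeneralLinearGroup ι F) : Matrix ι ι F) =
      utpextract_R σ ((α : Matrix ι ι F) *ᵥ x) ((α : Matrix ι ι F) *ᵥ y) := by
  apply utpsg_mat_ext
  intro p
  rw [← Matrix.mulVec_mulVec, ← Matrix.mulVec_mulVec, utpextract_R_mulVec, utpextract_R_mulVec,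
    Matrix.mulVec_smul, utpsg_iso_inv σ α hα]

/-- `c • u u*` in `Λ` for all skew `c` gives `u ⊗ w ∈ XSu`. -/
theorem utpextract_to_xs (σ : F ≃+* F) (hσ : Inv2 σ)
    (M : Subgroup (Matrix.GeneralLinearGroup (Fin a × Fin b) F)) (u : Fin a → F) (hu : hf σ u u = 0)
    (hP : ∀ c : F, σ c = -c → LamAu σ M (c • utpextract_R σ u u)) (w : Fin b → F)
    (hw : cj σ w ⬝ᵥ w = 0) : ten u w ∈ XSu σ M := by
  refine ⟨?_, ?_⟩
  · rw [hf_ten, hu, zero_mul]
  · intro c hc t ht
    have hc' : σ (σ c) = -(σ c) := by rw [hσ.invol, hc, neg_neg]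
    apply hP (σ c) hc' w t hw
    apply utpsg_mat_ext
    intro x
    rw [ht, ELm_mulVec, Matrix.smul_mulVec, utpextract_R_mulVec, smul_smul, ten_smul_left,
      hf_smul_right, hf_ten_right]

/-- one non-zero skew multiple suffices. -/
theorem utpextract_P_of_one [Finite F] (σ : F ≃+* F) (hσ : Inv2 σ)
    (M : Subgroup (Matrix.GeneralLinearGroup (Fin a × Fin b) F)) (X : Matrix (Fin a) (Fin a) F)
    (c₁ : F) (hc₁ : σ c₁ = -c₁) (h0 : c₁ ≠ 0) (h : LamAu σ M (c₁ • X)) :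
    ∀ c : F, σ c = -c → LamAu σ M (c • X) := by
  intro c hc
  have hs : σ (c / c₁) = c / c₁ := by
    rw [map_div₀, hc, hc₁, neg_div_neg_eq]
  have := lamAu_smul σ hσ M (c / c₁) hs _ h
  rwa [smul_smul, div_mul_cancel₀ _ h0] at this

/-! ## algebra of `R` and `E u z = u z* + z u*` -/

theorem utpextract_R_add_left (σ : F ≃+* F) {ι : Type*} [Fintype ι] (x x' y : ι → F) :
    utpextract_R σ (x + x') y = utpextract_R σ x y + utpextract_R σ x' y := by
  unfold utpextract_R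
  rw [Matrix.add_vecMulVec]

theorem utpextract_R_add_right (σ : F ≃+* F) {ι : Type*} [Fintype ι] (x y y' : ι → F) :
    utpextract_R σ x (y + y') = utpextract_R σ x y + utpextract_R σ x y' := by
  unfold utpextract_R
  rw [cj_add, Matrix.vecMulVec_add]

theorem utpextract_R_smul_left (σ : F ≃+* F) {ι : Type*} [Fintype ι] (c : F) (x y : ι → F) :
    utpextract_R σ (c • x) y = c • utpextract_R σ x y := by
  unfold utpextract_R
  rw [Matrix.smul_vecMulVec]

theorem utpextract_R_smul_right (σ : F ≃+* F) {ι : Type*} [Fintype ι] (c : F) (x y : ι → F) :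
    utpextract_R σ x (c • y) = σ c • utpextract_R σ x y := by
  unfold utpextract_R
  rw [cj_smul, Matrix.vecMulVec_smul]

/-- `E u z = u z* + z u*`. -/
def utpextract_E (σ : F ≃+* F) {ι : Type*} [Fintype ι] (u z : ι → F) : Matrix ι ι F :=
  utpextract_R σ u z + utpextract_R σ z u

theorem utpextract_E_mulVec (σ : F ≃+* F) {ι : Type*} [Fintype ι] (u z p : ι → F) :
    utpextract_E σ u z *ᵥ p = hf σ p z • u + hf σ p u • z := by
  unfold utpextract_E
  rw [Matrix.add_mulVec, utpextract_R_mulVec, utpextract_R_mulVec]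

theorem utpextract_E_add (σ : F ≃+* F) {ι : Type*} [Fintype ι] (u z z' : ι → F) :
    utpextract_E σ u (z + z') = utpextract_E σ u z + utpextract_E σ u z' := by
  unfold utpextract_E
  rw [utpextract_R_add_left, utpextract_R_add_right]
  abel

theorem utpextract_E_self (σ : F ≃+* F) {ι : Type*} [Fintype ι] (u : ι → F) (γ : F) :
    utpextract_E σ u (γ • u) = (γ + σ γ) • utpextract_R σ u u := by
  unfold utpextract_E
  rw [utpextract_R_smul_left, utpextract_R_smul_right, add_smul, add_comm]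

theorem utpextract_E_conj (σ : F ≃+* F) {ι : Type} [Fintype ι] [DecidableEq ι]
    (α : Matrix.GeneralLinearGroup ι F) (hα : α ∈ GUm σ ι) (u z : ι → F)
    (hu : (α : Matrix ι ι F) *ᵥ u = u) :
    (α : Matrix ι ι F) * utpextract_E σ u z * ((α⁻¹ : Matrix.GeneralLinearGroup ι F) : Matrix ι ι F) =
      utpextract_E σ u ((α : Matrix ι ι F) *ᵥ z) := by
  unfold utpextract_E
  rw [Matrix.mul_add, Matrix.add_mul, utpextract_R_conj σ α hα, utpextract_R_conj σ α hα, hu]

/-- `Λ ∋ ξ`, `α ∈ SU_a`: `α ξ α⁻¹ - ξ ∈ Λ`. -/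
theorem utpextract_comm (σ : F ≃+* F) (hσ : Inv2 σ)
    (M : Subgroup (Matrix.GeneralLinearGroup (Fin a × Fin b) F)) (hTM : T0u σ a b ≤ M)
    (α : Matrix.GeneralLinearGroup (Fin a) F) (hα : α ∈ SUm σ (Fin a))
    (ξ : Matrix (Fin a) (Fin a) F) (h : LamAu σ M ξ) :
    LamAu σ M ((α : Matrix (Fin a) (Fin a) F) * ξ * ((α⁻¹ : Matrix.GeneralLinearGroup (Fin a) F) :
      Matrix (Fin a) (Fin a) F) - ξ) := by
  have hdet : (α : Matrix (Fin a) (Fin a) F).det = 1 := by
    have h1 : Matrix.GeneralLinearGroup.det α = 1 := hα.2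
    have := congrArg Units.val h1
    simpa using this
  rw [sub_eq_add_neg]
  exact lamAu_add σ M _ _ (lamAu_conj σ hσ M hTM α hα.1 hdet ξ h) (lamAu_neg σ M ξ h)

/-- the commutator of a skew-hermitian `ξ` with the transvection `x ↦ x + (c * hf x u) • u`. -/
theorem utpextract_tv_comm (σ : F ≃+* F) (hσ : Inv2 σ) {ι : Type} [Fintype ι] [DecidableEq ι]
    (ξ : Matrix ι ι F) (hξ : ∀ p p' : ι → F, hf σ (ξ *ᵥ p) p' + hf σ p (ξ *ᵥ p') = 0)
    (u : ι → F) (hu : hf σ u u = 0) (c : F) (t : Matrix.GeneralLinearGroup ι F)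
    (ht : ∀ x, (t : Matrix ι ι F) *ᵥ x = x + (c * hf σ x u) • u) :
    (t : Matrix ι ι F) * ξ * ((t⁻¹ : Matrix.GeneralLinearGroup ι F) : Matrix ι ι F) - ξ =
      (-c) • utpextract_E σ u (ξ *ᵥ u) - (c ^ 2 * hf σ (ξ *ᵥ u) u) • utpextract_R σ u u := by
  set z := ξ *ᵥ u with hz
  set D := (-c) • utpextract_E σ u z - (c ^ 2 * hf σ z u) • utpextract_R σ u u with hD
  have key : (t : Matrix ι ι F) * ξ = (ξ + D) * (t : Matrix ι ι F) := by
    apply utpsg_mat_ext
    intro x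
    rw [← Matrix.mulVec_mulVec, ← Matrix.mulVec_mulVec, ht, ht, Matrix.mulVec_add, Matrix.mulVec_smul,
      Matrix.add_mulVec, Matrix.add_mulVec, ← hz, hD, Matrix.sub_mulVec, Matrix.sub_mulVec,
      Matrix.smul_mulVec, Matrix.smul_mulVec, Matrix.smul_mulVec, Matrix.smul_mulVec,
      utpextract_E_mulVec, utpextract_E_mulVec, utpextract_R_mulVec, utpextract_R_mulVec, hu]
    have h1 : hf σ (ξ *ᵥ x) u = -hf σ x z := by
      have := hξ x u
      rw [← hz] at this
      linear_combination this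
    have h2 : hf σ u z = -hf σ z u := by
      have := hξ u u
      rw [← hz] at this
      linear_combination this
    rw [h1, h2]
    module
  have h3 : (t : Matrix ι ι F) * ((t⁻¹ : Matrix.GeneralLinearGroup ι F) : Matrix ι ι F) = 1 := by
    rw [← Units.val_mul, mul_inv_cancel, Units.val_one]
  rw [key, Matrix.mul_assoc, h3, Matrix.mul_one]
  abel

/-! ## from `c • E u z + d • u u*` to rank one (Siegel conjugation) -/

/-- conjugation of `c • E u z + d • u u*` by an isometry fixing `u`. -/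
theorem utpextract_conj_form (σ : F ≃+* F) {ι : Type} [Fintype ι] [DecidableEq ι]
    (s : Matrix.GeneralLinearGroup ι F) (hs : s ∈ GUm σ ι) (u z : ι → F)
    (hsu : (s : Matrix ι ι F) *ᵥ u = u) (c d : F) :
    (s : Matrix ι ι F) * (c • utpextract_E σ u z + d • utpextract_R σ u u) *
      ((s⁻¹ : Matrix.GeneralLinearGroup ι F) : Matrix ι ι F) =
      c • utpextract_E σ u ((s : Matrix ι ι F) *ᵥ z) + d • utpextract_R σ u u := by
  rw [Matrix.mul_add, Matrix.add_mul, Matrix.mul_smul, Matrix.smul_mul, Matrix.mul_smul, Matrix.smul_mul,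
    utpextract_E_conj σ s hs u z hsu, utpextract_R_conj σ s hs, hsu]

/-- Step K: `z₁ ⊥ u`, `n₁ ⊥ u` with `tr (hf z₁ n₁) ≠ 0`: rank one. -/
theorem utpextract_K [Finite F] (σ : F ≃+* F) (hσ : Inv2 σ)
    (M : Subgroup (Matrix.GeneralLinearGroup (Fin a × Fin b) F)) (hTM : T0u σ a b ≤ M)
    (u : Fin a → F) (hu : hf σ u u = 0) (c d : F) (hc : σ c = -c) (hc0 : c ≠ 0)
    (z₁ : Fin a → F) (hz₁ : hf σ z₁ u = 0)
    (h : LamAu σ M (c • utpextract_E σ u z₁ + d • utpextract_R σ u u))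
    (n₁ : Fin a → F) (hn₁ : hf σ n₁ u = 0) (hτ : hf σ z₁ n₁ + σ (hf σ z₁ n₁) ≠ 0) :
    ∀ c' : F, σ c' = -c' → LamAu σ M (c' • utpextract_R σ u u) := by
  obtain ⟨κ, hκ⟩ := utpsg_kappa σ hσ n₁
  obtain ⟨s, hsS, hs⟩ := utpsg_siegel_exists σ hσ u n₁ hu hn₁ κ hκ
  have hun : hf σ u n₁ = 0 := by rw [hf_herm σ hσ, hn₁, map_zero]
  have hsu : (s : Matrix (Fin a) (Fin a) F) *ᵥ u = u := by
    rw [hs, hu, hun]
    simp
  have hsz : (s : Matrix (Fin a) (Fin a) F) *ᵥ z₁ = z₁ + (-hf σ z₁ n₁) • u := by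
    rw [hs, hz₁]
    simp only [zero_smul, mul_zero, add_zero, neg_smul]
    abel
  have hcomm := utpextract_comm σ hσ M hTM s hsS _ h
  rw [utpextract_conj_form σ s hsS.1 u z₁ hsu, hsz, utpextract_E_add, utpextract_E_self] at hcomm
  have heq : c • (utpextract_E σ u z₁ + (-hf σ z₁ n₁ + σ (-hf σ z₁ n₁)) • utpextract_R σ u u) +
      d • utpextract_R σ u u - (c • utpextract_E σ u z₁ + d • utpextract_R σ u u) =
      (-c * (hf σ z₁ n₁ + σ (hf σ z₁ n₁))) • utpextract_R σ u u := by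
    rw [map_neg]
    module
  rw [heq] at hcomm
  refine utpextract_P_of_one σ hσ M _ (-c * (hf σ z₁ n₁ + σ (hf σ z₁ n₁))) ?_ ?_ hcomm
  · rw [map_mul, map_neg, map_add, hσ.invol, hc]
    ring
  · exact mul_ne_zero (neg_ne_zero.mpr hc0) hτ

/-- Step J: conjugating by the Siegel element of `n ⊥ u` replaces `z` by `hf z u • n` (modulo `u u*`). -/
theorem utpextract_J (σ : F ≃+* F) (hσ : Inv2 σ)
    (M : Subgroup (Matrix.GeneralLinearGroup (Fin a × Fin b) F)) (hTM : T0u σ a b ≤ M)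
    (u : Fin a → F) (hu : hf σ u u = 0) (c d : F) (z : Fin a → F)
    (h : LamAu σ M (c • utpextract_E σ u z + d • utpextract_R σ u u))
    (n : Fin a → F) (hn : hf σ n u = 0) :
    ∃ d' : F, LamAu σ M (c • utpextract_E σ u (hf σ z u • n) + d' • utpextract_R σ u u) := by
  obtain ⟨κ, hκ⟩ := utpsg_kappa σ hσ n
  obtain ⟨s, hsS, hs⟩ := utpsg_siegel_exists σ hσ u n hu hn κ hκ
  have hun : hf σ u n = 0 := by rw [hf_herm σ hσ, hn, map_zero]
  have hsu : (s : Matrix (Fin a) (Fin a) F) *ᵥ u = u := by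
    rw [hs, hu, hun]
    simp
  have hsz : (s : Matrix (Fin a) (Fin a) F) *ᵥ z =
      z + (hf σ z u • n + (κ * hf σ z u - hf σ z n) • u) := by
    rw [hs]
    module
  have hcomm := utpextract_comm σ hσ M hTM s hsS _ h
  rw [utpextract_conj_form σ s hsS.1 u z hsu, hsz, utpextract_E_add, utpextract_E_add,
    utpextract_E_self] at hcomm
  refine ⟨c * ((κ * hf σ z u - hf σ z n) + σ (κ * hf σ z u - hf σ z n)), ?_⟩
  convert hcomm using 1
  module

/-- the trick for `hf z u ≠ 0`, `q ≥ 3`. -/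
theorem utpextract_trick [Finite F] (σ : F ≃+* F) (hσ : Inv2 σ)
    (M : Subgroup (Matrix.GeneralLinearGroup (Fin a × Fin b) F))
    (E R : Matrix (Fin a) (Fin a) F) (θ : F) (hθ : θ ≠ 0) (hθs : σ θ = -θ)
    (hD : ∀ c : F, σ c = -c → LamAu σ M ((-c) • E - (c ^ 2 * θ) • R))
    (s : F) (hs : σ s = s) (hs0 : s ≠ 0) (hs1 : s ≠ 1) :
    ∀ c' : F, σ c' = -c' → LamAu σ M (c' • R) := by
  obtain ⟨c₀, hc₀0, hc₀⟩ := utpsg_skew_exists σ hσ
  have h1 := lamAu_smul σ hσ M s hs _ (hD c₀ hc₀)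
  have hsc : σ (s * c₀) = -(s * c₀) := by rw [map_mul, hs, hc₀]; ring
  have h2 := lamAu_neg σ M _ (hD (s * c₀) hsc)
  have h3 := lamAu_add σ M _ _ h1 h2
  have heq : s • ((-c₀) • E - (c₀ ^ 2 * θ) • R) + -((-(s * c₀)) • E - ((s * c₀) ^ 2 * θ) • R) =
      ((s ^ 2 - s) * c₀ ^ 2 * θ) • R := by
    module
  rw [heq] at h3
  refine utpextract_P_of_one σ hσ M R ((s ^ 2 - s) * c₀ ^ 2 * θ) ?_ ?_ h3
  · rw [map_mul, map_mul, map_sub, map_pow, map_pow, hs, hc₀, hθs]
    ring
  · have : s ^ 2 - s = s * (s - 1) := by ring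
    rw [this]
    exact mul_ne_zero (mul_ne_zero (mul_ne_zero hs0 (sub_ne_zero.mpr hs1)) (pow_ne_zero 2 hc₀0)) hθ

/-! ## the fixed field has an element `≠ 0, 1` unless `|F| = 4` -/

theorem utpextract_fixed_exists [Fintype F] (σ : F ≃+* F) (hσ : Inv2 σ) (h4 : Fintype.card F ≠ 4) :
    ∃ s : F, σ s = s ∧ s ≠ 0 ∧ s ≠ 1 := by
  classical
  by_contra hcon
  have hfix : ∀ s : F, σ s = s → s = 0 ∨ s = 1 := by
    intro s hs
    by_contra h
    push Not at h
    exact hcon ⟨s, hs, h.1, h.2⟩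
  have h2 : (1 : F) + 1 = 0 := by
    rcases hfix (1 + 1) (by rw [map_add, map_one]) with h | h
    · exact h
    · exfalso
      have : (1 : F) = 0 := by linear_combination h
      exact one_ne_zero this
  have hneg : ∀ y : F, -y = y := by
    intro y
    linear_combination (-y) * h2
  -- the structure of a moved element
  have hmoved : ∀ y : F, σ y ≠ y → σ y = y + 1 ∧ y * y + y + 1 = 0 := by
    intro y hy
    have hy0 : y ≠ 0 := by
      rintro rfl
      exact hy (map_zero σ)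
    have hN : y * σ y = 1 := by
      rcases hfix (y * σ y) (by rw [map_mul, hσ.invol, mul_comm]) with h | h
      · exfalso
        rcases mul_eq_zero.mp h with h' | h'
        · exact hy0 h'
        · exact hy0 ((map_eq_zero σ).mp h')
      · exact h
    have hT : y + σ y = 1 := by
      rcases hfix (y + σ y) (by rw [map_add, hσ.invol, add_comm]) with h | h
      · exfalso
        apply hy
        have : σ y = -y := by linear_combination h
        rw [this, hneg]
      · exact h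
    have hsy : σ y = y + 1 := by
      have : σ y = 1 - y := by linear_combination hT
      rw [this, sub_eq_add_neg, hneg, add_comm]
    refine ⟨hsy, ?_⟩
    rw [hsy] at hN
    linear_combination hN + h2
  obtain ⟨x, hx⟩ := hσ.moved
  obtain ⟨hsx, hxx⟩ := hmoved x hx
  have hall : ∀ y : F, y = 0 ∨ y = 1 ∨ y = x ∨ y = x + 1 := by
    intro y
    by_cases hy : σ y = y
    · rcases hfix y hy with h | h
      · exact Or.inl h
      · exact Or.inr (Or.inl h)
    · obtain ⟨_, hyy⟩ := hmoved y hy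
      have hprod : (y - x) * (y - (x + 1)) = 0 := by
        linear_combination hyy + hxx - (y + 1 + x * y) * h2
      rcases mul_eq_zero.mp hprod with h | h
      · exact Or.inr (Or.inr (Or.inl (sub_eq_zero.mp h)))
      · exact Or.inr (Or.inr (Or.inr (sub_eq_zero.mp h)))
  have hx0 : x ≠ 0 := by
    rintro rfl
    exact hx (map_zero σ)
  have hx1 : x ≠ 1 := by
    rintro rfl
    exact hx (map_one σ)
  have hx10 : x + 1 ≠ 0 := by
    intro h
    apply hx1
    have : x = -1 := by linear_combination h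
    rw [this, hneg]
  have huniv : (Finset.univ : Finset F) = {0, 1, x, x + 1} := by
    ext y
    simp only [Finset.mem_univ, Finset.mem_insert, Finset.mem_singleton, true_iff]
    exact hall y
  apply h4
  rw [← Finset.card_univ, huniv]
  rw [Finset.card_insert_of_notMem, Finset.card_insert_of_notMem, Finset.card_insert_of_notMem,
    Finset.card_singleton]
  · simp only [Finset.mem_singleton]
    intro h
    have : (1 : F) = 0 := by linear_combination -h
    exact one_ne_zero this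
  · simp only [Finset.mem_insert, Finset.mem_singleton]
    rintro (h | h)
    · exact hx1 h.symm
    · apply hx0
      linear_combination -h
  · simp only [Finset.mem_insert, Finset.mem_singleton]
    rintro (h | h | h)
    · exact one_ne_zero h.symm
    · exact hx0 h.symm
    · exact hx10 h.symm

/-! ## dimension two -/

theorem utpextract_hf_fin2 (σ : F ≃+* F) (x y : Fin 2 → F) :
    hf σ x y = x 0 * σ (y 0) + x 1 * σ (y 1) := by
  simp [hf, dotProduct, Fin.sum_univ_two, cj]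

/-- in dimension two the perpendicular space of a non-zero isotropic vector is its span. -/
theorem utpextract_fin2_perp (σ : F ≃+* F) (u z : Fin 2 → F) (hu : hf σ u u = 0) (hu0 : u ≠ 0)
    (hz : hf σ z u = 0) : ∃ l : F, z = l • u := by
  rw [utpextract_hf_fin2] at hu hz
  have h0 : u 0 ≠ 0 := by
    intro h
    rw [h] at hu
    simp only [zero_mul, zero_add, mul_eq_zero, map_eq_zero, or_self] at hu
    apply hu0
    funext i
    fin_cases i
    · exact h
    · exact hu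
  have h1 : u 1 ≠ 0 := by
    intro h
    rw [h] at hu
    simp only [zero_mul, add_zero, mul_eq_zero, map_eq_zero, or_self] at hu
    exact h0 hu
  have hs1 : σ (u 1) ≠ 0 := (map_ne_zero σ).mpr h1
  refine ⟨z 0 / u 0, ?_⟩
  funext i
  fin_cases i
  · simp only [Fin.zero_eta, Pi.smul_apply, smul_eq_mul]
    field_simp
  · simp only [Fin.mk_one, Pi.smul_apply, smul_eq_mul]
    have e1 : u 1 * σ (u 1) = -(u 0 * σ (u 0)) := by linear_combination hu
    have e2 : z 1 * σ (u 1) = -(z 0 * σ (u 0)) := by linear_combination hz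
    have : z 1 * σ (u 1) = z 0 / u 0 * u 1 * σ (u 1) := by
      calc z 1 * σ (u 1) = -(z 0 * σ (u 0)) := e2
        _ = z 0 / u 0 * (-(u 0 * σ (u 0))) := by field_simp
        _ = z 0 / u 0 * u 1 * σ (u 1) := by rw [← e1]; ring
    exact mul_right_cancel₀ hs1 this

/-- a transvection moving the isotropic point `u₁` to the isotropic point `u` when `hf u₁ u ≠ 0`. -/
theorem utpextract_move_hyp (σ : F ≃+* F) (hσ : Inv2 σ) {ι : Type} [Fintype ι] [DecidableEq ι]
    (u u₁ : ι → F) (hu : hf σ u u = 0) (hu₁ : hf σ u₁ u₁ = 0) (h : hf σ u₁ u ≠ 0) :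
    ∃ α : Matrix.GeneralLinearGroup ι F, α ∈ SUm σ ι ∧ ∃ l : F, l ≠ 0 ∧
      (α : Matrix ι ι F) *ᵥ u₁ = l • u := by
  obtain ⟨m, hm0, hm⟩ := utpsg_skew_exists σ hσ
  set μ := m / hf σ u₁ u with hμ
  have huu₁ : hf σ u u₁ = σ (hf σ u₁ u) := hf_herm σ hσ u u₁
  have hy : hf σ (u + μ • u₁) (u + μ • u₁) = 0 := by
    simp only [hf_add_left, hf_add_right, hf_smul_left, hf_smul_right, hu, hu₁, huu₁]
    have h1 : μ * hf σ u₁ u = m := by rw [hμ]; field_simp
    have h2 : σ μ * σ (hf σ u₁ u) = -m := by rw [← map_mul, h1, hm]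
    linear_combination h1 + h2
  have hc : σ (-1 / m) = -(-1 / m) := by
    rw [map_div₀, map_neg, map_one, hm]
    field_simp
  obtain ⟨t, htS, ht⟩ := utpsg_tv_exists σ hσ (u + μ • u₁) hy (-1 / m) hc
  refine ⟨t, htS, (-1 / m) * hf σ u₁ u, ?_, ?_⟩
  · exact mul_ne_zero (div_ne_zero (neg_ne_zero.mpr one_ne_zero) hm0) h
  · rw [ht]
    have h3 : hf σ u₁ (u + μ • u₁) = hf σ u₁ u := by
      rw [hf_add_right, hf_smul_right, hu₁, mul_zero, add_zero]
    rw [h3, smul_add, smul_smul]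
    have h4 : -1 / m * hf σ u₁ u * μ = -1 := by
      rw [hμ]
      field_simp
    rw [h4]
    module

/-! ## a matrix with every isotropic vector as an eigenvector is scalar -/

theorem utpextract_hf_single (σ : F ≃+* F) (i j : Fin a) :
    hf σ (Pi.single i (1 : F) : Fin a → F) (Pi.single j (1 : F)) = if i = j then 1 else 0 := by
  simp only [hf, single_dotProduct, one_mul, cj, Pi.single_apply]
  split_ifs <;> simp

theorem utpextract_eigen_pair [Finite F] (σ : F ≃+* F) (hσ : Inv2 σ)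
    (ζ : Matrix (Fin a) (Fin a) F)
    (h : ∀ u : Fin a → F, hf σ u u = 0 → ∃ l : F, ζ *ᵥ u = l • u) (i j : Fin a) (hij : i ≠ j) :
    ∃ l : F, ζ *ᵥ (Pi.single i (1 : F) : Fin a → F) = l • (Pi.single i (1 : F) : Fin a → F) ∧
      ζ *ᵥ (Pi.single j (1 : F) : Fin a → F) = l • (Pi.single j (1 : F) : Fin a → F) := by
  obtain ⟨μ₀, hμ₀⟩ := utpsg_norm_surj σ hσ (-1) (by rw [map_neg, map_one])
  obtain ⟨x₀, hx₀⟩ := hσ.moved
  obtain ⟨c₀, hc₀0, hc₀⟩ := utpsg_skew_exists σ hσ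
  have hx₀0 : x₀ ≠ 0 := by
    rintro rfl
    exact hx₀ (map_zero σ)
  have hμ₀0 : μ₀ ≠ 0 := by
    rintro rfl
    simp at hμ₀
  set ρ := σ x₀ / x₀ with hρ
  have hρ1 : ρ ≠ 1 := by
    intro h1
    apply hx₀
    rw [hρ, div_eq_one_iff_eq hx₀0] at h1
    exact h1
  have hρN : ρ * σ ρ = 1 := by
    rw [hρ, map_div₀, hσ.invol]
    have : σ x₀ ≠ 0 := (map_ne_zero σ).mpr hx₀0
    field_simp
  set μ₁ := μ₀ * ρ with hμ₁
  have hμ₁N : μ₁ * σ μ₁ = -1 := by
    rw [hμ₁, map_mul]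
    linear_combination (ρ * σ ρ) * hμ₀ - hρN
  have hμne : μ₁ - μ₀ ≠ 0 := by
    rw [hμ₁]
    have : μ₀ * ρ - μ₀ = μ₀ * (ρ - 1) := by ring
    rw [this]
    exact mul_ne_zero hμ₀0 (sub_ne_zero.mpr hρ1)
  set ei : Fin a → F := Pi.single i 1 with hei
  set ej : Fin a → F := Pi.single j 1 with hej
  have hii : hf σ ei ei = 1 := by rw [hei, utpextract_hf_single, if_pos rfl]
  have hjj : hf σ ej ej = 1 := by rw [hej, utpextract_hf_single, if_pos rfl]
  have hij' : hf σ ei ej = 0 := by rw [hei, hej, utpextract_hf_single, if_neg hij]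
  have hji' : hf σ ej ei = 0 := by rw [hei, hej, utpextract_hf_single, if_neg (Ne.symm hij)]
  set x := ei + μ₀ • ej with hx
  set x' := ei + μ₁ • ej with hx'
  have hxiso : hf σ x x = 0 := by
    simp only [hx, hf_add_left, hf_add_right, hf_smul_left, hf_smul_right, hii, hjj, hij', hji']
    linear_combination hμ₀
  have hx'iso : hf σ x' x' = 0 := by
    simp only [hx', hf_add_left, hf_add_right, hf_smul_left, hf_smul_right, hii, hjj, hij', hji']
    linear_combination hμ₁N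
  have hx'x : hf σ x' x = 1 - ρ := by
    simp only [hx, hx', hf_add_left, hf_add_right, hf_smul_left, hf_smul_right, hii, hjj, hij', hji']
    rw [hμ₁]
    linear_combination ρ * hμ₀
  have h1ρ : (1 : F) - ρ ≠ 0 := sub_ne_zero.mpr (Ne.symm hρ1)
  set κ := c₀ / (1 - ρ) with hκ
  have hκ0 : κ ≠ 0 := div_ne_zero hc₀0 h1ρ
  have hxx' : hf σ x x' = σ (1 - ρ) := by rw [hf_herm σ hσ, hx'x]
  have hyiso : hf σ (x + κ • x') (x + κ • x') = 0 := by
    simp only [hf_add_left, hf_add_right, hf_smul_left, hf_smul_right, hxiso, hx'iso, hx'x, hxx']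
    have e1 : κ * (1 - ρ) = c₀ := by rw [hκ]; field_simp
    have e2 : σ κ * σ (1 - ρ) = -c₀ := by rw [← map_mul, e1, hc₀]
    linear_combination e1 + e2
  obtain ⟨l, hl⟩ := h x hxiso
  obtain ⟨l', hl'⟩ := h x' hx'iso
  obtain ⟨l'', hl''⟩ := h _ hyiso
  rw [Matrix.mulVec_add, Matrix.mulVec_smul, hl, hl'] at hl''
  have hxi : x i = 1 := by simp [hx, hei, hej, hij]
  have hxj : x j = μ₀ := by simp [hx, hei, hej, Ne.symm hij]
  have hx'i : x' i = 1 := by simp [hx', hei, hej, hij]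
  have hx'j : x' j = μ₁ := by simp [hx', hei, hej, Ne.symm hij]
  have eqi := congrFun hl'' i
  have eqj := congrFun hl'' j
  simp only [Pi.add_apply, Pi.smul_apply, smul_eq_mul, hxi, hxj, hx'i, hx'j] at eqi eqj
  have hl'l'' : l' = l'' := by
    have : κ * (μ₁ - μ₀) * (l' - l'') = 0 := by linear_combination eqj - μ₀ * eqi
    rcases mul_eq_zero.mp this with h0 | h0
    · exact absurd h0 (mul_ne_zero hκ0 hμne)
    · exact sub_eq_zero.mp h0
  have hll'' : l = l'' := by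
    rw [hl'l''] at eqi
    linear_combination eqi
  have hll' : l = l' := by rw [hll'', hl'l'']
  have hdiff : x' - x = (μ₁ - μ₀) • ej := by
    rw [hx, hx']
    module
  have hej' : ζ *ᵥ ej = l • ej := by
    have h3 : ζ *ᵥ (x' - x) = l • (x' - x) := by
      rw [Matrix.mulVec_sub, hl, hl', ← hll', smul_sub]
    rw [hdiff, Matrix.mulVec_smul, smul_comm] at h3
    exact smul_right_injective _ hμne h3
  refine ⟨l, ?_, hej'⟩
  have hei' : ei = x - μ₀ • ej := by rw [hx]; module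
  rw [hei', Matrix.mulVec_sub, Matrix.mulVec_smul, hl, hej']
  module

theorem utpextract_eigen [Finite F] (σ : F ≃+* F) (hσ : Inv2 σ) (ha : 2 ≤ a)
    (ζ : Matrix (Fin a) (Fin a) F)
    (h : ∀ u : Fin a → F, hf σ u u = 0 → ∃ l : F, ζ *ᵥ u = l • u) :
    ∃ c : F, ζ = c • (1 : Matrix (Fin a) (Fin a) F) := by
  set i₀ : Fin a := ⟨0, by omega⟩ with hi₀
  set j₀ : Fin a := ⟨1, by omega⟩ with hj₀
  have hij₀ : i₀ ≠ j₀ := by
    intro h
    have := congrArg Fin.val h
    simp [hi₀, hj₀] at this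
  obtain ⟨l₀, hl₀i, hl₀j⟩ := utpextract_eigen_pair σ hσ ζ h i₀ j₀ hij₀
  have hall : ∀ k : Fin a, ζ *ᵥ (Pi.single k (1 : F) : Fin a → F) = l₀ • (Pi.single k (1 : F) : Fin a → F) := by
    intro k
    by_cases hk : k = i₀
    · rw [hk]; exact hl₀i
    · obtain ⟨l, hli, hlk⟩ := utpextract_eigen_pair σ hσ ζ h i₀ k (Ne.symm hk)
      have : l = l₀ := by
        have e := hli.symm.trans hl₀i
        have := congrFun e i₀
        simpa using this
      rw [← this]
      exact hlk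
  refine ⟨l₀, ?_⟩
  ext i k
  have := congrFun (hall k) i
  simp only [Matrix.mulVec_single_one, Matrix.col_apply, Pi.smul_apply, smul_eq_mul, Pi.single_apply,
    Matrix.smul_apply, Matrix.one_apply] at this ⊢
  exact this

/-! ## transfer between isotropic points, and the main theorem -/

theorem utpextract_det_of_SUm (σ : F ≃+* F) {ι : Type} [Fintype ι] [DecidableEq ι]
    (α : Matrix.GeneralLinearGroup ι F) (hα : α ∈ SUm σ ι) : (α : Matrix ι ι F).det = 1 := by
  have h1 : Matrix.GeneralLinearGroup.det α = 1 := hα.2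
  have := congrArg Units.val h1
  simpa using this

theorem utpextract_transfer [Finite F] (σ : F ≃+* F) (hσ : Inv2 σ)
    (M : Subgroup (Matrix.GeneralLinearGroup (Fin a × Fin b) F)) (hTM : T0u σ a b ≤ M)
    (u u₁ : Fin a → F) (α : Matrix.GeneralLinearGroup (Fin a) F) (hα : α ∈ SUm σ (Fin a))
    (l : F) (hl : l ≠ 0) (hαu : (α : Matrix (Fin a) (Fin a) F) *ᵥ u₁ = l • u)
    (hP : ∀ c : F, σ c = -c → LamAu σ M (c • utpextract_R σ u₁ u₁)) :
    ∀ c : F, σ c = -c → LamAu σ M (c • utpextract_R σ u u) := by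
  obtain ⟨c₀, hc₀0, hc₀⟩ := utpsg_skew_exists σ hσ
  have h := lamAu_conj σ hσ M hTM α hα.1 (utpextract_det_of_SUm σ α hα) _ (hP c₀ hc₀)
  rw [Matrix.mul_smul, Matrix.smul_mul, utpextract_R_conj σ α hα.1, hαu, utpextract_R_smul_left,
    utpextract_R_smul_right, smul_smul, smul_smul] at h
  refine utpextract_P_of_one σ hσ M _ (c₀ * l * σ l) ?_ ?_ h
  · rw [map_mul, map_mul, hσ.invol, hc₀]
    ring
  · exact mul_ne_zero (mul_ne_zero hc₀0 hl) ((map_ne_zero σ).mpr hl)

/-- EXTRACT [L] a non-scalar `ζ ∈ Λ` gives the full root groups at all `u ⊗ w`, `u, w` isotropic. -/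
theorem xs_pure [Fintype F] (σ : F ≃+* F) (hσ : Inv2 σ) (ha : 2 ≤ a) (hb : 3 ≤ b)
    (hex : ¬ (a = 2 ∧ Fintype.card F = 4))
    (M : Subgroup (Matrix.GeneralLinearGroup (Fin a × Fin b) F)) (hTM : T0u σ a b ≤ M)
    (hMS : M ≤ SUm σ (Fin a × Fin b)) (ζ : Matrix (Fin a) (Fin a) F) (hζ : LamAu σ M ζ)
    (hns : ¬ ∃ c : F, ζ = c • (1 : Matrix (Fin a) (Fin a) F)) :
    ∀ (u : Fin a → F) (w : Fin b → F), cj σ u ⬝ᵥ u = 0 → cj σ w ⬝ᵥ w = 0 → ten u w ∈ XSu σ M := by
  -- `ζ` is skew-hermitian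
  obtain ⟨w₀, _, hw₀0, hw₀⟩ := exists_iso_in σ hσ (⊤ : Submodule F (Fin b → F))
    (by rw [finrank_top, Module.finrank_fin_fun]; omega)
  have hζskew : ∀ p p' : Fin a → F, hf σ (ζ *ᵥ p) p' + hf σ p (ζ *ᵥ p') = 0 :=
    elu_skew σ hσ ζ w₀ hw₀0 hw₀ (hMS ((LamAu_iff σ M ζ).1 hζ w₀ hw₀)).1
  have hzero : LamAu σ M (0 : Matrix (Fin a) (Fin a) F) := by
    have := lamAu_add σ M _ _ hζ (lamAu_neg σ M ζ hζ)
    rwa [add_neg_cancel] at this
  -- an isotropic vector which is not an eigenvector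
  have hne : ∃ u₁ : Fin a → F, hf σ u₁ u₁ = 0 ∧ ∀ l : F, ζ *ᵥ u₁ ≠ l • u₁ := by
    by_contra hcon
    push Not at hcon
    exact hns (utpextract_eigen σ hσ ha ζ (fun u hu => hcon u hu))
  obtain ⟨u₁, hu₁, hz₁⟩ := hne
  have hu₁0 : u₁ ≠ 0 := by
    rintro rfl
    exact hz₁ 0 (by simp)
  have hfu := utpsg_unitary σ hσ (ι := Fin a)
  -- the commutators with the transvections at `u₁`
  have hD : ∀ c : F, σ c = -c → LamAu σ M ((-c) • utpextract_E σ u₁ (ζ *ᵥ u₁) -
      (c ^ 2 * hf σ (ζ *ᵥ u₁) u₁) • utpextract_R σ u₁ u₁) := by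
    intro c hc
    obtain ⟨t, htS, ht⟩ := utpsg_tv_exists σ hσ u₁ hu₁ c hc
    have := utpextract_comm σ hσ M hTM t htS ζ hζ
    rwa [utpextract_tv_comm σ hσ ζ hζskew u₁ hu₁ c t ht] at this
  have hθs : σ (hf σ (ζ *ᵥ u₁) u₁) = -hf σ (ζ *ᵥ u₁) u₁ := by
    have := hζskew u₁ u₁
    rw [hf_herm σ hσ u₁ (ζ *ᵥ u₁)] at this
    linear_combination this
  -- rank one at `u₁`
  have hP₁ : ∀ c : F, σ c = -c → LamAu σ M (c • utpextract_R σ u₁ u₁) := by
    by_cases ha2 : a = 2
    · subst ha2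
      have hθ : hf σ (ζ *ᵥ u₁) u₁ ≠ 0 := by
        intro h0
        obtain ⟨l, hl⟩ := utpextract_fin2_perp σ u₁ (ζ *ᵥ u₁) hu₁ hu₁0 h0
        exact hz₁ l hl
      have h4 : Fintype.card F ≠ 4 := fun h => hex ⟨rfl, h⟩
      obtain ⟨s, hs, hs0, hs1⟩ := utpextract_fixed_exists σ hσ h4
      exact utpextract_trick σ hσ M _ _ _ hθ hθs hD s hs hs0 hs1
    · have ha3 : 3 ≤ a := by omega
      obtain ⟨c, hc0, hc⟩ := utpsg_skew_exists σ hσ
      have hnc : σ (-c) = -(-c) := by rw [map_neg, hc]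
      have hD' : LamAu σ M ((-c) • utpextract_E σ u₁ (ζ *ᵥ u₁) +
          (-(c ^ 2 * hf σ (ζ *ᵥ u₁) u₁)) • utpextract_R σ u₁ u₁) := by
        have := hD c hc
        rwa [sub_eq_add_neg, ← neg_smul] at this
      obtain ⟨τ₀, hτ₀⟩ := utpsg_trace_surj σ hσ 1 (map_one σ)
      by_cases hθ : hf σ (ζ *ᵥ u₁) u₁ = 0
      · have hnot : ζ *ᵥ u₁ ∉ Submodule.span F {u₁} := by
          intro hmem
          rw [Submodule.mem_span_singleton] at hmem
          obtain ⟨l, hl⟩ := hmem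
          exact hz₁ l hl.symm
        obtain ⟨n₁, hn₁⟩ := Cfsg.Agent.Lib.Helper28.UForm.lin_solve hfu ![u₁, ζ *ᵥ u₁]
          (Cfsg.Agent.Lib.Helper28.UForm.li2 u₁ (ζ *ᵥ u₁) hu₁0 hnot) ![0, τ₀]
        have h1 : hf σ n₁ u₁ = 0 := by simpa using hn₁ 0
        have h2 : hf σ n₁ (ζ *ᵥ u₁) = τ₀ := by simpa using hn₁ 1
        refine utpextract_K σ hσ M hTM u₁ hu₁ (-c) _ hnc (neg_ne_zero.mpr hc0) (ζ *ᵥ u₁) hθ hD' n₁ h1 ?_
        rw [hf_herm σ hσ (ζ *ᵥ u₁) n₁, h2, hσ.invol, add_comm, hτ₀]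
        exact one_ne_zero
      · -- an anisotropic vector in `u₁^⊥`
        have hdim := Cfsg.Agent.Lib.Helper28.UForm.finrank_ker_ge hfu ![u₁]
        obtain ⟨n, hnS, hnn⟩ := Cfsg.Agent.Lib.Helper28.UForm.exists_noniso hfu
          (LinearMap.ker (Cfsg.Agent.Lib.Helper28.UForm.perpMap hfu ![u₁])) (by omega)
        rw [Cfsg.Agent.Lib.Helper28.UForm.mem_ker_perpMap] at hnS
        have hnu : hf σ n u₁ = 0 := by simpa using hnS 0
        obtain ⟨d', hJ⟩ := utpextract_J σ hσ M hTM u₁ hu₁ (-c) _ (ζ *ᵥ u₁) hD' n hnu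
        set θ := hf σ (ζ *ᵥ u₁) u₁ with hθdef
        set ν := hf σ n n with hν
        refine utpextract_K σ hσ M hTM u₁ hu₁ (-c) d' hnc (neg_ne_zero.mpr hc0) (θ • n) ?_ hJ
          (σ (τ₀ / (θ * ν)) • n) ?_ ?_
        · rw [hf_smul_left, hnu, mul_zero]
        · rw [hf_smul_left, hnu, mul_zero]
        · have e : hf σ (θ • n) (σ (τ₀ / (θ * ν)) • n) = τ₀ := by
            rw [hf_smul_left, hf_smul_right, hσ.invol, ← hν]
            field_simp
          rw [e, hτ₀]
          exact one_ne_zero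
  -- all isotropic points
  intro u w hu hw
  rw [iso_iff] at hu
  apply utpextract_to_xs σ hσ M u hu _ w hw
  by_cases hu0 : u = 0
  · intro c _
    have : c • utpextract_R σ u u = 0 := by
      rw [hu0]
      unfold utpextract_R
      simp
    rw [this]
    exact hzero
  · by_cases ha2 : a = 2
    · subst ha2
      by_cases hh : hf σ u₁ u = 0
      · obtain ⟨l, hl⟩ := utpextract_fin2_perp σ u u₁ hu hu0 hh
        have hl0 : l ≠ 0 := by
          rintro rfl
          rw [zero_smul] at hl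
          exact hu₁0 hl
        exact utpextract_transfer σ hσ M hTM u u₁ 1 (Subgroup.one_mem _) l hl0
          (by rw [Units.val_one, Matrix.one_mulVec, hl]) hP₁
      · obtain ⟨α, hα, l, hl0, hl⟩ := utpextract_move_hyp σ hσ u u₁ hu hu₁ hh
        exact utpextract_transfer σ hσ M hTM u u₁ α hα l hl0 hl hP₁
    · have ha3 : 3 ≤ a := by omega
      obtain ⟨β, hβ, hdet, hβu⟩ := su_trans_iso σ hσ ha3 u₁ u hu₁0 hu0
        ((iso_iff σ u₁).2 hu₁) ((iso_iff σ u).2 hu)
      have hβS : β ∈ SUm σ (Fin a) := by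
        refine ⟨hβ, ?_⟩
        show Matrix.GeneralLinearGroup.det β = 1
        apply Units.ext
        simpa using hdet
      exact utpextract_transfer σ hσ M hTM u u₁ β hβS 1 one_ne_zero (by rw [hβu, one_smul]) hP₁

end Cfsg.Agent.Lib.helper6.UTP
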