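import Cfsg.Agent.Lib.helper6.UTP.Defs
import Cfsg.Agent.Lib.Helper22.UTPBTV
import Cfsg.Agent.Lib.Helper22.UTPC1G
import Cfsg.Agent.Lib.Helper27.UTPPGRPcore
import Cfsg.Agent.Lib.Helper19.UTPNScore
import Cfsg.Agent.Lib.Helper11.UTPMEETcore
import Cfsg.Agent.Lib.Helper24.UTPNOISOcore
import Cfsg.Agent.Lib.Helper22.UTPFARcore
import Cfsg.Agent.Lib.Helper11.UTPNEARcore
import Cfsg.Agent.Lib.Helper24.UTPSWAP
import Cfsg.Agent.Lib.Helper19.UTPSTAB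

/-!
# UTP FIN: the world `NTu` assembled from the landed cores (PGRP, NS, MEET, NOISO, FAR, NEAR) and STAB, C1G, BTV, SWAP.
The statements are those of the Skel under the leader's own names `utpfin_*` (the verbatim names belong to the row owners).
-/

set_option autoImplicit false
set_option linter.unusedVariables false
set_option linter.unusedSectionVars false

namespace Cfsg.Agent.Lib.helper6.UTP

open Matrix
open scoped Kronecker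
open Cfsg.Agent.Lib.helper7.TP

variable {F : Type*} [Field F] {a b : ℕ}

theorem utpfin_pgrp [Fintype F] (p : ℕ) [Fact p.Prime] [CharP F p] (σ : F ≃+* F) (hσ : Inv2 σ)
    (ha : 1 ≤ a) (hb : 3 ≤ b) (hdiv : ¬ b ∣ a)
    (M : Subgroup (Matrix.GeneralLinearGroup (Fin a × Fin b) F)) (hTM : T0u σ a b ≤ M)
    (hMS : M ≤ SUm σ (Fin a × Fin b)) (hNT : NTu σ M)
    (Q : Subgroup (Matrix.GeneralLinearGroup (Fin a × Fin b) F)) (hQM : Q ≤ M) (hQ : IsPGroup p Q)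
    (c : F) (hc : σ c = -c) (hc0 : c ≠ 0) (w : Fin b → F) (hw : w ≠ 0) (h : cj σ w ⬝ᵥ w = 0)
    (hx : EL (c • (1 : Matrix (Fin a) (Fin a) F)) w (cj σ w) h ∈ Q) : Q ≤ K0 a b F :=
  utppgrp_core p σ hσ ha hb hdiv M hTM hMS hNT
    (fun t ht hsq hrk => sqzero_kron_gen ha hb hdiv t ht hsq hrk)
    (fun w w' hw hw' hiso g hg hl => stab_u σ hσ ha hb M hTM hMS hNT w w' hw hw' hiso g hg hl)
    Q hQM hQ c hc hc0 w hw h hx

theorem utpfin_ns [Fintype F] (σ : F ≃+* F) (hσ : Inv2 σ) (ha : 1 ≤ a) (hb : 3 ≤ b) (hdiv : ¬ b ∣ a)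
    (M : Subgroup (Matrix.GeneralLinearGroup (Fin a × Fin b) F)) (hTM : T0u σ a b ≤ M)
    (hMS : M ≤ SUm σ (Fin a × Fin b)) (hNT : NTu σ M)
    (g : Matrix.GeneralLinearGroup (Fin a × Fin b) F) (hg : g ∈ M)
    (w₀ w : Fin b → F) (hw₀ : w₀ ≠ 0) (hw : w ≠ 0) (h₀ : cj σ w₀ ⬝ᵥ w₀ = 0) (h : cj σ w ⬝ᵥ w = 0)
    (hp : ∀ u : Fin a → F,
      ctr (cj σ w) ((g : Matrix (Fin a × Fin b) (Fin a × Fin b) F) *ᵥ ten u w₀) = 0) :
    ∃ w₁ : Fin b → F, w₁ ≠ 0 ∧ ∀ u : Fin a → F, ∃ u' : Fin a → F,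
      (g : Matrix (Fin a × Fin b) (Fin a × Fin b) F) *ᵥ ten u w₀ = ten u' w₁ :=
  utpns_core σ hσ ha hb hdiv M hTM hMS hNT
    (fun c hc w h => btv_mem σ hσ c hc w h)
    (fun w w' hw hw' hiso g hg hl => stab_u σ hσ ha hb M hTM hMS hNT w w' hw hw' hiso g hg hl)
    (fun t ht hsq hrk => sqzero_kron_gen ha hb hdiv t ht hsq hrk)
    g hg w₀ w hw₀ hw h₀ h hp

theorem utpfin_meet [Fintype F] (p : ℕ) [Fact p.Prime] [CharP F p] (σ : F ≃+* F) (hσ : Inv2 σ)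
    (ha : 1 ≤ a) (hb : 4 ≤ b) (hdiv : ¬ b ∣ a)
    (M : Subgroup (Matrix.GeneralLinearGroup (Fin a × Fin b) F)) (hTM : T0u σ a b ≤ M)
    (hMS : M ≤ SUm σ (Fin a × Fin b)) (hNT : NTu σ M)
    (g : Matrix.GeneralLinearGroup (Fin a × Fin b) F) (hg : g ∈ M) (hgK : g ∉ K0 a b F)
    (w₀ : Fin b → F) (hw₀ : w₀ ≠ 0) (h₀ : cj σ w₀ ⬝ᵥ w₀ = 0)
    (w : Fin b → F) (hw : w ≠ 0) (h : cj σ w ⬝ᵥ w = 0) (u : Fin a → F)
    (hv : ctr (cj σ w₀) (((g⁻¹ : Matrix.GeneralLinearGroup (Fin a × Fin b) F) :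
      Matrix (Fin a × Fin b) (Fin a × Fin b) F) *ᵥ ten u w) = 0) :
    ∃ u₀ : Fin a → F,
      ten u w = (g : Matrix (Fin a × Fin b) (Fin a × Fin b) F) *ᵥ ten u₀ w₀ :=
  utpmeet_core p σ hσ ha hb M hTM g hg hgK w₀ hw₀ h₀
    (fun Q hQM hQ c hc hc0 w hw h hx =>
      utpfin_pgrp p σ hσ ha (by omega) hdiv M hTM hMS hNT Q hQM hQ c hc hc0 w hw h hx)
    (fun w hw h hp => utpfin_ns σ hσ ha (by omega) hdiv M hTM hMS hNT g hg w₀ w hw₀ hw h₀ h hp)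
    (fun w₁ hw₁ hl => stab_u σ hσ ha (by omega) M hTM hMS hNT w₀ w₁ hw₀ hw₁ h₀ g hg hl)
    (fun t ht hsq hrk => sqzero_kron_gen ha (by omega) hdiv t ht hsq hrk)
    w hw h u hv

theorem utpfin_noiso [Fintype F] (p : ℕ) [Fact p.Prime] [CharP F p] (σ : F ≃+* F) (hσ : Inv2 σ)
    (ha : 1 ≤ a) (hb : 4 ≤ b) (hdiv : ¬ b ∣ a)
    (M : Subgroup (Matrix.GeneralLinearGroup (Fin a × Fin b) F)) (hTM : T0u σ a b ≤ M)
    (hMS : M ≤ SUm σ (Fin a × Fin b)) (hNT : NTu σ M)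
    (g : Matrix.GeneralLinearGroup (Fin a × Fin b) F) (hg : g ∈ M) (hgK : g ∉ K0 a b F)
    (w₀ : Fin b → F) (hw₀ : w₀ ≠ 0) (h₀ : cj σ w₀ ⬝ᵥ w₀ = 0) (u₀ : Fin a → F) (hu₀ : u₀ ≠ 0)
    (w : Fin b → F) (hw : w ≠ 0) (h : cj σ w ⬝ᵥ w = 0) :
    ctr (cj σ w) ((g : Matrix (Fin a × Fin b) (Fin a × Fin b) F) *ᵥ ten u₀ w₀) ≠ 0 :=
  utpnoiso_core σ hσ hb M
    (fun g' hg' hgK' w₀' hw₀' h₀' w' hw' h' u' hv' =>
      utpfin_meet p σ hσ ha hb hdiv M hTM hMS hNT g' hg' hgK' w₀' hw₀' h₀' w' hw' h' u' hv')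
    g hg hgK w₀ hw₀ h₀ u₀ hu₀ w hw h

theorem utpfin_far [Fintype F] (p : ℕ) [Fact p.Prime] [CharP F p] (σ : F ≃+* F) (hσ : Inv2 σ)
    (ha : 1 ≤ a) (hb : 4 ≤ b) (hab : a + 2 ≤ b)
    (M : Subgroup (Matrix.GeneralLinearGroup (Fin a × Fin b) F)) (hTM : T0u σ a b ≤ M)
    (hMS : M ≤ SUm σ (Fin a × Fin b)) (hNT : NTu σ M) : M ≤ K0 a b F := by
  have hdiv : ¬ b ∣ a := fun hd => by
    have := Nat.le_of_dvd (by omega) hd
    omega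
  exact utpfar_core σ hσ ha hab M
    (fun g' hg' hgK' w₀' hw₀' h₀' w' hw' h' u' hv' =>
      utpfin_meet p σ hσ ha hb hdiv M hTM hMS hNT g' hg' hgK' w₀' hw₀' h₀' w' hw' h' u' hv')
    (fun g' hg' hgK' w₀' hw₀' h₀' u₀' hu₀' w' hw' h' =>
      utpfin_noiso p σ hσ ha hb hdiv M hTM hMS hNT g' hg' hgK' w₀' hw₀' h₀' u₀' hu₀' w' hw' h')

theorem utpfin_near [Fintype F] (p : ℕ) [Fact p.Prime] [CharP F p] (σ : F ≃+* F) (hσ : Inv2 σ)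
    (ha : 4 ≤ a) (hab : b = a + 1)
    (M : Subgroup (Matrix.GeneralLinearGroup (Fin a × Fin b) F)) (hTM : T0u σ a b ≤ M)
    (hMS : M ≤ SUm σ (Fin a × Fin b)) (hNT : NTu σ M)
    (hNT' : NTu σ (M.map (swp a b F).toMonoidHom)) : M ≤ K0 a b F := by
  classical
  have hdiv : ¬ b ∣ a := fun hd => by
    have := Nat.le_of_dvd (by omega) hd
    omega
  have hdiv' : ¬ a ∣ b := fun hd => by
    rw [hab] at hd
    have h1 : a ∣ 1 := (Nat.dvd_add_right (dvd_refl a)).mp hd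
    have := Nat.le_of_dvd (by omega) h1
    omega
  obtain ⟨f1, f2, f3, -⟩ := swp_facts (a := a) (b := b) σ
  have hT' : T0u σ b a ≤ M.map (swp a b F).toMonoidHom := by
    rw [← f3]
    exact Subgroup.map_mono hTM
  have hS' : M.map (swp a b F).toMonoidHom ≤ SUm σ (Fin b × Fin a) := by
    rintro _ ⟨m, hm, rfl⟩
    exact (f2 m).2 (hMS hm)
  intro g hg
  by_contra hgK
  obtain ⟨w₀, -, hw₀, h₀⟩ := exists_iso_in σ hσ (⊤ : Submodule F (Fin b → F))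
    (by rw [finrank_top, Module.finrank_fin_fun]; omega)
  exact utpnear_core p σ hσ ha hab M hTM
    (fun Q hQM hQ c hc hc0 u hu h hx =>
      utpfin_pgrp p σ hσ (by omega) (by omega) hdiv' (M.map (swp a b F).toMonoidHom) hT' hS' hNT'
        Q hQM hQ c hc hc0 u hu h hx)
    g hg w₀ hw₀ h₀
    (fun u₀ hu₀ w hw h =>
      utpfin_noiso p σ hσ (by omega) (by omega) hdiv M hTM hMS hNT g hg hgK w₀ hw₀ h₀ u₀ hu₀ w hw h)

end Cfsg.Agent.Lib.helper6.UTP
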