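import Cfsg.Agent.Lib.helper6.UTPWORLD
import Cfsg.Agent.Lib.helper6.UTPFIN
import Cfsg.Agent.Lib.Helper24.UTPPROPER
import Cfsg.Agent.Lib.Helper24.UTPSWAP

/-!
# UTP STD: maximality in the standard model (assembly of PROPER, WORLD, FAR, NEAR, SWAP)
-/

set_option autoImplicit false
set_option linter.unusedVariables false
set_option linter.unusedSectionVars false

namespace Cfsg.Agent.Lib.helper6.UTP

open Matrix
open scoped Kronecker
open Cfsg.Agent.Lib.helper7.TP

variable {F : Type*} [Field F] {a b : ℕ}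

/-- pulling back along the swap. -/
theorem utpstd_swap_back (σ : F ≃+* F)
    (M : Subgroup (Matrix.GeneralLinearGroup (Fin a × Fin b) F))
    (h : SUm σ (Fin b × Fin a) ≤ M.map (swp a b F).toMonoidHom) : SUm σ (Fin a × Fin b) ≤ M := by
  intro g hg
  have h1 : swp a b F g ∈ SUm σ (Fin b × Fin a) := ((swp_facts (a := a) (b := b) σ).2.1 g).2 hg
  obtain ⟨m, hm, hmg⟩ := h h1
  have : m = g := (swp a b F).injective hmg
  rw [← this]
  exact hm

/-- STD [M] maximality in the standard model.  (PROPER; `M` between: `¬ NTu σ M`: WORLD.  `NTu σ M`: `a + 2 ≤ b`: FAR; `b = a + 1` (`a ≥ 4`): WORLD for the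
swapped `M` (SWAP) or NEAR.) -/
theorem std_max_u [Fintype F] (σ : F ≃+* F) (hσ : Inv2 σ) (ha : 2 ≤ a) (hab : a < b) (hn : 13 ≤ a * b)
    (hex : ¬ (a = 2 ∧ Fintype.card F = 4)) :
    Cfsg.Geo.IsMaximalIn (SUm σ (Fin a × Fin b)) (T0u σ a b) := by
  have hb5 : 5 ≤ b := by
    by_contra hcon
    have hb : b ≤ 4 := by omega
    have ha3 : a ≤ 3 := by omega
    have : a * b ≤ 3 * 4 := Nat.mul_le_mul ha3 hb
    omega
  obtain ⟨p, hp⟩ := CharP.exists F
  have : CharP F p := hp
  have : Fact p.Prime := ⟨CharP.char_is_prime F p⟩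
  refine ⟨T0u_lt_SUm σ hσ ha (by omega), ?_⟩
  intro M hTM hMS
  have key : M ≤ K0 a b F ∨ SUm σ (Fin a × Fin b) ≤ M := by
    by_cases hNT : NTu σ M
    · by_cases hfar : a + 2 ≤ b
      · exact Or.inl (utpfin_far p σ hσ (by omega) (by omega) hfar M hTM hMS hNT)
      · have hab1 : b = a + 1 := by omega
        have ha4 : 4 ≤ a := by
          by_contra hcon
          have ha3 : a ≤ 3 := by omega
          have hb4 : b ≤ 4 := by omega
          have : a * b ≤ 3 * 4 := Nat.mul_le_mul ha3 hb4
          omega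
        by_cases hNT' : NTu σ (M.map (swp a b F).toMonoidHom)
        · exact Or.inl (utpfin_near p σ hσ ha4 hab1 M hTM hMS hNT hNT')
        · right
          have hT' : T0u σ b a ≤ M.map (swp a b F).toMonoidHom := by
            rw [← (swp_facts (a := a) (b := b) σ).2.2.1]
            exact Subgroup.map_mono hTM
          have hS' : M.map (swp a b F).toMonoidHom ≤ SUm σ (Fin b × Fin a) := by
            rintro _ ⟨m, hm, rfl⟩
            exact ((swp_facts (a := a) (b := b) σ).2.1 m).2 (hMS hm)
          have hfull' : SUm σ (Fin b × Fin a) ≤ M.map (swp a b F).toMonoidHom :=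
            su_le_of_not_nt σ hσ (by omega) (by omega) (Or.inr ha4)
              (by rw [Nat.mul_comm]; omega) (by omega) (by omega) _ hT' hS' hNT'
          exact utpstd_swap_back σ M hfull'
    · exact Or.inr
        (su_le_of_not_nt σ hσ ha (by omega) (Or.inr (by omega)) (by omega) hex (by omega) M hTM hMS hNT)
  rcases key with hK | hS
  · exact Or.inl (le_antisymm (le_inf hK hMS) hTM)
  · exact Or.inr (le_antisymm hMS hS)

end Cfsg.Agent.Lib.helper6.UTP
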