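import Cfsg.Agent.Lib.helper6.UTP.Defs
import Cfsg.Agent.Lib.helper2.UTPFLAG
import Cfsg.Agent.Lib.helper6.UTPEXTRACT
import Cfsg.Agent.Lib.Helper24.UTPISOANY
import Cfsg.Agent.Lib.helper4.UTPPLANE
import Cfsg.Agent.Lib.Helper11.UTPALLTV
import Cfsg.Agent.Lib.Helper27.UTPSUGEN

/-!
# UTP WORLD: the world `Λ ≠ F` (assembly of FLAG, EXTRACT, ISOANY, PLANE, ALLTV, SUGEN)
-/

set_option autoImplicit false
set_option linter.unusedVariables false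
set_option linter.unusedSectionVars false

namespace Cfsg.Agent.Lib.helper6.UTP

open Matrix
open scoped Kronecker
open Cfsg.Agent.Lib.helper7.TP

variable {F : Type*} [Field F] {a b : ℕ}

/-- WORLD [M] the dichotomy in one model: `Λ ≠ F` gives `M = SU`.  (FLAG, EXTRACT, ISOANY, PLANE, ALLTV, SUGEN.) -/
theorem su_le_of_not_nt [Fintype F] (σ : F ≃+* F) (hσ : Inv2 σ) (ha : 2 ≤ a) (hb : 3 ≤ b)
    (hb4 : a = 2 ∨ 4 ≤ b) (hn : 7 ≤ a * b) (hex : ¬ (a = 2 ∧ Fintype.card F = 4))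
    (hex' : ¬ (b = 3 ∧ Fintype.card F = 4))
    (M : Subgroup (Matrix.GeneralLinearGroup (Fin a × Fin b) F)) (hTM : T0u σ a b ≤ M)
    (hMS : M ≤ SUm σ (Fin a × Fin b)) (hNT : ¬ NTu σ M) : SUm σ (Fin a × Fin b) ≤ M := by
  have hex0 : ∃ ζ, LamEu σ M ζ ∧ ¬ ∃ c : F, ζ = c • (1 : Matrix (Fin a) (Fin a) F) := by
    by_contra hcon
    apply hNT
    intro ζ hζ
    by_contra hc
    exact hcon ⟨ζ, hζ, hc⟩
  obtain ⟨ζ, hζE, hns⟩ := hex0
  have hζA : LamAu σ M ζ := lamAu_of_lamEu σ hσ hb M hTM ζ hζE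
  have hpure := xs_pure σ hσ ha hb hex M hTM hMS ζ hζA hns
  have hany := xs_iso_any σ hσ ha hb hex' M hTM hMS hpure
  have hall := alltv_of_plane σ hσ ha hb hb4 M hMS
    (fun u u' hu hu' huu' m m' hv => xs_plane σ hσ M hany u u' hu hu' huu' m m' hv)
  exact su_le_of_alltv σ hσ hn M hall

end Cfsg.Agent.Lib.helper6.UTP
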