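import Mathlib
import Cfsg.Agent.Lib.Helper27.VF.Defs
import Cfsg.Agent.Lib.Helper27.VF.FGa

/-! Project VF (S5286), piece FGd (helper6): stripping the first and the last letter of a word. -/

set_option autoImplicit false

namespace Cfsg.Agent.Lib.Helper27.VF

section FG
variable {α : Type*}

/-- if `(lt x b)⁻¹ * w` is shorter than `w` then the reduced word of `w` starts with `(x, b)` -/
theorem h6_tw_of_first (x : α) (b : Bool) (w : FreeGroup α)
    (h : nm ((lt x b)⁻¹ * w) + 1 = nm w) :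
    h27_tw w = (x, b) :: h27_tw ((lt x b)⁻¹ * w) := by
  rw [lt_inv] at h ⊢
  rcases h27_tw_lt_mul x (!b) w with h1 | h1
  · exfalso
    rw [h27_nm_eq, h27_nm_eq, h1] at h
    simp at h
    omega
  · simpa using h1

/-- if `w * lt y c` is shorter than `w` then the reduced word of `w` ends with `(y, !c)` -/
theorem h6_tw_of_last (y : α) (c : Bool) (w : FreeGroup α)
    (h : nm (w * lt y c) + 1 = nm w) :
    ∃ K : List (α × Bool), h27_tw w = K ++ [(y, !c)] := by
  have h' : nm ((lt y c)⁻¹ * w⁻¹) + 1 = nm w⁻¹ := by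
    rw [← mul_inv_rev, nm_inv, nm_inv]; exact h
  have h1 := h6_tw_of_first y c w⁻¹ h'
  rw [h27_tw_inv] at h1
  refine ⟨FreeGroup.invRev (h27_tw ((lt y c)⁻¹ * w⁻¹)), ?_⟩
  have h2 := congrArg FreeGroup.invRev h1
  rw [FreeGroup.invRev_invRev, FreeGroup.invRev_cons] at h2
  rw [h2]
  simp [FreeGroup.invRev]

/-- duplicate of VF-FGd (the official `nm_strip` is in `Helper13/VFFGd.lean`); kept under another name -/
theorem h6_nm_strip_dup (x y : α) (b c : Bool) (w : FreeGroup α)
    (h1 : nm ((lt x b)⁻¹ * w) + 1 = nm w) (h2 : nm (w * lt y c) + 1 = nm w)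
    (h3 : 2 ≤ nm w) : nm ((lt x b)⁻¹ * w * lt y c) + 2 = nm w := by
  set w₁ := (lt x b)⁻¹ * w with hw₁
  have e1 := h6_tw_of_first x b w h1
  obtain ⟨K, e2⟩ := h6_tw_of_last y c w h2
  -- `tw w₁` is nonempty and ends with `(y, !c)`
  have hlen : nm w₁ + 1 = nm w := h1
  have hne : h27_tw w₁ ≠ [] := by
    intro h0
    rw [h27_nm_eq w₁, h0] at hlen
    simp at hlen
    omega
  obtain ⟨M, hM⟩ : ∃ M, h27_tw w₁ = M ++ [(y, !c)] := by
    rw [e1] at e2
    rcases K with _ | ⟨k, K'⟩
    · exfalso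
      simp only [List.nil_append, List.cons.injEq] at e2
      exact hne e2.2
    · simp only [List.cons_append, List.cons.injEq] at e2
      exact ⟨K', e2.2⟩
  -- `w₁ * lt y c = mk M`
  have hMred : FreeGroup.IsReduced M := by
    have := h27_tw_reduced w₁
    rw [hM] at this
    exact this.infix (List.prefix_append M _).isInfix
  have hw1 : w₁ * lt y c = FreeGroup.mk M := by
    rw [← h27_mk_tw w₁, hM, h27_mk_append]
    have : (FreeGroup.mk [(y, !c)] : FreeGroup α) = (lt y c)⁻¹ := by rw [lt_inv]; rfl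
    rw [this, mul_assoc, inv_mul_cancel, mul_one]
  have hnm : nm (w₁ * lt y c) + 1 = nm w₁ := by
    rw [hw1, h27_nm_eq, h27_nm_eq, h27_tw_mk hMred, hM]
    simp
  omega

end FG

end Cfsg.Agent.Lib.Helper27.VF
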