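import Mathlib
import Cfsg.Agent.Lib.helper6.ZassFeitNB

set_option autoImplicit false

universe u v

namespace Cfsg.Agent.Lib.helper6.ZassFeitNA

open MulAction Cfsg.Agent.Lib.helper6.ZassPSL3 Cfsg.Agent.Lib.helper6.ZassFeit
  Cfsg.Agent.Lib.helper6.ZassNormal Cfsg.Agent.Lib.helper6.ZassInvol

section KLN

variable {G : Type*} {Ω : Type*} [Group G] [MulAction G Ω]
variable {pinf p0 : Ω} {KG : Subgroup G}

/-- a normal subgroup meeting the two-point stabiliser nontrivially contains the kernel -/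
theorem kernel_le_normal' [Finite G] (Z : ZK G Ω pinf p0 KG) (M : Subgroup G) [hMn : M.Normal]
    {m : G} (hmM : m ∈ M) (hm1 : m ≠ 1) (hmi : m • pinf = pinf) (hm0 : m • p0 = p0) : KG ≤ M := by
  classical
  have hmem : ∀ u : KG, m * (u : G) * m⁻¹ * (u : G)⁻¹ ∈ KG ⊓ M := by
    intro u
    refine Subgroup.mem_inf.mpr ⟨?_, ?_⟩
    · exact KG.mul_mem (Z.knorm m hmi u u.2) (KG.inv_mem u.2)
    · have h1 : (u : G) * m⁻¹ * (u : G)⁻¹ ∈ M := hMn.conj_mem _ (M.inv_mem hmM) _
      have e : m * (u : G) * m⁻¹ * (u : G)⁻¹ = m * ((u : G) * m⁻¹ * (u : G)⁻¹) := by group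
      rw [e]
      exact M.mul_mem hmM h1
  let f : KG → ↥(KG ⊓ M) := fun u => ⟨_, hmem u⟩
  have hinj : Function.Injective f := by
    intro u v huv
    have h1 : m * (u : G) * m⁻¹ * (u : G)⁻¹ = m * (v : G) * m⁻¹ * (v : G)⁻¹ :=
      congrArg Subtype.val huv
    set w : G := (v : G)⁻¹ * (u : G) with hw
    have hwK : w ∈ KG := KG.mul_mem (KG.inv_mem v.2) u.2
    have h2 : m * w * m⁻¹ = w := by
      have e1 : m * w * m⁻¹ = (m * (v : G) * m⁻¹)⁻¹ * (m * (u : G) * m⁻¹) := by
        rw [hw]; group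
      have e2 : m * (u : G) * m⁻¹ = m * (v : G) * m⁻¹ * (v : G)⁻¹ * (u : G) := by
        have := congrArg (fun z => z * (u : G)) h1
        simpa [mul_assoc] using this
      rw [e1, e2, hw]
      group
    by_contra hne
    have hw1 : w ≠ 1 := by
      intro h
      apply hne
      apply Subtype.ext
      have : (v : G) * w = (v : G) := by rw [h, mul_one]
      rw [hw] at this
      simpa using this
    exact hm1 (Z.H_semireg hmi hm0 hwK hw1 h2)
  have hcard : Nat.card KG ≤ Nat.card ↥(KG ⊓ M) := Nat.card_le_card_of_injective f hinj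
  have heq : KG ⊓ M = KG := Subgroup.eq_of_le_of_card_ge inf_le_left hcard
  rw [← heq]
  exact inf_le_right

end KLN

/-- transfer of the conclusion along an isomorphism -/
theorem transfer_concl {A B : Type*} [Group A] [Group B] (φ : A ≃* B) (c : ℕ)
    (hA : IsPGroup 2 A ∧ (∃ u v : A, u * v ≠ v * u) ∧ (commutator A).index ≤ c) :
    IsPGroup 2 B ∧ (∃ u v : B, u * v ≠ v * u) ∧ (commutator B).index ≤ c := by
  obtain ⟨h1, ⟨u, v, huv⟩, h3⟩ := hA
  refine ⟨h1.of_equiv φ, ⟨φ u, φ v, ?_⟩, ?_⟩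
  · intro h
    apply huv
    apply φ.injective
    rw [map_mul, map_mul, h]
  · have e1 : (commutator A).map φ.toMonoidHom = commutator B := by
      rw [commutator_def, Subgroup.map_commutator, commutator_def,
        Subgroup.map_top_of_surjective _ φ.surjective]
    rw [← e1, Subgroup.index_map_of_bijective φ.bijective]
    exact h3

/-- Feit's theorem for Zassenhaus groups with odd two-point stabilisers: induction on the order -/
theorem feit_aux {Ω : Type v} [Fintype Ω] (a b : Ω) (hab : a ≠ b) (h : ℕ)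
    (hh : Fintype.card Ω = h + 1) :
    ∀ n : ℕ, ∀ (G : Type u) [Group G] [MulAction G Ω] [Finite G], Nat.card G = n →
      Cfsg.IsZassenhausGroup G Ω → ∀ H : Subgroup G, H ≤ stabilizer G a →
      Nat.card H + 1 = Fintype.card Ω → (∀ u ∈ H, u ≠ 1 → ∀ c : Ω, u • c = c → c = a) →
      ∀ e : ℕ, Nat.card ↥(stabilizer G a ⊓ stabilizer G b : Subgroup G) = e → Odd e →
      h - 1 ≤ 2 * e ∨ (IsPGroup 2 H ∧ (∃ u v : H, u * v ≠ v * u) ∧
        (commutator H).index ≤ 4 * e ^ 2 + 1) := by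
  intro n
  induction n using Nat.strong_induction_on with
  | _ n ih =>
  intro G _ _ _ hn hZ H hHa hHcard hHfix e he hodd
  classical
  by_cases hle : h - 1 ≤ 2 * e
  · exact Or.inl hle
  push Not at hle
  by_cases hs : IsSimpleGroup G
  · right
    exact feit_simple hZ hab h e hh he hodd hle H hHa hHcard hHfix
  -- a proper nontrivial normal subgroup
  have D := ZData.of_zass hZ
  haveI := D.faithful
  obtain ⟨g0, hg01, a0, b0, hab0, hg0a, hg0b⟩ := hZ.2.2.2.1
  haveI : Nontrivial G := ⟨⟨g0, 1, hg01⟩⟩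
  have hex : ∃ M : Subgroup G, M.Normal ∧ M ≠ ⊥ ∧ M ≠ ⊤ := by
    by_contra hcon
    push Not at hcon
    apply hs
    refine ⟨?_⟩
    intro M hM
    by_contra h
    push Not at h
    exact h.2 (hcon M hM h.1)
  obtain ⟨M, hMn, hMbot, hMtop⟩ := hex
  haveI := hMn
  have hZM : Cfsg.IsZassenhausGroup M Ω := zass_normal hZ M hMbot
  obtain ⟨Z, -⟩ := zk_of_H hZ hab H hHa hHcard hHfix
  -- a nontrivial element of `M` fixing both marked points
  obtain ⟨g, hg1, a', b', hab', hga, hgb⟩ := hZM.2.2.2.1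
  obtain ⟨n', hn'M, hn'a, hn'b⟩ := two_trans_normal D M hMbot hab hab' hab
  have hmM : n' * (g : G) * n'⁻¹ ∈ M := M.mul_mem (M.mul_mem hn'M g.2) (M.inv_mem hn'M)
  have hm1 : n' * (g : G) * n'⁻¹ ≠ 1 := by
    intro h
    apply hg1
    apply Subtype.ext
    have : (g : G) = n'⁻¹ * (n' * (g : G) * n'⁻¹) * n' := by group
    rw [this, h]
    simp
  have hga' : (g : G) • a' = a' := hga
  have hgb' : (g : G) • b' = b' := hgb
  have hmi : (n' * (g : G) * n'⁻¹) • a = a := by
    rw [mul_smul, mul_smul, ← hn'a, inv_smul_smul, hga']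
  have hm0 : (n' * (g : G) * n'⁻¹) • b = b := by
    rw [mul_smul, mul_smul, ← hn'b, inv_smul_smul, hgb']
  have hKM : H ≤ M := kernel_le_normal' Z M hmM hm1 hmi hm0
  -- the data for M
  set HM : Subgroup M := H.subgroupOf M with hHM
  have hHMa : HM ≤ stabilizer M a := by
    intro x hx
    rw [hHM, Subgroup.mem_subgroupOf] at hx
    rw [mem_stabilizer_iff]
    exact mem_stabilizer_iff.mp (hHa hx)
  have hHMcard : Nat.card HM + 1 = Fintype.card Ω := by
    rw [← hHcard]
    congr 1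
    exact Nat.card_congr (Subgroup.subgroupOfEquivOfLe hKM).toEquiv
  have hHMfix : ∀ u ∈ HM, u ≠ 1 → ∀ c : Ω, u • c = c → c = a := by
    intro u hu hu1 c hc
    rw [hHM, Subgroup.mem_subgroupOf] at hu
    exact hHfix (u : G) hu (fun h => hu1 (Subtype.ext h)) c hc
  have hdvd := card_E_dvd M a b
  rw [he] at hdvd
  have hoddM : Odd (Nat.card ↥(stabilizer M a ⊓ stabilizer M b : Subgroup M)) :=
    Odd.of_dvd_nat hodd hdvd
  have hlt : Nat.card M < n := by
    rw [← hn]
    apply lt_of_le_of_ne (Subgroup.card_le_card_group M)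
    intro h
    exact hMtop ((Subgroup.card_eq_iff_eq_top M).mp h)
  have heMle : Nat.card ↥(stabilizer M a ⊓ stabilizer M b : Subgroup M) ≤ e :=
    Nat.le_of_dvd (by rw [← he]; exact Nat.card_pos) hdvd
  rcases ih (Nat.card M) hlt M rfl hZM HM hHMa hHMcard hHMfix _ rfl hoddM with h1 | h2
  · left
    omega
  · right
    have hc : 4 * Nat.card ↥(stabilizer M a ⊓ stabilizer M b : Subgroup M) ^ 2 + 1 ≤ 4 * e ^ 2 + 1 := by
      have := Nat.pow_le_pow_left heMle 2
      omega
    have h3 : IsPGroup 2 HM ∧ (∃ u v : HM, u * v ≠ v * u) ∧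
        (commutator HM).index ≤ 4 * e ^ 2 + 1 := ⟨h2.1, h2.2.1, le_trans h2.2.2 hc⟩
    exact transfer_concl (Subgroup.subgroupOfEquivOfLe hKM) _ h3

end Cfsg.Agent.Lib.helper6.ZassFeitNA
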