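import Mathlib
import Cfsg.Agent.Lib.helper6.ZassInvol
import Cfsg.Agent.Lib.helper6.NilpInvol
import Cfsg.Agent.Lib.helper6.ZassReg

set_option autoImplicit false

namespace Cfsg.Agent.Lib.helper6.ZassInvolK

open MulAction Cfsg.Agent.Lib.helper6.ZassInvol

variable {G Ω : Type*} [Group G] [MulAction G Ω] [Finite G] [Fintype Ω]

/-- A non-identity element fixing only `a` which is a product of two involutions is an
involution (simple Zassenhaus group with odd two-point stabiliser). -/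
theorem prod_invol (hZ : Cfsg.IsZassenhausGroup G Ω) [IsSimpleGroup G] {a b : Ω} (hab : a ≠ b)
    (hodd : Odd (Nat.card ↥(stabilizer G a ⊓ stabilizer G b)))
    {u x y : G} (hu1 : u ≠ 1) (hua : u • a = a) (hufix : ∀ c : Ω, u • c = c → c = a)
    (hx : orderOf x = 2) (hy : orderOf y = 2) (hxy : x * y = u) : orderOf u = 2 := by
  classical
  obtain ⟨hf, h2, h3, ⟨n0, hn01, a', b', hab', hn0a, hn0b⟩, -⟩ := id hZ
  haveI := hf
  have two : ∀ {x y z w : Ω}, x ≠ y → z ≠ w → ∃ g : G, g • x = z ∧ g • y = w :=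
    fun hxy hzw => MulAction.is_two_pretransitive_iff.mp h2 hxy hzw
  have hxx : x * x = 1 := by rw [← pow_two, ← hx]; exact pow_orderOf_eq_one x
  have hyy : y * y = 1 := by rw [← pow_two, ← hy]; exact pow_orderOf_eq_one y
  have hxinv : x⁻¹ = x := inv_eq_of_mul_eq_one_left hxx
  have hyinv : y⁻¹ = y := inv_eq_of_mul_eq_one_left hyy
  -- x fixes a
  have hxu : x * u = u⁻¹ * x := by
    rw [← hxy, mul_inv_rev, hxinv, hyinv]
    calc x * (x * y) = (x * x) * y := by group
      _ = y * (x * x) := by rw [hxx]; group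
      _ = y * x * x := by group
  have hxa : x • a = a := by
    apply hufix
    have : u⁻¹ • (x • a) = x • a := by rw [← mul_smul, ← hxu, mul_smul, hua]
    rw [inv_smul_eq_iff] at this
    exact this.symm
  have hya : y • a = a := by
    have : y = x * u := by rw [← hxy, ← mul_assoc, hxx, one_mul]
    rw [this, mul_smul, hua, hxa]
  -- x fixes only a
  have hfx := fixed_count hZ hab hodd hx
  have hamem : a ∈ fixedBy Ω x := hxa
  have hpos : 0 < Nat.card (fixedBy Ω x) := Nat.card_pos_iff.mpr ⟨⟨⟨a, hamem⟩⟩, inferInstance⟩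
  have hcard1 : Nat.card (fixedBy Ω x) = 1 := by
    by_cases hn : Odd (Fintype.card Ω)
    · rw [if_pos hn] at hfx; exact hfx
    · rw [if_neg hn] at hfx; omega
  have hxfix : ∀ c : Ω, x • c = c → c = a := by
    intro c hc
    rw [Nat.card_coe_set_eq, Set.ncard_eq_one] at hcard1
    obtain ⟨d, hd⟩ := hcard1
    have h1 : a ∈ ({d} : Set Ω) := hd ▸ hamem
    have h2 : c ∈ ({d} : Set Ω) := by rw [← hd]; exact hc
    rw [Set.mem_singleton_iff] at h1 h2
    rw [h1, h2]
  -- kernel data
  obtain ⟨g0, hga, hgb⟩ := two hab' hab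
  have hn1 : g0 * n0 * g0⁻¹ ≠ 1 := by
    intro h
    apply hn01
    have : n0 = g0⁻¹ * (g0 * n0 * g0⁻¹) * g0 := by group
    rw [this, h]; group
  have hn1a : (g0 * n0 * g0⁻¹) • a = a := by
    rw [mul_smul, mul_smul, ← hga, inv_smul_smul, hn0a]
  have hn1b : (g0 * n0 * g0⁻¹) • b = b := by
    rw [mul_smul, mul_smul, ← hgb, inv_smul_smul, hn0b]
  obtain ⟨KG, hKnil, kfix, kfpf, ktr, knorm⟩ :=
    Cfsg.Agent.Lib.helper6.ZassReg.kernel_data two h3 hab hn1 hn1a hn1b
  -- involutions fixing a lie in KG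
  have hinK : ∀ t : G, t * t = 1 → t • a = a → t ∈ KG := by
    intro t htt hta
    have htb : t • b ≠ a := by
      intro h
      rw [← hta] at h
      exact hab (MulAction.injective t h).symm
    obtain ⟨k, hk, hkb⟩ := ktr b (t • b) (Ne.symm hab) htb
    set ε : G := k⁻¹ * t with hε
    have hεa : ε • a = a := by
      rw [hε, mul_smul, hta, inv_smul_eq_iff, kfix k hk]
    have hεb : ε • b = b := by
      rw [hε, mul_smul, inv_smul_eq_iff, hkb]
    have hεE : ε ∈ stabilizer G a ⊓ stabilizer G b :=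
      Subgroup.mem_inf.mpr ⟨mem_stabilizer_iff.mpr hεa, mem_stabilizer_iff.mpr hεb⟩
    have ht : t = k * ε := by rw [hε]; group
    have hεε : ε * ε ∈ KG := by
      have h1 : k * (ε * k * ε⁻¹) * (ε * ε) = 1 := by
        calc k * (ε * k * ε⁻¹) * (ε * ε) = (k * ε) * (k * ε) := by group
          _ = 1 := by rw [← ht, htt]
      have h2 : ε * ε = (k * (ε * k * ε⁻¹))⁻¹ := by
        rw [eq_inv_iff_mul_eq_one, mul_eq_one_iff_eq_inv.mp h1]
        group
      rw [h2]
      exact KG.inv_mem (KG.mul_mem hk (knorm ε hεa k hk))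
    have hεε1 : ε * ε = 1 := by
      by_contra hne
      exact kfpf _ hεε hne b (Ne.symm hab) (by rw [mul_smul, hεb, hεb])
    have hε1 : ε = 1 := eq_one_of_sq hZ hab hodd hab hεE hεε1
    rw [ht, hε1, mul_one]
    exact hk
  have hxK : x ∈ KG := hinK x hxx hxa
  have hyK : y ∈ KG := hinK y hyy hya
  haveI := hKnil
  obtain ⟨z, hzK, hz2, hzc⟩ := Cfsg.Agent.Lib.helper6.NilpInvol.exists_central_invol KG hxK hx
  obtain ⟨g, hg⟩ := isConj_iff.mp (invol_conj hZ hab hodd hz2 hx)
  have hga' : g • a = a := by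
    apply hxfix
    rw [← hg, mul_smul, mul_smul, inv_smul_smul, kfix z hzK]
  have hginva : g⁻¹ • a = a := by rw [inv_smul_eq_iff, hga']
  have hpK : g⁻¹ * y * g ∈ KG := by
    have := knorm g⁻¹ hginva y hyK
    rwa [inv_inv] at this
  have hp2 : orderOf (g⁻¹ * y * g) = 2 := by
    have : SemiconjBy g⁻¹ y (g⁻¹ * y * g) := by
      rw [SemiconjBy]; group
    rw [← this.orderOf_eq]; exact hy
  have hcomm := hzc _ hpK ⟨1, by rw [hp2, pow_one]⟩
  have hxycomm : x * y = y * x := by
    rw [← hg]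
    calc g * z * g⁻¹ * y = g * (z * (g⁻¹ * y * g)) * g⁻¹ := by group
      _ = g * ((g⁻¹ * y * g) * z) * g⁻¹ := by rw [hcomm]
      _ = y * (g * z * g⁻¹) := by group
  have huu : u * u = 1 := by
    rw [← hxy]
    calc x * y * (x * y) = x * (y * x) * y := by group
      _ = x * (x * y) * y := by rw [hxycomm]
      _ = (x * x) * (y * y) := by group
      _ = 1 := by rw [hxx, hyy, one_mul]
  exact orderOf_eq_prime (by rw [pow_two]; exact huu) hu1

end Cfsg.Agent.Lib.helper6.ZassInvolK
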